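import Mathlib
import Cfsg.Agent.Lib.Helper23.HKKDefs
import Cfsg.Agent.Lib.Helper23.HKKExt

/-! # S3779 piece TSP, core (helper2): the eigenspaces of `id ⊗ φ` span `ℤ[ω] ⊗ L`.
TOM (`omega_pow`, `omega_orth`) and TGR (`phiT_tmul`, `phiT_smul`) as hypotheses. -/

set_option autoImplicit false
set_option linter.unusedSectionVars false
set_option linter.unusedVariables false

namespace Cfsg.Agent.Helper23.HKK

open scoped TensorProduct

variable (p : ℕ) {L : Type*} [LieRing L]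

/-- `ρ_k x = Σ_{j<p} ω^(k j) • T^j x` -/
noncomputable def tsp_rho (φ : L →ₗ⁅ℤ⁆ L) (k : ℕ) (x : Lt p L) : Lt p L :=
  ∑ j ∈ Finset.range p, ((ω p) ^ (k * j)) • ((⇑(phiT p φ))^[j] x)

theorem tsp_iter_add (φ : L →ₗ⁅ℤ⁆ L) (j : ℕ) (x y : Lt p L) :
    (⇑(phiT p φ))^[j] (x + y) = (⇑(phiT p φ))^[j] x + (⇑(phiT p φ))^[j] y := by
  induction j with
  | zero => rfl
  | succ j ih => rw [Function.iterate_succ_apply', Function.iterate_succ_apply',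
      Function.iterate_succ_apply', ih, map_add]

theorem tsp_iter_zero (φ : L →ₗ⁅ℤ⁆ L) (j : ℕ) : (⇑(phiT p φ))^[j] (0 : Lt p L) = 0 := by
  induction j with
  | zero => rfl
  | succ j ih => rw [Function.iterate_succ_apply', ih, map_zero]

theorem tsp_iter_tmul (φ : L →ₗ⁅ℤ⁆ L)
    (htmul : ∀ (a : Aω p) (x : L), phiT p φ (a ⊗ₜ[ℤ] x) = a ⊗ₜ[ℤ] φ x) (j : ℕ) (a : Aω p) (x : L) :
    (⇑(phiT p φ))^[j] (a ⊗ₜ[ℤ] x) = a ⊗ₜ[ℤ] ((⇑φ)^[j] x) := by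
  induction j with
  | zero => rfl
  | succ j ih => rw [Function.iterate_succ_apply', ih, htmul, Function.iterate_succ_apply']

theorem tsp_iter_p (φ : L →ₗ⁅ℤ⁆ L)
    (htmul : ∀ (a : Aω p) (x : L), phiT p φ (a ⊗ₜ[ℤ] x) = a ⊗ₜ[ℤ] φ x)
    (hφp : ∀ x, (⇑φ)^[p] x = x) (x : Lt p L) : (⇑(phiT p φ))^[p] x = x := by
  induction x using TensorProduct.induction_on with
  | zero => exact tsp_iter_zero p φ p
  | tmul a x => rw [tsp_iter_tmul p φ htmul, hφp]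
  | add x y hx hy => rw [tsp_iter_add, hx, hy]

theorem tsp_phiT_sum (φ : L →ₗ⁅ℤ⁆ L) (s : Finset ℕ) (f : ℕ → Lt p L) :
    phiT p φ (∑ j ∈ s, f j) = ∑ j ∈ s, phiT p φ (f j) := by
  classical
  induction s using Finset.induction_on with
  | empty => simp
  | insert a s ha ih => rw [Finset.sum_insert ha, Finset.sum_insert ha, map_add, ih]

/-- `T (ρ_k x) = ω^(p-k) • ρ_k x` -/
theorem tsp_rho_eigen (φ : L →ₗ⁅ℤ⁆ L) (hpow : (ω p) ^ p = 1)
    (htmul : ∀ (a : Aω p) (x : L), phiT p φ (a ⊗ₜ[ℤ] x) = a ⊗ₜ[ℤ] φ x)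
    (hsmul : ∀ (a : Aω p) (x : Lt p L), phiT p φ (a • x) = a • phiT p φ x)
    (hφp : ∀ x, (⇑φ)^[p] x = x) (k : ℕ) (hk : k ≤ p) (x : Lt p L) :
    phiT p φ (tsp_rho p φ k x) = ((ω p) ^ (p - k)) • tsp_rho p φ k x := by
  unfold tsp_rho
  rw [tsp_phiT_sum, Finset.smul_sum]
  -- g j := ω^((p-k) + k j) • T^j x
  have hL : ∀ j ∈ Finset.range p, phiT p φ (((ω p) ^ (k * j)) • ((⇑(phiT p φ))^[j] x)) =
      ((ω p) ^ ((p - k) + k * (j + 1))) • ((⇑(phiT p φ))^[j + 1] x) := by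
    intro j _
    rw [hsmul, Function.iterate_succ_apply']
    congr 1
    have : (p - k) + k * (j + 1) = p + k * j := by
      rw [mul_add, mul_one]; omega
    rw [this, pow_add, hpow, one_mul]
  have hR : ∀ j ∈ Finset.range p, ((ω p) ^ (p - k)) • (((ω p) ^ (k * j)) • ((⇑(phiT p φ))^[j] x)) =
      ((ω p) ^ ((p - k) + k * j)) • ((⇑(phiT p φ))^[j] x) := by
    intro j _
    rw [smul_smul, ← pow_add]
  rw [Finset.sum_congr rfl hL, Finset.sum_congr rfl hR]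
  have h1 := Finset.sum_range_succ'
    (fun j => ((ω p) ^ ((p - k) + k * j)) • ((⇑(phiT p φ))^[j] x)) p
  have h2 := Finset.sum_range_succ
    (fun j => ((ω p) ^ ((p - k) + k * j)) • ((⇑(phiT p φ))^[j] x)) p
  have h3 : ((ω p) ^ ((p - k) + k * p)) • ((⇑(phiT p φ))^[p] x) =
      ((ω p) ^ ((p - k) + k * 0)) • ((⇑(phiT p φ))^[0] x) := by
    rw [tsp_iter_p p φ htmul hφp, mul_zero, add_zero, pow_add, mul_comm k p, pow_mul, hpow, one_pow,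
      mul_one]
    rfl
  beta_reduce at h1 h2
  have h4 := h1.symm.trans h2
  rw [h3] at h4
  exact add_right_cancel h4

theorem tsp_rho_mem (hp : p.Prime) (φ : L →ₗ⁅ℤ⁆ L) (hpow : (ω p) ^ p = 1)
    (htmul : ∀ (a : Aω p) (x : L), phiT p φ (a ⊗ₜ[ℤ] x) = a ⊗ₜ[ℤ] φ x)
    (hsmul : ∀ (a : Aω p) (x : Lt p L), phiT p φ (a • x) = a • phiT p φ x)
    (hφp : ∀ x, (⇑φ)^[p] x = x) (k : ℕ) (hk : k ≤ p) (x : Lt p L) :
    tsp_rho p φ k x ∈ grT p φ (((p - k : ℕ) : ZMod p)) := by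
  rw [mem_grT, tsp_rho_eigen p φ hpow htmul hsmul hφp k hk x, ZMod.val_natCast]
  congr 1
  exact pow_eq_pow_mod (p - k) hpow

theorem tsp_rho_sum (hp : p.Prime) (φ : L →ₗ⁅ℤ⁆ L)
    (horth : ∀ k : ℕ, ¬ p ∣ k → ∑ j ∈ Finset.range p, (ω p) ^ (k * j) = 0) (x : Lt p L) :
    ∑ k ∈ Finset.range p, tsp_rho p φ k x = p • x := by
  unfold tsp_rho
  rw [Finset.sum_comm]
  have h : ∀ j ∈ Finset.range p,
      ∑ k ∈ Finset.range p, ((ω p) ^ (k * j)) • ((⇑(phiT p φ))^[j] x) =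
      (∑ k ∈ Finset.range p, (ω p) ^ (j * k)) • ((⇑(phiT p φ))^[j] x) := by
    intro j _
    rw [Finset.sum_smul]
    apply Finset.sum_congr rfl
    intro k _
    rw [mul_comm]
  rw [Finset.sum_congr rfl h]
  rw [Finset.sum_eq_single 0]
  · simp only [zero_mul, pow_zero, Finset.sum_const, Finset.card_range, Function.iterate_zero, id_eq]
    rw [nsmul_eq_mul, mul_one, Nat.cast_smul_eq_nsmul]
  · intro j hj hj0
    rw [horth j, zero_smul]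
    apply Nat.not_dvd_of_pos_of_lt (Nat.pos_of_ne_zero hj0) (Finset.mem_range.mp hj)
  · intro h0
    exact absurd (Finset.mem_range.mpr hp.pos) h0

theorem tsp_div (hdiv : ∀ x : L, ∃ y : L, p • y = x) (x : Lt p L) : ∃ y : Lt p L, p • y = x := by
  induction x using TensorProduct.induction_on with
  | zero => exact ⟨0, smul_zero _⟩
  | tmul a x =>
    obtain ⟨y, rfl⟩ := hdiv x
    exact ⟨a ⊗ₜ[ℤ] y, (TensorProduct.tmul_smul p a y).symm⟩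
  | add x y hx hy =>
    obtain ⟨x', rfl⟩ := hx
    obtain ⟨y', rfl⟩ := hy
    exact ⟨x' + y', smul_add _ _ _⟩

theorem grT_span_core (hp : p.Prime) (φ : L →ₗ⁅ℤ⁆ L) (hpow : (ω p) ^ p = 1)
    (horth : ∀ k : ℕ, ¬ p ∣ k → ∑ j ∈ Finset.range p, (ω p) ^ (k * j) = 0)
    (htmul : ∀ (a : Aω p) (x : L), phiT p φ (a ⊗ₜ[ℤ] x) = a ⊗ₜ[ℤ] φ x)
    (hsmul : ∀ (a : Aω p) (x : Lt p L), phiT p φ (a • x) = a • phiT p φ x)
    (hφp : ∀ x, (⇑φ)^[p] x = x)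
    (hdiv : ∀ x : L, ∃ y : L, p • y = x) : ⨆ i, grT p φ i = ⊤ := by
  rw [eq_top_iff]
  intro x _
  obtain ⟨y, rfl⟩ := tsp_div p hdiv x
  rw [← tsp_rho_sum p hp φ horth y]
  apply AddSubgroup.sum_mem
  intro k hk
  have hk' : k ≤ p := le_of_lt (Finset.mem_range.mp hk)
  exact AddSubgroup.mem_iSup_of_mem _ (tsp_rho_mem p hp φ hpow htmul hsmul hφp k hk' y)

end Cfsg.Agent.Helper23.HKK
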