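import Mathlib
import Cfsg.Agent.Lib.Helper23.HKKDefs
import Cfsg.Agent.Lib.Helper23.HKKExt
import Cfsg.Agent.Lib.Helper6.HKKTOM
import Cfsg.Agent.Lib.Helper6.HKKTGR
import Cfsg.Agent.Lib.Helper2.HKKTSPCore

/-! # S3779 piece TSP (helper2): the eigenspaces of `id ⊗ φ` span `ℤ[ω] ⊗ L`. -/

set_option autoImplicit false
set_option linter.unusedSectionVars false
set_option linter.unusedVariables false

namespace Cfsg.Agent.Helper23.HKK

open scoped TensorProduct

variable (p : ℕ) {L : Type*} [LieRing L]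

theorem grT_span (hp : p.Prime) (φ : L →ₗ⁅ℤ⁆ L) (hφp : ∀ x, (⇑φ)^[p] x = x)
    (hdiv : ∀ x : L, ∃ y : L, p • y = x) : ⨆ i, grT p φ i = ⊤ :=
  grT_span_core p hp φ (omega_pow p hp.pos) (omega_orth p hp) (phiT_tmul p φ) (phiT_smul p φ) hφp hdiv

end Cfsg.Agent.Helper23.HKK
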