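import Mathlib
import Cfsg.Agent.Lib.Helper23.HKKDefs
import Cfsg.Agent.Lib.Helper23.HKKExt

/-! # S3779 piece TPB, core (helper2): pulling back along `x ↦ 1 ⊗ x`; `Lt_indep` (TBA) as a hypothesis. -/

set_option autoImplicit false
set_option linter.unusedSectionVars false
set_option linter.unusedVariables false

namespace Cfsg.Agent.Helper23.HKK

open scoped TensorProduct

variable (p : ℕ) {L : Type*} [LieRing L]

theorem tpb_incT_apply (x : L) : incT p x = (1 : Aω p) ⊗ₜ[ℤ] x := rfl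

theorem incT_inj_core (hp : 2 ≤ p)
    (hindep : ∀ f : Fin (p - 1) → L,
      ∑ i : Fin (p - 1), ((ω p) ^ (i : ℕ)) ⊗ₜ[ℤ] f i = (0 : Lt p L) → ∀ i, f i = 0) :
    Function.Injective (incT p (L := L)) := by
  rw [injective_iff_map_eq_zero]
  intro x hx
  have hpos : 0 < p - 1 := by omega
  let i0 : Fin (p - 1) := ⟨0, hpos⟩
  let f : Fin (p - 1) → L := fun i => if i = i0 then x else 0
  have hsum : ∑ i : Fin (p - 1), ((ω p) ^ (i : ℕ)) ⊗ₜ[ℤ] f i = (0 : Lt p L) := by
    rw [Finset.sum_eq_single i0]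
    · have : f i0 = x := by simp [f]
      rw [this]
      have : ((i0 : Fin (p - 1)) : ℕ) = 0 := rfl
      rw [this, pow_zero]
      exact hx
    · intro b _ hb
      have : f b = 0 := by simp [f, hb]
      rw [this, TensorProduct.tmul_zero]
    · intro h; exact absurd (Finset.mem_univ i0) h
  have := hindep f hsum i0
  simpa [f] using this

theorem incT_lie (x y : L) : incT p ⁅x, y⁆ = ⁅incT p x, incT p y⁆ := by
  rw [tpb_incT_apply, tpb_incT_apply, tpb_incT_apply, LieAlgebra.ExtendScalars.bracket_tmul, mul_one]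

theorem tpb_incT_mem (k : ℕ) : ∀ x : L, x ∈ lcsIn (⊤ : AddSubgroup L) k →
    incT p x ∈ lcsIn (⊤ : AddSubgroup (Lt p L)) k := by
  induction k with
  | zero => intro x _; exact AddSubgroup.mem_top _
  | succ k ih =>
    intro x hx
    change x ∈ AddSubgroup.closure {z | ∃ a ∈ lcsIn (⊤ : AddSubgroup L) k, ∃ b ∈ (⊤ : AddSubgroup L), z = ⁅a, b⁆} at hx
    change incT p x ∈ AddSubgroup.closure
      {z | ∃ a ∈ lcsIn (⊤ : AddSubgroup (Lt p L)) k, ∃ b ∈ (⊤ : AddSubgroup (Lt p L)), z = ⁅a, b⁆}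
    induction hx using AddSubgroup.closure_induction with
    | mem z hz =>
      obtain ⟨a, ha, b, _, rfl⟩ := hz
      apply AddSubgroup.subset_closure
      exact ⟨incT p a, ih a ha, incT p b, AddSubgroup.mem_top _, incT_lie p a b⟩
    | zero => rw [map_zero]; exact AddSubgroup.zero_mem _
    | add a b _ _ ha hb => rw [map_add]; exact AddSubgroup.add_mem _ ha hb
    | neg a _ ha => rw [map_neg]; exact AddSubgroup.neg_mem _ ha

theorem lcs_pullback_core (hinj : Function.Injective (incT p (L := L))) (h : ℕ)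
    (hL : lcsIn (⊤ : AddSubgroup (Lt p L)) h = ⊥) :
    lcsIn (⊤ : AddSubgroup L) h = ⊥ := by
  rw [eq_bot_iff]
  intro x hx
  have h1 := tpb_incT_mem p h x hx
  rw [hL, AddSubgroup.mem_bot] at h1
  rw [AddSubgroup.mem_bot]
  apply hinj
  rw [h1, map_zero]

end Cfsg.Agent.Helper23.HKK
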