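import Mathlib
import Cfsg.Agent.Lib.Helper23.HKKDefs
import Cfsg.Agent.Lib.Helper23.HKKExt
import Cfsg.Agent.Lib.Helper6.HKKTBA
import Cfsg.Agent.Lib.Helper2.HKKTPBCore

/-! # S3779 piece TPB (helper2): pulling back along `x ↦ 1 ⊗ x` (`incT_lie` is in HKKTPBCore). -/

set_option autoImplicit false
set_option linter.unusedSectionVars false
set_option linter.unusedVariables false

namespace Cfsg.Agent.Helper23.HKK

open scoped TensorProduct

variable (p : ℕ) {L : Type*} [LieRing L]

theorem incT_inj (hp : 2 ≤ p) : Function.Injective (incT p (L := L)) :=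
  incT_inj_core p hp (Lt_indep p hp)

theorem lcs_pullback (hp : 2 ≤ p) (h : ℕ) (hL : lcsIn (⊤ : AddSubgroup (Lt p L)) h = ⊥) :
    lcsIn (⊤ : AddSubgroup L) h = ⊥ :=
  lcs_pullback_core p (incT_inj p hp) h hL

end Cfsg.Agent.Helper23.HKK
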