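import Mathlib

set_option autoImplicit false

/-!
Word length in a group with respect to a family of generating involutions.
-/

namespace Cfsg.Agent.Helper2.WordLen

variable {W : Type*} [Group W] {I : Type*} (σ : I → W)

/-- product of a word -/
def wp (l : List I) : W := (l.map σ).prod

@[simp] theorem wp_nil : wp σ [] = 1 := by simp [wp]

@[simp] theorem wp_cons (i : I) (l : List I) : wp σ (i :: l) = σ i * wp σ l := by simp [wp]

@[simp] theorem wp_append (l l' : List I) : wp σ (l ++ l') = wp σ l * wp σ l' := by simp [wp]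

theorem wp_singleton (i : I) : wp σ [i] = σ i := by simp

theorem inv_gen (hσ : ∀ i, σ i * σ i = 1) (i : I) : (σ i)⁻¹ = σ i :=
  inv_eq_of_mul_eq_one_left (hσ i)

theorem wp_reverse (hσ : ∀ i, σ i * σ i = 1) (l : List I) :
    wp σ l.reverse = (wp σ l)⁻¹ := by
  induction l with
  | nil => simp
  | cons i l ih => simp [ih, inv_gen σ hσ]

/-- word length -/
noncomputable def len (w : W) : ℕ := sInf {k | ∃ l : List I, wp σ l = w ∧ l.length = k}

theorem len_le (l : List I) : len σ (wp σ l) ≤ l.length :=
  Nat.sInf_le ⟨l, rfl, rfl⟩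

theorem len_le_of_eq {w : W} (l : List I) (h : wp σ l = w) : len σ w ≤ l.length := by
  rw [← h]; exact len_le σ l

variable (hsurj : ∀ w : W, ∃ l : List I, wp σ l = w)
include hsurj

theorem exists_reduced (w : W) : ∃ l : List I, wp σ l = w ∧ l.length = len σ w := by
  have hne : {k | ∃ l : List I, wp σ l = w ∧ l.length = k}.Nonempty := by
    obtain ⟨l, hl⟩ := hsurj w
    exact ⟨l.length, l, hl, rfl⟩
  exact Nat.sInf_mem hne

omit hsurj in
theorem len_one : len σ (1 : W) = 0 := by
  have := len_le σ ([] : List I)
  simpa using this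

theorem len_eq_zero_iff (w : W) : len σ w = 0 ↔ w = 1 := by
  constructor
  · intro h
    obtain ⟨l, hl, hlen⟩ := exists_reduced σ hsurj w
    rw [h, List.length_eq_zero_iff] at hlen
    rw [← hl, hlen]; simp
  · rintro rfl; exact len_one σ

theorem len_mul_le (w w' : W) : len σ (w * w') ≤ len σ w + len σ w' := by
  obtain ⟨l, hl, hlen⟩ := exists_reduced σ hsurj w
  obtain ⟨l', hl', hlen'⟩ := exists_reduced σ hsurj w'
  have := len_le σ (l ++ l')
  rw [wp_append, hl, hl', List.length_append, hlen, hlen'] at this
  exact this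

omit hsurj in
theorem len_gen_le (i : I) : len σ (σ i) ≤ 1 := by
  have := len_le σ [i]
  simpa using this

theorem len_gen_mul_le (i : I) (w : W) : len σ (σ i * w) ≤ len σ w + 1 := by
  have := len_mul_le σ hsurj (σ i) w
  have h1 := len_gen_le σ i
  omega

theorem len_mul_gen_le (i : I) (w : W) : len σ (w * σ i) ≤ len σ w + 1 := by
  have := len_mul_le σ hsurj w (σ i)
  have h1 := len_gen_le σ i
  omega

theorem len_le_gen_mul (hσ : ∀ i, σ i * σ i = 1) (i : I) (w : W) :
    len σ w ≤ len σ (σ i * w) + 1 := by
  have := len_gen_mul_le σ hsurj i (σ i * w)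
  rwa [← mul_assoc, hσ, one_mul] at this

theorem len_le_mul_gen (hσ : ∀ i, σ i * σ i = 1) (i : I) (w : W) :
    len σ w ≤ len σ (w * σ i) + 1 := by
  have := len_mul_gen_le σ hsurj i (w * σ i)
  rwa [mul_assoc, hσ, mul_one] at this

theorem len_inv (hσ : ∀ i, σ i * σ i = 1) (w : W) : len σ w⁻¹ = len σ w := by
  have key : ∀ w : W, len σ w⁻¹ ≤ len σ w := by
    intro w
    obtain ⟨l, hl, hlen⟩ := exists_reduced σ hsurj w
    have := len_le σ l.reverse
    rwa [wp_reverse σ hσ, hl, List.length_reverse, hlen] at this
  apply le_antisymm (key w)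
  have := key w⁻¹
  rwa [inv_inv] at this

theorem len_succ_left {w : W} {q : ℕ} (h : len σ w = q + 1) :
    ∃ (i : I) (w' : W), w = σ i * w' ∧ len σ w' = q := by
  obtain ⟨l, hl, hlen⟩ := exists_reduced σ hsurj w
  rw [h] at hlen
  match l, hl, hlen with
  | i :: l', hl, hlen =>
    refine ⟨i, wp σ l', by rw [← hl, wp_cons], ?_⟩
    have h1 : len σ (wp σ l') ≤ q := by
      have := len_le σ l'
      simp only [List.length_cons] at hlen
      omega
    have h2 := len_gen_mul_le σ hsurj i (wp σ l')
    rw [← wp_cons, hl, h] at h2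
    omega

theorem len_succ_right {w : W} {q : ℕ} (h : len σ w = q + 1) :
    ∃ (i : I) (w' : W), w = w' * σ i ∧ len σ w' = q := by
  obtain ⟨l, hl, hlen⟩ := exists_reduced σ hsurj w
  rw [h] at hlen
  rcases List.eq_nil_or_concat l with hnil | ⟨l', i, rfl⟩
  · subst hnil; simp at hlen
  · rw [List.concat_eq_append] at hl hlen
    refine ⟨i, wp σ l', by rw [← hl, wp_append, wp_singleton], ?_⟩
    have h1 : len σ (wp σ l') ≤ q := by
      have := len_le σ l'
      simp only [List.length_append, List.length_singleton] at hlen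
      omega
    have h2 := len_mul_gen_le σ hsurj i (wp σ l')
    rw [← wp_singleton σ i, ← wp_append, hl, h] at h2
    omega

omit hsurj in
/-- a word is reduced when its length is the length of its product -/
def IsReduced (l : List I) : Prop := len σ (wp σ l) = l.length

theorem IsReduced.append_left {l l' : List I} (h : IsReduced σ (l ++ l')) : IsReduced σ l := by
  unfold IsReduced at *
  have h1 := len_mul_le σ hsurj (wp σ l) (wp σ l')
  rw [← wp_append, h, List.length_append] at h1
  have h2 := len_le σ l
  have h3 := len_le σ l'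
  omega

theorem IsReduced.append_right {l l' : List I} (h : IsReduced σ (l ++ l')) : IsReduced σ l' := by
  unfold IsReduced at *
  have h1 := len_mul_le σ hsurj (wp σ l) (wp σ l')
  rw [← wp_append, h, List.length_append] at h1
  have h2 := len_le σ l
  have h3 := len_le σ l'
  omega

theorem IsReduced.tail {i : I} {l : List I} (h : IsReduced σ (i :: l)) : IsReduced σ l :=
  IsReduced.append_right σ hsurj (l := [i]) (by simpa using h)

theorem exists_reduced' (w : W) : ∃ l : List I, wp σ l = w ∧ IsReduced σ l := by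
  obtain ⟨l, hl, hlen⟩ := exists_reduced σ hsurj w
  exact ⟨l, hl, by unfold IsReduced; rw [hl, hlen]⟩

end Cfsg.Agent.Helper2.WordLen
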