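import Mathlib
import Cfsg.Prelude.Def_LieExceptional
import Cfsg.Agent.Lib.Helper2.WordLen
import Cfsg.Agent.S0308

set_option autoImplicit false

namespace Cfsg.Agent.Helper2.BN

open Cfsg Cfsg.Agent.Helper2.WordLen

variable {G : Type*} [Group G] (P : Cfsg.BNPair G)

/-- `T = B ∩ N` as a subgroup of `N` -/
def T : Subgroup P.N := (P.B ⊓ P.N).subgroupOf P.N

theorem mem_T (x : P.N) : x ∈ T P ↔ (x : G) ∈ P.B := by
  simp [T, Subgroup.mem_subgroupOf]

instance T_normal : (T P).Normal := ⟨fun t ht n => by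
  rw [mem_T] at ht ⊢
  exact P.conj_mem n n.2 t ⟨ht, t.2⟩⟩

/-- the Weyl group -/
abbrev W := P.N ⧸ T P

/-- the projection onto the Weyl group -/
def π : P.N →* W P := QuotientGroup.mk' (T P)

theorem π_surj : Function.Surjective (π P) := QuotientGroup.mk'_surjective _

theorem π_eq_iff (x y : P.N) : π P x = π P y ↔ (x : G)⁻¹ * y ∈ P.B := by
  rw [π, QuotientGroup.mk'_apply, QuotientGroup.mk'_apply, QuotientGroup.eq, mem_T]
  simp

theorem π_eq_one_iff (x : P.N) : π P x = 1 ↔ (x : G) ∈ P.B := by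
  rw [π, QuotientGroup.mk'_apply, QuotientGroup.eq_one_iff, mem_T]

/-- the distinguished generators of the Weyl group -/
def σ (s : P.S) : W P := π P ⟨s, P.subset s.2⟩

theorem σ_mul_self (s : P.S) : σ P s * σ P s = 1 := by
  rw [σ, ← map_mul, π_eq_one_iff]
  exact P.sq_mem s s.2

theorem σ_inv (s : P.S) : (σ P s)⁻¹ = σ P s := inv_gen (σ P) (σ_mul_self P) s

theorem σ_injective : Function.Injective (σ P) := by
  intro s s' h
  rw [σ, σ, π_eq_iff] at h
  exact Subtype.ext (P.inj s s.2 s' s'.2 h)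

/-- product in `G` of a word -/
def gp (l : List P.S) : G := (l.map Subtype.val).prod

@[simp] theorem gp_nil : gp P [] = 1 := by simp [gp]

@[simp] theorem gp_cons (s : P.S) (l : List P.S) : gp P (s :: l) = s * gp P l := by simp [gp]

theorem gp_mem (l : List P.S) : gp P l ∈ P.N := by
  induction l with
  | nil => simp
  | cons s l ih => rw [gp_cons]; exact P.N.mul_mem (P.subset s.2) ih

theorem π_gp (l : List P.S) : π P ⟨gp P l, gp_mem P l⟩ = wp (σ P) l := by
  induction l with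
  | nil => simp only [gp_nil, wp_nil]; exact map_one _
  | cons s l ih =>
    rw [wp_cons, ← ih, σ, ← map_mul]
    congr 1

theorem gp_mem_closure {J : Set G} (l : List P.S) (h : ∀ x ∈ l, (x : G) ∈ J) :
    gp P l ∈ Subgroup.closure J := by
  induction l with
  | nil => simp
  | cons s l ih =>
    rw [gp_cons]
    exact Subgroup.mul_mem _ (Subgroup.subset_closure (h s (by simp)))
      (ih (fun x hx => h x (by simp [hx])))

/-- the subgroup of the Weyl group of elements represented by words -/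
def wordSub : Subgroup (W P) where
  carrier := {w | ∃ l : List P.S, wp (σ P) l = w}
  one_mem' := ⟨[], by simp⟩
  mul_mem' := by
    rintro _ _ ⟨l, rfl⟩ ⟨l', rfl⟩
    exact ⟨l ++ l', by simp⟩
  inv_mem' := by
    rintro _ ⟨l, rfl⟩
    exact ⟨l.reverse, wp_reverse (σ P) (σ_mul_self P) l⟩

theorem wp_surj (w : W P) : ∃ l : List P.S, wp (σ P) l = w := by
  obtain ⟨n, rfl⟩ := π_surj P w
  have hK : P.N ≤ Subgroup.map P.N.subtype (Subgroup.comap (π P) (wordSub P)) := by
    conv_lhs => rw [← P.closure_sup]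
    apply sup_le
    · rw [Subgroup.closure_le]
      intro s hs
      refine ⟨⟨s, P.subset hs⟩, ?_, rfl⟩
      exact ⟨[⟨s, hs⟩], by simp [σ]⟩
    · intro t ht
      refine ⟨⟨t, ht.2⟩, ?_, rfl⟩
      refine ⟨[], ?_⟩
      rw [wp_nil, eq_comm, π_eq_one_iff]
      exact ht.1
  obtain ⟨x, hx, hxn⟩ := hK n.2
  have : x = n := Subtype.ext hxn
  rw [this] at hx
  exact hx


/-- the length function on the Weyl group -/
noncomputable abbrev ℓ (w : W P) : ℕ := len (σ P) w

/-- the double coset `B w B` -/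
def C (w : W P) : Set G :=
  {g | ∃ n : P.N, π P n = w ∧ g ∈ DoubleCoset.doubleCoset (n : G) (P.B : Set G) P.B}

theorem mem_C_iff (n : P.N) (g : G) :
    g ∈ C P (π P n) ↔ ∃ b ∈ P.B, ∃ b' ∈ P.B, g = b * n * b' := by
  constructor
  · rintro ⟨n', hn', hg⟩
    rw [DoubleCoset.mem_doubleCoset] at hg
    obtain ⟨x, hx, y, hy, rfl⟩ := hg
    rw [eq_comm, π_eq_iff] at hn'
    refine ⟨x, hx, (n : G)⁻¹ * n' * y, P.B.mul_mem hn' hy, by group⟩
  · rintro ⟨b, hb, b', hb', rfl⟩
    refine ⟨n, rfl, ?_⟩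
    rw [DoubleCoset.mem_doubleCoset]
    exact ⟨b, hb, b', hb', rfl⟩

theorem mem_C_iff_doubleCoset (n : P.N) (g : G) :
    g ∈ C P (π P n) ↔ g ∈ DoubleCoset.doubleCoset (n : G) (P.B : Set G) P.B := by
  rw [mem_C_iff, DoubleCoset.mem_doubleCoset]
  rfl

theorem mem_C_self (n : P.N) : (n : G) ∈ C P (π P n) := by
  rw [mem_C_iff]
  exact ⟨1, P.B.one_mem, 1, P.B.one_mem, by group⟩

theorem C_one (g : G) : g ∈ C P 1 ↔ g ∈ P.B := by
  rw [← map_one (π P), mem_C_iff]
  constructor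
  · rintro ⟨b, hb, b', hb', rfl⟩
    simpa using P.B.mul_mem hb hb'
  · intro hg
    exact ⟨g, hg, 1, P.B.one_mem, by simp⟩

theorem B_mul_C {w : W P} {g b : G} (hb : b ∈ P.B) (hg : g ∈ C P w) : b * g ∈ C P w := by
  obtain ⟨n, rfl⟩ := π_surj P w
  rw [mem_C_iff] at hg ⊢
  obtain ⟨x, hx, y, hy, rfl⟩ := hg
  exact ⟨b * x, P.B.mul_mem hb hx, y, hy, by group⟩

theorem C_mul_B {w : W P} {g b : G} (hg : g ∈ C P w) (hb : b ∈ P.B) : g * b ∈ C P w := by
  obtain ⟨n, rfl⟩ := π_surj P w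
  rw [mem_C_iff] at hg ⊢
  obtain ⟨x, hx, y, hy, rfl⟩ := hg
  exact ⟨x, hx, y * b, P.B.mul_mem hy hb, by group⟩

theorem C_inv {w : W P} {g : G} (hg : g ∈ C P w) : g⁻¹ ∈ C P w⁻¹ := by
  obtain ⟨n, rfl⟩ := π_surj P w
  rw [← map_inv, mem_C_iff]
  rw [mem_C_iff] at hg
  obtain ⟨x, hx, y, hy, rfl⟩ := hg
  exact ⟨y⁻¹, P.B.inv_mem hy, x⁻¹, P.B.inv_mem hx, by simp [mul_assoc]⟩

theorem exists_C (g : G) : ∃ w : W P, g ∈ C P w := by
  obtain ⟨n, hn, hg⟩ := Cfsg.Agent.S0308.all_mem P g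
  exact ⟨π P ⟨n, hn⟩, ⟨n, hn⟩, rfl, hg⟩

/-- the axiom (T3), in terms of the Weyl group -/
theorem L1 (s : P.S) {w : W P} {g : G} (hg : g ∈ C P w) :
    (s : G) * g ∈ C P (σ P s * w) ∨ (s : G) * g ∈ C P w := by
  obtain ⟨n, rfl⟩ := π_surj P w
  rw [mem_C_iff] at hg
  obtain ⟨b, hb, b', hb', rfl⟩ := hg
  rcases P.mul_mem_union s s.2 n n.2 b hb with h | h
  · left
    rw [DoubleCoset.mem_doubleCoset] at h
    obtain ⟨x, hx, y, hy, h⟩ := h
    rw [σ, ← map_mul, mem_C_iff]
    refine ⟨x, hx, y * b', P.B.mul_mem hy hb', ?_⟩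
    calc (s : G) * (b * n * b') = (s * b * n) * b' := by group
      _ = x * (s * n) * y * b' := by rw [h]
      _ = _ := by simp [mul_assoc]
  · right
    rw [DoubleCoset.mem_doubleCoset] at h
    obtain ⟨x, hx, y, hy, h⟩ := h
    rw [mem_C_iff]
    refine ⟨x, hx, y * b', P.B.mul_mem hy hb', ?_⟩
    calc (s : G) * (b * n * b') = (s * b * n) * b' := by group
      _ = x * n * y * b' := by rw [h]
      _ = _ := by simp [mul_assoc]

theorem L1_inv (s : P.S) {w : W P} {g : G} (hg : g ∈ C P w) :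
    (s : G)⁻¹ * g ∈ C P (σ P s * w) ∨ (s : G)⁻¹ * g ∈ C P w := by
  have h1 : ((s : G) * s)⁻¹ * g ∈ C P w := B_mul_C P (P.B.inv_mem (P.sq_mem s s.2)) hg
  have h2 := L1 P s h1
  have : (s : G) * (((s : G) * s)⁻¹ * g) = (s : G)⁻¹ * g := by group
  rwa [this] at h2

theorem L1r (s : P.S) {w : W P} {g : G} (hg : g ∈ C P w) :
    g * (s : G) ∈ C P (w * σ P s) ∨ g * (s : G) ∈ C P w := by
  have h1 := L1_inv P s (C_inv P hg)
  rcases h1 with h | h
  · left
    have := C_inv P h
    simpa [σ_inv] using this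
  · right
    have := C_inv P h
    simpa using this

theorem L1r_inv (s : P.S) {w : W P} {g : G} (hg : g ∈ C P w) :
    g * (s : G)⁻¹ ∈ C P (w * σ P s) ∨ g * (s : G)⁻¹ ∈ C P w := by
  have h1 := L1 P s (C_inv P hg)
  rcases h1 with h | h
  · left
    have := C_inv P h
    simpa [σ_inv] using this
  · right
    have := C_inv P h
    simpa using this

theorem exists_not_mem (s : P.S) : ∃ b ∈ P.B, (s : G) * b * s ∉ P.B := by
  by_contra hcon
  push Not at hcon
  apply P.conj_ne s s.2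
  apply Set.Subset.antisymm
  · rintro _ ⟨b, hb, rfl⟩
    exact hcon b hb
  · intro b0 hb0
    have hsq : ((s : G) * s)⁻¹ ∈ P.B := P.B.inv_mem (P.sq_mem s s.2)
    refine ⟨((s : G) * s)⁻¹ * (s * b0 * s) * ((s : G) * s)⁻¹,
      P.B.mul_mem (P.B.mul_mem hsq (hcon b0 hb0)) hsq, ?_⟩
    simp only []
    group

theorem σ_ne_one (s : P.S) : σ P s ≠ 1 := by
  intro h
  rw [σ, π_eq_one_iff] at h
  obtain ⟨b, hb, hnot⟩ := exists_not_mem P s
  exact hnot (P.B.mul_mem (P.B.mul_mem h hb) h)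

theorem gen_mem_C (s : P.S) : (s : G) ∈ C P (σ P s) := mem_C_self P ⟨s, P.subset s.2⟩

/-- `s B s` meets `B s B` -/
theorem exists_sbs (s : P.S) : ∃ b ∈ P.B, (s : G) * b * s ∈ C P (σ P s) := by
  obtain ⟨b, hb, hnot⟩ := exists_not_mem P s
  refine ⟨b, hb, ?_⟩
  have h1 : b * (s : G) ∈ C P (σ P s) := B_mul_C P hb (gen_mem_C P s)
  rcases L1 P s h1 with h | h
  · rw [σ_mul_self, C_one] at h
    exact absurd (by simpa [mul_assoc] using h) hnot
  · simpa [mul_assoc] using h


theorem ℓ_gen_mul_le (s : P.S) (w : W P) : ℓ P (σ P s * w) ≤ ℓ P w + 1 :=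
  len_gen_mul_le (σ P) (wp_surj P) s w

theorem ℓ_le_gen_mul (s : P.S) (w : W P) : ℓ P w ≤ ℓ P (σ P s * w) + 1 :=
  len_le_gen_mul (σ P) (wp_surj P) (σ_mul_self P) s w

theorem ℓ_mul_gen_le (s : P.S) (w : W P) : ℓ P (w * σ P s) ≤ ℓ P w + 1 :=
  len_mul_gen_le (σ P) (wp_surj P) s w

theorem ℓ_le_mul_gen (s : P.S) (w : W P) : ℓ P w ≤ ℓ P (w * σ P s) + 1 :=
  len_le_mul_gen (σ P) (wp_surj P) (σ_mul_self P) s w

theorem σ_mul_cancel (s : P.S) (w : W P) : σ P s * (σ P s * w) = w := by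
  rw [← mul_assoc, σ_mul_self, one_mul]

theorem mul_σ_cancel (s : P.S) (w : W P) : w * σ P s * σ P s = w := by
  rw [mul_assoc, σ_mul_self, mul_one]

theorem C_inj_aux : ∀ (q : ℕ) (w w' : W P), ℓ P w = q → ℓ P w ≤ ℓ P w' →
    ∀ g : G, g ∈ C P w → g ∈ C P w' → w = w' := by
  intro q
  induction q with
  | zero =>
    intro w w' hq _ g hg hg'
    rw [len_eq_zero_iff (σ P) (wp_surj P)] at hq
    subst hq
    rw [C_one] at hg
    obtain ⟨n', rfl⟩ := π_surj P w'
    rw [mem_C_iff] at hg'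
    obtain ⟨b, hb, b', hb', rfl⟩ := hg'
    rw [eq_comm, π_eq_one_iff]
    have : (n' : G) = b⁻¹ * (b * n' * b') * b'⁻¹ := by group
    rw [this]
    exact P.B.mul_mem (P.B.mul_mem (P.B.inv_mem hb) hg) (P.B.inv_mem hb')
  | succ q ih =>
    intro w w' hq hle g hg hg'
    obtain ⟨s, w1, rfl, hw1⟩ := len_succ_left (σ P) (wp_surj P) hq
    replace hw1 : ℓ P w1 = q := hw1
    obtain ⟨n1, rfl⟩ := π_surj P w1
    rw [σ, ← map_mul, mem_C_iff] at hg
    obtain ⟨b, hb, b', hb', rfl⟩ := hg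
    -- h := b⁻¹ g b'⁻¹ = s n1 ∈ C w'
    have hh : (s : G) * n1 ∈ C P w' := by
      have := C_mul_B P (B_mul_C P (P.B.inv_mem hb) hg') (P.B.inv_mem hb')
      simpa [mul_assoc] using this
    have hn1 : (n1 : G) ∈ C P (π P n1) := mem_C_self P n1
    rcases L1_inv P s hh with h | h
    · rw [inv_mul_cancel_left] at h
      have hlen : ℓ P (π P n1) ≤ ℓ P (σ P s * w') := by
        have := ℓ_le_gen_mul P s w'
        rw [hq] at hle
        omega
      have := ih (π P n1) (σ P s * w') hw1 hlen n1 hn1 h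
      rw [this, σ_mul_cancel]
    · rw [inv_mul_cancel_left] at h
      have hlen : ℓ P (π P n1) ≤ ℓ P w' := by
        rw [hq] at hle
        omega
      have := ih (π P n1) w' hw1 hlen n1 hn1 h
      rw [← this, hw1] at hle
      rw [hq] at hle
      omega

/-- Bruhat decomposition, uniqueness -/
theorem C_inj {w w' : W P} {g : G} (hg : g ∈ C P w) (hg' : g ∈ C P w') : w = w' := by
  rcases le_total (ℓ P w) (ℓ P w') with h | h
  · exact C_inj_aux P _ w w' rfl h g hg hg'
  · exact (C_inj_aux P _ w' w rfl h g hg' hg).symm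


/-- `C(s) C(w) = C(s w)` -/
def Up (s : P.S) (w : W P) : Prop := ∀ g ∈ C P w, (s : G) * g ∈ C P (σ P s * w)

theorem exists_of_not_Up {s : P.S} {w : W P} (h : ¬ Up P s w) :
    ∃ g ∈ C P w, (s : G) * g ∈ C P w := by
  unfold Up at h
  push Not at h
  obtain ⟨g, hg, hsg⟩ := h
  refine ⟨g, hg, ?_⟩
  rcases L1 P s hg with h1 | h1
  · exact absurd h1 hsg
  · exact h1

theorem not_Up_of_exists {s : P.S} {w : W P} (h : ∃ g ∈ C P w, (s : G) * g ∈ C P w) :
    ¬ Up P s w := by
  obtain ⟨g, hg, hsg⟩ := h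
  intro hup
  have := C_inj P (hup g hg) hsg
  exact σ_ne_one P s (by simpa using this)

theorem Up_one (s : P.S) : Up P s 1 := by
  intro g hg
  rw [C_one] at hg
  rw [mul_one]
  exact C_mul_B P (gen_mem_C P s) hg

/-- (U1) -/
theorem not_Up_mul {s : P.S} {w : W P} (h : Up P s w) : ¬ Up P s (σ P s * w) := by
  intro h2
  obtain ⟨n, rfl⟩ := π_surj P w
  obtain ⟨b, hb, hsbs⟩ := exists_sbs P s
  rw [σ, mem_C_iff] at hsbs
  obtain ⟨x, hx, y, hy, hxy⟩ := hsbs
  have hn : (n : G) ∈ C P (π P n) := mem_C_self P n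
  -- s b s n ∈ C w
  have h3 : (s : G) * (b * (s * n)) ∈ C P (π P n) := by
    have := h2 _ (B_mul_C P hb (h n hn))
    rwa [σ_mul_cancel] at this
  -- s b s n = x s y n ∈ C (s w)
  have h4 : (s : G) * (b * (s * n)) ∈ C P (σ P s * π P n) := by
    have h5 : (s : G) * (b * (s * n)) = x * (s * (y * n)) := by
      calc (s : G) * (b * (s * n)) = (s * b * s) * n := by group
        _ = (x * s * y) * n := by rw [hxy]
        _ = _ := by group
    rw [h5]
    exact B_mul_C P hx (h _ (B_mul_C P hy hn))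
  have := C_inj P h3 h4
  exact σ_ne_one P s (by simpa using this.symm)

/-- (U2) -/
theorem Up_of_le_aux : ∀ (q : ℕ) (w : W P), ℓ P w = q → ∀ s : P.S,
    ℓ P w ≤ ℓ P (σ P s * w) → Up P s w := by
  intro q
  induction q with
  | zero =>
    intro w hq s _
    rw [len_eq_zero_iff (σ P) (wp_surj P)] at hq
    subst hq
    exact Up_one P s
  | succ q ih =>
    intro w hq s hle
    obtain ⟨t, w1, rfl, hw1⟩ := len_succ_right (σ P) (wp_surj P) hq
    replace hw1 : ℓ P w1 = q := hw1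
    have hup1 : Up P s w1 := by
      apply ih w1 hw1 s
      have := ℓ_mul_gen_le P t (σ P s * w1)
      rw [mul_assoc] at this
      omega
    by_contra hnot
    obtain ⟨g, hg, hsg⟩ := exists_of_not_Up P hnot
    obtain ⟨n1, rfl⟩ := π_surj P w1
    rw [σ, ← map_mul, mem_C_iff] at hg
    obtain ⟨b, hb, b', hb', rfl⟩ := hg
    -- h := s b n1 ∈ C (s w1)
    have hh : (s : G) * (b * n1) ∈ C P (σ P s * π P n1) :=
      hup1 _ (B_mul_C P hb (mem_C_self P n1))
    -- h t ∈ C (w1 t)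
    have hht : (s : G) * (b * n1) * t ∈ C P (π P n1 * σ P t) := by
      have := C_mul_B P hsg (P.B.inv_mem hb')
      have h5 : (s : G) * (b * ((n1 * ⟨t, P.subset t.2⟩ : P.N) : G) * b') * b'⁻¹
          = (s : G) * (b * n1) * t := by
        simp only [Subgroup.coe_mul]
        group
      rwa [h5] at this
    have h6 := L1r_inv P t hht
    rw [mul_inv_cancel_right, mul_σ_cancel] at h6
    rcases h6 with h6 | h6
    · have := C_inj P hh h6
      exact σ_ne_one P s (by simpa using this)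
    · have := C_inj P hh h6
      rw [← this] at hle hq
      rw [σ_mul_cancel, hw1, hq] at hle
      omega

theorem Up_of_le {s : P.S} {w : W P} (h : ℓ P w ≤ ℓ P (σ P s * w)) : Up P s w :=
  Up_of_le_aux P _ w rfl s h

/-- (U3) -/
theorem not_Up_of_lt {s : P.S} {w : W P} (h : ℓ P (σ P s * w) < ℓ P w) : ¬ Up P s w := by
  have h1 : Up P s (σ P s * w) := by
    apply Up_of_le
    rw [σ_mul_cancel]
    exact h.le
  have := not_Up_mul P h1
  rwa [σ_mul_cancel] at this

/-- (U4) -/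
theorem ℓ_gen_mul_ne (s : P.S) (w : W P) : ℓ P (σ P s * w) ≠ ℓ P w := by
  intro h
  have h1 : Up P s w := Up_of_le P h.ge
  have h2 : Up P s (σ P s * w) := by
    apply Up_of_le
    rw [σ_mul_cancel]
    exact h.le
  exact not_Up_mul P h1 h2

theorem Up_iff_lt (s : P.S) (w : W P) : Up P s w ↔ ℓ P w < ℓ P (σ P s * w) := by
  constructor
  · intro h
    by_contra hcon
    push Not at hcon
    rcases lt_or_eq_of_le hcon with h1 | h1
    · exact not_Up_of_lt P h1 h
    · exact ℓ_gen_mul_ne P s w h1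
  · intro h
    exact Up_of_le P h.le

theorem not_Up_iff_lt (s : P.S) (w : W P) : ¬ Up P s w ↔ ℓ P (σ P s * w) < ℓ P w := by
  rw [Up_iff_lt]
  have := ℓ_gen_mul_ne P s w
  omega

/-- (U5) -/
theorem eq_of_Up_of_not_Up {s t : P.S} {w : W P} (h1 : Up P s w) (h2 : ¬ Up P s (w * σ P t)) :
    σ P s * w = w * σ P t := by
  obtain ⟨g, hg, hsg⟩ := exists_of_not_Up P h2
  obtain ⟨n, rfl⟩ := π_surj P w
  rw [σ, ← map_mul, mem_C_iff] at hg
  obtain ⟨b, hb, b', hb', rfl⟩ := hg
  have hh : (s : G) * (b * n) ∈ C P (σ P s * π P n) :=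
    h1 _ (B_mul_C P hb (mem_C_self P n))
  have hht : (s : G) * (b * n) * t ∈ C P (π P n * σ P t) := by
    have := C_mul_B P hsg (P.B.inv_mem hb')
    have h5 : (s : G) * (b * ((n * ⟨t, P.subset t.2⟩ : P.N) : G) * b') * b'⁻¹
        = (s : G) * (b * n) * t := by
      simp only [Subgroup.coe_mul]
      group
    rwa [h5] at this
  rcases L1r P t hh with h6 | h6
  · have := C_inj P hht h6
    exfalso
    apply σ_ne_one P s
    have h7 : σ P s * (π P n * σ P t) = π P n * σ P t := by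
      rw [← mul_assoc]; exact this.symm
    simpa using h7
  · exact (C_inj P hht h6).symm

/-- the exchange condition -/
theorem exchange (s : P.S) : ∀ l : List P.S, ¬ Up P s (wp (σ P) l) →
    ∃ j < l.length, σ P s * wp (σ P) l = wp (σ P) (l.eraseIdx j) := by
  intro l
  induction l using List.reverseRecOn with
  | nil =>
    intro h
    exact absurd (by simpa using Up_one P s) h
  | append_singleton l t ih =>
    intro h
    by_cases hup : Up P s (wp (σ P) l)
    · refine ⟨l.length, by simp, ?_⟩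
      rw [wp_append, wp_singleton] at h ⊢
      have := eq_of_Up_of_not_Up P hup h
      rw [← mul_assoc, this, mul_σ_cancel]
      have h8 : (l ++ [t]).eraseIdx l.length = l := by
        rw [List.eraseIdx_append_of_length_le (le_refl _)]
        simp
      rw [h8]
    · obtain ⟨j, hj, hjeq⟩ := ih hup
      refine ⟨j, by simp; omega, ?_⟩
      rw [List.eraseIdx_append_of_lt_length hj, wp_append, wp_append, ← mul_assoc, hjeq]


theorem isReduced_nil : IsReduced (σ P) ([] : List P.S) := by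
  unfold WordLen.IsReduced
  simp [len_one]

theorem not_Up_of_isReduced_cons {s : P.S} {l : List P.S} (h : IsReduced (σ P) (s :: l)) :
    ¬ Up P s (wp (σ P) (s :: l)) := by
  rw [not_Up_iff_lt]
  have h1 := IsReduced.tail (σ P) (wp_surj P) h
  unfold WordLen.IsReduced at h h1
  rw [wp_cons, σ_mul_cancel]
  rw [wp_cons] at h
  change len (σ P) _ < len (σ P) _
  rw [h, h1]
  simp

/-- the deletion condition -/
theorem deletion : ∀ l : List P.S, ¬ IsReduced (σ P) l →
    ∃ l' : List P.S, l'.Sublist l ∧ l'.length + 2 = l.length ∧ wp (σ P) l' = wp (σ P) l := by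
  intro l
  induction l with
  | nil => intro h; exact absurd (isReduced_nil P) h
  | cons s l ih =>
    intro h
    by_cases hl : IsReduced (σ P) l
    · have hnot : ¬ Up P s (wp (σ P) l) := by
        rw [not_Up_iff_lt]
        unfold WordLen.IsReduced at h hl
        rw [wp_cons] at h
        have h1 := ℓ_gen_mul_le P s (wp (σ P) l)
        have h2 := ℓ_gen_mul_ne P s (wp (σ P) l)
        have h3 : ℓ P (σ P s * wp (σ P) l) ≠ l.length + 1 := by simpa using h
        have h4 : ℓ P (wp (σ P) l) = l.length := hl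
        omega
      obtain ⟨j, hj, hjeq⟩ := exchange P s l hnot
      refine ⟨l.eraseIdx j, (List.eraseIdx_sublist l j).cons s, ?_, ?_⟩
      · rw [List.length_eraseIdx_of_lt hj]
        simp only [List.length_cons]
        omega
      · rw [wp_cons, hjeq]
    · obtain ⟨l', hsub, hlen, hwp⟩ := ih hl
      refine ⟨s :: l', hsub.cons_cons s, by simp only [List.length_cons]; omega, ?_⟩
      rw [wp_cons, wp_cons, hwp]

/-- a word can be replaced by a reduced subword with the same product -/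
theorem exists_reduced_sublist : ∀ (k : ℕ) (l : List P.S), l.length = k →
    ∃ l' : List P.S, l'.Sublist l ∧ wp (σ P) l' = wp (σ P) l ∧ IsReduced (σ P) l' := by
  intro k
  induction k using Nat.strong_induction_on with
  | _ k ih =>
    intro l hk
    by_cases hl : IsReduced (σ P) l
    · exact ⟨l, List.Sublist.refl l, rfl, hl⟩
    · obtain ⟨l1, hsub, hlen, hwp⟩ := deletion P l hl
      obtain ⟨l2, hsub2, hwp2, hred⟩ := ih l1.length (by omega) l1 rfl
      exact ⟨l2, hsub2.trans hsub, hwp2.trans hwp, hred⟩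

theorem exists_reduced_pword (p : P.S → Prop) (l : List P.S) (hl : ∀ x ∈ l, p x) :
    ∃ l' : List P.S, (∀ x ∈ l', p x) ∧ wp (σ P) l' = wp (σ P) l ∧ IsReduced (σ P) l' := by
  obtain ⟨l', hsub, hwp, hred⟩ := exists_reduced_sublist P l.length l rfl
  exact ⟨l', fun x hx => hl x (hsub.subset hx), hwp, hred⟩

/-- letters of a reduced word of an element of `M ∩ N`, `M ≥ B`, lie in `M` -/
theorem letters_mem (M : Subgroup G) (hM : P.B ≤ M) : ∀ l : List P.S, IsReduced (σ P) l →
    ∀ n : P.N, π P n = wp (σ P) l → (n : G) ∈ M → ∀ x ∈ l, (x : G) ∈ M := by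
  intro l
  induction l with
  | nil => intro _ _ _ _ x hx; simp at hx
  | cons s l ih =>
    intro hred n hn hnM
    have hnot := not_Up_of_isReduced_cons P hred
    obtain ⟨g, hg, hsg⟩ := exists_of_not_Up P hnot
    rw [← hn, mem_C_iff] at hg hsg
    obtain ⟨b, hb, b', hb', rfl⟩ := hg
    obtain ⟨x, hx, y, hy, hxy⟩ := hsg
    have hs : (s : G) ∈ M := by
      have : (s : G) = x * n * y * b'⁻¹ * (n : G)⁻¹ * b⁻¹ := by
        rw [← hxy]; group
      rw [this]
      exact M.mul_mem (M.mul_mem (M.mul_mem (M.mul_mem (M.mul_mem (hM hx) hnM) (hM hy))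
        (M.inv_mem (hM hb'))) (M.inv_mem hnM)) (M.inv_mem (hM hb))
    have hn' : π P ((⟨s, P.subset s.2⟩ : P.N)⁻¹ * n) = wp (σ P) l := by
      rw [map_mul, map_inv, hn, wp_cons]
      change (σ P s)⁻¹ * _ = _
      rw [inv_mul_cancel_left]
    have hn'M : (((⟨s, P.subset s.2⟩ : P.N)⁻¹ * n : P.N) : G) ∈ M := by
      simp only [Subgroup.coe_mul, Subgroup.coe_inv]
      exact M.mul_mem (M.inv_mem hs) hnM
    have := ih (IsReduced.tail (σ P) (wp_surj P) hred) _ hn' hn'M
    intro z hz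
    rcases List.mem_cons.mp hz with rfl | hz
    · exact hs
    · exact this z hz

theorem parabolic_eq_closure (J : Set G) :
    P.parabolic J = Subgroup.closure ((P.B : Set G) ∪ J) := by
  rw [BNPair.parabolic, Subgroup.closure_union, Subgroup.closure_eq]

theorem B_le_parabolic (J : Set G) : P.B ≤ P.parabolic J := le_sup_left

theorem mem_parabolic_iff {J : Set G} (hJ : J ⊆ P.S) (g : G) :
    g ∈ P.parabolic J ↔
      ∃ l : List P.S, (∀ x ∈ l, (x : G) ∈ J) ∧ g ∈ C P (wp (σ P) l) := by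
  constructor
  · intro hg
    rw [parabolic_eq_closure] at hg
    induction hg using Subgroup.closure_induction_left with
    | one => exact ⟨[], by simp, by rw [wp_nil, C_one]; exact P.B.one_mem⟩
    | mul_left x hx y _ ih =>
      obtain ⟨l, hl, hy⟩ := ih
      rcases hx with hx | hx
      · exact ⟨l, hl, B_mul_C P hx hy⟩
      · rcases L1 P ⟨x, hJ hx⟩ hy with h | h
        · refine ⟨⟨x, hJ hx⟩ :: l, ?_, by rw [wp_cons]; exact h⟩
          intro z hz
          rcases List.mem_cons.mp hz with rfl | hz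
          · exact hx
          · exact hl z hz
        · exact ⟨l, hl, h⟩
    | inv_mul_cancel x hx y _ ih =>
      obtain ⟨l, hl, hy⟩ := ih
      rcases hx with hx | hx
      · exact ⟨l, hl, B_mul_C P (P.B.inv_mem hx) hy⟩
      · rcases L1_inv P ⟨x, hJ hx⟩ hy with h | h
        · refine ⟨⟨x, hJ hx⟩ :: l, ?_, by rw [wp_cons]; exact h⟩
          intro z hz
          rcases List.mem_cons.mp hz with rfl | hz
          · exact hx
          · exact hl z hz
        · exact ⟨l, hl, h⟩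
  · rintro ⟨l, hl, hg⟩
    rw [← π_gp, mem_C_iff] at hg
    obtain ⟨b, hb, b', hb', rfl⟩ := hg
    have h1 : gp P l ∈ P.parabolic J := by
      apply (le_sup_right : Subgroup.closure J ≤ P.parabolic J)
      exact gp_mem_closure P l hl
    exact (P.parabolic J).mul_mem ((P.parabolic J).mul_mem (B_le_parabolic P J hb) h1)
      (B_le_parabolic P J hb')

theorem ℓ_σ (s : P.S) : ℓ P (σ P s) = 1 := by
  have h1 := len_gen_le (σ P) s
  have h2 : ℓ P (σ P s) ≠ 0 := by
    intro h
    rw [len_eq_zero_iff (σ P) (wp_surj P)] at h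
    exact σ_ne_one P s h
  have h3 : ℓ P (σ P s) ≤ 1 := h1
  omega

/-- `S ∩ P_J = J` -/
theorem mem_of_mem_parabolic {J : Set G} (hJ : J ⊆ P.S) (s : P.S)
    (h : (s : G) ∈ P.parabolic J) : (s : G) ∈ J := by
  rw [mem_parabolic_iff P hJ] at h
  obtain ⟨l, hl, hs⟩ := h
  have hσ : σ P s = wp (σ P) l := C_inj P (gen_mem_C P s) hs
  obtain ⟨l', hl', hwp, hred⟩ := exists_reduced_pword P (fun x => (x : G) ∈ J) l hl
  unfold WordLen.IsReduced at hred
  rw [hwp, ← hσ] at hred
  have h1 : l'.length = 1 := by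
    rw [← hred]; exact ℓ_σ P s
  obtain ⟨j, rfl⟩ := List.length_eq_one_iff.mp h1
  rw [wp_singleton, ← hσ] at hwp
  have := σ_injective P hwp
  rw [← this]
  exact hl' j (by simp)

/-- every subgroup containing `B` is parabolic -/
theorem eq_parabolic (M : Subgroup G) (hM : P.B ≤ M) :
    M = P.parabolic {s | s ∈ P.S ∧ s ∈ M} := by
  apply le_antisymm
  · intro g hg
    obtain ⟨w, hw⟩ := exists_C P g
    obtain ⟨l, hl, hred⟩ := exists_reduced' (σ P) (wp_surj P) w
    obtain ⟨n, rfl⟩ := π_surj P w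
    have hw' := hw
    rw [mem_C_iff] at hw
    obtain ⟨b, hb, b', hb', rfl⟩ := hw
    have hnM : (n : G) ∈ M := by
      have : (n : G) = b⁻¹ * (b * n * b') * b'⁻¹ := by group
      rw [this]
      exact M.mul_mem (M.mul_mem (M.inv_mem (hM hb)) hg) (M.inv_mem (hM hb'))
    have hlet := letters_mem P M hM l hred n hl.symm hnM
    rw [mem_parabolic_iff P (fun s hs => hs.1)]
    refine ⟨l, fun x hx => ⟨x.2, hlet x hx⟩, ?_⟩
    rw [hl]
    exact hw'
  · apply sup_le hM
    rw [Subgroup.closure_le]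
    intro s hs
    exact hs.2

/-- if `n B n⁻¹ ⊆ M` and `B ≤ M` then `n ∈ M` -/
theorem mem_of_conj_subset_aux (M : Subgroup G) (hM : P.B ≤ M) : ∀ l : List P.S,
    IsReduced (σ P) l → ∀ n : P.N, π P n = wp (σ P) l →
    (∀ b ∈ P.B, (n : G) * b * (n : G)⁻¹ ∈ M) → (n : G) ∈ M := by
  intro l
  induction l with
  | nil =>
    intro _ n hn _
    rw [wp_nil, π_eq_one_iff] at hn
    exact hM hn
  | cons s l ih =>
    intro hred n hn hconj
    have hnot := not_Up_of_isReduced_cons P hred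
    obtain ⟨g, hg, hsg⟩ := exists_of_not_Up P hnot
    rw [← hn, mem_C_iff] at hg hsg
    obtain ⟨b, hb, b', hb', rfl⟩ := hg
    obtain ⟨x, hx, y, hy, hxy⟩ := hsg
    have hs : (s : G) ∈ M := by
      have : (s : G) = x * ((n : G) * (y * b'⁻¹) * (n : G)⁻¹) * b⁻¹ := by
        have h1 : (s : G) = x * n * y * b'⁻¹ * (n : G)⁻¹ * b⁻¹ := by
          rw [← hxy]; group
        rw [h1]; group
      rw [this]
      exact M.mul_mem (M.mul_mem (hM hx) (hconj _ (P.B.mul_mem hy (P.B.inv_mem hb'))))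
        (M.inv_mem (hM hb))
    have hn' : π P ((⟨s, P.subset s.2⟩ : P.N)⁻¹ * n) = wp (σ P) l := by
      rw [map_mul, map_inv, hn, wp_cons]
      change (σ P s)⁻¹ * _ = _
      rw [inv_mul_cancel_left]
    have hmem := ih (IsReduced.tail (σ P) (wp_surj P) hred) _ hn' (by
      intro b hb
      simp only [Subgroup.coe_mul, Subgroup.coe_inv]
      have : (s : G)⁻¹ * n * b * ((s : G)⁻¹ * n)⁻¹ = (s : G)⁻¹ * (n * b * (n : G)⁻¹) * s := by
        group
      rw [this]
      exact M.mul_mem (M.mul_mem (M.inv_mem hs) (hconj b hb)) hs)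
    simp only [Subgroup.coe_mul, Subgroup.coe_inv] at hmem
    have : (n : G) = s * ((s : G)⁻¹ * n) := by group
    rw [this]
    exact M.mul_mem hs hmem

theorem mem_of_conj_subset (M : Subgroup G) (hM : P.B ≤ M) (g : G)
    (h : ∀ b ∈ P.B, g * b * g⁻¹ ∈ M) : g ∈ M := by
  obtain ⟨w, hw⟩ := exists_C P g
  obtain ⟨l, hl, hred⟩ := exists_reduced' (σ P) (wp_surj P) w
  obtain ⟨n, rfl⟩ := π_surj P w
  rw [mem_C_iff] at hw
  obtain ⟨b, hb, b', hb', rfl⟩ := hw
  have hn : (n : G) ∈ M := by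
    apply mem_of_conj_subset_aux P M hM l hred n hl.symm
    intro c hc
    have h1 := h (b'⁻¹ * c * b') (P.B.mul_mem (P.B.mul_mem (P.B.inv_mem hb') hc) hb')
    have : (n : G) * c * (n : G)⁻¹ =
        b⁻¹ * (b * n * b' * (b'⁻¹ * c * b') * (b * n * b')⁻¹) * b := by group
    rw [this]
    exact M.mul_mem (M.mul_mem (M.inv_mem (hM hb)) h1) (hM hb)
  exact M.mul_mem (M.mul_mem (hM hb) hn) (hM hb')

end Cfsg.Agent.Helper2.BN
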