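import Mathlib

/-!
# S0996, piece G3: the Frobenius normalizer of a self-centralizing subgroup of prime order (helper2)

`P ≤ G` of prime order `p` with `C_G(P) ≤ P`, `N = N_G(P)`, `w = |N : P|`.
-/

set_option autoImplicit false
set_option linter.unusedSectionVars false
set_option linter.unusedVariables false
set_option linter.style.haveILetI false

namespace Cfsg.Agent.Helper2.BR996G3

variable {G : Type*} [Group G] [Finite G] (P : Subgroup G) (p : ℕ) [Fact p.Prime]

/-- `P` is commutative. -/
theorem comm_of_card (hP : Nat.card P = p) (a b : G) (ha : a ∈ P) (hb : b ∈ P) :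
    a * b = b * a := by
  haveI : IsCyclic P := isCyclic_of_prime_card hP
  have h := (IsCyclic.commGroup (α := P)).mul_comm ⟨a, ha⟩ ⟨b, hb⟩
  exact congrArg Subtype.val h

theorem le_centralizer_of_card (hP : Nat.card P = p) : P ≤ Subgroup.centralizer (P : Set G) := by
  intro a ha
  rw [Subgroup.mem_centralizer_iff]
  intro b hb
  exact comm_of_card P p hP b a hb ha

theorem le_normalizer' : P ≤ Subgroup.normalizer (P : Set G) := Subgroup.le_normalizer

theorem centralizer_eq (hP : Nat.card P = p) (hC : Subgroup.centralizer (P : Set G) ≤ P) :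
    Subgroup.centralizer (P : Set G) = P :=
  le_antisymm hC (le_centralizer_of_card P p hP)

/-- `w ∣ p - 1`. -/
theorem relIndex_dvd (hP : Nat.card P = p) (hC : Subgroup.centralizer (P : Set G) ≤ P) :
    P.relIndex (Subgroup.normalizer (P : Set G)) ∣ p - 1 := by
  haveI : IsCyclic P := isCyclic_of_prime_card hP
  have key := Subgroup.card_dvd_of_injective _
    (QuotientGroup.kerLift_injective P.normalizerMonoidHom)
  rw [Subgroup.normalizerMonoidHom_ker, ← Subgroup.index, ← Subgroup.relIndex,
    centralizer_eq P p hP hC, IsCyclic.card_mulAut, hP,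
    Nat.totient_prime (Fact.out : p.Prime)] at key
  exact key

/-- `Aut(P)` is cyclic. -/
theorem isCyclic_mulAut (hP : Nat.card P = p) : IsCyclic (MulAut P) := by
  haveI : IsCyclic P := isCyclic_of_prime_card hP
  haveI : Fact (Nat.card P).Prime := ⟨hP ▸ (Fact.out : p.Prime)⟩
  exact isCyclic_of_injective (IsCyclic.mulAutMulEquiv P).toMonoidHom
    (IsCyclic.mulAutMulEquiv P).injective

/-- (a) every subgroup of `N` meeting `P` trivially is cyclic. -/
theorem isCyclic_of_disjoint (hP : Nat.card P = p)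
    (hC : Subgroup.centralizer (P : Set G) ≤ P)
    (W : Subgroup G) (hWN : W ≤ Subgroup.normalizer (P : Set G)) (hWP : W ⊓ P = ⊥) :
    IsCyclic W := by
  haveI := isCyclic_mulAut P p hP
  refine isCyclic_of_injective (P.normalizerMonoidHom.comp (Subgroup.inclusion hWN)) ?_
  rw [injective_iff_map_eq_one]
  intro g hg
  have h1 : Subgroup.inclusion hWN g ∈ P.normalizerMonoidHom.ker := hg
  rw [Subgroup.normalizerMonoidHom_ker, Subgroup.mem_subgroupOf] at h1
  have h2 : (g : G) ∈ W ⊓ P := ⟨g.2, hC h1⟩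
  rw [hWP, Subgroup.mem_bot] at h2
  exact Subtype.ext h2

/-- An element commuting with a nontrivial element of `P` centralizes `P`. -/
theorem mem_centralizer_of_comm (hP : Nat.card P = p) (c : G) (hc : c ∈ P) (hc1 : c ≠ 1)
    (v : G) (h : c * v = v * c) : v ∈ Subgroup.centralizer (P : Set G) := by
  rw [Subgroup.mem_centralizer_iff]
  intro b hb
  have hc1' : (⟨c, hc⟩ : P) ≠ 1 := fun h' => hc1 (congrArg Subtype.val h')
  have hmem : (⟨b, hb⟩ : P) ∈ Subgroup.zpowers (⟨c, hc⟩ : P) :=
    mem_zpowers_of_prime_card hP hc1'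
  obtain ⟨k, hk⟩ := Subgroup.mem_zpowers_iff.mp hmem
  have hk' : c ^ k = b := by
    have := congrArg Subtype.val hk
    simpa using this
  rw [← hk']
  exact ((Commute.zpow_left (show Commute c v from h) k)).eq

/-- Nontrivial elements of `P`: their centralizer is inside `P`. -/
theorem mem_of_comm (hP : Nat.card P = p) (hC : Subgroup.centralizer (P : Set G) ≤ P)
    (c : G) (hc : c ∈ P) (hc1 : c ≠ 1) (v : G) (h : c * v = v * c) : v ∈ P :=
  hC (mem_centralizer_of_comm P p hP c hc hc1 v h)

/-- KEY: for `v ∈ N ∖ P` the coset `P v` is a single `P`-conjugacy class. -/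
theorem key_conj (hP : Nat.card P = p) (hC : Subgroup.centralizer (P : Set G) ≤ P)
    (v : G) (hvN : v ∈ Subgroup.normalizer (P : Set G)) (hvP : v ∉ P) (z : G) (hz : z ∈ P) :
    ∃ y ∈ P, y * v * y⁻¹ = z * v := by
  have hmem : ∀ y : P, (y : G) * (v * (y : G)⁻¹ * v⁻¹) ∈ P := fun y =>
    P.mul_mem y.2 ((Subgroup.mem_normalizer_iff.mp hvN _).mp (P.inv_mem y.2))
  let f : P → P := fun y => ⟨(y : G) * (v * (y : G)⁻¹ * v⁻¹), hmem y⟩
  have hinj : Function.Injective f := by
    intro y y' hyy
    have h1 : (y : G) * (v * (y : G)⁻¹ * v⁻¹) = (y' : G) * (v * (y' : G)⁻¹ * v⁻¹) :=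
      congrArg Subtype.val hyy
    by_contra hne
    have hc1 : (y' : G)⁻¹ * (y : G) ≠ 1 := by
      intro h
      apply hne
      apply Subtype.ext
      have : (y : G) = (y' : G) := by
        have := congrArg (fun t => (y' : G) * t) h
        simpa using this
      exact this
    have hcP : (y' : G)⁻¹ * (y : G) ∈ P := P.mul_mem (P.inv_mem y'.2) y.2
    have hcomm : (y' : G)⁻¹ * (y : G) * v = v * ((y' : G)⁻¹ * (y : G)) := by
      have h2 : (y : G) * v * (y : G)⁻¹ = (y' : G) * v * (y' : G)⁻¹ := by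
        have := congrArg (fun t => t * v) h1
        simpa [mul_assoc] using this
      have h3 : (y' : G)⁻¹ * ((y : G) * v * (y : G)⁻¹) * (y : G) =
          (y' : G)⁻¹ * ((y' : G) * v * (y' : G)⁻¹) * (y : G) := by rw [h2]
      simpa [mul_assoc] using h3
    exact hvP (mem_of_comm P p hP hC _ hcP hc1 v hcomm)
  have hsurj : Function.Surjective f := Finite.injective_iff_surjective.mp hinj
  obtain ⟨y, hy⟩ := hsurj ⟨z, hz⟩
  refine ⟨y, y.2, ?_⟩
  have h1 : (y : G) * (v * (y : G)⁻¹ * v⁻¹) = z := congrArg Subtype.val hy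
  rw [← h1]
  group

/-- `|N| = p w`. -/
theorem card_normalizer (hP : Nat.card P = p) :
    Nat.card (Subgroup.normalizer (P : Set G)) =
      p * P.relIndex (Subgroup.normalizer (P : Set G)) := by
  have h1 := Subgroup.card_mul_index (P.subgroupOf (Subgroup.normalizer (P : Set G)))
  have h2 : Nat.card (P.subgroupOf (Subgroup.normalizer (P : Set G))) = Nat.card P :=
    Nat.card_congr (Subgroup.subgroupOfEquivOfLe Subgroup.le_normalizer).toEquiv
  rw [h2, hP] at h1
  exact h1.symm

theorem relIndex_pos (hP : Nat.card P = p) (hC : Subgroup.centralizer (P : Set G) ≤ P) :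
    0 < P.relIndex (Subgroup.normalizer (P : Set G)) := by
  have hpp : p.Prime := Fact.out
  have h := relIndex_dvd P p hP hC
  rcases Nat.eq_zero_or_pos (P.relIndex (Subgroup.normalizer (P : Set G))) with h0 | h0
  · rw [h0, zero_dvd_iff] at h
    have := hpp.two_le
    omega
  · exact h0

theorem relIndex_lt (hP : Nat.card P = p) (hC : Subgroup.centralizer (P : Set G) ≤ P) :
    P.relIndex (Subgroup.normalizer (P : Set G)) < p := by
  have hpp : p.Prime := Fact.out
  have h := Nat.le_of_dvd (by have := hpp.two_le; omega) (relIndex_dvd P p hP hC)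
  have := hpp.two_le
  omega

theorem coprime_relIndex (hP : Nat.card P = p) (hC : Subgroup.centralizer (P : Set G) ≤ P) :
    Nat.Coprime (P.relIndex (Subgroup.normalizer (P : Set G))) p := by
  have hpp : p.Prime := Fact.out
  rw [Nat.coprime_comm, hpp.coprime_iff_not_dvd]
  intro h
  have h1 := Nat.le_of_dvd (relIndex_pos P p hP hC) h
  have h2 := relIndex_lt P p hP hC
  omega

/-- A subgroup of order `w` meets `P` trivially. -/
theorem inf_eq_bot_of_card (hP : Nat.card P = p) (hC : Subgroup.centralizer (P : Set G) ≤ P)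
    (W : Subgroup G) (hW : Nat.card W = P.relIndex (Subgroup.normalizer (P : Set G))) :
    W ⊓ P = ⊥ := by
  refine disjoint_iff.mp (Subgroup.disjoint_of_coprime_natCard ?_)
  rw [hW, hP]
  exact coprime_relIndex P p hP hC

/-- (a') a subgroup of `N` of order `w` is cyclic. -/
theorem isCyclic_of_card (hP : Nat.card P = p) (hC : Subgroup.centralizer (P : Set G) ≤ P)
    (W : Subgroup G) (hWN : W ≤ Subgroup.normalizer (P : Set G))
    (hW : Nat.card W = P.relIndex (Subgroup.normalizer (P : Set G))) : IsCyclic W :=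
  isCyclic_of_disjoint P p hP hC W hWN (inf_eq_bot_of_card P p hP hC W hW)

/-- `N = P W`. -/
theorem exists_mul (hP : Nat.card P = p) (hC : Subgroup.centralizer (P : Set G) ≤ P)
    (W : Subgroup G) (hWN : W ≤ Subgroup.normalizer (P : Set G))
    (hW : Nat.card W = P.relIndex (Subgroup.normalizer (P : Set G)))
    (g : G) (hg : g ∈ Subgroup.normalizer (P : Set G)) :
    ∃ z ∈ P, ∃ v ∈ W, g = z * v := by
  have hWP := inf_eq_bot_of_card P p hP hC W hW
  let φ : P × W → Subgroup.normalizer (P : Set G) := fun zv =>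
    ⟨(zv.1 : G) * (zv.2 : G), Subgroup.mul_mem _ (Subgroup.le_normalizer zv.1.2) (hWN zv.2.2)⟩
  have hinj : Function.Injective φ := by
    rintro ⟨z, v⟩ ⟨z', v'⟩ h
    have h1 : (z : G) * (v : G) = (z' : G) * (v' : G) := congrArg Subtype.val h
    have h2 : (z' : G)⁻¹ * (z : G) = (v' : G) * (v : G)⁻¹ := by
      have := congrArg (fun t => (z' : G)⁻¹ * t * (v : G)⁻¹) h1
      simpa [mul_assoc] using this
    have h3 : (v' : G) * (v : G)⁻¹ ∈ W ⊓ P :=
      ⟨W.mul_mem v'.2 (W.inv_mem v.2), h2 ▸ P.mul_mem (P.inv_mem z'.2) z.2⟩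
    rw [hWP, Subgroup.mem_bot] at h3
    have hv : (v' : G) = (v : G) := by
      have := congrArg (fun t => t * (v : G)) h3
      simpa using this
    have hz : (z : G) = (z' : G) := by
      rw [h3] at h2
      have := congrArg (fun t => (z' : G) * t) h2
      simpa using this
    exact Prod.ext (Subtype.ext hz) (Subtype.ext hv.symm)
  have hcard : Nat.card (Subgroup.normalizer (P : Set G)) ≤ Nat.card (P × W) := by
    rw [Nat.card_prod, hP, hW, card_normalizer P p hP]
  have hbij := hinj.bijective_of_nat_card_le hcard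
  obtain ⟨⟨z, v⟩, hzv⟩ := hbij.2 ⟨g, hg⟩
  exact ⟨z, z.2, v, v.2, (congrArg Subtype.val hzv).symm⟩

theorem conj_le_normalizer (W : Subgroup G) (hWN : W ≤ Subgroup.normalizer (P : Set G))
    (y : G) (hy : y ∈ P) :
    W.map (MulAut.conj y).toMonoidHom ≤ Subgroup.normalizer (P : Set G) := by
  rintro _ ⟨g, hg, rfl⟩
  have hyN : y ∈ Subgroup.normalizer (P : Set G) := Subgroup.le_normalizer hy
  simp only [MulEquiv.coe_toMonoidHom, MulAut.conj_apply]
  exact Subgroup.mul_mem _ (Subgroup.mul_mem _ hyN (hWN hg)) (Subgroup.inv_mem _ hyN)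

theorem card_conj (W : Subgroup G) (y : G) :
    Nat.card (W.map (MulAut.conj y).toMonoidHom) = Nat.card W :=
  Subgroup.card_map_of_injective (MulAut.conj y).injective

/-- (b) any two subgroups of `N` of order `w` are conjugate by an element of `P`. -/
theorem exists_conj_eq (hP : Nat.card P = p) (hC : Subgroup.centralizer (P : Set G) ≤ P)
    (W W' : Subgroup G) (hWN : W ≤ Subgroup.normalizer (P : Set G))
    (hW : Nat.card W = P.relIndex (Subgroup.normalizer (P : Set G)))
    (hWN' : W' ≤ Subgroup.normalizer (P : Set G))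
    (hW' : Nat.card W' = P.relIndex (Subgroup.normalizer (P : Set G))) :
    ∃ y ∈ P, W.map (MulAut.conj y).toMonoidHom = W' := by
  haveI := isCyclic_of_card P p hP hC W hWN hW
  obtain ⟨x, hx⟩ := IsCyclic.exists_generator (α := W)
  have hWP := inf_eq_bot_of_card P p hP hC W hW
  have hfin : ∀ y : G, (y * (x : G) * y⁻¹ ∈ W') → W.map (MulAut.conj y).toMonoidHom = W' := by
    intro y hy
    have hle : W.map (MulAut.conj y).toMonoidHom ≤ W' := by
      rintro _ ⟨g, hg, rfl⟩
      obtain ⟨k, hk⟩ := Subgroup.mem_zpowers_iff.mp (hx ⟨g, hg⟩)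
      have hk' : (x : G) ^ k = g := by
        have := congrArg Subtype.val hk
        simpa using this
      simp only [MulEquiv.coe_toMonoidHom, MulAut.conj_apply]
      rw [← hk', ← conj_zpow]
      exact W'.zpow_mem hy k
    exact Subgroup.eq_of_le_of_card_ge hle (by rw [card_conj, hW, hW'])
  by_cases hxP : (x : G) ∈ P
  · have h1 : (x : G) ∈ W ⊓ P := ⟨x.2, hxP⟩
    rw [hWP, Subgroup.mem_bot] at h1
    refine ⟨1, P.one_mem, hfin 1 ?_⟩
    rw [h1]
    simp
  · obtain ⟨z', hz', v', hv', hxzv⟩ := exists_mul P p hP hC W' hWN' hW' (x : G) (hWN x.2)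
    obtain ⟨y, hy, hyx⟩ := key_conj P p hP hC (x : G) (hWN x.2) hxP z'⁻¹ (P.inv_mem hz')
    refine ⟨y, hy, hfin y ?_⟩
    rw [hyx, hxzv]
    simpa using hv'

/-- (c1) distinct `P`-conjugates of `W` meet trivially. -/
theorem inf_conj_eq_bot (hP : Nat.card P = p) (hC : Subgroup.centralizer (P : Set G) ≤ P)
    (W : Subgroup G) (hWN : W ≤ Subgroup.normalizer (P : Set G))
    (hW : Nat.card W = P.relIndex (Subgroup.normalizer (P : Set G)))
    (z : G) (hz : z ∈ P) (hz1 : z ≠ 1) :
    W ⊓ W.map (MulAut.conj z).toMonoidHom = ⊥ := by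
  have hWP := inf_eq_bot_of_card P p hP hC W hW
  rw [eq_bot_iff]
  rintro u ⟨hu, v, hv, hvu⟩
  simp only [MulEquiv.coe_toMonoidHom, MulAut.conj_apply] at hvu
  have hv' : v ∈ W := hv
  have h1 : u * v⁻¹ ∈ W ⊓ P := by
    refine ⟨W.mul_mem hu (W.inv_mem hv'), ?_⟩
    have : u * v⁻¹ = z * (v * z⁻¹ * v⁻¹) := by rw [← hvu]; group
    rw [this]
    exact P.mul_mem hz ((Subgroup.mem_normalizer_iff.mp (hWN hv') _).mp (P.inv_mem hz))
  rw [hWP, Subgroup.mem_bot] at h1
  have huv : u = v := by
    have := congrArg (fun t => t * v) h1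
    simpa using this
  have hcomm : z * v = v * z := by
    have : z * v * z⁻¹ = v := by rw [hvu, huv]
    have := congrArg (fun t => t * z) this
    simpa using this
  have hvP : v ∈ W ⊓ P := ⟨hv', mem_of_comm P p hP hC z hz hz1 v hcomm⟩
  rw [hWP, Subgroup.mem_bot] at hvP
  rw [Subgroup.mem_bot, huv, hvP]

/-- (c2) `N_N(W) = W` (when `1 < w`). -/
theorem normalizer_inf_eq (hP : Nat.card P = p) (hC : Subgroup.centralizer (P : Set G) ≤ P)
    (W : Subgroup G) (hWN : W ≤ Subgroup.normalizer (P : Set G))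
    (hW : Nat.card W = P.relIndex (Subgroup.normalizer (P : Set G)))
    (hw : 1 < P.relIndex (Subgroup.normalizer (P : Set G))) :
    Subgroup.normalizer (W : Set G) ⊓ Subgroup.normalizer (P : Set G) = W := by
  apply le_antisymm
  · rintro g ⟨hgW, hgN⟩
    obtain ⟨z, hz, v, hv, rfl⟩ := exists_mul P p hP hC W hWN hW g hgN
    have hzW : z ∈ Subgroup.normalizer (W : Set G) := by
      have h1 : v⁻¹ ∈ Subgroup.normalizer (W : Set G) :=
        Subgroup.le_normalizer (W.inv_mem hv)
      have := Subgroup.mul_mem _ hgW h1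
      simpa using this
    by_cases hz1 : z = 1
    · rw [hz1, one_mul]; exact hv
    · exfalso
      have hbot := inf_conj_eq_bot P p hP hC W hWN hW z hz hz1
      have hWbot : W = ⊥ := by
        rw [eq_bot_iff]
        intro h hh
        have h2 : z⁻¹ * h * z ∈ W := by
          have := (Subgroup.mem_normalizer_iff.mp hzW (z⁻¹ * h * z)).mpr
          apply this
          have e : z * (z⁻¹ * h * z) * z⁻¹ = h := by group
          rw [e]; exact hh
        have h3 : h ∈ W ⊓ W.map (MulAut.conj z).toMonoidHom := by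
          refine ⟨hh, z⁻¹ * h * z, h2, ?_⟩
          simp only [MulEquiv.coe_toMonoidHom, MulAut.conj_apply]
          group
        rw [hbot] at h3
        exact h3
      rw [hWbot, Subgroup.card_bot] at hW
      omega
  · exact le_inf Subgroup.le_normalizer hWN

/-- (d) every element of `N ∖ P` lies in a subgroup of `N` of order `w` (given one exists). -/
theorem exists_mem_of_notMem (hP : Nat.card P = p) (hC : Subgroup.centralizer (P : Set G) ≤ P)
    (W : Subgroup G) (hWN : W ≤ Subgroup.normalizer (P : Set G))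
    (hW : Nat.card W = P.relIndex (Subgroup.normalizer (P : Set G)))
    (g : G) (hgN : g ∈ Subgroup.normalizer (P : Set G)) (hgP : g ∉ P) :
    ∃ W' : Subgroup G, W' ≤ Subgroup.normalizer (P : Set G) ∧
      Nat.card W' = P.relIndex (Subgroup.normalizer (P : Set G)) ∧ g ∈ W' ∧
      ∃ y ∈ P, W' = W.map (MulAut.conj y).toMonoidHom := by
  obtain ⟨z, hz, v, hv, rfl⟩ := exists_mul P p hP hC W hWN hW g hgN
  have hvP : v ∉ P := fun h => hgP (P.mul_mem hz h)
  obtain ⟨y, hy, hyv⟩ := key_conj P p hP hC v (hWN hv) hvP z hz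
  refine ⟨W.map (MulAut.conj y).toMonoidHom, conj_le_normalizer P W hWN y hy,
    by rw [card_conj, hW], ⟨v, hv, ?_⟩, y, hy, rfl⟩
  simp only [MulEquiv.coe_toMonoidHom, MulAut.conj_apply]
  exact hyv

/-- (e) Schur–Zassenhaus: a subgroup of `N` of order `w` exists. -/
theorem exists_compl (hP : Nat.card P = p) (hC : Subgroup.centralizer (P : Set G) ≤ P) :
    ∃ W : Subgroup G, W ≤ Subgroup.normalizer (P : Set G) ∧
      Nat.card W = P.relIndex (Subgroup.normalizer (P : Set G)) := by
  haveI : (P.subgroupOf (Subgroup.normalizer (P : Set G))).Normal :=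
    Subgroup.normal_in_normalizer
  have hcop : Nat.Coprime (Nat.card (P.subgroupOf (Subgroup.normalizer (P : Set G))))
      (P.subgroupOf (Subgroup.normalizer (P : Set G))).index := by
    have h2 : Nat.card (P.subgroupOf (Subgroup.normalizer (P : Set G))) = Nat.card P :=
      Nat.card_congr (Subgroup.subgroupOfEquivOfLe Subgroup.le_normalizer).toEquiv
    rw [h2, hP]
    exact (coprime_relIndex P p hP hC).symm
  obtain ⟨K, hK⟩ := Subgroup.exists_right_complement'_of_coprime hcop
  refine ⟨K.map (Subgroup.normalizer (P : Set G)).subtype, ?_, ?_⟩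
  · rintro _ ⟨g, _, rfl⟩
    exact g.2
  · rw [Subgroup.card_map_of_injective (Subgroup.subtype_injective _)]
    exact hK.symm.index_eq_card.symm

end Cfsg.Agent.Helper2.BR996G3
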