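import Mathlib

set_option autoImplicit false

namespace Cfsg.Agent.Helper2

open scoped Pointwise

variable {G : Type*} [Group G]

theorem mem_sylow_smul_iff {p : ℕ} (P : Sylow p G) (h a : G) :
    a ∈ h • P ↔ h⁻¹ * a * h ∈ P := by
  have : a ∈ ((h • P : Sylow p G) : Subgroup G) ↔ a ∈ MulAut.conj h • (P : Subgroup G) := by
    rw [Sylow.coe_subgroup_smul]
  show a ∈ ((h • P : Sylow p G) : Subgroup G) ↔ _
  rw [this, Subgroup.mem_pointwise_smul_iff_inv_smul_mem]
  simp [MulAut.smul_def, MulAut.conj_inv_apply]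
  rfl

/-- If `u` is isolated in the Sylow subgroup `P` (its only conjugate in `P` is itself),
and `u`, `w` lie in a common `2`-subgroup `Q` with `w` conjugate to `u`, then `w = u`. -/
theorem isolated_common [Finite G] {p : ℕ} [Fact p.Prime] (P : Sylow p G) (u : G)
    (hiso : ∀ g : G, g * u * g⁻¹ ∈ P → g * u * g⁻¹ = u) (Q : Subgroup G) (hQ : IsPGroup p Q)
    (huQ : u ∈ Q) (g : G) (hw : g * u * g⁻¹ ∈ Q) : g * u * g⁻¹ = u := by
  obtain ⟨P', hP'⟩ := hQ.exists_le_sylow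
  obtain ⟨h, hh⟩ := MulAction.exists_smul_eq G P P'
  have h1 : h⁻¹ * u * h ∈ P := by
    rw [← mem_sylow_smul_iff, hh]; exact hP' huQ
  have h2 : h⁻¹ * (g * u * g⁻¹) * h ∈ P := by
    rw [← mem_sylow_smul_iff, hh]; exact hP' hw
  have e1 : h⁻¹ * u * h = u := by
    have := hiso h⁻¹ (by simpa using h1)
    simpa using this
  have e2 : h⁻¹ * (g * u * g⁻¹) * h = u := by
    have h3 : h⁻¹ * (g * u * g⁻¹) * h = (h⁻¹ * g) * u * (h⁻¹ * g)⁻¹ := by group
    rw [h3] at h2 ⊢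
    exact hiso _ h2
  have : h⁻¹ * (g * u * g⁻¹) * h = h⁻¹ * u * h := e2.trans e1.symm
  have h4 := mul_right_cancel this
  exact mul_left_cancel h4

end Cfsg.Agent.Helper2
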