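import Mathlib
import Cfsg.Agent.Lib.Helper2.Isolated

set_option autoImplicit false

namespace Cfsg.Agent.Helper2

open scoped Pointwise

variable {G : Type*} [Group G]

/-- the image in `G` of a Sylow subgroup of a subgroup `K` is a maximal `p`-subgroup of `K` -/
theorem sylow_map_maximal {p : ℕ} (K : Subgroup G) (S : Sylow p ↥K) :
    IsPGroup p ((S : Subgroup K).map K.subtype) ∧ (S : Subgroup K).map K.subtype ≤ K ∧
    ∀ Q : Subgroup G, IsPGroup p Q → (S : Subgroup K).map K.subtype ≤ Q → Q ≤ K →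
      Q = (S : Subgroup K).map K.subtype := by
  refine ⟨S.2.map _, Subgroup.map_subtype_le _, ?_⟩
  intro Q hQ hSQ hQK
  have h1 : IsPGroup p (Q.subgroupOf K) := hQ.comap_subtype
  have h2 : (S : Subgroup K) ≤ Q.subgroupOf K := by
    rw [Subgroup.subgroupOf, ← Subgroup.map_le_iff_le_comap]; exact hSQ
  have h3 := S.is_maximal' h1 h2
  rw [← h3, Subgroup.map_subgroupOf_eq_of_le hQK]

/-- a `p`-subgroup `X` of `G` inside `K` is conjugate by an element of `K` into the image of any
given Sylow `p`-subgroup of `K` -/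
theorem exists_conj_mem_sylow_map [Finite G] {p : ℕ} [Fact p.Prime] (K : Subgroup G) (S : Sylow p ↥K)
    (X : Subgroup G) (hX : IsPGroup p X) (hXK : X ≤ K) :
    ∃ k ∈ K, ∀ x ∈ X, k⁻¹ * x * k ∈ (S : Subgroup K).map K.subtype := by
  have h1 : IsPGroup p (X.subgroupOf K) := hX.comap_subtype
  obtain ⟨Q, hQ⟩ := h1.exists_le_sylow
  obtain ⟨k, hk⟩ := MulAction.exists_smul_eq K S Q
  refine ⟨k, k.2, ?_⟩
  intro x hx
  have h2 : (⟨x, hXK hx⟩ : K) ∈ k • S := by
    rw [hk]; apply hQ
    rw [Subgroup.mem_subgroupOf]; exact hx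
  rw [mem_sylow_smul_iff] at h2
  exact ⟨_, h2, by simp⟩

/-- normalizers grow in `p`-groups: if `T ≤ R`, `R` a finite `p`-group, `T ≠ R`,
then some `r ∈ R \ T` normalizes `T`. -/
theorem exists_normalizer_not_mem [Finite G] {p : ℕ} [Fact p.Prime] (T R : Subgroup G)
    (hR : IsPGroup p R) (hTR : T ≤ R) (hne : T ≠ R) :
    ∃ r ∈ R, r ∉ T ∧ r ∈ Subgroup.normalizer (T : Set G) := by
  haveI : Group.IsNilpotent R := hR.isNilpotent
  have hnc := Group.normalizerCondition_of_isNilpotent (G := R)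
  have hlt : T.subgroupOf R < ⊤ := by
    rw [lt_top_iff_ne_top]
    intro h
    apply hne
    rw [Subgroup.subgroupOf_eq_top] at h
    exact le_antisymm hTR h
  have h1 := hnc _ hlt
  obtain ⟨r, hr1, hr2⟩ := SetLike.exists_of_lt h1
  refine ⟨r, r.2, ?_, ?_⟩
  · intro h; apply hr2; rw [Subgroup.mem_subgroupOf]; exact h
  · rw [Subgroup.mem_normalizer_iff] at hr1 ⊢
    intro x
    constructor
    · intro hx
      have := (hr1 ⟨x, hTR hx⟩).mp (by rw [Subgroup.mem_subgroupOf]; exact hx)
      rw [Subgroup.mem_subgroupOf] at this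
      simpa using this
    · intro hx
      have hxR : x ∈ R := by
        have h2 : x = (r : G)⁻¹ * ((r : G) * x * (r : G)⁻¹) * r := by group
        rw [h2]
        exact R.mul_mem (R.mul_mem (R.inv_mem r.2) (hTR hx)) r.2
      have := (hr1 ⟨x, hxR⟩).mpr (by rw [Subgroup.mem_subgroupOf]; simpa using hx)
      rw [Subgroup.mem_subgroupOf] at this
      exact this

end Cfsg.Agent.Helper2

namespace Cfsg.Agent.Helper2

theorem sylow_card_of_card_eq {G : Type*} [Group G] [Finite G] {p a m : ℕ} [hp : Fact p.Prime]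
    (P : Sylow p G) (h : Nat.card G = p ^ a * m) (hm : ¬ p ∣ m) : Nat.card P = p ^ a := by
  have hm0 : m ≠ 0 := by
    rintro rfl
    exact hm (dvd_zero p)
  rw [Sylow.card_eq_multiplicity, h]
  congr 1
  rw [Nat.factorization_mul (pow_ne_zero _ hp.out.ne_zero) hm0, Finsupp.add_apply,
    Nat.factorization_pow, Finsupp.smul_apply, hp.out.factorization_self,
    Nat.factorization_eq_zero_of_not_dvd hm]
  simp

end Cfsg.Agent.Helper2
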