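import Mathlib

set_option autoImplicit false

namespace Cfsg.Agent.Helper2

open Matrix

/-- `|GL_n(F)| = |SL_n(F)| * |Fˣ|` for nonempty index type -/
theorem card_GL_eq_card_SL_mul {n : Type*} [Fintype n] [DecidableEq n] [Nonempty n]
    {F : Type*} [Field F] [Fintype F] :
    Nat.card (GL n F) = Nat.card (SpecialLinearGroup n F) * Nat.card Fˣ := by
  classical
  let d : GL n F →* Fˣ := GeneralLinearGroup.det
  have h1 : Nat.card d.ker * d.ker.index = Nat.card (GL n F) := Subgroup.card_mul_index d.ker
  have h2 : d.ker.index = Nat.card Fˣ := by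
    rw [Subgroup.index_ker, MonoidHom.range_eq_top.mpr GeneralLinearGroup.det_surjective,
      Subgroup.card_top]
  have h3 : Nat.card (SpecialLinearGroup n F) = Nat.card d.ker := by
    apply Nat.card_congr
    refine Equiv.ofBijective (fun g => ⟨SpecialLinearGroup.toGL g, ?_⟩) ⟨?_, ?_⟩
    · rw [MonoidHom.mem_ker]
      ext
      simp [d]
    · intro a b h
      simp only [Subtype.mk.injEq] at h
      exact SpecialLinearGroup.toGL_injective h
    · rintro ⟨g, hg⟩
      rw [MonoidHom.mem_ker] at hg
      have hdet : (g : Matrix n n F).det = 1 := by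
        have := congrArg Units.val hg
        simpa [d] using this
      refine ⟨⟨(g : Matrix n n F), hdet⟩, ?_⟩
      ext
      rfl
  rw [h3, ← h2, h1]

theorem card_units_field {F : Type*} [Field F] [Fintype F] : Nat.card Fˣ = Fintype.card F - 1 := by
  classical
  rw [Nat.card_eq_fintype_card, Fintype.card_units]

end Cfsg.Agent.Helper2

namespace Cfsg.Agent.Helper2

open Matrix

theorem card_rootsOfUnity_field {F : Type*} [Field F] [Fintype F] (k : ℕ) :
    Nat.card (rootsOfUnity k F) = Nat.gcd k (Fintype.card F - 1) := by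
  classical
  have h : (rootsOfUnity k F : Subgroup Fˣ) = (powMonoidHom k : Fˣ →* Fˣ).ker := by
    ext x
    simp [mem_rootsOfUnity, MonoidHom.mem_ker]
  rw [h, IsCyclic.card_powMonoidHom_ker, card_units_field, Nat.gcd_comm]

theorem card_center_SL {F : Type*} [Field F] [Fintype F] (n : ℕ) (hn : 1 ≤ n) :
    Nat.card (Subgroup.center (SpecialLinearGroup (Fin n) F)) = Nat.gcd n (Fintype.card F - 1) := by
  haveI : NeZero n := ⟨by omega⟩
  have e := SpecialLinearGroup.center_equiv_rootsOfUnity' (n := Fin n) (R := F) (0 : Fin n)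
  rw [Nat.card_congr e.toEquiv, Fintype.card_fin, card_rootsOfUnity_field]

theorem card_SL_mul {F : Type*} [Field F] [Fintype F] (n : ℕ) (hn : 1 ≤ n) :
    (Fintype.card F - 1) * Nat.card (SpecialLinearGroup (Fin n) F) =
      ∏ i : Fin n, (Fintype.card F ^ n - Fintype.card F ^ (i : ℕ)) := by
  haveI : NeZero n := ⟨by omega⟩
  rw [← Matrix.card_GL_field, card_GL_eq_card_SL_mul, card_units_field, mul_comm]

theorem card_PSL_mul {F : Type*} [Field F] [Fintype F] (n : ℕ) (hn : 1 ≤ n) :
    Nat.gcd n (Fintype.card F - 1) * ((Fintype.card F - 1) * Nat.card (ProjectiveSpecialLinearGroup (Fin n) F)) =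
      ∏ i : Fin n, (Fintype.card F ^ n - Fintype.card F ^ (i : ℕ)) := by
  rw [← card_SL_mul n hn, ← card_center_SL n hn]
  have h := Subgroup.card_eq_card_quotient_mul_card_subgroup
    (Subgroup.center (SpecialLinearGroup (Fin n) F))
  have h' : Nat.card (ProjectiveSpecialLinearGroup (Fin n) F) =
      Nat.card (SpecialLinearGroup (Fin n) F ⧸ Subgroup.center (SpecialLinearGroup (Fin n) F)) := rfl
  rw [h, h']
  ring

end Cfsg.Agent.Helper2
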