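import Mathlib
import Cfsg.Agent.Lib.Helper2.CardSL

set_option autoImplicit false

namespace Cfsg.Agent.Helper2

open Matrix

open Classical in
/-- an injective hom into `Perm α` whose image has index two gives an iso onto the alternating group -/
theorem equiv_alternating_of_injective {G α : Type*} [Group G] [Finite G] [Fintype α] (n : ℕ)
    (hα : Fintype.card α = n) (φ : G →* Equiv.Perm α) (hinj : Function.Injective φ)
    (hcard : Nat.card G * 2 = Nat.factorial n) :
    Nonempty (G ≃* alternatingGroup (Fin n)) := by
  have hrange_card : Nat.card φ.range = Nat.card G :=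
    (Nat.card_congr (MonoidHom.ofInjective hinj).toEquiv).symm
  have hperm : Nat.card (Equiv.Perm α) = Nat.factorial n := by
    rw [Nat.card_perm, Nat.card_eq_fintype_card, hα]
  have hidx : φ.range.index = 2 := by
    have h := Subgroup.card_mul_index φ.range
    rw [hrange_card, hperm, ← hcard] at h
    have hpos : 0 < Nat.card G := Nat.card_pos
    exact Nat.eq_of_mul_eq_mul_left hpos h
  have halt := Equiv.Perm.eq_alternatingGroup_of_index_eq_two hidx
  have e1 : G ≃* φ.range := MonoidHom.ofInjective hinj
  have e2 : φ.range ≃* alternatingGroup α := MulEquiv.subgroupCongr halt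
  have e3 : α ≃ Fin n := Fintype.equivFinOfCardEq hα
  exact ⟨(e1.trans e2).trans (Equiv.altCongrHom e3)⟩

open Classical in
/-- an injective hom into `Perm α` with `|G| = |α|!` is an iso -/
theorem equiv_perm_of_injective {G α : Type*} [Group G] [Finite G] [Fintype α] (n : ℕ)
    (hα : Fintype.card α = n) (φ : G →* Equiv.Perm α) (hinj : Function.Injective φ)
    (hcard : Nat.card G = Nat.factorial n) :
    Nonempty (G ≃* Equiv.Perm (Fin n)) := by
  have hperm : Nat.card (Equiv.Perm α) = Nat.factorial n := by
    rw [Nat.card_perm, Nat.card_eq_fintype_card, hα]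
  have hbij : Function.Bijective φ := by
    rw [Nat.bijective_iff_injective_and_card]
    exact ⟨hinj, by rw [hcard, hperm]⟩
  have e1 : G ≃* Equiv.Perm α := MulEquiv.ofBijective φ hbij
  have e3 : α ≃ Fin n := Fintype.equivFinOfCardEq hα
  exact ⟨e1.trans e3.permCongrHom⟩

open scoped LinearAlgebra.Projectivization in
theorem card_projectiveLine {F : Type*} [Field F] [Fintype F] :
    Nat.card (ℙ F (Fin 2 → F)) = Fintype.card F + 1 := by
  rw [Projectivization.card_of_finrank_two F (Fin 2 → F) (by simp), Nat.card_eq_fintype_card]

end Cfsg.Agent.Helper2
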