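import Mathlib
import Cfsg.Agent.Lib.Helper2.SylowSub
import Cfsg.Agent.Lib.Helper2.PermIso

set_option autoImplicit false

namespace Cfsg.Agent.Helper2

/-- a finite simple group acts faithfully on the cosets of a proper subgroup -/
theorem simple_toPermHom_injective {G : Type*} [Group G] [IsSimpleGroup G]
    (H : Subgroup G) (hH : H ≠ ⊤) : Function.Injective (MulAction.toPermHom G (G ⧸ H)) := by
  rw [← MonoidHom.ker_eq_bot_iff, ← Subgroup.normalCore_eq_ker]
  rcases (H.normalCore_normal).eq_bot_or_eq_top with h1 | h1
  · exact h1
  · exfalso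
    apply hH
    rw [eq_top_iff, ← h1]
    exact H.normalCore_le

theorem simple_card_dvd_factorial_index' {G : Type*} [Group G] [Finite G] [IsSimpleGroup G]
    (H : Subgroup G) (hH : H ≠ ⊤) : Nat.card G ∣ Nat.factorial H.index := by
  have hinj := simple_toPermHom_injective H hH
  have h1 : Nat.card G = Nat.card (MulAction.toPermHom G (G ⧸ H)).range :=
    Nat.card_congr (MonoidHom.ofInjective hinj).toEquiv
  rw [h1, Subgroup.index_eq_card, ← Nat.card_perm]
  exact Subgroup.card_subgroup_dvd_card _

/-- A simple group of order 60 has exactly five Sylow 2-subgroups. -/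
theorem simple_sixty_index_normalizer {G : Type*} [Group G] [Finite G] [IsSimpleGroup G]
    (h : Nat.card G = 60) (P : Sylow 2 G) :
    (Subgroup.normalizer (P : Set G)).index = 5 := by
  have hP4 : Nat.card P = 4 := by
    have := sylow_card_of_card_eq (p := 2) (a := 2) (m := 15) P (by rw [h]; norm_num) (by decide)
    simpa using this
  have hPidx : (P : Subgroup G).index = 15 := by
    have := (P : Subgroup G).card_mul_index
    rw [h, hP4] at this
    omega
  have hdvd : (Subgroup.normalizer (P : Set G)).index ∣ 15 := by
    rw [← Sylow.card_eq_index_normalizer, ← hPidx]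
    exact Sylow.card_dvd_index P
  have hNcard := (Subgroup.normalizer (P : Set G)).card_mul_index
  rw [h] at hNcard
  have hle : (P : Subgroup G) ≤ Subgroup.normalizer (P : Set G) := Subgroup.le_normalizer
  have hdiv : (Subgroup.normalizer (P : Set G)).index ∈ Nat.divisors 15 := by
    rw [Nat.mem_divisors]; exact ⟨hdvd, by norm_num⟩
  have hdivs : Nat.divisors 15 = {1, 3, 5, 15} := by decide
  rw [hdivs] at hdiv
  simp only [Finset.mem_insert, Finset.mem_singleton] at hdiv
  rcases hdiv with h1 | h3 | h5 | h15
  · -- P normal
    exfalso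
    rw [Subgroup.index_eq_one] at h1
    have hn : (P : Subgroup G).Normal := Subgroup.normalizer_eq_top_iff.mp h1
    rcases hn.eq_bot_or_eq_top with hb | ht
    · rw [hb] at hP4; simp at hP4
    · rw [ht] at hP4; rw [Subgroup.card_top, h] at hP4; omega
  · exfalso
    have hne : Subgroup.normalizer (P : Set G) ≠ ⊤ := by
      intro ht; rw [ht, Subgroup.index_top] at h3; omega
    have := simple_card_dvd_factorial_index' _ hne
    rw [h, h3] at this
    revert this; decide
  · exact h5
  · exfalso
    have hN4 : Nat.card (Subgroup.normalizer (P : Set G)) = 4 := by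
      rw [h15] at hNcard; omega
    have hNP : Subgroup.normalizer (P : Set G) = P := by
      symm
      apply Subgroup.eq_of_le_of_card_ge hle
      rw [hN4, hP4]
    have hcomm : IsMulCommutative P :=
      IsPGroup.isMulCommutative_of_card_eq_prime_sq (p := 2) (by simpa using hP4)
    have hNC : Subgroup.normalizer (P : Set G) ≤ Subgroup.centralizer (P : Set G) := by
      rw [hNP]
      intro x hx y hy
      have := hcomm.is_comm.comm (⟨y, hy⟩ : P) ⟨x, hx⟩
      exact congrArg Subtype.val this
    have hcompl := MonoidHom.ker_transferSylow_isComplement' P hNC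
    have hcard := hcompl.card_mul_card
    rw [h] at hcard
    have hP4' : Nat.card (P : Subgroup G) = 4 := hP4
    rw [hP4'] at hcard
    rcases (MonoidHom.normal_ker (MonoidHom.transferSylow P hNC)).eq_bot_or_eq_top with hb | ht
    · rw [hb] at hcard; simp at hcard
    · rw [ht, Subgroup.card_top, h] at hcard; omega

/-- A simple group of order 60 is isomorphic to `A₅`. -/
theorem simple_sixty_equiv_alternating {G : Type*} [Group G] [Finite G] [IsSimpleGroup G]
    (h : Nat.card G = 60) : Nonempty (G ≃* alternatingGroup (Fin 5)) := by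
  have hfact : Fact (Nat.Prime 2) := ⟨Nat.prime_two⟩
  obtain ⟨P⟩ : Nonempty (Sylow 2 G) := inferInstance
  have hidx := simple_sixty_index_normalizer h P
  set N := Subgroup.normalizer (P : Set G) with hN
  have hne : N ≠ ⊤ := by
    intro ht; rw [ht, Subgroup.index_top] at hidx; omega
  let _ : Fintype (G ⧸ N) := Fintype.ofFinite _
  refine equiv_alternating_of_injective 5 ?_ (MulAction.toPermHom G (G ⧸ N))
    (simple_toPermHom_injective N hne) (by rw [h]; decide)
  rw [← Nat.card_eq_fintype_card, ← Subgroup.index_eq_card, hidx]

end Cfsg.Agent.Helper2
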