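import Mathlib

set_option autoImplicit false

namespace Cfsg.Agent.Helper2

open Matrix

/-- a ring isomorphism induces an isomorphism of special linear groups -/
def slMapEquiv {n : Type*} [DecidableEq n] [Fintype n] {R S : Type*} [CommRing R] [CommRing S]
    (e : R ≃+* S) : SpecialLinearGroup n R ≃* SpecialLinearGroup n S where
  toFun := SpecialLinearGroup.map e.toRingHom
  invFun := SpecialLinearGroup.map e.symm.toRingHom
  left_inv g := by
    apply Subtype.ext
    ext i j
    simp
  right_inv g := by
    apply Subtype.ext
    ext i j
    simp
  map_mul' := map_mul _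

theorem slMapEquiv_coe {n : Type*} [DecidableEq n] [Fintype n] {R S : Type*} [CommRing R]
    [CommRing S] (e : R ≃+* S) (g : SpecialLinearGroup n R) (i j : n) :
    (slMapEquiv e g).1 i j = e (g.1 i j) := rfl

end Cfsg.Agent.Helper2
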