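import Mathlib
import Cfsg.Agent.Lib.Helper2.SLMapEquiv

set_option autoImplicit false

namespace Cfsg.Agent.Helper2

open Matrix

/-- a group isomorphism maps the center onto the center -/
theorem map_center_mulEquiv {G H : Type*} [Group G] [Group H] (e : G ≃* H) :
    (Subgroup.center G).map e.toMonoidHom = Subgroup.center H := by
  ext h
  simp only [Subgroup.mem_map, Subgroup.mem_center_iff, MulEquiv.coe_toMonoidHom]
  constructor
  · rintro ⟨g, hg, rfl⟩ k
    obtain ⟨k', rfl⟩ := e.surjective k
    rw [← map_mul, ← map_mul, hg k']
  · intro hh
    refine ⟨e.symm h, fun k => ?_, e.apply_symm_apply h⟩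
    apply e.injective
    rw [map_mul, map_mul, e.apply_symm_apply, hh (e k)]

/-- a group isomorphism induces an isomorphism of the central quotients -/
noncomputable def quotientCenterCongr {G H : Type*} [Group G] [Group H] (e : G ≃* H) :
    G ⧸ Subgroup.center G ≃* H ⧸ Subgroup.center H :=
  QuotientGroup.congr (Subgroup.center G) (Subgroup.center H) e (map_center_mulEquiv e)

/-- a ring isomorphism induces an isomorphism of projective special linear groups -/
noncomputable def pslMapEquiv {n : Type*} [DecidableEq n] [Fintype n] {R S : Type*} [CommRing R]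
    [CommRing S] (e : R ≃+* S) :
    ProjectiveSpecialLinearGroup n R ≃* ProjectiveSpecialLinearGroup n S :=
  quotientCenterCongr (slMapEquiv e)

end Cfsg.Agent.Helper2
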