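import Mathlib
import Cfsg.Agent.Lib.Helper12.SL2Upper
import Cfsg.Agent.Lib.Helper2.Isolated
import Cfsg.Agent.Lib.Helper2.SylowSub

set_option autoImplicit false

namespace Cfsg.Agent.Helper2.SL2S

open Matrix Matrix.SpecialLinearGroup
open scoped MatrixGroups

variable {F : Type*} [Field F]

/-- the upper unitriangular element -/
abbrev u (b : F) : SL(2, F) := transvection (zero_ne_one : (0 : Fin 2) ≠ 1) b

/-- the lower unitriangular element -/
abbrev v (b : F) : SL(2, F) := transvection (one_ne_zero : (1 : Fin 2) ≠ 0) b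

theorem u_coe (b : F) : ((u b : SL(2, F)) : Matrix (Fin 2) (Fin 2) F) = !![1, b; 0, 1] := by
  ext i j; fin_cases i <;> fin_cases j <;> simp [transvection_coe]

theorem v_coe (b : F) : ((v b : SL(2, F)) : Matrix (Fin 2) (Fin 2) F) = !![1, 0; b, 1] := by
  ext i j; fin_cases i <;> fin_cases j <;> simp [transvection_coe]

theorem u_add (b c : F) : u (b + c) = u b * u c := transvection_add _ b c

theorem u_zero : u (0 : F) = 1 := transvection_coeff_zero _

theorem u_inv (b : F) : (u b)⁻¹ = u (-b) := transvection_inv _ b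

theorem u_injective : Function.Injective (u : F → SL(2, F)) := by
  intro b c h
  have := congrArg (fun g : SL(2, F) => (g : Matrix (Fin 2) (Fin 2) F) 0 1) h
  simpa [u_coe] using this

/-- `b ↦ u b` as a homomorphism -/
def uHom : Multiplicative F →* SL(2, F) where
  toFun b := u (Multiplicative.toAdd b)
  map_one' := u_zero
  map_mul' _ _ := u_add _ _

/-- the upper unitriangular subgroup of `SL₂` -/
def U (F : Type*) [Field F] : Subgroup SL(2, F) := (uHom (F := F)).range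

theorem mem_U_iff (g : SL(2, F)) : g ∈ U F ↔ ∃ b : F, u b = g := by
  constructor
  · rintro ⟨b, rfl⟩; exact ⟨Multiplicative.toAdd b, rfl⟩
  · rintro ⟨b, rfl⟩; exact ⟨Multiplicative.ofAdd b, rfl⟩

theorem u_mem (b : F) : u b ∈ U F := (mem_U_iff _).mpr ⟨b, rfl⟩

theorem card_U [Fintype F] : Nat.card (U F) = Fintype.card F := by
  have hinj : Function.Injective (uHom (F := F)) := by
    intro b c h
    exact Multiplicative.toAdd.injective (u_injective h)
  rw [U, ← Nat.card_congr (MonoidHom.ofInjective hinj).toEquiv, ← Nat.card_eq_fintype_card]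
  exact Nat.card_congr Multiplicative.toAdd

/-- conjugating `u t` by `k` -/
theorem conj_u_coe (k : SL(2, F)) (t : F) :
    ((k * u t * k⁻¹ : SL(2, F)) : Matrix (Fin 2) (Fin 2) F) =
      !![1 - t * k.1 0 0 * k.1 1 0, t * k.1 0 0 * k.1 0 0;
         -(t * k.1 1 0 * k.1 1 0), 1 + t * k.1 0 0 * k.1 1 0] := by
  have hdet : k.1 0 0 * k.1 1 1 - k.1 0 1 * k.1 1 0 = 1 := by
    have := k.2
    rwa [Matrix.det_fin_two] at this
  rw [coe_mul, coe_mul, coe_inv, u_coe, Matrix.adjugate_fin_two]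
  ext i j
  fin_cases i <;> fin_cases j <;>
    simp [Matrix.mul_apply, Fin.sum_univ_two]
  · linear_combination hdet
  · ring
  · ring
  · linear_combination hdet

theorem conj_u_of_lower_zero (k : SL(2, F)) (hk : k.1 1 0 = 0) (t : F) :
    k * u t * k⁻¹ = u (t * k.1 0 0 * k.1 0 0) := by
  apply Subtype.ext
  rw [conj_u_coe, u_coe, hk]
  simp

/-- if the lower left entry of `k` is nonzero then `U` and `k U k⁻¹` generate `SL₂` -/
theorem v_eq_conj (k : SL(2, F)) (hk : k.1 1 0 ≠ 0) (s : F) :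
    v s = u (-(k.1 0 0 / k.1 1 0)) * (k * u (-(s / (k.1 1 0 * k.1 1 0))) * k⁻¹) *
      u (k.1 0 0 / k.1 1 0) := by
  apply Subtype.ext
  rw [coe_mul, coe_mul, conj_u_coe, u_coe, u_coe, v_coe]
  ext i j
  fin_cases i <;> fin_cases j <;>
    simp [Matrix.mul_apply, Fin.sum_univ_two] <;> field_simp <;> ring

theorem closure_eq_top (K : Subgroup SL(2, F)) (k : SL(2, F)) (hk : k.1 1 0 ≠ 0)
    (h1 : ∀ b : F, u b ∈ K) (h2 : ∀ b : F, k * u b * k⁻¹ ∈ K) : K = ⊤ := by
  rw [eq_top_iff]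
  intro M _
  refine SL2.transvection_induction (fun M => M ∈ K) ?_ (fun A B hA hB => K.mul_mem hA hB) M
  intro i j hij c
  fin_cases i <;> fin_cases j
  · exact absurd rfl hij
  · exact h1 c
  · change v c ∈ K
    rw [v_eq_conj k hk c]
    exact K.mul_mem (K.mul_mem (h1 _) (h2 _)) (h1 _)
  · exact absurd rfl hij


section Sylow

variable [Fintype F] (p : ℕ) [Fact p.Prime] [CharP F p]

theorem card_sylow_SL2 (P : Sylow p SL(2, F)) : Nat.card P = Fintype.card F := by
  have hp : p.Prime := Fact.out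
  obtain ⟨f, -, hqf⟩ := FiniteField.card F p
  have hcard := Cfsg.Agent.Helper12.card_SL2 (F := F)
  have hq1 : 1 < Fintype.card F := Fintype.one_lt_card
  have hnd : ¬ p ∣ Fintype.card F ^ 2 - 1 := by
    intro hdvd
    have hpq : p ∣ Fintype.card F ^ 2 := by
      rw [hqf, ← pow_mul]
      exact dvd_pow_self p (Nat.mul_ne_zero f.ne_zero (by norm_num))
    have h1 : 1 ≤ Fintype.card F ^ 2 := Nat.one_le_pow _ _ (by omega)
    have := (Nat.dvd_sub_iff_right h1 hpq).mp hdvd
    exact hp.one_lt.ne' (Nat.dvd_one.mp this)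
  have := sylow_card_of_card_eq (p := p) (a := f) (m := Fintype.card F ^ 2 - 1) P
    (by rw [hcard]; congr 1) hnd
  rw [this, hqf]

omit [Fact p.Prime] in
theorem isPGroup_U : IsPGroup p (U F) := by
  obtain ⟨f, -, hqf⟩ := FiniteField.card F p
  exact IsPGroup.of_card (n := f) (by rw [card_U, hqf])

theorem exists_sylow_eq_U : ∃ P : Sylow p SL(2, F), (P : Subgroup SL(2, F)) = U F := by
  obtain ⟨P, hP⟩ := (isPGroup_U (F := F) p).exists_le_sylow
  refine ⟨P, ?_⟩
  symm
  apply Subgroup.eq_of_le_of_card_ge hP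
  rw [card_U]
  exact (card_sylow_SL2 p P).le

theorem exists_conj_eq (P : Sylow p SL(2, F)) :
    ∃ g : SL(2, F), ∀ x : SL(2, F), x ∈ P ↔ ∃ b : F, x = g * u b * g⁻¹ := by
  obtain ⟨P0, hP0⟩ := exists_sylow_eq_U (F := F) p
  obtain ⟨g, hg⟩ := MulAction.exists_smul_eq SL(2, F) P0 P
  refine ⟨g, fun x => ?_⟩
  rw [← hg, Cfsg.Agent.Helper2.mem_sylow_smul_iff]
  change g⁻¹ * x * g ∈ (P0 : Subgroup SL(2, F)) ↔ _
  rw [hP0, mem_U_iff]
  constructor
  · rintro ⟨b, hb⟩
    exact ⟨b, by rw [hb]; group⟩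
  · rintro ⟨b, rfl⟩
    exact ⟨b, by group⟩

/-- two distinct Sylow subgroups for the characteristic generate `SL₂` -/
theorem sylow_sup_eq_top (P Q : Sylow p SL(2, F)) (h : P ≠ Q) :
    (P : Subgroup SL(2, F)) ⊔ (Q : Subgroup SL(2, F)) = ⊤ := by
  obtain ⟨g, hg⟩ := exists_conj_eq p P
  obtain ⟨k, hk⟩ := exists_conj_eq p Q
  have hne : (g⁻¹ * k).1 1 0 ≠ 0 := by
    intro h0
    apply h
    have hle : (Q : Subgroup SL(2, F)) ≤ P := by
      intro y hy
      obtain ⟨d, hd⟩ := (hk y).mp hy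
      apply (hg y).mpr
      refine ⟨d * (g⁻¹ * k).1 0 0 * (g⁻¹ * k).1 0 0, ?_⟩
      rw [← conj_u_of_lower_zero (g⁻¹ * k) h0 d, hd]
      group
    exact Sylow.ext (Q.is_maximal' P.isPGroup' hle)
  set K := (P : Subgroup SL(2, F)) ⊔ (Q : Subgroup SL(2, F)) with hK
  have hK' : K.comap (MulAut.conj g).toMonoidHom = ⊤ := by
    apply closure_eq_top _ (g⁻¹ * k) hne
    · intro b
      rw [Subgroup.mem_comap]
      simp only [MulEquiv.coe_toMonoidHom, MulAut.conj_apply]
      exact (le_sup_left : (P : Subgroup SL(2, F)) ≤ K) ((hg _).mpr ⟨b, rfl⟩)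
    · intro b
      rw [Subgroup.mem_comap]
      simp only [MulEquiv.coe_toMonoidHom, MulAut.conj_apply]
      have : g * (g⁻¹ * k * u b * (g⁻¹ * k)⁻¹) * g⁻¹ = k * u b * k⁻¹ := by group
      rw [this]
      exact (le_sup_right : (Q : Subgroup SL(2, F)) ≤ K) ((hk _).mpr ⟨b, rfl⟩)
  rw [eq_top_iff]
  intro y _
  have : g⁻¹ * y * g ∈ K.comap (MulAut.conj g).toMonoidHom := by
    rw [hK']; exact Subgroup.mem_top _
  rw [Subgroup.mem_comap] at this
  simp only [MulEquiv.coe_toMonoidHom, MulAut.conj_apply] at this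
  have h2 : g * (g⁻¹ * y * g) * g⁻¹ = y := by group
  rwa [h2] at this

end Sylow

end Cfsg.Agent.Helper2.SL2S
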