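import Mathlib
import Cfsg.Prelude.Def_KGroupFacts

set_option autoImplicit false

namespace Cfsg.Agent.Helper2.OutCongr

/-- isomorphic groups have outer automorphism groups of the same order -/
theorem card_out_congr {G H : Type*} [Group G] [Group H] (e : G ≃* H) :
    Nat.card (Cfsg.Out G) = Nat.card (Cfsg.Out H) := by
  have hmap : Subgroup.map ((MulAut.congr e : MulAut G ≃* MulAut H) : MulAut G →* MulAut H)
      (Cfsg.Inn G) = Cfsg.Inn H := by
    ext ψ
    constructor
    · rintro ⟨_, ⟨g, rfl⟩, rfl⟩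
      refine ⟨e g, ?_⟩
      apply MulEquiv.ext
      intro x
      show e g * x * (e g)⁻¹ = e (g * e.symm x * g⁻¹)
      rw [map_mul, map_mul, map_inv, MulEquiv.apply_symm_apply]
    · rintro ⟨h, rfl⟩
      refine ⟨MulAut.conj (e.symm h), ⟨_, rfl⟩, ?_⟩
      apply MulEquiv.ext
      intro x
      show e (e.symm h * e.symm x * (e.symm h)⁻¹) = h * x * h⁻¹
      rw [map_mul, map_mul, map_inv, MulEquiv.apply_symm_apply, MulEquiv.apply_symm_apply]
  exact Nat.card_congr (QuotientGroup.congr (Cfsg.Inn G) (Cfsg.Inn H) (MulAut.congr e) hmap).toEquiv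

/-- a field with `p ^ n` elements has exactly `n` automorphisms -/
theorem card_ringEquiv {F : Type*} [Field F] [Fintype F] {p n : ℕ} [hp : Fact p.Prime]
    (hF : Fintype.card F = p ^ n) : Nat.card (F ≃+* F) = n := by
  have hchar : CharP F p := charP_of_card_eq_prime_pow hF
  letI : Algebra (ZMod p) F := ZMod.algebra F p
  have hfin : Module.finrank (ZMod p) F = n := by
    have h1 := Module.card_eq_pow_finrank (K := ZMod p) (V := F)
    rw [hF, ZMod.card] at h1
    exact (Nat.pow_right_injective hp.out.two_le h1).symm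
  have h1 : Nat.card (F ≃ₐ[ZMod p] F) = n := by
    have h2 := Nat.card_eq_of_bijective _
      (FiniteField.bijective_frobeniusAlgEquivOfAlgebraic_pow (ZMod p) F)
    rw [← h2, Nat.card_eq_fintype_card, Fintype.card_fin, hfin]
  rw [← h1]
  apply Nat.card_congr
  refine ⟨fun φ => AlgEquiv.ofRingEquiv (f := φ) ?_, fun ψ => ψ.toRingEquiv, ?_, ?_⟩
  · intro x
    have h3 : ((φ : F →+* F).comp (algebraMap (ZMod p) F)) = algebraMap (ZMod p) F :=
      Subsingleton.elim _ _
    exact RingHom.congr_fun h3 x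
  · intro φ
    rfl
  · intro ψ
    rfl

end Cfsg.Agent.Helper2.OutCongr
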