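import Mathlib
import Cfsg.Agent.Lib.Helper2.SL2Sylow
import Cfsg.Agent.Lib.Helper2.PSLMapEquiv
import Cfsg.Agent.Lib.Helper2.OutCongr
import Cfsg.Agent.Lib.Helper2.CardSL

set_option autoImplicit false

namespace Cfsg.Agent.Helper2.PA

open Matrix Matrix.SpecialLinearGroup
open scoped MatrixGroups

variable {F : Type*} [Field F]

/-- descent of automorphisms to the central quotient -/
noncomputable def desc (S : Type*) [Group S] : MulAut S →* MulAut (S ⧸ Subgroup.center S) where
  toFun e := Cfsg.Agent.Helper2.quotientCenterCongr e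
  map_one' := by
    ext x
    induction x using QuotientGroup.induction_on with
    | H x => rfl
  map_mul' a b := by
    ext x
    induction x using QuotientGroup.induction_on with
    | H x => rfl

theorem desc_mk (S : Type*) [Group S] (e : MulAut S) (x : S) :
    desc S e (x : S ⧸ Subgroup.center S) = ((e x : S) : S ⧸ Subgroup.center S) := rfl

theorem conj_mul_aux {M : Type*} [Monoid M] (g gi x y : M) (h : gi * g = 1) :
    g * x * gi * (g * y * gi) = g * (x * y) * gi := by
  calc g * x * gi * (g * y * gi) = g * x * (gi * g) * y * gi := by simp only [mul_assoc]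
  _ = g * (x * y) * gi := by rw [h, mul_one]; simp only [mul_assoc]

theorem conj_cancel_aux {M : Type*} [Monoid M] (g gi x : M) (h : gi * g = 1) :
    gi * (g * x * gi) * g = x := by
  calc gi * (g * x * gi) * g = (gi * g) * x * (gi * g) := by simp only [mul_assoc]
  _ = x := by rw [h, one_mul, mul_one]

/-- conjugation by an invertible matrix on `SL₂` -/
def conjSL (g : GL (Fin 2) F) : MulAut SL(2, F) where
  toFun x := ⟨(g : Matrix (Fin 2) (Fin 2) F) * x.1 *
      ((g⁻¹ : GL (Fin 2) F) : Matrix (Fin 2) (Fin 2) F), by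
    rw [det_mul, det_mul, x.2, mul_one, ← det_mul, ← Units.val_mul, mul_inv_cancel,
      Units.val_one, det_one]⟩
  invFun x := ⟨((g⁻¹ : GL (Fin 2) F) : Matrix (Fin 2) (Fin 2) F) * x.1 *
      (g : Matrix (Fin 2) (Fin 2) F), by
    rw [det_mul, det_mul, x.2, mul_one, ← det_mul, ← Units.val_mul, inv_mul_cancel,
      Units.val_one, det_one]⟩
  left_inv x := by
    apply Subtype.ext
    exact conj_cancel_aux _ _ _ (Units.inv_mul g)
  right_inv x := by
    apply Subtype.ext
    exact conj_cancel_aux _ _ _ (Units.mul_inv g)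
  map_mul' x y := by
    apply Subtype.ext
    exact (conj_mul_aux _ _ _ _ (Units.inv_mul g)).symm

theorem conjSL_coe (g : GL (Fin 2) F) (x : SL(2, F)) :
    ((conjSL g x : SL(2, F)) : Matrix (Fin 2) (Fin 2) F) =
      (g : Matrix (Fin 2) (Fin 2) F) * x.1 *
      ((g⁻¹ : GL (Fin 2) F) : Matrix (Fin 2) (Fin 2) F) := rfl

/-- `conjSL` as a homomorphism -/
def conjSLHom : GL (Fin 2) F →* MulAut SL(2, F) where
  toFun g := conjSL g
  map_one' := by
    refine MulEquiv.ext fun x => ?_
    apply Subtype.ext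
    rw [conjSL_coe]
    simp
  map_mul' g h := by
    refine MulEquiv.ext fun x => ?_
    apply Subtype.ext
    rw [MulAut.mul_apply, conjSL_coe, conjSL_coe, conjSL_coe, _root_.mul_inv_rev, Units.val_mul,
      Units.val_mul]
    simp only [mul_assoc]

theorem conjSLHom_apply (g : GL (Fin 2) F) (x : SL(2, F)) : conjSLHom g x = conjSL g x := rfl

/-- field automorphisms acting on `SL₂` -/
def fieldSLHom : RingAut F →* MulAut SL(2, F) where
  toFun σ := Cfsg.Agent.Helper2.slMapEquiv (n := Fin 2) σ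
  map_one' := by
    ext x i j
    rw [Cfsg.Agent.Helper2.slMapEquiv_coe]
    rfl
  map_mul' σ τ := by
    ext x i j
    rw [MulAut.mul_apply, Cfsg.Agent.Helper2.slMapEquiv_coe, Cfsg.Agent.Helper2.slMapEquiv_coe,
      Cfsg.Agent.Helper2.slMapEquiv_coe]
    rfl

theorem fieldSLHom_coe (σ : RingAut F) (x : SL(2, F)) (i j : Fin 2) :
    (fieldSLHom σ x).1 i j = σ (x.1 i j) :=
  Cfsg.Agent.Helper2.slMapEquiv_coe _ _ _ _

/-- field automorphisms acting on `GL₂` -/
def fieldGLHom : RingAut F →* MulAut (GL (Fin 2) F) where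
  toFun σ := Units.mapEquiv (RingEquiv.toMulEquiv (RingEquiv.mapMatrix (m := Fin 2) σ))
  map_one' := by
    ext x i j
    rfl
  map_mul' σ τ := by
    ext x i j
    rfl

theorem fieldGLHom_coe (σ : RingAut F) (g : GL (Fin 2) F) (i j : Fin 2) :
    ((fieldGLHom σ g : GL (Fin 2) F) : Matrix (Fin 2) (Fin 2) F) i j = σ (g.1 i j) := rfl

theorem fieldGLHom_coe' (σ : RingAut F) (g : GL (Fin 2) F) :
    ((fieldGLHom σ g : GL (Fin 2) F) : Matrix (Fin 2) (Fin 2) F) =
      (g : Matrix (Fin 2) (Fin 2) F).map σ := rfl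

theorem fieldSLHom_coe' (σ : RingAut F) (x : SL(2, F)) :
    ((fieldSLHom σ x : SL(2, F)) : Matrix (Fin 2) (Fin 2) F) =
      (x : Matrix (Fin 2) (Fin 2) F).map σ := by
  ext i j
  rw [fieldSLHom_coe]
  rfl

theorem compat0 (σ : RingAut F) (g : GL (Fin 2) F) :
    conjSLHom (fieldGLHom σ g) = fieldSLHom σ * conjSLHom g * (fieldSLHom σ)⁻¹ := by
  refine MulEquiv.ext fun x => ?_
  apply Subtype.ext
  rw [MulAut.mul_apply, MulAut.mul_apply, conjSLHom_apply, conjSLHom_apply, conjSL_coe,
    fieldSLHom_coe', conjSL_coe, ← map_inv, fieldGLHom_coe', fieldGLHom_coe']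
  have h1 : ∀ A B : Matrix (Fin 2) (Fin 2) F, (A * B).map σ = A.map σ * B.map σ := by
    intro A B
    exact Matrix.map_mul (f := (σ : F →+* F))
  rw [h1, h1]
  congr 2
  have h2 := fieldSLHom_coe' σ ((fieldSLHom σ)⁻¹ x)
  rw [← h2, ← MulAut.mul_apply, mul_inv_cancel]
  rfl

/-- the semidirect product `GL₂(F) ⋊ Aut(F)` -/
abbrev GamL (F : Type*) [Field F] := GL (Fin 2) F ⋊[fieldGLHom (F := F)] RingAut F

/-- the action of `GL₂(F) ⋊ Aut(F)` on `SL₂(F)` -/
def Phi0 : GamL F →* MulAut SL(2, F) :=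
  SemidirectProduct.lift conjSLHom fieldSLHom (by
    intro σ
    ext g : 1
    rw [MonoidHom.comp_apply, MonoidHom.comp_apply, MulEquiv.coe_toMonoidHom,
      MulEquiv.coe_toMonoidHom, MulAut.conj_apply, compat0])

/-- the action of `GL₂(F) ⋊ Aut(F)` on `PSL₂(F)` -/
noncomputable def Phi : GamL F →* MulAut (ProjectiveSpecialLinearGroup (Fin 2) F) :=
  (desc SL(2, F)).comp Phi0

/-- the quotient map -/
abbrev mk2 : SL(2, F) →* ProjectiveSpecialLinearGroup (Fin 2) F :=
  QuotientGroup.mk' (Subgroup.center SL(2, F))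

theorem Phi0_apply (g : GL (Fin 2) F) (σ : RingAut F) (x : SL(2, F)) :
    Phi0 ⟨g, σ⟩ x = conjSL g (fieldSLHom σ x) := rfl

theorem Phi_mk (g : GL (Fin 2) F) (σ : RingAut F) (x : SL(2, F)) :
    Phi ⟨g, σ⟩ (mk2 x) = mk2 (conjSL g (fieldSLHom σ x)) := rfl

theorem mk2_surjective : Function.Surjective (mk2 (F := F)) := QuotientGroup.mk_surjective

theorem scalar_neg_one : (scalar (Fin 2)) (-1 : F) = -1 := by
  ext i j
  fin_cases i <;> fin_cases j <;> simp

/-- equality in `PSL₂` -/
theorem mk2_eq_iff (x y : SL(2, F)) :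
    mk2 x = mk2 y ↔ (y.1 = x.1 ∨ y.1 = -x.1) := by
  rw [QuotientGroup.mk'_eq_mk']
  constructor
  · rintro ⟨z, hz, rfl⟩
    rw [Matrix.SpecialLinearGroup.mem_center_iff] at hz
    obtain ⟨r, hr, hrz⟩ := hz
    have hr2 : r = 1 ∨ r = -1 := by
      have h1 : r * r = 1 := by
        rw [← sq]
        simpa using hr
      exact mul_self_eq_one_iff.mp h1
    rw [coe_mul, ← hrz]
    rcases hr2 with rfl | rfl
    · left
      simp
    · right
      rw [scalar_neg_one]
      simp
  · intro h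
    refine ⟨x⁻¹ * y, ?_, by group⟩
    rw [Matrix.SpecialLinearGroup.mem_center_iff]
    rcases h with h | h
    · refine ⟨1, one_pow _, ?_⟩
      have : y = x := Subtype.ext h
      rw [this, inv_mul_cancel]
      simp
    · refine ⟨-1, by simp, ?_⟩
      rw [coe_mul, h, Matrix.mul_neg, ← coe_mul, inv_mul_cancel, scalar_neg_one]
      simp

theorem mk2_eq_one_iff (x : SL(2, F)) :
    mk2 x = 1 ↔ (x.1 = 1 ∨ x.1 = -1) := by
  rw [← map_one (mk2 (F := F)), eq_comm, mk2_eq_iff]
  simp

end Cfsg.Agent.Helper2.PA
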