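import Mathlib
import Cfsg.Agent.Lib.Helper2.PslAut1

set_option autoImplicit false

namespace Cfsg.Agent.Helper2.PA

open Matrix Matrix.SpecialLinearGroup
open scoped MatrixGroups
open Cfsg.Agent.Helper2.SL2S

variable {F : Type*} [Field F]

/-- image of the upper unitriangular element in `PSL₂` -/
noncomputable abbrev ub (b : F) : ProjectiveSpecialLinearGroup (Fin 2) F := mk2 (u b)

/-- image of the lower unitriangular element in `PSL₂` -/
noncomputable abbrev vb (c : F) : ProjectiveSpecialLinearGroup (Fin 2) F := mk2 (v c)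

theorem ub_injective : Function.Injective (ub : F → ProjectiveSpecialLinearGroup (Fin 2) F) := by
  intro b c h
  rw [mk2_eq_iff, u_coe, u_coe] at h
  rcases h with h | h
  · have := congrFun (congrFun h 0) 1
    simpa using this.symm
  · have h00 := congrFun (congrFun h 0) 0
    have h01 := congrFun (congrFun h 0) 1
    simp at h00 h01
    linear_combination b * h00 - h01

theorem vb_injective : Function.Injective (vb : F → ProjectiveSpecialLinearGroup (Fin 2) F) := by
  intro b c h
  rw [mk2_eq_iff, v_coe, v_coe] at h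
  rcases h with h | h
  · have := congrFun (congrFun h 1) 0
    simpa using this.symm
  · have h00 := congrFun (congrFun h 0) 0
    have h10 := congrFun (congrFun h 1) 0
    simp at h00 h10
    linear_combination b * h00 - h10

theorem vb_ne_ub (c b : F) (hc : c ≠ 0) : vb c ≠ ub b := by
  intro h
  rw [mk2_eq_iff, v_coe, u_coe] at h
  rcases h with h | h
  · have := congrFun (congrFun h 1) 0
    simp at this
    exact hc this.symm
  · have := congrFun (congrFun h 1) 0
    simp at this
    exact hc this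

theorem ub_add (b c : F) : ub (b + c) = ub b * ub c := by
  rw [ub, u_add, map_mul]

theorem ub_zero : ub (0 : F) = 1 := by
  rw [ub, u_zero, map_one]

theorem ub_inv (b : F) : (ub b)⁻¹ = ub (-b) := by
  rw [ub, ← map_inv, u_inv]

theorem v_add (b c : F) : v (b + c) = v b * v c := transvection_add _ b c

theorem v_zero : v (0 : F) = 1 := transvection_coeff_zero _

theorem v_inv (b : F) : (v b)⁻¹ = v (-b) := transvection_inv _ b

theorem vb_add (b c : F) : vb (b + c) = vb b * vb c := by
  rw [vb, v_add, map_mul]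

theorem vb_zero : vb (0 : F) = 1 := by
  rw [vb, v_zero, map_one]

theorem vb_inv (b : F) : (vb b)⁻¹ = vb (-b) := by
  rw [vb, ← map_inv, v_inv]

/-- the image of the upper unitriangular group -/
noncomputable def Ubar (F : Type*) [Field F] :
    Subgroup (ProjectiveSpecialLinearGroup (Fin 2) F) :=
  ((mk2 (F := F)).comp (uHom (F := F))).range

theorem mem_Ubar_iff (x : ProjectiveSpecialLinearGroup (Fin 2) F) :
    x ∈ Ubar F ↔ ∃ b : F, ub b = x := by
  constructor
  · rintro ⟨b, rfl⟩; exact ⟨Multiplicative.toAdd b, rfl⟩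
  · rintro ⟨b, rfl⟩; exact ⟨Multiplicative.ofAdd b, rfl⟩

theorem ub_mem (b : F) : ub b ∈ Ubar F := (mem_Ubar_iff _).mpr ⟨b, rfl⟩

section Sylow

variable [Fintype F] (p : ℕ) [Fact p.Prime] [CharP F p]

omit [Fact p.Prime] [CharP F p] in
theorem card_Ubar : Nat.card (Ubar F) = Fintype.card F := by
  have hinj : Function.Injective ((mk2 (F := F)).comp (uHom (F := F))) := by
    intro b c h
    exact Multiplicative.toAdd.injective (ub_injective h)
  rw [Ubar, ← Nat.card_congr (MonoidHom.ofInjective hinj).toEquiv, ← Nat.card_eq_fintype_card]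
  exact Nat.card_congr Multiplicative.toAdd

omit [Fact p.Prime] in
theorem isPGroup_Ubar : IsPGroup p (Ubar F) := by
  obtain ⟨f, -, hqf⟩ := FiniteField.card F p
  exact IsPGroup.of_card (n := f) (by rw [card_Ubar, hqf])

theorem not_dvd_index_Ubar : ¬ p ∣ (Ubar F).index := by
  have hp : p.Prime := Fact.out
  obtain ⟨f, -, hqf⟩ := FiniteField.card F p
  intro hdvd
  have hcard := Cfsg.Agent.Helper12.card_SL2 (F := F)
  have h1 := Subgroup.card_eq_card_quotient_mul_card_subgroup (Subgroup.center SL(2, F))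
  have h2 := (Ubar F).card_mul_index
  rw [card_Ubar] at h2
  have hq1 : 1 < Fintype.card F := Fintype.one_lt_card
  have h3 : (Ubar F).index * Nat.card (Subgroup.center SL(2, F)) = Fintype.card F ^ 2 - 1 := by
    apply Nat.eq_of_mul_eq_mul_left (by omega : 0 < Fintype.card F)
    rw [← hcard, h1, ← mul_assoc, h2]
  have hd : p ∣ Fintype.card F ^ 2 - 1 := by
    rw [← h3]
    exact Dvd.dvd.mul_right hdvd _
  have hpq : p ∣ Fintype.card F ^ 2 := by
    rw [hqf, ← pow_mul]
    exact dvd_pow_self p (Nat.mul_ne_zero f.ne_zero (by norm_num))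
  have h1' : 1 ≤ Fintype.card F ^ 2 := Nat.one_le_pow _ _ (by omega)
  have := (Nat.dvd_sub_iff_right h1' hpq).mp hd
  exact hp.one_lt.ne' (Nat.dvd_one.mp this)

/-- every `p`-subgroup of `PSL₂` is contained in a conjugate of the unitriangular group -/
theorem exists_conj_of_pgroup (K : Subgroup (ProjectiveSpecialLinearGroup (Fin 2) F))
    (hK : IsPGroup p K) :
    ∃ s : SL(2, F), ∀ x ∈ K, ∃ b : F, x = mk2 (s * u b * s⁻¹) := by
  set P0 : Sylow p (ProjectiveSpecialLinearGroup (Fin 2) F) :=
    (isPGroup_Ubar (F := F) p).toSylow (not_dvd_index_Ubar p) with hP0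
  obtain ⟨Q, hQ⟩ := hK.exists_le_sylow
  obtain ⟨g, hg⟩ := MulAction.exists_smul_eq (ProjectiveSpecialLinearGroup (Fin 2) F) P0 Q
  obtain ⟨s, rfl⟩ := mk2_surjective g
  refine ⟨s, fun x hx => ?_⟩
  have h1 : x ∈ Q := hQ hx
  rw [← hg, Cfsg.Agent.Helper2.mem_sylow_smul_iff] at h1
  have h2 : (mk2 s)⁻¹ * x * mk2 s ∈ Ubar F := h1
  rw [mem_Ubar_iff] at h2
  obtain ⟨b, hb⟩ := h2
  refine ⟨b, ?_⟩
  rw [map_mul, map_mul, map_inv]
  change _ = mk2 s * ub b * (mk2 s)⁻¹
  rw [hb]
  group

end Sylow

end Cfsg.Agent.Helper2.PA
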