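import Mathlib
import Cfsg.Agent.Lib.Helper2.PslAut2

set_option autoImplicit false

namespace Cfsg.Agent.Helper2.PA

open Matrix Matrix.SpecialLinearGroup
open scoped MatrixGroups
open Cfsg.Agent.Helper2.SL2S

variable {F : Type*} [Field F]

/-- the Weyl element -/
def w0 : SL(2, F) := ⟨!![0, 1; -1, 0], by simp [det_fin_two]⟩

theorem w0_conj_u (b : F) : w0 * u b * w0⁻¹ = v (-b) := by
  apply Subtype.ext
  rw [conj_u_coe, v_coe]
  simp [w0]

/-- the diagonal matrices `diag(d, 1)` -/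
def dgHom : Fˣ →* GL (Fin 2) F where
  toFun d := ⟨!![(d : F), 0; 0, 1], !![((d⁻¹ : Fˣ) : F), 0; 0, 1],
    by ext i j; fin_cases i <;> fin_cases j <;> simp,
    by ext i j; fin_cases i <;> fin_cases j <;> simp⟩
  map_one' := by
    ext i j
    fin_cases i <;> fin_cases j <;> simp
  map_mul' a b := by
    ext i j
    fin_cases i <;> fin_cases j <;> simp [Matrix.mul_apply, Fin.sum_univ_two]

theorem dgHom_coe (d : Fˣ) :
    ((dgHom d : GL (Fin 2) F) : Matrix (Fin 2) (Fin 2) F) = !![(d : F), 0; 0, 1] := rfl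

theorem dgHom_inv_coe (d : Fˣ) :
    (((dgHom d)⁻¹ : GL (Fin 2) F) : Matrix (Fin 2) (Fin 2) F) =
      !![((d⁻¹ : Fˣ) : F), 0; 0, 1] := rfl

theorem conjSL_dg_u (d : Fˣ) (b : F) : conjSL (dgHom d) (u b) = u ((d : F) * b) := by
  apply Subtype.ext
  rw [conjSL_coe, dgHom_coe, dgHom_inv_coe, u_coe, u_coe]
  ext i j
  fin_cases i <;> fin_cases j <;> simp [Matrix.mul_apply, Fin.sum_univ_two]

theorem conjSL_dg_v (d : Fˣ) (c : F) :
    conjSL (dgHom d) (v c) = v (c * ((d⁻¹ : Fˣ) : F)) := by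
  apply Subtype.ext
  rw [conjSL_coe, dgHom_coe, dgHom_inv_coe, v_coe, v_coe]
  ext i j
  fin_cases i <;> fin_cases j <;> simp [Matrix.mul_apply, Fin.sum_univ_two]

theorem fieldSLHom_u (σ : RingAut F) (b : F) : fieldSLHom σ (u b) = u (σ b) := by
  apply Subtype.ext
  rw [fieldSLHom_coe', u_coe, u_coe]
  ext i j
  fin_cases i <;> fin_cases j <;> simp

theorem fieldSLHom_v (σ : RingAut F) (b : F) : fieldSLHom σ (v b) = v (σ b) := by
  apply Subtype.ext
  rw [fieldSLHom_coe', v_coe, v_coe]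
  ext i j
  fin_cases i <;> fin_cases j <;> simp

theorem fieldSLHom_one (x : SL(2, F)) : fieldSLHom (1 : RingAut F) x = x := by
  rw [map_one]
  rfl

theorem conjSL_one (x : SL(2, F)) : conjSL (1 : GL (Fin 2) F) x = x := by
  change conjSLHom 1 x = x
  rw [map_one]
  rfl

theorem Phi_dg_ub (d : Fˣ) (b : F) : Phi ⟨dgHom d, 1⟩ (ub b) = ub ((d : F) * b) := by
  rw [ub, Phi_mk, fieldSLHom_one, conjSL_dg_u]

theorem Phi_dg_vb (d : Fˣ) (c : F) :
    Phi ⟨dgHom d, 1⟩ (vb c) = vb (c * ((d⁻¹ : Fˣ) : F)) := by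
  rw [vb, Phi_mk, fieldSLHom_one, conjSL_dg_v]

theorem Phi_field_ub (σ : RingAut F) (b : F) : Phi ⟨1, σ⟩ (ub b) = ub (σ b) := by
  rw [ub, Phi_mk, fieldSLHom_u, conjSL_one]

theorem Phi_field_vb (σ : RingAut F) (b : F) : Phi ⟨1, σ⟩ (vb b) = vb (σ b) := by
  rw [vb, Phi_mk, fieldSLHom_v, conjSL_one]

theorem conjSL_toGL (s x : SL(2, F)) : conjSL (toGL s) x = s * x * s⁻¹ := by
  apply Subtype.ext
  rw [conjSL_coe, ← map_inv, coe_GL_coe_matrix, coe_GL_coe_matrix, coe_mul, coe_mul]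

/-- inner automorphisms lie in the image of `Phi` -/
theorem Phi_toGL (s : SL(2, F)) : Phi ⟨toGL s, 1⟩ = MulAut.conj (mk2 s) := by
  refine MulEquiv.ext fun x => ?_
  obtain ⟨x, rfl⟩ := mk2_surjective x
  rw [Phi_mk, fieldSLHom_one, conjSL_toGL, MulAut.conj_apply, map_mul, map_mul, map_inv]

/-- `α` maps the upper unitriangular group into itself -/
def MapsU (α : MulAut (ProjectiveSpecialLinearGroup (Fin 2) F)) : Prop :=
  ∀ b : F, ∃ b' : F, α (ub b) = ub b'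

/-- `α` maps the lower unitriangular group into itself -/
def MapsV (α : MulAut (ProjectiveSpecialLinearGroup (Fin 2) F)) : Prop :=
  ∀ b : F, ∃ b' : F, α (vb b) = vb b'

section Sylow

variable [Fintype F] (p : ℕ) [Fact p.Prime] [CharP F p]

include p in
theorem exists_mapsU (α : MulAut (ProjectiveSpecialLinearGroup (Fin 2) F)) :
    ∃ s : SL(2, F), MapsU (MulAut.conj (mk2 s) * α) := by
  have hK : IsPGroup p ((Ubar F).map α.toMonoidHom) := (isPGroup_Ubar (F := F) p).map _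
  obtain ⟨s, hs⟩ := exists_conj_of_pgroup p _ hK
  refine ⟨s⁻¹, fun b => ?_⟩
  obtain ⟨b', hb'⟩ := hs (α (ub b)) (Subgroup.mem_map_of_mem _ (ub_mem b))
  refine ⟨b', ?_⟩
  rw [MulAut.mul_apply, hb', MulAut.conj_apply, ← map_inv, ← map_mul, ← map_mul]
  congr 1
  group

theorem MapsU.exists_fun {α : MulAut (ProjectiveSpecialLinearGroup (Fin 2) F)} (h : MapsU α) :
    ∃ ψ : F → F, (∀ b, α (ub b) = ub (ψ b)) ∧ Function.Bijective ψ ∧
      (∀ b c, ψ (b + c) = ψ b + ψ c) := by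
  choose ψ hψ using h
  have hinj : Function.Injective ψ := by
    intro b c hbc
    apply ub_injective
    apply α.injective
    rw [hψ, hψ, hbc]
  refine ⟨ψ, hψ, ⟨hinj, Finite.injective_iff_surjective.mp hinj⟩, fun b c => ?_⟩
  apply ub_injective
  rw [← hψ, ub_add, map_mul, hψ, hψ, ub_add]

theorem MapsV.exists_fun {α : MulAut (ProjectiveSpecialLinearGroup (Fin 2) F)} (h : MapsV α) :
    ∃ ψ : F → F, (∀ b, α (vb b) = vb (ψ b)) ∧ Function.Bijective ψ ∧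
      (∀ b c, ψ (b + c) = ψ b + ψ c) := by
  choose ψ hψ using h
  have hinj : Function.Injective ψ := by
    intro b c hbc
    apply vb_injective
    apply α.injective
    rw [hψ, hψ, hbc]
  refine ⟨ψ, hψ, ⟨hinj, Finite.injective_iff_surjective.mp hinj⟩, fun b c => ?_⟩
  apply vb_injective
  rw [← hψ, vb_add, map_mul, hψ, hψ, vb_add]

include p in
theorem exists_mapsV (α : MulAut (ProjectiveSpecialLinearGroup (Fin 2) F)) (hU : MapsU α) :
    ∃ e : F, MapsU (MulAut.conj (ub e) * α) ∧ MapsV (MulAut.conj (ub e) * α) := by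
  obtain ⟨ψ, hψ, hbij, -⟩ := hU.exists_fun
  have hK : IsPGroup p ((Ubar F).map (α * MulAut.conj (mk2 w0)).toMonoidHom) :=
    (isPGroup_Ubar (F := F) p).map _
  obtain ⟨t, ht⟩ := exists_conj_of_pgroup p _ hK
  have ht' : ∀ c : F, ∃ b : F, α (vb c) = mk2 (t * u b * t⁻¹) := by
    intro c
    have hmem : α (vb c) ∈ (Ubar F).map (α * MulAut.conj (mk2 w0)).toMonoidHom := by
      refine ⟨ub (-c), ub_mem _, ?_⟩
      rw [MulEquiv.coe_toMonoidHom, MulAut.mul_apply, MulAut.conj_apply, ← map_inv, ← map_mul,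
        ← map_mul, w0_conj_u, neg_neg]
    exact ht _ hmem
  have ht10 : t.1 1 0 ≠ 0 := by
    intro h0
    obtain ⟨b, hb⟩ := ht' 1
    rw [conj_u_of_lower_zero t h0] at hb
    obtain ⟨b0, hb0⟩ := hbij.2 (b * t.1 0 0 * t.1 0 0)
    have h1 : α (vb 1) = α (ub b0) := by rw [hb, hψ, hb0]
    exact vb_ne_ub 1 b0 one_ne_zero (α.injective h1)
  refine ⟨-(t.1 0 0 / t.1 1 0), ?_, ?_⟩
  · intro b
    refine ⟨ψ b, ?_⟩
    rw [MulAut.mul_apply, hψ, MulAut.conj_apply, ← ub_add, ub_inv, ← ub_add]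
    congr 1
    ring
  · intro c
    obtain ⟨b, hb⟩ := ht' c
    refine ⟨-(b * (t.1 1 0 * t.1 1 0)), ?_⟩
    rw [MulAut.mul_apply, hb, MulAut.conj_apply, vb, v_eq_conj t ht10, ub, ← map_inv, ← map_mul,
      ← map_mul, u_inv, neg_neg]
    congr 4
    field_simp

theorem exists_normalize (α : MulAut (ProjectiveSpecialLinearGroup (Fin 2) F)) (hU : MapsU α)
    (hV : MapsV α) :
    ∃ d : Fˣ, MapsU (Phi ⟨dgHom d, 1⟩ * α) ∧ MapsV (Phi ⟨dgHom d, 1⟩ * α) ∧
      (Phi ⟨dgHom d, 1⟩ * α) (ub 1) = ub 1 := by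
  obtain ⟨ψ, hψ, hbij, hadd⟩ := hU.exists_fun
  obtain ⟨ψ', hψ', -, -⟩ := hV.exists_fun
  have h0 : ψ 0 = 0 := by
    have := hadd 0 0
    rw [add_zero] at this
    exact left_eq_add.mp this
  have h1 : ψ 1 ≠ 0 := by
    intro h
    exact one_ne_zero (hbij.1 (h.trans h0.symm))
  refine ⟨(Units.mk0 (ψ 1) h1)⁻¹, ?_, ?_, ?_⟩
  · intro b
    exact ⟨_, by rw [MulAut.mul_apply, hψ, Phi_dg_ub]⟩
  · intro b
    exact ⟨_, by rw [MulAut.mul_apply, hψ', Phi_dg_vb]⟩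
  · rw [MulAut.mul_apply, hψ, Phi_dg_ub]
    congr 1
    simp [h1]

end Sylow

end Cfsg.Agent.Helper2.PA
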