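import Mathlib
import Cfsg.Agent.Lib.Helper2.PslAut3

set_option autoImplicit false

namespace Cfsg.Agent.Helper2.PA

open Matrix Matrix.SpecialLinearGroup
open scoped MatrixGroups
open Cfsg.Agent.Helper2.SL2S

variable {F : Type*} [Field F]

theorem uvu_coe (β γ : F) :
    ((u β * v γ * u β : SL(2, F)) : Matrix (Fin 2) (Fin 2) F) =
      !![1 + β * γ, β * (2 + β * γ); γ, 1 + β * γ] := by
  rw [coe_mul, coe_mul, u_coe, v_coe]
  ext i j
  fin_cases i <;> fin_cases j <;> simp [Matrix.mul_apply, Fin.sum_univ_two] <;> ring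

/-- the monomial element `u b * v (-b⁻¹) * u b` -/
noncomputable def wm (b : F) : SL(2, F) := u b * v (-b⁻¹) * u b

theorem wm_coe (b : F) (hb : b ≠ 0) :
    ((wm b : SL(2, F)) : Matrix (Fin 2) (Fin 2) F) = !![0, b; -b⁻¹, 0] := by
  rw [wm, uvu_coe]
  ext i j
  fin_cases i <;> fin_cases j <;> simp <;> field_simp <;> ring

theorem wm_conj_u (b : F) (hb : b ≠ 0) (t : F) :
    wm b * u t * (wm b)⁻¹ = v (-(t * b⁻¹ * b⁻¹)) := by
  apply Subtype.ext
  rw [conj_u_coe, v_coe, wm_coe b hb]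
  simp

/-- the diagonal element `diag(t, t⁻¹)` -/
noncomputable def hd (t : F) : SL(2, F) := wm t * (wm 1)⁻¹

theorem hd_coe (t : F) (ht : t ≠ 0) :
    ((hd t : SL(2, F)) : Matrix (Fin 2) (Fin 2) F) = !![t, 0; 0, t⁻¹] := by
  rw [hd, coe_mul, coe_inv, wm_coe t ht, wm_coe 1 one_ne_zero, Matrix.adjugate_fin_two]
  ext i j
  fin_cases i <;> fin_cases j <;> simp [Matrix.mul_apply, Fin.sum_univ_two]

theorem hd_conj_u (t : F) (ht : t ≠ 0) (b : F) :
    hd t * u b * (hd t)⁻¹ = u (b * t * t) := by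
  have h10 : (hd t).1 1 0 = 0 := by rw [hd_coe t ht]; simp
  rw [conj_u_of_lower_zero _ h10, hd_coe t ht]
  simp

section core

variable {α : MulAut (ProjectiveSpecialLinearGroup (Fin 2) F)} {ψ ψ' : F → F}

theorem alpha_conj (α : MulAut (ProjectiveSpecialLinearGroup (Fin 2) F)) (x y x' y' : SL(2, F))
    (hx : α (mk2 x) = mk2 x') (hy : α (mk2 y) = mk2 y') :
    α (mk2 (x * y * x⁻¹)) = mk2 (x' * y' * x'⁻¹) := by
  simp only [map_mul, map_inv]
  rw [hx, hy]

theorem alpha_uvu (hψ : ∀ b, α (ub b) = ub (ψ b)) (hψ' : ∀ c, α (vb c) = vb (ψ' c)) (b c : F) :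
    α (mk2 (u b * v c * u b)) = mk2 (u (ψ b) * v (ψ' c) * u (ψ b)) := by
  simp only [map_mul]
  change α (ub b) * α (vb c) * α (ub b) = ub (ψ b) * vb (ψ' c) * ub (ψ b)
  rw [hψ, hψ']

/-- the relation linking the action on the two unitriangular groups -/
theorem psi'_eq (hψ : ∀ b, α (ub b) = ub (ψ b)) (hψ' : ∀ c, α (vb c) = vb (ψ' c))
    (h1 : ψ 1 = 1) (b : F) (hb : b ≠ 0) : ψ b * ψ' (-b⁻¹) = -1 := by
  have hw : α (mk2 (wm b)) = mk2 (u (ψ b) * v (ψ' (-b⁻¹)) * u (ψ b)) := alpha_uvu hψ hψ' _ _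
  have h2 := alpha_conj α _ _ _ _ hw (hψ 1)
  rw [wm_conj_u b hb 1] at h2
  change α (vb _) = _ at h2
  rw [hψ', h1, mk2_eq_iff, conj_u_coe, v_coe, uvu_coe] at h2
  have h00 : (1 + ψ b * ψ' (-b⁻¹)) * (1 + ψ b * ψ' (-b⁻¹)) = 0 := by
    rcases h2 with h2 | h2
    · have := congrFun (congrFun h2 0) 1
      simp only [Matrix.of_apply, Matrix.cons_val', Matrix.cons_val_zero, Matrix.cons_val_one,
        Matrix.cons_val_fin_one] at this
      linear_combination this
    · have := congrFun (congrFun h2 0) 1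
      simp only [Matrix.of_apply, Matrix.cons_val', Matrix.cons_val_zero, Matrix.cons_val_one,
        Matrix.cons_val_fin_one, Matrix.neg_apply] at this
      linear_combination this
  have h3 : 1 + ψ b * ψ' (-b⁻¹) = 0 := mul_self_eq_zero.mp h00
  linear_combination h3

theorem map_wm (hψ : ∀ b, α (ub b) = ub (ψ b)) (hψ' : ∀ c, α (vb c) = vb (ψ' c))
    (h1 : ψ 1 = 1) (b : F) (hb : b ≠ 0) : α (mk2 (wm b)) = mk2 (wm (ψ b)) := by
  have h2 := psi'_eq hψ hψ' h1 b hb
  have hne : ψ b ≠ 0 := by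
    intro h
    rw [h, zero_mul] at h2
    exact one_ne_zero (neg_eq_zero.mp h2.symm)
  have h3 : ψ' (-b⁻¹) = -(ψ b)⁻¹ := by
    have : ψ' (-b⁻¹) = (ψ b)⁻¹ * (ψ b * ψ' (-b⁻¹)) := by
      rw [← mul_assoc, inv_mul_cancel₀ hne, one_mul]
    rw [this, h2]
    ring
  rw [wm, alpha_uvu hψ hψ', h3, wm]

theorem psi_sq (hψ : ∀ b, α (ub b) = ub (ψ b)) (hψ' : ∀ c, α (vb c) = vb (ψ' c))
    (h1 : ψ 1 = 1) (hinj : Function.Injective ψ) (h0 : ψ 0 = 0) (b t : F) :
    ψ (b * t * t) = ψ b * ψ t * ψ t := by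
  by_cases ht : t = 0
  · rw [ht, mul_zero, h0, mul_zero]
  have hne : ψ t ≠ 0 := by
    intro h
    exact ht (hinj (h.trans h0.symm))
  have hh : α (mk2 (hd t)) = mk2 (hd (ψ t)) := by
    rw [hd, hd]
    simp only [map_mul, map_inv]
    rw [map_wm hψ hψ' h1 t ht, map_wm hψ hψ' h1 1 one_ne_zero, h1]
  have h2 := alpha_conj α _ _ _ _ hh (hψ b)
  rw [hd_conj_u t ht, hd_conj_u _ hne] at h2
  change α (ub _) = ub _ at h2
  rw [hψ] at h2
  exact ub_injective h2

end core

section fin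

variable [Fintype F]

/-- an additive bijection with `ψ (b t²) = ψ b ψ(t)²` and `ψ 1 = 1` is multiplicative -/
theorem psi_mul {ψ : F → F} (h1 : ψ 1 = 1) (hadd : ∀ b c, ψ (b + c) = ψ b + ψ c)
    (hsq : ∀ b t, ψ (b * t * t) = ψ b * ψ t * ψ t) (x b : F) : ψ (x * b) = ψ x * ψ b := by
  have hsq1 : ∀ t, ψ (t * t) = ψ t * ψ t := by
    intro t
    have := hsq 1 t
    rwa [one_mul, h1, one_mul] at this
  have h0 : ψ 0 = 0 := by
    have := hadd 0 0
    rw [add_zero] at this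
    exact left_eq_add.mp this
  have hneg : ∀ a, ψ (-a) = -ψ a := by
    intro a
    have := hadd a (-a)
    rw [add_neg_cancel, h0] at this
    exact eq_neg_of_add_eq_zero_right this.symm
  have hsub : ∀ a c, ψ (a - c) = ψ a - ψ c := by
    intro a c
    rw [sub_eq_add_neg, hadd, hneg, ← sub_eq_add_neg]
  by_cases h2 : (2 : F) = 0
  · have hchar : ringChar F = 2 := CharP.ringChar_of_prime_eq_zero Nat.prime_two (by exact_mod_cast h2)
    obtain ⟨y, rfl⟩ := FiniteField.isSquare_of_char_two hchar x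
    rw [hsq1, mul_comm (y * y) b, ← mul_assoc, hsq]
    ring
  · have hx : x = ((x + 1) / 2) * ((x + 1) / 2) - ((x - 1) / 2) * ((x - 1) / 2) := by
      field_simp
      ring
    have hxb : x * b = b * ((x + 1) / 2) * ((x + 1) / 2) - b * ((x - 1) / 2) * ((x - 1) / 2) := by
      field_simp
      ring
    rw [hxb, hsub, hsq, hsq]
    conv_rhs => rw [hx, hsub, hsq1, hsq1]
    ring

/-- the key step: a normalised automorphism acts on both unitriangular groups through one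
field automorphism -/
theorem exists_ringAut (α : MulAut (ProjectiveSpecialLinearGroup (Fin 2) F)) (hU : MapsU α)
    (hV : MapsV α) (h1 : α (ub 1) = ub 1) :
    ∃ σ : RingAut F, (∀ b, α (ub b) = ub (σ b)) ∧ (∀ c, α (vb c) = vb (σ c)) := by
  obtain ⟨ψ, hψ, hbij, hadd⟩ := hU.exists_fun
  obtain ⟨ψ', hψ', -, hadd'⟩ := hV.exists_fun
  have hψ1 : ψ 1 = 1 := by
    apply ub_injective
    rw [← hψ, h1]
  have h0 : ψ 0 = 0 := by
    have := hadd 0 0
    rw [add_zero] at this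
    exact left_eq_add.mp this
  have h0' : ψ' 0 = 0 := by
    have := hadd' 0 0
    rw [add_zero] at this
    exact left_eq_add.mp this
  have hsq := psi_sq hψ hψ' hψ1 hbij.1 h0
  have hmul := psi_mul hψ1 hadd hsq
  let f : F →+* F :=
    { toFun := ψ, map_one' := hψ1, map_mul' := hmul, map_zero' := h0, map_add' := hadd }
  let σ : RingAut F := RingEquiv.ofBijective f hbij
  have hσ : ∀ b, σ b = ψ b := fun b => rfl
  refine ⟨σ, fun b => by rw [hσ, hψ], fun c => ?_⟩
  rw [hψ']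
  congr 1
  by_cases hc : c = 0
  · rw [hc, h0', map_zero]
  have hb : -c⁻¹ ≠ 0 := neg_ne_zero.mpr (inv_ne_zero hc)
  have h2 := psi'_eq hψ hψ' hψ1 (-c⁻¹) hb
  rw [inv_neg, inv_inv, neg_neg, ← hσ, map_neg, map_inv₀] at h2
  have hne : σ c ≠ 0 := by
    intro h
    exact hc ((map_eq_zero_iff σ σ.injective).mp h)
  field_simp at h2
  linear_combination -h2

end fin

/-- an automorphism is determined by its action on the two unitriangular groups -/
theorem eq_of_agree (α β : MulAut (ProjectiveSpecialLinearGroup (Fin 2) F))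
    (hu : ∀ b : F, α (ub b) = β (ub b)) (hv : ∀ c : F, α (vb c) = β (vb c)) : α = β := by
  refine MulEquiv.ext fun x => ?_
  obtain ⟨x, rfl⟩ := mk2_surjective x
  refine SL2.transvection_induction (fun M => α (mk2 M) = β (mk2 M)) ?_ ?_ x
  · intro i j hij c
    fin_cases i <;> fin_cases j
    · exact absurd rfl hij
    · exact hu c
    · exact hv c
    · exact absurd rfl hij
  · intro A B hA hB
    rw [map_mul, map_mul, map_mul, hA, hB]

theorem eq_Phi_field (α : MulAut (ProjectiveSpecialLinearGroup (Fin 2) F)) (σ : RingAut F)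
    (hu : ∀ b, α (ub b) = ub (σ b)) (hv : ∀ c, α (vb c) = vb (σ c)) : α = Phi ⟨1, σ⟩ := by
  apply eq_of_agree
  · intro b
    rw [hu, Phi_field_ub]
  · intro c
    rw [hv, Phi_field_vb]

end Cfsg.Agent.Helper2.PA
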