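import Mathlib
import Cfsg.Agent.Lib.Helper2.PslAut4

set_option autoImplicit false

namespace Cfsg.Agent.Helper2.PA

open Matrix Matrix.SpecialLinearGroup
open scoped MatrixGroups
open Cfsg.Agent.Helper2.SL2S

variable {F : Type*} [Field F]

section Sylow

variable [Fintype F] (p : ℕ) [Fact p.Prime] [CharP F p]

include p in
/-- every automorphism of `PSL₂(F)` is induced by a semilinear map -/
theorem Phi_surjective : Function.Surjective (Phi (F := F)) := by
  intro α
  rw [← MonoidHom.mem_range]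
  obtain ⟨s, hs⟩ := exists_mapsU p α
  obtain ⟨e, hU, hV⟩ := exists_mapsV p _ hs
  obtain ⟨d, hU', hV', h1⟩ := exists_normalize _ hU hV
  obtain ⟨σ, hu, hv⟩ := exists_ringAut _ hU' hV' h1
  have h := eq_Phi_field _ σ hu hv
  rw [show ub e = mk2 (u e) from rfl, ← Phi_toGL, ← Phi_toGL] at h
  have h2 : α = (Phi ⟨dgHom d, 1⟩ * (Phi ⟨toGL (u e), 1⟩ * Phi ⟨toGL s, 1⟩))⁻¹ * Phi ⟨1, σ⟩ := by
    rw [← h]
    group
  rw [h2]
  exact mul_mem (inv_mem (mul_mem ⟨_, rfl⟩ (mul_mem ⟨_, rfl⟩ ⟨_, rfl⟩))) ⟨_, rfl⟩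

end Sylow

theorem trace_u (b : F) : ((u b : SL(2, F)) : Matrix (Fin 2) (Fin 2) F).trace = 2 := by
  rw [u_coe, Matrix.trace_fin_two]
  simp
  norm_num

theorem trace_v (b : F) : ((v b : SL(2, F)) : Matrix (Fin 2) (Fin 2) F).trace = 2 := by
  rw [v_coe, Matrix.trace_fin_two]
  simp
  norm_num

theorem trace_conjSL (g : GL (Fin 2) F) (x : SL(2, F)) :
    ((conjSL g x : SL(2, F)) : Matrix (Fin 2) (Fin 2) F).trace = x.1.trace := by
  rw [conjSL_coe]
  exact Matrix.trace_units_conj g x.1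

theorem eq_of_mk2_eq (x y : SL(2, F)) (h : mk2 x = mk2 y) (hx : x.1.trace = 2)
    (hy : y.1.trace = 2) : x = y := by
  rw [mk2_eq_iff] at h
  apply Subtype.ext
  rcases h with h | h
  · exact h.symm
  · have h2 : (2 : F) = 0 := by
      have := congrArg Matrix.trace h
      rw [Matrix.trace_neg, hx, hy] at this
      have h4 : (2 : F) * 2 = 0 := by linear_combination this
      exact mul_self_eq_zero.mp h4
    rw [h]
    ext i j
    rw [Matrix.neg_apply]
    linear_combination (x.1 i j) * h2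

theorem conjSL_mul_eq (g : GL (Fin 2) F) (x : SL(2, F)) :
    (conjSL g x).1 * g.1 = g.1 * x.1 := by
  rw [conjSL_coe, mul_assoc, Units.inv_mul, mul_one]

/-- the kernel of the action consists of scalar matrices with trivial field automorphism -/
theorem of_Phi_eq_one (g : GL (Fin 2) F) (σ : RingAut F) (h : Phi ⟨g, σ⟩ = 1) :
    σ = 1 ∧ g.1 1 0 = 0 ∧ g.1 0 1 = 0 ∧ g.1 0 0 = g.1 1 1 := by
  have hu : ∀ t : F, conjSL g (u (σ t)) = u t := by
    intro t
    have h1 := DFunLike.congr_fun h (ub t)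
    rw [MulAut.one_apply, ub, Phi_mk, fieldSLHom_u] at h1
    exact eq_of_mk2_eq _ _ h1 (by rw [trace_conjSL, trace_u]) (trace_u _)
  have hv : ∀ t : F, conjSL g (v (σ t)) = v t := by
    intro t
    have h1 := DFunLike.congr_fun h (vb t)
    rw [MulAut.one_apply, vb, Phi_mk, fieldSLHom_v] at h1
    exact eq_of_mk2_eq _ _ h1 (by rw [trace_conjSL, trace_v]) (trace_v _)
  have ku := fun t => conjSL_mul_eq g (u (σ t))
  have kv := fun t => conjSL_mul_eq g (v (σ t))
  simp only [hu, hv, u_coe, v_coe] at ku kv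
  have ku1 := ku 1
  have kv1 := kv 1
  rw [map_one] at ku1 kv1
  have e1 := congrFun (congrFun ku1 0) 0
  have e2 := congrFun (congrFun ku1 0) 1
  have e3 := congrFun (congrFun kv1 1) 1
  simp [Matrix.mul_apply, Fin.sum_univ_two] at e1 e2 e3
  have hc : g.1 1 0 = 0 := e1
  have hb : g.1 0 1 = 0 := e3
  have had : g.1 0 0 = g.1 1 1 := by linear_combination -e2
  refine ⟨?_, hc, hb, had⟩
  have hdet : g.1.det ≠ 0 := (Matrix.isUnits_det_units g).ne_zero
  rw [Matrix.det_fin_two, hc, hb, mul_zero, sub_zero] at hdet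
  have ha : g.1 0 0 ≠ 0 := left_ne_zero_of_mul hdet
  ext t
  have e4 := congrFun (congrFun (ku t) 0) 1
  simp [Matrix.mul_apply, Fin.sum_univ_two, hb] at e4
  rw [← had] at e4
  have : g.1 0 0 * (σ t - t) = 0 := by linear_combination -e4
  rcases mul_eq_zero.mp this with h0 | h0
  · exact absurd h0 ha
  · exact sub_eq_zero.mp h0

theorem hd_conj_v (t : F) (ht : t ≠ 0) (c : F) :
    hd t * v c * (hd t)⁻¹ = v (c * t⁻¹ * t⁻¹) := by
  apply Subtype.ext
  rw [coe_mul, coe_mul, coe_inv, hd_coe t ht, v_coe, v_coe, Matrix.adjugate_fin_two]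
  ext i j
  fin_cases i <;> fin_cases j <;> simp [Matrix.mul_apply, Fin.sum_univ_two, ht]
  ring

/-- `diag(z², 1)` induces an inner automorphism -/
theorem Phi_dg_sq (z : Fˣ) : Phi ⟨dgHom (z ^ 2), 1⟩ = MulAut.conj (mk2 (hd (z : F))) := by
  apply eq_of_agree
  · intro b
    rw [Phi_dg_ub, MulAut.conj_apply, ub, ub, ← map_inv, ← map_mul, ← map_mul,
      hd_conj_u _ z.ne_zero]
    congr 2
    push_cast
    ring
  · intro c
    rw [Phi_dg_vb, MulAut.conj_apply, vb, vb, ← map_inv, ← map_mul, ← map_mul,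
      hd_conj_v _ z.ne_zero]
    congr 2
    push_cast
    rw [← inv_pow]
    ring

end Cfsg.Agent.Helper2.PA
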