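import Mathlib
import Cfsg.Agent.Lib.Helper2.PslAut5

set_option autoImplicit false

namespace Cfsg.Agent.Helper2.PA

open Matrix Matrix.SpecialLinearGroup
open scoped MatrixGroups
open Cfsg.Agent.Helper2.SL2S

variable {F : Type*} [Field F]

theorem ker_Phi_le :
    (Phi (F := F)).ker ≤ (SemidirectProduct.rightHom : GamL F →* RingAut F).ker := by
  rintro ⟨g, σ⟩ h
  rw [MonoidHom.mem_ker] at h ⊢
  exact (of_Phi_eq_one g σ h).1

section fin

variable [Fintype F] (p : ℕ) [Fact p.Prime] [CharP F p]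

/-- the field-automorphism part of an automorphism of `PSL₂(F)` -/
noncomputable def piAut : MulAut (ProjectiveSpecialLinearGroup (Fin 2) F) →* RingAut F :=
  (Phi (F := F)).liftOfSurjective (Phi_surjective p) ⟨SemidirectProduct.rightHom, ker_Phi_le⟩

theorem piAut_Phi (x : GamL F) : piAut p (Phi x) = x.right :=
  MonoidHom.liftOfRightInverse_comp_apply _ _ _ _ x

theorem piAut_conj (g : ProjectiveSpecialLinearGroup (Fin 2) F) :
    piAut p (MulAut.conj g) = 1 := by
  obtain ⟨s, rfl⟩ := mk2_surjective g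
  rw [← Phi_toGL, piAut_Phi]

/-- the induced map on the outer automorphism group -/
noncomputable def piOut : Cfsg.Out (ProjectiveSpecialLinearGroup (Fin 2) F) →* RingAut F :=
  QuotientGroup.lift (Cfsg.Inn (ProjectiveSpecialLinearGroup (Fin 2) F)) (piAut p) (by
    rintro _ ⟨g, rfl⟩
    exact piAut_conj p g)

theorem piOut_mk (α : MulAut (ProjectiveSpecialLinearGroup (Fin 2) F)) :
    piOut p (QuotientGroup.mk α) = piAut p α := rfl

theorem piOut_surjective : Function.Surjective (piOut (F := F) p) := by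
  intro σ
  refine ⟨QuotientGroup.mk (Phi ⟨1, σ⟩), ?_⟩
  rw [piOut_mk, piAut_Phi]

/-- the diagonal automorphisms in the outer automorphism group -/
noncomputable def theta : Fˣ →* Cfsg.Out (ProjectiveSpecialLinearGroup (Fin 2) F) :=
  (QuotientGroup.mk' (Cfsg.Inn (ProjectiveSpecialLinearGroup (Fin 2) F))).comp
    ((Phi (F := F)).comp ((SemidirectProduct.inl).comp dgHom))

omit [Fintype F] in
theorem theta_apply (d : Fˣ) :
    theta d = QuotientGroup.mk (Phi (F := F) ⟨dgHom d, 1⟩) := rfl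

omit [Fintype F] in
theorem Phi_inl_mul (g h : GL (Fin 2) F) :
    Phi (F := F) ⟨g * h, 1⟩ = Phi ⟨g, 1⟩ * Phi ⟨h, 1⟩ := by
  rw [← map_mul]
  congr 1

theorem range_theta : (theta (F := F)).range = (piOut p).ker := by
  ext x
  rw [MonoidHom.mem_range, MonoidHom.mem_ker]
  constructor
  · rintro ⟨d, rfl⟩
    rw [theta_apply, piOut_mk, piAut_Phi]
  · intro hx
    obtain ⟨α, rfl⟩ := QuotientGroup.mk_surjective x
    obtain ⟨⟨g, σ⟩, rfl⟩ := Phi_surjective p α
    rw [piOut_mk, piAut_Phi] at hx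
    change σ = 1 at hx
    subst hx
    set d : Fˣ := Matrix.GeneralLinearGroup.det g with hd
    refine ⟨d, ?_⟩
    have hdet : (((dgHom d)⁻¹ * g : GL (Fin 2) F) : Matrix (Fin 2) (Fin 2) F).det = 1 := by
      rw [Units.val_mul, det_mul, dgHom_inv_coe, det_fin_two]
      simp [hd]
      exact inv_mul_cancel₀ (Matrix.isUnits_det_units g).ne_zero
    set s : SL(2, F) := ⟨_, hdet⟩ with hs
    have hg : g = dgHom d * toGL s := by
      apply Units.ext
      rw [Units.val_mul, coe_GL_coe_matrix, hs]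
      change _ = _ * (((dgHom d)⁻¹ * g : GL (Fin 2) F) : Matrix (Fin 2) (Fin 2) F)
      rw [← Units.val_mul, mul_inv_cancel_left]
    rw [theta_apply, hg, Phi_inl_mul, Phi_toGL, QuotientGroup.mk_mul]
    have : ((MulAut.conj (mk2 s) : MulAut (ProjectiveSpecialLinearGroup (Fin 2) F)) :
        Cfsg.Out (ProjectiveSpecialLinearGroup (Fin 2) F)) = 1 :=
      (QuotientGroup.eq_one_iff _).mpr ⟨_, rfl⟩
    rw [this, mul_one]

omit [Fintype F] in
theorem ker_theta : (theta (F := F)).ker = (powMonoidHom 2 : Fˣ →* Fˣ).range := by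
  ext d
  rw [MonoidHom.mem_ker, MonoidHom.mem_range, theta_apply, QuotientGroup.eq_one_iff]
  constructor
  · rintro ⟨x, hx⟩
    obtain ⟨s, rfl⟩ := mk2_surjective x
    rw [← Phi_toGL] at hx
    have h1 : Phi (F := F) ⟨(toGL s)⁻¹ * dgHom d, 1⟩ = 1 := by
      rw [Phi_inl_mul, ← hx, ← Phi_inl_mul, inv_mul_cancel]
      exact map_one _
    obtain ⟨-, hc, hb, had⟩ := of_Phi_eq_one _ _ h1
    have hdet : (((toGL s)⁻¹ * dgHom d : GL (Fin 2) F) : Matrix (Fin 2) (Fin 2) F).det = d := by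
      rw [Units.val_mul, det_mul, ← map_inv, coe_GL_coe_matrix, dgHom_coe, (s⁻¹).2, det_fin_two]
      simp
    rw [det_fin_two, hc, hb, mul_zero, sub_zero, ← had] at hdet
    have hne : ((toGL s)⁻¹ * dgHom d : GL (Fin 2) F).1 0 0 ≠ 0 := by
      intro h0
      rw [h0, mul_zero] at hdet
      exact d.ne_zero hdet.symm
    refine ⟨Units.mk0 _ hne, ?_⟩
    apply Units.ext
    rw [powMonoidHom_apply, Units.val_pow_eq_pow_val, Units.val_mk0, sq]
    exact hdet
  · rintro ⟨z, rfl⟩
    rw [powMonoidHom_apply, Phi_dg_sq]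
    exact ⟨_, rfl⟩

end fin

end Cfsg.Agent.Helper2.PA
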