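import Mathlib
import Cfsg.Agent.Lib.Helper2.PslAut6

set_option autoImplicit false

namespace Cfsg.Agent.Helper2.PA

open Matrix Matrix.SpecialLinearGroup
open scoped MatrixGroups

theorem isCyclic_ringAut {F : Type*} [Field F] [Fintype F] (p : ℕ) [Fact p.Prime] [CharP F p] :
    IsCyclic (RingAut F) := by
  letI : Algebra (ZMod p) F := ZMod.algebra F p
  let f : (F ≃ₐ[ZMod p] F) →* RingAut F :=
    { toFun := fun ψ => ψ.toRingEquiv, map_one' := rfl, map_mul' := fun _ _ => rfl }
  have hf : Function.Surjective f := by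
    intro φ
    refine ⟨AlgEquiv.ofRingEquiv (f := φ) ?_, rfl⟩
    intro x
    have h3 : ((φ : F →+* F).comp (algebraMap (ZMod p) F)) = algebraMap (ZMod p) F :=
      Subsingleton.elim _ _
    exact RingHom.congr_fun h3 x
  exact isCyclic_of_surjective f hf

/-- the structure of the outer automorphism group of `PSL₂(q)` -/
theorem out_psl2 {F : Type*} [Field F] [Fintype F] {p f : ℕ} [Fact p.Prime]
    (hF : Fintype.card F = p ^ f) :
    ∃ φ : Cfsg.Out (Matrix.ProjectiveSpecialLinearGroup (Fin 2) F) →* Multiplicative (ZMod f),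
      Function.Surjective φ ∧ IsCyclic φ.ker ∧ Nat.card φ.ker = Nat.gcd 2 (p ^ f - 1) := by
  haveI : CharP F p := charP_of_card_eq_prime_pow hF
  have hcard : Nat.card (RingAut F) = f := Cfsg.Agent.Helper2.OutCongr.card_ringEquiv hF
  subst hcard
  have hcyc : IsCyclic (RingAut F) := isCyclic_ringAut p
  let ε : RingAut F ≃* Multiplicative (ZMod (Nat.card (RingAut F))) :=
    (zmodCyclicMulEquiv hcyc).symm
  have hker : (ε.toMonoidHom.comp (piOut p)).ker = (piOut (F := F) p).ker := by
    ext x
    simp [MonoidHom.mem_ker]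
  refine ⟨ε.toMonoidHom.comp (piOut p), ?_, ?_, ?_⟩
  · exact ε.surjective.comp (piOut_surjective p)
  · rw [hker, ← range_theta p]
    exact isCyclic_of_surjective _ (MonoidHom.rangeRestrict_surjective (theta (F := F)))
  · rw [hker, ← range_theta p]
    have h1 := Subgroup.card_mul_index (theta (F := F)).ker
    rw [Subgroup.index_ker, ker_theta] at h1
    have h2 := Subgroup.card_mul_index (powMonoidHom 2 : Fˣ →* Fˣ).ker
    rw [Subgroup.index_ker] at h2
    have h3 : Nat.card (powMonoidHom 2 : Fˣ →* Fˣ).ker = Nat.gcd 2 (Fintype.card F - 1) := by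
      rw [← Cfsg.Agent.Helper2.card_rootsOfUnity_field 2]
      congr 1
    have hpos : 0 < Nat.card (powMonoidHom 2 : Fˣ →* Fˣ).range := Nat.card_pos
    rw [← hF, ← h3]
    apply Nat.eq_of_mul_eq_mul_left hpos
    rw [h1, mul_comm, h2]

end Cfsg.Agent.Helper2.PA
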