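import Mathlib
import Cfsg.Agent.Lib.Helper2.PslAut7

set_option autoImplicit false

namespace Cfsg.Agent.Helper2.PN

open Matrix Matrix.SpecialLinearGroup
open scoped MatrixGroups
open Cfsg.Agent.Helper2.PA (desc desc_mk conj_mul_aux conj_cancel_aux)

variable {ι : Type*} [Fintype ι] [DecidableEq ι] {F : Type*} [Field F]

/-- conjugation by an invertible matrix on `SL₂` -/
def conjSL (g : GL ι F) : MulAut (Matrix.SpecialLinearGroup ι F) where
  toFun x := ⟨(g : Matrix ι ι F) * x.1 *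
      ((g⁻¹ : GL ι F) : Matrix ι ι F), by
    rw [det_mul, det_mul, x.2, mul_one, ← det_mul, ← Units.val_mul, mul_inv_cancel,
      Units.val_one, det_one]⟩
  invFun x := ⟨((g⁻¹ : GL ι F) : Matrix ι ι F) * x.1 *
      (g : Matrix ι ι F), by
    rw [det_mul, det_mul, x.2, mul_one, ← det_mul, ← Units.val_mul, inv_mul_cancel,
      Units.val_one, det_one]⟩
  left_inv x := by
    apply Subtype.ext
    exact conj_cancel_aux _ _ _ (Units.inv_mul g)
  right_inv x := by
    apply Subtype.ext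
    exact conj_cancel_aux _ _ _ (Units.mul_inv g)
  map_mul' x y := by
    apply Subtype.ext
    exact (conj_mul_aux _ _ _ _ (Units.inv_mul g)).symm

theorem conjSL_coe (g : GL ι F) (x : (Matrix.SpecialLinearGroup ι F)) :
    ((conjSL g x : (Matrix.SpecialLinearGroup ι F)) : Matrix ι ι F) =
      (g : Matrix ι ι F) * x.1 *
      ((g⁻¹ : GL ι F) : Matrix ι ι F) := rfl

/-- `conjSL` as a homomorphism -/
def conjSLHom : GL ι F →* MulAut (Matrix.SpecialLinearGroup ι F) where
  toFun g := conjSL g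
  map_one' := by
    refine MulEquiv.ext fun x => ?_
    apply Subtype.ext
    rw [conjSL_coe]
    simp
  map_mul' g h := by
    refine MulEquiv.ext fun x => ?_
    apply Subtype.ext
    rw [MulAut.mul_apply, conjSL_coe, conjSL_coe, conjSL_coe, _root_.mul_inv_rev, Units.val_mul,
      Units.val_mul]
    simp only [mul_assoc]

theorem conjSLHom_apply (g : GL ι F) (x : (Matrix.SpecialLinearGroup ι F)) : conjSLHom g x = conjSL g x := rfl

/-- field automorphisms acting on `SL₂` -/
def fieldSLHom : RingAut F →* MulAut (Matrix.SpecialLinearGroup ι F) where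
  toFun σ := Cfsg.Agent.Helper2.slMapEquiv (n := ι) σ
  map_one' := by
    ext x i j
    rw [Cfsg.Agent.Helper2.slMapEquiv_coe]
    rfl
  map_mul' σ τ := by
    ext x i j
    rw [MulAut.mul_apply, Cfsg.Agent.Helper2.slMapEquiv_coe, Cfsg.Agent.Helper2.slMapEquiv_coe,
      Cfsg.Agent.Helper2.slMapEquiv_coe]
    rfl

theorem fieldSLHom_coe (σ : RingAut F) (x : (Matrix.SpecialLinearGroup ι F)) (i j : ι) :
    (fieldSLHom σ x).1 i j = σ (x.1 i j) :=
  Cfsg.Agent.Helper2.slMapEquiv_coe _ _ _ _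

/-- field automorphisms acting on `GL₂` -/
def fieldGLHom : RingAut F →* MulAut (GL ι F) where
  toFun σ := Units.mapEquiv (RingEquiv.toMulEquiv (RingEquiv.mapMatrix (m := ι) σ))
  map_one' := by
    ext x i j
    rfl
  map_mul' σ τ := by
    ext x i j
    rfl

theorem fieldGLHom_coe (σ : RingAut F) (g : GL ι F) (i j : ι) :
    ((fieldGLHom σ g : GL ι F) : Matrix ι ι F) i j = σ (g.1 i j) := rfl

theorem fieldGLHom_coe' (σ : RingAut F) (g : GL ι F) :
    ((fieldGLHom σ g : GL ι F) : Matrix ι ι F) =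
      (g : Matrix ι ι F).map σ := rfl

theorem fieldSLHom_coe' (σ : RingAut F) (x : (Matrix.SpecialLinearGroup ι F)) :
    ((fieldSLHom σ x : (Matrix.SpecialLinearGroup ι F)) : Matrix ι ι F) =
      (x : Matrix ι ι F).map σ := by
  ext i j
  rw [fieldSLHom_coe]
  rfl

theorem compat0 (σ : RingAut F) (g : GL ι F) :
    conjSLHom (fieldGLHom σ g) = fieldSLHom σ * conjSLHom g * (fieldSLHom σ)⁻¹ := by
  refine MulEquiv.ext fun x => ?_
  apply Subtype.ext
  rw [MulAut.mul_apply, MulAut.mul_apply, conjSLHom_apply, conjSLHom_apply, conjSL_coe,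
    fieldSLHom_coe', conjSL_coe, ← map_inv, fieldGLHom_coe', fieldGLHom_coe']
  have h1 : ∀ A B : Matrix ι ι F, (A * B).map σ = A.map σ * B.map σ := by
    intro A B
    exact Matrix.map_mul (f := (σ : F →+* F))
  rw [h1, h1]
  congr 2
  have h2 := fieldSLHom_coe' σ ((fieldSLHom σ)⁻¹ x)
  rw [← h2, ← MulAut.mul_apply, mul_inv_cancel]
  rfl

/-- the semidirect product `GL₂(F) ⋊ Aut(F)` -/
abbrev GamL (ι : Type*) [Fintype ι] [DecidableEq ι] (F : Type*) [Field F] := GL ι F ⋊[fieldGLHom (ι := ι) (F := F)] RingAut F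

/-- the action of `GL₂(F) ⋊ Aut(F)` on `SL₂(F)` -/
def Phi0 : GamL ι F →* MulAut (Matrix.SpecialLinearGroup ι F) :=
  SemidirectProduct.lift conjSLHom fieldSLHom (by
    intro σ
    ext g : 1
    rw [MonoidHom.comp_apply, MonoidHom.comp_apply, MulEquiv.coe_toMonoidHom,
      MulEquiv.coe_toMonoidHom, MulAut.conj_apply, compat0])

/-- the action of `GL₂(F) ⋊ Aut(F)` on `PSL₂(F)` -/
noncomputable def Phi : GamL ι F →* MulAut (Matrix.ProjectiveSpecialLinearGroup ι F) :=
  (desc (Matrix.SpecialLinearGroup ι F)).comp Phi0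

/-- the quotient map -/
abbrev mkn : (Matrix.SpecialLinearGroup ι F) →* Matrix.ProjectiveSpecialLinearGroup ι F :=
  QuotientGroup.mk' (Subgroup.center (Matrix.SpecialLinearGroup ι F))

theorem Phi0_apply (g : GL ι F) (σ : RingAut F) (x : (Matrix.SpecialLinearGroup ι F)) :
    Phi0 ⟨g, σ⟩ x = conjSL g (fieldSLHom σ x) := rfl

theorem Phi_mk (g : GL ι F) (σ : RingAut F) (x : (Matrix.SpecialLinearGroup ι F)) :
    Phi ⟨g, σ⟩ (mkn x) = mkn (conjSL g (fieldSLHom σ x)) := rfl

theorem mkn_surjective : Function.Surjective (mkn (ι := ι) (F := F)) :=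
  QuotientGroup.mk_surjective


end Cfsg.Agent.Helper2.PN
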