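import Mathlib

/-!
# S4503 (Brauer's `(p-1)/2` bound), reduction chapter, part 1: pure group theory (helper2)

`G` a finite group with `p ∥ |G|`.  Subgroups of order `p`, normal closures, and the consequences of
"every proper subgroup of order divisible by `p` has a normal subgroup of order `p`" (R3):
`⟨P^G⟩ = G` (R2), every proper normal subgroup is central (R4), `G` is perfect.
-/

set_option autoImplicit false
set_option linter.unusedSectionVars false
set_option linter.unusedVariables false
set_option linter.style.haveILetI false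

namespace Cfsg.Agent.Helper2.BRR

open Subgroup
open scoped commutatorElement

variable {G : Type*} [Group G] [Finite G] {p : ℕ} [hp : Fact p.Prime]

theorem isPGroup_of_card_eq {K : Subgroup G} (hK : Nat.card K = p) : IsPGroup p K :=
  IsPGroup.of_card (n := 1) (by rw [hK, pow_one])

/-- a `p`-subgroup normalising a subgroup of order `p` lies in it (`p² ∤ |G|`) -/
theorem le_of_le_normalizer (hsq : ¬ p ^ 2 ∣ Nat.card G) {K Q : Subgroup G} (hK : Nat.card K = p)
    (hQ : IsPGroup p Q) (hQK : Q ≤ normalizer (K : Set G)) : Q ≤ K := by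
  have hsup : IsPGroup p ↥(Q ⊔ K) := IsPGroup.to_sup_of_normal_right' hQ (isPGroup_of_card_eq hK) hQK
  obtain ⟨n, hn⟩ := IsPGroup.iff_card.mp hsup
  have hd : p ^ n ∣ Nat.card G := hn ▸ Subgroup.card_subgroup_dvd_card (Q ⊔ K)
  have hn1 : n ≤ 1 := by
    by_contra hcon
    push Not at hcon
    exact hsq ((pow_dvd_pow p hcon).trans hd)
  have hle : Nat.card ↥(Q ⊔ K) ≤ Nat.card K := by
    rw [hn, hK]
    calc p ^ n ≤ p ^ 1 := Nat.pow_le_pow_right hp.out.pos hn1
      _ = p := pow_one p
  have heq : K = Q ⊔ K := Subgroup.eq_of_le_of_card_ge le_sup_right hle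
  rw [heq]
  exact le_sup_left

/-- the Sylow `p`-subgroups have order `p` -/
theorem card_sylow (hdiv : p ∣ Nat.card G) (hsq : ¬ p ^ 2 ∣ Nat.card G) (P : Sylow p G) :
    Nat.card P = p := by
  have h0 : Nat.card G ≠ 0 := Nat.card_pos.ne'
  have h1 : 0 < (Nat.card G).factorization p := hp.out.factorization_pos_of_dvd h0 hdiv
  have h2 : ¬ 2 ≤ (Nat.card G).factorization p := fun h =>
    hsq ((hp.out.pow_dvd_iff_le_factorization h0).mpr h)
  have h3 : (Nat.card G).factorization p = 1 := by omega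
  rw [P.card_eq_multiplicity, h3, pow_one]

/-- conjugates of a subgroup -/
theorem card_map_conj (K : Subgroup G) (g : G) :
    Nat.card (K.map (MulAut.conj g).toMonoidHom) = Nat.card K :=
  Subgroup.card_map_of_injective (MulAut.conj g).injective

theorem mem_map_conj {K : Subgroup G} {g x : G} (hx : x ∈ K) :
    g * x * g⁻¹ ∈ K.map (MulAut.conj g).toMonoidHom :=
  ⟨x, hx, by simp [MulAut.conj_apply]⟩

theorem map_conj_le_of_normal {K L : Subgroup G} [L.Normal] (hKL : K ≤ L) (g : G) :
    K.map (MulAut.conj g).toMonoidHom ≤ L := by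
  rintro _ ⟨x, hx, rfl⟩
  simp only [MulEquiv.coe_toMonoidHom, MulAut.conj_apply]
  exact ‹L.Normal›.conj_mem x (hKL hx) g

/-- a subgroup of order `p` which is normal in a normal subgroup is normal -/
theorem normal_of_card (hsq : ¬ p ^ 2 ∣ Nat.card G) {K : Subgroup G} (hK : Nat.card K = p)
    (L : Subgroup G) [L.Normal] (hKL : K ≤ L) (hLK : L ≤ normalizer (K : Set G)) : K.Normal := by
  constructor
  intro x hx g
  have hQ : IsPGroup p (K.map (MulAut.conj g).toMonoidHom) :=
    isPGroup_of_card_eq ((card_map_conj K g).trans hK)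
  have hle := le_of_le_normalizer hsq hK hQ ((map_conj_le_of_normal hKL g).trans hLK)
  exact hle (mem_map_conj hx)

/-- a normal subgroup of order divisible by `p` contains every subgroup of order `p` -/
theorem le_of_normal_of_dvd (hsq : ¬ p ^ 2 ∣ Nat.card G) {P : Subgroup G} (hP : Nat.card P = p)
    (N : Subgroup G) [N.Normal] (hN : p ∣ Nat.card N) : P ≤ N := by
  have hdiv : p ∣ Nat.card G := hN.trans (Subgroup.card_subgroup_dvd_card N)
  obtain ⟨x, hx⟩ := exists_prime_orderOf_dvd_card' (G := ↥N) p hN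
  set Q : Subgroup G := zpowers (x : G) with hQdef
  have hQN : Q ≤ N := by
    rw [hQdef, zpowers_le]
    exact x.2
  have hQc : Nat.card Q = p := by
    rw [hQdef, Nat.card_zpowers, Subgroup.orderOf_coe, hx]
  obtain ⟨P', hP'⟩ := (isPGroup_of_card_eq hP).exists_le_sylow
  obtain ⟨Q', hQ'⟩ := (isPGroup_of_card_eq hQc).exists_le_sylow
  have hP'eq : P = (P' : Subgroup G) :=
    Subgroup.eq_of_le_of_card_ge hP' (by rw [card_sylow hdiv hsq P', hP])
  have hQ'eq : Q = (Q' : Subgroup G) :=
    Subgroup.eq_of_le_of_card_ge hQ' (by rw [card_sylow hdiv hsq Q', hQc])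
  obtain ⟨g, hg⟩ := MulAction.exists_smul_eq G Q' P'
  intro a ha
  rw [hP'eq, ← hg, Sylow.coe_subgroup_smul, Subgroup.mem_pointwise_smul_iff_inv_smul_mem] at ha
  rw [← hQ'eq] at ha
  have h1 : (MulAut.conj g)⁻¹ • a ∈ N := hQN ha
  have h2 : g * ((MulAut.conj g)⁻¹ • a) * g⁻¹ ∈ N := ‹N.Normal›.conj_mem _ h1 g
  have h3 : g * ((MulAut.conj g)⁻¹ • a) * g⁻¹ = a := by
    simp [MulAut.smul_def]
    group
  rwa [h3] at h2

/-- hypothesis R3: every proper subgroup of order divisible by `p` has a normal subgroup of order `p` -/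
def R3 (p : ℕ) (G : Type*) [Group G] : Prop :=
  ∀ H : Subgroup G, H ≠ ⊤ → p ∣ Nat.card H →
    ∃ K : Subgroup G, K ≤ H ∧ Nat.card K = p ∧ H ≤ normalizer (K : Set G)

/-- R2: the normal closure of a subgroup of order `p` is everything -/
theorem normalClosure_eq_top (hsq : ¬ p ^ 2 ∣ Nat.card G)
    (hnn : ∀ H : Subgroup G, H.Normal → Nat.card H ≠ p) (hR3 : R3 p G)
    {P : Subgroup G} (hP : Nat.card P = p) : normalClosure (P : Set G) = ⊤ := by
  by_contra hne
  have hPL : P ≤ normalClosure (P : Set G) := le_normalClosure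
  have hdvd : p ∣ Nat.card (normalClosure (P : Set G)) := by
    have := Subgroup.card_dvd_of_le hPL
    rwa [hP] at this
  obtain ⟨K, hKL, hK, hLK⟩ := hR3 _ hne hdvd
  exact hnn K (normal_of_card hsq hK _ hKL hLK) hK

/-- a normal subgroup containing a subgroup of order `p` is everything -/
theorem eq_top_of_normal_of_le (hsq : ¬ p ^ 2 ∣ Nat.card G)
    (hnn : ∀ H : Subgroup G, H.Normal → Nat.card H ≠ p) (hR3 : R3 p G)
    {P : Subgroup G} (hP : Nat.card P = p) (N : Subgroup G) [N.Normal] (hPN : P ≤ N) : N = ⊤ := by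
  have h1 : normalClosure (P : Set G) ≤ N := normalClosure_le_normal hPN
  rw [normalClosure_eq_top hsq hnn hR3 hP] at h1
  exact top_le_iff.mp h1

/-- elements of a subgroup of prime order commute -/
theorem comm_of_card_eq {P : Subgroup G} (hP : Nat.card P = p) {a b : G} (ha : a ∈ P) (hb : b ∈ P) :
    a * b = b * a := by
  haveI : IsCyclic ↥P := isCyclic_of_prime_card hP
  have := mul_comm' (⟨a, ha⟩ : ↥P) ⟨b, hb⟩
  exact congrArg Subtype.val this

/-- R4: every proper normal subgroup is central -/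
theorem le_center_of_normal (hsq : ¬ p ^ 2 ∣ Nat.card G)
    (hnn : ∀ H : Subgroup G, H.Normal → Nat.card H ≠ p) (hR3 : R3 p G)
    {P : Subgroup G} (hP : Nat.card P = p)
    (hNC : ¬ normalizer (P : Set G) ≤ centralizer (P : Set G))
    (K : Subgroup G) [hKn : K.Normal] (hK : K ≠ ⊤) : K ≤ center G := by
  have hPK : ¬ P ≤ K := fun h => hK (eq_top_of_normal_of_le hsq hnn hR3 hP K h)
  have hpK : ¬ p ∣ Nat.card K := fun h => hPK (le_of_normal_of_dvd hsq hP K h)
  have hcop : (Nat.card P).Coprime (Nat.card K) := by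
    rw [hP]
    exact (Nat.Prime.coprime_iff_not_dvd hp.out).mpr hpK
  have hinf : P ⊓ K = ⊥ := (Subgroup.disjoint_of_coprime_natCard hcop).eq_bot
  -- elements of `K` normalising `P` centralise it
  have hcent : ∀ k ∈ K, k ∈ normalizer (P : Set G) → ∀ a ∈ P, k * a = a * k := by
    intro k hk hkN a ha
    have h1 : k * a * k⁻¹ * a⁻¹ ∈ P :=
      P.mul_mem ((mem_normalizer_iff.mp hkN a).mp ha) (P.inv_mem ha)
    have h2 : k * a * k⁻¹ * a⁻¹ ∈ K := by
      have h3 : k * (a * k⁻¹ * a⁻¹) ∈ K := K.mul_mem hk (hKn.conj_mem _ (K.inv_mem hk) a)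
      have e : k * a * k⁻¹ * a⁻¹ = k * (a * k⁻¹ * a⁻¹) := by group
      rw [e]
      exact h3
    have h4 : k * a * k⁻¹ * a⁻¹ ∈ P ⊓ K := mem_inf.mpr ⟨h1, h2⟩
    rw [hinf, mem_bot] at h4
    calc k * a = (k * a * k⁻¹ * a⁻¹) * (a * k) := by group
      _ = a * k := by rw [h4, one_mul]
  by_cases hH : P ⊔ K = ⊤
  · exfalso
    apply hNC
    intro g hg
    have hgm : g ∈ P ⊔ K := by rw [hH]; exact mem_top g
    obtain ⟨x, hx, k, hk, rfl⟩ := mem_sup_of_normal_right.mp hgm
    have hxN : x ∈ normalizer (P : Set G) := le_normalizer hx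
    have hkN : k ∈ normalizer (P : Set G) := by
      have := (normalizer (P : Set G)).mul_mem ((normalizer (P : Set G)).inv_mem hxN) hg
      rwa [← mul_assoc, inv_mul_cancel, one_mul] at this
    rw [mem_centralizer_iff]
    intro a ha
    have h1 := hcent k hk hkN a ha
    have h2 := comm_of_card_eq hP hx ha
    calc a * (x * k) = (a * x) * k := by group
      _ = (x * a) * k := by rw [h2]
      _ = x * (a * k) := by group
      _ = x * (k * a) := by rw [h1]
      _ = x * k * a := by group
  · have hdvd : p ∣ Nat.card ↥(P ⊔ K) := by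
      have := Subgroup.card_dvd_of_le (le_sup_left : P ≤ P ⊔ K)
      rwa [hP] at this
    obtain ⟨K₀, hK₀H, hK₀, hHK₀⟩ := hR3 _ hH hdvd
    have hPK₀ : P ≤ K₀ :=
      le_of_le_normalizer hsq hK₀ (isPGroup_of_card_eq hP) (le_sup_left.trans hHK₀)
    have hPeq : P = K₀ := Subgroup.eq_of_le_of_card_ge hPK₀ (by rw [hK₀, hP])
    have hKN : K ≤ normalizer (P : Set G) := by
      rw [hPeq]
      exact le_sup_right.trans hHK₀
    have hPc : P ≤ centralizer (K : Set G) := by
      intro a ha
      rw [mem_centralizer_iff]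
      intro k hk
      exact hcent k hk (hKN hk) a ha
    have htop : centralizer (K : Set G) = ⊤ :=
      eq_top_of_normal_of_le hsq hnn hR3 hP _ hPc
    exact centralizer_eq_top_iff_subset.mp htop

/-- `G` is perfect -/
theorem commutator_eq_top (hsq : ¬ p ^ 2 ∣ Nat.card G)
    (hnn : ∀ H : Subgroup G, H.Normal → Nat.card H ≠ p) (hR3 : R3 p G)
    {P : Subgroup G} (hP : Nat.card P = p)
    (hR4 : ∀ K : Subgroup G, K.Normal → K ≠ ⊤ → K ≤ center G) : commutator G = ⊤ := by
  by_contra hne
  have hcc : commutator G ≤ center G := hR4 _ inferInstance hne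
  -- `P ⊔ G'` is normal, hence everything
  have hNn : (P ⊔ commutator G).Normal := by
    constructor
    intro n hn g
    have h1 : ⁅g, n⁆ ∈ commutator G := by
      rw [commutator_def]
      exact Subgroup.commutator_mem_commutator (mem_top g) (mem_top n)
    have e : g * n * g⁻¹ = ⁅g, n⁆ * n := by
      rw [commutatorElement_def]
      group
    rw [e]
    exact (P ⊔ commutator G).mul_mem ((le_sup_right : commutator G ≤ _) h1) hn
  have htop : P ⊔ commutator G = ⊤ := eq_top_of_normal_of_le hsq hnn hR3 hP _ le_sup_left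
  -- so `P` is normal
  have hPn : P.Normal := by
    constructor
    intro a ha g
    have hgm : g ∈ P ⊔ commutator G := by rw [htop]; exact mem_top g
    obtain ⟨x, hx, c, hc, rfl⟩ := mem_sup_of_normal_right.mp hgm
    have hcz := mem_center_iff.mp (hcc hc)
    have e : x * c * a * (x * c)⁻¹ = x * a * x⁻¹ := by
      have h1 : c * a = a * c := (hcz a).symm
      calc x * c * a * (x * c)⁻¹ = x * (c * a) * c⁻¹ * x⁻¹ := by group
        _ = x * (a * c) * c⁻¹ * x⁻¹ := by rw [h1]
        _ = x * a * x⁻¹ := by group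
    rw [e]
    exact P.mul_mem (P.mul_mem hx ha) (P.inv_mem hx)
  exact hnn P hPn hP

end Cfsg.Agent.Helper2.BRR
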