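import Mathlib
import Cfsg.Prelude.Def_Blocks
import Cfsg.Agent.Lib.Helper24.CharHom
import Cfsg.Agent.Lib.Helper24.CharOrtho
import Cfsg.Agent.Lib.Helper24.CharComplete

/-!
# S4503 (Brauer's `(p-1)/2` bound), reduction chapter, part 2: character-theoretic lemmas (helper2)

Irreducible constituents of a character (degrees, kernels), deflation of an irreducible character to
the quotient by its kernel, restriction of a faithful character to a subgroup.
-/

set_option autoImplicit false
set_option linter.unusedSectionVars false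
set_option linter.unusedVariables false
set_option linter.style.haveILetI false

namespace Cfsg.Agent.Helper2.BRR

open Cfsg Cfsg.Agent.Helper24

universe u

variable {G : Type u} [Group G] [Finite G]

/-- the irreducible constituents of a character: they have smaller degree, and an element in the
kernel of all of them is in the kernel of the character -/
theorem exists_constituents {χ : G → ℂ} (hχ : IsCharacter G χ) :
    ∃ I : Set (IrrCharacter G), (∀ ζ ∈ I, charDegree (ζ : G → ℂ) ≤ charDegree χ) ∧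
      ∀ g : G, (∀ ζ ∈ I, (ζ : G → ℂ) g = (ζ : G → ℂ) 1) → χ g = χ 1 := by
  classical
  haveI : Fintype G := Fintype.ofFinite G
  haveI : Fintype (IrrCharacter G) := irrFintype
  obtain ⟨hm, hsum⟩ := isCharacter_decomp hχ
  choose m hm' using hm
  have hval : ∀ g : G, χ g = ∑ ζ : IrrCharacter G, (m ζ : ℂ) * (ζ : G → ℂ) g := by
    intro g
    have := congrFun hsum g
    rw [Finset.sum_apply] at this
    rw [this]
    apply Finset.sum_congr rfl
    intro ζ _
    rw [Pi.smul_apply, smul_eq_mul, hm']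
  refine ⟨{ζ | m ζ ≠ 0}, ?_, ?_⟩
  · intro ζ₀ hζ₀
    have h1 : (charDegree χ : ℂ) =
        ((∑ ζ : IrrCharacter G, m ζ * charDegree (ζ : G → ℂ) : ℕ) : ℂ) := by
      rw [← char_one_eq_charDegree hχ, hval 1]
      push_cast
      apply Finset.sum_congr rfl
      intro ζ _
      rw [irr_one_eq_charDegree ζ.2]
    have h2 : charDegree χ = ∑ ζ : IrrCharacter G, m ζ * charDegree (ζ : G → ℂ) := by
      exact_mod_cast h1
    rw [h2]
    have h3 : m ζ₀ * charDegree (ζ₀ : G → ℂ) ≤
        ∑ ζ : IrrCharacter G, m ζ * charDegree (ζ : G → ℂ) :=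
      Finset.single_le_sum (f := fun ζ : IrrCharacter G => m ζ * charDegree (ζ : G → ℂ))
        (fun _ _ => Nat.zero_le _) (Finset.mem_univ ζ₀)
    have h4 : 1 ≤ m ζ₀ := Nat.one_le_iff_ne_zero.mpr hζ₀
    calc charDegree (ζ₀ : G → ℂ) = 1 * charDegree (ζ₀ : G → ℂ) := (one_mul _).symm
      _ ≤ m ζ₀ * charDegree (ζ₀ : G → ℂ) := Nat.mul_le_mul_right _ h4
      _ ≤ _ := h3
  · intro g hg
    rw [hval g, hval 1]
    apply Finset.sum_congr rfl
    intro ζ _
    by_cases hζ : m ζ = 0
    · rw [hζ, Nat.cast_zero, zero_mul, zero_mul]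
    · rw [hg ζ hζ]

/-- the kernel of an irreducible character -/
noncomputable def kerOf (ζ : IrrCharacter G) : Subgroup G :=
  charKer (isCharacter_of_isIrrCharacter ζ.2)

theorem mem_kerOf (ζ : IrrCharacter G) (g : G) :
    g ∈ kerOf ζ ↔ (ζ : G → ℂ) g = (ζ : G → ℂ) 1 := Iff.rfl

instance kerOf_normal (ζ : IrrCharacter G) : (kerOf ζ).Normal :=
  charKer_normal (isCharacter_of_isIrrCharacter ζ.2)

/-- deflation to the quotient by the kernel: a faithful irreducible character of the same degree -/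
theorem exists_faithful_quotient (ζ : IrrCharacter G) :
    ∃ ψ : IrrCharacter (G ⧸ kerOf ζ),
      (∀ x : G ⧸ kerOf ζ, (ψ : G ⧸ kerOf ζ → ℂ) x = (ψ : G ⧸ kerOf ζ → ℂ) 1 → x = 1) ∧
        charDegree (ψ : G ⧸ kerOf ζ → ℂ) = charDegree (ζ : G → ℂ) := by
  obtain ⟨ψ, hψ, hζψ⟩ := exists_deflate (kerOf ζ) ζ.2 (fun n hn => hn)
  have hval : ∀ g : G, (ζ : G → ℂ) g = ψ (QuotientGroup.mk g) := fun g => congrFun hζψ g
  have h1 : ψ 1 = (ζ : G → ℂ) 1 := by
    rw [hval 1]
    rfl
  refine ⟨⟨ψ, hψ⟩, ?_, ?_⟩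
  · intro x hx
    obtain ⟨g, rfl⟩ := QuotientGroup.mk_surjective x
    have h2 : (ζ : G → ℂ) g = (ζ : G → ℂ) 1 := by
      rw [hval g, ← h1]
      exact hx
    exact (QuotientGroup.eq_one_iff g).mpr h2
  · show charDegree ψ = charDegree (ζ : G → ℂ)
    unfold charDegree
    rw [h1]

/-- restriction of a faithful character to a subgroup -/
theorem restrict_facts (H : Subgroup G) {χ : G → ℂ} (hχ : IsCharacter G χ)
    (hf : ∀ g : G, χ g = χ 1 → g = 1) :
    IsCharacter H (fun h : H => χ h) ∧
      (∀ h : H, (fun h : H => χ h) h = (fun h : H => χ h) 1 → h = 1) ∧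
        charDegree (fun h : H => χ h) = charDegree χ := by
  refine ⟨isCharacter_restrict H hχ, ?_, ?_⟩
  · intro h hh
    apply Subtype.ext
    exact hf h hh
  · unfold charDegree
    rfl

end Cfsg.Agent.Helper2.BRR
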