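import Mathlib
import Cfsg.Agent.Lib.Helper15.TLGT

/-!
# S4442 piece GT2 (helper2): `exists_pcore` with a `p`-regular generator
-/

set_option autoImplicit false
set_option linter.unusedSectionVars false
set_option linter.unusedVariables false
set_option linter.style.haveILetI false

namespace Cfsg.Agent.Helper5.TLD

variable (p : ℕ) [Fact p.Prime] {G : Type*} [Group G] [Finite G]

/-- `n ^ (p - 1)` centralizes `P` for `n ∈ N_G(P)`, `|P| = p`. -/
theorem gt2_pow_mem_centralizer (P : Sylow p G) (hP : Nat.card P = p) (n : G)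
    (hn : n ∈ Subgroup.normalizer ((P : Subgroup G) : Set G)) :
    n ^ (p - 1) ∈ Subgroup.centralizer ((P : Subgroup G) : Set G) := by
  have hp : p.Prime := Fact.out
  haveI : IsCyclic (P : Subgroup G) := isCyclic_of_prime_card hP
  have hcard : Nat.card (MulAut (P : Subgroup G)) = p - 1 := by
    rw [IsCyclic.card_mulAut, hP, Nat.totient_prime hp]
  set φ := (P : Subgroup G).normalizerMonoidHom with hφ
  have h1 : φ (⟨n, hn⟩ ^ (p - 1)) = 1 := by
    rw [map_pow, ← hcard]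
    exact pow_card_eq_one'
  have h2 : (⟨n, hn⟩ : Subgroup.normalizer ((P : Subgroup G) : Set G)) ^ (p - 1) ∈ φ.ker :=
    MonoidHom.mem_ker.mpr h1
  rw [hφ, Subgroup.normalizerMonoidHom_ker, Subgroup.mem_subgroupOf] at h2
  simpa using h2

/-- a `p`-element of `N_G(P)` centralizes `P`, `|P| = p`. -/
theorem gt2_pelement_mem_centralizer (P : Sylow p G) (hP : Nat.card P = p) (u : G)
    (hu : u ∈ Subgroup.normalizer ((P : Subgroup G) : Set G)) (k : ℕ) (huk : u ^ (p ^ k) = 1) :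
    u ∈ Subgroup.centralizer ((P : Subgroup G) : Set G) := by
  have hp : p.Prime := Fact.out
  haveI : IsCyclic (P : Subgroup G) := isCyclic_of_prime_card hP
  have hcard : Nat.card (MulAut (P : Subgroup G)) = p - 1 := by
    rw [IsCyclic.card_mulAut, hP, Nat.totient_prime hp]
  set φ := (P : Subgroup G).normalizerMonoidHom with hφ
  have h1 : φ ⟨u, hu⟩ ^ (p - 1) = 1 := by
    rw [← hcard]
    exact pow_card_eq_one'
  have h2 : φ ⟨u, hu⟩ ^ (p ^ k) = 1 := by
    rw [← map_pow]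
    have : (⟨u, hu⟩ : Subgroup.normalizer ((P : Subgroup G) : Set G)) ^ (p ^ k) = 1 :=
      Subtype.ext (by simpa using huk)
    rw [this, map_one]
  have hcop : Nat.Coprime (p ^ k) (p - 1) := by
    apply Nat.Coprime.pow_left
    rw [hp.coprime_iff_not_dvd]
    exact Nat.not_dvd_of_pos_of_lt (Nat.sub_pos_of_lt hp.one_lt) (Nat.sub_lt hp.pos Nat.one_pos)
  have h3 := pow_gcd_eq_one.mpr ⟨h2, h1⟩
  rw [hcop, pow_one] at h3
  have h4 : (⟨u, hu⟩ : Subgroup.normalizer ((P : Subgroup G) : Set G)) ∈ φ.ker :=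
    MonoidHom.mem_ker.mpr h3
  rw [hφ, Subgroup.normalizerMonoidHom_ker, Subgroup.mem_subgroupOf] at h4
  exact h4

/-- PIECE GT2 -/
theorem exists_pcore' (P : Sylow p G) (hP : Nat.card P = p) :
    ∃ (K : Subgroup G) (n₀ : G),
      (∀ y : G, y ∈ K ↔ (y ∈ Subgroup.centralizer ((P : Subgroup G) : Set G) ∧ ¬ p ∣ orderOf y)) ∧
      ¬ p ∣ Nat.card K ∧
      (∀ n ∈ Subgroup.normalizer ((P : Subgroup G) : Set G), ∀ k ∈ K, n * k * n⁻¹ ∈ K) ∧
      (∀ c : G, (∀ u ∈ (P : Subgroup G), c * u = u * c) →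
        ∃ u k : G, u ∈ (P : Subgroup G) ∧ k ∈ K ∧ c = u * k) ∧
      n₀ ∈ Subgroup.normalizer ((P : Subgroup G) : Set G) ∧
      (∀ n ∈ Subgroup.normalizer ((P : Subgroup G) : Set G),
        ∃ (i : ℕ) (c : G), (∀ u ∈ (P : Subgroup G), c * u = u * c) ∧ n = n₀ ^ i * c) ∧
      ¬ p ∣ orderOf n₀ ∧ ∀ i : ℕ, (n₀ ^ i) ^ (p - 1) ∈ K := by
  have hp : p.Prime := Fact.out
  obtain ⟨K, n₀, h1, h2, h3, h4, h5, h6⟩ := Cfsg.Agent.Helper5.TL.exists_pcore p P hP
  have ho : orderOf n₀ ≠ 0 := (orderOf_pos n₀).ne'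
  obtain ⟨k, m, hm, hkm⟩ := Nat.exists_eq_pow_mul_and_not_dvd ho p hp.ne_one
  have hcop : Nat.Coprime (p ^ k) m := Nat.Coprime.pow_left k ((hp.coprime_iff_not_dvd).mpr hm)
  obtain ⟨a, ha0, ha1⟩ := Nat.chineseRemainder hcop 0 1
  obtain ⟨b, hb1, hb0⟩ := Nat.chineseRemainder hcop 1 0
  have hpk_a : p ^ k ∣ a := (Nat.modEq_zero_iff_dvd).mp ha0
  have hm_b : m ∣ b := (Nat.modEq_zero_iff_dvd).mp hb0
  -- a + b ≡ 1 mod the order
  have hab : a + b ≡ 1 [MOD orderOf n₀] := by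
    rw [hkm]
    rw [← Nat.modEq_and_modEq_iff_modEq_mul hcop]
    constructor
    · have := Nat.ModEq.add ha0 hb1
      simpa using this
    · have := Nat.ModEq.add ha1 hb0
      simpa using this
  set n₁ := n₀ ^ a with hn₁
  set u := n₀ ^ b with hu
  have hn₀ : n₀ = n₁ * u := by
    rw [hn₁, hu, ← pow_add]
    have := (pow_eq_pow_iff_modEq (x := n₀) (n := a + b) (m := 1)).mpr hab
    rw [this, pow_one]
  have hcomm : Commute n₁ u := (Commute.refl n₀).pow_pow a b
  have hupow : u ^ (p ^ k) = 1 := by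
    rw [hu, ← pow_mul]
    apply orderOf_dvd_iff_pow_eq_one.mp
    rw [hkm, mul_comm b]
    exact Nat.mul_dvd_mul_left _ hm_b
  have hn₁pow : n₁ ^ m = 1 := by
    rw [hn₁, ← pow_mul]
    apply orderOf_dvd_iff_pow_eq_one.mp
    rw [hkm]
    exact Nat.mul_dvd_mul_right hpk_a m
  have hn₁ord : ¬ p ∣ orderOf n₁ := fun h =>
    hm (h.trans (orderOf_dvd_of_pow_eq_one hn₁pow))
  have hn₁N : n₁ ∈ Subgroup.normalizer ((P : Subgroup G) : Set G) := Subgroup.pow_mem _ h5 a
  have huN : u ∈ Subgroup.normalizer ((P : Subgroup G) : Set G) := Subgroup.pow_mem _ h5 b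
  have huC := gt2_pelement_mem_centralizer p P hP u huN k hupow
  refine ⟨K, n₁, h1, h2, h3, h4, hn₁N, ?_, hn₁ord, ?_⟩
  · intro n hn
    obtain ⟨i, c, hc, rfl⟩ := h6 n hn
    refine ⟨i, u ^ i * c, ?_, ?_⟩
    · intro v hv
      have hui : u ^ i ∈ Subgroup.centralizer ((P : Subgroup G) : Set G) :=
        Subgroup.pow_mem _ huC i
      have h7 := (Subgroup.mem_centralizer_iff.mp hui) v hv
      have h8 := hc v hv
      calc u ^ i * c * v = u ^ i * (c * v) := by group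
        _ = u ^ i * (v * c) := by rw [h8]
        _ = (u ^ i * v) * c := by group
        _ = (v * u ^ i) * c := by rw [← h7]
        _ = v * (u ^ i * c) := by group
    · rw [hn₀, hcomm.mul_pow, mul_assoc]
  · intro i
    rw [h1]
    constructor
    · exact gt2_pow_mem_centralizer p P hP _ (Subgroup.pow_mem _ hn₁N i)
    · intro hdvd
      apply hn₁ord
      have : orderOf ((n₁ ^ i) ^ (p - 1)) ∣ orderOf n₁ := by
        rw [← pow_mul]
        exact orderOf_pow_dvd _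
      exact hdvd.trans this

end Cfsg.Agent.Helper5.TLD
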