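import Mathlib
import Cfsg.Prelude.Def_Blocks
import Cfsg.Agent.Lib.Helper24.CharHom

/-!
# S4442 piece DORB (helper2): the `N`-orbit of `θ` has `|N : T| = f / e` members
-/

set_option autoImplicit false
set_option linter.unusedSectionVars false
set_option linter.unusedVariables false
set_option linter.style.haveILetI false

namespace Cfsg.Agent.Helper5.TLD

open Cfsg

variable (p : ℕ) [Fact p.Prime] {G : Type*} [Group G] [Finite G]

omit [Fact p.Prime] [Finite G] in
theorem dorb_conj_mem (P : Sylow p G) (n : G)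
    (hn : n ∈ Subgroup.normalizer ((P : Subgroup G) : Set G)) (c : G)
    (hc : c ∈ Subgroup.centralizer ((P : Subgroup G) : Set G)) :
    n * c * n⁻¹ ∈ Subgroup.centralizer ((P : Subgroup G) : Set G) := by
  rw [Subgroup.mem_centralizer_iff] at hc ⊢
  intro u hu
  have hn' : n⁻¹ ∈ Subgroup.normalizer ((P : Subgroup G) : Set G) := Subgroup.inv_mem _ hn
  have hu' : n⁻¹ * u * n⁻¹⁻¹ ∈ (P : Subgroup G) :=
    (Subgroup.mem_normalizer_iff.mp hn' u).mp hu
  rw [inv_inv] at hu'
  have h := hc _ hu'
  calc u * (n * c * n⁻¹) = n * ((n⁻¹ * u * n) * c) * n⁻¹ := by group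
    _ = n * (c * (n⁻¹ * u * n)) * n⁻¹ := by rw [h]
    _ = n * c * n⁻¹ * u := by group

/-- conjugation by `n ∈ N_G(P)` as an automorphism of `C_G(P)` -/
def dorbAut (P : Sylow p G) (n : Subgroup.normalizer ((P : Subgroup G) : Set G)) :
    Subgroup.centralizer ((P : Subgroup G) : Set G) ≃*
      Subgroup.centralizer ((P : Subgroup G) : Set G) where
  toFun c := ⟨(n : G) * c * (n : G)⁻¹, dorb_conj_mem p P n n.2 c c.2⟩
  invFun c := ⟨(n : G)⁻¹ * c * (n : G), by
    have := dorb_conj_mem p P (n : G)⁻¹ (Subgroup.inv_mem _ n.2) c c.2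
    simpa using this⟩
  left_inv c := by
    apply Subtype.ext
    simp [mul_assoc]
  right_inv c := by
    apply Subtype.ext
    simp [mul_assoc]
  map_mul' a b := by
    apply Subtype.ext
    simp [mul_assoc]

omit [Fact p.Prime] [Finite G] in
@[simp] theorem dorbAut_apply_coe (P : Sylow p G)
    (n : Subgroup.normalizer ((P : Subgroup G) : Set G))
    (c : Subgroup.centralizer ((P : Subgroup G) : Set G)) :
    ((dorbAut p P n c : Subgroup.centralizer ((P : Subgroup G) : Set G)) : G) =
      (n : G) * c * (n : G)⁻¹ := rfl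

omit [Fact p.Prime] [Finite G] in
theorem dorbAut_mul (P : Sylow p G)
    (n m : Subgroup.normalizer ((P : Subgroup G) : Set G))
    (c : Subgroup.centralizer ((P : Subgroup G) : Set G)) :
    dorbAut p P (n * m) c = dorbAut p P n (dorbAut p P m c) := by
  apply Subtype.ext
  rw [dorbAut_apply_coe, dorbAut_apply_coe, dorbAut_apply_coe, Subgroup.coe_mul, mul_inv_rev]
  group

omit [Fact p.Prime] [Finite G] in
theorem dorbAut_one (P : Sylow p G)
    (c : Subgroup.centralizer ((P : Subgroup G) : Set G)) :
    dorbAut p P 1 c = c := by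
  apply Subtype.ext
  rw [dorbAut_apply_coe, Subgroup.coe_one]
  group

omit [Fact p.Prime] [Finite G] in
theorem dorbAut_inv_apply (P : Sylow p G)
    (n : Subgroup.normalizer ((P : Subgroup G) : Set G))
    (c : Subgroup.centralizer ((P : Subgroup G) : Set G)) :
    dorbAut p P n⁻¹ (dorbAut p P n c) = c := by
  rw [← dorbAut_mul, inv_mul_cancel, dorbAut_one]

omit [Fact p.Prime] [Finite G] in
theorem dorbAut_apply_inv (P : Sylow p G)
    (n : Subgroup.normalizer ((P : Subgroup G) : Set G))
    (c : Subgroup.centralizer ((P : Subgroup G) : Set G)) :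
    dorbAut p P n (dorbAut p P n⁻¹ c) = c := by
  rw [← dorbAut_mul, mul_inv_cancel, dorbAut_one]

/-- the twisted character `c ↦ φ (n⁻¹ c n)` -/
noncomputable def dorbSmul (P : Sylow p G)
    (n : Subgroup.normalizer ((P : Subgroup G) : Set G))
    (φ : IrrCharacter (Subgroup.centralizer ((P : Subgroup G) : Set G))) :
    IrrCharacter (Subgroup.centralizer ((P : Subgroup G) : Set G)) :=
  ⟨(φ : Subgroup.centralizer ((P : Subgroup G) : Set G) → ℂ) ∘ (dorbAut p P n⁻¹),
    Cfsg.Agent.Helper24.isIrrCharacter_comp_of_surjective (dorbAut p P n⁻¹).toMonoidHom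
      (dorbAut p P n⁻¹).surjective φ.2⟩

omit [Fact p.Prime] [Finite G] in
theorem dorbSmul_apply (P : Sylow p G)
    (n : Subgroup.normalizer ((P : Subgroup G) : Set G))
    (φ : IrrCharacter (Subgroup.centralizer ((P : Subgroup G) : Set G)))
    (c : Subgroup.centralizer ((P : Subgroup G) : Set G)) :
    (dorbSmul p P n φ : Subgroup.centralizer ((P : Subgroup G) : Set G) → ℂ) c =
      (φ : Subgroup.centralizer ((P : Subgroup G) : Set G) → ℂ) (dorbAut p P n⁻¹ c) := rfl

/-- the action of `N_G(P)` on `Irr(C_G(P))` -/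
@[instance_reducible] noncomputable def dorbAction (P : Sylow p G) :
    MulAction (Subgroup.normalizer ((P : Subgroup G) : Set G))
      (IrrCharacter (Subgroup.centralizer ((P : Subgroup G) : Set G))) where
  smul n φ := dorbSmul p P n φ
  one_smul φ := by
    apply Subtype.ext
    funext c
    show (dorbSmul p P 1 φ : Subgroup.centralizer ((P : Subgroup G) : Set G) → ℂ) c = _
    rw [dorbSmul_apply, inv_one, dorbAut_one]
  mul_smul n m φ := by
    apply Subtype.ext
    funext c
    show (dorbSmul p P (n * m) φ : Subgroup.centralizer ((P : Subgroup G) : Set G) → ℂ) c =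
      (dorbSmul p P n (dorbSmul p P m φ) :
        Subgroup.centralizer ((P : Subgroup G) : Set G) → ℂ) c
    rw [dorbSmul_apply, dorbSmul_apply, dorbSmul_apply, mul_inv_rev, dorbAut_mul]

attribute [local instance] dorbAction

/-- PIECE DORB -/
theorem card_orbit_theta (P : Sylow p G)
    (θ : IrrCharacter (Subgroup.centralizer ((P : Subgroup G) : Set G)))
    (T : Subgroup G)
    (hT : ∀ g : G, g ∈ T ↔ (g ∈ Subgroup.normalizer ((P : Subgroup G) : Set G) ∧
      ∀ c c' : Subgroup.centralizer ((P : Subgroup G) : Set G), (c' : G) = g * c * g⁻¹ →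
        (θ : Subgroup.centralizer ((P : Subgroup G) : Set G) → ℂ) c' =
          (θ : Subgroup.centralizer ((P : Subgroup G) : Set G) → ℂ) c))
    (e f : ℕ) (he : (Subgroup.centralizer ((P : Subgroup G) : Set G)).relIndex T = e)
    (hf : (Subgroup.centralizer ((P : Subgroup G) : Set G)).relIndex
      (Subgroup.normalizer ((P : Subgroup G) : Set G)) = f) :
    Nat.card {φ : IrrCharacter (Subgroup.centralizer ((P : Subgroup G) : Set G)) |
      ∃ n ∈ Subgroup.normalizer ((P : Subgroup G) : Set G),
        ∀ c c' : Subgroup.centralizer ((P : Subgroup G) : Set G), (c' : G) = n * c * n⁻¹ →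
          (φ : Subgroup.centralizer ((P : Subgroup G) : Set G) → ℂ) c =
            (θ : Subgroup.centralizer ((P : Subgroup G) : Set G) → ℂ) c'} = f / e := by
  classical
  have hsmul : ∀ (n : Subgroup.normalizer ((P : Subgroup G) : Set G))
      (φ : IrrCharacter (Subgroup.centralizer ((P : Subgroup G) : Set G)))
      (c : Subgroup.centralizer ((P : Subgroup G) : Set G)),
      ((n • φ : IrrCharacter (Subgroup.centralizer ((P : Subgroup G) : Set G))) :
        Subgroup.centralizer ((P : Subgroup G) : Set G) → ℂ) c =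
      (φ : Subgroup.centralizer ((P : Subgroup G) : Set G) → ℂ) (dorbAut p P n⁻¹ c) :=
    fun n φ c => dorbSmul_apply p P n φ c
  -- the set is the orbit
  have horb : {φ : IrrCharacter (Subgroup.centralizer ((P : Subgroup G) : Set G)) |
      ∃ n ∈ Subgroup.normalizer ((P : Subgroup G) : Set G),
        ∀ c c' : Subgroup.centralizer ((P : Subgroup G) : Set G), (c' : G) = n * c * n⁻¹ →
          (φ : Subgroup.centralizer ((P : Subgroup G) : Set G) → ℂ) c =
            (θ : Subgroup.centralizer ((P : Subgroup G) : Set G) → ℂ) c'} =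
      MulAction.orbit (Subgroup.normalizer ((P : Subgroup G) : Set G)) θ := by
    ext φ
    rw [MulAction.mem_orbit_iff]
    constructor
    · rintro ⟨n, hn, h⟩
      refine ⟨(⟨n, hn⟩ : Subgroup.normalizer ((P : Subgroup G) : Set G))⁻¹, ?_⟩
      apply Subtype.ext
      funext c
      rw [hsmul, inv_inv]
      exact (h c (dorbAut p P ⟨n, hn⟩ c) rfl).symm
    · rintro ⟨n, rfl⟩
      refine ⟨((n⁻¹ : Subgroup.normalizer ((P : Subgroup G) : Set G)) : G), (n⁻¹).2, ?_⟩
      intro c c' hcc'
      rw [hsmul]
      have : dorbAut p P n⁻¹ c = c' := Subtype.ext (by rw [hcc']; rfl)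
      rw [this]
  have hCN : Subgroup.centralizer ((P : Subgroup G) : Set G) ≤
      Subgroup.normalizer ((P : Subgroup G) : Set G) := Subgroup.centralizer_le_normalizer _
  have hCT : Subgroup.centralizer ((P : Subgroup G) : Set G) ≤ T := by
    intro g hg
    rw [hT]
    refine ⟨hCN hg, ?_⟩
    intro c c' hcc'
    have hcl := Cfsg.Agent.Helper24.isClassFunction_of_isIrrCharacter θ.2
    have h6 : c' = (⟨g, hg⟩ : Subgroup.centralizer ((P : Subgroup G) : Set G)) * c *
        (⟨g, hg⟩ : Subgroup.centralizer ((P : Subgroup G) : Set G))⁻¹ :=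
      Subtype.ext (by simpa using hcc')
    rw [h6]
    exact hcl c ⟨g, hg⟩
  have hTN : T ≤ Subgroup.normalizer ((P : Subgroup G) : Set G) :=
    fun g hg => ((hT g).mp hg).1
  have hstab : MulAction.stabilizer (Subgroup.normalizer ((P : Subgroup G) : Set G)) θ =
      T.subgroupOf (Subgroup.normalizer ((P : Subgroup G) : Set G)) := by
    ext n
    rw [MulAction.mem_stabilizer_iff, Subgroup.mem_subgroupOf, hT]
    constructor
    · intro h
      refine ⟨n.2, ?_⟩
      intro c c' hcc'
      have h1 : ((n • θ : IrrCharacter (Subgroup.centralizer ((P : Subgroup G) : Set G))) :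
          Subgroup.centralizer ((P : Subgroup G) : Set G) → ℂ) c' =
          (θ : Subgroup.centralizer ((P : Subgroup G) : Set G) → ℂ) c' := by rw [h]
      rw [hsmul] at h1
      rw [← h1]
      have : dorbAut p P n⁻¹ c' = c := by
        apply Subtype.ext
        rw [dorbAut_apply_coe, hcc', Subgroup.coe_inv]
        group
      rw [this]
    · rintro ⟨-, h⟩
      apply Subtype.ext
      funext c
      rw [hsmul]
      refine (h (dorbAut p P n⁻¹ c) c ?_).symm
      rw [dorbAut_apply_coe, Subgroup.coe_inv]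
      group
  have hidx := MulAction.index_stabilizer (G := Subgroup.normalizer ((P : Subgroup G) : Set G))
    (x := θ)
  rw [hstab] at hidx
  rw [horb, Nat.card_coe_set_eq, ← hidx]
  have hmul := Subgroup.relIndex_mul_relIndex _ T _ hCT hTN
  rw [he, hf] at hmul
  have he0 : e ≠ 0 := by
    rw [← he, Subgroup.relIndex]
    exact Subgroup.index_ne_zero_of_finite
  show T.relIndex (Subgroup.normalizer ((P : Subgroup G) : Set G)) = f / e
  rw [← hmul, Nat.mul_div_cancel_left _ (Nat.pos_of_ne_zero he0)]

end Cfsg.Agent.Helper5.TLD
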