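import Mathlib
import Cfsg.Prelude.Def_Blocks

/-!
# S4442 piece DVAN (helper2): a character vanishing off the identity
-/

set_option autoImplicit false
set_option linter.unusedSectionVars false
set_option linter.unusedVariables false
set_option linter.style.haveILetI false

namespace Cfsg.Agent.Helper5.TLD

open Cfsg

/-- trace of the averaging projection -/
theorem dvan_trace_average {A : Type*} [Group A] [Fintype A] {n : ℕ}
    (ρ : Representation ℂ A (Fin n → ℂ)) [Invertible (Fintype.card A : ℂ)] :
    LinearMap.trace ℂ (Fin n → ℂ) ρ.averageMap =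
      ⅟(Fintype.card A : ℂ) * ∑ g : A, ρ.character g := by
  simp only [Representation.averageMap, GroupAlgebra.average, map_smul, map_sum,
    MonoidAlgebra.of_apply, Representation.asAlgebraHom_single, one_smul, smul_eq_mul,
    Representation.character]

/-- PIECE DVAN: a character vanishing off the identity has degree divisible by the group order. -/
theorem isCharacter_vanish_dvd {A : Type*} [Group A] [Finite A] (F : A → ℂ)
    (hF : IsCharacter A F) (h0 : ∀ a : A, a ≠ 1 → F a = 0) :
    ∃ m : ℕ, F 1 = ((Nat.card A * m : ℕ) : ℂ) := by
  classical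
  obtain ⟨n, ρ, rfl⟩ := hF
  haveI : Fintype A := Fintype.ofFinite A
  have hne : (Fintype.card A : ℂ) ≠ 0 := by exact_mod_cast Fintype.card_ne_zero
  haveI : Invertible (Fintype.card A : ℂ) := invertibleOfNonzero hne
  have htr := ρ.isProj_averageMap.trace
  rw [dvan_trace_average] at htr
  have hsum : ∑ g : A, ρ.character g = ρ.character 1 := by
    rw [Finset.sum_eq_single (1 : A)]
    · intro b _ hb
      exact h0 b hb
    · intro h
      exact absurd (Finset.mem_univ _) h
  rw [hsum] at htr
  refine ⟨Module.finrank ℂ ↥ρ.invariants, ?_⟩
  rw [Nat.card_eq_fintype_card]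
  push_cast
  rw [← htr, ← mul_assoc, mul_invOf_self, one_mul]

end Cfsg.Agent.Helper5.TLD
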