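import Mathlib
import Cfsg.Prelude.Def_Blocks
import Cfsg.Agent.Lib.Helper24.CharLinear
import Cfsg.Agent.S4441
import Cfsg.Agent.Lib.Helper5.TLDDefs
import Cfsg.Agent.Lib.Helper1.BRBSCAL
import Cfsg.Agent.Lib.Helper14.BRBTHA
import Cfsg.Agent.Lib.Helper2.BRR1
import Cfsg.Agent.Lib.Helper2.BRR2
import Cfsg.Agent.Lib.Helper24.CharAlgebra
import Cfsg.Agent.Lib.Helper24.CharAbelian
import Cfsg.Agent.Lib.Helper24.CharComplete

/-!
# S4503, piece RED4: every proper normal subgroup of a minimal counterexample is central (helper2)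

`proper_normal_central` with the exact signature of `plans/S4503_Skel.lean.txt`.
-/

set_option autoImplicit false
set_option linter.unusedSectionVars false
set_option linter.unusedVariables false
set_option linter.style.haveILetI false

namespace Cfsg.Agent.Helper14.BRB

open scoped ComplexConjugate
open Cfsg Cfsg.Agent.Helper24 Cfsg.Agent.Helper5.TLD

universe u

/-- a character of degree one has values of norm one -/
theorem RED4_norm_linear {H : Type u} [Group H] [Finite H] {μ : H → ℂ} (hμ : IsCharacter H μ)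
    (h1 : μ 1 = 1) (y : H) : ‖μ y‖ = 1 := by
  have hpow : (μ y) ^ (orderOf y) = 1 := by
    have := congrArg (fun z : ℂˣ => (z : ℂ)) (map_pow (linHom hμ h1) y (orderOf y))
    simp only [pow_orderOf_eq_one, map_one, Units.val_one, Units.val_pow_eq_pow_val,
      linHom_apply] at this
    exact this.symm
  exact Complex.norm_eq_one_of_pow_eq_one hpow (orderOf_pos y).ne'

/-- a central subgroup is normal -/
theorem RED4_normal_of_le_center {H : Type u} [Group H] {Q : Subgroup H}
    (h : Q ≤ Subgroup.center H) : Q.Normal := by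
  constructor
  intro a ha g
  have := Subgroup.mem_center_iff.mp (h ha) g
  rw [this, mul_assoc, mul_inv_cancel, mul_one]
  exact ha

variable {G : Type u} [Group G] [Fintype G] (p : ℕ) [Fact p.Prime]
variable (P : Sylow p G)

local notation "𝒞" => Subgroup.centralizer ((P : Subgroup G) : Set G)
local notation "𝒩" => Subgroup.normalizer ((P : Subgroup G) : Set G)

/-- `|P| = p` forces `p² ∤ |G|` -/
theorem RED4_not_sq_dvd (hP : Nat.card P = p) : ¬ p ^ 2 ∣ Nat.card G := by
  have hpp : p.Prime := Fact.out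
  intro h
  have hG0 : Nat.card G ≠ 0 := Nat.card_pos.ne'
  have h2 : 2 ≤ (Nat.card G).factorization p := (hpp.pow_dvd_iff_le_factorization hG0).mp h
  have h3 := Sylow.card_eq_multiplicity P
  rw [hP] at h3
  have h4 : p ^ 1 = p ^ (Nat.card G).factorization p := by rw [pow_one]; exact h3
  have := Nat.pow_right_injective hpp.two_le h4
  omega

/-- Step A at `f = 1`: if `N_G(P) = C_G(P)` then `P` is central. -/
theorem RED4_central_of_le (M : Ideal AlgInt) (hM : IsPModular p M) (hP : Nat.card P = p)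
    (hNC : 𝒩 ≤ 𝒞)
    (χ : G → ℂ) (hχ : IsCharacter G χ) (hfaith : ∀ g : G, χ g = χ 1 → g = 1)
    (hdeg : 2 * charDegree χ + 1 < p) : (P : Subgroup G) ≤ Subgroup.center G := by
  classical
  obtain ⟨I, hIdeg, hIker⟩ := Cfsg.Agent.Helper2.BRR.exists_constituents hχ
  have hf : (𝒞).relIndex 𝒩 = 1 := Subgroup.relIndex_eq_one.mpr hNC
  have hPcomm : ∀ a b : (P : Subgroup G), a * b = b * a := by
    intro a b
    haveI : IsCyclic (P : Subgroup G) := isCyclic_of_prime_card hP
    exact IsCyclic.commGroup.mul_comm a b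
  intro a ha
  rw [Subgroup.mem_center_iff]
  intro c
  have key : a * c * a⁻¹ * c⁻¹ = 1 := by
    apply hfaith
    apply hIker
    intro ζ hζI
    by_cases hker : ∃ x ∈ (P : Subgroup G), (ζ : G → ℂ) x ≠ (ζ : G → ℂ) 1
    · have hν3 : ∀ t ∈ 𝒩, ∃ k < 1, ∀ a : (P : Subgroup G),
          t * (a : G) * t⁻¹ = ((((1 : MulAut (P : Subgroup G)) ^ k) a : (P : Subgroup G)) : G) := by
        intro t ht
        refine ⟨0, Nat.one_pos, fun b => ?_⟩
        have h1 := (Subgroup.mem_centralizer_iff.mp (hNC ht)) (b : G) b.2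
        simp only [pow_zero, MulAut.one_apply]
        rw [← h1, mul_assoc, mul_inv_cancel, mul_one]
      have hν4 : ∀ k : ℕ, ∃ t ∈ 𝒩, ∀ a : (P : Subgroup G),
          t * (a : G) * t⁻¹ = ((((1 : MulAut (P : Subgroup G)) ^ k) a : (P : Subgroup G)) : G) := by
        intro k
        refine ⟨1, Subgroup.one_mem _, fun b => ?_⟩
        simp
      obtain ⟨ψ, m, hψ, hm, hζ, -⟩ := restrict_structure p P M hM hP 1 hf 1 (by simp)
        (by intro k h0 h1; omega) hν3 hν4 ζ (by have := hIdeg ζ hζI; omega) hker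
      have hψ1 : (ψ : ↥(P : Subgroup G) → ℂ) 1 = 1 := by
        haveI : Fintype (P : Subgroup G) := Fintype.ofFinite _
        letI : Fintype (IrrCharacter (P : Subgroup G)) := irrFintype
        rw [irr_one_eq_charDegree ψ.2, charDegree_eq_one_of_comm hPcomm ψ.2]
        simp
      have hva : (ζ : G → ℂ) a = (m : ℂ) * (ψ : ↥(P : Subgroup G) → ℂ) ⟨a, ha⟩ := by
        have := hζ ⟨a, ha⟩
        simpa using this
      have hv1 : (ζ : G → ℂ) 1 = (m : ℂ) := by
        have := hζ 1
        simpa [hψ1] using this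
      have hnorm : ‖(ζ : G → ℂ) a‖ = ((ζ : G → ℂ) 1).re := by
        rw [hva, hv1, norm_mul,
          RED4_norm_linear (isCharacter_of_isIrrCharacter ψ.2) hψ1 ⟨a, ha⟩]
        simp
      exact comm_mem_ker_of_norm_eq ζ.2 a hnorm c
    · push Not at hker
      have hak : a ∈ Cfsg.Agent.Helper2.BRR.kerOf ζ := hker a ha
      have h2 : a * (c * a⁻¹ * c⁻¹) ∈ Cfsg.Agent.Helper2.BRR.kerOf ζ :=
        (Cfsg.Agent.Helper2.BRR.kerOf ζ).mul_mem hak
          ((Cfsg.Agent.Helper2.BRR.kerOf_normal ζ).conj_mem _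
            ((Cfsg.Agent.Helper2.BRR.kerOf ζ).inv_mem hak) c)
      have e : a * c * a⁻¹ * c⁻¹ = a * (c * a⁻¹ * c⁻¹) := by group
      rw [e]
      exact h2
  calc c * a = (a * c * a⁻¹ * c⁻¹)⁻¹ * (a * c) := by group
    _ = a * c := by rw [key, inv_one, one_mul]

/-- PIECE RED4: every proper normal subgroup is central (uses THA, SCAL). -/
theorem proper_normal_central (M : Ideal AlgInt) (hM : IsPModular p M) (hP : Nat.card P = p)
    (hR3 : ∀ H : Subgroup G, (P : Subgroup G) ≤ H → H ≠ ⊤ → H ≤ 𝒩)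
    (hnn : ∀ H : Subgroup G, H.Normal → Nat.card H ≠ p)
    (hcl : Subgroup.normalClosure ((P : Subgroup G) : Set G) = ⊤)
    (χ : G → ℂ) (hχ : IsCharacter G χ) (hfaith : ∀ g : G, χ g = χ 1 → g = 1)
    (hdeg : 2 * charDegree χ + 1 < p)
    (K : Subgroup G) (hK : K.Normal) (hKtop : K ≠ ⊤) : K ≤ Subgroup.center G := by
  classical
  have hpp : p.Prime := Fact.out
  have hsq : ¬ p ^ 2 ∣ Nat.card G := RED4_not_sq_dvd p P hP
  have hPc : Nat.card (P : Subgroup G) = p := hP
  -- a normal subgroup containing `P` is everything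
  have htopN : ∀ N : Subgroup G, N.Normal → (P : Subgroup G) ≤ N → N = ⊤ := by
    intro N hN hPN
    have h1 : Subgroup.normalClosure ((P : Subgroup G) : Set G) ≤ N :=
      Subgroup.normalClosure_le_normal hPN
    rw [hcl] at h1
    exact top_le_iff.mp h1
  -- `N_G(P) ≠ C_G(P)`
  have hNC : ¬ 𝒩 ≤ 𝒞 := by
    intro h
    have hcen := RED4_central_of_le p P M hM hP h χ hχ hfaith hdeg
    exact hnn (P : Subgroup G) (RED4_normal_of_le_center hcen) hPc
  have hPK : ¬ (P : Subgroup G) ≤ K := fun h => hKtop (htopN K hK h)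
  have hpK : ¬ p ∣ Nat.card K := fun h =>
    hPK (Cfsg.Agent.Helper2.BRR.le_of_normal_of_dvd hsq hPc K h)
  have hcop : (Nat.card (P : Subgroup G)).Coprime (Nat.card K) := by
    rw [hPc]
    exact (Nat.Prime.coprime_iff_not_dvd hpp).mpr hpK
  have hinf : (P : Subgroup G) ⊓ K = ⊥ := (Subgroup.disjoint_of_coprime_natCard hcop).eq_bot
  -- elements of `K` normalising `P` centralise it
  have hcent : ∀ k ∈ K, k ∈ 𝒩 → ∀ a ∈ (P : Subgroup G), k * a = a * k := by
    intro k hk hkN a ha
    have h1 : k * a * k⁻¹ * a⁻¹ ∈ (P : Subgroup G) :=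
      (P : Subgroup G).mul_mem ((Subgroup.mem_normalizer_iff.mp hkN a).mp ha)
        ((P : Subgroup G).inv_mem ha)
    have h2 : k * a * k⁻¹ * a⁻¹ ∈ K := by
      have h3 : k * (a * k⁻¹ * a⁻¹) ∈ K := K.mul_mem hk (hK.conj_mem _ (K.inv_mem hk) a)
      have e : k * a * k⁻¹ * a⁻¹ = k * (a * k⁻¹ * a⁻¹) := by group
      rw [e]
      exact h3
    have h4 : k * a * k⁻¹ * a⁻¹ ∈ (P : Subgroup G) ⊓ K := Subgroup.mem_inf.mpr ⟨h1, h2⟩
    rw [hinf, Subgroup.mem_bot] at h4
    calc k * a = (k * a * k⁻¹ * a⁻¹) * (a * k) := by group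
      _ = a * k := by rw [h4, one_mul]
  by_cases hH : (P : Subgroup G) ⊔ K = ⊤
  · exfalso
    apply hNC
    intro g hg
    have hgm : g ∈ (P : Subgroup G) ⊔ K := by rw [hH]; exact Subgroup.mem_top g
    haveI := hK
    obtain ⟨x, hx, k, hk, rfl⟩ := Subgroup.mem_sup_of_normal_right.mp hgm
    have hxN : x ∈ 𝒩 := Subgroup.le_normalizer hx
    have hkN : k ∈ 𝒩 := by
      have := (𝒩).mul_mem ((𝒩).inv_mem hxN) hg
      rwa [← mul_assoc, inv_mul_cancel, one_mul] at this
    rw [Subgroup.mem_centralizer_iff]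
    intro a ha
    have h1 := hcent k hk hkN a ha
    have h2 := Cfsg.Agent.Helper2.BRR.comm_of_card_eq hPc hx ha
    calc a * (x * k) = (a * x) * k := by group
      _ = (x * a) * k := by rw [h2]
      _ = x * (a * k) := by group
      _ = x * (k * a) := by rw [h1]
      _ = x * k * a := by group
  · have hKN : K ≤ 𝒩 := le_sup_right.trans (hR3 _ le_sup_left hH)
    have hPcK : (P : Subgroup G) ≤ Subgroup.centralizer (K : Set G) := by
      intro a ha
      rw [Subgroup.mem_centralizer_iff]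
      intro k hk
      exact hcent k hk (hKN hk) a ha
    have htop : Subgroup.centralizer (K : Set G) = ⊤ := htopN _ inferInstance hPcK
    exact Subgroup.centralizer_eq_top_iff_subset.mp htop

end Cfsg.Agent.Helper14.BRB
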