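import Mathlib
import Cfsg.Prelude.Def_Blocks
import Cfsg.Agent.Lib.Helper24.CharLinear
import Cfsg.Agent.Lib.Helper24.CharAlgebra
import Cfsg.Agent.Lib.Helper24.CharHom
import Cfsg.Agent.Lib.Helper24.CharOrtho
import Cfsg.Agent.Lib.Helper24.CharComplete
import Cfsg.Agent.Lib.Helper8.Constituent
import Cfsg.Agent.Lib.Helper23.BlockOrtho
import Cfsg.Agent.Lib.Helper23.BlockDefect

/-!
# S4503, piece VCENT (Step D): the `p`-regular elements of `C_G(P)` are central (helper2)

`pcore_central` with the exact signature of `plans/S4503_Skel.lean.txt`.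
-/

set_option autoImplicit false
set_option linter.unusedSectionVars false
set_option linter.unusedVariables false
set_option linter.style.haveILetI false

namespace Cfsg.Agent.Helper14.BRB

open scoped ComplexConjugate
open Cfsg Cfsg.Agent.Helper24

universe u

variable {G : Type u} [Group G] [Fintype G] (p : ℕ) [Fact p.Prime]
variable (P : Sylow p G)

local notation "𝒞" => Subgroup.centralizer ((P : Subgroup G) : Set G)
local notation "𝒩" => Subgroup.normalizer ((P : Subgroup G) : Set G)

/-- the sum of a character over a subgroup `Q` is `|Q|` times a natural number -/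
theorem VCENT_sum_subgroup (Q : Subgroup G) [Fintype Q] {θ : G → ℂ} (hθ : IsCharacter G θ) :
    ∃ m : ℕ, ∑ a : Q, θ (a : G) = (Nat.card Q : ℂ) * (m : ℂ) := by
  classical
  letI : Fintype (IrrCharacter Q) := irrFintype
  have hres : IsCharacter Q (fun a : Q => θ (a : G)) := isCharacter_restrict Q hθ
  obtain ⟨m, hm⟩ := (isCharacter_decomp hres).1 (principalChar Q)
  refine ⟨m, ?_⟩
  rw [← hm]
  unfold classInner principalChar
  have hQ0 : (Nat.card Q : ℂ) ≠ 0 := by
    have : 0 < Nat.card Q := Nat.card_pos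
    exact_mod_cast this.ne'
  simp only [map_one, mul_one]
  rw [← mul_assoc, mul_inv_cancel₀ hQ0, one_mul]

/-- PIECE VCENT (Step D). -/
theorem pcore_central (M : Ideal AlgInt) (hM : IsPModular p M) (hP : Nat.card P = p)
    (hR4 : ∀ K : Subgroup G, K.Normal → K ≠ ⊤ → K ≤ Subgroup.center G)
    (hK : ∀ χ : IrrCharacter G, χ ∈ principalBlock M G →
      ∑ᶠ a : (P : Subgroup G), (χ : G → ℂ) (a : G) = 0 →
      ∀ v ∈ 𝒞, ¬ p ∣ orderOf v → (χ : G → ℂ) v = (χ : G → ℂ) 1)
    (ζ ζ' : IrrCharacter G)
    (hreg : ∀ g : G, ¬ p ∣ orderOf g → (ζ' : G → ℂ) g = (ζ : G → ℂ) g)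
    (hdisj : ∑ᶠ a : (P : Subgroup G), (ζ : G → ℂ) (a : G) * conj ((ζ' : G → ℂ) (a : G)) = 0)
    (v : G) (hv : v ∈ 𝒞) (hvp : ¬ p ∣ orderOf v) : v ∈ Subgroup.center G := by
  classical
  have hpp : p.Prime := Fact.out
  haveI hMp : M.IsPrime := hM.2.1.isPrime
  letI : Fintype (IrrCharacter G) := irrFintype
  haveI : Fintype (P : Subgroup G) := Fintype.ofFinite _
  have hPc : Nat.card (P : Subgroup G) = p := hP
  have hp0 : (p : ℂ) ≠ 0 := by exact_mod_cast hpp.ne_zero
  by_contra hvc
  have hζc : IsCharacter G (ζ : G → ℂ) := isCharacter_of_isIrrCharacter ζ.2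
  have hζ'c : IsCharacter G (ζ' : G → ℂ) := isCharacter_of_isIrrCharacter ζ'.2
  have hΞ : IsCharacter G (fun g => (ζ : G → ℂ) g * conj ((ζ : G → ℂ) g)) :=
    isCharacter_mul hζc (isCharacter_conj hζc)
  have hΞ' : IsCharacter G (fun g => (ζ : G → ℂ) g * conj ((ζ' : G → ℂ) g)) :=
    isCharacter_mul hζc (isCharacter_conj hζ'c)
  -- (1) no member of the principal block is a constituent of `Ξ'`
  have h1 : ∀ χ : IrrCharacter G, χ ∈ principalBlock M G →
      classInner (fun g => (ζ : G → ℂ) g * conj ((ζ' : G → ℂ) g)) (χ : G → ℂ) = 0 := by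
    intro χ hχB
    by_contra hne
    have hχc : IsCharacter G (χ : G → ℂ) := isCharacter_of_isIrrCharacter χ.2
    have hsub := Cfsg.Agent.Helper8.isCharacter_sub_constituent hΞ' χ.2 hne
    obtain ⟨m1, hm1⟩ := VCENT_sum_subgroup (P : Subgroup G) hχc
    obtain ⟨m2, hm2⟩ := VCENT_sum_subgroup (P : Subgroup G) hsub
    rw [hPc] at hm1 hm2
    have hsum0 : ∑ a : (P : Subgroup G),
        (ζ : G → ℂ) (a : G) * conj ((ζ' : G → ℂ) (a : G)) = 0 := by
      rw [← finsum_eq_sum_of_fintype]
      exact hdisj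
    have hadd : (p : ℂ) * (m1 : ℂ) + (p : ℂ) * (m2 : ℂ) = 0 := by
      rw [← hm1, ← hm2, ← Finset.sum_add_distrib, ← hsum0]
      apply Finset.sum_congr rfl
      intro a _
      simp only [Pi.sub_apply]
      ring
    have hm1z : m1 = 0 := by
      have h2 : (p : ℂ) * ((m1 : ℂ) + (m2 : ℂ)) = 0 := by rw [mul_add]; exact hadd
      have h3 : (m1 : ℂ) + (m2 : ℂ) = 0 := (mul_eq_zero.mp h2).resolve_left hp0
      have h4 : m1 + m2 = 0 := by exact_mod_cast h3
      omega
    have hχ0 : ∑ᶠ a : (P : Subgroup G), (χ : G → ℂ) (a : G) = 0 := by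
      rw [finsum_eq_sum_of_fintype, hm1, hm1z]
      simp
    have hχv := hK χ hχB hχ0 v hv hvp
    have hvK : v ∈ charKer hχc := hχv
    have hKtop : charKer hχc ≠ ⊤ := by
      intro htop
      have hall : ∀ a : (P : Subgroup G), (χ : G → ℂ) (a : G) = (χ : G → ℂ) 1 := by
        intro a
        have : (a : G) ∈ charKer hχc := by rw [htop]; exact Subgroup.mem_top _
        exact this
      have hs : ∑ a : (P : Subgroup G), (χ : G → ℂ) (a : G) = (p : ℂ) * (χ : G → ℂ) 1 := by
        rw [Finset.sum_congr rfl (fun a _ => hall a), Finset.sum_const, Finset.card_univ,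
          ← Nat.card_eq_fintype_card, hPc, nsmul_eq_mul]
      rw [finsum_eq_sum_of_fintype, hs] at hχ0
      have h5 : (χ : G → ℂ) 1 = 0 := (mul_eq_zero.mp hχ0).resolve_left hp0
      rw [irr_one_eq_charDegree χ.2] at h5
      have h6 : charDegree (χ : G → ℂ) = 0 := by exact_mod_cast h5
      have := charDegree_pos χ.2
      omega
    exact hvc (hR4 _ (charKer_normal hχc) hKtop hvK)
  -- multiplicities in `Ξ`
  obtain ⟨hn, -⟩ := isCharacter_decomp hΞ
  choose n hn using hn
  -- (2) the weighted sum over the principal block vanishes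
  have h2 : ∑ χ ∈ Finset.univ.filter (fun χ : IrrCharacter G => χ ∈ principalBlock M G),
      ((charDegree (χ : G → ℂ) * n χ : ℕ) : ℂ) = 0 := by
    have hterm : ∀ χ ∈ Finset.univ.filter (fun χ : IrrCharacter G => χ ∈ principalBlock M G),
        ((charDegree (χ : G → ℂ) * n χ : ℕ) : ℂ) =
          (Nat.card G : ℂ)⁻¹ * ∑ g : G,
            ((ζ : G → ℂ) g * conj ((ζ : G → ℂ) g) - (ζ : G → ℂ) g * conj ((ζ' : G → ℂ) g)) *
              ((χ : G → ℂ) 1 * conj ((χ : G → ℂ) g)) := by
      intro χ hχ
      have hχB : χ ∈ principalBlock M G := (Finset.mem_filter.mp hχ).2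
      have e1 := hn χ
      have e2 := h1 χ hχB
      unfold classInner at e1 e2
      push_cast
      rw [← irr_one_eq_charDegree χ.2, ← e1]
      have e3 : (Nat.card G : ℂ)⁻¹ * ∑ g : G,
            ((ζ : G → ℂ) g * conj ((ζ : G → ℂ) g) - (ζ : G → ℂ) g * conj ((ζ' : G → ℂ) g)) *
              ((χ : G → ℂ) 1 * conj ((χ : G → ℂ) g)) =
          (χ : G → ℂ) 1 * ((Nat.card G : ℂ)⁻¹ * ∑ g : G,
            (ζ : G → ℂ) g * conj ((ζ : G → ℂ) g) * conj ((χ : G → ℂ) g)) -
          (χ : G → ℂ) 1 * ((Nat.card G : ℂ)⁻¹ * ∑ g : G,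
            (ζ : G → ℂ) g * conj ((ζ' : G → ℂ) g) * conj ((χ : G → ℂ) g)) := by
        rw [Finset.mul_sum, Finset.mul_sum, Finset.mul_sum, Finset.mul_sum, Finset.mul_sum,
          ← Finset.sum_sub_distrib]
        apply Finset.sum_congr rfl
        intro g _
        ring
      rw [e3, e2, mul_zero, sub_zero]
    rw [Finset.sum_congr rfl hterm, ← Finset.mul_sum, Finset.sum_comm]
    have hz : ∀ g : G, ∑ χ ∈ Finset.univ.filter (fun χ : IrrCharacter G => χ ∈ principalBlock M G),
        ((ζ : G → ℂ) g * conj ((ζ : G → ℂ) g) - (ζ : G → ℂ) g * conj ((ζ' : G → ℂ) g)) *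
          ((χ : G → ℂ) 1 * conj ((χ : G → ℂ) g)) = 0 := by
      intro g
      by_cases hg : p ∣ orderOf g
      · have hw := Cfsg.Agent.Helper23.Blk.weak_block_orthogonality hM
          (Cfsg.Agent.Helper23.Blk.isPBlock_principalBlock (M := M) (G := G))
          (x := 1) (y := g) (by rw [orderOf_one]; exact hpp.not_dvd_one) hg
        rw [finsum_mem_def, finsum_eq_sum_of_fintype] at hw
        rw [← Finset.mul_sum, Finset.sum_filter]
        have : ∑ χ : IrrCharacter G, (if χ ∈ principalBlock M G then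
            (χ : G → ℂ) 1 * conj ((χ : G → ℂ) g) else 0) = 0 := by
          refine Eq.trans ?_ hw
          apply Finset.sum_congr rfl
          intro χ _
          rw [Set.indicator_apply]
        rw [this, mul_zero]
      · apply Finset.sum_eq_zero
        intro χ _
        rw [hreg g hg, sub_self, zero_mul]
    rw [Finset.sum_congr rfl (fun g _ => hz g), Finset.sum_const_zero, mul_zero]
  -- (3) the principal character contributes
  have h3 : ∑ χ ∈ Finset.univ.filter (fun χ : IrrCharacter G => χ ∈ principalBlock M G),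
      charDegree (χ : G → ℂ) * n χ = 0 := by
    have : ((∑ χ ∈ Finset.univ.filter (fun χ : IrrCharacter G => χ ∈ principalBlock M G),
      charDegree (χ : G → ℂ) * n χ : ℕ) : ℂ) = 0 := by
      rw [← h2]
      push_cast
      rfl
    exact_mod_cast this
  have hmem : principalChar G ∈
      Finset.univ.filter (fun χ : IrrCharacter G => χ ∈ principalBlock M G) :=
    Finset.mem_filter.mpr ⟨Finset.mem_univ _,
      Cfsg.Agent.Helper23.Blk.principalChar_mem_principalBlock⟩
  have h4 := (Finset.sum_eq_zero_iff.mp h3) _ hmem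
  have hd1 : charDegree ((principalChar G : IrrCharacter G) : G → ℂ) = 1 := by
    have : ((charDegree ((principalChar G : IrrCharacter G) : G → ℂ) : ℕ) : ℂ) = 1 := by
      rw [← irr_one_eq_charDegree (principalChar G).2]
      rfl
    exact_mod_cast this
  have hn1 : n (principalChar G) = 1 := by
    have e := hn (principalChar G)
    have e' : classInner (fun g => (ζ : G → ℂ) g * conj ((ζ : G → ℂ) g))
        ((principalChar G : IrrCharacter G) : G → ℂ) =
          classInner (ζ : G → ℂ) (ζ : G → ℂ) := by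
      unfold classInner principalChar
      simp only [map_one, mul_one]
    rw [e', (irr_orthogonality' ζ ζ)] at e
    simp only [if_true] at e
    exact_mod_cast e.symm
  rw [hd1, hn1] at h4
  omega

end Cfsg.Agent.Helper14.BRB
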