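import Mathlib
import Cfsg.Prelude.Def_Blocks
import Cfsg.Agent.Lib.Helper24.CharLinear
import Cfsg.Agent.Lib.Helper24.CharInduced
import Cfsg.Agent.Lib.Helper24.CharComplete
import Cfsg.Agent.Lib.Helper10.BR996Defs
import Cfsg.Agent.Lib.Helper2.BR996G3

/-!
# S0996, piece T1MERGE: for `t = 1` the exceptional character is constant `±1` on `P ∖ 1` (helper2)

`merge_t1` with the exact signature of `plans/BR996_Skel.lean.txt`.
-/

set_option autoImplicit false
set_option linter.unusedSectionVars false
set_option linter.unusedVariables false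
set_option linter.style.haveILetI false

namespace Cfsg.Agent.Helper10.BR996

open scoped ComplexConjugate
open Cfsg Cfsg.Agent.Helper24

universe u

namespace T1MERGE

/-- If `|N_G(P) : P| = p - 1` then all nontrivial elements of `P` are conjugate. -/
theorem conj_trans {G : Type*} [Group G] [Finite G] (p : ℕ) [Fact p.Prime] (P : Subgroup G)
    (hcard : Nat.card P = p) (hcent : Subgroup.centralizer (P : Set G) ≤ P)
    (hw : P.relIndex (Subgroup.normalizer (P : Set G)) = p - 1)
    (a b : G) (ha : a ∈ P) (ha1 : a ≠ 1) (hb : b ∈ P) (hb1 : b ≠ 1) :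
    ∃ g : G, g * a * g⁻¹ = b := by
  classical
  have hpp : p.Prime := Fact.out
  set a' : P := ⟨a, ha⟩ with ha'
  set b' : P := ⟨b, hb⟩ with hb'
  have hstab : MulAction.stabilizer (Subgroup.normalizer (P : Set G)) a' =
      P.subgroupOf (Subgroup.normalizer (P : Set G)) := by
    ext g
    rw [MulAction.mem_stabilizer_iff, Subgroup.mem_subgroupOf]
    constructor
    · intro h
      have h1 : (g : G) * a * (g : G)⁻¹ = a := congrArg Subtype.val h
      have h2 : a * (g : G) = (g : G) * a := by
        have := congrArg (fun t => t * (g : G)) h1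
        simpa using this.symm
      exact Cfsg.Agent.Helper2.BR996G3.mem_of_comm P p hcard hcent a ha ha1 _ h2
    · intro h
      apply Subtype.ext
      show (g : G) * a * (g : G)⁻¹ = a
      rw [Cfsg.Agent.Helper2.BR996G3.comm_of_card P p hcard _ _ h ha]
      group
  have hidx := MulAction.index_stabilizer (Subgroup.normalizer (P : Set G)) a'
  rw [hstab] at hidx
  have hidx' : (MulAction.orbit (Subgroup.normalizer (P : Set G)) a').ncard = p - 1 := by
    rw [← hidx]; exact hw
  have hsub : MulAction.orbit (Subgroup.normalizer (P : Set G)) a' ⊆ {x : P | x ≠ 1} := by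
    rintro _ ⟨g, rfl⟩
    intro h
    have h1 : (g : G) * a * (g : G)⁻¹ = 1 := congrArg Subtype.val h
    apply ha1
    have := congrArg (fun t => (g : G)⁻¹ * t * (g : G)) h1
    simpa [mul_assoc] using this
  have hcardne : ({x : P | x ≠ 1} : Set P).ncard = p - 1 := by
    have h1 : ({x : P | x ≠ 1} : Set P) = ({1} : Set P)ᶜ := by
      ext x; simp
    rw [h1, Set.ncard_compl, Set.ncard_singleton, hcard]
  have heq : MulAction.orbit (Subgroup.normalizer (P : Set G)) a' = {x : P | x ≠ 1} :=
    Set.eq_of_subset_of_ncard_le hsub (by rw [hidx', hcardne]) (Set.toFinite _)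
  have hb'mem : b' ∈ MulAction.orbit (Subgroup.normalizer (P : Set G)) a' := by
    rw [heq]
    intro h
    exact hb1 (congrArg Subtype.val h)
  obtain ⟨g, hg⟩ := hb'mem
  exact ⟨(g : G), congrArg Subtype.val hg⟩

end T1MERGE

variable {G : Type u} [Group G] [Fintype G] [Fintype (IrrCharacter G)]
  (p : ℕ) [Fact p.Prime] (P : Subgroup G)

local notation "𝒩" => Subgroup.normalizer (P : Set G)

/-- PIECE T1MERGE. -/
theorem merge_t1 (hcard : Nat.card P = p) (hcent : Subgroup.centralizer (P : Set G) ≤ P)
    (hw : P.relIndex 𝒩 = p - 1) (D : BrauerData p P (p - 1) 1) :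
    Nonempty (BrauerData p P p 0) := by
  classical
  have hpp : p.Prime := Fact.out
  -- the members of `Y` are constant `d0` on `P ∖ 1`
  have hconst : ∀ θ ∈ D.Y, ∀ z ∈ P, z ≠ 1 → (θ : G → ℂ) z = (D.d0 : ℂ) := by
    intro θ hθ z hz hz1
    have hcf : IsClassFunction G (θ : G → ℂ) := isClassFunction_of_isIrrCharacter θ.2
    have hall : ∀ y ∈ P, y ≠ 1 → (θ : G → ℂ) y = (θ : G → ℂ) z := by
      intro y hy hy1
      obtain ⟨g, hg⟩ := T1MERGE.conj_trans p P hcard hcent hw z y hz hz1 hy hy1
      rw [← hg]
      exact hcf z g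
    have hsum := D.sumY θ hθ
    unfold dsum at hsum
    have h1 : (∑ y : G, if y ∈ P ∧ y ≠ 1 then (θ : G → ℂ) y else 0) =
        ∑ y : G, if y ∈ P ∧ y ≠ 1 then (θ : G → ℂ) z else 0 := by
      apply Finset.sum_congr rfl
      intro y _
      by_cases hy : y ∈ P ∧ y ≠ 1
      · rw [if_pos hy, if_pos hy, hall y hy.1 hy.2]
      · rw [if_neg hy, if_neg hy]
    rw [h1, ← Finset.sum_filter, Finset.sum_const, nsmul_eq_mul] at hsum
    have hcnt : (Finset.univ.filter (fun y : G => y ∈ P ∧ y ≠ 1)).card = p - 1 := by
      have h2 : (Finset.univ.filter (fun y : G => y ∈ P ∧ y ≠ 1)) =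
          (Finset.univ.filter (fun y : G => y ∈ P)).erase 1 := by
        ext y
        simp [and_comm]
      rw [h2, Finset.card_erase_of_mem (by simp [P.one_mem])]
      have h3 : (Finset.univ.filter (fun y : G => y ∈ P)).card = Nat.card P := by
        rw [Nat.card_eq_fintype_card, Fintype.card_subtype]
      rw [h3, hcard]
    rw [hcnt] at hsum
    have hp1 : ((p - 1 : ℕ) : ℂ) ≠ 0 := by
      have := hpp.two_le
      exact_mod_cast (by omega : p - 1 ≠ 0)
    have : ((p - 1 : ℕ) : ℂ) * (θ : G → ℂ) z = ((p - 1 : ℕ) : ℂ) * (D.d0 : ℂ) := by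
      rw [hsum]; ring
    exact mul_left_cancel₀ hp1 this
  refine ⟨{ X := D.X ∪ D.Y
            Y := ∅
            sg := fun χ => if χ ∈ D.Y then D.d0 else D.sg χ
            d0 := D.d0
            disj := Finset.disjoint_empty_right _
            cardX := ?_
            cardY := Finset.card_empty
            sg_pm := ?_
            d0_pm := D.d0_pm
            valX := ?_
            valD := ?_
            regY := ?_
            sumY := ?_ }⟩
  · rw [Finset.card_union_of_disjoint D.disj, D.cardX, D.cardY]
    have := hpp.two_le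
    omega
  · intro χ hχ
    by_cases hY : χ ∈ D.Y
    · simp only [if_pos hY]; exact D.d0_pm
    · simp only [if_neg hY]
      rcases Finset.mem_union.mp hχ with h | h
      · exact D.sg_pm χ h
      · exact absurd h hY
  · intro χ hχ z hz hz1
    by_cases hY : χ ∈ D.Y
    · simp only [if_pos hY]; exact hconst χ hY z hz hz1
    · simp only [if_neg hY]
      rcases Finset.mem_union.mp hχ with h | h
      · exact D.valX χ h z hz hz1
      · exact absurd h hY
  · intro χ hχ _ z hz hz1
    rw [Finset.mem_union, not_or] at hχ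
    exact D.valD χ hχ.1 hχ.2 z hz hz1
  · intro θ hθ
    exact absurd hθ (Finset.notMem_empty _)
  · intro θ hθ
    exact absurd hθ (Finset.notMem_empty _)

end Cfsg.Agent.Helper10.BR996
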