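import Mathlib
import Cfsg.Agent.Lib.Helper21.BTDefs

/-!
# S0997 piece NUMB0: case `d0 = +1`: `q = 2`, `w = 2^c`
-/

set_option autoImplicit false
set_option linter.unusedSectionVars false
set_option linter.unusedVariables false

namespace Cfsg.Agent.Helper21.BT

namespace Num

variable {ι : Type*} [Fintype ι] [DecidableEq ι] (N : Num ι)

/-- aux: `w < p`. -/
theorem NUMB0.w_lt_p (ht : 2 ≤ N.t) : N.w < N.p := by
  have h1 := N.hwt
  have h2 := N.hw
  nlinarith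

/-- aux: the degree equation modulo `q`: `q ∣ 1 + d0 * x0`. -/
theorem NUMB0.q_dvd {x0 : ℕ} (hS : N.Struct x0) :
    (N.q : ℤ) ∣ 1 + N.d0 * (x0 : ℤ) := by
  have hYne : N.Y.Nonempty := by
    rw [← Finset.card_pos, N.cardY]; have := hS.ht; omega
  obtain ⟨j, hj⟩ := hYne
  have hone : N.one ∈ N.X := N.one_memX hS.ht
  have hdeg := N.degeq j hj
  rw [hS.degY j hj] at hdeg
  have hsum : ∑ i ∈ N.X, N.sg i * (N.deg i : ℤ) =
      1 + ∑ i ∈ N.X.erase N.one, N.sg i * (N.deg i : ℤ) := by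
    rw [← Finset.add_sum_erase _ _ hone, N.sg_one hone, N.deg_one]; simp
  have hdvd : (N.q : ℤ) ∣ ∑ i ∈ N.X.erase N.one, N.sg i * (N.deg i : ℤ) := by
    apply Finset.dvd_sum
    intro i hi
    rw [Finset.mem_erase] at hi
    exact Dvd.dvd.mul_left (Int.natCast_dvd_natCast.2 (hS.hqX i hi.2 hi.1)) _
  have : (1 : ℤ) + N.d0 * (x0 : ℤ) = - ∑ i ∈ N.X.erase N.one, N.sg i * (N.deg i : ℤ) := by
    linarith
  rw [this]; exact (dvd_neg).2 hdvd

/-- PIECE NUMB0 (section 5, first two lines). -/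
theorem caseB_basic {x0 : ℕ} (hS : N.Struct x0) (hd0 : N.d0 = 1) (hxw : x0 + N.w = N.p)
    (haY : ∀ j ∈ N.Y, N.a j = 1) : N.q = 2 ∧ ∃ c : ℕ, 1 ≤ c ∧ N.w = 2 ^ c := by
  have hq := N.hq
  have hp := N.hp
  have hwp := NUMB0.w_lt_p N hS.ht
  have hcop : Nat.Coprime N.w x0 := by
    have h1 : Nat.gcd N.w x0 ∣ N.p := by
      rw [← hxw]; exact Nat.dvd_add (Nat.gcd_dvd_right _ _) (Nat.gcd_dvd_left _ _)
    rcases (Nat.dvd_prime hp).1 h1 with h | h
    · exact h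
    · exfalso
      have h2 : N.p ∣ N.w := h ▸ Nat.gcd_dvd_left _ _
      have : N.p ≤ N.w := Nat.le_of_dvd (by have := N.hw; omega) h2
      omega
  have hwq : N.w ∣ N.q ^ N.b := by
    have h1 : N.w ∣ N.q ^ N.b * x0 := by rw [← hS.hg, ← N.hcard]; exact dvd_mul_right _ _
    exact hcop.dvd_of_dvd_mul_right h1
  obtain ⟨c, hcb, hc⟩ := (Nat.dvd_prime_pow hq).1 hwq
  have hc1 : 1 ≤ c := by
    rcases Nat.eq_zero_or_pos c with h | h
    · subst h; have := N.hw; simp at hc; omega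
    · exact h
  have hqw : N.q ∣ N.w := by rw [hc]; exact dvd_pow_self _ (by omega)
  have h2 : (N.q : ℤ) ∣ 1 + (x0 : ℤ) := by
    have := NUMB0.q_dvd N hS
    rw [hd0] at this; simpa using this
  have h3 : (N.q : ℤ) ∣ 2 := by
    have hwt := N.hwt
    have e : (2 : ℤ) = (1 + (x0 : ℤ)) - (N.w : ℤ) * ((N.t : ℤ) - 1) := by
      have e1 : (x0 : ℤ) + N.w = N.p := by exact_mod_cast hxw
      have e2 : (N.p : ℤ) = N.w * N.t + 1 := by exact_mod_cast hwt
      linarith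
    rw [e]
    exact dvd_sub h2 (Dvd.dvd.mul_right (Int.natCast_dvd_natCast.2 hqw) _)
  have hq2 : N.q = 2 := by
    have h4 : N.q ∣ 2 := by exact_mod_cast h3
    exact (Nat.prime_dvd_prime_iff_eq hq Nat.prime_two).1 h4
  exact ⟨hq2, c, hc1, by rw [hc, hq2]⟩

end Num

end Cfsg.Agent.Helper21.BT
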