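import Mathlib
import Cfsg.Agent.Lib.Helper21.BTDefs

/-!
# S0997 piece NUMB1: case `d0 = +1`, `w = 2`: `p = 2^m + 1`, `2 r = (p-1)(p-2)`
-/

set_option autoImplicit false
set_option linter.unusedSectionVars false
set_option linter.unusedVariables false

namespace Cfsg.Agent.Helper21.BT

namespace Num

variable {ι : Type*} [Fintype ι] [DecidableEq ι] (N : Num ι)

/-- PIECE NUMB1 (sections 5 (B1) and 6, case B1). -/
theorem caseB1 {x0 : ℕ} (hS : N.Struct x0) (hd0 : N.d0 = 1) (hxw : x0 + N.w = N.p)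
    (haY : ∀ j ∈ N.Y, N.a j = 1) (hq2 : N.q = 2) (hw2 : N.w = 2) (hB : N.HasBlk x0) :
    (∃ m : ℕ, N.p = 2 ^ m + 1) ∧ 2 * N.r = (N.p - 1) * (N.p - 2) := by
  have hp := N.hp
  have hone : N.one ∈ N.X := N.one_memX hS.ht
  have hYne : N.Y.Nonempty := by
    rw [← Finset.card_pos, N.cardY]; have := hS.ht; omega
  obtain ⟨j, hj⟩ := hYne
  have hcard : N.X.card = 2 := by rw [N.cardX, hw2]
  have hc1 : (N.X.erase N.one).card = 1 := by rw [Finset.card_erase_of_mem hone, hcard]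
  obtain ⟨χ, hχ⟩ := Finset.card_eq_one.1 hc1
  have hχX : χ ∈ N.X ∧ χ ≠ N.one := by
    have : χ ∈ N.X.erase N.one := by rw [hχ]; exact Finset.mem_singleton_self _
    rw [Finset.mem_erase] at this; exact ⟨this.2, this.1⟩
  have hdeg := N.degeq j hj
  rw [hd0, hS.degY j hj, ← Finset.add_sum_erase _ _ hone, hχ, Finset.sum_singleton,
    N.sg_one hone, N.deg_one] at hdeg
  have hx0 : x0 + 2 = N.p := by rw [← hw2]; exact hxw
  have hx0' : (x0 : ℤ) + 2 = N.p := by exact_mod_cast hx0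
  have hdpos := N.deg_pos χ
  have hdpos' : (0 : ℤ) < N.deg χ := by exact_mod_cast hdpos
  rcases N.sg_pm χ hχX.1 with hs | hs
  · exfalso
    rw [hs] at hdeg
    push_cast at hdeg
    have : (0 : ℤ) ≤ x0 := by positivity
    linarith
  rw [hs] at hdeg
  have hdχ' : (N.deg χ : ℤ) = x0 + 1 := by push_cast at hdeg; linarith
  have hdχ : N.deg χ = x0 + 1 := by exact_mod_cast hdχ'
  have hdp : N.deg χ + 1 = N.p := by omega
  -- `deg χ ∣ 2 ^ b`
  have hcop1 : Nat.Coprime (N.deg χ) x0 := by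
    rw [hdχ]; simp
  have hcop2 : Nat.Coprime (N.deg χ) N.p := by
    rw [← hdp]; simp
  have hdv := N.hdvd χ
  rw [hS.hg] at hdv
  have hdv2 : N.deg χ ∣ N.q ^ N.b :=
    hcop2.dvd_of_dvd_mul_left (hcop1.dvd_of_dvd_mul_right hdv)
  rw [hq2] at hdv2
  obtain ⟨m, hmb, hm⟩ := (Nat.dvd_prime_pow Nat.prime_two).1 hdv2
  refine ⟨⟨m, by omega⟩, ?_⟩
  -- the block step
  obtain ⟨S, c, hSX, hc, hSone, hS2, hSdvd⟩ := hB
  have hχS : χ ∉ S := fun h => hS2 χ h hχX.2 m hm
  have hsum : ∑ i ∈ S, N.sg i * (N.deg i : ℤ) = 1 := by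
    rw [Finset.sum_eq_single_of_mem N.one (hSone hone), N.sg_one hone, N.deg_one]
    · simp
    · intro i hi hne
      exfalso
      have : i ∈ N.X.erase N.one := Finset.mem_erase.2 ⟨hne, hSX hi⟩
      rw [hχ, Finset.mem_singleton] at this
      exact hχS (this ▸ hi)
  have hb := hS.hb
  have h2b : 2 ^ N.b ∣ N.p * N.q ^ N.b * N.g0 := by
    rw [hq2]; exact Dvd.dvd.mul_right (Dvd.dvd.mul_left dvd_rfl _) _
  have hd := hSdvd N.b h2b
  rw [hsum, hd0] at hd
  have hbm : N.b ≤ m := by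
    rcases hc with hc | hc
    · exfalso
      rw [hc] at hd
      simp only [zero_mul, add_zero] at hd
      have h2 : (2 : ℤ) ∣ 2 ^ N.b := dvd_pow_self _ (by omega)
      have := dvd_trans h2 hd
      omega
    · rw [hc] at hd
      have e : (1 : ℤ) + 1 * 1 * (x0 : ℤ) = ((2 ^ m : ℕ) : ℤ) := by
        rw [← hm, hdχ]; push_cast; ring
      rw [e] at hd
      have hd' : 2 ^ N.b ∣ 2 ^ m := by exact_mod_cast hd
      exact (Nat.pow_dvd_pow_iff_le_right (by norm_num)).1 hd'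
  have hbm' : N.b = m := le_antisymm hbm hmb
  have hr := N.hcard
  rw [hw2, hq2, hS.hg, hbm', ← hm] at hr
  rw [hr]
  have e1 : N.p - 1 = N.deg χ := by omega
  have e2 : N.p - 2 = x0 := by omega
  rw [e1, e2]

end Num

end Cfsg.Agent.Helper21.BT
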