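import Mathlib

/-!
# The "tensor step" of Gross's theorem (T) as a pure linear-algebra lemma (helper2)

`A` a set of endomorphisms of `V` closed under left multiplication by `a`, `b` commuting with
all of `A`, `(a * b - 1) ^ n = 0`, `(a - 1) ^ n = 0` with `(n : K) ≠ 0`, `b - 1` nilpotent, and
for every nonzero `v` some `x ∈ A` with `(a - 1) ^ (n - 1) (x v) ≠ 0`.  Then `b = 1`.
-/

set_option autoImplicit false

namespace Cfsg.Agent.Helper2.GrossTensor

variable {K : Type*} [Field K] {V : Type*} [AddCommGroup V] [Module K V]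

/-- the key computation: if `b v = v + v'`, `b v' = v'` and `b` commutes with `a` and `x`, then
`(a b - 1)^k (x v) = ((a-1)^k x) v + k • (a (a-1)^(k-1) x) v'`. -/
theorem pow_apply_aux (a b x : Module.End K V) (hab : Commute b a) (hbx : Commute b x)
    (v v' : V) (hv : b v = v + v') (hv' : b v' = v') (k : ℕ) :
    ((a * b - 1) ^ (k + 1)) (x v) =
      ((a - 1) ^ (k + 1) * x) v + ((k + 1 : ℕ) : K) • (a * (a - 1) ^ k * x) v' := by
  have hb1 : ∀ y : Module.End K V, Commute b y → (a * b - 1) (y v) = ((a - 1) * y) v + (a * y) v' := by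
    intro y hy
    have h1 : b (y v) = y (b v) := by
      have := congrArg (fun f : Module.End K V => f v) hy.eq
      simpa using this
    simp only [LinearMap.sub_apply, Module.End.mul_apply, Module.End.one_apply, h1, hv, map_add]
    abel
  have hb2 : ∀ y : Module.End K V, Commute b y → (a * b - 1) (y v') = ((a - 1) * y) v' := by
    intro y hy
    have h1 : b (y v') = y (b v') := by
      have := congrArg (fun f : Module.End K V => f v') hy.eq
      simpa using this
    simp only [LinearMap.sub_apply, Module.End.mul_apply, Module.End.one_apply, h1, hv']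
  have hba1 : Commute b (a - 1) := hab.sub_right (Commute.one_right b)
  induction k with
  | zero =>
    simp only [zero_add, pow_one, pow_zero, mul_one, Nat.cast_one, one_smul]
    exact hb1 x hbx
  | succ k ih =>
    rw [pow_succ' (a * b - 1), Module.End.mul_apply, ih, map_add, map_smul]
    have c1 : Commute b ((a - 1) ^ (k + 1) * x) := (hba1.pow_right _).mul_right hbx
    have c2 : Commute b (a * (a - 1) ^ k * x) := (hab.mul_right (hba1.pow_right _)).mul_right hbx
    rw [hb1 _ c1, hb2 _ c2]
    have e1 : (a - 1) * ((a - 1) ^ (k + 1) * x) = (a - 1) ^ (k + 1 + 1) * x := by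
      rw [← mul_assoc, ← pow_succ']
    have e2 : a * ((a - 1) ^ (k + 1) * x) = a * (a - 1) ^ (k + 1) * x := by rw [mul_assoc]
    have e3 : (a - 1) * (a * (a - 1) ^ k * x) = a * (a - 1) ^ (k + 1) * x := by
      have : (a - 1) * a = a * (a - 1) := by noncomm_ring
      rw [← mul_assoc, ← mul_assoc, this, mul_assoc a (a - 1), ← pow_succ']
    rw [e1, e2, e3, add_assoc]
    congr 1
    rw [Nat.cast_succ (k + 1), add_smul, one_smul, add_comm]

/-- **Tensor step.** -/
theorem tensor_step (n : ℕ) (hn : ((n : ℕ) : K) ≠ 0) (A : Set (Module.End K V))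
    (a b : Module.End K V) (hba : Commute b a) (hb : ∀ x ∈ A, Commute b x)
    (hab : (a * b - 1) ^ n = 0) (ha1 : (a - 1) ^ n = 0) (hb1 : IsNilpotent (b - 1))
    (hfree : ∀ v : V, v ≠ 0 → ∃ x ∈ A, ((a - 1) ^ (n - 1)) (x v) ≠ 0) : b = 1 := by
  by_contra hne
  have hc : b - 1 ≠ 0 := sub_ne_zero.mpr hne
  obtain ⟨j, hj⟩ := hb1
  -- minimal nilpotency index
  classical
  have hex : ∃ j, (b - 1) ^ j = 0 := ⟨j, hj⟩
  set j0 := Nat.find hex with hj0
  have hj0z : (b - 1) ^ j0 = 0 := Nat.find_spec hex
  have hj0ge : 2 ≤ j0 := by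
    by_contra hlt
    push Not at hlt
    interval_cases j0
    · rw [pow_zero] at hj0z
      have : (1 : Module.End K V) = 0 := hj0z
      apply hc
      calc b - 1 = (b - 1) * 1 := (mul_one _).symm
        _ = 0 := by rw [this, mul_zero]
    · rw [pow_one] at hj0z; exact hc hj0z
  have hj0m : (b - 1) ^ (j0 - 1) ≠ 0 := by
    intro h
    have := Nat.find_min' hex h
    omega
  obtain ⟨w, hw⟩ : ∃ w : V, ((b - 1) ^ (j0 - 1)) w ≠ 0 := by
    by_contra hall
    push Not at hall
    exact hj0m (LinearMap.ext hall)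
  set v := ((b - 1) ^ (j0 - 2)) w with hvdef
  set v' := ((b - 1) ^ (j0 - 1)) w with hv'def
  have h1 : (b - 1) v = v' := by
    rw [hvdef, hv'def, ← Module.End.mul_apply, ← pow_succ']
    congr 2; omega
  have h2 : (b - 1) v' = 0 := by
    rw [hv'def, ← Module.End.mul_apply, ← pow_succ']
    have : j0 - 1 + 1 = j0 := by omega
    rw [this, hj0z]; rfl
  have hv : b v = v + v' := by
    have : (b - 1) v = b v - v := by simp
    rw [this] at h1
    rw [← h1]; abel
  have hv' : b v' = v' := by
    have : (b - 1) v' = b v' - v' := by simp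
    rw [this] at h2
    exact sub_eq_zero.mp h2
  obtain ⟨x, hxA, hx⟩ := hfree v' hw
  have hn0 : n ≠ 0 := by
    rintro rfl; simp at hn
  obtain ⟨k, rfl⟩ : ∃ k, n = k + 1 := ⟨n - 1, by omega⟩
  have key := pow_apply_aux a b x hba (hb x hxA) v v' hv hv' k
  rw [hab, ha1] at key
  simp only [LinearMap.zero_apply, zero_mul] at key
  have h3 : (a * (a - 1) ^ k * x) v' = 0 := by
    have := key.symm
    rw [zero_add, smul_eq_zero] at this
    rcases this with h | h
    · exact absurd h hn
    · exact h
  have h4 : a * (a - 1) ^ k = (a - 1) ^ k := by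
    have : a * (a - 1) ^ k = (a - 1) ^ (k + 1) + (a - 1) ^ k := by
      rw [pow_succ']; noncomm_ring
    rw [this, ha1, zero_add]
  rw [h4] at h3
  apply hx
  simpa using h3

end Cfsg.Agent.Helper2.GrossTensor
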