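import Mathlib
import Cfsg.Agent.Lib.Helper4.PLenExpB

/-!
# S3786 (helper3's farm-out), common tools for the pieces L2 and TIGHT (helper2)

* `l2_geom_sum_char_pow`: in an algebra over `ZMod p`, `∑_{i < p^k} x^i = (x - 1)^(p^k - 1)`.
* `l2_sub_one_pow_char_pow`: `(x - 1)^(p^k) = x^(p^k) - 1`.
* `l2_sum_secLin₀_eq_zero`: the norm element of `y` vanishes on the section over the prime field.
-/

set_option autoImplicit false
set_option linter.unusedSectionVars false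

namespace Cfsg.Agent.Helper3.HHX

open Module Cfsg.Agent.Helper8.FrobLin Cfsg.Agent.Helper8.HHLin Cfsg.Agent.Helper8.SecRep
  Cfsg.Agent.Helper4.PLenExp

open Polynomial in
theorem l2_geom_poly (p : ℕ) [hp : Fact p.Prime] (k : ℕ) :
    (∑ i ∈ Finset.range (p ^ k), (X : (ZMod p)[X]) ^ i) = (X - 1) ^ (p ^ k - 1) := by
  have h1 : (X - 1 : (ZMod p)[X]) * ∑ i ∈ Finset.range (p ^ k), (X : (ZMod p)[X]) ^ i =
      (X - 1) * (X - 1) ^ (p ^ k - 1) := by
    rw [mul_geom_sum, ← pow_succ', Nat.sub_add_cancel (Nat.one_le_pow _ _ hp.out.pos),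
      sub_pow_char_pow, one_pow]
  have h2 : (X - 1 : (ZMod p)[X]) ≠ 0 := by
    have := Polynomial.X_sub_C_ne_zero (1 : ZMod p)
    rwa [map_one] at this
  exact mul_left_cancel₀ h2 h1

/-- the geometric sum of length `p^k` in characteristic `p` -/
theorem l2_geom_sum_char_pow {R : Type*} [Ring R] (p : ℕ) [hp : Fact p.Prime]
    [Algebra (ZMod p) R] (x : R) (k : ℕ) :
    ∑ i ∈ Finset.range (p ^ k), x ^ i = (x - 1) ^ (p ^ k - 1) := by
  have h := congrArg (Polynomial.aeval (R := ZMod p) x) (l2_geom_poly p k)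
  simpa using h

open Polynomial in
theorem l2_sub_one_pow_char_pow {R : Type*} [Ring R] (p : ℕ) [hp : Fact p.Prime]
    [Algebra (ZMod p) R] (x : R) (k : ℕ) : (x - 1) ^ p ^ k = x ^ p ^ k - 1 := by
  have h0 : (X - 1 : (ZMod p)[X]) ^ p ^ k = X ^ p ^ k - 1 := by
    rw [sub_pow_char_pow, one_pow]
  have h := congrArg (Polynomial.aeval (R := ZMod p) x) h0
  simpa using h

section Sec

variable {X : Type*} [Group X] [Finite X] {L L₁ : Subgroup X} {ℓ : ℕ} [Fact ℓ.Prime]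
  (h : IsSec L L₁ ℓ) (Γ : Subgroup X) (hΓ : Γ ≤ nn L L₁)

/-- if `y ^ m = 1` and all `(y v) ^ m`, `v ∈ L`, lie in `L₁`, the norm element vanishes (over the
prime field) -/
theorem l2_sum_secLin₀_eq_zero (y : X) (hy : y ∈ Γ) (m : ℕ) (hym : y ^ m = 1)
    (hall : ∀ v ∈ L, (y * v) ^ m ∈ L₁) :
    ∑ i ∈ Finset.range m, secLin₀ h Γ hΓ ⟨y, hy⟩ ^ i = 0 := by
  set ρ₀ := secLin₀ h Γ hΓ with hρ₀
  have hρm : ρ₀ ⟨y, hy⟩ ^ m = 1 := by
    rw [← map_pow]
    have : (⟨y, hy⟩ : ↥Γ) ^ m = 1 := by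
      apply Subtype.ext
      rw [Subgroup.coe_pow]
      exact hym
    rw [this, map_one]
  have h1 : ∑ i ∈ Finset.range m, ρ₀ ⟨y, hy⟩ ^ (i + 1) = 0 := by
    apply LinearMap.ext
    intro w
    obtain ⟨⟨v, hv⟩, rfl⟩ := secMk_surjective h w
    rw [LinearMap.sum_apply, ← secMk_cprod h Γ hΓ y hy v hv m, LinearMap.zero_apply,
      secMk_eq_zero]
    show cprod y v m ∈ L₁
    have := hall v hv
    rwa [mul_pow_eq, hym, mul_one] at this
  have e1 := Finset.sum_range_succ (fun i => ρ₀ ⟨y, hy⟩ ^ i) m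
  have e2 := Finset.sum_range_succ' (fun i => ρ₀ ⟨y, hy⟩ ^ i) m
  rw [e1] at e2
  simp only [pow_zero] at e2
  rw [hρm, h1, zero_add] at e2
  exact add_right_cancel (e2.trans (zero_add 1).symm)

end Sec

end Cfsg.Agent.Helper3.HHX
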