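import Mathlib
import Cfsg.Agent.Lib.Helper4.ThBField
import Cfsg.Agent.Lib.Helper4.PLenExpD
import Cfsg.Agent.Lib.Helper20.HHQuadH
import Cfsg.Agent.Lib.Helper10.Cores
import Cfsg.Agent.Lib.Helper2.HHXGeom

/-!
# S3786 (helper3's farm-out), piece TIGHT (helper2)

`tight_of_exp`: if all `p`-elements of `G` have order dividing `p^(n+1)` then every `p`-element `g`
acts on `O_p(G)/Φ(O_p(G))` with `(ρ(g) - 1)^(p^(n+1) - 1) = 0`.
-/

set_option autoImplicit false
set_option linter.unusedSectionVars false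
set_option linter.unusedVariables false
set_option linter.style.haveILetI false

namespace Cfsg.Agent.Helper3.HHX

open Cfsg Subgroup Cfsg.Agent.Helper4.ThB Cfsg.Agent.Helper4.PLenExp Cfsg.Agent.Helper20.HHQ
  Cfsg.Agent.Helper8.SecRep

universe u

section Y

variable {G : Type u} [Group G] [Finite G] {p : ℕ} [hp : Fact p.Prime]

/-- the product of a `p`-element with an element of a normal `p`-subgroup is a `p`-element -/
theorem tight_mul_pelement (P : Subgroup G) [P.Normal] (hP : IsPGroup p ↥P) (g : G)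
    (hg : ∃ k : ℕ, g ^ p ^ k = 1) (v : G) (hv : v ∈ P) : ∃ k : ℕ, (g * v) ^ p ^ k = 1 := by
  have h1 : IsPGroup p ↥(zpowers g ⊔ P) :=
    IsPGroup.to_sup_of_normal_right (isPGroup_zpowers_of_pow g hg) hP
  have h2 : g * v ∈ zpowers g ⊔ P :=
    (zpowers g ⊔ P).mul_mem ((le_sup_left : zpowers g ≤ zpowers g ⊔ P) (mem_zpowers g))
      ((le_sup_right : P ≤ zpowers g ⊔ P) hv)
  exact exists_pow_of_mem_isPGroup h1 h2

/-- general form of TIGHT: any normal `p`-subgroup `P` in place of `O_p(G)` -/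
theorem tight_of_exp_normal (P : Subgroup G) [P.Normal] (hP : IsPGroup p ↥P) (n : ℕ)
    (hexp : ∀ z : G, (∃ k : ℕ, z ^ p ^ k = 1) → z ^ p ^ (n + 1) = 1)
    (g : G) (hg : ∃ k : ℕ, g ^ p ^ k = 1) :
    (op (secRho (fsec P hP) (ftop P) g) - 1) ^ (p ^ (n + 1) - 1) = 0 := by
  have hop : op (secRho (fsec P hP) (ftop P) g) =
      secLin₀ (fsec P hP) ⊤ (ftop P) ⟨g, mem_top g⟩ := rfl
  rw [hop, ← l2_geom_sum_char_pow p _ (n + 1)]
  apply l2_sum_secLin₀_eq_zero (fsec P hP) ⊤ (ftop P) g (mem_top g) (p ^ (n + 1)) (hexp g hg)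
  intro v hv
  rw [hexp (g * v) (tight_mul_pelement P hP g hg v hv)]
  exact Subgroup.one_mem _

/-- PIECE TIGHT: if all `p`-elements of `G` have order dividing `p^(n+1)` then every `p`-element
acts tightly on `O_p(G)/Φ(O_p(G))`. -/
theorem tight_of_exp (n : ℕ) (hexp : ∀ z : G, (∃ k : ℕ, z ^ p ^ k = 1) → z ^ p ^ (n + 1) = 1)
    (g : G) (hg : ∃ k : ℕ, g ^ p ^ k = 1) :
    (op (secRho (fsec (pCore p G) (Cfsg.Agent.Helper10.pCore_isPGroup p)) (ftop (pCore p G)) g) - 1) ^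
      (p ^ (n + 1) - 1) = 0 :=
  tight_of_exp_normal (pCore p G) (Cfsg.Agent.Helper10.pCore_isPGroup p) n hexp g hg

end Y

end Cfsg.Agent.Helper3.HHX
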