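import Mathlib
import Cfsg.Prelude.Def_ParabolicCharacters
import Cfsg.Agent.Lib.Helper12.SL2Borel
import Cfsg.Agent.S0263
import Cfsg.Agent.Lib.Helper2.Isolated

set_option autoImplicit false

namespace Cfsg.Agent.Helper2.GL2

open Matrix

variable {F : Type*} [Field F]

/-- the unipotent element `[[1, b], [0, 1]]` of `GL₂` -/
def uGL (b : F) : GL (Fin 2) F :=
  ⟨!![1, b; 0, 1], !![1, -b; 0, 1], by
    ext i j; fin_cases i <;> fin_cases j <;> simp [Matrix.mul_apply, Fin.sum_univ_two], by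
    ext i j; fin_cases i <;> fin_cases j <;> simp [Matrix.mul_apply, Fin.sum_univ_two]⟩

theorem uGL_coe (b : F) : ((uGL b : GL (Fin 2) F) : Matrix (Fin 2) (Fin 2) F) = !![1, b; 0, 1] := rfl

theorem uGL_add (b c : F) : uGL (b + c) = uGL b * uGL c := by
  apply Units.ext
  rw [Units.val_mul, uGL_coe, uGL_coe, uGL_coe]
  ext i j; fin_cases i <;> fin_cases j <;> simp [Matrix.mul_apply, Fin.sum_univ_two, add_comm]

theorem uGL_zero : uGL (0 : F) = 1 := by
  apply Units.ext
  rw [uGL_coe]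
  ext i j; fin_cases i <;> fin_cases j <;> simp

theorem uGL_injective : Function.Injective (uGL : F → GL (Fin 2) F) := by
  intro b c h
  have := congrArg (fun g : GL (Fin 2) F => (g : Matrix (Fin 2) (Fin 2) F) 0 1) h
  simpa [uGL_coe] using this

theorem uGL_eq_one_iff (b : F) : uGL b = 1 ↔ b = 0 := by
  rw [← uGL_zero]; exact uGL_injective.eq_iff

/-- `b ↦ [[1, b], [0, 1]]` as a homomorphism -/
def uHom : Multiplicative F →* GL (Fin 2) F where
  toFun b := uGL (Multiplicative.toAdd b)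
  map_one' := uGL_zero
  map_mul' _ _ := uGL_add _ _

/-- the upper unitriangular subgroup -/
def U (F : Type*) [Field F] : Subgroup (GL (Fin 2) F) := (uHom (F := F)).range

theorem mem_U_iff (g : GL (Fin 2) F) : g ∈ U F ↔ ∃ b : F, uGL b = g := by
  constructor
  · rintro ⟨b, rfl⟩; exact ⟨Multiplicative.toAdd b, rfl⟩
  · rintro ⟨b, rfl⟩; exact ⟨Multiplicative.ofAdd b, rfl⟩

theorem uGL_mem (b : F) : uGL b ∈ U F := (mem_U_iff _).mpr ⟨b, rfl⟩

theorem card_U [Fintype F] : Nat.card (U F) = Fintype.card F := by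
  have hinj : Function.Injective (uHom (F := F)) := by
    intro b c h
    exact Multiplicative.toAdd.injective (uGL_injective h)
  rw [U, ← Nat.card_congr (MonoidHom.ofInjective hinj).toEquiv, ← Nat.card_eq_fintype_card]
  exact Nat.card_congr Multiplicative.toAdd

/-- the Borel subgroup -/
abbrev B (F : Type*) [Field F] : Subgroup (GL (Fin 2) F) := Cfsg.upperTriangularGL 2 F

theorem mem_B_iff (g : GL (Fin 2) F) : g ∈ B F ↔ (g : Matrix (Fin 2) (Fin 2) F) 1 0 = 0 :=
  Cfsg.Agent.Helper12.mem_upperTriangularGL_two_iff g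

theorem det_of_mem_B {g : GL (Fin 2) F} (hg : g ∈ B F) :
    (g : Matrix (Fin 2) (Fin 2) F) 0 0 * (g : Matrix (Fin 2) (Fin 2) F) 1 1 ≠ 0 := by
  rw [mem_B_iff] at hg
  have h := g.isUnit.map (Matrix.detMonoidHom)
  rw [Matrix.coe_detMonoidHom, Matrix.det_fin_two, hg, mul_zero, sub_zero] at h
  exact h.ne_zero

theorem mul_uGL_of_mem_B {k : GL (Fin 2) F} (hk : k ∈ B F) (b : F) :
    k * uGL b = uGL ((k : Matrix (Fin 2) (Fin 2) F) 0 0 * b / (k : Matrix (Fin 2) (Fin 2) F) 1 1) * k := by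
  have hdet := det_of_mem_B hk
  have h11 : (k : Matrix (Fin 2) (Fin 2) F) 1 1 ≠ 0 := right_ne_zero_of_mul hdet
  rw [mem_B_iff] at hk
  apply Units.ext
  rw [Units.val_mul, Units.val_mul, uGL_coe, uGL_coe]
  ext i j
  fin_cases i <;> fin_cases j <;> simp [Matrix.mul_apply, Fin.sum_univ_two, hk]
  field_simp
  ring

theorem conj_uGL_of_mem_B {k : GL (Fin 2) F} (hk : k ∈ B F) (b : F) :
    k * uGL b * k⁻¹ = uGL ((k : Matrix (Fin 2) (Fin 2) F) 0 0 * b / (k : Matrix (Fin 2) (Fin 2) F) 1 1) := by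
  rw [mul_uGL_of_mem_B hk, mul_inv_cancel_right]

theorem mem_B_of_comm {k : GL (Fin 2) F} {b c : F} (hb : b ≠ 0) (h : uGL b * k = k * uGL c) :
    k ∈ B F := by
  rw [mem_B_iff]
  have := congrArg (fun g : GL (Fin 2) F => (g : Matrix (Fin 2) (Fin 2) F) 0 0) h
  simp only [Units.val_mul, uGL_coe, Matrix.mul_apply, Fin.sum_univ_two] at this
  simp at this
  exact this.resolve_left hb

theorem normalizer_U : Subgroup.normalizer (U F : Set (GL (Fin 2) F)) = B F := by
  ext k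
  rw [Subgroup.mem_normalizer_iff]
  constructor
  · intro h
    have h1 := (h (uGL 1)).mp (uGL_mem 1)
    rw [mem_U_iff] at h1
    obtain ⟨c, hc⟩ := h1
    have hc0 : c ≠ 0 := by
      rintro rfl
      rw [uGL_zero] at hc
      have : uGL (1 : F) = 1 := by
        have h2 : k * uGL 1 = k := by
          have := congrArg (fun g => g * k) hc
          simpa using this.symm
        exact mul_left_cancel (a := k) (by rw [h2, mul_one])
      rw [uGL_eq_one_iff] at this
      exact one_ne_zero this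
    apply mem_B_of_comm hc0 (c := 1)
    rw [hc]; group
  · intro hk g
    constructor
    · intro hg
      rw [mem_U_iff] at hg
      obtain ⟨b, rfl⟩ := hg
      rw [conj_uGL_of_mem_B hk]
      exact uGL_mem _
    · intro hg
      rw [mem_U_iff] at hg
      obtain ⟨c, hc⟩ := hg
      have hk' : k⁻¹ ∈ B F := (B F).inv_mem hk
      have : g = k⁻¹ * uGL c * k⁻¹⁻¹ := by rw [hc]; group
      rw [this, conj_uGL_of_mem_B hk']
      exact uGL_mem _


/-- the upper triangular element `[[a, b], [0, d]]` -/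
def bGL (a d : Fˣ) (b : F) : GL (Fin 2) F :=
  ⟨!![(a : F), b; 0, (d : F)], !![((a⁻¹ : Fˣ) : F), -(((a⁻¹ : Fˣ) : F) * b * ((d⁻¹ : Fˣ) : F)); 0, ((d⁻¹ : Fˣ) : F)], by
    ext i j; fin_cases i <;> fin_cases j <;> simp [Matrix.mul_apply, Fin.sum_univ_two]
    field_simp
    ring, by
    ext i j; fin_cases i <;> fin_cases j <;> simp [Matrix.mul_apply, Fin.sum_univ_two]⟩

theorem bGL_coe (a d : Fˣ) (b : F) :
    ((bGL a d b : GL (Fin 2) F) : Matrix (Fin 2) (Fin 2) F) = !![(a : F), b; 0, (d : F)] := rfl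

theorem bGL_mem (a d : Fˣ) (b : F) : bGL a d b ∈ B F := by
  rw [mem_B_iff, bGL_coe]; simp

/-- the Borel subgroup is `Fˣ × Fˣ × F` as a set -/
noncomputable def equivB : B F ≃ Fˣ × Fˣ × F where
  toFun k := (Units.mk0 (((k : GL (Fin 2) F) : Matrix (Fin 2) (Fin 2) F) 0 0)
      (left_ne_zero_of_mul (det_of_mem_B k.2)),
    Units.mk0 (((k : GL (Fin 2) F) : Matrix (Fin 2) (Fin 2) F) 1 1)
      (right_ne_zero_of_mul (det_of_mem_B k.2)),
    ((k : GL (Fin 2) F) : Matrix (Fin 2) (Fin 2) F) 0 1)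
  invFun x := ⟨bGL x.1 x.2.1 x.2.2, bGL_mem _ _ _⟩
  left_inv k := by
    apply Subtype.ext
    apply Units.ext
    have hk := (mem_B_iff _).mp k.2
    simp only [bGL_coe]
    ext i j
    fin_cases i <;> fin_cases j <;> simp [hk]
  right_inv x := by
    obtain ⟨a, d, b⟩ := x
    simp [bGL_coe]

theorem card_B [Fintype F] : Nat.card (B F) = Fintype.card F * (Fintype.card F - 1) ^ 2 := by
  rw [Nat.card_congr equivB, Nat.card_prod, Nat.card_prod, Nat.card_units, Nat.card_eq_fintype_card]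
  ring


section Sylow

variable [Fintype F] (p : ℕ) [Fact p.Prime] [CharP F p]

omit [Fact p.Prime] in
theorem isPGroup_U : IsPGroup p (U F) := by
  obtain ⟨f, -, hqf⟩ := FiniteField.card F p
  exact IsPGroup.of_card (n := f) (by rw [card_U, hqf])

/-- the unitriangular group is a Sylow subgroup -/
theorem exists_sylow_eq_U : ∃ P : Sylow p (GL (Fin 2) F), (P : Subgroup (GL (Fin 2) F)) = U F := by
  obtain ⟨P, hP⟩ := (isPGroup_U (F := F) p).exists_le_sylow
  refine ⟨P, ?_⟩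
  symm
  apply Subgroup.eq_of_le_of_card_ge hP
  rw [card_U]
  have := Cfsg.Agent.S0263.result (F := F) rfl p 2 P
  simp only [Nat.reduceSub, mul_one, Nat.reduceDiv, pow_one] at this
  rw [← this]

theorem card_GL2 : Nat.card (GL (Fin 2) F) =
    (Fintype.card F + 1) * (Fintype.card F * (Fintype.card F - 1) ^ 2) := by
  rw [Matrix.card_GL_field, Fin.prod_univ_two]
  simp only [Fin.val_zero, Fin.val_one, pow_zero, pow_one]
  have hq : 1 < Fintype.card F := Fintype.one_lt_card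
  obtain ⟨r, hr⟩ : ∃ r, Fintype.card F = r + 1 := ⟨Fintype.card F - 1, by omega⟩
  rw [hr]
  have h1 : (r + 1) ^ 2 - 1 = r * (r + 2) := by
    rw [Nat.sub_eq_iff_eq_add (Nat.one_le_pow _ _ (by omega))]; ring
  have h2 : (r + 1) ^ 2 - (r + 1) = r * (r + 1) := by
    rw [Nat.sub_eq_iff_eq_add (by nlinarith)]; ring
  rw [h1, h2, Nat.add_sub_cancel]
  ring

theorem card_sylow : Nat.card (Sylow p (GL (Fin 2) F)) = Fintype.card F + 1 := by
  obtain ⟨P, hP⟩ := exists_sylow_eq_U (F := F) p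
  rw [Sylow.card_eq_index_normalizer P]
  change (Subgroup.normalizer ((P : Subgroup (GL (Fin 2) F)) : Set (GL (Fin 2) F))).index = _
  rw [hP, normalizer_U]
  have h1 := (B F).card_mul_index
  rw [card_B, card_GL2] at h1
  have hq : 1 < Fintype.card F := Fintype.one_lt_card
  have hpos : 0 < Fintype.card F * (Fintype.card F - 1) ^ 2 := by
    apply Nat.mul_pos (by omega)
    apply pow_pos; omega
  rw [mul_comm] at h1
  exact Nat.eq_of_mul_eq_mul_right hpos h1

theorem card_normalizer_sylow (P : Sylow p (GL (Fin 2) F)) :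
    Nat.card (Subgroup.normalizer ((P : Subgroup (GL (Fin 2) F)) : Set (GL (Fin 2) F))) =
      Fintype.card F * (Fintype.card F - 1) ^ 2 := by
  have h1 := (Subgroup.normalizer ((P : Subgroup (GL (Fin 2) F)) : Set (GL (Fin 2) F))).card_mul_index
  have h2 : (Subgroup.normalizer ((P : Subgroup (GL (Fin 2) F)) : Set (GL (Fin 2) F))).index =
      Fintype.card F + 1 := by
    rw [← card_sylow (F := F) p, Sylow.card_eq_index_normalizer P]
    rfl
  rw [h2, card_GL2, mul_comm] at h1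
  exact Nat.eq_of_mul_eq_mul_left (by omega) h1

/-- every Sylow subgroup is a conjugate of `U` -/
theorem exists_conj_eq (P : Sylow p (GL (Fin 2) F)) :
    ∃ g : GL (Fin 2) F, ∀ x : GL (Fin 2) F, x ∈ P ↔ ∃ b : F, x = g * uGL b * g⁻¹ := by
  obtain ⟨P0, hP0⟩ := exists_sylow_eq_U (F := F) p
  obtain ⟨g, hg⟩ := MulAction.exists_smul_eq (GL (Fin 2) F) P0 P
  refine ⟨g, fun x => ?_⟩
  rw [← hg, Cfsg.Agent.Helper2.mem_sylow_smul_iff]
  change g⁻¹ * x * g ∈ (P0 : Subgroup (GL (Fin 2) F)) ↔ _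
  rw [hP0, mem_U_iff]
  constructor
  · rintro ⟨b, hb⟩
    exact ⟨b, by rw [hb]; group⟩
  · rintro ⟨b, rfl⟩
    exact ⟨b, by group⟩


/-- distinct Sylow subgroups for the characteristic meet trivially -/
theorem sylow_inf_eq_bot (P Q : Sylow p (GL (Fin 2) F)) (h : P ≠ Q) :
    (P : Subgroup (GL (Fin 2) F)) ⊓ (Q : Subgroup (GL (Fin 2) F)) = ⊥ := by
  rw [eq_bot_iff]
  intro x hx
  rw [Subgroup.mem_bot]
  by_contra hx1
  apply h
  obtain ⟨g, hg⟩ := exists_conj_eq p P
  obtain ⟨k, hk⟩ := exists_conj_eq p Q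
  obtain ⟨b, hb⟩ := (hg x).mp hx.1
  obtain ⟨c, hc⟩ := (hk x).mp hx.2
  have hb0 : b ≠ 0 := by
    rintro rfl
    apply hx1
    rw [hb, uGL_zero]; group
  have hcomm : uGL b * (g⁻¹ * k) = (g⁻¹ * k) * uGL c := by
    have : g * uGL b * g⁻¹ = k * uGL c * k⁻¹ := by rw [← hb, ← hc]
    calc uGL b * (g⁻¹ * k) = g⁻¹ * (g * uGL b * g⁻¹) * k := by group
      _ = g⁻¹ * (k * uGL c * k⁻¹) * k := by rw [this]
      _ = _ := by group
  have hmem : g⁻¹ * k ∈ B F := mem_B_of_comm hb0 hcomm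
  have hle : (Q : Subgroup (GL (Fin 2) F)) ≤ P := by
    intro y hy
    obtain ⟨d, hd⟩ := (hk y).mp hy
    apply (hg y).mpr
    refine ⟨((g⁻¹ * k : GL (Fin 2) F) : Matrix (Fin 2) (Fin 2) F) 0 0 * d /
      ((g⁻¹ * k : GL (Fin 2) F) : Matrix (Fin 2) (Fin 2) F) 1 1, ?_⟩
    rw [← conj_uGL_of_mem_B hmem d, hd]
    group
  exact Sylow.ext (Q.is_maximal' P.isPGroup' hle)

end Sylow

theorem card_centralizer_conj {G : Type*} [Group G] (g x : G) :
    Nat.card (Subgroup.centralizer ({g * x * g⁻¹} : Set G)) =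
      Nat.card (Subgroup.centralizer ({x} : Set G)) := by
  apply Nat.card_congr
  refine ⟨fun k => ⟨g⁻¹ * k * g, ?_⟩, fun k => ⟨g * k * g⁻¹, ?_⟩, ?_, ?_⟩
  · have := k.2
    rw [Subgroup.mem_centralizer_singleton_iff] at this ⊢
    calc g⁻¹ * ↑k * g * x = g⁻¹ * (↑k * (g * x * g⁻¹)) * g := by group
      _ = g⁻¹ * ((g * x * g⁻¹) * ↑k) * g := by rw [this]
      _ = _ := by group
  · have := k.2
    rw [Subgroup.mem_centralizer_singleton_iff] at this ⊢
    calc g * ↑k * g⁻¹ * (g * x * g⁻¹) = g * (↑k * x) * g⁻¹ := by group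
      _ = g * (x * ↑k) * g⁻¹ := by rw [this]
      _ = _ := by group
  · intro k; apply Subtype.ext; simp only []; group
  · intro k; apply Subtype.ext; simp only []; group

theorem mem_centralizer_uGL_iff {b : F} (hb : b ≠ 0) (k : GL (Fin 2) F) :
    k ∈ Subgroup.centralizer ({uGL b} : Set (GL (Fin 2) F)) ↔
      k ∈ B F ∧ (k : Matrix (Fin 2) (Fin 2) F) 0 0 = (k : Matrix (Fin 2) (Fin 2) F) 1 1 := by
  rw [Subgroup.mem_centralizer_singleton_iff]
  constructor
  · intro h
    have hk : k ∈ B F := mem_B_of_comm hb h.symm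
    refine ⟨hk, ?_⟩
    rw [mul_uGL_of_mem_B hk] at h
    have h2 := uGL_injective (mul_right_cancel h)
    have hdet := det_of_mem_B hk
    have h11 : (k : Matrix (Fin 2) (Fin 2) F) 1 1 ≠ 0 := right_ne_zero_of_mul hdet
    field_simp at h2
    exact h2
  · rintro ⟨hk, h⟩
    rw [mul_uGL_of_mem_B hk, h]
    have hdet := det_of_mem_B hk
    have h11 : (k : Matrix (Fin 2) (Fin 2) F) 1 1 ≠ 0 := right_ne_zero_of_mul hdet
    congr 2
    field_simp

/-- the centralizer of a unipotent element is `Fˣ × F` as a set -/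
noncomputable def equivCentralizer {b : F} (hb : b ≠ 0) :
    Subgroup.centralizer ({uGL b} : Set (GL (Fin 2) F)) ≃ Fˣ × F where
  toFun k := (Units.mk0 (((k : GL (Fin 2) F) : Matrix (Fin 2) (Fin 2) F) 0 0)
      (left_ne_zero_of_mul (det_of_mem_B ((mem_centralizer_uGL_iff hb _).mp k.2).1)),
    ((k : GL (Fin 2) F) : Matrix (Fin 2) (Fin 2) F) 0 1)
  invFun x := ⟨bGL x.1 x.1 x.2, (mem_centralizer_uGL_iff hb _).mpr ⟨bGL_mem _ _ _, by simp [bGL_coe]⟩⟩
  left_inv k := by
    apply Subtype.ext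
    apply Units.ext
    obtain ⟨hk, hk2⟩ := (mem_centralizer_uGL_iff hb _).mp k.2
    rw [mem_B_iff] at hk
    simp only [bGL_coe]
    ext i j
    fin_cases i <;> fin_cases j <;> simp [hk, hk2]
  right_inv x := by
    obtain ⟨a, c⟩ := x
    simp [bGL_coe]

theorem card_centralizer_uGL [Fintype F] {b : F} (hb : b ≠ 0) :
    Nat.card (Subgroup.centralizer ({uGL b} : Set (GL (Fin 2) F))) =
      Fintype.card F * (Fintype.card F - 1) := by
  rw [Nat.card_congr (equivCentralizer hb), Nat.card_prod, Nat.card_units,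
    Nat.card_eq_fintype_card, mul_comm]

end Cfsg.Agent.Helper2.GL2
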