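import Mathlib
import Cfsg.Prelude.Def_Involutions
import Cfsg.Prelude.Def_LieExceptional

/-!
# S2202 (abelian involution centralizers): definitions for the permutation-group core (helper2)

Paper proof: `plans/S2202_notes.md`.  Points are the Sylow 2-subgroups `P : Sylow 2 G` with the
conjugation action `g • P`.
-/

set_option autoImplicit false

namespace Cfsg.Agent.Helper2.AIC

variable {G : Type*} [Group G]

/-- every involution centralizer is commutative -/
def Hyp (G : Type*) [Group G] : Prop :=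
  ∀ t : G, orderOf t = 2 → ∀ x ∈ Subgroup.centralizer ({t} : Set G),
    ∀ y ∈ Subgroup.centralizer ({t} : Set G), x * y = y * x

/-- `M_P = N_G(P)`, the stabilizer of the point `P` -/
abbrev Mn (P : Sylow 2 G) : Subgroup G := Subgroup.normalizer ((P : Subgroup G) : Set G)

/-- `C_P = C_G(P)` -/
abbrev Cn (P : Sylow 2 G) : Subgroup G := Subgroup.centralizer ((P : Subgroup G) : Set G)

/-- `K_P`: generated by the elements of odd order of `C_G(P)` (equal to the set of these elements
when `C_G(P)` is commutative) -/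
def Kn (P : Sylow 2 G) : Subgroup G :=
  Subgroup.closure {x | x ∈ Cn P ∧ Odd (orderOf x)}

/-- `D_{PQ} = M_P ⊓ M_Q`, the stabilizer of two points -/
abbrev Dn (P Q : Sylow 2 G) : Subgroup G := Mn P ⊓ Mn Q

/-- the number `q - 1` of involutions of `P` -/
noncomputable def nInv (P : Sylow 2 G) : ℕ := Nat.card {t : G // t ∈ P ∧ orderOf t = 2}

/-- the standing configuration: involution centralizers commutative, Sylow 2-subgroups neither cyclic
nor normal -/
structure Cfg (G : Type*) [Group G] [Finite G] : Prop where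
  hyp : Hyp G
  nc : ∀ P : Sylow 2 G, ¬ IsCyclic P
  nn : ∀ P : Sylow 2 G, ∃ Q : Sylow 2 G, Q ≠ P

/-- the extended centralizer of `d`: elements centralizing or inverting `d` -/
def ecent (d : G) : Subgroup G where
  carrier := {g | g * d * g⁻¹ = d ∨ g * d * g⁻¹ = d⁻¹}
  one_mem' := by left; simp
  mul_mem' := by
    intro a b ha hb
    have h : a * b * d * (a * b)⁻¹ = a * (b * d * b⁻¹) * a⁻¹ := by group
    have hinv : ∀ g : G, g * d * g⁻¹ = d⁻¹ → g * d⁻¹ * g⁻¹ = d := by
      intro g hg
      have : g * d⁻¹ * g⁻¹ = (g * d * g⁻¹)⁻¹ := by group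
      rw [this, hg, inv_inv]
    rcases ha with ha | ha <;> rcases hb with hb | hb
    · left; show a * b * d * (a * b)⁻¹ = d; rw [h, hb, ha]
    · right; show a * b * d * (a * b)⁻¹ = d⁻¹
      rw [h, hb]
      have : a * d⁻¹ * a⁻¹ = (a * d * a⁻¹)⁻¹ := by group
      rw [this, ha]
    · right; show a * b * d * (a * b)⁻¹ = d⁻¹; rw [h, hb, ha]
    · left; show a * b * d * (a * b)⁻¹ = d; rw [h, hb, hinv a ha]
  inv_mem' := by
    intro a ha
    rcases ha with ha | ha
    · left
      show a⁻¹ * d * a⁻¹⁻¹ = d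
      conv_lhs => rw [← ha]
      group
    · right
      show a⁻¹ * d * a⁻¹⁻¹ = d⁻¹
      have : d = a⁻¹ * d⁻¹ * a := by rw [← ha]; group
      have h2 : a⁻¹ * d * a⁻¹⁻¹ = (a⁻¹ * d⁻¹ * a)⁻¹ := by group
      rw [h2, ← this]

theorem mem_ecent {d g : G} : g ∈ ecent d ↔ g * d * g⁻¹ = d ∨ g * d * g⁻¹ = d⁻¹ := Iff.rfl

end Cfsg.Agent.Helper2.AIC
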