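import Mathlib

set_option autoImplicit false

namespace Cfsg.Agent.Helper2

open QuaternionGroup

/-- Recognition of generalised quaternion groups: a group of order `4n` (`n ≥ 2`) with an element
`a` of order `2n` and an element `b` with `b² = aⁿ` and `b a b⁻¹ = a⁻¹` is `QuaternionGroup n`. -/
theorem nonempty_mulEquiv_quaternion {G : Type*} [Group G] (n : ℕ) (hn : 2 ≤ n) (a b : G)
    (ha : orderOf a = 2 * n) (hb : b * b = a ^ n) (hba : b * a * b⁻¹ = a⁻¹)
    (hcard : Nat.card G = 4 * n) :
    Nonempty (G ≃* QuaternionGroup n) := by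
  have hn0 : n ≠ 0 := by omega
  have : NeZero n := ⟨hn0⟩
  have : Finite G := Nat.finite_of_card_ne_zero (by rw [hcard]; omega)
  let ρ : ZMod (2 * n) → G := fun i => a ^ i.val
  have hmod : ∀ k, a ^ (k % (2 * n)) = a ^ k := by
    intro k
    have := pow_mod_orderOf a k
    rwa [ha] at this
  have hρadd : ∀ i j : ZMod (2 * n), ρ (i + j) = ρ i * ρ j := by
    intro i j
    show a ^ (i + j).val = a ^ i.val * a ^ j.val
    rw [ZMod.val_add, ← pow_add, hmod]
  have hρcomm : ∀ i j : ZMod (2 * n), ρ i * ρ j = ρ j * ρ i := by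
    intro i j
    show a ^ i.val * a ^ j.val = a ^ j.val * a ^ i.val
    rw [← pow_add, ← pow_add, add_comm]
  have hρsub : ∀ i j : ZMod (2 * n), ρ (j - i) = (ρ i)⁻¹ * ρ j := by
    intro i j
    have := hρadd (j - i) i
    rw [sub_add_cancel] at this
    rw [this, hρcomm, inv_mul_cancel_left]
  have hρn : ρ (n : ZMod (2 * n)) = a ^ n := by
    show a ^ ((n : ZMod (2 * n))).val = a ^ n
    rw [ZMod.val_natCast, hmod]
  have h1 : a * b = b * a⁻¹ := by
    have h2 : b * a⁻¹ * b⁻¹ = a := by
      have := congrArg (fun x => x⁻¹) hba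
      simp only [mul_inv_rev, inv_inv] at this
      rw [← mul_assoc] at this
      exact this
    calc a * b = (b * a⁻¹ * b⁻¹) * b := by rw [h2]
      _ = b * a⁻¹ := by group
  have has : ∀ k : ℕ, a ^ k * b = b * (a ^ k)⁻¹ := by
    intro k
    induction k with
    | zero => simp
    | succ k ih =>
      calc a ^ (k + 1) * b = a ^ k * (a * b) := by rw [pow_succ, mul_assoc]
        _ = a ^ k * (b * a⁻¹) := by rw [h1]
        _ = (a ^ k * b) * a⁻¹ := by rw [mul_assoc]
        _ = b * (a ^ k)⁻¹ * a⁻¹ := by rw [ih]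
        _ = b * (a ^ (k + 1))⁻¹ := by
          rw [pow_succ', mul_inv_rev, mul_assoc]
  have hρb : ∀ i : ZMod (2 * n), ρ i * b = b * (ρ i)⁻¹ := fun i => has i.val
  let f : QuaternionGroup n → G := fun x =>
    match x with
    | QuaternionGroup.a i => ρ i
    | QuaternionGroup.xa i => b * ρ i
  have hfa : ∀ i, f (QuaternionGroup.a i) = ρ i := fun _ => rfl
  have hfxa : ∀ i, f (QuaternionGroup.xa i) = b * ρ i := fun _ => rfl
  have hmul : ∀ x y : QuaternionGroup n, f (x * y) = f x * f y := by
    intro x y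
    rcases x with i | i <;> rcases y with j | j
    · rw [a_mul_a, hfa, hfa, hfa, hρadd]
    · rw [a_mul_xa, hfa, hfxa, hfxa, hρsub]
      calc b * ((ρ i)⁻¹ * ρ j) = b * (ρ i)⁻¹ * ρ j := by rw [mul_assoc]
        _ = (ρ i * b) * ρ j := by rw [hρb]
        _ = ρ i * (b * ρ j) := by rw [mul_assoc]
    · rw [xa_mul_a, hfxa, hfxa, hfa, hρadd, mul_assoc]
    · rw [xa_mul_xa, hfa, hfxa, hfxa, add_sub_assoc, hρadd, hρsub, hρn, ← hb]
      calc b * b * ((ρ i)⁻¹ * ρ j) = b * (b * (ρ i)⁻¹) * ρ j := by group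
        _ = b * (ρ i * b) * ρ j := by rw [hρb]
        _ = b * ρ i * (b * ρ j) := by group
  let F : QuaternionGroup n →* G := MonoidHom.mk' f hmul
  have hbn : b ∉ Subgroup.zpowers a := by
    intro hmem
    obtain ⟨k, hk⟩ := Subgroup.mem_zpowers_iff.1 hmem
    have hcomm : b * a = a * b := by
      rw [← hk]
      rw [← zpow_add_one, ← zpow_one_add, add_comm]
    have h2 : a = a⁻¹ := by
      rw [← hba, hcomm, mul_inv_cancel_right]
    have h3 : a ^ 2 = 1 := by
      rw [pow_two]
      nth_rewrite 2 [h2]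
      exact mul_inv_cancel a
    have h4 := orderOf_dvd_of_pow_eq_one h3
    rw [ha] at h4
    have := Nat.le_of_dvd (by norm_num) h4
    omega
  have hinj : Function.Injective F := by
    rw [injective_iff_map_eq_one]
    intro x hx
    rcases x with i | i
    · have h1 : a ^ i.val = 1 := hx
      have h2 : 2 * n ∣ i.val := by
        have := orderOf_dvd_of_pow_eq_one h1
        rwa [ha] at this
      have h3 : i.val < 2 * n := ZMod.val_lt i
      have h4 : i.val = 0 := Nat.eq_zero_of_dvd_of_lt h2 h3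
      have h5 : i = 0 := (ZMod.val_eq_zero i).1 h4
      rw [h5, a_zero]
    · exfalso
      apply hbn
      have h1 : b * a ^ i.val = 1 := hx
      have h2 : b = (a ^ i.val)⁻¹ := eq_inv_of_mul_eq_one_left h1
      rw [h2]
      exact (Subgroup.zpowers a).inv_mem ((Subgroup.zpowers a).pow_mem (Subgroup.mem_zpowers a) _)
  have hbij : Function.Bijective F :=
    hinj.bijective_of_nat_card_le (by
      rw [hcard, Nat.card_eq_fintype_card, QuaternionGroup.card])
  exact ⟨(MulEquiv.ofBijective F hbij).symm⟩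

end Cfsg.Agent.Helper2
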