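import Mathlib
import Cfsg.Prelude.Def_Classical
import Cfsg.Agent.Lib.Helper28.WittQuad
import Cfsg.Agent.Lib.Helper13.Hyperbolic

set_option autoImplicit false
set_option linter.unusedSectionVars false

namespace Cfsg.Agent.Helper2.Orth

open QuadraticMap Matrix

variable {F : Type*} [Field F]

section general
variable {ι : Type} [Fintype ι] [DecidableEq ι] (Q : QuadraticForm F (ι → F))

theorem mem_isometryGroup_iff (g : GL ι F) :
    g ∈ Cfsg.isometryGroup F (⇑Q) ↔ ∀ v, Q (g.1 *ᵥ v) = Q v :=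
  ⟨fun h v => h v v, fun h u _ => h u⟩

theorem smul_def (g : Cfsg.isometryGroup F (⇑Q)) (v : ι → F) : g • v = g.1.1 *ᵥ v := rfl

theorem Q_smul (g : Cfsg.isometryGroup F (⇑Q)) (v : ι → F) : Q (g • v) = Q v :=
  (mem_isometryGroup_iff Q g.1).mp g.2 v

theorem smul_add' (g : Cfsg.isometryGroup F (⇑Q)) (u v : ι → F) : g • (u + v) = g • u + g • v := by
  rw [smul_def, smul_def, smul_def, Matrix.mulVec_add]

theorem polar_smul_smul (g : Cfsg.isometryGroup F (⇑Q)) (u v : ι → F) :
    polar Q (g • u) (g • v) = polar Q u v := by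
  unfold QuadraticMap.polar
  rw [← smul_add', Q_smul, Q_smul, Q_smul]

/-- a linear isometry gives an element of the isometry group with the same action -/
theorem exists_of_linearEquiv (g : (ι → F) ≃ₗ[F] (ι → F)) (hg : ∀ v, Q (g v) = Q v) :
    ∃ γ : Cfsg.isometryGroup F (⇑Q), ∀ v : ι → F, γ • v = g v := by
  refine ⟨Cfsg.Agent.Helper28.Siegel.ofEnd Q g.toLinearMap g.symm.toLinearMap ?_ ?_ hg, ?_⟩
  · ext v; simp
  · ext v; simp
  · intro v
    rw [smul_def]
    exact LinearMap.toMatrix'_mulVec _ v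

end general


section peel
variable {κ : Type} [Fintype κ] [DecidableEq κ] (Q' : QuadraticForm F (κ → F))

/-- the orthogonal sum of a hyperbolic plane and `Q'`, on `Fin 2 ⊕ κ → F` -/
noncomputable def hypSum : QuadraticForm F (Fin 2 ⊕ κ → F) :=
  QuadraticMap.proj (Sum.inl 0) (Sum.inl 1) + Q'.comp (LinearMap.funLeft F F Sum.inr)

theorem hypSum_apply (v : Fin 2 ⊕ κ → F) :
    hypSum Q' v = v (Sum.inl 0) * v (Sum.inl 1) + Q' (v ∘ Sum.inr) := by
  simp [hypSum, QuadraticMap.proj_apply, LinearMap.funLeft]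

theorem polar_hypSum (u v : Fin 2 ⊕ κ → F) :
    polar (hypSum Q') u v = u (Sum.inl 0) * v (Sum.inl 1) + u (Sum.inl 1) * v (Sum.inl 0) +
      polar Q' (u ∘ Sum.inr) (v ∘ Sum.inr) := by
  unfold QuadraticMap.polar
  have h : (u + v) ∘ Sum.inr = u ∘ Sum.inr + v ∘ Sum.inr := rfl
  rw [hypSum_apply, hypSum_apply, hypSum_apply, h]
  simp only [Pi.add_apply]
  ring

/-- the first hyperbolic basis vector -/
def e0 : Fin 2 ⊕ κ → F := Pi.single (Sum.inl 0) 1

/-- the second hyperbolic basis vector -/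
def f0 : Fin 2 ⊕ κ → F := Pi.single (Sum.inl 1) 1

/-- embedding of `κ → F` as the orthogonal complement of the hyperbolic plane -/
def inj (w : κ → F) : Fin 2 ⊕ κ → F := Sum.elim (fun _ => 0) w

@[simp] theorem e0_inl0 : (e0 : Fin 2 ⊕ κ → F) (Sum.inl 0) = 1 := by simp [e0]
@[simp] theorem e0_inl1 : (e0 : Fin 2 ⊕ κ → F) (Sum.inl 1) = 0 := by simp [e0]
@[simp] theorem e0_inr : (e0 : Fin 2 ⊕ κ → F) ∘ Sum.inr = 0 := by ext k; simp [e0]
@[simp] theorem f0_inl0 : (f0 : Fin 2 ⊕ κ → F) (Sum.inl 0) = 0 := by simp [f0]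
@[simp] theorem f0_inl1 : (f0 : Fin 2 ⊕ κ → F) (Sum.inl 1) = 1 := by simp [f0]
@[simp] theorem f0_inr : (f0 : Fin 2 ⊕ κ → F) ∘ Sum.inr = 0 := by ext k; simp [f0]
@[simp] theorem inj_inl (w : κ → F) (a : Fin 2) : inj w (Sum.inl a) = 0 := rfl
@[simp] theorem inj_inr (w : κ → F) : inj w ∘ Sum.inr = w := rfl

theorem hypSum_e0 : hypSum Q' e0 = 0 := by simp [hypSum_apply]
theorem hypSum_f0 : hypSum Q' f0 = 0 := by simp [hypSum_apply]
theorem hypSum_inj (w : κ → F) : hypSum Q' (inj w) = Q' w := by simp [hypSum_apply]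

theorem polar_e0 (v : Fin 2 ⊕ κ → F) : polar (hypSum Q') e0 v = v (Sum.inl 1) := by
  simp [polar_hypSum]

theorem polar_f0 (v : Fin 2 ⊕ κ → F) : polar (hypSum Q') f0 v = v (Sum.inl 0) := by
  simp [polar_hypSum]

theorem polar_inj (w : κ → F) (v : Fin 2 ⊕ κ → F) :
    polar (hypSum Q') (inj w) v = polar Q' w (v ∘ Sum.inr) := by
  simp [polar_hypSum]

theorem polar_e0_f0 : polar (hypSum Q') (e0 : Fin 2 ⊕ κ → F) f0 = 1 := by
  simp [polar_e0]

theorem nondeg_hypSum (h : (polarBilin Q').Nondegenerate) :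
    (polarBilin (hypSum Q')).Nondegenerate := by
  apply Cfsg.Agent.Helper13.nondeg_of_polar
  intro x hx
  have h0 : x (Sum.inl 0) = 0 := by
    have := hx f0
    rwa [polar_comm, polar_f0] at this
  have h1 : x (Sum.inl 1) = 0 := by
    have := hx e0
    rwa [polar_comm, polar_e0] at this
  have h2 : x ∘ Sum.inr = 0 := by
    apply h.1
    intro w
    have := hx (inj w)
    rw [polar_comm, polar_inj] at this
    rw [polarBilin_apply_apply, polar_comm]
    exact this
  ext k
  rcases k with a | k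
  · fin_cases a
    · exact h0
    · exact h1
  · exact congrFun h2 k

end peel


section witt
variable {V : Type*} [AddCommGroup V] [Module F V] (Q : QuadraticForm F V)

theorem linearIndependent_hyp {e f : V} (he : Q e = 0) (hf : Q f = 0) (hef : polar Q e f = 1) :
    LinearIndependent F ![e, f] := by
  rw [LinearIndependent.pair_iff]
  intro s t hst
  have h1 : polar Q e (s • e + t • f) = t := by
    rw [polar_add_right, polar_smul_right, polar_smul_right, polar_self, he, hef]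
    simp
  have h2 : polar Q (s • e + t • f) f = s := by
    rw [polar_add_left, polar_smul_left, polar_smul_left, polar_self, hf, hef]
    simp
  rw [hst] at h1 h2
  simp only [polar_zero_right, polar_zero_left] at h1 h2
  exact ⟨h2.symm, h1.symm⟩

/-- Witt's lemma for hyperbolic pairs -/
theorem witt_pair [FiniteDimensional F V] (hQ : (polarBilin Q).Nondegenerate) {e f e' f' : V}
    (he : Q e = 0) (hf : Q f = 0) (hef : polar Q e f = 1)
    (he' : Q e' = 0) (hf' : Q f' = 0) (hef' : polar Q e' f' = 1) :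
    ∃ g : V ≃ₗ[F] V, (∀ v, Q (g v) = Q v) ∧ g e = e' ∧ g f = f' := by
  obtain ⟨g, hg, hgx⟩ := Cfsg.Agent.Helper28.WittQuad.witt_family hQ 2 ![e, f] ![e', f']
    (linearIndependent_hyp Q he hf hef) (linearIndependent_hyp Q he' hf' hef')
    (by
      intro i
      fin_cases i
      · simp [he, he']
      · simp [hf, hf'])
    (by
      intro i j
      fin_cases i <;> fin_cases j
      · simp [polar_self, he, he']
      · simp [hef, hef']
      · simp only [Fin.mk_one, Fin.isValue, Matrix.cons_val_one, Matrix.cons_val_fin_one,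
          Fin.zero_eta, Matrix.cons_val_zero]
        rw [polar_comm, hef, polar_comm, hef']
      · simp [polar_self, hf, hf'])
  exact ⟨g, hg, hgx 0, hgx 1⟩

end witt


section orbits
variable {κ : Type} [Fintype κ] [DecidableEq κ] (Q' : QuadraticForm F (κ → F))

/-- the isometry group of `hypSum Q'` -/
noncomputable abbrev GQ : Subgroup (GL (Fin 2 ⊕ κ) F) := Cfsg.isometryGroup F (⇑(hypSum Q'))

theorem smul_eq_zero_iff' {ι : Type} [Fintype ι] [DecidableEq ι] (Q : QuadraticForm F (ι → F))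
    (g : Cfsg.isometryGroup F (⇑Q)) (v : ι → F) : g • v = 0 ↔ v = 0 := by
  constructor
  · intro h
    have : g⁻¹ • (g • v) = 0 := by
      rw [h, smul_def, Matrix.mulVec_zero]
    rwa [inv_smul_smul] at this
  · rintro rfl
    rw [smul_def, Matrix.mulVec_zero]

theorem e0_ne_zero : (e0 : Fin 2 ⊕ κ → F) ≠ 0 := by
  intro h
  have := congrFun h (Sum.inl 0)
  simp at this

theorem orbit_e0 (hQ' : (polarBilin Q').Nondegenerate) :
    MulAction.orbit (GQ Q') (e0 : Fin 2 ⊕ κ → F) = {v | v ≠ 0 ∧ hypSum Q' v = 0} := by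
  ext v
  constructor
  · rintro ⟨g, rfl⟩
    refine ⟨?_, ?_⟩
    · intro h
      exact e0_ne_zero ((smul_eq_zero_iff' _ g _).mp h)
    · show hypSum Q' (g • e0) = 0
      rw [Q_smul, hypSum_e0]
  · rintro ⟨hv0, hv⟩
    obtain ⟨f, hf, hvf⟩ := Cfsg.Agent.Helper13.exists_hyp_partner (hypSum Q')
      (nondeg_hypSum Q' hQ') hv0 hv
    obtain ⟨g, hg, hge, -⟩ := witt_pair (hypSum Q') (nondeg_hypSum Q' hQ')
      (hypSum_e0 Q') (hypSum_f0 Q') (polar_e0_f0 Q') hv hf hvf
    obtain ⟨γ, hγ⟩ := exists_of_linearEquiv (hypSum Q') g hg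
    exact ⟨γ, by rw [← hge]; exact hγ e0⟩

/-- the stabilizer of `e0` -/
noncomputable def stabE : Subgroup (GQ Q') := MulAction.stabilizer (GQ Q') (e0 : Fin 2 ⊕ κ → F)

/-- the stabilizer of `e0` and `f0` -/
noncomputable def stabEF : Subgroup (GQ Q') :=
  MulAction.stabilizer (GQ Q') (e0 : Fin 2 ⊕ κ → F) ⊓ MulAction.stabilizer (GQ Q') (f0 : Fin 2 ⊕ κ → F)

theorem stabEF_le : stabEF Q' ≤ stabE Q' := inf_le_left

theorem orbit_f0 (hQ' : (polarBilin Q').Nondegenerate) :
    MulAction.orbit (stabE Q') (f0 : Fin 2 ⊕ κ → F) =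
      {f | hypSum Q' f = 0 ∧ f (Sum.inl 1) = 1} := by
  ext f
  constructor
  · rintro ⟨g, rfl⟩
    have hg : (g : (GQ Q')) • (e0 : Fin 2 ⊕ κ → F) = e0 := g.2
    refine ⟨?_, ?_⟩
    · show hypSum Q' ((g : (GQ Q')) • f0) = 0
      rw [Q_smul, hypSum_f0]
    · show ((g : (GQ Q')) • (f0 : Fin 2 ⊕ κ → F)) (Sum.inl 1) = 1
      rw [← polar_e0 Q' ((g : (GQ Q')) • (f0 : Fin 2 ⊕ κ → F))]
      nth_rewrite 1 [← hg]
      rw [polar_smul_smul, polar_e0_f0]
  · rintro ⟨hf, hf1⟩
    have hef : polar (hypSum Q') e0 f = 1 := by rw [polar_e0, hf1]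
    obtain ⟨g, hg, hge, hgf⟩ := witt_pair (hypSum Q') (nondeg_hypSum Q' hQ')
      (hypSum_e0 Q') (hypSum_f0 Q') (polar_e0_f0 Q') (hypSum_e0 Q') hf hef
    obtain ⟨γ, hγ⟩ := exists_of_linearEquiv (hypSum Q') g hg
    have hγe : γ ∈ stabE Q' := by
      show γ • e0 = e0
      rw [hγ, hge]
    exact ⟨⟨γ, hγe⟩, by rw [← hgf]; exact hγ f0⟩

theorem stabilizer_f0 :
    MulAction.stabilizer (stabE Q') (f0 : Fin 2 ⊕ κ → F) = (stabEF Q').subgroupOf (stabE Q') := by
  ext g
  rw [MulAction.mem_stabilizer_iff, Subgroup.mem_subgroupOf]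
  constructor
  · intro h
    exact ⟨g.2, h⟩
  · intro h
    exact h.2

theorem card_G_eq [Fintype F] (hQ' : (polarBilin Q').Nondegenerate) :
    Nat.card (GQ Q') = Nat.card (stabEF Q') *
      Nat.card {f : Fin 2 ⊕ κ → F // hypSum Q' f = 0 ∧ f (Sum.inl 1) = 1} *
      Nat.card {v : Fin 2 ⊕ κ → F // v ≠ 0 ∧ hypSum Q' v = 0} := by
  have h1 := Subgroup.card_mul_index (stabE Q')
  have hidx : (stabE Q').index = (MulAction.orbit (GQ Q') (e0 : Fin 2 ⊕ κ → F)).ncard :=
    MulAction.index_stabilizer _ _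
  rw [hidx, orbit_e0 Q' hQ'] at h1
  have h2 := Subgroup.card_mul_index (MulAction.stabilizer (stabE Q') (f0 : Fin 2 ⊕ κ → F))
  rw [MulAction.index_stabilizer, orbit_f0 Q' hQ', stabilizer_f0,
    Nat.card_congr (Subgroup.subgroupOfEquivOfLe (stabEF_le Q')).toEquiv] at h2
  rw [← h1, ← h2]
  rfl

end orbits


section counting
variable [Fintype F] {κ : Type} [Fintype κ] [DecidableEq κ] (Q' : QuadraticForm F (κ → F))

/-- the number of singular vectors (including zero) -/
noncomputable def Nsing {ι : Type} [Fintype ι] (Q : (ι → F) → F) : ℕ := Nat.card {v : ι → F // Q v = 0}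

/-- splitting off the two hyperbolic coordinates -/
def splitEquiv : F × F × (κ → F) ≃ (Fin 2 ⊕ κ → F) where
  toFun p := Sum.elim ![p.1, p.2.1] p.2.2
  invFun v := (v (Sum.inl 0), v (Sum.inl 1), v ∘ Sum.inr)
  left_inv p := by simp
  right_inv v := by
    ext k
    rcases k with a | k
    · fin_cases a <;> simp
    · simp

theorem hypSum_splitEquiv (p : F × F × (κ → F)) :
    hypSum Q' (splitEquiv p) = p.1 * p.2.1 + Q' p.2.2 := by
  rw [hypSum_apply]
  simp [splitEquiv]

open Classical in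
theorem Nsing_eq_sum {ι : Type} [Fintype ι] [DecidableEq ι] (Q : (ι → F) → F) :
    Nsing Q = ∑ v : ι → F, if Q v = 0 then 1 else 0 := by
  rw [Nsing, Nat.card_eq_fintype_card, Fintype.card_subtype, Finset.card_filter]

open Classical in
theorem Nsing_hypSum :
    Nsing (⇑(hypSum Q')) = Fintype.card F ^ Fintype.card κ * (Fintype.card F - 1) +
      Fintype.card F * Nsing (⇑Q') := by
  rw [Nsing_eq_sum, ← Equiv.sum_comp (splitEquiv (F := F) (κ := κ))
    (fun v => if hypSum Q' v = 0 then 1 else 0)]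
  simp only [hypSum_splitEquiv]
  rw [Fintype.sum_prod_type]
  have h0 : ∑ y : F × (κ → F), (if (0 : F) * y.1 + Q' y.2 = 0 then 1 else 0) =
      Fintype.card F * Nsing (⇑Q') := by
    rw [Fintype.sum_prod_type, Nsing_eq_sum]
    simp only [zero_mul, zero_add]
    rw [Finset.sum_const, Finset.card_univ, smul_eq_mul]
  have h1 : ∀ a : F, a ≠ 0 → ∑ y : F × (κ → F), (if a * y.1 + Q' y.2 = 0 then 1 else 0) =
      Fintype.card F ^ Fintype.card κ := by
    intro a ha
    rw [Fintype.sum_prod_type, Finset.sum_comm]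
    have : ∀ w : κ → F, ∑ b : F, (if a * b + Q' w = 0 then 1 else 0) = 1 := by
      intro w
      rw [Finset.sum_eq_single (-(Q' w) / a)]
      · rw [if_pos]
        field_simp
        ring
      · intro b _ hb
        rw [if_neg]
        intro h
        apply hb
        field_simp
        linear_combination h
      · intro h
        exact absurd (Finset.mem_univ _) h
    simp only [this]
    rw [Finset.sum_const, Finset.card_univ, smul_eq_mul, mul_one, Fintype.card_fun]
  rw [← Finset.add_sum_erase Finset.univ _ (Finset.mem_univ (0 : F)), h0,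
    Finset.sum_congr rfl (fun a ha => h1 a (Finset.ne_of_mem_erase ha)), Finset.sum_const,
    Finset.card_erase_of_mem (Finset.mem_univ _), Finset.card_univ, smul_eq_mul]
  ring

open Classical in
theorem card_nonzero_singular {ι : Type} [Fintype ι] [DecidableEq ι] (Q : QuadraticForm F (ι → F)) :
    Nat.card {v : ι → F // v ≠ 0 ∧ Q v = 0} = Nsing (⇑Q) - 1 := by
  rw [Nsing, Nat.card_eq_fintype_card, Nat.card_eq_fintype_card, Fintype.card_subtype,
    Fintype.card_subtype]
  have : (Finset.univ.filter fun v : ι → F => v ≠ 0 ∧ Q v = 0) =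
      (Finset.univ.filter fun v : ι → F => Q v = 0).erase 0 := by
    ext v
    simp
  rw [this, Finset.card_erase_of_mem]
  simp

theorem card_partners :
    Nat.card {f : Fin 2 ⊕ κ → F // hypSum Q' f = 0 ∧ f (Sum.inl 1) = 1} =
      Fintype.card F ^ Fintype.card κ := by
  rw [← Fintype.card_fun, ← Nat.card_eq_fintype_card]
  refine Nat.card_congr ?_
  refine
    { toFun := fun f => f.1 ∘ Sum.inr
      invFun := fun w => ⟨splitEquiv (-(Q' w), 1, w), by
        rw [hypSum_splitEquiv]; simp, by simp [splitEquiv]⟩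
      left_inv := ?_
      right_inv := ?_ }
  · rintro ⟨f, hf, hf1⟩
    apply Subtype.ext
    have h0 : f (Sum.inl 0) = -(Q' (f ∘ Sum.inr)) := by
      rw [hypSum_apply, hf1, mul_one] at hf
      linear_combination hf
    ext k
    rcases k with a | k
    · fin_cases a
      · simp [splitEquiv, h0]
      · simp [splitEquiv, hf1]
    · simp [splitEquiv]
  · intro w
    simp [splitEquiv]

end counting


section stab
variable {κ : Type} [Fintype κ] [DecidableEq κ] (Q' : QuadraticForm F (κ → F))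

/-- block diagonal embedding `GL κ F → GL (Fin 2 ⊕ κ) F` -/
noncomputable def blockHom : GL κ F →* GL (Fin 2 ⊕ κ) F where
  toFun A := ⟨Matrix.fromBlocks 1 0 0 A.1, Matrix.fromBlocks 1 0 0 (A⁻¹).1, by
      rw [Matrix.fromBlocks_multiply]
      simp [Matrix.fromBlocks_one], by
      rw [Matrix.fromBlocks_multiply]
      simp [Matrix.fromBlocks_one]⟩
  map_one' := by
    apply Units.ext
    simp [Matrix.fromBlocks_one]
  map_mul' A B := by
    apply Units.ext
    simp [Matrix.fromBlocks_multiply]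

theorem blockHom_coe (A : GL κ F) :
    ((blockHom A : GL (Fin 2 ⊕ κ) F) : Matrix (Fin 2 ⊕ κ) (Fin 2 ⊕ κ) F) =
      Matrix.fromBlocks 1 0 0 A.1 := rfl

theorem blockHom_mulVec (A : GL κ F) (v : Fin 2 ⊕ κ → F) :
    (blockHom A).1 *ᵥ v = Sum.elim (v ∘ Sum.inl) (A.1 *ᵥ (v ∘ Sum.inr)) := by
  rw [blockHom_coe, Matrix.fromBlocks_mulVec]
  simp

theorem blockHom_mem {A : GL κ F} (hA : A ∈ Cfsg.isometryGroup F (⇑Q')) :
    blockHom A ∈ GQ Q' := by
  rw [mem_isometryGroup_iff] at hA ⊢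
  intro v
  rw [blockHom_mulVec, hypSum_apply, hypSum_apply]
  simp only [Sum.elim_inl, Function.comp]
  congr 1
  exact hA _

/-- the embedding of `O(Q')` into `O(H ⊥ Q')` -/
noncomputable def psi : Cfsg.isometryGroup F (⇑Q') →* GQ Q' :=
  ((blockHom (F := F) (κ := κ)).comp (Cfsg.isometryGroup F (⇑Q')).subtype).codRestrict (GQ Q')
    (fun A => blockHom_mem Q' A.2)

theorem psi_coe (A : Cfsg.isometryGroup F (⇑Q')) :
    ((psi Q' A : GL (Fin 2 ⊕ κ) F) : Matrix (Fin 2 ⊕ κ) (Fin 2 ⊕ κ) F) =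
      Matrix.fromBlocks 1 0 0 A.1.1 := rfl

theorem psi_injective : Function.Injective (psi Q') := by
  intro A B h
  have h1 := congrArg (fun g : GQ Q' => g.1.1) h
  simp only [psi_coe] at h1
  rw [Matrix.fromBlocks_inj] at h1
  exact Subtype.ext (Units.ext h1.2.2.2)

theorem psi_smul (A : Cfsg.isometryGroup F (⇑Q')) (v : Fin 2 ⊕ κ → F) :
    psi Q' A • v = Sum.elim (v ∘ Sum.inl) (A.1.1 *ᵥ (v ∘ Sum.inr)) := by
  rw [smul_def]
  exact blockHom_mulVec A.1 v

/-- an isometry fixing `e0` and `f0` is block diagonal -/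
theorem eq_fromBlocks_of_fix (g : GQ Q') (he : g • (e0 : Fin 2 ⊕ κ → F) = e0)
    (hf : g • (f0 : Fin 2 ⊕ κ → F) = f0) :
    g.1.1 = Matrix.fromBlocks 1 0 0 g.1.1.toBlocks₂₂ := by
  have hrow1 : ∀ v : Fin 2 ⊕ κ → F, (g • v) (Sum.inl 1) = v (Sum.inl 1) := by
    intro v
    rw [← polar_e0 Q' (g • v), ← polar_e0 Q' v]
    nth_rewrite 1 [← he]
    rw [polar_smul_smul]
  have hrow0 : ∀ v : Fin 2 ⊕ κ → F, (g • v) (Sum.inl 0) = v (Sum.inl 0) := by
    intro v
    rw [← polar_f0 Q' (g • v), ← polar_f0 Q' v]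
    nth_rewrite 1 [← hf]
    rw [polar_smul_smul]
  have hrow : ∀ (a : Fin 2) (v : Fin 2 ⊕ κ → F), (g • v) (Sum.inl a) = v (Sum.inl a) := by
    intro a v
    fin_cases a
    · exact hrow0 v
    · exact hrow1 v
  have hcol : ∀ (a : Fin 2), g • (Pi.single (Sum.inl a) 1 : Fin 2 ⊕ κ → F) =
      Pi.single (Sum.inl a) 1 := by
    intro a
    fin_cases a
    · exact he
    · exact hf
  have hentry : ∀ i j, g.1.1 i j = (g • (Pi.single j 1 : Fin 2 ⊕ κ → F)) i := by
    intro i j
    rw [smul_def, Matrix.mulVec_single_one]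
    rfl
  rw [← Matrix.fromBlocks_toBlocks g.1.1]
  congr 1
  · ext a b
    rw [Matrix.toBlocks₁₁, Matrix.of_apply, hentry, hrow]
    simp [Pi.single_apply, Matrix.one_apply]
  · ext a k
    rw [Matrix.toBlocks₁₂, Matrix.of_apply, hentry, hrow]
    simp
  · ext k a
    rw [Matrix.toBlocks₂₁, Matrix.of_apply, hentry, hcol]
    simp

theorem range_psi : (psi Q').range = stabEF Q' := by
  ext g
  constructor
  · rintro ⟨A, rfl⟩
    refine ⟨?_, ?_⟩
    · show psi Q' A • (e0 : Fin 2 ⊕ κ → F) = e0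
      rw [psi_smul]
      ext k
      rcases k with a | k
      · simp
      · show (A.1.1 *ᵥ ((e0 : Fin 2 ⊕ κ → F) ∘ Sum.inr)) k = e0 (Sum.inr k)
        rw [e0_inr, Matrix.mulVec_zero]
        simp [e0]
    · show psi Q' A • (f0 : Fin 2 ⊕ κ → F) = f0
      rw [psi_smul]
      ext k
      rcases k with a | k
      · simp
      · show (A.1.1 *ᵥ ((f0 : Fin 2 ⊕ κ → F) ∘ Sum.inr)) k = f0 (Sum.inr k)
        rw [f0_inr, Matrix.mulVec_zero]
        simp [f0]
  · rintro ⟨he, hf⟩
    have he' : g • (e0 : Fin 2 ⊕ κ → F) = e0 := he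
    have hf' : g • (f0 : Fin 2 ⊕ κ → F) = f0 := hf
    have hei : g⁻¹ • (e0 : Fin 2 ⊕ κ → F) = e0 := by
      rw [inv_smul_eq_iff, he']
    have hfi : g⁻¹ • (f0 : Fin 2 ⊕ κ → F) = f0 := by
      rw [inv_smul_eq_iff, hf']
    have h1 := eq_fromBlocks_of_fix Q' g he' hf'
    have h2 := eq_fromBlocks_of_fix Q' g⁻¹ hei hfi
    have hmul : g.1.1 * (g⁻¹).1.1 = 1 := by
      rw [← Units.val_mul, ← Subgroup.coe_mul, mul_inv_cancel]
      rfl
    have hmul' : (g⁻¹).1.1 * g.1.1 = 1 := by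
      rw [← Units.val_mul, ← Subgroup.coe_mul, inv_mul_cancel]
      rfl
    rw [h1, h2, Matrix.fromBlocks_multiply, ← Matrix.fromBlocks_one, Matrix.fromBlocks_inj] at hmul
    rw [h1, h2, Matrix.fromBlocks_multiply, ← Matrix.fromBlocks_one, Matrix.fromBlocks_inj] at hmul'
    have h4 : g.1.1.toBlocks₂₂ * (g⁻¹).1.1.toBlocks₂₂ = 1 := by
      have := hmul.2.2.2
      simpa using this
    have h5 : (g⁻¹).1.1.toBlocks₂₂ * g.1.1.toBlocks₂₂ = 1 := by
      have := hmul'.2.2.2
      simpa using this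
    let A : GL κ F := ⟨g.1.1.toBlocks₂₂, (g⁻¹).1.1.toBlocks₂₂, h4, h5⟩
    have hA : A ∈ Cfsg.isometryGroup F (⇑Q') := by
      rw [mem_isometryGroup_iff]
      intro w
      have h3 := Q_smul (hypSum Q') g (inj w)
      rw [smul_def, h1, Matrix.fromBlocks_mulVec, hypSum_apply, hypSum_inj] at h3
      simpa using h3
    refine ⟨⟨A, hA⟩, ?_⟩
    apply Subtype.ext
    apply Units.ext
    rw [psi_coe]
    exact h1.symm

theorem card_stabEF : Nat.card (stabEF Q') = Nat.card (Cfsg.isometryGroup F (⇑Q')) := by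
  rw [← range_psi]
  exact (Nat.card_congr (MonoidHom.ofInjective (psi_injective Q')).toEquiv).symm

/-- **Peeling off a hyperbolic plane**: the order of `O(H ⊥ Q')`. -/
theorem card_isometryGroup_hypSum [Fintype F] (hQ' : (polarBilin Q').Nondegenerate) :
    Nat.card (Cfsg.isometryGroup F (⇑(hypSum Q'))) =
      Nat.card (Cfsg.isometryGroup F (⇑Q')) * Fintype.card F ^ Fintype.card κ *
        (Nsing (⇑(hypSum Q')) - 1) := by
  rw [card_G_eq Q' hQ', card_stabEF, card_partners, card_nonzero_singular]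

end stab

end Cfsg.Agent.Helper2.Orth
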