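import Mathlib
import Cfsg.Agent.Lib.Helper2.OrthPeel

set_option autoImplicit false
set_option linter.unusedSectionVars false

namespace Cfsg.Agent.Helper2.Orth

open QuadraticMap Matrix Cfsg.Agent.Helper28.Siegel

variable {F : Type*} [Field F] {ι : Type} [Fintype ι] [DecidableEq ι] (Q : QuadraticForm F (ι → F))

/-- the isometry group is transitive on non-zero singular vectors -/
theorem exists_smul_eq_of_singular (hQ : (polarBilin Q).Nondegenerate) {u v : ι → F}
    (hu0 : u ≠ 0) (hu : Q u = 0) (hv0 : v ≠ 0) (hv : Q v = 0) :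
    ∃ g : Cfsg.isometryGroup F (⇑Q), g • u = v := by
  obtain ⟨f, hf, huf⟩ := Cfsg.Agent.Helper13.exists_hyp_partner Q hQ hu0 hu
  obtain ⟨f', hf', hvf'⟩ := Cfsg.Agent.Helper13.exists_hyp_partner Q hQ hv0 hv
  obtain ⟨g, hg, hgu, -⟩ := witt_pair Q hQ hu hf huf hv hf' hvf'
  obtain ⟨γ, hγ⟩ := exists_of_linearEquiv Q g hg
  exact ⟨γ, by rw [hγ, hgu]⟩

theorem siegG_smul {u v : ι → F} (hu : Q u = 0) (hv : Q v = 0) (huv : polar Q u v = 0) (c : F)
    (x : ι → F) : siegG Q hu hv huv c • x = x + c • (polar Q u x • v - polar Q v x • u) := by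
  rw [← sieg_apply]
  have := toEnd_siegG Q hu hv huv c
  rw [← this]
  rfl

theorem smul_smul' (g : Cfsg.isometryGroup F (⇑Q)) (a : F) (v : ι → F) :
    g • (a • v) = a • (g • v) := by
  rw [smul_def, smul_def, Matrix.mulVec_smul]

theorem smul_sub' (g : Cfsg.isometryGroup F (⇑Q)) (u v : ι → F) :
    g • (u - v) = g • u - g • v := by
  rw [smul_def, smul_def, smul_def, Matrix.mulVec_sub]

/-- two orthogonal hyperbolic pairs among the coordinate vectors -/
structure TwoHyp (i₁ j₁ i₂ j₂ : ι) : Prop where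
  ne1 : i₁ ≠ j₁
  ne2 : i₁ ≠ i₂
  ne3 : i₁ ≠ j₂
  ne4 : j₁ ≠ i₂
  ne5 : j₁ ≠ j₂
  ne6 : i₂ ≠ j₂
  s1 : Q (Pi.single i₁ 1) = 0
  s2 : Q (Pi.single j₁ 1) = 0
  s3 : Q (Pi.single i₂ 1) = 0
  s4 : Q (Pi.single j₂ 1) = 0
  p1 : ∀ v, polar Q (Pi.single i₁ 1) v = v j₁
  p2 : ∀ v, polar Q (Pi.single j₁ 1) v = v i₁
  p3 : ∀ v, polar Q (Pi.single i₂ 1) v = v j₂
  p4 : ∀ v, polar Q (Pi.single j₂ 1) v = v i₂

variable {Q}

/-- `z` commutes with all Siegel elements -/
def CommSiegel (z : Cfsg.isometryGroup F (⇑Q)) : Prop :=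
  ∀ (u v : ι → F) (hu : Q u = 0) (hv : Q v = 0) (huv : polar Q u v = 0) (c : F),
    z * siegG Q hu hv huv c = siegG Q hu hv huv c * z

theorem CommSiegel.key {z : Cfsg.isometryGroup F (⇑Q)} (hz : CommSiegel z) {u v : ι → F}
    (hu : Q u = 0) (hv : Q v = 0) (huv : polar Q u v = 0) (x : ι → F) :
    z • (polar Q u x • v - polar Q v x • u) =
      polar Q u (z • x) • v - polar Q v (z • x) • u := by
  have h := congrArg (fun g : Cfsg.isometryGroup F (⇑Q) => g • x) (hz u v hu hv huv 1)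
  simp only [mul_smul] at h
  rw [siegG_smul, siegG_smul, one_smul, one_smul, smul_add'] at h
  exact add_left_cancel h

theorem CommSiegel.conj {z : Cfsg.isometryGroup F (⇑Q)} (hz : CommSiegel z)
    (g : Cfsg.isometryGroup F (⇑Q)) : CommSiegel (g⁻¹ * z * g) := by
  intro u v hu hv huv c
  have hgu : Q (g • u) = 0 := by rw [Q_smul, hu]
  have hgv : Q (g • v) = 0 := by rw [Q_smul, hv]
  have hguv : polar Q (g • u) (g • v) = 0 := by rw [polar_smul_smul, huv]
  have hconj : g * siegG Q hu hv huv c * g⁻¹ = siegG Q hgu hgv hguv c := by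
    apply Cfsg.Agent.Helper17.Spinor.toEnd_injective
    apply LinearMap.ext
    intro x
    show (g * siegG Q hu hv huv c * g⁻¹) • x = siegG Q hgu hgv hguv c • x
    rw [mul_smul, mul_smul, siegG_smul, siegG_smul, smul_add', smul_inv_smul, smul_smul',
      smul_sub', smul_smul', smul_smul']
    have e1 : polar Q u (g⁻¹ • x) = polar Q (g • u) x := by
      rw [← polar_smul_smul Q g, smul_inv_smul]
    have e2 : polar Q v (g⁻¹ • x) = polar Q (g • v) x := by
      rw [← polar_smul_smul Q g, smul_inv_smul]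
    rw [e1, e2]
  have h1 := hz (g • u) (g • v) hgu hgv hguv c
  rw [← hconj] at h1
  calc g⁻¹ * z * g * siegG Q hu hv huv c
      = g⁻¹ * (z * (g * siegG Q hu hv huv c * g⁻¹)) * g := by group
    _ = g⁻¹ * ((g * siegG Q hu hv huv c * g⁻¹) * z) * g := by rw [h1]
    _ = siegG Q hu hv huv c * (g⁻¹ * z * g) := by group

theorem CommSiegel.eigen_e1 {i₁ j₁ i₂ j₂ : ι} (h : TwoHyp Q i₁ j₁ i₂ j₂)
    {z : Cfsg.isometryGroup F (⇑Q)} (hz : CommSiegel z) :
    z • (Pi.single i₁ 1 : ι → F) = ((z • (Pi.single i₁ 1 : ι → F)) i₁) • Pi.single i₁ 1 := by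
  have o12 : polar Q (Pi.single i₁ 1 : ι → F) (Pi.single i₂ 1) = 0 := by
    rw [h.p1]; simp [h.ne4]
  have o12' : polar Q (Pi.single i₁ 1 : ι → F) (Pi.single j₂ 1) = 0 := by
    rw [h.p1]; simp [h.ne5]
  have k1 := hz.key h.s1 h.s3 o12 (Pi.single j₂ 1)
  rw [o12', h.p3, Pi.single_eq_same, zero_smul, one_smul, zero_sub] at k1
  have k2 := hz.key h.s1 h.s4 o12' (Pi.single i₂ 1)
  rw [o12, h.p4, Pi.single_eq_same, zero_smul, one_smul, zero_sub] at k2
  have hneg : ∀ w : ι → F, z • (-w) = -(z • w) := by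
    intro w
    rw [smul_def, smul_def, Matrix.mulVec_neg]
  rw [hneg] at k1 k2
  ext k
  by_cases hk : k = i₁
  · subst hk
    simp
  · rw [Pi.smul_apply, Pi.single_eq_of_ne hk, smul_zero]
    by_cases hk2 : k = i₂
    · subst hk2
      have := congrFun k2 k
      simp only [Pi.neg_apply, Pi.sub_apply, Pi.smul_apply, Pi.single_eq_of_ne hk,
        Pi.single_eq_of_ne h.ne6, smul_zero, sub_zero] at this
      rw [neg_eq_zero] at this
      exact this
    · have := congrFun k1 k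
      simp only [Pi.neg_apply, Pi.sub_apply, Pi.smul_apply, Pi.single_eq_of_ne hk,
        Pi.single_eq_of_ne hk2, smul_zero, sub_zero] at this
      rw [neg_eq_zero] at this
      exact this


theorem single_ne_zero' (i : ι) : (Pi.single i 1 : ι → F) ≠ 0 := by
  intro h
  have := congrFun h i
  simp at this

theorem CommSiegel.eigen {i₁ j₁ i₂ j₂ : ι} (hQ : (polarBilin Q).Nondegenerate)
    (h : TwoHyp Q i₁ j₁ i₂ j₂) {z : Cfsg.isometryGroup F (⇑Q)} (hz : CommSiegel z)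
    {u : ι → F} (hu0 : u ≠ 0) (hu : Q u = 0) : ∃ a : F, z • u = a • u := by
  obtain ⟨g, hg⟩ := exists_smul_eq_of_singular Q hQ (single_ne_zero' i₁) h.s1 hu0 hu
  have h1 := (hz.conj g).eigen_e1 h
  refine ⟨((g⁻¹ * z * g) • (Pi.single i₁ 1 : ι → F)) i₁, ?_⟩
  rw [← hg]
  have h2 : z • g • (Pi.single i₁ 1 : ι → F) = g • ((g⁻¹ * z * g) • (Pi.single i₁ 1 : ι → F)) := by
    rw [← mul_smul, ← mul_smul]
    congr 1
    group
  rw [h2, h1, smul_smul']
  congr 1
  rw [← h1]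

/-- two orthogonal singular vectors with "disjoint witnesses" have the same eigenvalue -/
theorem CommSiegel.eigen_eq {i₁ j₁ i₂ j₂ : ι} (hQ : (polarBilin Q).Nondegenerate)
    (h : TwoHyp Q i₁ j₁ i₂ j₂) {z : Cfsg.isometryGroup F (⇑Q)} (hz : CommSiegel z)
    {u w : ι → F} (hu : Q u = 0) (hw : Q w = 0) (huw : polar Q u w = 0) {a b : F}
    (ha : z • u = a • u) (hb : z • w = b • w) (k₁ k₂ : ι) (h1 : u k₁ ≠ 0) (h1' : w k₁ = 0)
    (h2 : w k₂ ≠ 0) (h2' : u k₂ = 0) : a = b := by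
  have hs : Q (u + w) = 0 := by
    rw [QuadraticMap.map_add (⇑Q) u w, hu, hw, huw]; simp
  have hne : u + w ≠ 0 := by
    intro h0
    have := congrFun h0 k₁
    simp [h1'] at this
    exact h1 this
  obtain ⟨c, hc⟩ := hz.eigen hQ h hne hs
  rw [smul_add', ha, hb] at hc
  have e1 := congrFun hc k₁
  have e2 := congrFun hc k₂
  simp only [Pi.add_apply, Pi.smul_apply, smul_eq_mul, h1', h2', mul_zero, add_zero, zero_add]
    at e1 e2
  have := mul_right_cancel₀ h1 e1
  have := mul_right_cancel₀ h2 e2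
  rw [‹a = c›, ‹b = c›]

theorem CommSiegel.scalar {i₁ j₁ i₂ j₂ : ι} (hQ : (polarBilin Q).Nondegenerate)
    (h : TwoHyp Q i₁ j₁ i₂ j₂) {z : Cfsg.isometryGroup F (⇑Q)} (hz : CommSiegel z) :
    z.1.1 = 1 ∨ z.1.1 = -1 := by
  obtain ⟨a, ha⟩ := hz.eigen hQ h (single_ne_zero' i₁) h.s1
  obtain ⟨a2, ha2⟩ := hz.eigen hQ h (single_ne_zero' i₂) h.s3
  obtain ⟨b2, hb2⟩ := hz.eigen hQ h (single_ne_zero' j₂) h.s4
  obtain ⟨b1, hb1⟩ := hz.eigen hQ h (single_ne_zero' j₁) h.s2
  have o12 : polar Q (Pi.single i₁ 1 : ι → F) (Pi.single i₂ 1) = 0 := by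
    rw [h.p1]; simp [h.ne4]
  have o12' : polar Q (Pi.single i₁ 1 : ι → F) (Pi.single j₂ 1) = 0 := by
    rw [h.p1]; simp [h.ne5]
  have o21 : polar Q (Pi.single i₂ 1 : ι → F) (Pi.single j₁ 1) = 0 := by
    rw [h.p3]; simp [h.ne5.symm]
  have e2 : a = a2 := hz.eigen_eq hQ h h.s1 h.s3 o12 ha ha2 i₁ i₂ (by simp) (by simp [h.ne2])
    (by simp) (by simp [h.ne2.symm])
  have f2 : a = b2 := hz.eigen_eq hQ h h.s1 h.s4 o12' ha hb2 i₁ j₂ (by simp) (by simp [h.ne3])
    (by simp) (by simp [h.ne3.symm])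
  have f1 : a2 = b1 := hz.eigen_eq hQ h h.s3 h.s2 o21 ha2 hb1 i₂ j₁ (by simp)
    (by simp [h.ne4.symm]) (by simp) (by simp [h.ne4])
  -- every coordinate vector is an eigenvector with eigenvalue `a`
  have hall : ∀ k : ι, z • (Pi.single k 1 : ι → F) = a • Pi.single k 1 := by
    intro k
    by_cases hk1 : k = i₁
    · rw [hk1]; exact ha
    by_cases hk2 : k = j₁
    · rw [hk2, hb1, ← f1, ← e2]
    by_cases hk3 : k = i₂
    · rw [hk3, ha2, ← e2]
    by_cases hk4 : k = j₂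
    · rw [hk4, hb2, ← f2]
    -- a coordinate vector outside the two hyperbolic planes
    set D : ι → F := Pi.single k 1 with hD
    set t : F := Q D with ht
    set s : ι → F := D + (-t) • Pi.single i₂ 1 + Pi.single j₂ 1 with hs
    have pD2 : polar Q (Pi.single i₂ 1 : ι → F) D = 0 := by rw [h.p3, hD]; simp [hk4, Ne.symm hk4]
    have pD2' : polar Q (Pi.single j₂ 1 : ι → F) D = 0 := by rw [h.p4, hD]; simp [hk3, Ne.symm hk3]
    have hQs : Q s = 0 := by
      rw [hs, QuadraticMap.map_add (⇑Q) (D + (-t) • Pi.single i₂ 1) (Pi.single j₂ 1),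
        QuadraticMap.map_add (⇑Q) D ((-t) • Pi.single i₂ 1), QuadraticMap.map_smul, h.s3, h.s4,
        polar_add_left, polar_smul_left, polar_smul_right, h.p3]
      have pD2c : polar Q D (Pi.single i₂ 1 : ι → F) = 0 := by rw [polar_comm]; exact pD2
      have pD2'c : polar Q D (Pi.single j₂ 1 : ι → F) = 0 := by rw [polar_comm]; exact pD2'
      simp [pD2c, pD2'c, pD2, pD2', ← ht]
    have hs0 : s ≠ 0 := by
      intro h0
      have := congrFun h0 j₂
      simp [hs, hD, Ne.symm hk4, h.ne6, h.ne6.symm] at this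
    obtain ⟨c, hc⟩ := hz.eigen hQ h hs0 hQs
    have p1s : polar Q (Pi.single i₁ 1 : ι → F) s = 0 := by
      rw [h.p1, hs, hD]
      simp [Ne.symm hk2, h.ne4, h.ne5, h.ne4.symm, h.ne5.symm]
    have hca : a = c := hz.eigen_eq hQ h h.s1 hQs p1s ha hc i₁ j₂ (by simp)
      (by simp [hs, hD, Ne.symm hk1, h.ne2, h.ne3, h.ne2.symm, h.ne3.symm])
      (by simp [hs, hD, Ne.symm hk4, h.ne6, h.ne6.symm]) (by simp [h.ne3])
    have hDs : D = s + t • Pi.single i₂ 1 - Pi.single j₂ 1 := by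
      rw [hs]; module
    rw [hDs, smul_sub', smul_add', smul_smul', hc, ha2, hb2, ← hca, ← e2, ← f2]
    module
  have hmat : z.1.1 = a • (1 : Matrix ι ι F) := by
    ext i k
    have := congrFun (hall k) i
    rw [smul_def, Matrix.mulVec_single_one] at this
    simp only [Matrix.col_apply, Pi.smul_apply, smul_eq_mul] at this
    rw [Matrix.smul_apply, Matrix.one_apply, smul_eq_mul]
    rw [Pi.single_apply] at this
    convert this using 1
  have hsq : a * a = 1 := by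
    have h1 := polar_smul_smul Q z (Pi.single i₁ 1) (Pi.single j₁ 1)
    rw [ha, hb1, ← f1, ← e2, polar_smul_left, polar_smul_right, h.p1] at h1
    simpa [mul_assoc] using h1
  rcases mul_self_eq_one_iff.mp hsq with h1 | h1
  · left; rw [hmat, h1, one_smul]
  · right; rw [hmat, h1]; simp

end Cfsg.Agent.Helper2.Orth
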