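import Mathlib
import Cfsg.Agent.Lib.Helper2.OrthCenter
import Cfsg.Agent.Lib.Helper17.OmegaChar2
import Cfsg.Agent.Lib.Helper17.SpinorIndex

set_option autoImplicit false
set_option linter.unusedSectionVars false

namespace Cfsg.Agent.Helper2.Orth

open QuadraticMap Matrix Cfsg.Agent.Helper28.Siegel Cfsg.Agent.Helper17.Spinor Module

variable {F : Type*} [Field F] {ι : Type} [Fintype ι] [DecidableEq ι] (Q : QuadraticForm F (ι → F))

theorem siegG_coe {u v : ι → F} (hu : Q u = 0) (hv : Q v = 0) (huv : polar Q u v = 0) (c : F) :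
    ((siegG Q hu hv huv c : Cfsg.isometryGroup F (⇑Q)) : GL ι F).1 =
      Cfsg.siegelMatrix (⇑Q) u v c := by
  apply Matrix.toLin'.injective
  apply LinearMap.ext
  intro x
  rw [Matrix.toLin'_apply, Matrix.toLin'_apply, siegelMatrix_mulVec]
  have := toEnd_siegG Q hu hv huv c
  rw [← this]
  rfl

/-- Siegel elements lie in `Ω` in odd characteristic -/
theorem siegG_mem_Omega_odd (h2 : (2 : F) ≠ 0) (hQ : (polarBilin Q).Nondegenerate)
    {u v : ι → F} (hu : Q u = 0) (hv : Q v = 0) (huv : polar Q u v = 0) (c : F) :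
    siegG Q hu hv huv c ∈ Cfsg.Omega F (⇑Q) := by
  show siegG Q hu hv huv c ∈ commutator _
  rw [commutator_eq_closure]
  exact Subgroup.subset_closure
    (siegel_mem_commutatorSet Q h2 hQ hu hv huv c _ (siegG_coe Q hu hv huv c))

/-- Siegel elements lie in `Ω` in characteristic two -/
theorem siegG_mem_Omega_two [Fintype F] [CharP F 2] (hQ : (polarBilin Q).Nondegenerate)
    (hex : Fintype.card F ≠ 2 ∨ Fintype.card ι ≠ 4)
    {u v : ι → F} (hu : Q u = 0) (hv : Q v = 0) (huv : polar Q u v = 0) (c : F) :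
    siegG Q hu hv huv c ∈ Cfsg.Omega F (⇑Q) := by
  have hone : sieg Q u v c = 1 → siegG Q hu hv huv c ∈ Cfsg.Omega F (⇑Q) := by
    intro h
    have : siegG Q hu hv huv c = 1 := by
      apply toEnd_injective
      rw [toEnd_siegG, h, map_one]
    rw [this]
    exact Subgroup.one_mem _
  by_cases hc : c = 0
  · apply hone
    apply LinearMap.ext
    intro x
    rw [hc, sieg_zero, Module.End.one_apply]
  by_cases hu0 : u = 0
  · apply hone
    apply LinearMap.ext
    intro x
    rw [hu0, sieg_eq_id_of_left_zero, Module.End.one_apply]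
  by_cases hvt : ∃ t : F, v = t • u
  · obtain ⟨t, rfl⟩ := hvt
    apply hone
    apply LinearMap.ext
    intro x
    rw [sieg_eq_id_of_smul, Module.End.one_apply]
  push Not at hvt
  show siegG Q hu hv huv c ∈ commutator _
  rw [mem_commutator_iff_even_rank Q hQ hex, toEnd_siegG]
  have hind : LinearIndependent F ![u, v] := by
    rw [LinearIndependent.pair_iff' hu0]
    intro a ha
    exact hvt a ha.symm
  have hv0 : v ≠ 0 := by
    intro h
    exact hvt 0 (by rw [h, zero_smul])
  have hrange : LinearMap.range (1 - sieg Q u v c) = Submodule.span F (Set.range ![u, v]) := by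
    apply le_antisymm
    · rintro _ ⟨x, rfl⟩
      rw [LinearMap.sub_apply, Module.End.one_apply, sieg_apply]
      have : x - (x + c • (polar Q u x • v - polar Q v x • u)) =
          (c * polar Q v x) • u + (-(c * polar Q u x)) • v := by module
      rw [this]
      refine Submodule.add_mem _ (Submodule.smul_mem _ _ (Submodule.subset_span ⟨0, rfl⟩))
        (Submodule.smul_mem _ _ (Submodule.subset_span ⟨1, rfl⟩))
    · rw [Submodule.span_le]
      rintro _ ⟨i, rfl⟩
      fin_cases i
      · -- `u` is in the range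
        have hvn : v ∉ Submodule.span F {u} := by
          intro h
          obtain ⟨t, ht⟩ := Submodule.mem_span_singleton.mp h
          exact hvt t ht.symm
        obtain ⟨b, hb1, hb2⟩ := Cfsg.Agent.Helper28.WittQuad.exists_perp_partner hQ _ hvn
        have hbu : polar Q u b = 0 := by
          rw [polar_comm]; exact hb1 u (Submodule.mem_span_singleton_self u)
        have hbv : polar Q v b = 1 := by rw [polar_comm]; exact hb2
        refine ⟨c⁻¹ • b, ?_⟩
        rw [LinearMap.sub_apply, Module.End.one_apply, sieg_apply, polar_smul_right,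
          polar_smul_right, hbu, hbv]
        simp only [Fin.zero_eta, Matrix.cons_val_zero]
        have : c⁻¹ • b - (c⁻¹ • b + c • ((c⁻¹ • (0 : F)) • v - (c⁻¹ • (1 : F)) • u)) =
            (c * c⁻¹) • u := by
          simp only [smul_eq_mul, mul_zero, mul_one]
          module
        rw [this, mul_inv_cancel₀ hc, one_smul]
      · -- `v` is in the range
        have hun : u ∉ Submodule.span F {v} := by
          intro h
          obtain ⟨t, ht⟩ := Submodule.mem_span_singleton.mp h
          have ht0 : t ≠ 0 := by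
            intro h0
            rw [h0, zero_smul] at ht
            exact hu0 ht.symm
          exact hvt t⁻¹ (by rw [← ht, smul_smul, inv_mul_cancel₀ ht0, one_smul])
        obtain ⟨b, hb1, hb2⟩ := Cfsg.Agent.Helper28.WittQuad.exists_perp_partner hQ _ hun
        have hbv : polar Q v b = 0 := by
          rw [polar_comm]; exact hb1 v (Submodule.mem_span_singleton_self v)
        have hbu : polar Q u b = 1 := by rw [polar_comm]; exact hb2
        refine ⟨(-c⁻¹) • b, ?_⟩
        rw [LinearMap.sub_apply, Module.End.one_apply, sieg_apply, polar_smul_right,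
          polar_smul_right, hbu, hbv]
        simp only [Fin.mk_one, Matrix.cons_val_one, Matrix.cons_val_fin_one]
        have : (-c⁻¹) • b - ((-c⁻¹) • b + c • (((-c⁻¹) • (1 : F)) • v - ((-c⁻¹) • (0 : F)) • u)) =
            (c * c⁻¹) • v := by
          simp only [smul_eq_mul, mul_zero, mul_one]
          module
        rw [this, mul_inv_cancel₀ hc, one_smul]
  rw [hrange, finrank_span_eq_card hind]
  simp


section center
variable {Q}

/-- the centre of `Ω` consists of the scalars `±1` in `Ω` -/
theorem mem_center_Omega_iff {i₁ j₁ i₂ j₂ : ι} (hQ : (polarBilin Q).Nondegenerate)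
    (h : TwoHyp Q i₁ j₁ i₂ j₂)
    (hS : ∀ (u v : ι → F) (hu : Q u = 0) (hv : Q v = 0) (huv : polar Q u v = 0) (c : F),
      siegG Q hu hv huv c ∈ Cfsg.Omega F (⇑Q))
    (z : Cfsg.Omega F (⇑Q)) :
    z ∈ Subgroup.center (Cfsg.Omega F (⇑Q)) ↔ (z.1.1.1 = 1 ∨ z.1.1.1 = -1) := by
  constructor
  · intro hz
    rw [Subgroup.mem_center_iff] at hz
    have hc : CommSiegel z.1 := by
      intro u v hu hv huv c
      have := hz ⟨siegG Q hu hv huv c, hS u v hu hv huv c⟩
      exact (congrArg Subtype.val this).symm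
    exact hc.scalar hQ h
  · intro hz
    rw [Subgroup.mem_center_iff]
    intro g
    apply Subtype.ext
    apply Subtype.ext
    apply Units.ext
    show g.1.1.1 * z.1.1.1 = z.1.1.1 * g.1.1.1
    rcases hz with hz | hz <;> rw [hz] <;> simp

theorem card_center_Omega_eq_one {i₁ j₁ i₂ j₂ : ι} (hQ : (polarBilin Q).Nondegenerate)
    (h : TwoHyp Q i₁ j₁ i₂ j₂)
    (hS : ∀ (u v : ι → F) (hu : Q u = 0) (hv : Q v = 0) (huv : polar Q u v = 0) (c : F),
      siegG Q hu hv huv c ∈ Cfsg.Omega F (⇑Q))
    (hneg : (2 : F) = 0 ∨ ¬ ∃ g : Cfsg.isometryGroup F (⇑Q), g ∈ Cfsg.Omega F (⇑Q) ∧ g.1.1 = -1) :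
    Nat.card (Subgroup.center (Cfsg.Omega F (⇑Q))) = 1 := by
  rw [Subgroup.card_eq_one, eq_bot_iff]
  intro z hz
  rw [mem_center_Omega_iff hQ h hS] at hz
  rw [Subgroup.mem_bot]
  have h1 : z.1.1.1 = 1 := by
    rcases hz with hz | hz
    · exact hz
    · rcases hneg with h2 | hno
      · rw [hz]
        have : (-1 : F) = 1 := by linear_combination (-1 : F) * h2
        ext i j
        by_cases hij : i = j
        · subst hij
          rw [Matrix.neg_apply, Matrix.one_apply_eq, this]
        · rw [Matrix.neg_apply, Matrix.one_apply_ne hij, neg_zero]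
      · exact absurd ⟨z.1, z.2, hz⟩ hno
  apply Subtype.ext
  apply Subtype.ext
  apply Units.ext
  exact h1

theorem card_center_Omega_eq_two [Nonempty ι] {i₁ j₁ i₂ j₂ : ι}
    (hQ : (polarBilin Q).Nondegenerate)
    (h : TwoHyp Q i₁ j₁ i₂ j₂)
    (hS : ∀ (u v : ι → F) (hu : Q u = 0) (hv : Q v = 0) (huv : polar Q u v = 0) (c : F),
      siegG Q hu hv huv c ∈ Cfsg.Omega F (⇑Q))
    (h2 : (2 : F) ≠ 0)
    (hneg : ∃ g : Cfsg.isometryGroup F (⇑Q), g ∈ Cfsg.Omega F (⇑Q) ∧ g.1.1 = -1) :
    Nat.card (Subgroup.center (Cfsg.Omega F (⇑Q))) = 2 := by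
  obtain ⟨g, hg, hgm⟩ := hneg
  have hgc : (⟨g, hg⟩ : Cfsg.Omega F (⇑Q)) ∈ Subgroup.center (Cfsg.Omega F (⇑Q)) := by
    rw [mem_center_Omega_iff hQ h hS]
    exact Or.inr hgm
  rw [Nat.card_eq_two_iff]
  refine ⟨1, ⟨⟨g, hg⟩, hgc⟩, ?_, ?_⟩
  · intro h1
    have h3 : (1 : Matrix ι ι F) = -1 := by
      have := congrArg (fun x : Subgroup.center (Cfsg.Omega F (⇑Q)) => x.1.1.1.1) h1
      simp only at this
      rw [hgm] at this
      exact this
    obtain ⟨i⟩ := ‹Nonempty ι›
    have := congrFun (congrFun h3 i) i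
    simp at this
    apply h2
    linear_combination this
  · ext z
    simp only [Set.mem_insert_iff, Set.mem_singleton_iff, Set.mem_univ, iff_true]
    have hz := (mem_center_Omega_iff hQ h hS z.1).mp z.2
    rcases hz with hz | hz
    · left
      apply Subtype.ext
      apply Subtype.ext
      apply Subtype.ext
      apply Units.ext
      exact hz
    · right
      apply Subtype.ext
      apply Subtype.ext
      apply Subtype.ext
      apply Units.ext
      rw [hz, hgm]

/-- `|PΩ| · |Z(Ω)| · |O : Ω| = |O|` -/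
theorem card_POmega_mul [Finite F] :
    Nat.card (Cfsg.POmega F (⇑Q)) * Nat.card (Subgroup.center (Cfsg.Omega F (⇑Q))) *
      (Cfsg.Omega F (⇑Q)).index = Nat.card (Cfsg.isometryGroup F (⇑Q)) := by
  rw [← Subgroup.card_mul_index (Cfsg.Omega F (⇑Q)),
    Subgroup.card_eq_card_quotient_mul_card_subgroup (Subgroup.center (Cfsg.Omega F (⇑Q)))]

end center

end Cfsg.Agent.Helper2.Orth
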