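import Mathlib
import Cfsg.Agent.Lib.Helper2.OrthOmega

set_option autoImplicit false
set_option linter.unusedSectionVars false

namespace Cfsg.Agent.Helper2.Orth

open QuadraticMap Matrix Cfsg.Agent.Helper28.Siegel Cfsg.Agent.Helper28.WittQuad
  Cfsg.Agent.Helper17.Spinor

section abstract
variable {F V : Type*} [Field F] [AddCommGroup V] [Module F V] (Q : QuadraticForm F V)

theorem polar_self_of_singular {z : V} (hz : Q z = 0) : polar Q z z = 0 := by
  rw [polar_self, hz]; simp

theorem Q_add' (x y : V) : Q (x + y) = Q x + Q y + polar Q x y := by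
  unfold polar; ring

variable {Q}

/-- polar form against an Eichler image -/
theorem polar_eich (z b y x : V) :
    polar Q y (eich Q z b x) = polar Q y x + polar Q b x * polar Q y z - polar Q z x * polar Q y b
      - Q b * polar Q z x * polar Q y z := by
  rw [eich_apply]
  simp only [polar_add_right, polar_sub_right, polar_smul_right, smul_eq_mul]
  ring

theorem polar_eich_self {z b : V} (hz : Q z = 0) (hzb : polar Q z b = 0) (x : V) :
    polar Q z (eich Q z b x) = polar Q z x := by
  rw [polar_eich, polar_self_of_singular Q hz, hzb]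
  ring

theorem eich_eich {z b b' : V} (hz : Q z = 0) (hzb : polar Q z b = 0) (hzb' : polar Q z b' = 0)
    (x : V) : eich Q z b (eich Q z b' x) = eich Q z (b + b') x := by
  have hbz : polar Q b z = 0 := by rw [polar_comm, hzb]
  rw [eich_apply Q z b, polar_eich_self hz hzb', polar_eich, hbz, eich_apply, eich_apply,
    Q_add', polar_add_left]
  module

theorem eich_zero (z x : V) : eich Q z 0 x = x := by
  rw [eich_apply]
  simp

theorem eich_zero_left (b x : V) : eich Q 0 b x = x := by
  rw [eich_apply]
  simp

theorem eich_smul_left (a : F) (z b x : V) : eich Q (a • z) b x = eich Q z (a • b) x := by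
  rw [eich_apply, eich_apply]
  simp only [polar_smul_left, QuadraticMap.map_smul, smul_eq_mul]
  module

theorem eich_self_smul {z : V} (hz : Q z = 0) (c : F) (x : V) : eich Q z (c • z) x = x := by
  rw [eich_apply]
  simp only [polar_smul_left, QuadraticMap.map_smul, smul_eq_mul, hz]
  module

theorem eich_eq_sieg {u v : V} (hv : Q v = 0) (c : F) (x : V) :
    eich Q u ((-c) • v) x = sieg Q u v c x := by
  rw [eich_apply, sieg_apply]
  simp only [polar_smul_left, QuadraticMap.map_smul, smul_eq_mul, hv]
  module

/-- an isometry conjugates Eichler maps to Eichler maps -/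
theorem isom_eich (g : V →ₗ[F] V) (hg : ∀ v, Q (g v) = Q v) (z b x : V) :
    g (eich Q z b x) = eich Q (g z) (g b) (g x) := by
  rw [eich_apply, eich_apply, polar_of_isom hg, polar_of_isom hg, hg]
  simp only [map_add, map_sub, map_smul]

/-- the commutator relation among Eichler maps for a hyperbolic pair `p, p'` orthogonal to the
singular orthogonal vectors `u, v` -/
theorem eich_comm_rel {u v p p' : V} (hu : Q u = 0) (hv : Q v = 0) (hp : Q p = 0) (hp' : Q p' = 0)
    (huv : polar Q u v = 0) (hup : polar Q u p = 0) (hup' : polar Q u p' = 0)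
    (hvp : polar Q v p = 0) (hvp' : polar Q v p' = 0) (hpp' : polar Q p p' = 1) (x : V) :
    eich Q u p (eich Q p' v (eich Q u (-p) (eich Q p' (-v) x))) = eich Q u v x := by
  have hvu : polar Q v u = 0 := by rw [polar_comm, huv]
  have hpu : polar Q p u = 0 := by rw [polar_comm, hup]
  have hp'u : polar Q p' u = 0 := by rw [polar_comm, hup']
  have hpv : polar Q p v = 0 := by rw [polar_comm, hvp]
  have hp'v : polar Q p' v = 0 := by rw [polar_comm, hvp']
  have hp'p : polar Q p' p = 1 := by rw [polar_comm, hpp']
  have huu := polar_self_of_singular Q hu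
  have hvv := polar_self_of_singular Q hv
  have hppp := polar_self_of_singular Q hp
  have hp'p' := polar_self_of_singular Q hp'
  -- first stage
  have y1 : polar Q u (eich Q p' (-v) x) = polar Q u x := by
    rw [polar_eich, hup', polar_neg_right, huv]; ring
  have y2 : polar Q p (eich Q p' (-v) x) = polar Q p x - polar Q v x := by
    rw [polar_eich, hpp', polar_neg_right, polar_neg_left, hpv, QuadraticMap.map_neg, hv]; ring
  have y3 : polar Q v (eich Q p' (-v) x) = polar Q v x := by
    rw [polar_eich, hvp', polar_neg_right, hvv]; ring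
  have y4 : polar Q p' (eich Q p' (-v) x) = polar Q p' x := by
    rw [polar_eich, hp'p', polar_neg_right, hp'v]; ring
  -- second stage
  have w1 : polar Q u (eich Q u (-p) (eich Q p' (-v) x)) = polar Q u x := by
    rw [polar_eich, huu, polar_neg_right, hup, y1]; ring
  have w2 : polar Q p (eich Q u (-p) (eich Q p' (-v) x)) = polar Q p x - polar Q v x := by
    rw [polar_eich, hpu, polar_neg_right, hppp, y2]; ring
  have w3 : polar Q v (eich Q u (-p) (eich Q p' (-v) x)) = polar Q v x := by
    rw [polar_eich, hvu, polar_neg_right, hvp, y3]; ring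
  have w4 : polar Q p' (eich Q u (-p) (eich Q p' (-v) x)) = polar Q p' x + polar Q u x := by
    rw [polar_eich, hp'u, polar_neg_right, hp'p, y4, y1]; ring
  -- third stage
  have s1 : polar Q u (eich Q p' v (eich Q u (-p) (eich Q p' (-v) x))) = polar Q u x := by
    rw [polar_eich, hup', huv, w1]; ring
  have s2 : polar Q p (eich Q p' v (eich Q u (-p) (eich Q p' (-v) x))) = polar Q p x := by
    rw [polar_eich, hpp', hpv, w2, w3, hv]; ring
  rw [eich_apply Q u p, s1, s2, hp, eich_apply Q p' v, w3, w4, hv, eich_apply Q u (-p),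
    polar_neg_left, y1, y2, QuadraticMap.map_neg, hp, eich_apply Q p' (-v), polar_neg_left,
    QuadraticMap.map_neg, hv, eich_apply Q u v, hv]
  module

end abstract

section concrete
variable {F : Type*} [Field F] {ι : Type} [Fintype ι] [DecidableEq ι] (Q : QuadraticForm F (ι → F))

theorem ext_smul {g h : Cfsg.isometryGroup F (⇑Q)} (H : ∀ x : ι → F, g • x = h • x) : g = h := by
  apply toEnd_injective
  apply LinearMap.ext
  intro x
  exact H x

theorem toEnd_eq_smul (g : Cfsg.isometryGroup F (⇑Q)) (x : ι → F) : toEnd Q g x = g • x := rfl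

/-- the Eichler transformation as an element of the isometry group (`1` unless `z` is singular
and orthogonal to `b`) -/
noncomputable def eichG (z b : ι → F) : ↥(Cfsg.isometryGroup F (⇑Q)) :=
  open Classical in
  if h : Q z = 0 ∧ polar Q z b = 0 then
    ofEnd Q (eich Q z b) (eich Q z (-b))
      (by
        apply LinearMap.ext
        intro x
        rw [Module.End.mul_apply, eich_eich h.1 h.2 (by rw [polar_neg_right, h.2, neg_zero]),
          add_neg_cancel, eich_zero, Module.End.one_apply])
      (by
        apply LinearMap.ext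
        intro x
        rw [Module.End.mul_apply, eich_eich h.1 (by rw [polar_neg_right, h.2, neg_zero]) h.2,
          neg_add_cancel, eich_zero, Module.End.one_apply])
      (Q_eich h.1 h.2)
  else 1

variable {Q}

theorem eichG_smul {z b : ι → F} (hz : Q z = 0) (hzb : polar Q z b = 0) (x : ι → F) :
    eichG Q z b • x = eich Q z b x := by
  unfold eichG
  rw [dif_pos ⟨hz, hzb⟩, ← toEnd_eq_smul, toEnd_ofEnd]

theorem eichG_mul {z b b' : ι → F} (hz : Q z = 0) (hzb : polar Q z b = 0)
    (hzb' : polar Q z b' = 0) : eichG Q z b * eichG Q z b' = eichG Q z (b + b') := by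
  apply ext_smul
  intro x
  rw [mul_smul, eichG_smul hz hzb', eichG_smul hz hzb,
    eichG_smul hz (by rw [polar_add_right, hzb, hzb', add_zero]), eich_eich hz hzb hzb']

theorem eichG_zero (z : ι → F) : eichG Q z 0 = 1 := by
  by_cases hz : Q z = 0
  · apply ext_smul
    intro x
    rw [eichG_smul hz (polar_zero_right _ _), eich_zero, one_smul]
  · unfold eichG
    rw [dif_neg (fun h => hz h.1)]

theorem eichG_inv {z b : ι → F} (hz : Q z = 0) (hzb : polar Q z b = 0) :
    (eichG Q z b)⁻¹ = eichG Q z (-b) := by
  apply inv_eq_of_mul_eq_one_right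
  rw [eichG_mul hz hzb (by rw [polar_neg_right, hzb, neg_zero]), add_neg_cancel, eichG_zero]

theorem eichG_smul_left {z b : ι → F} (hz : Q z = 0) (hzb : polar Q z b = 0) (a : F) :
    eichG Q (a • z) b = eichG Q z (a • b) := by
  apply ext_smul
  intro x
  rw [eichG_smul (by rw [QuadraticMap.map_smul, hz, smul_zero])
      (by rw [polar_smul_left, hzb, smul_zero]),
    eichG_smul hz (by rw [polar_smul_right, hzb, smul_zero]), eich_smul_left]

theorem eichG_self_smul {z : ι → F} (hz : Q z = 0) (c : F) : eichG Q z (c • z) = 1 := by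
  apply ext_smul
  intro x
  rw [eichG_smul hz (by rw [polar_smul_right, polar_self_of_singular Q hz, smul_zero]),
    eich_self_smul hz, one_smul]

theorem eichG_conj (g : Cfsg.isometryGroup F (⇑Q)) {z b : ι → F} (hz : Q z = 0)
    (hzb : polar Q z b = 0) : g * eichG Q z b * g⁻¹ = eichG Q (g • z) (g • b) := by
  apply ext_smul
  intro x
  rw [mul_smul, mul_smul, eichG_smul hz hzb,
    eichG_smul (by rw [Q_smul Q, hz]) (by rw [polar_smul_smul Q, hzb]), ← toEnd_eq_smul Q g,
    isom_eich (toEnd Q g) (toEnd_isometry Q g), toEnd_eq_smul, toEnd_eq_smul, toEnd_eq_smul,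
    smul_inv_smul]

theorem siegG_eq_eichG {u v : ι → F} (hu : Q u = 0) (hv : Q v = 0) (huv : polar Q u v = 0)
    (c : F) : siegG Q hu hv huv c = eichG Q u ((-c) • v) := by
  apply ext_smul
  intro x
  rw [siegG_smul Q, eichG_smul hu (by rw [polar_smul_right, huv, smul_zero]), eich_eq_sieg hv,
    sieg_apply]

end concrete

end Cfsg.Agent.Helper2.Orth
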