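import Mathlib
import Cfsg.Agent.Lib.Helper2.OrthEich

set_option autoImplicit false
set_option linter.unusedSectionVars false
set_option linter.unusedSimpArgs false

namespace Cfsg.Agent.Helper2.Orth

open QuadraticMap Matrix Cfsg.Agent.Helper28.Siegel Cfsg.Agent.Helper28.WittQuad
  Cfsg.Agent.Helper17.Spinor

section frame
variable {F V : Type*} [Field F] [AddCommGroup V] [Module F V]

/-- `n` mutually orthogonal hyperbolic pairs -/
structure HypFrame (Q : QuadraticForm F V) {n : ℕ} (e f : Fin n → V) : Prop where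
  qe : ∀ i, Q (e i) = 0
  qf : ∀ i, Q (f i) = 0
  ee : ∀ i j, polar Q (e i) (e j) = 0
  ff : ∀ i j, polar Q (f i) (f j) = 0
  ef : ∀ i j, polar Q (e i) (f j) = if i = j then 1 else 0

variable {Q : QuadraticForm F V} {n : ℕ} {e f : Fin n → V}

theorem HypFrame.fe (h : HypFrame Q e f) (i j) :
    polar Q (f i) (e j) = if i = j then 1 else 0 := by
  rw [polar_comm, h.ef]
  simp [eq_comm]

/-- restriction of a frame along an injection of index sets -/
theorem HypFrame.comp (h : HypFrame Q e f) {k : ℕ} (σ : Fin k → Fin n)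
    (hσ : Function.Injective σ) : HypFrame Q (e ∘ σ) (f ∘ σ) where
  qe i := h.qe _
  qf i := h.qf _
  ee i j := h.ee _ _
  ff i j := h.ff _ _
  ef i j := by
    simp only [Function.comp_apply, h.ef, hσ.eq_iff]

/-- transport of a frame along an isometry -/
theorem HypFrame.map (h : HypFrame Q e f) (g : V →ₗ[F] V) (hg : ∀ v, Q (g v) = Q v) :
    HypFrame Q (fun i => g (e i)) (fun i => g (f i)) where
  qe i := by rw [hg, h.qe]
  qf i := by rw [hg, h.qf]
  ee i j := by rw [polar_of_isom hg, h.ee]
  ff i j := by rw [polar_of_isom hg, h.ff]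
  ef i j := by rw [polar_of_isom hg, h.ef]

/-- the standard vector of norm `a` in the first hyperbolic plane -/
theorem HypFrame.Q_std (h : HypFrame Q e f) (i : Fin n) (a : F) : Q (e i + a • f i) = a := by
  rw [Q_add', QuadraticMap.map_smul, h.qe, h.qf, polar_smul_right, h.ef]
  simp

theorem HypFrame.std_ne_zero (h : HypFrame Q e f) (i : Fin n) (a : F) : e i + a • f i ≠ 0 := by
  intro h0
  have h1 : polar Q (e i + a • f i) (f i) = 1 := by
    rw [polar_add_left, polar_smul_left, h.ef, h.ff]
    simp
  rw [h0, polar_zero_left] at h1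
  exact zero_ne_one h1

/-- core of the spanning lemma, for the standard vector `z₀ = e₀ + a f₀` -/
theorem HypFrame.span_core [FiniteDimensional F V] (hQ : (polarBilin Q).Nondegenerate)
    {e f : Fin 2 → V} (h : HypFrame Q e f) (a : F) (y : V)
    (H : ∀ s, Q s = 0 → polar Q (e 0 + a • f 0) s = 0 → polar Q y s = 0) :
    y = polar Q y (f 0) • (e 0 + a • f 0) := by
  have h1 : polar Q y (e 1) = 0 := by
    apply H _ (h.qe 1)
    simp [polar_add_left, polar_smul_left, h.ee, h.fe]
  have h2 : polar Q y (f 1) = 0 := by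
    apply H _ (h.qf 1)
    simp [polar_add_left, polar_smul_left, h.ef, h.ff]
  -- projection away from the two hyperbolic planes
  have h3 : ∀ x, polar Q y x = polar Q x (f 0) * polar Q y (e 0) + polar Q x (e 0) * polar Q y (f 0) := by
    intro x
    set x'' := x - polar Q x (f 0) • e 0 - polar Q x (e 0) • f 0 - polar Q x (f 1) • e 1
      - polar Q x (e 1) • f 1 with hx''
    have p0 : polar Q x'' (e 0) = 0 := by
      simp [hx'', polar_sub_left, polar_smul_left, h.ee, h.fe]
    have p1 : polar Q x'' (f 0) = 0 := by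
      simp [hx'', polar_sub_left, polar_smul_left, h.ef, h.ff]
    have p2 : polar Q x'' (e 1) = 0 := by
      simp [hx'', polar_sub_left, polar_smul_left, h.ee, h.fe]
    have p3 : polar Q x'' (f 1) = 0 := by
      simp [hx'', polar_sub_left, polar_smul_left, h.ef, h.ff]
    have hs : Q (x'' + (e 1 + (-(Q x'')) • f 1)) = 0 := by
      rw [Q_add', h.Q_std, polar_add_right, polar_smul_right, p2, p3]
      simp
    have hzs : polar Q (e 0 + a • f 0) (x'' + (e 1 + (-(Q x'')) • f 1)) = 0 := by
      rw [polar_add_right, polar_comm Q _ x'', polar_add_right, polar_smul_right, p0, p1]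
      simp [polar_add_left, polar_add_right, polar_smul_left, polar_smul_right, h.ee, h.ff, h.ef,
        h.fe]
    have h4 := H _ hs hzs
    rw [polar_add_right, polar_add_right, polar_smul_right, h1, h2] at h4
    have h5 : polar Q y x'' = 0 := by simpa using h4
    rw [hx''] at h5
    simp only [polar_sub_right, polar_smul_right, h1, h2, smul_eq_mul, mul_zero, sub_zero] at h5
    linear_combination h5
  have h4 : polar Q y (e 0) = a * polar Q y (f 0) := by
    have hs : Q ((e 0 + (-a) • f 0) + (e 1 + a • f 1)) = 0 := by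
      rw [Q_add', h.Q_std, h.Q_std]
      simp [polar_add_left, polar_add_right, polar_smul_left, polar_smul_right, h.ee, h.ff, h.ef,
        h.fe]
    have hzs : polar Q (e 0 + a • f 0) ((e 0 + (-a) • f 0) + (e 1 + a • f 1)) = 0 := by
      simp [polar_add_left, polar_add_right, polar_smul_left, polar_smul_right, h.ee, h.ff, h.ef,
        h.fe]
    have h5 := H _ hs hzs
    simp only [polar_add_right, polar_smul_right, h1, h2, smul_eq_mul, mul_zero, add_zero] at h5
    linear_combination h5
  have h5 : y - polar Q y (f 0) • (e 0 + a • f 0) = 0 := by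
    apply hQ.1
    intro x
    rw [polarBilin_apply_apply, polar_sub_left, polar_smul_left, polar_add_left, polar_smul_left,
      h3 x, h4, polar_comm Q (e 0) x, polar_comm Q (f 0) x]
    simp only [smul_eq_mul]
    ring
  exact sub_eq_zero.1 h5

end frame

section concrete
variable {F : Type*} [Field F] {ι : Type} [Fintype ι] [DecidableEq ι] {Q : QuadraticForm F (ι → F)}

/-- Witt's lemma for finite families, in the isometry group -/
theorem exists_smul_family (hQ : (polarBilin Q).Nondegenerate) (k : ℕ) (x y : Fin k → (ι → F))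
    (hx : LinearIndependent F x) (hy : LinearIndependent F y) (hQxy : ∀ i, Q (x i) = Q (y i))
    (hp : ∀ i j, polar Q (x i) (x j) = polar Q (y i) (y j)) :
    ∃ g : Cfsg.isometryGroup F (⇑Q), ∀ i, g • x i = y i := by
  obtain ⟨g, hg, hgx⟩ := witt_family hQ k x y hx hy hQxy hp
  obtain ⟨γ, hγ⟩ := exists_of_linearEquiv Q g hg
  exact ⟨γ, fun i => by rw [hγ, hgx]⟩

theorem exists_smul_eq_of_Q_eq (hQ : (polarBilin Q).Nondegenerate) {z z' : ι → F} (hz : z ≠ 0)
    (hz' : z' ≠ 0) (h : Q z = Q z') : ∃ g : Cfsg.isometryGroup F (⇑Q), g • z = z' := by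
  obtain ⟨g, hg⟩ := exists_smul_family hQ 1 ![z] ![z']
    (by rw [linearIndependent_unique_iff]; exact hz)
    (by rw [linearIndependent_unique_iff]; exact hz')
    (by intro i; fin_cases i; exact h)
    (by
      intro i j
      fin_cases i; fin_cases j
      show polar Q z z = polar Q z' z'
      rw [polar_self, polar_self, h])
  exact ⟨g, hg 0⟩

theorem exists_smul_pair (hQ : (polarBilin Q).Nondegenerate) {u v u' v' : ι → F}
    (huv : LinearIndependent F ![u, v]) (huv' : LinearIndependent F ![u', v'])
    (hu : Q u = Q u') (hv : Q v = Q v') (hp : polar Q u v = polar Q u' v') :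
    ∃ g : Cfsg.isometryGroup F (⇑Q), g • u = u' ∧ g • v = v' := by
  obtain ⟨g, hg⟩ := exists_smul_family hQ 2 ![u, v] ![u', v'] huv huv'
    (by intro i; fin_cases i; exacts [hu, hv])
    (by
      intro i j
      fin_cases i <;> fin_cases j
      · show polar Q u u = polar Q u' u'
        rw [polar_self, polar_self, hu]
      · exact hp
      · show polar Q v u = polar Q v' u'
        rw [polar_comm, hp, polar_comm]
      · show polar Q v v = polar Q v' v'
        rw [polar_self, polar_self, hv])
  exact ⟨g, hg 0, hg 1⟩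

/-- **spanning lemma**: for `z ≠ 0` and `y` not a multiple of `z` there is a singular vector
orthogonal to `z` but not to `y` -/
theorem exists_singular_orth (hQ : (polarBilin Q).Nondegenerate) {e f : Fin 2 → (ι → F)}
    (fr : HypFrame Q e f) {z y : ι → F} (hz : z ≠ 0) (hy : ∀ c : F, y ≠ c • z) :
    ∃ s, Q s = 0 ∧ polar Q z s = 0 ∧ polar Q y s ≠ 0 := by
  by_contra hcon
  push Not at hcon
  obtain ⟨g, hg⟩ := exists_smul_eq_of_Q_eq hQ hz (fr.std_ne_zero 0 (Q z)) (fr.Q_std 0 (Q z)).symm
  have H : ∀ s, Q s = 0 → polar Q (e 0 + Q z • f 0) s = 0 → polar Q (g • y) s = 0 := by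
    intro s hs hzs
    have h1 : s = g • (g⁻¹ • s) := (smul_inv_smul g s).symm
    rw [h1, polar_smul_smul Q]
    apply hcon
    · rw [Q_smul Q, hs]
    · rw [← polar_smul_smul Q g, hg, smul_inv_smul, hzs]
  have h2 := fr.span_core hQ (Q z) (g • y) H
  apply hy (polar Q (g • y) (f 0))
  have h3 : g⁻¹ • (g • y) = g⁻¹ • (polar Q (g • y) (f 0) • (e 0 + Q z • f 0)) := by rw [← h2]
  rw [inv_smul_smul, smul_smul' Q, ← hg, inv_smul_smul] at h3
  exact h3

end concrete

end Cfsg.Agent.Helper2.Orth
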