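import Mathlib
import Cfsg.Agent.Lib.Helper2.OrthFrame

set_option autoImplicit false
set_option linter.unusedSectionVars false
set_option linter.unusedSimpArgs false

namespace Cfsg.Agent.Helper2.Orth

open QuadraticMap Matrix Cfsg.Agent.Helper28.Siegel Cfsg.Agent.Helper28.WittQuad
  Cfsg.Agent.Helper17.Spinor

variable {F : Type*} [Field F] {ι : Type} [Fintype ι] [DecidableEq ι] (Q : QuadraticForm F (ι → F))

/-- the subgroup generated by the Eichler transformations -/
def eichGroup : Subgroup (Cfsg.isometryGroup F (⇑Q)) :=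
  Subgroup.closure {g | ∃ z b : ι → F, Q z = 0 ∧ polar Q z b = 0 ∧ g = eichG Q z b}

/-- the subgroup generated by the Siegel transformations -/
def siegGroup : Subgroup (Cfsg.isometryGroup F (⇑Q)) :=
  Subgroup.closure {g | ∃ (u v : ι → F) (hu : Q u = 0) (hv : Q v = 0) (huv : polar Q u v = 0)
    (c : F), g = siegG Q hu hv huv c}

variable {Q}

theorem eichG_mem {z b : ι → F} (hz : Q z = 0) (hzb : polar Q z b = 0) :
    eichG Q z b ∈ eichGroup Q :=
  Subgroup.subset_closure ⟨z, b, hz, hzb, rfl⟩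

theorem eichGroup_normal : (eichGroup Q).Normal := by
  constructor
  intro n hn g
  unfold eichGroup at hn ⊢
  induction hn using Subgroup.closure_induction with
  | mem x hx =>
    obtain ⟨z, b, hz, hzb, rfl⟩ := hx
    rw [eichG_conj g hz hzb]
    exact Subgroup.subset_closure ⟨_, _, by rw [Q_smul Q, hz], by rw [polar_smul_smul Q, hzb], rfl⟩
  | one => simp
  | mul x y _ _ hx hy =>
    have : g * (x * y) * g⁻¹ = (g * x * g⁻¹) * (g * y * g⁻¹) := by group
    rw [this]
    exact Subgroup.mul_mem _ hx hy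
  | inv x _ hx =>
    have : g * x⁻¹ * g⁻¹ = (g * x * g⁻¹)⁻¹ := by group
    rw [this]
    exact Subgroup.inv_mem _ hx

theorem siegGroup_le_eichGroup : siegGroup Q ≤ eichGroup Q := by
  unfold siegGroup
  rw [Subgroup.closure_le]
  rintro g ⟨u, v, hu, hv, huv, c, rfl⟩
  rw [siegG_eq_eichG]
  exact eichG_mem hu (by rw [polar_smul_right, huv, smul_zero])

theorem eichG_zero_left (b : ι → F) : eichG Q 0 b = 1 := by
  apply ext_smul
  intro x
  rw [eichG_smul (map_zero Q) (polar_zero_left _ _), eich_zero_left, one_smul]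

/-- the singular vectors orthogonal to `z` span `z^⊥` -/
theorem mem_span_singular (hQ : (polarBilin Q).Nondegenerate) {e f : Fin 2 → (ι → F)}
    (fr : HypFrame Q e f) {z b : ι → F} (hz : z ≠ 0) (hzb : polar Q z b = 0) :
    b ∈ Submodule.span F {s : ι → F | Q s = 0 ∧ polar Q z s = 0} := by
  by_contra hb
  obtain ⟨d, hd1, hd2⟩ := exists_perp_partner hQ _ hb
  have hd : ∀ c : F, d ≠ c • z := by
    rintro c rfl
    rw [polar_smul_left, hzb, smul_zero] at hd2
    exact zero_ne_one hd2
  obtain ⟨s, hs, hzs, hds⟩ := exists_singular_orth hQ fr hz hd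
  exact hds (hd1 s (Submodule.subset_span ⟨hs, hzs⟩))

theorem eichG_mem_siegGroup (hQ : (polarBilin Q).Nondegenerate) {e f : Fin 2 → (ι → F)}
    (fr : HypFrame Q e f) {z b : ι → F} (hz : Q z = 0) (hzb : polar Q z b = 0) :
    eichG Q z b ∈ siegGroup Q := by
  by_cases hz0 : z = 0
  · rw [hz0, eichG_zero_left]
    exact Subgroup.one_mem _
  have hb := mem_span_singular hQ fr hz0 hzb
  have key : ∀ b ∈ Submodule.span F {s : ι → F | Q s = 0 ∧ polar Q z s = 0},
      polar Q z b = 0 ∧ ∀ c : F, eichG Q z (c • b) ∈ siegGroup Q := by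
    intro b hb
    induction hb using Submodule.span_induction with
    | mem s hs =>
      refine ⟨hs.2, fun c => ?_⟩
      have h1 := siegG_eq_eichG hz hs.1 hs.2 (-c)
      rw [neg_neg] at h1
      rw [← h1]
      exact Subgroup.subset_closure ⟨z, s, hz, hs.1, hs.2, -c, rfl⟩
    | zero =>
      refine ⟨polar_zero_right _ _, fun c => ?_⟩
      rw [smul_zero, eichG_zero]
      exact Subgroup.one_mem _
    | add x y _ _ hx hy =>
      refine ⟨by rw [polar_add_right, hx.1, hy.1, add_zero], fun c => ?_⟩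
      rw [smul_add, ← eichG_mul hz (by rw [polar_smul_right, hx.1, smul_zero])
        (by rw [polar_smul_right, hy.1, smul_zero])]
      exact Subgroup.mul_mem _ (hx.2 c) (hy.2 c)
    | smul a x _ hx =>
      refine ⟨by rw [polar_smul_right, hx.1, smul_zero], fun c => ?_⟩
      rw [smul_smul]
      exact hx.2 _
  have := (key b hb).2 1
  rwa [one_smul] at this

theorem eichGroup_eq_siegGroup (hQ : (polarBilin Q).Nondegenerate) {e f : Fin 2 → (ι → F)}
    (fr : HypFrame Q e f) : eichGroup Q = siegGroup Q := by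
  apply le_antisymm _ siegGroup_le_eichGroup
  unfold eichGroup
  rw [Subgroup.closure_le]
  rintro g ⟨z, b, hz, hzb, rfl⟩
  exact eichG_mem_siegGroup hQ fr hz hzb

/-- the Siegel group lies in `Ω` -/
theorem siegGroup_le_Omega [Fintype F] (hQ : (polarBilin Q).Nondegenerate)
    (hex : Fintype.card F ≠ 2 ∨ Fintype.card ι ≠ 4) : siegGroup Q ≤ Cfsg.Omega F (⇑Q) := by
  unfold siegGroup
  rw [Subgroup.closure_le]
  rintro g ⟨u, v, hu, hv, huv, c, rfl⟩
  by_cases h2 : (2 : F) = 0
  · have : CharP F 2 := CharTwo.of_one_ne_zero_of_two_eq_zero one_ne_zero h2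
    exact siegG_mem_Omega_two Q hQ hex hu hv huv c
  · exact siegG_mem_Omega_odd Q h2 hQ hu hv huv c

/-- moving `w` by a singular vector `d` orthogonal to it -/
theorem eich_move_orth (hQ : (polarBilin Q).Nondegenerate) {d w : ι → F} (hd : Q d = 0)
    (hdw : polar Q d w = 0) (hw : ∀ c : F, w ≠ c • d) :
    ∃ t ∈ eichGroup Q, t • w = w + d := by
  have hx : w ∉ Submodule.span F {d} := by
    intro h
    obtain ⟨c, hc⟩ := Submodule.mem_span_singleton.mp h
    exact hw c hc.symm
  obtain ⟨b, hb1, hb2⟩ := exists_perp_partner hQ _ hx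
  have hdb : polar Q d b = 0 := by
    rw [polar_comm]
    exact hb1 d (Submodule.mem_span_singleton_self d)
  refine ⟨eichG Q d b, eichG_mem hd hdb, ?_⟩
  rw [eichG_smul hd hdb, eich_apply, hb2, hdw]
  simp

/-- two independent orthogonal singular vectors are in one orbit -/
theorem eich_trans_orth (hQ : (polarBilin Q).Nondegenerate) {u u' : ι → F} (hu0 : u ≠ 0)
    (hu : Q u = 0) (hu' : Q u' = 0) (huu' : polar Q u u' = 0) (hind : ∀ c : F, u' ≠ c • u) :
    ∃ t ∈ eichGroup Q, t • u = u' := by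
  have hd : Q (u' - u) = 0 := by
    have : u' - u = u' + (-1 : F) • u := by module
    rw [this, Q_add', QuadraticMap.map_smul, hu, hu', polar_smul_right, polar_comm, huu']
    simp
  have hdu : polar Q (u' - u) u = 0 := by
    rw [polar_sub_left, polar_comm, huu', polar_self_of_singular Q hu, sub_zero]
  have hw : ∀ c : F, u ≠ c • (u' - u) := by
    intro c hc
    by_cases hc0 : c = 0
    · rw [hc0, zero_smul] at hc
      exact hu0 hc
    · apply hind ((1 + c) / c)
      have h1 : c • u' = (1 + c) • u := by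
        have : c • u' = c • (u' - u) + c • u := by module
        rw [this, ← hc]
        module
      have h2 : u' = c⁻¹ • (c • u') := by rw [smul_smul, inv_mul_cancel₀ hc0, one_smul]
      rw [h2, h1, smul_smul]
      congr 1
      field_simp
  obtain ⟨t, ht, htu⟩ := eich_move_orth hQ hd hdu hw
  refine ⟨t, ht, ?_⟩
  rw [htu]
  abel

/-- a singular vector orthogonal to and independent of two given singular vectors -/
theorem exists_common_orth (hQ : (polarBilin Q).Nondegenerate) {e f : Fin 2 → (ι → F)}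
    (fr : HypFrame Q e f) {u u' : ι → F} (hu0 : u ≠ 0) (hu : Q u = 0) (hu'0 : u' ≠ 0)
    (hu' : Q u' = 0) :
    ∃ w, Q w = 0 ∧ polar Q u w = 0 ∧ polar Q u' w = 0 ∧ (∀ c : F, w ≠ c • u) ∧
      (∀ c : F, w ≠ c • u') := by
  have he0 : e 0 ≠ 0 := by
    have := fr.std_ne_zero 0 0
    rwa [zero_smul, add_zero] at this
  have he1 : e 1 ≠ 0 := by
    have := fr.std_ne_zero 1 0
    rwa [zero_smul, add_zero] at this
  by_cases hdep : ∃ c : F, u' = c • u
  · obtain ⟨c, rfl⟩ := hdep
    obtain ⟨g, hg⟩ := exists_smul_eq_of_Q_eq hQ hu0 he0 (by rw [hu, fr.qe])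
    have hw1 : polar Q u (g⁻¹ • e 1) = 0 := by
      rw [← polar_smul_smul Q g, hg, smul_inv_smul, fr.ee]
    have hw2 : ∀ a : F, g⁻¹ • e 1 ≠ a • u := by
      intro a ha
      have h1 : g • (g⁻¹ • e 1) = g • (a • u) := by rw [ha]
      rw [smul_inv_smul, smul_smul' Q, hg] at h1
      have h2 : polar Q (e 1) (f 1) = polar Q (a • e 0) (f 1) := by rw [h1]
      rw [polar_smul_left, fr.ef, fr.ef] at h2
      simp at h2
    refine ⟨g⁻¹ • e 1, by rw [Q_smul Q, fr.qe], hw1, by rw [polar_smul_left, hw1, smul_zero], hw2, ?_⟩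
    intro a ha
    exact hw2 (a * c) (by rw [ha, smul_smul])
  push Not at hdep
  by_cases horth : polar Q u u' = 0
  · have hind : LinearIndependent F ![u, u'] := by
      rw [LinearIndependent.pair_iff' hu0]
      intro a ha
      exact hdep a ha.symm
    have hind' : LinearIndependent F ![e 0, e 1] := by
      rw [LinearIndependent.pair_iff' he0]
      intro a ha
      have h2 : polar Q (a • e 0) (f 1) = polar Q (e 1) (f 1) := by rw [ha]
      rw [polar_smul_left, fr.ef, fr.ef] at h2
      simp at h2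
    obtain ⟨g, hg0, hg1⟩ := exists_smul_pair hQ hind hind' (by rw [hu, fr.qe])
      (by rw [hu', fr.qe]) (by rw [horth, fr.ee])
    have hw1 : polar Q u (g⁻¹ • (e 0 + e 1)) = 0 := by
      rw [← polar_smul_smul Q g, hg0, smul_inv_smul, polar_add_right, fr.ee, fr.ee, add_zero]
    have hw2 : polar Q u' (g⁻¹ • (e 0 + e 1)) = 0 := by
      rw [← polar_smul_smul Q g, hg1, smul_inv_smul, polar_add_right, fr.ee, fr.ee, add_zero]
    refine ⟨g⁻¹ • (e 0 + e 1), ?_, hw1, hw2, ?_, ?_⟩
    · rw [Q_smul Q, Q_add', fr.qe, fr.qe, fr.ee]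
      simp
    · intro a ha
      have h1 : g • (g⁻¹ • (e 0 + e 1)) = g • (a • u) := by rw [ha]
      rw [smul_inv_smul, smul_smul' Q, hg0] at h1
      have h2 : polar Q (e 0 + e 1) (f 1) = polar Q (a • e 0) (f 1) := by rw [h1]
      rw [polar_add_left, polar_smul_left, fr.ef, fr.ef] at h2
      simp at h2
    · intro a ha
      have h1 : g • (g⁻¹ • (e 0 + e 1)) = g • (a • u') := by rw [ha]
      rw [smul_inv_smul, smul_smul' Q, hg1] at h1
      have h2 : polar Q (e 0 + e 1) (f 0) = polar Q (a • e 1) (f 0) := by rw [h1]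
      rw [polar_add_left, polar_smul_left, fr.ef, fr.ef] at h2
      simp at h2
  · have hu'' : Q ((polar Q u u')⁻¹ • u') = 0 := by rw [QuadraticMap.map_smul, hu', smul_zero]
    have hpol : polar Q u ((polar Q u u')⁻¹ • u') = 1 := by
      rw [polar_smul_right, smul_eq_mul, inv_mul_cancel₀ horth]
    have hef : polar Q (e 0) (f 0) = 1 := by rw [fr.ef]; simp
    obtain ⟨g, hg0, hg1⟩ := exists_smul_pair hQ (linearIndependent_hyp Q hu hu'' hpol)
      (linearIndependent_hyp Q (fr.qe 0) (fr.qf 0) hef) (by rw [hu, fr.qe])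
      (by rw [hu'', fr.qf]) (by rw [hpol, hef])
    have hw1 : polar Q u (g⁻¹ • e 1) = 0 := by
      rw [← polar_smul_smul Q g, hg0, smul_inv_smul, fr.ee]
    have hw2' : polar Q ((polar Q u u')⁻¹ • u') (g⁻¹ • e 1) = 0 := by
      rw [← polar_smul_smul Q g, hg1, smul_inv_smul, fr.fe]
      simp
    have hw2 : polar Q u' (g⁻¹ • e 1) = 0 := by
      rw [polar_smul_left, smul_eq_mul] at hw2'
      rcases mul_eq_zero.1 hw2' with h | h
      · exact absurd h (inv_ne_zero horth)
      · exact h
    refine ⟨g⁻¹ • e 1, by rw [Q_smul Q, fr.qe], hw1, hw2, ?_, ?_⟩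
    · intro a ha
      have h1 : g • (g⁻¹ • e 1) = g • (a • u) := by rw [ha]
      rw [smul_inv_smul, smul_smul' Q, hg0] at h1
      have h2 : polar Q (e 1) (f 1) = polar Q (a • e 0) (f 1) := by rw [h1]
      rw [polar_smul_left, fr.ef, fr.ef] at h2
      simp at h2
    · intro a ha
      have h0 : g • u' = polar Q u u' • f 0 := by
        rw [← hg1, ← smul_smul' Q, smul_smul, mul_inv_cancel₀ horth, one_smul]
      have h1 : g • (g⁻¹ • e 1) = g • (a • u') := by rw [ha]
      rw [smul_inv_smul, smul_smul' Q, h0] at h1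
      have h2 : polar Q (e 1) (f 1) = polar Q (a • polar Q u u' • f 0) (f 1) := by rw [h1]
      rw [polar_smul_left, polar_smul_left, fr.ef, fr.ff] at h2
      simp at h2

/-- the Eichler group is transitive on non-zero singular vectors -/
theorem eich_trans_singular (hQ : (polarBilin Q).Nondegenerate) {e f : Fin 2 → (ι → F)}
    (fr : HypFrame Q e f) {u u' : ι → F} (hu0 : u ≠ 0) (hu : Q u = 0) (hu'0 : u' ≠ 0)
    (hu' : Q u' = 0) : ∃ t ∈ eichGroup Q, t • u = u' := by
  obtain ⟨w, hw, huw, hu'w, hwu, hwu'⟩ := exists_common_orth hQ fr hu0 hu hu'0 hu'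
  have hw0 : w ≠ 0 := by
    intro h
    exact hwu 0 (by rw [h, zero_smul])
  obtain ⟨t1, ht1, h1⟩ := eich_trans_orth hQ hu0 hu hw huw hwu
  have hind : ∀ c : F, u' ≠ c • w := by
    intro c hc
    by_cases hc0 : c = 0
    · rw [hc0, zero_smul] at hc
      exact hu'0 hc
    · apply hwu' c⁻¹
      rw [hc, smul_smul, inv_mul_cancel₀ hc0, one_smul]
  obtain ⟨t2, ht2, h2⟩ := eich_trans_orth hQ hw0 hw hu' (by rw [polar_comm, hu'w]) hind
  exact ⟨t2 * t1, Subgroup.mul_mem _ ht2 ht1, by rw [mul_smul, h1, h2]⟩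

/-- case A: the difference is singular -/
theorem eich_trans_caseA (hQ : (polarBilin Q).Nondegenerate) {w w' : ι → F} (hw : Q w ≠ 0)
    (h : Q w' = Q w) (hd : Q (w' - w) = 0) : ∃ t ∈ eichGroup Q, t • w = w' := by
  by_cases hd0 : w' - w = 0
  · refine ⟨1, Subgroup.one_mem _, ?_⟩
    rw [one_smul]
    exact (sub_eq_zero.1 hd0).symm
  have hdw : polar Q (w' - w) w = 0 := by
    have h1 : Q w' = Q (w + (w' - w)) := by congr 1; abel
    rw [Q_add', hd, h] at h1
    rw [polar_comm]
    linear_combination -h1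
  have hw' : ∀ c : F, w ≠ c • (w' - w) := by
    intro c hc
    apply hw
    rw [hc, QuadraticMap.map_smul, hd, smul_zero]
  obtain ⟨t, ht, htw⟩ := eich_move_orth hQ hd hdw hw'
  refine ⟨t, ht, ?_⟩
  rw [htw]
  abel

/-- cases A and B: the difference is not a multiple of `w` -/
theorem eich_trans_caseAB (hQ : (polarBilin Q).Nondegenerate) {e f : Fin 2 → (ι → F)}
    (fr : HypFrame Q e f) {w w' : ι → F} (hw : Q w ≠ 0) (h : Q w' = Q w)
    (hd : ∀ c : F, w' - w ≠ c • w) : ∃ t ∈ eichGroup Q, t • w = w' := by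
  by_cases hQd : Q (w' - w) = 0
  · exact eich_trans_caseA hQ hw h hQd
  have hw0 : w ≠ 0 := by
    rintro rfl
    exact hw (map_zero Q)
  obtain ⟨s, hs, hws, hds⟩ := exists_singular_orth hQ fr hw0 hd
  set s' := (Q (w' - w) / polar Q (w' - w) s) • s with hs'
  have hQs' : Q s' = 0 := by rw [hs', QuadraticMap.map_smul, hs, smul_zero]
  have hws' : polar Q w s' = 0 := by rw [hs', polar_smul_right, hws, smul_zero]
  have hds' : polar Q (w' - w) s' = Q (w' - w) := by
    rw [hs', polar_smul_right, smul_eq_mul, div_mul_cancel₀ _ hds]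
  have hw'' : Q (w + s') = Q w := by rw [Q_add', hQs', hws']; ring
  obtain ⟨t1, ht1, h1⟩ := eich_trans_caseA hQ (w' := w + s') hw hw''
    (by rw [add_sub_cancel_left, hQs'])
  obtain ⟨t2, ht2, h2⟩ := eich_trans_caseA hQ (w := w + s') (w' := w') (by rw [hw'']; exact hw)
    (by rw [hw'', h])
    (by
      have : w' - (w + s') = (w' - w) + (-1 : F) • s' := by module
      rw [this, Q_add', QuadraticMap.map_smul, hQs', polar_smul_right, hds']
      simp)
  exact ⟨t2 * t1, Subgroup.mul_mem _ ht2 ht1, by rw [mul_smul, h1, h2]⟩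

/-- the Eichler group is transitive on the vectors of a given non-zero norm -/
theorem eich_trans_norm (hQ : (polarBilin Q).Nondegenerate) {e f : Fin 2 → (ι → F)}
    (fr : HypFrame Q e f) {w w' : ι → F} (hw : Q w ≠ 0) (h : Q w' = Q w) :
    ∃ t ∈ eichGroup Q, t • w = w' := by
  by_cases hd : ∀ c : F, w' - w ≠ c • w
  · exact eich_trans_caseAB hQ fr hw h hd
  push Not at hd
  obtain ⟨c, hc⟩ := hd
  have hw0 : w ≠ 0 := by
    rintro rfl
    exact hw (map_zero Q)
  have hw'c : w' = (1 + c) • w := by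
    have : w' = (w' - w) + w := by abel
    rw [this, hc]
    module
  have he0 : ∀ a : F, e 0 ≠ a • w := by
    intro a ha
    have h1 : Q (e 0) = Q (a • w) := by rw [← ha]
    rw [fr.qe, QuadraticMap.map_smul, smul_eq_mul] at h1
    have ha0 : a = 0 := by
      rcases mul_eq_zero.1 h1.symm with h2 | h2
      · exact mul_self_eq_zero.1 h2
      · exact absurd h2 hw
    rw [ha0, zero_smul] at ha
    have := fr.std_ne_zero 0 0
    rw [zero_smul, add_zero] at this
    exact this ha
  obtain ⟨s, hs, hws, hes⟩ := exists_singular_orth hQ fr hw0 he0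
  have hs0 : s ≠ 0 := by
    rintro rfl
    exact hes (polar_zero_right _ _)
  have hw'' : Q (w + s) = Q w := by rw [Q_add', hs, hws]; ring
  obtain ⟨t1, ht1, h1⟩ := eich_trans_caseA hQ (w' := w + s) hw hw''
    (by rw [add_sub_cancel_left, hs])
  have hind : ∀ μ : F, w' - (w + s) ≠ μ • (w + s) := by
    intro μ hμ
    have h3 : (c - μ) • w = (1 + μ) • s := by
      have : w' - (w + s) = c • w + (-1 : F) • s := by rw [hw'c]; module
      rw [this] at hμ
      have h4 : (c - μ) • w = (c • w + (-1 : F) • s) - μ • (w + s) + (1 + μ) • s := by module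
      rw [h4, hμ]
      module
    have h5 : Q ((c - μ) • w) = Q ((1 + μ) • s) := by rw [h3]
    rw [QuadraticMap.map_smul, QuadraticMap.map_smul, hs, smul_zero, smul_eq_mul] at h5
    have h6 : c - μ = 0 := by
      rcases mul_eq_zero.1 h5 with h7 | h7
      · exact mul_self_eq_zero.1 h7
      · exact absurd h7 hw
    rw [h6, zero_smul] at h3
    have h8 : 1 + μ = 0 := by
      rcases smul_eq_zero.1 h3.symm with h9 | h9
      · exact h9
      · exact absurd h9 hs0
    have h9 : c = -1 := by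
      have : μ = c := (sub_eq_zero.1 h6).symm
      rw [this] at h8
      linear_combination h8
    apply hw
    rw [← h, hw'c, h9]
    simp
  obtain ⟨t2, ht2, h2⟩ := eich_trans_caseAB hQ fr (w := w + s) (w' := w')
    (by rw [hw'']; exact hw) (by rw [hw'', h]) hind
  exact ⟨t2 * t1, Subgroup.mul_mem _ ht2 ht1, by rw [mul_smul, h1, h2]⟩

/-- reflections commute modulo the Eichler group -/
theorem commutator_tG_mem (hQ : (polarBilin Q).Nondegenerate) {e f : Fin 2 → (ι → F)}
    (fr : HypFrame Q e f) {v w : ι → F} (hv : Q v ≠ 0) (hw : Q w ≠ 0) :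
    tG Q v * tG Q w * (tG Q v)⁻¹ * (tG Q w)⁻¹ ∈ eichGroup Q := by
  have h1 := mul_tG Q (tG Q v) hw
  rw [toEnd_eq_smul] at h1
  have hw1 : Q (tG Q v • w) = Q w := Q_smul Q _ _
  obtain ⟨t, ht, htw⟩ := eich_trans_norm hQ fr hw hw1
  have h2 := mul_tG Q t hw
  rw [toEnd_eq_smul, htw] at h2
  have h3 : tG Q v * tG Q w * (tG Q v)⁻¹ * (tG Q w)⁻¹ = t * (tG Q w * t⁻¹ * (tG Q w)⁻¹) := by
    rw [h1, mul_inv_cancel_right]
    have : tG Q (tG Q v • w) = t * tG Q w * t⁻¹ := by rw [h2, mul_inv_cancel_right]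
    rw [this]
    group
  rw [h3]
  exact Subgroup.mul_mem _ ht (eichGroup_normal.conj_mem _ (Subgroup.inv_mem _ ht) _)

/-- `Ω` is contained in the Eichler group -/
theorem Omega_le_eichGroup [Fintype F] (hQ : (polarBilin Q).Nondegenerate)
    (hex : Fintype.card F ≠ 2 ∨ Fintype.card ι ≠ 4) {e f : Fin 2 → (ι → F)}
    (fr : HypFrame Q e f) : Cfsg.Omega F (⇑Q) ≤ eichGroup Q := by
  have hN : (eichGroup Q).Normal := eichGroup_normal
  show commutator _ ≤ _
  rw [commutator_def, Subgroup.commutator_le]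
  intro g _ h _
  -- commute in the quotient
  have key : Commute (QuotientGroup.mk' (eichGroup Q) g) (QuotientGroup.mk' (eichGroup Q) h) := by
    obtain ⟨vs, hvs, rfl⟩ := exists_prod_tG Q hQ hex g
    obtain ⟨ws, hws, rfl⟩ := exists_prod_tG Q hQ hex h
    rw [map_list_prod, map_list_prod]
    apply Commute.list_prod_left
    intro x hx
    apply Commute.list_prod_right
    intro y hy
    rw [List.mem_map] at hx hy
    obtain ⟨a, ha, rfl⟩ := hx
    obtain ⟨b, hb, rfl⟩ := hy
    rw [List.mem_map] at ha hb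
    obtain ⟨v, hv, rfl⟩ := ha
    obtain ⟨w, hw, rfl⟩ := hb
    show _ * _ = _ * _
    rw [← map_mul, ← map_mul]
    apply (QuotientGroup.eq_iff_div_mem (N := eichGroup Q)).2
    have := commutator_tG_mem hQ fr (hvs v hv) (hws w hw)
    rw [div_eq_mul_inv, _root_.mul_inv_rev, ← mul_assoc]
    exact this
  rw [commutatorElement_def, ← QuotientGroup.eq_one_iff]
  have := key.eq
  show QuotientGroup.mk' (eichGroup Q) (g * h * g⁻¹ * h⁻¹) = 1
  rw [map_mul, map_mul, map_mul, map_inv, map_inv, this, mul_inv_cancel_right, mul_inv_cancel]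

/-- **`Ω` is generated by the Siegel transformations** (two hyperbolic pairs) -/
theorem Omega_eq_eichGroup [Fintype F] (hQ : (polarBilin Q).Nondegenerate)
    (hex : Fintype.card F ≠ 2 ∨ Fintype.card ι ≠ 4) {e f : Fin 2 → (ι → F)}
    (fr : HypFrame Q e f) : Cfsg.Omega F (⇑Q) = eichGroup Q := by
  apply le_antisymm (Omega_le_eichGroup hQ hex fr)
  rw [eichGroup_eq_siegGroup hQ fr]
  exact siegGroup_le_Omega hQ hex

end Cfsg.Agent.Helper2.Orth
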