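import Mathlib

set_option autoImplicit false
set_option linter.unusedSectionVars false

namespace Cfsg.Agent.Helper2.AffExt

/-- the semidirect product of an additive group with a group acting on it -/
@[ext]
structure Aff (G W : Type*) where
  /-- the translation part -/
  w : W
  /-- the linear part -/
  g : G

variable {G W : Type*} [Group G] [AddCommGroup W] [DistribMulAction G W]

instance instMulAff : Mul (Aff G W) := ⟨fun a b => ⟨a.w + a.g • b.w, a.g * b.g⟩⟩

instance instOneAff : One (Aff G W) := ⟨⟨0, 1⟩⟩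

instance instInvAff : Inv (Aff G W) := ⟨fun a => ⟨-(a.g⁻¹ • a.w), a.g⁻¹⟩⟩

theorem mul_w (a b : Aff G W) : (a * b).w = a.w + a.g • b.w := rfl

theorem mul_g (a b : Aff G W) : (a * b).g = a.g * b.g := rfl

theorem one_w : (1 : Aff G W).w = 0 := rfl

theorem one_g : (1 : Aff G W).g = 1 := rfl

theorem inv_w (a : Aff G W) : (a⁻¹).w = -(a.g⁻¹ • a.w) := rfl

theorem inv_g (a : Aff G W) : (a⁻¹).g = a.g⁻¹ := rfl

instance instGroupAff : Group (Aff G W) where
  mul_assoc a b c := by
    apply Aff.ext
    · simp only [mul_w, mul_g, smul_add, mul_smul, add_assoc]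
    · simp only [mul_g, mul_assoc]
  one_mul a := by
    apply Aff.ext
    · simp only [mul_w, one_w, one_g, one_smul, zero_add]
    · simp only [mul_g, one_g, one_mul]
  mul_one a := by
    apply Aff.ext
    · simp only [mul_w, one_w, smul_zero, add_zero]
    · simp only [mul_g, one_g, mul_one]
  inv_mul_cancel a := by
    apply Aff.ext
    · simp only [mul_w, inv_w, inv_g, one_w, neg_add_cancel]
    · simp only [mul_g, inv_g, one_g, inv_mul_cancel]

/-- the projection onto the linear part -/
def proj : Aff G W →* G where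
  toFun a := a.g
  map_one' := rfl
  map_mul' _ _ := rfl

/-- the inclusion of the linear part -/
def incl : G →* Aff G W where
  toFun g := ⟨0, g⟩
  map_one' := rfl
  map_mul' a b := by
    apply Aff.ext
    · simp only [mul_w, smul_zero, add_zero]
    · rfl

theorem incl_injective : Function.Injective (incl : G → Aff G W) := by
  intro a b h
  exact congrArg Aff.g h

theorem proj_apply (a : Aff G W) : proj a = a.g := rfl

/-- the underlying equivalence with the product -/
def equivProd : Aff G W ≃ W × G where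
  toFun a := (a.w, a.g)
  invFun p := ⟨p.1, p.2⟩
  left_inv _ := rfl
  right_inv _ := rfl

theorem card_aff : Nat.card (Aff G W) = Nat.card W * Nat.card G := by
  rw [Nat.card_congr equivProd, Nat.card_prod]

instance instFiniteAff [Finite G] [Finite W] : Finite (Aff G W) :=
  Finite.of_equiv _ equivProd.symm

theorem sq_eq_one_of_g_eq_one (hW : ∀ w : W, w + w = 0) {a : Aff G W} (ha : a.g = 1) :
    a ^ 2 = 1 := by
  rw [pow_two]
  apply Aff.ext
  · rw [mul_w, ha, one_smul, hW, one_w]
  · rw [mul_g, ha, one_mul, one_g]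

theorem pow_g (a : Aff G W) (n : ℕ) : (a ^ n).g = a.g ^ n := by
  rw [← proj_apply, map_pow, proj_apply]

theorem orderOf_dvd_two_mul (hW : ∀ w : W, w + w = 0) (a : Aff G W) :
    orderOf a ∣ orderOf a.g * 2 := by
  apply orderOf_dvd_of_pow_eq_one
  rw [pow_mul]
  apply sq_eq_one_of_g_eq_one hW
  rw [pow_g, pow_orderOf_eq_one]

theorem orderOf_g_dvd (a : Aff G W) : orderOf a.g ∣ orderOf a := by
  rw [← proj_apply]
  exact orderOf_map_dvd proj a

/-- an element of order twice an odd prime maps onto an element of the same order, if elements of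
odd prime order act without nonzero fixed points -/
theorem orderOf_g_of_two_mul (hW : ∀ w : W, w + w = 0)
    (hfpf : ∀ (g : G) (s : ℕ), s.Prime → s ≠ 2 → orderOf g = s → ∀ w : W, g • w = w → w = 0)
    {s : ℕ} (hs : s.Prime) (hs2 : s ≠ 2) {a : Aff G W} (ha : orderOf a = 2 * s) :
    orderOf a.g = 2 * s := by
  have h1 := orderOf_g_dvd a
  have h2 := orderOf_dvd_two_mul hW a
  rw [ha] at h1 h2
  -- `s` divides the order of the linear part
  have hs_dvd : s ∣ orderOf a.g := by
    have h3 : s ∣ orderOf a.g * 2 := (Dvd.intro_left 2 rfl).trans h2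
    rcases (Nat.Prime.dvd_mul hs).1 h3 with h | h
    · exact h
    · exact absurd ((Nat.prime_dvd_prime_iff_eq hs Nat.prime_two).1 h) hs2
  obtain ⟨k, hk⟩ := hs_dvd
  have hk2 : k ∣ 2 := by
    rw [hk, mul_comm 2 s] at h1
    exact Nat.dvd_of_mul_dvd_mul_left hs.pos h1
  rcases (Nat.dvd_prime Nat.prime_two).1 hk2 with rfl | rfl
  · exfalso
    rw [mul_one] at hk
    -- the element `a ^ s` is a nonzero translation commuting with `a`
    have hz : (a ^ s).g = 1 := by rw [pow_g, ← hk, pow_orderOf_eq_one]
    have hz1 : a ^ s ≠ 1 := by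
      intro h
      have := orderOf_dvd_of_pow_eq_one h
      rw [ha] at this
      have h4 : 2 * s ≤ s := Nat.le_of_dvd hs.pos this
      have := hs.pos
      omega
    have hw0 : (a ^ s).w ≠ 0 := by
      intro h
      apply hz1
      apply Aff.ext
      · rw [h, one_w]
      · rw [hz, one_g]
    have hcomm : a * a ^ s = a ^ s * a := ((Commute.refl a).pow_right s).eq
    have h5 := congrArg Aff.w hcomm
    rw [mul_w, mul_w, hz, one_smul, add_comm (a ^ s).w a.w] at h5
    exact hw0 (hfpf a.g s hs hs2 hk _ (add_left_cancel h5))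
  · rw [hk, mul_comm]

theorem orderOf_g_of_odd (hW : ∀ w : W, w + w = 0) {a : Aff G W} (ha : ¬ 2 ∣ orderOf a) :
    orderOf a.g = orderOf a := by
  apply Nat.dvd_antisymm (orderOf_g_dvd a)
  have h2 := orderOf_dvd_two_mul hW a
  have hcop : Nat.Coprime (orderOf a) 2 := (Nat.Prime.coprime_iff_not_dvd Nat.prime_two).2 ha |>.symm
  exact hcop.dvd_of_dvd_mul_right h2

/-- the products of two distinct primes occurring as element orders are the same in the extension
and in the quotient -/
theorem exists_orderOf_iff (hW : ∀ w : W, w + w = 0)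
    (hfpf : ∀ (g : G) (s : ℕ), s.Prime → s ≠ 2 → orderOf g = s → ∀ w : W, g • w = w → w = 0)
    {r s : ℕ} (hr : r.Prime) (hs : s.Prime) (hrs : r ≠ s) :
    (∃ y : Aff G W, orderOf y = r * s) ↔ ∃ x : G, orderOf x = r * s := by
  constructor
  · rintro ⟨y, hy⟩
    by_cases hr2 : r = 2
    · subst hr2
      exact ⟨y.g, orderOf_g_of_two_mul hW hfpf hs (Ne.symm hrs) hy⟩
    · by_cases hs2 : s = 2
      · subst hs2
        rw [mul_comm] at hy
        refine ⟨y.g, ?_⟩
        rw [mul_comm]
        exact orderOf_g_of_two_mul hW hfpf hr hr2 hy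
      · refine ⟨y.g, ?_⟩
        rw [← hy]
        apply orderOf_g_of_odd hW
        rw [hy]
        intro h
        rcases (Nat.Prime.dvd_mul Nat.prime_two).1 h with h | h
        · exact hr2 ((Nat.prime_dvd_prime_iff_eq Nat.prime_two hr).1 h).symm
        · exact hs2 ((Nat.prime_dvd_prime_iff_eq Nat.prime_two hs).1 h).symm
  · rintro ⟨x, hx⟩
    exact ⟨incl x, by rw [orderOf_injective incl incl_injective, hx]⟩

end Cfsg.Agent.Helper2.AffExt
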