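import Mathlib

set_option autoImplicit false

namespace Cfsg.Agent.Helper2.FixCount

variable {G Ω : Type*} [Group G] [MulAction G Ω]

/-- among three elements of a type with at most two elements, two coincide -/
theorem exists_eq_of_card_le_two {X : Type*} [Finite X] (h : Nat.card X ≤ 2) (a b c : X) :
    a = b ∨ a = c ∨ b = c := by
  classical
  have : Fintype X := Fintype.ofFinite X
  rw [Nat.card_eq_fintype_card] at h
  by_contra hne
  rw [not_or, not_or] at hne
  have := Fintype.two_lt_card_iff.2 ⟨a, b, c, hne.1, hne.2.1, hne.2.2⟩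
  omega

/-- an element of odd order commuting with `g` fixes the fixed points of `g` when there are at most
two of them -/
theorem smul_eq_of_commute_of_odd [Finite Ω] {g c : G} {α : Ω}
    (hfix : Nat.card (MulAction.fixedBy Ω g) ≤ 2) (hα : g • α = α) (hc : c * g = g * c)
    (hodd : Odd (orderOf c)) : c • α = α := by
  have hmem : ∀ ω : Ω, g • ω = ω → g • (c • ω) = c • ω := by
    intro ω hω
    rw [← mul_smul, ← hc, mul_smul, hω]
  have h1 : g • (c • α) = c • α := hmem α hα
  have h2 : g • (c • c • α) = c • c • α := hmem _ h1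
  by_contra hne
  rcases exists_eq_of_card_le_two hfix (⟨α, hα⟩ : MulAction.fixedBy Ω g) ⟨c • α, h1⟩
    ⟨c • c • α, h2⟩ with h | h | h
  · exact hne (congrArg Subtype.val h).symm
  · have h' : α = c • c • α := congrArg Subtype.val h
    obtain ⟨k, hk⟩ := hodd
    have hsq : ∀ n : ℕ, (c ^ 2) ^ n • α = α := by
      intro n
      induction n with
      | zero => simp
      | succ n ih =>
        have h2' : c ^ 2 • α = α := by rw [pow_two, mul_smul]; exact h'.symm
        rw [pow_succ, mul_smul, h2', ih]
    apply hne
    have e : c = (c ^ 2) ^ (k + 1) := by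
      rw [← pow_mul]
      have : 2 * (k + 1) = orderOf c + 1 := by omega
      rw [this, pow_succ, pow_orderOf_eq_one, one_mul]
    calc c • α = (c ^ 2) ^ (k + 1) • α := by rw [← e]
      _ = α := hsq _
  · have h' : c • α = c • c • α := congrArg Subtype.val h
    exact hne (MulAction.injective c h').symm

/-- the number of group elements moving `α` to `ω` -/
theorem card_smul_eq [MulAction.IsPretransitive G Ω] (α ω : Ω) :
    Nat.card {x : G // x • α = ω} = Nat.card (MulAction.stabilizer G α) := by
  obtain ⟨x₀, hx₀⟩ := MulAction.exists_smul_eq G α ω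
  apply Nat.card_congr
  exact
    { toFun := fun x => ⟨x₀⁻¹ * x.1, by
        rw [MulAction.mem_stabilizer_iff, mul_smul, x.2, ← hx₀, inv_smul_smul]⟩
      invFun := fun h => ⟨x₀ * h.1, by
        rw [mul_smul, MulAction.mem_stabilizer_iff.1 h.2, hx₀]⟩
      left_inv := fun x => Subtype.ext (by simp)
      right_inv := fun h => Subtype.ext (by simp) }

/-- the fixed point formula for a transitive action -/
theorem card_fixedBy_mul_card_stabilizer [Finite G] [Finite Ω] [MulAction.IsPretransitive G Ω]
    (g : G) (α : Ω) :
    Nat.card (MulAction.fixedBy Ω g) * Nat.card (MulAction.stabilizer G α) =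
      Nat.card {x : G // x⁻¹ * g * x ∈ MulAction.stabilizer G α} := by
  classical
  have e : {x : G // x⁻¹ * g * x ∈ MulAction.stabilizer G α} ≃
      Σ ω : MulAction.fixedBy Ω g, {x : G // x • α = ω.1} :=
    { toFun := fun x => ⟨⟨x.1 • α, by
        have h := MulAction.mem_stabilizer_iff.1 x.2
        rw [MulAction.mem_fixedBy]
        calc g • x.1 • α = x.1 • (x.1⁻¹ * g * x.1) • α := by
              rw [← mul_smul, ← mul_smul]; congr 1; group
          _ = x.1 • α := by rw [h]⟩, ⟨x.1, rfl⟩⟩
      invFun := fun p => ⟨p.2.1, by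
        have hx : p.2.1 • α = p.1.1 := p.2.2
        have hω : g • p.1.1 = p.1.1 := p.1.2
        rw [MulAction.mem_stabilizer_iff, mul_smul, mul_smul, hx, hω, inv_smul_eq_iff]
        exact hx.symm⟩
      left_inv := fun x => rfl
      right_inv := by
        rintro ⟨⟨ω, hω⟩, ⟨x, hx⟩⟩
        dsimp only at hx
        subst hx
        rfl }
  have : Fintype (MulAction.fixedBy Ω g) := Fintype.ofFinite _
  rw [Nat.card_congr e, Nat.card_sigma]
  simp only [card_smul_eq]
  rw [Finset.sum_const, Finset.card_univ, smul_eq_mul, Nat.card_eq_fintype_card]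

end Cfsg.Agent.Helper2.FixCount
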