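import Mathlib

set_option autoImplicit false

namespace Cfsg.Agent.Helper2.CosetAct

variable {G Ω : Type*} [Group G] [MulAction G Ω]

/-- transfer of double transitivity and of a regular subgroup from a set to the cosets of a point
stabilizer -/
theorem coset_structure
    (h2t : ∀ a b c d : Ω, a ≠ b → c ≠ d → ∃ g : G, g • a = c ∧ g • b = d) (o : Ω)
    (P : Subgroup G) (hreg : ∀ x y : Ω, x ≠ o → y ≠ o → ∃! s : P, (s : G) • x = y)
    (N : Subgroup G) (hN : N = MulAction.stabilizer G o) :
    MulAction.IsMultiplyPretransitive G (G ⧸ N) 2 ∧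
      ∀ x y : G ⧸ N, x ≠ QuotientGroup.mk 1 → y ≠ QuotientGroup.mk 1 →
        ∃! s : P, (s : G) • x = y := by
  subst hN
  have hφinj : Function.Injective (MulAction.ofQuotientStabilizer G o) :=
    MulAction.injective_ofQuotientStabilizer G o
  have hφsmul : ∀ (g : G) (x : G ⧸ MulAction.stabilizer G o),
      MulAction.ofQuotientStabilizer G o (g • x) = g • MulAction.ofQuotientStabilizer G o x :=
    fun g x => MulAction.ofQuotientStabilizer_smul G o g x
  have hφ1 : MulAction.ofQuotientStabilizer G o (QuotientGroup.mk 1) = o := by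
    rw [MulAction.ofQuotientStabilizer_mk, one_smul]
  constructor
  · rw [MulAction.is_two_pretransitive_iff]
    intro a b c d hab hcd
    obtain ⟨g, h1, h2⟩ := h2t _ _ _ _ (hφinj.ne hab) (hφinj.ne hcd)
    exact ⟨g, hφinj (by rw [hφsmul, h1]), hφinj (by rw [hφsmul, h2])⟩
  · intro x y hx hy
    have hx' : MulAction.ofQuotientStabilizer G o x ≠ o := by
      intro h
      exact hx (hφinj (h.trans hφ1.symm))
    have hy' : MulAction.ofQuotientStabilizer G o y ≠ o := by
      intro h
      exact hy (hφinj (h.trans hφ1.symm))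
    obtain ⟨s, hs, huniq⟩ := hreg _ _ hx' hy'
    refine ⟨s, hφinj (by rw [hφsmul]; exact hs), ?_⟩
    intro s' hs'
    apply huniq
    show (s' : G) • MulAction.ofQuotientStabilizer G o x = MulAction.ofQuotientStabilizer G o y
    rw [← hφsmul, hs']

end Cfsg.Agent.Helper2.CosetAct
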