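import Mathlib

set_option autoImplicit false
set_option linter.unusedSectionVars false

namespace Cfsg.Agent.Helper2.IrrMat

open Matrix Finset

variable {F : Type*} [Field F] [Fintype F]

/-- invariant subspaces -/
def Inv (M : Matrix (Fin 4) (Fin 4) F) (W : Submodule F (Fin 4 → F)) : Prop :=
  ∀ v ∈ W, M *ᵥ v ∈ W

theorem card_modEq_one {M : Matrix (Fin 4) (Fin 4) F} {p : ℕ} (hp : p.Prime) (hpow : M ^ p = 1)
    {W : Submodule F (Fin 4 → F)} (hW : Inv M W) (hfix : ∀ v ∈ W, M *ᵥ v = v → v = 0) :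
    Fintype.card F ^ Module.finrank F W ≡ 1 [MOD p] := by
  classical
  have : Fact p.Prime := ⟨hp⟩
  let f : Function.End W := fun v => ⟨M *ᵥ v.1, hW v.1 v.2⟩
  have hfk : ∀ k : ℕ, ∀ v : W, ((f ^ k) v : Fin 4 → F) = (M ^ k) *ᵥ v.1 := by
    intro k
    induction k with
    | zero => intro v; rw [pow_zero, pow_zero, Matrix.one_mulVec]; rfl
    | succ k ih =>
      intro v
      rw [pow_succ', pow_succ', ← Matrix.mulVec_mulVec, ← ih]
      rfl
  have hf : f ^ p ^ 1 = 1 := by
    funext v
    apply Subtype.ext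
    rw [pow_one, hfk, hpow, Matrix.one_mulVec]
    rfl
  have h1 := Equiv.Perm.card_fixedPoints_modEq hf
  have h2 : Fintype.card (Function.fixedPoints f) = 1 := by
    rw [Fintype.card_eq_one_iff]
    refine ⟨⟨0, ?_⟩, ?_⟩
    · show f 0 = 0
      apply Subtype.ext
      show M *ᵥ (0 : Fin 4 → F) = 0
      rw [Matrix.mulVec_zero]
    · rintro ⟨v, hv⟩
      apply Subtype.ext
      have hv' : f v = v := hv
      have hv2 : M *ᵥ v.1 = v.1 := congrArg Subtype.val hv'
      exact Subtype.ext (hfix v.1 v.2 hv2)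
  rw [h2, Module.card_eq_pow_finrank (K := F)] at h1
  exact h1

/-- the hypotheses: `M` has prime order `p` not dividing `q^d - 1` for `d ≤ 3` -/
structure IrrData (M : Matrix (Fin 4) (Fin 4) F) (p : ℕ) : Prop where
  prime : p.Prime
  pow : M ^ p = 1
  ne_one : M ≠ 1
  ndvd : ∀ d, 1 ≤ d → d ≤ 3 → ¬ p ∣ Fintype.card F ^ d - 1
  cast_ne : (p : F) ≠ 0

theorem finrank_eq_zero_or_four {M : Matrix (Fin 4) (Fin 4) F} {p : ℕ} (h : IrrData M p)
    {W : Submodule F (Fin 4 → F)} (hW : Inv M W) (hfix : ∀ v ∈ W, M *ᵥ v = v → v = 0) :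
    W = ⊥ ∨ W = ⊤ := by
  have h1 := card_modEq_one h.prime h.pow hW hfix
  have hle : Module.finrank F W ≤ 4 := by
    have := Submodule.finrank_le W
    rw [Module.finrank_fin_fun] at this
    exact this
  have hq : 1 ≤ Fintype.card F := Fintype.card_pos
  have hdvd : p ∣ Fintype.card F ^ Module.finrank F W - 1 :=
    (Nat.modEq_iff_dvd' (Nat.one_le_pow _ _ hq)).1 h1.symm
  rcases Nat.eq_zero_or_pos (Module.finrank F W) with h0 | h0
  · left
    exact Submodule.finrank_eq_zero.1 h0
  · right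
    by_cases h4 : Module.finrank F W = 4
    · apply Submodule.eq_top_of_finrank_eq
      rw [h4, Module.finrank_fin_fun]
    · exfalso
      exact h.ndvd _ h0 (by omega) hdvd

/-- the norm element -/
def geomSum (M : Matrix (Fin 4) (Fin 4) F) (p : ℕ) : Matrix (Fin 4) (Fin 4) F :=
  ∑ i ∈ Finset.range p, M ^ i

theorem geomSum_comm (M : Matrix (Fin 4) (Fin 4) F) (p : ℕ) :
    geomSum M p * M = M * geomSum M p := by
  unfold geomSum
  rw [Finset.sum_mul, Finset.mul_sum]
  apply Finset.sum_congr rfl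
  intro i _
  rw [← pow_succ, ← pow_succ']

theorem geomSum_mulVec_of_fix {M : Matrix (Fin 4) (Fin 4) F} {v : Fin 4 → F} (hv : M *ᵥ v = v)
    (p : ℕ) : geomSum M p *ᵥ v = (p : F) • v := by
  have hk : ∀ k : ℕ, (M ^ k) *ᵥ v = v := by
    intro k
    induction k with
    | zero => rw [pow_zero, Matrix.one_mulVec]
    | succ k ih => rw [pow_succ, ← Matrix.mulVec_mulVec, hv, ih]
  unfold geomSum
  rw [Matrix.sum_mulVec]
  simp only [hk]
  rw [Finset.sum_const, Finset.card_range, Nat.cast_smul_eq_nsmul]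

theorem geomSum_eq_zero {M : Matrix (Fin 4) (Fin 4) F} {p : ℕ} (h : IrrData M p) :
    geomSum M p = 0 := by
  set N := geomSum M p with hN
  have hinv : Inv M (LinearMap.ker (Matrix.mulVecLin N)) := by
    intro v hv
    rw [LinearMap.mem_ker, Matrix.mulVecLin_apply] at hv ⊢
    rw [Matrix.mulVec_mulVec, geomSum_comm, ← Matrix.mulVec_mulVec, hv, Matrix.mulVec_zero]
  have hfix : ∀ v ∈ LinearMap.ker (Matrix.mulVecLin N), M *ᵥ v = v → v = 0 := by
    intro v hv hMv
    rw [LinearMap.mem_ker, Matrix.mulVecLin_apply, geomSum_mulVec_of_fix hMv] at hv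
    rcases smul_eq_zero.1 hv with h0 | h0
    · exact absurd h0 h.cast_ne
    · exact h0
  rcases finrank_eq_zero_or_four h hinv hfix with hk | hk
  · exfalso
    apply h.ne_one
    have hmul : N * (M - 1) = 0 := by
      rw [hN]
      unfold geomSum
      rw [geom_sum_mul, h.pow, sub_self]
    have : M - 1 = 0 := by
      ext i j
      have hv : (M - 1) *ᵥ (Pi.single j 1) ∈ LinearMap.ker (Matrix.mulVecLin N) := by
        rw [LinearMap.mem_ker, Matrix.mulVecLin_apply, Matrix.mulVec_mulVec, hmul,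
          Matrix.zero_mulVec]
      rw [hk, Submodule.mem_bot] at hv
      have := congrFun hv i
      rw [Matrix.mulVec_single_one] at this
      exact this
    exact sub_eq_zero.1 this
  · ext i j
    have hv : (Pi.single j 1 : Fin 4 → F) ∈ LinearMap.ker (Matrix.mulVecLin N) := by
      rw [hk]; exact Submodule.mem_top
    rw [LinearMap.mem_ker, Matrix.mulVecLin_apply] at hv
    have := congrFun hv i
    rw [Matrix.mulVec_single_one] at this
    exact this

/-- no fixed vectors -/
theorem eq_zero_of_fix {M : Matrix (Fin 4) (Fin 4) F} {p : ℕ} (h : IrrData M p)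
    {v : Fin 4 → F} (hv : M *ᵥ v = v) : v = 0 := by
  have h1 := geomSum_mulVec_of_fix hv p
  rw [geomSum_eq_zero h, Matrix.zero_mulVec] at h1
  rcases smul_eq_zero.1 h1.symm with h0 | h0
  · exact absurd h0 h.cast_ne
  · exact h0

/-- irreducibility -/
theorem eq_bot_or_eq_top {M : Matrix (Fin 4) (Fin 4) F} {p : ℕ} (h : IrrData M p)
    {W : Submodule F (Fin 4 → F)} (hW : Inv M W) : W = ⊥ ∨ W = ⊤ :=
  finrank_eq_zero_or_four h hW (fun _ _ hv => eq_zero_of_fix h hv)

/-- the centralizer algebra -/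
def Cent (M : Matrix (Fin 4) (Fin 4) F) : Subalgebra F (Matrix (Fin 4) (Fin 4) F) :=
  Subalgebra.centralizer F {M}

theorem mem_Cent {M c : Matrix (Fin 4) (Fin 4) F} : c ∈ Cent M ↔ M * c = c * M := by
  unfold Cent
  rw [Subalgebra.mem_centralizer_iff]
  constructor
  · intro h
    exact h M rfl
  · rintro h g rfl
    exact h

theorem eq_zero_of_mulVec_eq_zero {M : Matrix (Fin 4) (Fin 4) F} {p : ℕ} (h : IrrData M p)
    {c : Matrix (Fin 4) (Fin 4) F} (hc : c ∈ Cent M) (hc0 : c ≠ 0) {v : Fin 4 → F}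
    (hv : c *ᵥ v = 0) : v = 0 := by
  have hinv : Inv M (LinearMap.ker (Matrix.mulVecLin c)) := by
    intro v hv
    rw [LinearMap.mem_ker, Matrix.mulVecLin_apply] at hv ⊢
    rw [Matrix.mulVec_mulVec, ← mem_Cent.1 hc, ← Matrix.mulVec_mulVec, hv, Matrix.mulVec_zero]
  rcases eq_bot_or_eq_top h hinv with hk | hk
  · have : v ∈ LinearMap.ker (Matrix.mulVecLin c) := by
      rw [LinearMap.mem_ker, Matrix.mulVecLin_apply, hv]
    rw [hk, Submodule.mem_bot] at this
    exact this
  · exfalso
    apply hc0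
    ext i j
    have hv : (Pi.single j 1 : Fin 4 → F) ∈ LinearMap.ker (Matrix.mulVecLin c) := by
      rw [hk]; exact Submodule.mem_top
    rw [LinearMap.mem_ker, Matrix.mulVecLin_apply] at hv
    have := congrFun hv i
    rw [Matrix.mulVec_single_one] at this
    exact this

theorem noZeroDivisors {M : Matrix (Fin 4) (Fin 4) F} {p : ℕ} (h : IrrData M p) :
    NoZeroDivisors (Cent M) := by
  refine ⟨fun {a b} hab => ?_⟩
  by_cases ha : a = 0
  · exact Or.inl ha
  right
  have ha' : a.1 ≠ 0 := fun h0 => ha (Subtype.ext h0)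
  apply Subtype.ext
  ext i j
  have h1 : a.1 *ᵥ (b.1 *ᵥ Pi.single j 1) = 0 := by
    have h2 : a.1 * b.1 = 0 := congrArg Subtype.val hab
    rw [Matrix.mulVec_mulVec, h2, Matrix.zero_mulVec]
  have h3 := eq_zero_of_mulVec_eq_zero h a.2 ha' h1
  have := congrFun h3 i
  rw [Matrix.mulVec_single_one] at this
  exact this

theorem isField_Cent {M : Matrix (Fin 4) (Fin 4) F} {p : ℕ} (h : IrrData M p) :
    IsField (Cent M) := by
  have := noZeroDivisors h
  have : IsDomain (Cent M) := NoZeroDivisors.to_isDomain _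
  exact Finite.isDomain_to_isField _

/-- a group of matrices commuting with an irreducible element is cyclic -/
theorem isCyclic_of_commute {M : Matrix (Fin 4) (Fin 4) F} {p : ℕ} (h : IrrData M p)
    {H : Type*} [Group H] [Finite H] (φ : H →* Matrix (Fin 4) (Fin 4) F)
    (hφ : Function.Injective φ) (hcomm : ∀ x, M * φ x = φ x * M) : IsCyclic H := by
  have hfield := isField_Cent h
  let _ : Field (Cent M) := hfield.toField
  let f : H →* Cent M :=
    { toFun := fun x => ⟨φ x, mem_Cent.2 (hcomm x)⟩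
      map_one' := Subtype.ext (map_one φ)
      map_mul' := fun x y => Subtype.ext (map_mul φ x y) }
  exact isCyclic_of_injective_ringHom f (fun x y hxy => hφ (congrArg Subtype.val hxy))

end Cfsg.Agent.Helper2.IrrMat
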