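import Mathlib
import Cfsg.Agent.Lib.Helper2.IrrMat

set_option autoImplicit false
set_option linter.unusedSectionVars false

namespace Cfsg.Agent.Helper2.IrrMat

open Matrix Finset

variable {F : Type*} [Field F] [Fintype F]

theorem self_mem_Cent (M : Matrix (Fin 4) (Fin 4) F) : M ∈ Cent M := mem_Cent.2 rfl

theorem finrank_Cent {M : Matrix (Fin 4) (Fin 4) F} {p : ℕ} (h : IrrData M p) :
    Module.finrank F (Cent M) = 4 := by
  let v₀ : Fin 4 → F := Pi.single 0 1
  have hv₀ : v₀ ≠ 0 := by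
    intro h0
    have := congrFun h0 0
    simp [v₀] at this
  let e : Cent M →ₗ[F] (Fin 4 → F) :=
    { toFun := fun c => c.1 *ᵥ v₀
      map_add' := fun a b => by
        show (a.1 + b.1) *ᵥ v₀ = a.1 *ᵥ v₀ + b.1 *ᵥ v₀
        rw [Matrix.add_mulVec]
      map_smul' := fun r a => by
        show (r • a.1) *ᵥ v₀ = r • (a.1 *ᵥ v₀)
        rw [Matrix.smul_mulVec] }
  have hinj : Function.Injective e := by
    rw [← LinearMap.ker_eq_bot, LinearMap.ker_eq_bot']
    intro c hc
    by_contra hc0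
    have hc0' : c.1 ≠ 0 := fun h0 => hc0 (Subtype.ext h0)
    exact hv₀ (eq_zero_of_mulVec_eq_zero h c.2 hc0' hc)
  have hsurj : Function.Surjective e := by
    rw [← LinearMap.range_eq_top]
    have hinv : Inv M (LinearMap.range e) := by
      rintro _ ⟨c, rfl⟩
      refine ⟨⟨M * c.1, (Cent M).mul_mem (self_mem_Cent M) c.2⟩, ?_⟩
      show (M * c.1) *ᵥ v₀ = M *ᵥ (c.1 *ᵥ v₀)
      rw [Matrix.mulVec_mulVec]
    rcases eq_bot_or_eq_top h hinv with hk | hk
    · exfalso
      have : v₀ ∈ LinearMap.range e := ⟨1, by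
        show (1 : Matrix (Fin 4) (Fin 4) F) *ᵥ v₀ = v₀
        rw [Matrix.one_mulVec]⟩
      rw [hk, Submodule.mem_bot] at this
      exact hv₀ this
    · exact hk
  rw [LinearEquiv.finrank_eq (LinearEquiv.ofBijective e ⟨hinj, hsurj⟩), Module.finrank_fin_fun]

theorem card_aut_Cent {M : Matrix (Fin 4) (Fin 4) F} {p : ℕ} (h : IrrData M p) :
    Nat.card (Cent M ≃ₐ[F] Cent M) = 4 := by
  let _ : Field (Cent M) := (isField_Cent h).toField
  have := IsGalois.card_aut_eq_finrank F (Cent M)
  rw [finrank_Cent h] at this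
  exact this

theorem conj_mem_Cent {M : Matrix (Fin 4) (Fin 4) F} {a b c : Matrix (Fin 4) (Fin 4) F}
    (hab : a * b = 1) (hba : b * a = 1) {j : ℕ} (hj : b * M = M ^ j * b) (hc : c ∈ Cent M) :
    a * c * b ∈ Cent M := by
  rw [mem_Cent] at hc ⊢
  have hcj : M ^ j * c = c * M ^ j := by
    have : Commute M c := hc
    exact (this.pow_left j)
  have h1 : M * a = a * M ^ j := by
    calc M * a = (a * b) * M * a := by rw [hab, one_mul]
      _ = a * (b * M) * a := by simp only [mul_assoc]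
      _ = a * (M ^ j * b) * a := by rw [hj]
      _ = a * M ^ j * (b * a) := by simp only [mul_assoc]
      _ = a * M ^ j := by rw [hba, mul_one]
  calc M * (a * c * b) = (M * a) * c * b := by simp only [mul_assoc]
    _ = a * (M ^ j * c) * b := by rw [h1]; simp only [mul_assoc]
    _ = a * (c * M ^ j) * b := by rw [hcj]
    _ = a * c * (M ^ j * b) := by simp only [mul_assoc]
    _ = a * c * (b * M) := by rw [hj]
    _ = a * c * b * M := by simp only [mul_assoc]

/-- the conjugation automorphism of the centralizer field -/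
def conjAlgEquiv {M : Matrix (Fin 4) (Fin 4) F} (a b : Matrix (Fin 4) (Fin 4) F)
    (hab : a * b = 1) (hba : b * a = 1)
    (h1 : ∀ c ∈ Cent M, a * c * b ∈ Cent M) (h2 : ∀ c ∈ Cent M, b * c * a ∈ Cent M) :
    Cent M ≃ₐ[F] Cent M where
  toFun c := ⟨a * c.1 * b, h1 c.1 c.2⟩
  invFun c := ⟨b * c.1 * a, h2 c.1 c.2⟩
  left_inv c := by
    apply Subtype.ext
    show b * (a * c.1 * b) * a = c.1
    calc b * (a * c.1 * b) * a = (b * a) * c.1 * (b * a) := by simp only [mul_assoc]
      _ = c.1 := by rw [hba, one_mul, mul_one]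
  right_inv c := by
    apply Subtype.ext
    show a * (b * c.1 * a) * b = c.1
    calc a * (b * c.1 * a) * b = (a * b) * c.1 * (a * b) := by simp only [mul_assoc]
      _ = c.1 := by rw [hab, one_mul, mul_one]
  map_mul' x y := by
    apply Subtype.ext
    show a * (x.1 * y.1) * b = (a * x.1 * b) * (a * y.1 * b)
    calc a * (x.1 * y.1) * b = a * x.1 * 1 * y.1 * b := by rw [mul_one]; simp only [mul_assoc]
      _ = (a * x.1 * b) * (a * y.1 * b) := by rw [← hba]; simp only [mul_assoc]
  map_add' x y := by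
    apply Subtype.ext
    show a * (x.1 + y.1) * b = a * x.1 * b + a * y.1 * b
    rw [mul_add, add_mul]
  commutes' r := by
    apply Subtype.ext
    show a * (algebraMap F (Matrix (Fin 4) (Fin 4) F) r) * b =
      algebraMap F (Matrix (Fin 4) (Fin 4) F) r
    rw [← Algebra.commutes r a, mul_assoc, hab, mul_one]

/-- the index of the centralizer in a group normalizing an irreducible cyclic subgroup
divides four -/
theorem index_dvd_four {M : Matrix (Fin 4) (Fin 4) F} {p : ℕ} (h : IrrData M p)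
    {H : Type*} [Group H] [Finite H] (φ : H →* Matrix (Fin 4) (Fin 4) F)
    (hnorm : ∀ x : H, ∃ j : ℕ, φ x * M = M ^ j * φ x)
    (K : Subgroup H) (hK : ∀ x, x ∈ K ↔ M * φ x = φ x * M) : K.index ∣ 4 := by
  have hmul : ∀ x : H, φ x * φ x⁻¹ = 1 := fun x => by rw [← map_mul, mul_inv_cancel, map_one]
  have hmul' : ∀ x : H, φ x⁻¹ * φ x = 1 := fun x => by rw [← map_mul, inv_mul_cancel, map_one]
  have hc1 : ∀ x : H, ∀ c ∈ Cent M, φ x * c * φ x⁻¹ ∈ Cent M := by
    intro x c hc
    obtain ⟨j, hj⟩ := hnorm x⁻¹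
    exact conj_mem_Cent (hmul x) (hmul' x) hj hc
  have hc2 : ∀ x : H, ∀ c ∈ Cent M, φ x⁻¹ * c * φ x ∈ Cent M := by
    intro x c hc
    obtain ⟨j, hj⟩ := hnorm x
    exact conj_mem_Cent (hmul' x) (hmul x) hj hc
  let ψ : H →* (Cent M ≃ₐ[F] Cent M) :=
    { toFun := fun x => conjAlgEquiv (φ x) (φ x⁻¹) (hmul x) (hmul' x) (hc1 x) (hc2 x)
      map_one' := by
        apply AlgEquiv.ext
        intro c
        apply Subtype.ext
        show φ 1 * c.1 * φ 1⁻¹ = c.1
        rw [inv_one, map_one, one_mul, mul_one]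
      map_mul' := fun x y => by
        apply AlgEquiv.ext
        intro c
        apply Subtype.ext
        show φ (x * y) * c.1 * φ (x * y)⁻¹ = φ x * (φ y * c.1 * φ y⁻¹) * φ x⁻¹
        rw [_root_.mul_inv_rev, map_mul, map_mul]
        simp only [mul_assoc] }
  have hker : K = ψ.ker := by
    ext x
    rw [hK, MonoidHom.mem_ker]
    constructor
    · intro hx
      apply AlgEquiv.ext
      intro c
      apply Subtype.ext
      show φ x * c.1 * φ x⁻¹ = c.1
      have hxC : (⟨φ x, mem_Cent.2 hx⟩ : Cent M) * c = c * ⟨φ x, mem_Cent.2 hx⟩ :=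
        (isField_Cent h).mul_comm _ _
      have hxc : φ x * c.1 = c.1 * φ x := congrArg Subtype.val hxC
      rw [hxc, mul_assoc, hmul, mul_one]
    · intro hx
      have h1 := congrArg (fun e : Cent M ≃ₐ[F] Cent M => (e ⟨M, self_mem_Cent M⟩ : Cent M).1) hx
      have h2 : φ x * M * φ x⁻¹ = M := h1
      calc M * φ x = (φ x * M * φ x⁻¹) * φ x := by rw [h2]
        _ = φ x * M * (φ x⁻¹ * φ x) := by simp only [mul_assoc]
        _ = φ x * M := by rw [hmul', mul_one]
  rw [hker, Subgroup.index_ker]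
  have hdvd := Subgroup.card_subgroup_dvd_card ψ.range
  rw [card_aut_Cent h] at hdvd
  exact hdvd

end Cfsg.Agent.Helper2.IrrMat
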