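import Mathlib
import Cfsg.Prelude.Def_Classical

set_option autoImplicit false
set_option linter.unusedSectionVars false

namespace Cfsg.Agent.Helper2.Exc

section abstract
variable {G H : Type*} [Group G] [Group H]

/-- for a perfect group, an element mapping into the centre under a hom with central kernel
is central -/
theorem mem_center_of_perfect (hperf : commutator G = ⊤) (π : G →* H)
    (hker : π.ker ≤ Subgroup.center G) {g : G} (hg : π g ∈ Subgroup.center H) :
    g ∈ Subgroup.center G := by
  set N : Subgroup G := (Subgroup.center H).comap π with hN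
  have hgN : g ∈ N := hg
  have h0 : ⁅N, (⊤ : Subgroup G)⁆ ≤ Subgroup.center G := by
    rw [Subgroup.commutator_le]
    intro n hn x _
    apply hker
    rw [MonoidHom.mem_ker, map_commutatorElement, commutatorElement_eq_one_iff_commute]
    have : π n ∈ Subgroup.center H := hn
    rw [Subgroup.mem_center_iff] at this
    exact (this (π x)).symm
  have h1 : ⁅⁅N, (⊤ : Subgroup G)⁆, (⊤ : Subgroup G)⁆ = ⊥ := by
    rw [Subgroup.commutator_eq_bot_iff_le_centralizer]
    refine h0.trans ?_
    intro z hz
    rw [Subgroup.mem_centralizer_iff]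
    intro x _
    rw [Subgroup.mem_center_iff] at hz
    exact hz x
  have h2 : ⁅⁅(⊤ : Subgroup G), N⁆, (⊤ : Subgroup G)⁆ = ⊥ := by
    rw [Subgroup.commutator_comm ⊤ N]
    exact h1
  have h3 := Subgroup.commutator_commutator_eq_bot_of_rotate h2 h1
  rw [← commutator_def, hperf, Subgroup.commutator_eq_bot_iff_le_centralizer] at h3
  rw [Subgroup.mem_center_iff]
  intro x
  have h4 := h3 (Subgroup.mem_top x)
  rw [Subgroup.mem_centralizer_iff] at h4
  exact (h4 g hgN).symm

/-- a surjective hom reflecting centrality induces an isomorphism of the central quotients -/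
theorem nonempty_quotient_center_equiv (π : G →* H) (hs : Function.Surjective π)
    (hc : ∀ g, π g ∈ Subgroup.center H → g ∈ Subgroup.center G) :
    Nonempty (H ⧸ Subgroup.center H ≃* G ⧸ Subgroup.center G) := by
  set ψ : G →* H ⧸ Subgroup.center H := (QuotientGroup.mk' (Subgroup.center H)).comp π with hψ
  have hψs : Function.Surjective ψ := (QuotientGroup.mk'_surjective _).comp hs
  have hker : ψ.ker = Subgroup.center G := by
    ext g
    rw [MonoidHom.mem_ker, hψ, MonoidHom.comp_apply, QuotientGroup.mk'_apply,
      QuotientGroup.eq_one_iff]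
    constructor
    · exact hc g
    · intro hg
      rw [Subgroup.mem_center_iff] at hg ⊢
      intro y
      obtain ⟨x, rfl⟩ := hs y
      rw [← map_mul, ← map_mul, hg x]
  exact ⟨((QuotientGroup.quotientMulEquivOfEq hker).symm.trans
    (QuotientGroup.quotientKerEquivOfSurjective ψ hψs)).symm⟩

end abstract

section orth
variable {F : Type*} [Field F] [Fintype F] {ι : Type} [Fintype ι] [DecidableEq ι]
  {G : Type*} [Group G] [Finite G]

/-- the recognition principle for `PΩ`: a hom into the isometry group with image in `Ω`, of the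
right order, reflecting centrality -/
theorem nonempty_POmega_equiv (Q : (ι → F) → F) (φ : G →* Cfsg.isometryGroup F Q)
    (hrange : φ.range ≤ Cfsg.Omega F Q)
    (hcard : Nat.card (Cfsg.Omega F Q) * Nat.card φ.ker ≤ Nat.card G)
    (hc : ∀ g, (∀ x : G, φ g * φ x = φ x * φ g) → g ∈ Subgroup.center G) :
    Nonempty (Cfsg.POmega F Q ≃* G ⧸ Subgroup.center G) := by
  have hfin : Finite (Cfsg.isometryGroup F Q) := inferInstance
  have h1 : Nat.card φ.range * Nat.card φ.ker = Nat.card G := by
    rw [Nat.card_congr (QuotientGroup.quotientKerEquivRange φ).symm.toEquiv,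
      ← Subgroup.card_eq_card_quotient_mul_card_subgroup]
  have hkpos : 0 < Nat.card φ.ker := Nat.card_pos
  have h2 : Nat.card (Cfsg.Omega F Q) ≤ Nat.card φ.range := by
    rw [← h1] at hcard
    exact Nat.le_of_mul_le_mul_right hcard hkpos
  have hrange_eq : φ.range = Cfsg.Omega F Q := Subgroup.eq_of_le_of_card_ge hrange h2
  let π : G →* Cfsg.Omega F Q := φ.codRestrict (Cfsg.Omega F Q) (fun g => hrange ⟨g, rfl⟩)
  have hπs : Function.Surjective π := by
    rintro ⟨y, hy⟩
    rw [← hrange_eq] at hy
    obtain ⟨g, rfl⟩ := hy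
    exact ⟨g, rfl⟩
  apply nonempty_quotient_center_equiv π hπs
  intro g hg
  apply hc
  intro x
  rw [Subgroup.mem_center_iff] at hg
  have := hg (π x)
  exact (congrArg Subtype.val this).symm

end orth

end Cfsg.Agent.Helper2.Exc
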