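import Mathlib

set_option autoImplicit false

namespace Cfsg.Agent.Helper2

open Matrix Matrix.SpecialLinearGroup
open scoped commutatorElement

variable {ι F : Type*} [DecidableEq ι] [Fintype ι] [Field F]

/-- The Steinberg commutator relation for elementary matrices. -/
theorem comm_transvection {i j k : ι} (hij : i ≠ j) (hik : i ≠ k) (hkj : k ≠ j) (a : F) :
    ⁅transvection hik a, transvection hkj (1 : F)⁆ = transvection hij a := by
  rw [commutatorElement_def, transvection_inv, transvection_inv]
  apply Subtype.ext
  simp [transvection_coe, mul_add, add_mul, single_mul_single_of_ne, hij.symm, hik.symm, hkj.symm]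
  simp only [← single_neg]
  abel

omit [Fintype ι] in
theorem diag_two_eq {i j : ι} (hij : i ≠ j) (a b : F) :
    (diagonal (fun k ↦ if k = i then a else if k = j then b else 1) : Matrix ι ι F)
      = 1 + single i i (a - 1) + single j j (b - 1) := by
  ext x y
  simp only [diagonal_apply, Matrix.add_apply, Matrix.one_apply, Matrix.single_apply]
  by_cases hxy : x = y
  · subst hxy
    by_cases hxi : x = i
    · subst hxi; simp [hij.symm]
    · by_cases hxj : x = j
      · subst hxj; simp [hij, hxi]
      · simp [hxi, hxj, Ne.symm hxi, Ne.symm hxj]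
  · have h1 : ¬ (i = x ∧ i = y) := by rintro ⟨rfl, rfl⟩; exact hxy rfl
    have h2 : ¬ (j = x ∧ j = y) := by rintro ⟨rfl, rfl⟩; exact hxy rfl
    simp [hxy, h1, h2]

/-- A rank-two diagonal element is a product of six transvections. -/
theorem diag2n_eq_transvections {i j : ι} (hij : i ≠ j) (a : F) (ha : a ≠ 0) :
    diag2n hij a ha = transvection hij a * transvection hij.symm (-a⁻¹) * transvection hij a *
      (transvection hij (-1) * transvection hij.symm 1 * transvection hij (-1)) := by
  apply Subtype.ext
  rw [diag2n_coe, diag_two_eq hij]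
  simp [transvection_coe, mul_add, add_mul, single_mul_single_of_ne, hij.symm, hij, ha]
  simp only [sub_eq_add_neg, single_add, ← single_neg]
  abel

theorem exists_third (h3 : 3 ≤ Fintype.card ι) (i j : ι) : ∃ k : ι, i ≠ k ∧ k ≠ j := by
  classical
  by_contra hcon
  push Not at hcon
  have : (Finset.univ : Finset ι) ⊆ {i, j} := by
    intro k _
    by_cases hik : i = k
    · simp [hik]
    · simp [hcon k hik]
  have h2 := Finset.card_le_card this
  have h3' : ({i, j} : Finset ι).card ≤ 2 := Finset.card_le_two
  rw [Finset.card_univ] at h2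
  omega

theorem transvection_mem_commutator (h3 : 3 ≤ Fintype.card ι) {i j : ι} (hij : i ≠ j) (a : F) :
    transvection hij a ∈ commutator (SpecialLinearGroup ι F) := by
  obtain ⟨k, hik, hkj⟩ := exists_third h3 i j
  rw [← comm_transvection hij hik hkj a]
  exact Subgroup.commutator_mem_commutator (Subgroup.mem_top _) (Subgroup.mem_top _)

/-- `SL_n(F)` is perfect for `n ≥ 3`. -/
theorem commutator_SL_eq_top (h3 : 3 ≤ Fintype.card ι) :
    commutator (SpecialLinearGroup ι F) = ⊤ := by
  have : Nontrivial ι := Fintype.one_lt_card_iff_nontrivial.mp (by omega)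
  rw [eq_top_iff]
  intro M _
  refine diagonal_transvection_induction' (fun M => M ∈ commutator (SpecialLinearGroup ι F)) M
    ?_ ?_ ?_
  · intro i j hij c hc
    rw [diag2n_eq_transvections hij c hc]
    have := fun (x y : ι) (h : x ≠ y) (b : F) => transvection_mem_commutator h3 h b
    exact mul_mem (mul_mem (mul_mem (this _ _ _ _) (this _ _ _ _)) (this _ _ _ _))
      (mul_mem (mul_mem (this _ _ _ _) (this _ _ _ _)) (this _ _ _ _))
  · intro i j hij a
    exact transvection_mem_commutator h3 hij a
  · intro A B hA hB
    exact mul_mem hA hB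

end Cfsg.Agent.Helper2
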