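import Mathlib
import Cfsg.Agent.Lib.Helper2.ExcIso
import Cfsg.Agent.Lib.Helper2.SLPerfect
import Cfsg.Agent.Lib.Helper13.IsomTransfer

set_option autoImplicit false
set_option linter.unusedSectionVars false
set_option linter.unusedSimpArgs false

namespace Cfsg.Agent.Helper2.Exc6

open Matrix

variable {R : Type*} [Field R]

theorem det_fin_four' (g : Matrix (Fin 4) (Fin 4) R) :
    g.det = g 0 0 * (g 1 1 * g 2 2 * g 3 3 - g 1 1 * g 2 3 * g 3 2 - g 1 2 * g 2 1 * g 3 3
        + g 1 2 * g 2 3 * g 3 1 + g 1 3 * g 2 1 * g 3 2 - g 1 3 * g 2 2 * g 3 1)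
      - g 0 1 * (g 1 0 * g 2 2 * g 3 3 - g 1 0 * g 2 3 * g 3 2 - g 1 2 * g 2 0 * g 3 3
        + g 1 2 * g 2 3 * g 3 0 + g 1 3 * g 2 0 * g 3 2 - g 1 3 * g 2 2 * g 3 0)
      + g 0 2 * (g 1 0 * g 2 1 * g 3 3 - g 1 0 * g 2 3 * g 3 1 - g 1 1 * g 2 0 * g 3 3
        + g 1 1 * g 2 3 * g 3 0 + g 1 3 * g 2 0 * g 3 1 - g 1 3 * g 2 1 * g 3 0)
      - g 0 3 * (g 1 0 * g 2 1 * g 3 2 - g 1 0 * g 2 2 * g 3 1 - g 1 1 * g 2 0 * g 3 2
        + g 1 1 * g 2 2 * g 3 0 + g 1 2 * g 2 0 * g 3 1 - g 1 2 * g 2 1 * g 3 0) := by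
  rw [Matrix.det_succ_row_zero]
  simp only [Fin.sum_univ_four, Matrix.det_fin_three, Matrix.submatrix_apply]
  simp [Fin.succAbove]
  ring

/-- the index type of the six-dimensional space -/
abbrev K6 : Type := Fin 3 ⊕ Fin 3

/-- the alternating matrix with Pluecker coordinates `v` -/
def toAlt : (K6 → R) →ₗ[R] Matrix (Fin 4) (Fin 4) R where
  toFun v := !![0, v (.inl 0), v (.inl 1), v (.inl 2);
               -v (.inl 0), 0, v (.inr 2), -v (.inr 1);
               -v (.inl 1), -v (.inr 2), 0, v (.inr 0);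
               -v (.inl 2), v (.inr 1), -v (.inr 0), 0]
  map_add' u v := by
    ext i j
    fin_cases i <;> fin_cases j <;> simp <;> ring
  map_smul' c v := by
    ext i j
    fin_cases i <;> fin_cases j <;> simp

/-- coordinates of a matrix -/
def coords : Matrix (Fin 4) (Fin 4) R →ₗ[R] (K6 → R) where
  toFun A := Sum.elim ![A 0 1, A 0 2, A 0 3] ![A 2 3, -A 1 3, A 1 2]
  map_add' A B := by
    ext k
    rcases k with k | k <;> fin_cases k <;> simp <;> ring
  map_smul' c A := by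
    ext k
    rcases k with k | k <;> fin_cases k <;> simp

/-- alternating matrices -/
def IsAlt (A : Matrix (Fin 4) (Fin 4) R) : Prop := (∀ i, A i i = 0) ∧ ∀ i j, A j i = -A i j

theorem coords_toAlt (v : K6 → R) : coords (toAlt v) = v := by
  ext k
  rcases k with k | k <;> fin_cases k <;> simp [coords, toAlt]

theorem toAlt_coords (A : Matrix (Fin 4) (Fin 4) R) (hA : IsAlt A) :
    toAlt (coords A) = A := by
  obtain ⟨h1, h2⟩ := hA
  ext i j
  fin_cases i <;> fin_cases j <;> simp [coords, toAlt, h1]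
  all_goals exact (h2 _ _).symm

theorem isAlt_toAlt (v : K6 → R) : IsAlt (toAlt v) := by
  constructor
  · intro i; fin_cases i <;> simp [toAlt]
  · intro i j; fin_cases i <;> fin_cases j <;> simp [toAlt]

theorem isAlt_conj (g A : Matrix (Fin 4) (Fin 4) R) (hA : IsAlt A) : IsAlt (g * A * gᵀ) := by
  obtain ⟨h1, h2⟩ := hA
  constructor
  · intro i
    simp only [Matrix.mul_apply, Fin.sum_univ_four, Matrix.transpose_apply, h1]
    rw [h2 0 1, h2 0 2, h2 0 3, h2 1 2, h2 1 3, h2 2 3]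
    ring
  · intro i j
    simp only [Matrix.mul_apply, Fin.sum_univ_four, Matrix.transpose_apply, h1]
    rw [h2 0 1, h2 0 2, h2 0 3, h2 1 2, h2 1 3, h2 2 3]
    ring

theorem plus_coords (A : Matrix (Fin 4) (Fin 4) R) :
    Cfsg.quadFormPlus 3 R (coords A) = A 0 1 * A 2 3 - A 0 2 * A 1 3 + A 0 3 * A 1 2 := by
  simp only [Cfsg.quadFormPlus, coords, LinearMap.coe_mk, AddHom.coe_mk, Sum.elim_inl, Sum.elim_inr,
    Fin.sum_univ_three]
  simp
  ring

theorem pfaffian_conj (g A : Matrix (Fin 4) (Fin 4) R) (hA : IsAlt A) :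
    Cfsg.quadFormPlus 3 R (coords (g * A * gᵀ)) = g.det * Cfsg.quadFormPlus 3 R (coords A) := by
  obtain ⟨h1, h2⟩ := hA
  rw [plus_coords, plus_coords, det_fin_four']
  simp only [Matrix.mul_apply, Fin.sum_univ_four, Matrix.transpose_apply, h1]
  rw [h2 0 1, h2 0 2, h2 0 3, h2 1 2, h2 1 3, h2 2 3]
  ring

open Matrix.SpecialLinearGroup

/-- the action of `SL₄` on alternating matrices in coordinates -/
noncomputable def rho (g : SpecialLinearGroup (Fin 4) R) : (K6 → R) →ₗ[R] (K6 → R) :=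
  coords ∘ₗ (LinearMap.mulRight R g.1ᵀ) ∘ₗ (LinearMap.mulLeft R g.1) ∘ₗ toAlt

theorem rho_apply (g : SpecialLinearGroup (Fin 4) R) (v : K6 → R) :
    rho g v = coords (g.1 * toAlt v * g.1ᵀ) := rfl

theorem rho_one (v : K6 → R) : rho (1 : SpecialLinearGroup (Fin 4) R) v = v := by
  rw [rho_apply, coe_one, Matrix.transpose_one, Matrix.one_mul, Matrix.mul_one, coords_toAlt]

theorem rho_mul (g h : SpecialLinearGroup (Fin 4) R) (v : K6 → R) :
    rho (g * h) v = rho g (rho h v) := by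
  rw [rho_apply, rho_apply, rho_apply, toAlt_coords _ (isAlt_conj _ _ (isAlt_toAlt v)),
    coe_mul, Matrix.transpose_mul]
  simp only [Matrix.mul_assoc]

theorem quadFormPlus_rho (g : SpecialLinearGroup (Fin 4) R) (v : K6 → R) :
    Cfsg.quadFormPlus 3 R (rho g v) = Cfsg.quadFormPlus 3 R v := by
  rw [rho_apply, pfaffian_conj _ _ (isAlt_toAlt v), g.2, one_mul, coords_toAlt]

/-- the homomorphism `SL₄(F) → O⁺₆(F)` -/
theorem exists_hom (q : (K6 → R) → R) (hq : ∀ v, q v = Cfsg.quadFormPlus 3 R v) :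
    ∃ φ : SpecialLinearGroup (Fin 4) R →* Cfsg.isometryGroup R q,
    ∀ g w, ((φ g : GL K6 R) : Matrix K6 K6 R) *ᵥ w = rho g w := by
  obtain ⟨φ, hφ⟩ := Cfsg.Agent.Helper13.exists_hom_isometry
    (fun g : SpecialLinearGroup (Fin 4) R => rho g) rho_one
    rho_mul (LinearEquiv.refl R (K6 → R)) q (fun g v => by
      show q (rho g v) = q v
      rw [hq, hq, quadFormPlus_rho])
  exact ⟨φ, fun g w => hφ g w⟩

theorem isAlt_single_sub {k l : Fin 4} (hkl : k ≠ l) :
    IsAlt (Matrix.single k l (1 : R) - Matrix.single l k 1) := by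
  constructor
  · intro i
    simp [Matrix.single_apply, hkl, hkl.symm]
    by_cases h : k = i
    · subst h; simp [hkl, hkl.symm]
    · simp [h]
  · intro i j
    simp only [Matrix.sub_apply, Matrix.single_apply, neg_sub]
    simp only [and_comm]

theorem exists_third' : ∀ i k : Fin 4, ∃ l : Fin 4, l ≠ i ∧ l ≠ k := by decide

/-- a matrix fixing all alternating matrices under `A ↦ g A gᵀ` is `±1` -/
theorem eq_one_or_neg_one_of_fix (g : SpecialLinearGroup (Fin 4) R)
    (h : ∀ w : K6 → R, g.1 * toAlt w * g.1ᵀ = toAlt w) : g.1 = 1 ∨ g.1 = -1 := by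
  have h1 : ∀ A : Matrix (Fin 4) (Fin 4) R, IsAlt A → g.1 * A * g.1ᵀ = A := by
    intro A hA
    have := h (coords A)
    rwa [toAlt_coords A hA] at this
  have hinv : g.1ᵀ * (g⁻¹ : SpecialLinearGroup (Fin 4) R).1ᵀ = 1 := by
    rw [← Matrix.transpose_mul, ← coe_mul, inv_mul_cancel, coe_one, Matrix.transpose_one]
  have h2 : ∀ A : Matrix (Fin 4) (Fin 4) R, IsAlt A →
      g.1 * A = A * (g⁻¹ : SpecialLinearGroup (Fin 4) R).1ᵀ := by
    intro A hA
    calc g.1 * A = g.1 * A * (g.1ᵀ * (g⁻¹ : SpecialLinearGroup (Fin 4) R).1ᵀ) := by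
          rw [hinv, Matrix.mul_one]
      _ = (g.1 * A * g.1ᵀ) * (g⁻¹ : SpecialLinearGroup (Fin 4) R).1ᵀ := by
          simp only [Matrix.mul_assoc]
      _ = A * (g⁻¹ : SpecialLinearGroup (Fin 4) R).1ᵀ := by rw [h1 A hA]
  have hoff : ∀ i k : Fin 4, i ≠ k → g.1 i k = 0 := by
    intro i k hik
    obtain ⟨l, hli, hlk⟩ := exists_third' i k
    have h3 := congrFun (congrFun (h2 _ (isAlt_single_sub (R := R) hlk.symm)) i) l
    rw [Matrix.mul_sub, Matrix.sub_mul, Matrix.sub_apply, Matrix.sub_apply,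
      Matrix.mul_single_apply_same, Matrix.mul_single_apply_of_ne _ _ _ _ _ hlk,
      Matrix.single_mul_apply_of_ne _ _ _ _ _ hik, Matrix.single_mul_apply_of_ne _ _ _ _ _ hli.symm]
      at h3
    simpa using h3
  have hdiag : g.1 = Matrix.diagonal (fun i => g.1 i i) := by
    ext i k
    by_cases hik : i = k
    · subst hik; simp
    · rw [hoff i k hik, Matrix.diagonal_apply_ne _ hik]
  have hprod : ∀ k l : Fin 4, k ≠ l → g.1 k k * g.1 l l = 1 := by
    intro k l hkl
    have h3 := congrFun (congrFun (h1 _ (isAlt_single_sub (R := R) hkl)) k) l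
    rw [hdiag, Matrix.diagonal_transpose, Matrix.mul_diagonal, Matrix.diagonal_mul] at h3
    simp only [Matrix.sub_apply, Matrix.single_apply_same, Matrix.single_apply, hkl, hkl.symm,
      false_and, if_false, and_false, sub_zero, mul_one] at h3
    exact h3
  have e1 : g.1 1 1 = g.1 0 0 := by
    calc g.1 1 1 = g.1 1 1 * (g.1 0 0 * g.1 2 2) := by rw [hprod 0 2 (by decide), mul_one]
      _ = (g.1 1 1 * g.1 2 2) * g.1 0 0 := by ring
      _ = g.1 0 0 := by rw [hprod 1 2 (by decide), one_mul]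
  have e2 : g.1 2 2 = g.1 0 0 := by
    calc g.1 2 2 = g.1 2 2 * (g.1 0 0 * g.1 1 1) := by rw [hprod 0 1 (by decide), mul_one]
      _ = (g.1 2 2 * g.1 1 1) * g.1 0 0 := by ring
      _ = g.1 0 0 := by rw [hprod 2 1 (by decide), one_mul]
  have e3 : g.1 3 3 = g.1 0 0 := by
    calc g.1 3 3 = g.1 3 3 * (g.1 0 0 * g.1 1 1) := by rw [hprod 0 1 (by decide), mul_one]
      _ = (g.1 3 3 * g.1 1 1) * g.1 0 0 := by ring
      _ = g.1 0 0 := by rw [hprod 3 1 (by decide), one_mul]
  have e0 : (g.1 0 0 - 1) * (g.1 0 0 + 1) = 0 := by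
    have := hprod 0 1 (by decide)
    rw [e1] at this
    linear_combination this
  have hall : ∀ i : Fin 4, g.1 i i = g.1 0 0 := by
    intro i; fin_cases i
    · rfl
    · exact e1
    · exact e2
    · exact e3
  rcases mul_eq_zero.1 e0 with h3 | h3
  · left
    rw [hdiag]
    ext i k
    by_cases hik : i = k
    · subst hik
      rw [Matrix.diagonal_apply_eq, Matrix.one_apply_eq, hall]
      linear_combination h3
    · rw [Matrix.diagonal_apply_ne _ hik, Matrix.one_apply_ne hik]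
  · right
    rw [hdiag]
    ext i k
    by_cases hik : i = k
    · subst hik
      rw [Matrix.diagonal_apply_eq, Matrix.neg_apply, Matrix.one_apply_eq, hall]
      linear_combination h3
    · rw [Matrix.diagonal_apply_ne _ hik, Matrix.neg_apply, Matrix.one_apply_ne hik, neg_zero]

section hom
variable {q : (K6 → R) → R} (φ : SpecialLinearGroup (Fin 4) R →* Cfsg.isometryGroup R q)
  (hφ : ∀ g w, ((φ g : GL K6 R) : Matrix K6 K6 R) *ᵥ w = rho g w)

include hφ

theorem coe_eq_one_or_neg_one_of_mem_ker {g : SpecialLinearGroup (Fin 4) R} (hg : φ g = 1) :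
    g.1 = 1 ∨ g.1 = -1 := by
  apply eq_one_or_neg_one_of_fix
  intro w
  have h1 := hφ g w
  rw [hg] at h1
  simp only [OneMemClass.coe_one, Units.val_one, Matrix.one_mulVec] at h1
  rw [rho_apply] at h1
  rw [← toAlt_coords _ (isAlt_conj g.1 _ (isAlt_toAlt w)), ← h1]

theorem ker_le_center : φ.ker ≤ Subgroup.center (SpecialLinearGroup (Fin 4) R) := by
  intro g hg
  rw [Subgroup.mem_center_iff]
  intro x
  apply Subtype.ext
  rw [coe_mul, coe_mul]
  rcases coe_eq_one_or_neg_one_of_mem_ker φ hφ (MonoidHom.mem_ker.1 hg) with h | h <;> rw [h] <;>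
    simp

theorem card_ker_le [Finite R] : Nat.card φ.ker ≤ 2 := by
  classical
  have hinj : Function.Injective (fun g : φ.ker => (g.1.1 : Matrix (Fin 4) (Fin 4) R)) := by
    intro a b hab
    exact Subtype.ext (Subtype.ext hab)
  have hsub : Set.range (fun g : φ.ker => (g.1.1 : Matrix (Fin 4) (Fin 4) R)) ⊆
      (({1, -1} : Finset (Matrix (Fin 4) (Fin 4) R)) : Set (Matrix (Fin 4) (Fin 4) R)) := by
    rintro _ ⟨g, rfl⟩
    rcases coe_eq_one_or_neg_one_of_mem_ker φ hφ (MonoidHom.mem_ker.1 g.2) with h | h <;>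
      simp [h]
  calc Nat.card φ.ker = Nat.card (Set.range (fun g : φ.ker => (g.1.1 : Matrix (Fin 4) (Fin 4) R))) :=
        (Nat.card_range_of_injective hinj).symm
    _ = (Set.range (fun g : φ.ker => (g.1.1 : Matrix (Fin 4) (Fin 4) R))).ncard :=
        Nat.card_coe_set_eq _
    _ ≤ (({1, -1} : Finset (Matrix (Fin 4) (Fin 4) R)) : Set (Matrix (Fin 4) (Fin 4) R)).ncard :=
        Set.ncard_le_ncard hsub (Finset.finite_toSet _)
    _ = ({1, -1} : Finset (Matrix (Fin 4) (Fin 4) R)).card := Set.ncard_coe_finset _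
    _ ≤ 2 := Finset.card_le_two

theorem card_ker_eq_one (h2 : (2 : R) = 0) : Nat.card φ.ker = 1 := by
  rw [Subgroup.card_eq_one, eq_bot_iff]
  intro g hg
  rw [Subgroup.mem_bot]
  apply Subtype.ext
  have hneg : (-1 : Matrix (Fin 4) (Fin 4) R) = 1 := by
    ext i k
    have : (-1 : R) = 1 := by linear_combination (-1 : R) * h2
    by_cases hik : i = k
    · subst hik; simp [this]
    · simp [hik]
  rcases coe_eq_one_or_neg_one_of_mem_ker φ hφ (MonoidHom.mem_ker.1 hg) with h | h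
  · rw [h, coe_one]
  · rw [h, hneg, coe_one]

theorem mem_center_of_comm {g : SpecialLinearGroup (Fin 4) R}
    (hg : ∀ x : SpecialLinearGroup (Fin 4) R, φ g * φ x = φ x * φ g) :
    g ∈ Subgroup.center (SpecialLinearGroup (Fin 4) R) := by
  have hperf : commutator (SpecialLinearGroup (Fin 4) R) = ⊤ :=
    Cfsg.Agent.Helper2.commutator_SL_eq_top (by simp)
  apply Cfsg.Agent.Helper2.Exc.mem_center_of_perfect hperf φ.rangeRestrict
  · rw [MonoidHom.ker_rangeRestrict]
    exact ker_le_center φ hφ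
  · rw [Subgroup.mem_center_iff]
    rintro ⟨_, x, rfl⟩
    apply Subtype.ext
    exact (hg x).symm

theorem range_le_commutator :
    φ.range ≤ commutator (Cfsg.isometryGroup R q) := by
  have hperf : commutator (SpecialLinearGroup (Fin 4) R) = ⊤ :=
    Cfsg.Agent.Helper2.commutator_SL_eq_top (by simp)
  rw [MonoidHom.range_eq_map, ← hperf, commutator_def, Subgroup.map_commutator]
  exact Subgroup.commutator_mono le_top le_top

end hom

end Cfsg.Agent.Helper2.Exc6
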