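import Mathlib
import Cfsg.Agent.S0335
import Cfsg.Agent.Lib.Helper2.Exc6
import Cfsg.Prelude.Def_LieExceptional

set_option autoImplicit false
set_option linter.unusedSectionVars false
set_option linter.unusedSimpArgs false

namespace Cfsg.Agent.Helper2.Sz

open Matrix Cfsg.Agent.S0335

variable {F : Type*} [Field F] (s : F →+* F)

/-- the translation matrices -/
def Tm (a b : F) : Matrix (Fin 4) (Fin 4) F :=
  !![1, a, a * s a + b, ff s a b; 0, 1, s a, b; 0, 0, 1, a; 0, 0, 0, 1]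

/-- the diagonal matrices -/
def Dm (u : F) : Matrix (Fin 4) (Fin 4) F :=
  !![s u * u, 0, 0, 0; 0, u, 0, 0; 0, 0, u⁻¹, 0; 0, 0, 0, (s u * u)⁻¹]

/-- the inversion matrix -/
def Wm : Matrix (Fin 4) (Fin 4) F :=
  !![0, 0, 0, 1; 0, 0, 1, 0; 0, 1, 0, 0; 1, 0, 0, 0]

theorem det_Tm (a b : F) : (Tm s a b).det = 1 := by
  rw [Cfsg.Agent.Helper2.Exc6.det_fin_four']
  simp [Tm]

theorem det_Dm {u : F} (hu : u ≠ 0) : (Dm s u).det = 1 := by
  have hsu : s u ≠ 0 := (map_ne_zero s).2 hu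
  rw [Cfsg.Agent.Helper2.Exc6.det_fin_four']
  simp [Dm]
  field_simp

theorem det_Wm : (Wm : Matrix (Fin 4) (Fin 4) F).det = 1 := by
  rw [Cfsg.Agent.Helper2.Exc6.det_fin_four']
  simp [Wm]

theorem Tm_mulVec_wv (hs : ∀ t, s (s t) = t ^ 2) (h2 : (2 : F) = 0) (a b x y : F) :
    Tm s a b *ᵥ wv s x y = wv s (a + x) (b + y + s a * x) := by
  have h := transl s hs h2 a b x y
  ext i
  fin_cases i
  · simp [Tm, wv, Matrix.mulVec, dotProduct, Fin.sum_univ_four]
    rw [h]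
  · simp [Tm, wv, Matrix.mulVec, dotProduct, Fin.sum_univ_four]
    ring
  · simp [Tm, wv, Matrix.mulVec, dotProduct, Fin.sum_univ_four]
    ring
  · simp [Tm, wv, Matrix.mulVec, dotProduct, Fin.sum_univ_four]

theorem Tm_mulVec_ev (a b : F) : Tm s a b *ᵥ ev = ev := by
  ext i
  fin_cases i <;> simp [Tm, ev, Matrix.mulVec, dotProduct, Fin.sum_univ_four]

theorem Dm_mulVec_wv (hs : ∀ t, s (s t) = t ^ 2) {u : F} (hu : u ≠ 0) (x y : F) :
    Dm s u *ᵥ wv s x y = (s u * u)⁻¹ • wv s (s u * x) (s u * u ^ 2 * y) := by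
  have hsu : s u ≠ 0 := (map_ne_zero s).2 hu
  ext i
  fin_cases i
  · simp [Dm, wv, Matrix.mulVec, dotProduct, Fin.sum_univ_four, ff, hs]
    field_simp
  · simp [Dm, wv, Matrix.mulVec, dotProduct, Fin.sum_univ_four]
    field_simp
  · simp [Dm, wv, Matrix.mulVec, dotProduct, Fin.sum_univ_four]
    field_simp
  · simp [Dm, wv, Matrix.mulVec, dotProduct, Fin.sum_univ_four]

theorem Dm_mulVec_ev (u : F) : Dm s u *ᵥ ev = (s u * u) • ev := by
  ext i
  fin_cases i <;> simp [Dm, ev, Matrix.mulVec, dotProduct, Fin.sum_univ_four]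

theorem Wm_mulVec_ev : (Wm : Matrix (Fin 4) (Fin 4) F) *ᵥ ev = wv s 0 0 := by
  ext i
  fin_cases i <;> simp [Wm, ev, wv, ff, Matrix.mulVec, dotProduct, Fin.sum_univ_four]

theorem Wm_mulVec_wv_zero : (Wm : Matrix (Fin 4) (Fin 4) F) *ᵥ wv s 0 0 = ev := by
  ext i
  fin_cases i <;> simp [Wm, ev, wv, ff, Matrix.mulVec, dotProduct, Fin.sum_univ_four]

theorem Wm_mulVec_wv (hs : ∀ t, s (s t) = t ^ 2) (h2 : (2 : F) = 0) (x y : F)
    (hxy : ff s x y ≠ 0) :
    (Wm : Matrix (Fin 4) (Fin 4) F) *ᵥ wv s x y =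
      ff s x y • wv s (y / ff s x y) (x / ff s x y) := by
  have hid := inv_identity s hs h2 x y
  have hz : s (ff s x y) ≠ 0 := (map_ne_zero s).2 hxy
  ext i
  fin_cases i
  · simp [Wm, wv, Matrix.mulVec, dotProduct, Fin.sum_univ_four]
    set z := ff s x y with hzdef
    have h1 : ff s (y / z) (x / z) = 1 / z := by
      unfold ff
      rw [map_div₀, map_div₀]
      field_simp
      linear_combination hid
    rw [h1]
    field_simp
  · simp [Wm, wv, Matrix.mulVec, dotProduct, Fin.sum_univ_four]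
    field_simp
  · simp [Wm, wv, Matrix.mulVec, dotProduct, Fin.sum_univ_four]
    field_simp
  · simp [Wm, wv, Matrix.mulVec, dotProduct, Fin.sum_univ_four]

theorem Tm_mul (hs : ∀ t, s (s t) = t ^ 2) (h2 : (2 : F) = 0) (a b c d : F) :
    Tm s a b * Tm s c d = Tm s (a + c) (b + d + s a * c) := by
  have h := transl s hs h2 a b c d
  ext i j
  fin_cases i <;> fin_cases j <;>
    simp [Tm, Matrix.mul_apply, Fin.sum_univ_four]
  all_goals first
    | ring1
    | (linear_combination (c * s a) * h2)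
    | (linear_combination (-(c * s a)) * h2)
    | (rw [h])

theorem Tm_zero : Tm s 0 0 = 1 := by
  ext i j
  fin_cases i <;> fin_cases j <;> simp [Tm, ff]

theorem Dm_mul (u v : F) : Dm s u * Dm s v = Dm s (u * v) := by
  ext i j
  fin_cases i <;> fin_cases j <;> simp [Dm, Matrix.mul_apply, Fin.sum_univ_four] <;> ring

theorem Dm_one : Dm s 1 = 1 := by
  ext i j
  fin_cases i <;> fin_cases j <;> simp [Dm]

theorem Wm_mul_Wm : (Wm : Matrix (Fin 4) (Fin 4) F) * Wm = 1 := by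
  ext i j
  fin_cases i <;> fin_cases j <;> simp [Wm, Matrix.mul_apply, Fin.sum_univ_four]

theorem Wm_Dm_Wm (u : F) : Wm * Dm s u * Wm = Dm s u⁻¹ := by
  ext i j
  fin_cases i <;> fin_cases j <;> simp [Wm, Dm, Matrix.mul_apply, Fin.sum_univ_four] <;> ring

theorem Dm_Tm (hs : ∀ t, s (s t) = t ^ 2) {u : F} (hu : u ≠ 0) (a b : F) :
    Dm s u * Tm s a b = Tm s (s u * a) (s u * u ^ 2 * b) * Dm s u := by
  have hsu : s u ≠ 0 := (map_ne_zero s).2 hu
  ext i j
  fin_cases i <;> fin_cases j <;>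
    simp [Dm, Tm, Matrix.mul_apply, Fin.sum_univ_four, ff, hs]
  all_goals (field_simp)

theorem suzukiForm_eq : Cfsg.suzukiForm F = Wm := rfl

theorem Tm_form (h2 : (2 : F) = 0) (a b : F) : (Tm s a b)ᵀ * Wm * Tm s a b = Wm := by
  ext i j
  fin_cases i <;> fin_cases j <;>
    simp [Tm, Wm, Matrix.mul_apply, Fin.sum_univ_four, ff]
  all_goals first
    | (linear_combination a * h2)
    | (linear_combination (a * b + a ^ 2 * s a + s b + a * b) * h2)
    | (linear_combination (a * s a + b) * h2)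
    | (linear_combination (s a) * h2)

theorem Dm_form {u : F} (hu : u ≠ 0) : (Dm s u)ᵀ * Wm * Dm s u = Wm := by
  have hsu : s u ≠ 0 := (map_ne_zero s).2 hu
  ext i j
  fin_cases i <;> fin_cases j <;>
    simp [Dm, Wm, Matrix.mul_apply, Fin.sum_univ_four]
  all_goals (field_simp)

theorem Wm_form : (Wm : Matrix (Fin 4) (Fin 4) F)ᵀ * Wm * Wm = Wm := by
  ext i j
  fin_cases i <;> fin_cases j <;> simp [Wm, Matrix.mul_apply, Fin.sum_univ_four]

end Cfsg.Agent.Helper2.Sz
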