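import Mathlib
import Cfsg.Agent.Lib.Helper2.SzMat

set_option autoImplicit false
set_option linter.unusedSectionVars false
set_option linter.unusedSimpArgs false

namespace Cfsg.Agent.Helper2.Sz

open Matrix Cfsg.Agent.S0335
open scoped Pointwise

/-- the data defining the Suzuki group: the Tits endomorphism -/
structure SzData (F : Type*) [Field F] (m : ℕ) where
  /-- the Tits endomorphism -/
  s : F →+* F
  hs : ∀ t, s (s t) = t ^ 2
  h2 : (2 : F) = 0
  hpow : ∀ t, s t = t ^ (2 ^ (m + 1))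

theorem nonempty_szData {F : Type*} [Field F] [Fintype F] {m : ℕ}
    (hF : Fintype.card F = 2 ^ (2 * m + 1)) : Nonempty (SzData F m) := by
  have hp2 : Fact (Nat.Prime 2) := ⟨Nat.prime_two⟩
  have hchar : CharP F 2 := charP_of_card_eq_prime_pow hF
  have h2 : (2 : F) = 0 := by
    have := CharP.cast_eq_zero F 2
    exact_mod_cast this
  refine ⟨⟨iterateFrobenius F 2 (m + 1), ?_, h2, ?_⟩⟩
  · intro t
    rw [iterateFrobenius_def, iterateFrobenius_def, ← pow_mul]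
    have : 2 ^ (m + 1) * 2 ^ (m + 1) = 2 ^ (2 * m + 1) * 2 := by ring
    rw [this, pow_mul, ← hF, FiniteField.pow_card]
  · intro t
    rw [iterateFrobenius_def]

variable {F : Type*} [Field F] {m : ℕ} (S : SzData F m)

namespace SzData

theorem s_injective : Function.Injective S.s := S.s.injective

include S in
theorem add_self (x : F) : x + x = 0 := by linear_combination x * S.h2

include S in
theorem neg_eq (x : F) : -x = x := by linear_combination (-x) * S.h2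

include S in
theorem sq_injective {x y : F} (h : x ^ 2 = y ^ 2) : x = y := by
  have : (x - y) ^ 2 = 0 := by linear_combination h - (x * y - y ^ 2) * S.h2
  exact sub_eq_zero.1 (pow_eq_zero_iff (two_ne_zero) |>.1 this)

/-- the vector of an affine point -/
def vec (x y : F) : Fin 4 → F := wv S.s x y

theorem vec_ne (x y : F) : S.vec x y ≠ 0 := by
  intro h
  have := congrFun h 3
  simp [vec, wv] at this

theorem ev_ne : (ev : Fin 4 → F) ≠ 0 := by
  intro h
  have := congrFun h 0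
  simp [ev] at this

/-- the point at infinity -/
def pInf (F : Type*) [Field F] : Projectivization F (Fin 4 → F) :=
  Projectivization.mk F ev ev_ne

/-- the affine points -/
def pt (x y : F) : Projectivization F (Fin 4 → F) :=
  Projectivization.mk F (S.vec x y) (S.vec_ne x y)

theorem pInf_eq : pInf F = Cfsg.suzukiPointInfinity F := rfl

theorem pt_zero_eq : S.pt 0 0 = Cfsg.suzukiPointZero F := by
  unfold pt Cfsg.suzukiPointZero
  congr 1
  ext i
  fin_cases i <;> simp [vec, wv, ff]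

theorem vec_eq (x y : F) :
    S.vec x y = ![x * y + x ^ (2 ^ (m + 1) + 2) + y ^ (2 ^ (m + 1)), y, x, 1] := by
  unfold vec wv ff
  rw [S.hpow, S.hpow, pow_add]
  congr 1
  ring

theorem mem_ovoid_iff (p : Projectivization F (Fin 4 → F)) :
    p ∈ Cfsg.suzukiOvoid F m ↔ p = pInf F ∨ ∃ x y, p = S.pt x y := by
  constructor
  · rintro ⟨v, hv, rfl, h | ⟨x, y, h⟩⟩
    · left
      subst h
      rfl
    · right
      refine ⟨x, y, ?_⟩
      unfold pt
      congr 1
      rw [h, vec_eq]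
  · rintro (rfl | ⟨x, y, rfl⟩)
    · exact ⟨ev, ev_ne, rfl, Or.inl rfl⟩
    · exact ⟨S.vec x y, S.vec_ne x y, rfl, Or.inr ⟨x, y, S.vec_eq x y⟩⟩

include S in
theorem pInf_mem : pInf F ∈ Cfsg.suzukiOvoid F m := (S.mem_ovoid_iff _).2 (Or.inl rfl)

theorem pt_mem (x y : F) : S.pt x y ∈ Cfsg.suzukiOvoid F m :=
  (S.mem_ovoid_iff _).2 (Or.inr ⟨x, y, rfl⟩)

theorem pt_ne_pInf (x y : F) : S.pt x y ≠ pInf F := by
  intro h
  unfold pt pInf at h
  rw [Projectivization.mk_eq_mk_iff] at h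
  obtain ⟨a, ha⟩ := h
  have := congrFun ha 3
  simp [vec, wv, ev, Units.smul_def] at this

theorem pt_injective {x y x' y' : F} (h : S.pt x y = S.pt x' y') : x = x' ∧ y = y' := by
  unfold pt at h
  rw [Projectivization.mk_eq_mk_iff] at h
  obtain ⟨a, ha⟩ := h
  have h3 := congrFun ha 3
  have h2 := congrFun ha 2
  have h1 := congrFun ha 1
  simp [vec, wv, Units.smul_def] at h3 h2 h1
  rw [h3] at h2 h1
  simp only [Units.val_one, one_mul] at h2 h1
  exact ⟨h2.symm, h1.symm⟩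

/-- the action of a matrix on a point -/
theorem smul_mk (g : SpecialLinearGroup (Fin 4) F) (v : Fin 4 → F) (hv : v ≠ 0)
    (hgv : g.1 *ᵥ v ≠ 0) :
    g • Projectivization.mk F v hv = Projectivization.mk F (g.1 *ᵥ v) hgv := by
  rw [Projectivization.smul_mk]
  rfl

theorem mulVec_ne (g : SpecialLinearGroup (Fin 4) F) {v : Fin 4 → F} (hv : v ≠ 0) :
    g.1 *ᵥ v ≠ 0 := by
  intro h
  apply hv
  have h0 : (g⁻¹ : SpecialLinearGroup (Fin 4) F).1 * g.1 = 1 := by
    rw [← Matrix.SpecialLinearGroup.coe_mul, inv_mul_cancel, Matrix.SpecialLinearGroup.coe_one]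
  have h1 : (g⁻¹ : SpecialLinearGroup (Fin 4) F).1 *ᵥ (g.1 *ᵥ v) = v := by
    rw [Matrix.mulVec_mulVec, h0, Matrix.one_mulVec]
  rw [← h1, h, Matrix.mulVec_zero]

theorem smul_eq_of_mulVec (g : SpecialLinearGroup (Fin 4) F) {v w : Fin 4 → F} (hv : v ≠ 0)
    (hw : w ≠ 0) {c : F} (hc : c ≠ 0) (h : g.1 *ᵥ v = c • w) :
    g • Projectivization.mk F v hv = Projectivization.mk F w hw := by
  rw [smul_mk g v hv (mulVec_ne g hv), Projectivization.mk_eq_mk_iff]
  exact ⟨Units.mk0 c hc, by rw [h, Units.smul_def, Units.val_mk0]⟩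

/-- the translations -/
def Tg (a b : F) : SpecialLinearGroup (Fin 4) F := ⟨Tm S.s a b, det_Tm S.s a b⟩

/-- the torus -/
def Dg (u : Fˣ) : SpecialLinearGroup (Fin 4) F := ⟨Dm S.s u, det_Dm S.s u.ne_zero⟩

/-- the inversion -/
def Wg (F : Type*) [Field F] : SpecialLinearGroup (Fin 4) F := ⟨Wm, det_Wm⟩

theorem Tg_smul_pt (a b x y : F) : S.Tg a b • S.pt x y = S.pt (a + x) (b + y + S.s a * x) := by
  apply smul_eq_of_mulVec _ _ _ one_ne_zero
  rw [one_smul]
  exact Tm_mulVec_wv S.s S.hs S.h2 a b x y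

theorem Tg_smul_pInf (a b : F) : S.Tg a b • pInf F = pInf F := by
  apply smul_eq_of_mulVec _ _ _ one_ne_zero
  rw [one_smul]
  exact Tm_mulVec_ev S.s a b

theorem Dg_smul_pt (u : Fˣ) (x y : F) :
    S.Dg u • S.pt x y = S.pt (S.s u * x) (S.s u * (u : F) ^ 2 * y) := by
  have hu := u.ne_zero
  have hsu : S.s u ≠ 0 := (map_ne_zero S.s).2 hu
  apply smul_eq_of_mulVec _ _ _ (inv_ne_zero (mul_ne_zero hsu hu))
  exact Dm_mulVec_wv S.s S.hs hu x y

theorem Dg_smul_pInf (u : Fˣ) : S.Dg u • pInf F = pInf F := by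
  have hu := u.ne_zero
  have hsu : S.s u ≠ 0 := (map_ne_zero S.s).2 hu
  apply smul_eq_of_mulVec _ _ _ (mul_ne_zero hsu hu)
  exact Dm_mulVec_ev S.s u

theorem Wg_smul_pInf : Wg F • pInf F = S.pt 0 0 := by
  apply smul_eq_of_mulVec _ _ _ one_ne_zero
  rw [one_smul]
  exact Wm_mulVec_ev S.s

theorem Wg_smul_pt_zero : Wg F • S.pt 0 0 = pInf F := by
  apply smul_eq_of_mulVec _ _ _ one_ne_zero
  rw [one_smul]
  exact Wm_mulVec_wv_zero S.s

theorem ff_ne_zero {x y : F} (h : ¬ (x = 0 ∧ y = 0)) : ff S.s x y ≠ 0 :=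
  fun h0 => h (aniso S.s S.hs S.h2 x y h0)

theorem Wg_smul_pt {x y : F} (h : ¬ (x = 0 ∧ y = 0)) :
    Wg F • S.pt x y = S.pt (y / ff S.s x y) (x / ff S.s x y) := by
  apply smul_eq_of_mulVec _ _ _ (S.ff_ne_zero h)
  exact Wm_mulVec_wv S.s S.hs S.h2 x y (S.ff_ne_zero h)

section finite
variable [Fintype F]

include S in
theorem ovoid_finite : (Cfsg.suzukiOvoid F m).Finite := Set.toFinite _

include S in
/-- a matrix mapping the ovoid into itself is in the Suzuki group -/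
theorem mem_Sz_of_forall {g : SpecialLinearGroup (Fin 4) F}
    (h : ∀ p ∈ Cfsg.suzukiOvoid F m, g • p ∈ Cfsg.suzukiOvoid F m) : g ∈ Cfsg.Sz F m := by
  rw [MulAction.mem_stabilizer_iff]
  have hsub : g • Cfsg.suzukiOvoid F m ⊆ Cfsg.suzukiOvoid F m := by
    rintro _ ⟨p, hp, rfl⟩
    exact h p hp
  apply Set.eq_of_subset_of_ncard_le hsub _ (S.ovoid_finite)
  rw [← Set.image_smul, Set.ncard_image_of_injective _ (MulAction.injective g)]

end finite

theorem mem_Sz_iff {g : SpecialLinearGroup (Fin 4) F} :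
    g ∈ Cfsg.Sz F m ↔ g • Cfsg.suzukiOvoid F m = Cfsg.suzukiOvoid F m :=
  MulAction.mem_stabilizer_iff

theorem smul_mem_of_mem_Sz {g : SpecialLinearGroup (Fin 4) F} (hg : g ∈ Cfsg.Sz F m)
    {p : Projectivization F (Fin 4 → F)} (hp : p ∈ Cfsg.suzukiOvoid F m) :
    g • p ∈ Cfsg.suzukiOvoid F m := by
  rw [mem_Sz_iff] at hg
  rw [← hg]
  exact Set.smul_mem_smul_set hp

section finite
variable [Fintype F]

theorem Tg_mem (a b : F) : S.Tg a b ∈ Cfsg.Sz F m := by
  apply S.mem_Sz_of_forall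
  intro p hp
  rcases (S.mem_ovoid_iff p).1 hp with rfl | ⟨x, y, rfl⟩
  · rw [Tg_smul_pInf]; exact S.pInf_mem
  · rw [Tg_smul_pt]; exact S.pt_mem _ _

theorem Dg_mem (u : Fˣ) : S.Dg u ∈ Cfsg.Sz F m := by
  apply S.mem_Sz_of_forall
  intro p hp
  rcases (S.mem_ovoid_iff p).1 hp with rfl | ⟨x, y, rfl⟩
  · rw [Dg_smul_pInf]; exact S.pInf_mem
  · rw [Dg_smul_pt]; exact S.pt_mem _ _

include S in
theorem Wg_mem : Wg F ∈ Cfsg.Sz F m := by
  apply S.mem_Sz_of_forall
  intro p hp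
  rcases (S.mem_ovoid_iff p).1 hp with rfl | ⟨x, y, rfl⟩
  · rw [S.Wg_smul_pInf]; exact S.pt_mem _ _
  · by_cases h : x = 0 ∧ y = 0
    · obtain ⟨rfl, rfl⟩ := h
      rw [S.Wg_smul_pt_zero]; exact S.pInf_mem
    · rw [S.Wg_smul_pt h]; exact S.pt_mem _ _

end finite

theorem Tg_mul (a b c d : F) : S.Tg a b * S.Tg c d = S.Tg (a + c) (b + d + S.s a * c) := by
  apply Subtype.ext
  exact Tm_mul S.s S.hs S.h2 a b c d

theorem Tg_zero : S.Tg 0 0 = 1 := by
  apply Subtype.ext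
  exact Tm_zero S.s

theorem Tg_inv (a b : F) : (S.Tg a b)⁻¹ = S.Tg a (b + S.s a * a) := by
  rw [inv_eq_iff_mul_eq_one, Tg_mul]
  have h1 : a + a = 0 := S.add_self a
  have h2 : b + (b + S.s a * a) + S.s a * a = 0 := by
    linear_combination (b + S.s a * a) * S.h2
  rw [h1, h2, Tg_zero]

theorem Tg_injective {a b c d : F} (h : S.Tg a b = S.Tg c d) : a = c ∧ b = d := by
  have h1 := congrArg (fun g : SpecialLinearGroup (Fin 4) F => g.1 2 3) h
  have h2 := congrArg (fun g : SpecialLinearGroup (Fin 4) F => g.1 1 3) h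
  simp [Tg, Tm] at h1 h2
  exact ⟨h1, h2⟩

theorem Dg_mul (u v : Fˣ) : S.Dg u * S.Dg v = S.Dg (u * v) := by
  apply Subtype.ext
  show Dm S.s u * Dm S.s v = Dm S.s ((u * v : Fˣ) : F)
  rw [Dm_mul, Units.val_mul]

theorem Dg_one : S.Dg 1 = 1 := by
  apply Subtype.ext
  show Dm S.s ((1 : Fˣ) : F) = 1
  rw [Units.val_one, Dm_one]

/-- the torus as a homomorphism -/
def DgHom : Fˣ →* SpecialLinearGroup (Fin 4) F where
  toFun := S.Dg
  map_one' := S.Dg_one
  map_mul' u v := (S.Dg_mul u v).symm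

theorem Dg_injective : Function.Injective S.Dg := by
  intro u v h
  have h1 := congrArg (fun g : SpecialLinearGroup (Fin 4) F => g.1 1 1) h
  simp [Dg, Dm] at h1
  exact Units.ext h1

theorem Dg_inv (u : Fˣ) : (S.Dg u)⁻¹ = S.Dg u⁻¹ := by
  rw [inv_eq_iff_mul_eq_one, Dg_mul, mul_inv_cancel, Dg_one]

theorem Wg_mul_Wg : Wg F * Wg F = 1 := by
  apply Subtype.ext
  exact Wm_mul_Wm

theorem Wg_inv : (Wg F)⁻¹ = Wg F := by
  rw [inv_eq_iff_mul_eq_one, Wg_mul_Wg]

theorem Wg_Dg_Wg (u : Fˣ) : Wg F * S.Dg u * Wg F = S.Dg u⁻¹ := by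
  apply Subtype.ext
  show Wm * Dm S.s u * Wm = Dm S.s ((u⁻¹ : Fˣ) : F)
  rw [Wm_Dm_Wm, Units.val_inv_eq_inv_val]

theorem Dg_Tg (u : Fˣ) (a b : F) :
    S.Dg u * S.Tg a b = S.Tg (S.s u * a) (S.s u * (u : F) ^ 2 * b) * S.Dg u := by
  apply Subtype.ext
  exact Dm_Tm S.s S.hs u.ne_zero a b

end SzData

end Cfsg.Agent.Helper2.Sz
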