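import Mathlib
import Cfsg.Agent.Lib.Helper2.SzOvoid

set_option autoImplicit false
set_option linter.unusedSectionVars false
set_option linter.unusedSimpArgs false

namespace Cfsg.Agent.Helper2.Sz

open Matrix Cfsg.Agent.S0335 Polynomial
open scoped Pointwise

/-- a polynomial with exponents `n + 2, n, 2, 1` vanishing on a field with more than `n + 2`
elements has zero coefficients -/
theorem coeff_zero_of_vanish {F : Type*} [Field F] [Fintype F] (n : ℕ) (hn : 3 ≤ n)
    (hcard : n + 2 < Fintype.card F) (c₁ c₂ c₃ c₄ : F)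
    (h : ∀ x : F, c₁ * x ^ (n + 2) + c₂ * x ^ n + c₃ * x ^ 2 + c₄ * x = 0) :
    c₁ = 0 ∧ c₂ = 0 ∧ c₃ = 0 ∧ c₄ = 0 := by
  set p : F[X] := C c₁ * X ^ (n + 2) + C c₂ * X ^ n + C c₃ * X ^ 2 + C c₄ * X with hp
  have hdeg : p.natDegree ≤ n + 2 := by
    rw [hp]
    compute_degree
  have hzero : p = 0 := by
    apply Polynomial.eq_zero_of_natDegree_lt_card_of_eval_eq_zero p (f := id)
      Function.injective_id
    · intro x
      rw [hp]
      simp only [eval_add, eval_mul, eval_C, eval_pow, eval_X, id]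
      exact h x
    · omega
  have hc : ∀ k, p.coeff k = 0 := by intro k; rw [hzero, coeff_zero]
  have h1 := hc (n + 2)
  have h2 := hc n
  have h3 := hc 2
  have h4 := hc 1
  simp only [hp, coeff_add, coeff_C_mul, coeff_X_pow, coeff_X] at h1 h2 h3 h4
  have e1 : n + 2 ≠ n := by omega
  have e2 : n + 2 ≠ 2 := by omega
  have e3 : (1 : ℕ) ≠ n + 2 := by omega
  have e4 : n ≠ n + 2 := by omega
  have e5 : n ≠ 2 := by omega
  have e6 : (1 : ℕ) ≠ n := by omega
  have e7 : (2 : ℕ) ≠ n + 2 := by omega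
  have e8 : (2 : ℕ) ≠ n := by omega
  simp only [e1, e2, e3, e4, e5, e6, e7, e8, if_true, if_false, mul_one, mul_zero, add_zero,
    zero_add] at h1 h2 h3 h4
  simp at h1 h2 h3 h4
  exact ⟨h1, h2, h3, h4⟩

variable {F : Type*} [Field F] {m : ℕ} (S : SzData F m)

namespace SzData

theorem mulVec_vec (M : Matrix (Fin 4) (Fin 4) F) (x y : F) (i : Fin 4) :
    (M *ᵥ S.vec x y) i = M i 0 * ff S.s x y + M i 1 * y + M i 2 * x + M i 3 := by
  simp [Matrix.mulVec, dotProduct, Fin.sum_univ_four, vec, wv]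

theorem smul_vec (c x y : F) (i : Fin 4) :
    (c • S.vec x y) i = c * (![ff S.s x y, y, x, 1] : Fin 4 → F) i := by
  simp [vec, wv]

theorem s_pow (x : F) : x ^ (2 ^ (m + 1) + 2) = x ^ 2 * S.s x := by
  rw [S.hpow, pow_add]; ring

/-- the algebraic core: a matrix fixing the two base points and preserving the affine part of
the ovoid is in the torus -/
theorem diag_of_fix [Fintype F] (hm : 1 ≤ m) (hF : Fintype.card F = 2 ^ (2 * m + 1))
    (M : Matrix (Fin 4) (Fin 4) F) (hdet : M.det = 1)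
    (h10 : M 1 0 = 0) (h20 : M 2 0 = 0) (h30 : M 3 0 = 0)
    (h03 : M 0 3 = 0) (h13 : M 1 3 = 0) (h23 : M 2 3 = 0)
    (hpts : ∀ x y : F, ∃ x' y' c : F, c ≠ 0 ∧ M *ᵥ S.vec x y = c • S.vec x' y') :
    ∃ u : Fˣ, M = Dm S.s u := by
  have hs := S.hs
  have h2 := S.h2
  set n := 2 ^ (m + 1) with hn
  have hn3 : 3 ≤ n := by
    have : 2 ^ 2 ≤ 2 ^ (m + 1) := Nat.pow_le_pow_right (by norm_num) (by omega)
    omega
  have hcard : n + 2 < Fintype.card F := by
    rw [hF, hn]
    have h1 : 2 ^ (2 * m + 1) = 2 ^ (m + 1) * 2 ^ m := by rw [← pow_add]; congr 1; omega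
    have h3 : 2 ≤ 2 ^ m := by
      calc 2 = 2 ^ 1 := by norm_num
        _ ≤ 2 ^ m := Nat.pow_le_pow_right (by norm_num) hm
    have h4 : 4 ≤ 2 ^ (m + 1) := by
      calc 4 = 2 ^ 2 := by norm_num
        _ ≤ 2 ^ (m + 1) := Nat.pow_le_pow_right (by norm_num) (by omega)
    rw [h1]
    nlinarith
  -- the last row
  have key : ∀ x y : F, ∃ x' y' c : F, c ≠ 0 ∧
      c = M 3 1 * y + M 3 2 * x + M 3 3 ∧
      c * x' = M 2 1 * y + M 2 2 * x ∧
      c * y' = M 1 1 * y + M 1 2 * x ∧
      c * ff S.s x' y' = M 0 0 * ff S.s x y + M 0 1 * y + M 0 2 * x := by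
    intro x y
    obtain ⟨x', y', c, hc, h⟩ := hpts x y
    refine ⟨x', y', c, hc, ?_, ?_, ?_, ?_⟩
    · have := congrFun h 3
      rw [mulVec_vec, smul_vec, h30] at this
      simp at this
      rw [← this]
    · have := congrFun h 2
      rw [mulVec_vec, smul_vec, h20, h23] at this
      simp at this
      rw [← this]
    · have := congrFun h 1
      rw [mulVec_vec, smul_vec, h10, h13] at this
      simp at this
      rw [← this]
    · have := congrFun h 0
      rw [mulVec_vec, smul_vec, h03] at this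
      simp at this
      rw [← this]
  have hmu : M 3 3 ≠ 0 := by
    obtain ⟨x', y', c, hc, h3, -⟩ := key 0 0
    rw [h3] at hc
    simpa using hc
  have h31 : M 3 1 = 0 := by
    by_contra hne
    obtain ⟨x', y', c, hc, h3, -⟩ := key 0 (-(M 3 3) / M 3 1)
    apply hc
    rw [h3]
    field_simp
    ring
  have h32 : M 3 2 = 0 := by
    by_contra hne
    obtain ⟨x', y', c, hc, h3, -⟩ := key (-(M 3 3) / M 3 2) 0
    apply hc
    rw [h3]
    field_simp
    ring
  set mu := M 3 3 with hmudef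
  set lam := M 0 0 with hlamdef
  have key' : ∀ x y, mu * ff S.s ((M 2 1 * y + M 2 2 * x) / mu) ((M 1 1 * y + M 1 2 * x) / mu) =
      lam * ff S.s x y + M 0 1 * y + M 0 2 * x := by
    intro x y
    obtain ⟨x', y', c, hc, h3, h2', h1', h0'⟩ := key x y
    rw [h31, h32, zero_mul, zero_mul, zero_add, zero_add] at h3
    rw [h3] at h2' h1' h0'
    have ex : x' = (M 2 1 * y + M 2 2 * x) / mu := by rw [← h2']; field_simp
    have ey : y' = (M 1 1 * y + M 1 2 * x) / mu := by rw [← h1']; field_simp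
    rw [← ex, ← ey, h0']
  obtain ⟨E, hE⟩ : ∃ E, E = M 2 2 / mu := ⟨_, rfl⟩
  obtain ⟨B, hB⟩ : ∃ B, B = M 1 2 / mu := ⟨_, rfl⟩
  obtain ⟨C, hC⟩ : ∃ C, C = M 2 1 / mu := ⟨_, rfl⟩
  obtain ⟨A, hA⟩ : ∃ A, A = M 1 1 / mu := ⟨_, rfl⟩
  -- y = 0
  have hy0 := coeff_zero_of_vanish n hn3 hcard (lam - mu * (E ^ 2 * S.s E)) (-(mu * S.s B))
    (-(mu * (E * B))) (M 0 2) (by
      intro x
      have := key' x 0
      simp only [mul_zero, zero_add, add_zero] at this
      have e1 : M 2 2 * x / mu = E * x := by rw [hE]; ring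
      have e2 : M 1 2 * x / mu = B * x := by rw [hB]; ring
      rw [e1, e2] at this
      unfold ff at this
      simp only [map_mul, map_zero, mul_zero, zero_add, add_zero] at this
      rw [hn, S.s_pow, ← S.hpow]
      linear_combination -this)
  -- x = 0
  have hx0 := coeff_zero_of_vanish n hn3 hcard (-(mu * (C ^ 2 * S.s C))) (lam - mu * S.s A)
    (-(mu * (C * A))) (M 0 1) (by
      intro y
      have := key' 0 y
      simp only [mul_zero, zero_add, add_zero] at this
      have e1 : M 2 1 * y / mu = C * y := by rw [hC]; ring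
      have e2 : M 1 1 * y / mu = A * y := by rw [hA]; ring
      rw [e1, e2] at this
      unfold ff at this
      simp only [map_mul, map_zero, mul_zero, zero_add, add_zero, zero_mul, ne_eq,
        OfNat.ofNat_ne_zero, not_false_eq_true, zero_pow] at this
      rw [hn, S.s_pow, ← S.hpow]
      linear_combination -this)
  obtain ⟨hlamE, hsB, -, h02⟩ := hy0
  obtain ⟨hCC, hlamA, -, h01⟩ := hx0
  have hB0 : B = 0 := by
    have : S.s B = 0 := by
      rcases mul_eq_zero.1 (neg_eq_zero.1 hsB) with h | h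
      · exact absurd h hmu
      · exact h
    exact (map_eq_zero S.s).1 this
  have hC0 : C = 0 := by
    have h1 : C ^ 2 * S.s C = 0 := by
      rcases mul_eq_zero.1 (neg_eq_zero.1 hCC) with h | h
      · exact absurd h hmu
      · exact h
    rcases mul_eq_zero.1 h1 with h | h
    · exact pow_eq_zero_iff (two_ne_zero) |>.1 h
    · exact (map_eq_zero S.s).1 h
  have h12 : M 1 2 = 0 := by
    rw [hB, div_eq_zero_iff] at hB0
    rcases hB0 with h | h
    · exact h
    · exact absurd h hmu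
  have h21 : M 2 1 = 0 := by
    rw [hC, div_eq_zero_iff] at hC0
    rcases hC0 with h | h
    · exact h
    · exact absurd h hmu
  have hlamE' : lam = mu * (E ^ 2 * S.s E) := sub_eq_zero.1 hlamE
  have hlamA' : lam = mu * S.s A := sub_eq_zero.1 hlamA
  -- x = y = 1
  have h11 : lam = mu * (E * A) := by
    have := key' 1 1
    rw [h21, h12, h01, h02] at this
    simp only [mul_one, zero_add, add_zero, zero_mul] at this
    rw [← hE, ← hA] at this
    unfold ff at this
    simp only [map_one, one_pow, mul_one] at this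
    linear_combination (-1 : F) * this - hlamE' - hlamA'
  -- the determinant
  have hdet' : lam * M 1 1 * M 2 2 * mu = 1 := by
    rw [Cfsg.Agent.Helper2.Exc6.det_fin_four'] at hdet
    rw [h10, h20, h30, h03, h13, h23, h31, h32, h12, h21, h01, h02] at hdet
    simp only [mul_zero, zero_mul, sub_zero, add_zero] at hdet
    linear_combination hdet
  have hlam0 : lam ≠ 0 := by
    intro h
    rw [h, zero_mul, zero_mul, zero_mul] at hdet'
    exact zero_ne_one hdet'
  have hE0 : E ≠ 0 := by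
    intro h
    rw [h] at hlamE'
    simp at hlamE'
    exact hlam0 hlamE'
  have hsE0 : S.s E ≠ 0 := (map_ne_zero S.s).2 hE0
  have hAE : A = E * S.s E := by
    have : mu * E * (A - E * S.s E) = 0 := by linear_combination hlamE' - h11
    rcases mul_eq_zero.1 this with h | h
    · exact absurd h (mul_ne_zero hmu hE0)
    · exact sub_eq_zero.1 h
  have hM11 : M 1 1 = A * mu := by rw [hA]; field_simp
  have hM22 : M 2 2 = E * mu := by rw [hE]; field_simp
  -- E^2 s(E) mu^2 = 1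
  have hkey : E ^ 2 * S.s E * mu ^ 2 = 1 := by
    apply S.sq_injective
    rw [one_pow]
    rw [hM11, hM22, hlamE', hAE] at hdet'
    linear_combination hdet'
  have hu0 : A * mu ≠ 0 := by
    rw [hAE]
    exact mul_ne_zero (mul_ne_zero hE0 hsE0) hmu
  have husq : (A * mu) ^ 2 = S.s E := by
    rw [hAE]
    linear_combination (S.s E) * hkey
  have hsu : S.s (A * mu) = E := by
    apply S.sq_injective
    rw [← map_pow, husq, hs]
  refine ⟨Units.mk0 (A * mu) hu0, ?_⟩
  have hone : A * mu * E * mu = 1 := by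
    rw [hAE]; linear_combination hkey
  ext i j
  fin_cases i <;> fin_cases j <;> simp only [Dm, Units.val_mk0, Matrix.of_apply, Matrix.cons_val',
    Matrix.cons_val_zero, Matrix.cons_val_one, Matrix.cons_val_two, Matrix.cons_val_three,
    Matrix.cons_val_fin_one, Fin.zero_eta, Fin.mk_one, Fin.reduceFinMk, hsu]
  · show lam = E * (A * mu)
    rw [hlamE', hAE]
    have : mu * (E ^ 2 * S.s E) = E * (E * S.s E * mu) := by ring
    exact this
  · exact h01
  · exact h02
  · exact h03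
  · exact h10
  · exact hM11
  · exact h12
  · exact h13
  · exact h20
  · exact h21
  · show M 2 2 = (A * mu)⁻¹
    apply eq_inv_of_mul_eq_one_left
    rw [hM22]
    linear_combination hone
  · exact h23
  · exact h30
  · exact h31
  · exact h32
  · show mu = (E * (A * mu))⁻¹
    apply eq_inv_of_mul_eq_one_left
    linear_combination hone


section group
variable [Fintype F]

/-- from the action on points to vectors -/
theorem exists_of_smul_eq (g : SpecialLinearGroup (Fin 4) F) {v w : Fin 4 → F} (hv : v ≠ 0)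
    (hw : w ≠ 0)
    (h : g • Projectivization.mk F v hv = Projectivization.mk F w hw) :
    ∃ c : F, c ≠ 0 ∧ g.1 *ᵥ v = c • w := by
  rw [smul_mk g v hv (mulVec_ne g hv), Projectivization.mk_eq_mk_iff] at h
  obtain ⟨a, ha⟩ := h
  exact ⟨a, a.ne_zero, by rw [← ha, Units.smul_def]⟩

theorem smul_pt_of_fix {g : SpecialLinearGroup (Fin 4) F} (hg : g ∈ Cfsg.Sz F m)
    (h1 : g • pInf F = pInf F) (x y : F) : ∃ x' y', g • S.pt x y = S.pt x' y' := by
  have hmem := smul_mem_of_mem_Sz hg (S.pt_mem x y)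
  rcases (S.mem_ovoid_iff _).1 hmem with h | ⟨x', y', h⟩
  · exfalso
    rw [← h1] at h
    exact S.pt_ne_pInf x y (MulAction.injective g h)
  · exact ⟨x', y', h⟩

/-- an element of the Suzuki group fixing the two base points is in the torus -/
theorem eq_Dg_of_fix (hm : 1 ≤ m) (hF : Fintype.card F = 2 ^ (2 * m + 1))
    {g : SpecialLinearGroup (Fin 4) F} (hg : g ∈ Cfsg.Sz F m)
    (h1 : g • pInf F = pInf F) (h2 : g • S.pt 0 0 = S.pt 0 0) : ∃ u : Fˣ, g = S.Dg u := by
  obtain ⟨c, hc, hcv⟩ := exists_of_smul_eq g ev_ne ev_ne h1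
  obtain ⟨d, hd, hdv⟩ := exists_of_smul_eq g (S.vec_ne 0 0) (S.vec_ne 0 0) h2
  have h10 : g.1 1 0 = 0 := by
    have := congrFun hcv 1
    simpa [Matrix.mulVec, dotProduct, Fin.sum_univ_four, ev] using this
  have h20 : g.1 2 0 = 0 := by
    have := congrFun hcv 2
    simpa [Matrix.mulVec, dotProduct, Fin.sum_univ_four, ev] using this
  have h30 : g.1 3 0 = 0 := by
    have := congrFun hcv 3
    simpa [Matrix.mulVec, dotProduct, Fin.sum_univ_four, ev] using this
  have h03 : g.1 0 3 = 0 := by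
    have := congrFun hdv 0
    simpa [Matrix.mulVec, dotProduct, Fin.sum_univ_four, vec, wv, ff] using this
  have h13 : g.1 1 3 = 0 := by
    have := congrFun hdv 1
    simpa [Matrix.mulVec, dotProduct, Fin.sum_univ_four, vec, wv, ff] using this
  have h23 : g.1 2 3 = 0 := by
    have := congrFun hdv 2
    simpa [Matrix.mulVec, dotProduct, Fin.sum_univ_four, vec, wv, ff] using this
  have hpts : ∀ x y : F, ∃ x' y' c : F, c ≠ 0 ∧ g.1 *ᵥ S.vec x y = c • S.vec x' y' := by
    intro x y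
    obtain ⟨x', y', h⟩ := S.smul_pt_of_fix hg h1 x y
    obtain ⟨c, hc, hv⟩ := exists_of_smul_eq g (S.vec_ne x y) (S.vec_ne x' y') h
    exact ⟨x', y', c, hc, hv⟩
  obtain ⟨u, hu⟩ := S.diag_of_fix hm hF g.1 g.2 h10 h20 h30 h03 h13 h23 hpts
  exact ⟨u, Subtype.ext hu⟩

theorem Tg_smul_pt_zero (a b : F) : S.Tg a b • S.pt 0 0 = S.pt a b := by
  rw [Tg_smul_pt, add_zero, mul_zero, add_zero, add_zero]

/-- the stabilizer of the point at infinity -/
theorem exists_Tg_Dg_of_fix (hm : 1 ≤ m) (hF : Fintype.card F = 2 ^ (2 * m + 1))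
    {g : SpecialLinearGroup (Fin 4) F} (hg : g ∈ Cfsg.Sz F m)
    (h1 : g • pInf F = pInf F) : ∃ (a b : F) (u : Fˣ), g = S.Tg a b * S.Dg u := by
  obtain ⟨a, b, hab⟩ := S.smul_pt_of_fix hg h1 0 0
  have hmem : (S.Tg a b)⁻¹ * g ∈ Cfsg.Sz F m :=
    (Cfsg.Sz F m).mul_mem ((Cfsg.Sz F m).inv_mem (S.Tg_mem a b)) hg
  have e1 : ((S.Tg a b)⁻¹ * g) • pInf F = pInf F := by
    rw [mul_smul, h1, inv_smul_eq_iff, Tg_smul_pInf]
  have e2 : ((S.Tg a b)⁻¹ * g) • S.pt 0 0 = S.pt 0 0 := by
    rw [mul_smul, hab, inv_smul_eq_iff, Tg_smul_pt_zero]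
  obtain ⟨u, hu⟩ := S.eq_Dg_of_fix hm hF hmem e1 e2
  exact ⟨a, b, u, by rw [← hu, mul_inv_cancel_left]⟩

theorem Tg_Dg_smul_pInf (a b : F) (u : Fˣ) : (S.Tg a b * S.Dg u) • pInf F = pInf F := by
  rw [mul_smul, Dg_smul_pInf, Tg_smul_pInf]

theorem Dg_smul_pt_zero (u : Fˣ) : S.Dg u • S.pt 0 0 = S.pt 0 0 := by
  rw [Dg_smul_pt, mul_zero, mul_zero]

theorem Tg_Dg_smul_pt_zero (a b : F) (u : Fˣ) : (S.Tg a b * S.Dg u) • S.pt 0 0 = S.pt a b := by
  rw [mul_smul, Dg_smul_pt_zero, Tg_smul_pt_zero]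

theorem Tg_Dg_injective {a b c d : F} {u v : Fˣ} (h : S.Tg a b * S.Dg u = S.Tg c d * S.Dg v) :
    a = c ∧ b = d ∧ u = v := by
  have h1 := congrArg (fun g => g • S.pt 0 0) h
  simp only [Tg_Dg_smul_pt_zero] at h1
  obtain ⟨rfl, rfl⟩ := S.pt_injective h1
  exact ⟨rfl, rfl, S.Dg_injective (mul_left_cancel h)⟩

/-- every element of the Suzuki group is a short word in the generators -/
theorem exists_decomp (hm : 1 ≤ m) (hF : Fintype.card F = 2 ^ (2 * m + 1))
    {g : SpecialLinearGroup (Fin 4) F} (hg : g ∈ Cfsg.Sz F m) :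
    (∃ (a b : F) (u : Fˣ), g = S.Tg a b * S.Dg u) ∨
      ∃ (a b c d : F) (u : Fˣ), g = S.Tg a b * Wg F * (S.Tg c d * S.Dg u) := by
  have hmem := smul_mem_of_mem_Sz hg (S.pInf_mem)
  rcases (S.mem_ovoid_iff _).1 hmem with h | ⟨a, b, h⟩
  · exact Or.inl (S.exists_Tg_Dg_of_fix hm hF hg h)
  · right
    have hmem' : Wg F * (S.Tg a b)⁻¹ * g ∈ Cfsg.Sz F m :=
      (Cfsg.Sz F m).mul_mem ((Cfsg.Sz F m).mul_mem S.Wg_mem
        ((Cfsg.Sz F m).inv_mem (S.Tg_mem a b))) hg
    have e1 : (Wg F * (S.Tg a b)⁻¹ * g) • pInf F = pInf F := by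
      rw [mul_smul, mul_smul, h]
      have : (S.Tg a b)⁻¹ • S.pt a b = S.pt 0 0 := by
        rw [inv_smul_eq_iff, Tg_smul_pt_zero]
      rw [this, S.Wg_smul_pt_zero]
    obtain ⟨c, d, u, hu⟩ := S.exists_Tg_Dg_of_fix hm hF hmem' e1
    refine ⟨a, b, c, d, u, ?_⟩
    rw [← hu, mul_assoc, mul_assoc, ← mul_assoc (Wg F) (Wg F), Wg_mul_Wg, one_mul,
      mul_inv_cancel_left]

end group

end SzData

end Cfsg.Agent.Helper2.Sz
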