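import Mathlib
import Cfsg.Agent.Lib.Helper2.SzStab
import Cfsg.Agent.S0326

set_option autoImplicit false
set_option linter.unusedSectionVars false
set_option linter.unusedSimpArgs false

namespace Cfsg.Agent.Helper2.Sz

open Matrix Cfsg.Agent.S0335
open scoped Pointwise

variable {F : Type*} [Field F] {m : ℕ} (S : SzData F m)

namespace SzData

section group
variable [Fintype F]

/-- the elements of the point stabilizer -/
def stabElt (x : F × F × Fˣ) : MulAction.stabilizer (Cfsg.Sz F m) (pInf F) :=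
  ⟨⟨S.Tg x.1 x.2.1 * S.Dg x.2.2,
    (Cfsg.Sz F m).mul_mem (S.Tg_mem _ _) (S.Dg_mem _)⟩, by
    rw [MulAction.mem_stabilizer_iff, Subgroup.smul_def]
    exact S.Tg_Dg_smul_pInf _ _ _⟩

theorem stabElt_bijective (hm : 1 ≤ m) (hF : Fintype.card F = 2 ^ (2 * m + 1)) :
    Function.Bijective S.stabElt := by
  constructor
  · rintro ⟨a, b, u⟩ ⟨c, d, v⟩ h
    have h1 : S.Tg a b * S.Dg u = S.Tg c d * S.Dg v :=
      congrArg (fun g : MulAction.stabilizer (Cfsg.Sz F m) (pInf F) =>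
        ((g : Cfsg.Sz F m) : SpecialLinearGroup (Fin 4) F)) h
    obtain ⟨rfl, rfl, rfl⟩ := S.Tg_Dg_injective h1
    rfl
  · rintro ⟨⟨g, hg⟩, hfix⟩
    rw [MulAction.mem_stabilizer_iff, Subgroup.smul_def] at hfix
    obtain ⟨a, b, u, rfl⟩ := S.exists_Tg_Dg_of_fix hm hF hg hfix
    exact ⟨⟨a, b, u⟩, rfl⟩

include S in
theorem card_stabilizer_pInf (hm : 1 ≤ m) (hF : Fintype.card F = 2 ^ (2 * m + 1)) :
    Nat.card (MulAction.stabilizer (Cfsg.Sz F m) (pInf F)) =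
      (2 ^ (2 * m + 1)) ^ 2 * (2 ^ (2 * m + 1) - 1) := by
  rw [← Nat.card_eq_of_bijective _ (S.stabElt_bijective hm hF), Nat.card_prod, Nat.card_prod,
    Nat.card_units, Nat.card_eq_fintype_card, hF]
  ring

include S in
theorem orbit_pInf : MulAction.orbit (Cfsg.Sz F m) (pInf F) = Cfsg.suzukiOvoid F m := by
  ext p
  constructor
  · rintro ⟨g, rfl⟩
    exact smul_mem_of_mem_Sz g.2 S.pInf_mem
  · intro hp
    rcases (S.mem_ovoid_iff p).1 hp with rfl | ⟨x, y, rfl⟩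
    · exact MulAction.mem_orbit_self _
    · refine ⟨⟨S.Tg x y * Wg F, (Cfsg.Sz F m).mul_mem (S.Tg_mem _ _) S.Wg_mem⟩, ?_⟩
      show (S.Tg x y * Wg F) • pInf F = S.pt x y
      rw [mul_smul, S.Wg_smul_pInf, Tg_smul_pt_zero]

include S in
theorem card_Sz (hm : 1 ≤ m) (hF : Fintype.card F = 2 ^ (2 * m + 1)) :
    Nat.card (Cfsg.Sz F m) =
      (2 ^ (2 * m + 1)) ^ 2 * ((2 ^ (2 * m + 1)) ^ 2 + 1) * (2 ^ (2 * m + 1) - 1) := by
  rw [← Subgroup.card_mul_index (MulAction.stabilizer (Cfsg.Sz F m) (pInf F)),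
    MulAction.index_stabilizer, S.orbit_pInf, S.card_stabilizer_pInf hm hF,
    ← Nat.card_coe_set_eq, Cfsg.Agent.S0326.result, hF]
  ring

/-- the torus inside the Suzuki group -/
def DgSz : Fˣ →* Cfsg.Sz F m := S.DgHom.codRestrict (Cfsg.Sz F m) S.Dg_mem

theorem DgSz_coe (u : Fˣ) : ((S.DgSz u : Cfsg.Sz F m) : SpecialLinearGroup (Fin 4) F) = S.Dg u := rfl

theorem DgSz_injective : Function.Injective S.DgSz := by
  intro u v h
  exact S.Dg_injective (congrArg (fun g : Cfsg.Sz F m => (g : SpecialLinearGroup (Fin 4) F)) h)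

theorem range_DgSz (hm : 1 ≤ m) (hF : Fintype.card F = 2 ^ (2 * m + 1)) :
    S.DgSz.range = MulAction.stabilizer (Cfsg.Sz F m) (pInf F) ⊓
      MulAction.stabilizer (Cfsg.Sz F m) (S.pt 0 0) := by
  ext g
  rw [Subgroup.mem_inf, MulAction.mem_stabilizer_iff, MulAction.mem_stabilizer_iff,
    Subgroup.smul_def, Subgroup.smul_def]
  constructor
  · rintro ⟨u, rfl⟩
    exact ⟨S.Dg_smul_pInf u, S.Dg_smul_pt_zero u⟩
  · rintro ⟨h1, h2⟩
    obtain ⟨u, hu⟩ := S.eq_Dg_of_fix hm hF g.2 h1 h2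
    exact ⟨u, Subtype.ext hu.symm⟩

theorem nonempty_two_point_stabilizer_equiv (hm : 1 ≤ m) (hF : Fintype.card F = 2 ^ (2 * m + 1)) :
    Nonempty (↥(MulAction.stabilizer (Cfsg.Sz F m) (pInf F) ⊓
      MulAction.stabilizer (Cfsg.Sz F m) (S.pt 0 0)) ≃* Fˣ) :=
  ⟨((MulEquiv.subgroupCongr (S.range_DgSz hm hF)).symm.trans
    (MonoidHom.ofInjective S.DgSz_injective).symm)⟩

end group

end SzData

end Cfsg.Agent.Helper2.Sz
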