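import Mathlib
import Cfsg.Agent.Lib.Helper2.SzCard

set_option autoImplicit false
set_option linter.unusedSectionVars false
set_option linter.unusedSimpArgs false

namespace Cfsg.Agent.Helper2.Sz

open Matrix Cfsg.Agent.S0335
open scoped Pointwise commutatorElement

variable {F : Type*} [Field F] {m : ℕ} (S : SzData F m)

namespace SzData

/-- fixed points of the Tits endomorphism -/
theorem eq_zero_or_one_of_fix {t : F} (h : S.s t = t) : t = 0 ∨ t = 1 := by
  have h1 : t ^ 2 = t := by rw [← S.hs, h, h]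
  have h2 : t * (t - 1) = 0 := by linear_combination h1
  rcases mul_eq_zero.1 h2 with h | h
  · exact Or.inl h
  · exact Or.inr (sub_eq_zero.1 h)

/-- the explicit inverse of `a ↦ a * s a` -/
theorem mul_s_surjective (e : F) : ∃ a : F, a * S.s a = e := by
  by_cases he : e = 0
  · exact ⟨0, by rw [he, zero_mul]⟩
  · refine ⟨S.s e / e, ?_⟩
    have hse : S.s e ≠ 0 := (map_ne_zero S.s).2 he
    rw [map_div₀, S.hs]
    field_simp

theorem exists_not_fix [Fintype F] (hF : Fintype.card F = 2 ^ (2 * m + 1)) (hm : 1 ≤ m) :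
    ∃ t : F, S.s t + t ≠ 0 := by
  have h8 : 2 < Fintype.card F := by
    rw [hF]
    calc 2 < 2 ^ 3 := by norm_num
      _ ≤ 2 ^ (2 * m + 1) := Nat.pow_le_pow_right (by norm_num) (by omega)
  obtain ⟨a, b, c, hab, hac, hbc⟩ := Fintype.two_lt_card_iff.1 h8
  by_contra hcon
  have hfix : ∀ t : F, t = 0 ∨ t = 1 := by
    intro t
    apply S.eq_zero_or_one_of_fix
    by_contra ht
    apply hcon
    refine ⟨t, fun h => ht ?_⟩
    have : S.s t = -t := by linear_combination h
    rw [this, S.neg_eq]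
  rcases hfix a with rfl | rfl <;> rcases hfix b with rfl | rfl <;> rcases hfix c with rfl | rfl <;>
    simp_all

end SzData

/-- a group with the multiplication table of the Sylow 2-subgroup of the Suzuki group -/
structure TData {F : Type*} [Field F] {m : ℕ} (S : SzData F m) (G : Type*) [Group G] where
  /-- the parametrisation -/
  τ : F → F → G
  inj : ∀ {a b c d : F}, τ a b = τ c d → a = c ∧ b = d
  surj : ∀ g : G, ∃ a b : F, g = τ a b
  mul : ∀ a b c d : F, τ a b * τ c d = τ (a + c) (b + d + S.s a * c)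

namespace TData

variable {S} {G : Type*} [Group G] (T : TData S G)

theorem one : T.τ 0 0 = 1 := by
  have h := T.mul 0 0 0 0
  simp only [add_zero, map_zero, mul_zero] at h
  exact mul_eq_left.1 h

theorem bijective : Function.Bijective (fun x : F × F => T.τ x.1 x.2) := by
  constructor
  · rintro ⟨a, b⟩ ⟨c, d⟩ h
    obtain ⟨rfl, rfl⟩ := T.inj h
    rfl
  · intro g
    obtain ⟨a, b, rfl⟩ := T.surj g
    exact ⟨⟨a, b⟩, rfl⟩

include T in
theorem card [Fintype F] : Nat.card G = Fintype.card F ^ 2 := by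
  rw [← Nat.card_eq_of_bijective _ T.bijective, Nat.card_prod, Nat.card_eq_fintype_card]
  ring

theorem sq (a b : F) : T.τ a b ^ 2 = T.τ 0 (S.s a * a) := by
  rw [pow_two, T.mul, S.add_self, S.add_self, zero_add]

include T in
theorem pow_four (g : G) : g ^ 4 = 1 := by
  obtain ⟨a, b, rfl⟩ := T.surj g
  have : T.τ a b ^ 4 = (T.τ a b ^ 2) ^ 2 := by rw [← pow_mul]
  rw [this, T.sq, T.sq, map_zero, zero_mul, T.one]

include T in
theorem exponent : Monoid.exponent G = 4 := by
  have h1 : Monoid.exponent G ∣ 2 ^ 2 := Monoid.exponent_dvd_iff_forall_pow_eq_one.2 T.pow_four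
  obtain ⟨k, hk, hk'⟩ := (Nat.dvd_prime_pow Nat.prime_two).1 h1
  have hne : ¬ Monoid.exponent G ∣ 2 := by
    intro h
    have := Monoid.exponent_dvd_iff_forall_pow_eq_one.1 h (T.τ 1 0)
    rw [T.sq, map_one, mul_one, ← T.one] at this
    exact one_ne_zero (T.inj this).2
  interval_cases k
  · exact absurd (by rw [hk']; norm_num) hne
  · exact absurd (by rw [hk', pow_one]) hne
  · rw [hk']; norm_num

theorem comm_iff (a b c d : F) :
    T.τ a b * T.τ c d = T.τ c d * T.τ a b ↔ S.s a * c = S.s c * a := by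
  rw [T.mul, T.mul]
  constructor
  · intro h
    have := (T.inj h).2
    linear_combination this
  · intro h
    rw [h, add_comm a c, add_comm b d]

theorem mem_center_iff [Fintype F] (hF : Fintype.card F = 2 ^ (2 * m + 1)) (hm : 1 ≤ m)
    (a b : F) : T.τ a b ∈ Subgroup.center G ↔ a = 0 := by
  rw [Subgroup.mem_center_iff]
  constructor
  · intro h
    by_contra ha
    obtain ⟨t, ht⟩ := S.exists_not_fix hF hm
    have h1 := (T.comm_iff a b 1 0).1 (h (T.τ 1 0)).symm
    rw [mul_one, map_one, one_mul] at h1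
    have h2 := (T.comm_iff a b t 0).1 (h (T.τ t 0)).symm
    rw [h1] at h2
    have h3 : a * (S.s t + t) = 0 := by
      have := S.neg_eq (a * t)
      linear_combination -h2 - this
    rcases mul_eq_zero.1 h3 with h | h
    · exact ha h
    · exact ht h
  · rintro rfl g
    obtain ⟨c, d, rfl⟩ := T.surj g
    exact ((T.comm_iff 0 b c d).2 (by rw [map_zero, zero_mul, mul_zero])).symm

theorem commutator_eq (a b c d : F) :
    ⁅T.τ a b, T.τ c d⁆ = T.τ 0 (S.s a * c + S.s c * a) := by
  rw [commutatorElement_def, mul_inv_eq_iff_eq_mul, mul_inv_eq_iff_eq_mul, T.mul, T.mul, T.mul]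
  simp only [zero_add, map_zero, zero_mul, add_zero]
  congr 1
  · rw [add_comm]
  · linear_combination (-(S.s c * a)) * S.h2

include T in
theorem center_eq_commutator [Fintype F] (hF : Fintype.card F = 2 ^ (2 * m + 1)) (hm : 1 ≤ m) :
    Subgroup.center G = commutator G := by
  apply le_antisymm
  · intro z hz
    obtain ⟨a, e, rfl⟩ := T.surj z
    have ha := (T.mem_center_iff hF hm a e).1 hz
    subst ha
    obtain ⟨t, ht⟩ := S.exists_not_fix hF hm
    obtain ⟨a, ha⟩ := S.mul_s_surjective (e / (S.s t + t))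
    have : T.τ 0 e = ⁅T.τ a 0, T.τ (t * a) 0⁆ := by
      rw [T.commutator_eq]
      congr 1
      rw [map_mul S.s t a]
      have : e = (e / (S.s t + t)) * (S.s t + t) := by field_simp
      nth_rewrite 1 [this]
      rw [← ha]
      ring
    rw [this]
    exact Subgroup.commutator_mem_commutator (Subgroup.mem_top _) (Subgroup.mem_top _)
  · rw [commutator_eq_closure, Subgroup.closure_le]
    rintro _ ⟨x, y, rfl⟩
    obtain ⟨a, b, rfl⟩ := T.surj x
    obtain ⟨c, d, rfl⟩ := T.surj y
    rw [T.commutator_eq]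
    exact (T.mem_center_iff hF hm _ _).2 rfl

include T in
theorem card_center [Fintype F] (hF : Fintype.card F = 2 ^ (2 * m + 1)) (hm : 1 ≤ m) :
    Nat.card (Subgroup.center G) = Fintype.card F := by
  have hbij : Function.Bijective (fun e : F =>
      (⟨T.τ 0 e, (T.mem_center_iff hF hm 0 e).2 rfl⟩ : Subgroup.center G)) := by
    constructor
    · intro e e' h
      exact (T.inj (congrArg Subtype.val h)).2
    · rintro ⟨z, hz⟩
      obtain ⟨a, e, rfl⟩ := T.surj z
      have ha := (T.mem_center_iff hF hm a e).1 hz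
      subst ha
      exact ⟨e, rfl⟩
  rw [← Nat.card_eq_of_bijective _ hbij, Nat.card_eq_fintype_card]

/-- transport along an isomorphism -/
def map {H : Type*} [Group H] (e : G ≃* H) : TData S H where
  τ a b := e (T.τ a b)
  inj h := T.inj (e.injective h)
  surj h := by
    obtain ⟨a, b, hab⟩ := T.surj (e.symm h)
    exact ⟨a, b, by rw [← hab, MulEquiv.apply_symm_apply]⟩
  mul a b c d := by rw [← map_mul, T.mul]

end TData

namespace SzData

section group
variable [Fintype F]

/-- the unipotent subgroup of the Suzuki group -/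
def QSz : Subgroup (Cfsg.Sz F m) where
  carrier := {g | ∃ a b : F, (g : SpecialLinearGroup (Fin 4) F) = S.Tg a b}
  mul_mem' := by
    rintro x y ⟨a, b, hx⟩ ⟨c, d, hy⟩
    exact ⟨a + c, b + d + S.s a * c, by rw [Subgroup.coe_mul, hx, hy, Tg_mul]⟩
  one_mem' := ⟨0, 0, by rw [Subgroup.coe_one, Tg_zero]⟩
  inv_mem' := by
    rintro x ⟨a, b, hx⟩
    exact ⟨a, b + S.s a * a, by rw [Subgroup.coe_inv, hx, Tg_inv]⟩

theorem mem_QSz {g : Cfsg.Sz F m} :
    g ∈ S.QSz ↔ ∃ a b : F, (g : SpecialLinearGroup (Fin 4) F) = S.Tg a b := Iff.rfl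

/-- the elements of the unipotent subgroup -/
def TgSz (a b : F) : Cfsg.Sz F m := ⟨S.Tg a b, S.Tg_mem a b⟩

theorem TgSz_mem (a b : F) : S.TgSz a b ∈ S.QSz := ⟨a, b, rfl⟩

/-- the multiplication table of the unipotent subgroup -/
def tdataQ : TData S S.QSz where
  τ a b := ⟨S.TgSz a b, S.TgSz_mem a b⟩
  inj h := S.Tg_injective (congrArg (fun g : S.QSz =>
    ((g : Cfsg.Sz F m) : SpecialLinearGroup (Fin 4) F)) h)
  surj := by
    rintro ⟨g, a, b, hg⟩
    exact ⟨a, b, Subtype.ext (Subtype.ext hg)⟩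
  mul a b c d := Subtype.ext (Subtype.ext (S.Tg_mul a b c d))

theorem card_QSz : Nat.card S.QSz = Fintype.card F ^ 2 := S.tdataQ.card

theorem isPGroup_QSz (hF : Fintype.card F = 2 ^ (2 * m + 1)) : IsPGroup 2 S.QSz := by
  apply IsPGroup.of_card (n := 2 * (2 * m + 1))
  rw [S.card_QSz, hF, ← pow_mul, mul_comm]

theorem index_QSz (hm : 1 ≤ m) (hF : Fintype.card F = 2 ^ (2 * m + 1)) :
    S.QSz.index = ((2 ^ (2 * m + 1)) ^ 2 + 1) * (2 ^ (2 * m + 1) - 1) := by
  have h := Subgroup.card_mul_index S.QSz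
  rw [S.card_QSz, S.card_Sz hm hF, hF, mul_assoc] at h
  exact Nat.eq_of_mul_eq_mul_left (by positivity) h

theorem not_two_dvd_index_QSz (hm : 1 ≤ m) (hF : Fintype.card F = 2 ^ (2 * m + 1)) :
    ¬ 2 ∣ S.QSz.index := by
  rw [S.index_QSz hm hF]
  have h1 : 2 ∣ 2 ^ (2 * m + 1) := dvd_pow_self 2 (by omega)
  obtain ⟨k, hk⟩ := h1
  have hk0 : 0 < k := by
    rcases Nat.eq_zero_or_pos k with h | h
    · rw [h, mul_zero] at hk
      exact absurd hk (by positivity)
    · exact h
  rw [hk]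
  intro h
  rcases (Nat.Prime.dvd_mul Nat.prime_two).1 h with h | h
  · have h2 : (2 * k) ^ 2 + 1 = 2 * (2 * k * k) + 1 := by ring
    rw [h2] at h
    omega
  · omega

/-- the unipotent subgroup as a Sylow subgroup -/
def QSylow (hm : 1 ≤ m) (hF : Fintype.card F = 2 ^ (2 * m + 1)) : Sylow 2 (Cfsg.Sz F m) :=
  haveI : Fact (Nat.Prime 2) := ⟨Nat.prime_two⟩
  (S.isPGroup_QSz hF).toSylow (S.not_two_dvd_index_QSz hm hF)

theorem coe_QSylow (hm : 1 ≤ m) (hF : Fintype.card F = 2 ^ (2 * m + 1)) :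
    ((S.QSylow hm hF : Sylow 2 (Cfsg.Sz F m)) : Subgroup (Cfsg.Sz F m)) = S.QSz := rfl

/-- every Sylow 2-subgroup is a conjugate of the unipotent subgroup -/
theorem exists_conj_QSz (hm : 1 ≤ m) (hF : Fintype.card F = 2 ^ (2 * m + 1))
    (P : Sylow 2 (Cfsg.Sz F m)) :
    ∃ g : Cfsg.Sz F m, (P : Subgroup (Cfsg.Sz F m)) = MulAut.conj g • S.QSz := by
  have : Fact (Nat.Prime 2) := ⟨Nat.prime_two⟩
  obtain ⟨g, hg⟩ := MulAction.exists_smul_eq (Cfsg.Sz F m) (S.QSylow hm hF) P
  refine ⟨g, ?_⟩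
  rw [← hg, Sylow.coe_subgroup_smul, coe_QSylow]

/-- every Sylow 2-subgroup has the same multiplication table -/
theorem nonempty_tdata (hm : 1 ≤ m) (hF : Fintype.card F = 2 ^ (2 * m + 1))
    (P : Sylow 2 (Cfsg.Sz F m)) : Nonempty (TData S (P : Subgroup (Cfsg.Sz F m))) := by
  obtain ⟨g, hg⟩ := S.exists_conj_QSz hm hF P
  exact ⟨S.tdataQ.map ((Subgroup.equivSMul (MulAut.conj g) S.QSz).trans
    (MulEquiv.subgroupCongr hg.symm))⟩

end group

end SzData

end Cfsg.Agent.Helper2.Sz
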