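import Mathlib
import Cfsg.Agent.Lib.Helper2.SzSylow

set_option autoImplicit false
set_option linter.unusedSectionVars false
set_option linter.unusedSimpArgs false

namespace Cfsg.Agent.Helper2.Sz

open Matrix Cfsg.Agent.S0335
open scoped Pointwise commutatorElement

variable {F : Type*} [Field F] {m : ℕ} (S : SzData F m)

namespace SzData

section group
variable [Fintype F]

/-- explicit double transitivity -/
theorem exists_smul_pair {p q : Projectivization F (Fin 4 → F)}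
    (hp : p ∈ Cfsg.suzukiOvoid F m) (hq : q ∈ Cfsg.suzukiOvoid F m) (hpq : p ≠ q) :
    ∃ g : SpecialLinearGroup (Fin 4) F, g ∈ Cfsg.Sz F m ∧ g • pInf F = p ∧ g • S.pt 0 0 = q := by
  rw [← S.orbit_pInf] at hp
  obtain ⟨⟨g₁, hg₁⟩, hgp⟩ := hp
  have e0 : g₁ • pInf F = p := hgp
  subst e0
  have hq' : g₁⁻¹ • q ∈ Cfsg.suzukiOvoid F m :=
    smul_mem_of_mem_Sz ((Cfsg.Sz F m).inv_mem hg₁) hq
  rcases (S.mem_ovoid_iff _).1 hq' with h | ⟨x, y, h⟩
  · exfalso
    apply hpq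
    rw [inv_smul_eq_iff] at h
    exact h.symm
  · refine ⟨g₁ * S.Tg x y, (Cfsg.Sz F m).mul_mem hg₁ (S.Tg_mem x y), ?_, ?_⟩
    · rw [mul_smul, Tg_smul_pInf]
    · rw [mul_smul, Tg_smul_pt_zero, ← h, smul_inv_smul]

theorem Dg_eq_one_of_fix {u : Fˣ} {x y : F} (hxy : ¬ (x = 0 ∧ y = 0))
    (h : S.Dg u • S.pt x y = S.pt x y) : u = 1 := by
  rw [Dg_smul_pt] at h
  obtain ⟨h1, h2⟩ := S.pt_injective h
  by_cases hx : x = 0
  · have hy : y ≠ 0 := fun hy => hxy ⟨hx, hy⟩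
    have h3 : S.s u * (u : F) ^ 2 = 1 := by
      apply mul_right_cancel₀ hy
      rw [h2, one_mul]
    have h4 : ((u : F) * S.s u) ^ 2 = 1 ^ 2 := by
      have := congrArg S.s h3
      rw [map_mul, S.hs, map_pow, map_one] at this
      rw [one_pow]
      linear_combination this
    have h5 := S.sq_injective h4
    apply Units.ext
    rw [Units.val_one]
    linear_combination h3 - (u : F) * h5
  · have h3 : S.s u = 1 := by
      apply mul_right_cancel₀ hx
      rw [h1, one_mul]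
    have : S.s u = S.s 1 := by rw [h3, map_one]
    exact Units.ext (S.s_injective this)

include S in
/-- the three point stabilizers are trivial -/
theorem eq_one_of_fix_three (hm : 1 ≤ m) (hF : Fintype.card F = 2 ^ (2 * m + 1))
    {g : SpecialLinearGroup (Fin 4) F} (hg : g ∈ Cfsg.Sz F m)
    {a b c : Projectivization F (Fin 4 → F)} (ha : a ∈ Cfsg.suzukiOvoid F m)
    (hb : b ∈ Cfsg.suzukiOvoid F m) (hc : c ∈ Cfsg.suzukiOvoid F m)
    (hab : a ≠ b) (hbc : b ≠ c) (hac : a ≠ c)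
    (h1 : g • a = a) (h2 : g • b = b) (h3 : g • c = c) : g = 1 := by
  obtain ⟨h, hh, rfl, rfl⟩ := S.exists_smul_pair ha hb hab
  have hg' : h⁻¹ * g * h ∈ Cfsg.Sz F m :=
    (Cfsg.Sz F m).mul_mem ((Cfsg.Sz F m).mul_mem ((Cfsg.Sz F m).inv_mem hh) hg) hh
  have e1 : (h⁻¹ * g * h) • pInf F = pInf F := by
    rw [mul_smul, mul_smul, h1, inv_smul_smul]
  have e2 : (h⁻¹ * g * h) • S.pt 0 0 = S.pt 0 0 := by
    rw [mul_smul, mul_smul, h2, inv_smul_smul]
  obtain ⟨u, hu⟩ := S.eq_Dg_of_fix hm hF hg' e1 e2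
  have hc' : h⁻¹ • c ∈ Cfsg.suzukiOvoid F m :=
    smul_mem_of_mem_Sz ((Cfsg.Sz F m).inv_mem hh) hc
  rcases (S.mem_ovoid_iff _).1 hc' with hci | ⟨x, y, hxy⟩
  · exfalso
    apply hac
    rw [inv_smul_eq_iff] at hci
    exact hci.symm
  · have hne : ¬ (x = 0 ∧ y = 0) := by
      rintro ⟨rfl, rfl⟩
      apply hbc
      rw [inv_smul_eq_iff] at hxy
      exact hxy.symm
    have e3 : S.Dg u • S.pt x y = S.pt x y := by
      rw [← hu, ← hxy, mul_smul, mul_smul, smul_inv_smul, h3]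
    have hu1 := S.Dg_eq_one_of_fix hne e3
    rw [hu1, Dg_one] at hu
    have : g = h * (h⁻¹ * g * h) * h⁻¹ := by group
    rw [this, hu]
    group

theorem pt_one_ne_pt_zero : S.pt 1 0 ≠ S.pt 0 0 := by
  intro h
  exact one_ne_zero (S.pt_injective h).1

include S in
/-- the action on the ovoid is faithful -/
theorem eq_one_of_forall_fix (hm : 1 ≤ m) (hF : Fintype.card F = 2 ^ (2 * m + 1))
    {g : SpecialLinearGroup (Fin 4) F} (hg : g ∈ Cfsg.Sz F m)
    (h : ∀ p ∈ Cfsg.suzukiOvoid F m, g • p = p) : g = 1 :=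
  S.eq_one_of_fix_three hm hF hg S.pInf_mem (S.pt_mem 0 0) (S.pt_mem 1 0)
    (S.pt_ne_pInf 0 0).symm S.pt_one_ne_pt_zero.symm (S.pt_ne_pInf 1 0).symm
    (h _ S.pInf_mem) (h _ (S.pt_mem 0 0)) (h _ (S.pt_mem 1 0))

include S in
/-- the inversion as an element of the Suzuki group -/
def WgSz : Cfsg.Sz F m := ⟨Wg F, S.Wg_mem⟩

theorem TgSz_commutator (a b c d : F) :
    ⁅S.TgSz a b, S.TgSz c d⁆ = S.TgSz 0 (S.s a * c + S.s c * a) :=
  congrArg Subtype.val (S.tdataQ.commutator_eq a b c d)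

theorem exists_comm_eq (hF : Fintype.card F = 2 ^ (2 * m + 1)) (hm : 1 ≤ m) (e : F) :
    ∃ a c : F, S.s a * c + S.s c * a = e := by
  obtain ⟨t, ht⟩ := S.exists_not_fix hF hm
  obtain ⟨a, ha⟩ := S.mul_s_surjective (e / (S.s t + t))
  refine ⟨a, t * a, ?_⟩
  rw [map_mul S.s t a]
  have : e = (e / (S.s t + t)) * (S.s t + t) := by field_simp
  rw [this, ← ha]
  ring

theorem exists_commutator_Dg_Tg (u : Fˣ) (a b : F) :
    ∃ b', ⁅S.DgSz u, S.TgSz a b⁆ = S.TgSz (S.s u * a + a) b' := by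
  refine ⟨S.s u * (u : F) ^ 2 * b + (b + S.s a * a) + S.s (S.s u * a) * a, ?_⟩
  rw [commutatorElement_def]
  apply Subtype.ext
  show S.Dg u * S.Tg a b * (S.Dg u)⁻¹ * (S.Tg a b)⁻¹ = S.Tg _ _
  rw [Dg_Tg, mul_inv_cancel_right, Tg_inv, Tg_mul]

theorem TgSz_mem_commutator (hm : 1 ≤ m) (hF : Fintype.card F = 2 ^ (2 * m + 1)) (a b : F) :
    S.TgSz a b ∈ commutator (Cfsg.Sz F m) := by
  have hZ : ∀ e, S.TgSz 0 e ∈ commutator (Cfsg.Sz F m) := by
    intro e
    obtain ⟨a, c, hac⟩ := S.exists_comm_eq hF hm e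
    rw [← hac, ← S.TgSz_commutator a 0 c 0]
    exact Subgroup.commutator_mem_commutator (Subgroup.mem_top _) (Subgroup.mem_top _)
  obtain ⟨t, ht⟩ := S.exists_not_fix hF hm
  have ht0 : t ≠ 0 := by
    rintro rfl
    apply ht
    rw [map_zero, add_zero]
  have ht1 : S.s t + 1 ≠ 0 := by
    intro h
    apply ht
    have h1 : S.s t = S.s 1 := by
      rw [map_one]
      linear_combination h - S.h2
    rw [S.s_injective h1, map_one]
    linear_combination S.h2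
  obtain ⟨b', hb'⟩ := S.exists_commutator_Dg_Tg (Units.mk0 t ht0) (a / (S.s t + 1)) 0
  rw [Units.val_mk0] at hb'
  have h1 : S.TgSz a b' ∈ commutator (Cfsg.Sz F m) := by
    have : S.s t * (a / (S.s t + 1)) + a / (S.s t + 1) = a := by field_simp
    rw [this] at hb'
    rw [← hb']
    exact Subgroup.commutator_mem_commutator (Subgroup.mem_top _) (Subgroup.mem_top _)
  have h2 : S.TgSz a b = S.TgSz a b' * S.TgSz 0 (b' + b) := by
    apply Subtype.ext
    show S.Tg a b = S.Tg a b' * S.Tg 0 (b' + b)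
    rw [Tg_mul, add_zero, mul_zero, add_zero]
    congr 1
    linear_combination (-b') * S.h2
  rw [h2]
  exact mul_mem h1 (hZ _)

theorem s_surjective : Function.Surjective S.s :=
  Finite.injective_iff_surjective.1 S.s_injective

theorem DgSz_mem_commutator (u : Fˣ) : S.DgSz u ∈ commutator (Cfsg.Sz F m) := by
  obtain ⟨w₁, hw₁⟩ := S.s_surjective (u : F)
  obtain ⟨w, hw⟩ := S.s_surjective w₁
  have hw2 : w * w = u := by rw [← hw₁, ← hw, S.hs, pow_two]
  have hw0 : w ≠ 0 := by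
    rintro rfl
    rw [mul_zero] at hw2
    exact u.ne_zero hw2.symm
  have hwu : (Units.mk0 w hw0) * (Units.mk0 w hw0) = u := Units.ext hw2
  have : S.DgSz u = ⁅S.WgSz, S.DgSz (Units.mk0 w hw0)⁻¹⁆ := by
    rw [commutatorElement_def]
    apply Subtype.ext
    show S.Dg u = Wg F * S.Dg (Units.mk0 w hw0)⁻¹ * (Wg F)⁻¹ * (S.Dg (Units.mk0 w hw0)⁻¹)⁻¹
    rw [Wg_inv, Wg_Dg_Wg, Dg_inv, inv_inv, Dg_mul, hwu]
  rw [this]
  exact Subgroup.commutator_mem_commutator (Subgroup.mem_top _) (Subgroup.mem_top _)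

theorem WgSz_sq : S.WgSz ^ 2 = 1 := by
  apply Subtype.ext
  show Wg F ^ 2 = 1
  rw [pow_two, Wg_mul_Wg]

theorem WgSz_mem_commutator (hm : 1 ≤ m) (hF : Fintype.card F = 2 ^ (2 * m + 1)) :
    S.WgSz ∈ commutator (Cfsg.Sz F m) := by
  have : Fact (Nat.Prime 2) := ⟨Nat.prime_two⟩
  have hp : IsPGroup 2 (Subgroup.zpowers S.WgSz) := by
    rintro ⟨g, hg⟩
    obtain ⟨n, rfl⟩ := Subgroup.mem_zpowers_iff.1 hg
    refine ⟨1, Subtype.ext ?_⟩
    show (S.WgSz ^ n) ^ 2 ^ 1 = 1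
    rw [pow_one, ← zpow_natCast, ← _root_.zpow_mul, mul_comm, _root_.zpow_mul, zpow_natCast, S.WgSz_sq, _root_.one_zpow]
  obtain ⟨P, hP⟩ := hp.exists_le_sylow
  obtain ⟨g, hg⟩ := S.exists_conj_QSz hm hF P
  have hW : S.WgSz ∈ (P : Subgroup (Cfsg.Sz F m)) := hP (Subgroup.mem_zpowers _)
  rw [hg, Subgroup.mem_pointwise_smul_iff_inv_smul_mem] at hW
  obtain ⟨a, b, hab⟩ := hW
  have h1 : (MulAut.conj g)⁻¹ • S.WgSz = S.TgSz a b := Subtype.ext hab
  have h2 : S.WgSz = g * S.TgSz a b * g⁻¹ := by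
    rw [← h1, ← map_inv, MulAut.smul_def, MulAut.conj_apply]
    group
  rw [h2]
  exact (inferInstance : (commutator (Cfsg.Sz F m)).Normal).conj_mem _
    (S.TgSz_mem_commutator hm hF a b) g

include S in
/-- the Suzuki group is perfect -/
theorem commutator_Sz_eq_top (hm : 1 ≤ m) (hF : Fintype.card F = 2 ^ (2 * m + 1)) :
    commutator (Cfsg.Sz F m) = ⊤ := by
  rw [eq_top_iff]
  rintro ⟨g, hg⟩ -
  rcases S.exists_decomp hm hF hg with ⟨a, b, u, rfl⟩ | ⟨a, b, c, d, u, rfl⟩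
  · have : (⟨S.Tg a b * S.Dg u, hg⟩ : Cfsg.Sz F m) = S.TgSz a b * S.DgSz u := rfl
    rw [this]
    exact mul_mem (S.TgSz_mem_commutator hm hF a b) (S.DgSz_mem_commutator u)
  · have : (⟨S.Tg a b * Wg F * (S.Tg c d * S.Dg u), hg⟩ : Cfsg.Sz F m) =
        S.TgSz a b * S.WgSz * (S.TgSz c d * S.DgSz u) := rfl
    rw [this]
    exact mul_mem (mul_mem (S.TgSz_mem_commutator hm hF a b) (S.WgSz_mem_commutator hm hF))
      (mul_mem (S.TgSz_mem_commutator hm hF c d) (S.DgSz_mem_commutator u))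

include S in
/-- a nontrivial normal subgroup is transitive on the ovoid -/
theorem normal_transitive (hm : 1 ≤ m) (hF : Fintype.card F = 2 ^ (2 * m + 1))
    (N : Subgroup (Cfsg.Sz F m)) [hNn : N.Normal] (hN : N ≠ ⊥)
    {a b : Projectivization F (Fin 4 → F)} (ha : a ∈ Cfsg.suzukiOvoid F m)
    (hb : b ∈ Cfsg.suzukiOvoid F m) :
    ∃ n : Cfsg.Sz F m, n ∈ N ∧ (n : SpecialLinearGroup (Fin 4) F) • a = b := by
  by_cases hab : a = b
  · exact ⟨1, N.one_mem, by rw [hab, Subgroup.coe_one, one_smul]⟩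
  obtain ⟨⟨n, hnN⟩, hn1⟩ := (Subgroup.ne_bot_iff_exists_ne_one).1 hN
  have hn1' : (n : SpecialLinearGroup (Fin 4) F) ≠ 1 := by
    intro h
    apply hn1
    exact Subtype.ext (Subtype.ext h)
  obtain ⟨p, hp, hnp⟩ : ∃ p ∈ Cfsg.suzukiOvoid F m,
      (n : SpecialLinearGroup (Fin 4) F) • p ≠ p := by
    by_contra hcon
    apply hn1'
    apply S.eq_one_of_forall_fix hm hF n.2
    intro p hp
    by_contra hne
    exact hcon ⟨p, hp, hne⟩
  obtain ⟨h, hh, hp1, hp2⟩ := S.exists_smul_pair hp (smul_mem_of_mem_Sz n.2 hp) (Ne.symm hnp)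
  obtain ⟨k, hk, ka, kb⟩ := S.exists_smul_pair ha hb hab
  let g : Cfsg.Sz F m := ⟨k * h⁻¹, (Cfsg.Sz F m).mul_mem hk ((Cfsg.Sz F m).inv_mem hh)⟩
  refine ⟨g * n * g⁻¹, hNn.conj_mem n hnN g, ?_⟩
  show (k * h⁻¹ * (n : SpecialLinearGroup (Fin 4) F) * (k * h⁻¹)⁻¹) • a = b
  rw [← ka, ← kb, mul_smul, mul_smul, mul_smul, _root_.mul_inv_rev, inv_inv, mul_smul,
    inv_smul_smul, hp1, ← hp2, inv_smul_smul]

/-- the torus part of an element of the point stabilizer -/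
theorem exists_torusPart (hm : 1 ≤ m) (hF : Fintype.card F = 2 ^ (2 * m + 1))
    (g : MulAction.stabilizer (Cfsg.Sz F m) (pInf F)) :
    ∃ (u : Fˣ) (a b : F),
      ((g : Cfsg.Sz F m) : SpecialLinearGroup (Fin 4) F) = S.Tg a b * S.Dg u := by
  obtain ⟨⟨g, hg⟩, hfix⟩ := g
  rw [MulAction.mem_stabilizer_iff, Subgroup.smul_def] at hfix
  obtain ⟨a, b, u, h⟩ := S.exists_Tg_Dg_of_fix hm hF hg hfix
  exact ⟨u, a, b, h⟩

/-- the torus part of an element of the point stabilizer -/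
noncomputable def torusPart (hm : 1 ≤ m) (hF : Fintype.card F = 2 ^ (2 * m + 1))
    (g : MulAction.stabilizer (Cfsg.Sz F m) (pInf F)) : Fˣ :=
  Classical.choose (S.exists_torusPart hm hF g)

theorem torusPart_spec (hm : 1 ≤ m) (hF : Fintype.card F = 2 ^ (2 * m + 1))
    (g : MulAction.stabilizer (Cfsg.Sz F m) (pInf F)) :
    ∃ a b : F, ((g : Cfsg.Sz F m) : SpecialLinearGroup (Fin 4) F) =
      S.Tg a b * S.Dg (S.torusPart hm hF g) :=
  Classical.choose_spec (S.exists_torusPart hm hF g)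

theorem torusPart_eq (hm : 1 ≤ m) (hF : Fintype.card F = 2 ^ (2 * m + 1))
    {g : MulAction.stabilizer (Cfsg.Sz F m) (pInf F)} {a b : F} {u : Fˣ}
    (h : ((g : Cfsg.Sz F m) : SpecialLinearGroup (Fin 4) F) = S.Tg a b * S.Dg u) :
    S.torusPart hm hF g = u := by
  obtain ⟨a', b', h'⟩ := S.torusPart_spec hm hF g
  rw [h] at h'
  exact (S.Tg_Dg_injective h').2.2.symm

/-- the torus part as a homomorphism -/
noncomputable def torusHom (hm : 1 ≤ m) (hF : Fintype.card F = 2 ^ (2 * m + 1)) :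
    MulAction.stabilizer (Cfsg.Sz F m) (pInf F) →* Fˣ where
  toFun := S.torusPart hm hF
  map_one' := by
    apply S.torusPart_eq hm hF (a := 0) (b := 0)
    rw [Tg_zero, Dg_one, mul_one]
    rfl
  map_mul' g h := by
    obtain ⟨a, b, hg⟩ := S.torusPart_spec hm hF g
    obtain ⟨c, d, hh⟩ := S.torusPart_spec hm hF h
    apply S.torusPart_eq hm hF
      (a := a + S.s (S.torusPart hm hF g) * c)
      (b := b + S.s (S.torusPart hm hF g) * ((S.torusPart hm hF g : Fˣ) : F) ^ 2 * d +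
        S.s a * (S.s (S.torusPart hm hF g) * c))
    have : (((g * h : MulAction.stabilizer (Cfsg.Sz F m) (pInf F)) : Cfsg.Sz F m) :
        SpecialLinearGroup (Fin 4) F) = ((g : Cfsg.Sz F m) : SpecialLinearGroup (Fin 4) F) *
          ((h : Cfsg.Sz F m) : SpecialLinearGroup (Fin 4) F) := rfl
    rw [this, hg, hh, ← Dg_mul, ← Tg_mul, mul_assoc, ← mul_assoc (S.Dg _) (S.Tg c d), Dg_Tg]
    simp only [mul_assoc]

theorem QSz_le_stabilizer : S.QSz ≤ MulAction.stabilizer (Cfsg.Sz F m) (pInf F) := by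
  rintro g ⟨a, b, hg⟩
  rw [MulAction.mem_stabilizer_iff, Subgroup.smul_def, hg, Tg_smul_pInf]

include S in
/-- the point stabilizer is solvable -/
theorem stabilizer_solvable (hm : 1 ≤ m) (hF : Fintype.card F = 2 ^ (2 * m + 1)) :
    Group.IsSolvable (MulAction.stabilizer (Cfsg.Sz F m) (pInf F)) := by
  have : Fact (Nat.Prime 2) := ⟨Nat.prime_two⟩
  have hnil : Group.IsNilpotent S.QSz := (S.isPGroup_QSz hF).isNilpotent
  apply Group.isSolvable_of_ker_le_range (Subgroup.inclusion S.QSz_le_stabilizer)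
    (S.torusHom hm hF)
  intro g hg
  rw [MonoidHom.mem_ker] at hg
  obtain ⟨a, b, hab⟩ := S.torusPart_spec hm hF g
  have hg' : S.torusPart hm hF g = 1 := hg
  rw [hg', Dg_one, mul_one] at hab
  exact ⟨⟨g, a, b, hab⟩, rfl⟩

include S in
/-- the Suzuki group is simple -/
theorem eq_top_of_normal (hm : 1 ≤ m) (hF : Fintype.card F = 2 ^ (2 * m + 1))
    (N : Subgroup (Cfsg.Sz F m)) [hNn : N.Normal] (hN : N ≠ ⊥) : N = ⊤ := by
  have hφ : Function.Surjective ((QuotientGroup.mk' N).comp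
      (MulAction.stabilizer (Cfsg.Sz F m) (pInf F)).subtype) := by
    intro x
    obtain ⟨g, rfl⟩ := QuotientGroup.mk_surjective x
    obtain ⟨n, hn, hnp⟩ := S.normal_transitive hm hF N hN S.pInf_mem
      (smul_mem_of_mem_Sz g.2 S.pInf_mem)
    refine ⟨⟨n⁻¹ * g, ?_⟩, ?_⟩
    · rw [MulAction.mem_stabilizer_iff, mul_smul, inv_smul_eq_iff, Subgroup.smul_def,
        Subgroup.smul_def]
      exact hnp.symm
    · show (QuotientGroup.mk (n⁻¹ * g) : Cfsg.Sz F m ⧸ N) = QuotientGroup.mk g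
      rw [QuotientGroup.eq]
      have : (n⁻¹ * g)⁻¹ * g = g⁻¹ * n * g⁻¹⁻¹ := by group
      rw [this]
      exact hNn.conj_mem n hn g⁻¹
  have hB := S.stabilizer_solvable hm hF
  have hsol : Group.IsSolvable (Cfsg.Sz F m ⧸ N) := Group.isSolvable_of_surjective hφ
  rcases subsingleton_or_nontrivial (Cfsg.Sz F m ⧸ N) with h | h
  · exact QuotientGroup.subgroup_eq_top_of_subsingleton N h
  · exfalso
    have h1 := Group.IsSolvable.commutator_lt_top_of_nontrivial (Cfsg.Sz F m ⧸ N)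
    have h2 : commutator (Cfsg.Sz F m ⧸ N) = ⊤ := by
      rw [commutator_def, ← Subgroup.map_top_of_surjective (QuotientGroup.mk' N)
        (QuotientGroup.mk'_surjective N), ← Subgroup.map_commutator, ← commutator_def,
        S.commutator_Sz_eq_top hm hF]
    exact h1.ne h2

theorem TgSz_ne_one : S.TgSz 1 0 ≠ 1 := by
  intro h
  have h1 : S.Tg 1 0 = S.Tg 0 0 := by
    rw [Tg_zero]
    exact congrArg Subtype.val h
  exact one_ne_zero (S.Tg_injective h1).1

include S in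
theorem isSimpleGroup_Sz (hm : 1 ≤ m) (hF : Fintype.card F = 2 ^ (2 * m + 1)) :
    IsSimpleGroup (Cfsg.Sz F m) := by
  have : Nontrivial (Cfsg.Sz F m) := ⟨⟨S.TgSz 1 0, 1, S.TgSz_ne_one⟩⟩
  refine ⟨fun N hN => ?_⟩
  by_cases h : N = ⊥
  · exact Or.inl h
  · exact Or.inr (S.eq_top_of_normal hm hF N h)

end group

end SzData

end Cfsg.Agent.Helper2.Sz
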