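import Mathlib
import Cfsg.Agent.Lib.Helper2.SzSimple
import Cfsg.Agent.Lib.Helper2.IrrGal

set_option autoImplicit false
set_option linter.unusedSectionVars false
set_option linter.unusedSimpArgs false

namespace Cfsg.Agent.Helper2.Sz

open Matrix Cfsg.Agent.S0335
open scoped Pointwise commutatorElement

/-- a prime dividing `q ^ 2 + 1` does not divide `q ^ d - 1` for `d ≤ 3` -/
theorem not_dvd_pow_sub_one {p q : ℕ} (hp : p.Prime) (hp2 : p ≠ 2) (hq : 1 ≤ q)
    (h : p ∣ q ^ 2 + 1) (d : ℕ) (hd1 : 1 ≤ d) (hd3 : d ≤ 3) : ¬ p ∣ q ^ d - 1 := by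
  intro hd
  have h1 : ((q : ZMod p)) ^ 2 = -1 := by
    have := (ZMod.natCast_eq_zero_iff (q ^ 2 + 1) p).2 h
    push_cast at this
    linear_combination this
  have h2 : ((q : ZMod p)) ^ d = 1 := by
    have := (ZMod.natCast_eq_zero_iff (q ^ d - 1) p).2 hd
    rw [Nat.cast_sub (Nat.one_le_pow _ _ hq)] at this
    push_cast at this
    linear_combination this
  have h3 : (2 : ZMod p) = 0 := by
    interval_cases d
    · rw [pow_one] at h2
      rw [h2] at h1
      linear_combination h1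
    · linear_combination h1 - h2
    · have h4 : (q : ZMod p) = -1 := by
        have : (q : ZMod p) ^ 3 = (q : ZMod p) ^ 2 * q := by ring
        rw [this, h1] at h2
        linear_combination -h2
      rw [h4] at h1
      linear_combination h1
  have h4 : p ∣ 2 := by
    have : ((2 : ℕ) : ZMod p) = 0 := by exact_mod_cast h3
    exact (ZMod.natCast_eq_zero_iff 2 p).1 this
  exact hp2 ((Nat.prime_dvd_prime_iff_eq hp Nat.prime_two).1 h4)

/-- the matrix of an element of the special linear group, as a homomorphism -/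
def toMatHom (F : Type*) [Field F] :
    SpecialLinearGroup (Fin 4) F →* Matrix (Fin 4) (Fin 4) F where
  toFun g := g.1
  map_one' := rfl
  map_mul' _ _ := rfl

theorem toMatHom_injective (F : Type*) [Field F] : Function.Injective (toMatHom F) :=
  fun _ _ h => Subtype.ext h

variable {F : Type*} [Field F] {m : ℕ} (S : SzData F m)

namespace SzData

include S in
theorem natCast_ne_zero_of_odd {p : ℕ} (hp : Odd p) : (p : F) ≠ 0 := by
  obtain ⟨k, rfl⟩ := hp
  push_cast
  rw [S.h2, zero_mul, zero_add]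
  exact one_ne_zero

section group
variable [Fintype F]

include S in
/-- elements of prime order dividing `q ^ 2 + 1` are irreducible -/
theorem irrData_of_prime_order (hF : Fintype.card F = 2 ^ (2 * m + 1))
    {g : SpecialLinearGroup (Fin 4) F} {p : ℕ} (hp : p.Prime) (hp2 : p ≠ 2)
    (hdvd : p ∣ (2 ^ (2 * m + 1)) ^ 2 + 1) (hg : g ^ p = 1) (hg1 : g ≠ 1) :
    IrrMat.IrrData g.1 p where
  prime := hp
  pow := by
    have := congrArg Subtype.val hg
    rw [Matrix.SpecialLinearGroup.coe_pow] at this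
    exact this
  ne_one := fun h => hg1 (Subtype.ext h)
  ndvd := by
    rw [hF]
    exact not_dvd_pow_sub_one hp hp2 Nat.one_le_two_pow hdvd
  cast_ne := S.natCast_ne_zero_of_odd (hp.odd_of_ne_two hp2)

include S in
/-- a `p`-subgroup for `p` dividing `q - 1` fixes two points of the ovoid -/
theorem exists_two_fixed (hF : Fintype.card F = 2 ^ (2 * m + 1)) {p : ℕ} [hpf : Fact p.Prime]
    (hp2 : p ≠ 2) (hpq : p ∣ 2 ^ (2 * m + 1) - 1) (P : Subgroup (Cfsg.Sz F m))
    (hP : IsPGroup p P) :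
    ∃ a b : Projectivization F (Fin 4 → F), a ∈ Cfsg.suzukiOvoid F m ∧
      b ∈ Cfsg.suzukiOvoid F m ∧ a ≠ b ∧
      ∀ x ∈ P, ((x : Cfsg.Sz F m) : SpecialLinearGroup (Fin 4) F) • a = a ∧
        ((x : Cfsg.Sz F m) : SpecialLinearGroup (Fin 4) F) • b = b := by
  have h1 := hP.card_modEq_card_fixedPoints (Cfsg.suzukiOvoid F m)
  rw [Cfsg.Agent.S0326.result, hF] at h1
  have hq1 : 2 ^ (2 * m + 1) ≡ 1 [MOD p] :=
    ((Nat.modEq_iff_dvd' Nat.one_le_two_pow).2 hpq).symm
  have h2 : (2 ^ (2 * m + 1)) ^ 2 + 1 ≡ 2 [MOD p] := by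
    have := (hq1.pow 2).add_right 1
    simpa using this
  have h3 : 2 ≡ Nat.card (MulAction.fixedPoints P (Cfsg.suzukiOvoid F m)) [MOD p] :=
    h2.symm.trans h1
  have hp3 : 3 ≤ p := by
    have := hpf.out.two_le
    omega
  have h4 : 1 < Nat.card (MulAction.fixedPoints P (Cfsg.suzukiOvoid F m)) := by
    by_contra hle
    have hle' : Nat.card (MulAction.fixedPoints P (Cfsg.suzukiOvoid F m)) ≤ 1 := by omega
    have h5 := (Nat.modEq_iff_dvd' (by omega)).1 h3.symm
    have h6 : 2 - Nat.card (MulAction.fixedPoints P (Cfsg.suzukiOvoid F m)) ≤ 2 := by omega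
    have h7 : 0 < 2 - Nat.card (MulAction.fixedPoints P (Cfsg.suzukiOvoid F m)) := by omega
    have := Nat.le_of_dvd h7 h5
    omega
  rw [Finite.one_lt_card_iff_nontrivial] at h4
  obtain ⟨⟨a, ha⟩, ⟨b, hb⟩, hab⟩ := h4
  refine ⟨a.1, b.1, a.2, b.2, fun h => hab (Subtype.ext (Subtype.ext h)), ?_⟩
  intro x hx
  exact ⟨congrArg Subtype.val (ha ⟨x, hx⟩), congrArg Subtype.val (hb ⟨x, hx⟩)⟩

/-- the two point stabilizers are conjugate to the torus -/
theorem exists_conj_torus (hm : 1 ≤ m) (hF : Fintype.card F = 2 ^ (2 * m + 1))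
    {a b : Projectivization F (Fin 4 → F)} (ha : a ∈ Cfsg.suzukiOvoid F m)
    (hb : b ∈ Cfsg.suzukiOvoid F m) (hab : a ≠ b) :
    ∃ g : Cfsg.Sz F m, ∀ x : Cfsg.Sz F m,
      (x : SpecialLinearGroup (Fin 4) F) • a = a → (x : SpecialLinearGroup (Fin 4) F) • b = b →
      ∃ u : Fˣ, g⁻¹ * x * g = S.DgSz u := by
  obtain ⟨g, hg, h1, h2⟩ := S.exists_smul_pair ha hb hab
  refine ⟨⟨g, hg⟩, ?_⟩
  intro x hxa hxb
  have hmem : g⁻¹ * (x : SpecialLinearGroup (Fin 4) F) * g ∈ Cfsg.Sz F m :=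
    (Cfsg.Sz F m).mul_mem ((Cfsg.Sz F m).mul_mem ((Cfsg.Sz F m).inv_mem hg) x.2) hg
  have e1 : (g⁻¹ * (x : SpecialLinearGroup (Fin 4) F) * g) • pInf F = pInf F := by
    rw [mul_smul, mul_smul, h1, hxa, ← h1, inv_smul_smul]
  have e2 : (g⁻¹ * (x : SpecialLinearGroup (Fin 4) F) * g) • S.pt 0 0 = S.pt 0 0 := by
    rw [mul_smul, mul_smul, h2, hxb, ← h2, inv_smul_smul]
  obtain ⟨u, hu⟩ := S.eq_Dg_of_fix hm hF hmem e1 e2
  exact ⟨u, Subtype.ext hu⟩

end group

end SzData

end Cfsg.Agent.Helper2.Sz
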