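import Mathlib
import Cfsg.Agent.Lib.Helper2.SzOdd

set_option autoImplicit false
set_option linter.unusedSectionVars false
set_option linter.unusedSimpArgs false

namespace Cfsg.Agent.Helper2.Sz

open Matrix Cfsg.Agent.S0335
open scoped Pointwise commutatorElement

theorem prime_dvd_order {p q : ℕ} (hp : p.Prime) (hp2 : p ≠ 2) (hq : ∃ k, q = 2 ^ k)
    (h : p ∣ q ^ 2 * (q ^ 2 + 1) * (q - 1)) : p ∣ q ^ 2 + 1 ∨ p ∣ q - 1 := by
  rcases (Nat.Prime.dvd_mul hp).1 h with h | h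
  · rcases (Nat.Prime.dvd_mul hp).1 h with h | h
    · exfalso
      have h1 := hp.dvd_of_dvd_pow h
      obtain ⟨k, hk⟩ := hq
      rw [hk] at h1
      have h2 := hp.dvd_of_dvd_pow h1
      exact hp2 ((Nat.prime_dvd_prime_iff_eq hp Nat.prime_two).1 h2)
    · exact Or.inl h
  · exact Or.inr h

variable {F : Type*} [Field F] {m : ℕ} (S : SzData F m)

namespace SzData

theorem unit_eq_one_of {u : Fˣ} (h3 : S.s u * (u : F) ^ 2 = 1) : u = 1 := by
  have h4 : ((u : F) * S.s u) ^ 2 = 1 ^ 2 := by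
    have := congrArg S.s h3
    rw [map_mul, S.hs, map_pow, map_one] at this
    rw [one_pow]
    linear_combination this
  have h5 := S.sq_injective h4
  apply Units.ext
  rw [Units.val_one]
  linear_combination h3 - (u : F) * h5

include S in
theorem unit_eq_one_of_sq {u : Fˣ} (h : u * u = 1) : u = 1 := by
  apply Units.ext
  rw [Units.val_one]
  apply S.sq_injective
  rw [one_pow, pow_two, ← Units.val_mul, h, Units.val_one]

section group
variable [Fintype F]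

/-- the only fixed point of a central involution of the unipotent group -/
theorem eq_pInf_of_Tg_fix {b : F} (hb : b ≠ 0) {p : Projectivization F (Fin 4 → F)}
    (hp : p ∈ Cfsg.suzukiOvoid F m) (h : S.Tg 0 b • p = p) : p = pInf F := by
  rcases (S.mem_ovoid_iff p).1 hp with rfl | ⟨x, y, rfl⟩
  · rfl
  · exfalso
    rw [Tg_smul_pt] at h
    have := (S.pt_injective h).2
    rw [map_zero, zero_mul, add_zero] at this
    apply hb
    linear_combination this

/-- elements commuting with a central involution of the unipotent group are unipotent -/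
theorem mem_Q_of_commute (hm : 1 ≤ m) (hF : Fintype.card F = 2 ^ (2 * m + 1)) {b : F}
    (hb : b ≠ 0) {h : SpecialLinearGroup (Fin 4) F} (hh : h ∈ Cfsg.Sz F m)
    (hcomm : h * S.Tg 0 b = S.Tg 0 b * h) : ∃ a' b' : F, h = S.Tg a' b' := by
  have hfix : h • pInf F = pInf F := by
    apply S.eq_pInf_of_Tg_fix hb (smul_mem_of_mem_Sz hh S.pInf_mem)
    rw [← mul_smul, ← hcomm, mul_smul, Tg_smul_pInf]
  obtain ⟨a', b', u, rfl⟩ := S.exists_Tg_Dg_of_fix hm hF hh hfix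
  have h1 : S.Tg a' b' * S.Dg u * S.Tg 0 b =
      S.Tg (a' + S.s u * 0) (b' + S.s u * (u : F) ^ 2 * b + S.s a' * (S.s u * 0)) * S.Dg u := by
    rw [mul_assoc, Dg_Tg, ← mul_assoc, Tg_mul]
  have h2 : S.Tg 0 b * (S.Tg a' b' * S.Dg u) = S.Tg (0 + a') (b + b' + S.s 0 * a') * S.Dg u := by
    rw [← mul_assoc, Tg_mul]
  rw [h1, h2] at hcomm
  obtain ⟨-, hb2, -⟩ := S.Tg_Dg_injective hcomm
  have h3 : S.s u * (u : F) ^ 2 = 1 := by
    apply mul_right_cancel₀ hb
    rw [map_zero, zero_mul, add_zero, mul_zero, mul_zero, add_zero] at hb2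
    linear_combination hb2
  rw [S.unit_eq_one_of h3, Dg_one, mul_one]
  exact ⟨a', b', rfl⟩

theorem Tg_pow_four (a b : F) : S.Tg a b ^ 4 = 1 := by
  have h1 : S.Tg a b ^ 2 = S.Tg 0 (S.s a * a) := by
    rw [pow_two, Tg_mul, S.add_self, S.add_self, zero_add]
  have h2 : S.Tg a b ^ 4 = (S.Tg a b ^ 2) ^ 2 := by rw [← pow_mul]
  rw [h2, h1, pow_two, Tg_mul, S.add_self, S.add_self, map_zero, zero_mul, add_zero, Tg_zero]

theorem Tg_sq_eq_one {a b : F} (h : S.Tg a b ^ 2 = 1) : a = 0 := by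
  rw [pow_two, Tg_mul, S.add_self, S.add_self, zero_add, ← Tg_zero] at h
  have h1 := (S.Tg_injective h).2
  rcases mul_eq_zero.1 h1 with h2 | h2
  · exact (map_eq_zero S.s).1 h2
  · exact h2

include S in
/-- the centralizer of an involution is a 2-group -/
theorem pow_four_of_commute_involution (hm : 1 ≤ m) (hF : Fintype.card F = 2 ^ (2 * m + 1))
    {x : Cfsg.Sz F m} (hx1 : x ≠ 1) (hx2 : x ^ 2 = 1) {h : Cfsg.Sz F m}
    (hcomm : h * x = x * h) : h ^ 4 = 1 := by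
  have : Fact (Nat.Prime 2) := ⟨Nat.prime_two⟩
  have hp : IsPGroup 2 (Subgroup.zpowers x) := by
    rintro ⟨g, hg⟩
    obtain ⟨n, rfl⟩ := Subgroup.mem_zpowers_iff.1 hg
    refine ⟨1, Subtype.ext ?_⟩
    show (x ^ n) ^ 2 ^ 1 = 1
    rw [pow_one, ← zpow_natCast, ← _root_.zpow_mul, mul_comm, _root_.zpow_mul, zpow_natCast, hx2,
      _root_.one_zpow]
  obtain ⟨P, hP⟩ := hp.exists_le_sylow
  obtain ⟨g, hg⟩ := S.exists_conj_QSz hm hF P
  have hxP : x ∈ (P : Subgroup (Cfsg.Sz F m)) := hP (Subgroup.mem_zpowers _)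
  rw [hg, Subgroup.mem_pointwise_smul_iff_inv_smul_mem] at hxP
  obtain ⟨a, b, hab⟩ := hxP
  have hy : (g⁻¹ * x * g : Cfsg.Sz F m) = S.TgSz a b := by
    apply Subtype.ext
    show ((g⁻¹ * x * g : Cfsg.Sz F m) : SpecialLinearGroup (Fin 4) F) = S.Tg a b
    rw [← hab, ← map_inv, MulAut.smul_def, MulAut.conj_apply, inv_inv]
  have hy2 : S.Tg a b ^ 2 = 1 := by
    have h1 : (g⁻¹ * x * g) ^ 2 = 1 := by
      have h0 := conj_pow (a := g⁻¹) (b := x) (i := 2)
      rw [inv_inv] at h0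
      rw [h0, hx2, mul_one, inv_mul_cancel]
    rw [hy] at h1
    exact congrArg Subtype.val h1
  have ha := S.Tg_sq_eq_one hy2
  subst ha
  have hb : b ≠ 0 := by
    rintro rfl
    apply hx1
    have h1 : g⁻¹ * x * g = 1 := by
      rw [hy]
      apply Subtype.ext
      exact S.Tg_zero
    calc x = g * (g⁻¹ * x * g) * g⁻¹ := by group
      _ = 1 := by rw [h1]; group
  have hcomm' : (g⁻¹ * h * g) * (g⁻¹ * x * g) = (g⁻¹ * x * g) * (g⁻¹ * h * g) := by
    calc (g⁻¹ * h * g) * (g⁻¹ * x * g) = g⁻¹ * (h * x) * g := by group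
      _ = g⁻¹ * (x * h) * g := by rw [hcomm]
      _ = (g⁻¹ * x * g) * (g⁻¹ * h * g) := by group
  rw [hy] at hcomm'
  have hcomm2 : ((g⁻¹ * h * g : Cfsg.Sz F m) : SpecialLinearGroup (Fin 4) F) * S.Tg 0 b =
      S.Tg 0 b * ((g⁻¹ * h * g : Cfsg.Sz F m) : SpecialLinearGroup (Fin 4) F) :=
    congrArg Subtype.val hcomm'
  obtain ⟨a', b', h'⟩ := S.mem_Q_of_commute hm hF hb (g⁻¹ * h * g).2 hcomm2
  have h4 : (g⁻¹ * h * g) ^ 4 = 1 := by
    apply Subtype.ext
    rw [Subgroup.coe_pow, h', S.Tg_pow_four]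
    rfl
  rw [← conj_eq_one_iff (a := g⁻¹), ← conj_pow, inv_inv]
  exact h4

/-- elements commuting with a nontrivial torus element are in the torus -/
theorem mem_torus_of_commute (hm : 1 ≤ m) (hF : Fintype.card F = 2 ^ (2 * m + 1)) {u₀ : Fˣ}
    (hu₀ : u₀ ≠ 1) {h : SpecialLinearGroup (Fin 4) F} (hh : h ∈ Cfsg.Sz F m)
    (hcomm : h * S.Dg u₀ = S.Dg u₀ * h) : ∃ v : Fˣ, h = S.Dg v := by
  have hD1 : S.Dg u₀ ≠ 1 := by
    intro h1
    apply hu₀
    apply S.Dg_injective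
    rw [h1, Dg_one]
  -- the images of the two base points are fixed by the torus element
  have hfa : S.Dg u₀ • (h • pInf F) = h • pInf F := by
    rw [← mul_smul, ← hcomm, mul_smul, Dg_smul_pInf]
  have hfb : S.Dg u₀ • (h • S.pt 0 0) = h • S.pt 0 0 := by
    rw [← mul_smul, ← hcomm, mul_smul, Dg_smul_pt_zero]
  have hma : h • pInf F ∈ Cfsg.suzukiOvoid F m := smul_mem_of_mem_Sz hh S.pInf_mem
  have hmb : h • S.pt 0 0 ∈ Cfsg.suzukiOvoid F m := smul_mem_of_mem_Sz hh (S.pt_mem 0 0)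
  have hne : S.pt 0 0 ≠ pInf F := S.pt_ne_pInf 0 0
  have hcase : ∀ q ∈ Cfsg.suzukiOvoid F m, S.Dg u₀ • q = q → q = pInf F ∨ q = S.pt 0 0 := by
    intro q hq hfix
    by_contra hcon
    have h1 : ¬ q = pInf F := fun h => hcon (Or.inl h)
    have h2 : ¬ q = S.pt 0 0 := fun h => hcon (Or.inr h)
    apply hD1
    exact S.eq_one_of_fix_three hm hF (S.Dg_mem u₀) S.pInf_mem (S.pt_mem 0 0) hq
      hne.symm (Ne.symm h2) (Ne.symm h1) (S.Dg_smul_pInf u₀) (S.Dg_smul_pt_zero u₀) hfix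
  have hinj : h • pInf F ≠ h • S.pt 0 0 := fun h0 => hne (MulAction.injective h h0).symm
  rcases hcase _ hma hfa with ha | ha
  · -- both points fixed
    have hb : h • S.pt 0 0 = S.pt 0 0 := by
      rcases hcase _ hmb hfb with hb | hb
      · exact absurd (ha.trans hb.symm) hinj
      · exact hb
    exact S.eq_Dg_of_fix hm hF hh ha hb
  · -- the points are swapped: impossible
    exfalso
    have hb : h • S.pt 0 0 = pInf F := by
      rcases hcase _ hmb hfb with hb | hb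
      · exact hb
      · exact absurd (ha.trans hb.symm) hinj
    have hW : Wg F * h ∈ Cfsg.Sz F m := (Cfsg.Sz F m).mul_mem S.Wg_mem hh
    have e1 : (Wg F * h) • pInf F = pInf F := by
      rw [mul_smul, ha, S.Wg_smul_pt_zero]
    have e2 : (Wg F * h) • S.pt 0 0 = S.pt 0 0 := by
      rw [mul_smul, hb, S.Wg_smul_pInf]
    obtain ⟨v, hv⟩ := S.eq_Dg_of_fix hm hF hW e1 e2
    have hh' : h = Wg F * S.Dg v := by
      rw [← hv, ← mul_assoc, Wg_mul_Wg, one_mul]
    rw [hh'] at hcomm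
    have h3 : S.Dg u₀ * Wg F = Wg F * S.Dg u₀⁻¹ := by
      rw [← S.Wg_Dg_Wg u₀, ← mul_assoc, ← mul_assoc, Wg_mul_Wg, one_mul]
    have h4 : Wg F * S.Dg (v * u₀) = Wg F * S.Dg (u₀⁻¹ * v) := by
      rw [← Dg_mul, ← Dg_mul, ← mul_assoc, ← mul_assoc, ← h3]
      rw [hcomm, mul_assoc]
    have h5 := S.Dg_injective (mul_left_cancel h4)
    apply hu₀
    apply S.unit_eq_one_of_sq
    calc u₀ * u₀ = u₀ * (v * u₀) * v⁻¹ := by rw [mul_comm v u₀, mul_assoc, mul_assoc,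
          mul_inv_cancel, mul_one]
      _ = u₀ * (u₀⁻¹ * v) * v⁻¹ := by rw [h5]
      _ = 1 := by rw [← mul_assoc, mul_inv_cancel, one_mul, mul_inv_cancel]

include S in
/-- the centralizer of an element of odd prime order dividing `q - 1` is commutative -/
theorem commute_of_commute_split (hm : 1 ≤ m) (hF : Fintype.card F = 2 ^ (2 * m + 1)) {p : ℕ}
    [hpf : Fact p.Prime] (hp2 : p ≠ 2) (hpq : p ∣ 2 ^ (2 * m + 1) - 1)
    {x : Cfsg.Sz F m} (hx : orderOf x = p) {h₁ h₂ : Cfsg.Sz F m}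
    (hc₁ : h₁ * x = x * h₁) (hc₂ : h₂ * x = x * h₂) : h₁ * h₂ = h₂ * h₁ := by
  have hP : IsPGroup p (Subgroup.zpowers x) := by
    apply IsPGroup.of_card (n := 1)
    rw [Nat.card_zpowers, hx, pow_one]
  obtain ⟨a, b, ha, hb, hab, hfix⟩ := S.exists_two_fixed hF hp2 hpq (Subgroup.zpowers x) hP
  obtain ⟨hxa, hxb⟩ := hfix x (Subgroup.mem_zpowers x)
  obtain ⟨g, hg⟩ := S.exists_conj_torus hm hF ha hb hab
  obtain ⟨u₀, hu₀⟩ := hg x hxa hxb
  have hx1 : x ≠ 1 := by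
    intro h1
    rw [h1, orderOf_one] at hx
    exact hpf.out.one_lt.ne hx
  have hu₀1 : u₀ ≠ 1 := by
    rintro rfl
    apply hx1
    rw [map_one] at hu₀
    calc x = g * (g⁻¹ * x * g) * g⁻¹ := by group
      _ = 1 := by rw [hu₀]; group
  have key : ∀ h : Cfsg.Sz F m, h * x = x * h → ∃ v : Fˣ, g⁻¹ * h * g = S.DgSz v := by
    intro h hc
    have hcomm' : (g⁻¹ * h * g) * (g⁻¹ * x * g) = (g⁻¹ * x * g) * (g⁻¹ * h * g) := by
      calc (g⁻¹ * h * g) * (g⁻¹ * x * g) = g⁻¹ * (h * x) * g := by group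
        _ = g⁻¹ * (x * h) * g := by rw [hc]
        _ = (g⁻¹ * x * g) * (g⁻¹ * h * g) := by group
    rw [hu₀] at hcomm'
    have hcomm2 : ((g⁻¹ * h * g : Cfsg.Sz F m) : SpecialLinearGroup (Fin 4) F) * S.Dg u₀ =
        S.Dg u₀ * ((g⁻¹ * h * g : Cfsg.Sz F m) : SpecialLinearGroup (Fin 4) F) :=
      congrArg Subtype.val hcomm'
    obtain ⟨v, hv⟩ := S.mem_torus_of_commute hm hF hu₀1 (g⁻¹ * h * g).2 hcomm2
    exact ⟨v, Subtype.ext hv⟩
  obtain ⟨v₁, hv₁⟩ := key h₁ hc₁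
  obtain ⟨v₂, hv₂⟩ := key h₂ hc₂
  have e1 : h₁ = g * S.DgSz v₁ * g⁻¹ := by rw [← hv₁]; group
  have e2 : h₂ = g * S.DgSz v₂ * g⁻¹ := by rw [← hv₂]; group
  rw [e1, e2]
  calc g * S.DgSz v₁ * g⁻¹ * (g * S.DgSz v₂ * g⁻¹) = g * (S.DgSz v₁ * S.DgSz v₂) * g⁻¹ := by group
    _ = g * (S.DgSz v₂ * S.DgSz v₁) * g⁻¹ := by rw [← map_mul, ← map_mul, mul_comm]
    _ = g * S.DgSz v₂ * g⁻¹ * (g * S.DgSz v₁ * g⁻¹) := by group

include S in
/-- the centralizer of an element of odd prime order dividing `q ^ 2 + 1` is commutative -/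
theorem commute_of_commute_twisted (hF : Fintype.card F = 2 ^ (2 * m + 1)) {p : ℕ}
    (hp : p.Prime) (hp2 : p ≠ 2) (hpq : p ∣ (2 ^ (2 * m + 1)) ^ 2 + 1)
    {x : Cfsg.Sz F m} (hx : orderOf x = p) {h₁ h₂ : Cfsg.Sz F m}
    (hc₁ : h₁ * x = x * h₁) (hc₂ : h₂ * x = x * h₂) : h₁ * h₂ = h₂ * h₁ := by
  have hx1 : x ≠ 1 := by
    intro h1
    rw [h1, orderOf_one] at hx
    exact hp.one_lt.ne hx
  have hxp : (x : SpecialLinearGroup (Fin 4) F) ^ p = 1 := by
    have h1 : x ^ p = 1 := by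
      have := pow_orderOf_eq_one x
      rwa [hx] at this
    exact congrArg Subtype.val h1
  have hx1' : (x : SpecialLinearGroup (Fin 4) F) ≠ 1 := fun h => hx1 (Subtype.ext h)
  have hirr := S.irrData_of_prime_order hF hp hp2 hpq hxp hx1'
  let φ : Subgroup.centralizer ({x} : Set (Cfsg.Sz F m)) →* Matrix (Fin 4) (Fin 4) F :=
    (toMatHom F).comp ((Cfsg.Sz F m).subtype.comp
      (Subgroup.centralizer ({x} : Set (Cfsg.Sz F m))).subtype)
  have hφ : Function.Injective φ := by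
    intro y z hyz
    exact Subtype.ext (Subtype.ext (toMatHom_injective F hyz))
  have hcyc : IsCyclic (Subgroup.centralizer ({x} : Set (Cfsg.Sz F m))) := by
    apply IrrMat.isCyclic_of_commute hirr φ hφ
    intro y
    have h1 : x * y.1 = y.1 * x := Subgroup.mem_centralizer_iff.1 y.2 x rfl
    exact congrArg (fun z : Cfsg.Sz F m => (z : SpecialLinearGroup (Fin 4) F).1) h1
  have hm₁ : h₁ ∈ Subgroup.centralizer ({x} : Set (Cfsg.Sz F m)) := by
    rw [Subgroup.mem_centralizer_iff]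
    rintro y rfl
    exact hc₁.symm
  have hm₂ : h₂ ∈ Subgroup.centralizer ({x} : Set (Cfsg.Sz F m)) := by
    rw [Subgroup.mem_centralizer_iff]
    rintro y rfl
    exact hc₂.symm
  have hcomm := (IsCyclic.commGroup (α := Subgroup.centralizer ({x} : Set (Cfsg.Sz F m)))).mul_comm
    ⟨h₁, hm₁⟩ ⟨h₂, hm₂⟩
  exact congrArg Subtype.val hcomm

end group

end SzData

end Cfsg.Agent.Helper2.Sz
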