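import Mathlib
import Cfsg.Agent.Lib.Helper2.SzCN

set_option autoImplicit false
set_option linter.unusedSectionVars false
set_option linter.unusedSimpArgs false

namespace Cfsg.Agent.Helper2.Sz

open Matrix Cfsg.Agent.S0335
open scoped Pointwise commutatorElement

variable {F : Type*} [Field F] {m : ℕ} (S : SzData F m)

namespace SzData

theorem Tg_fix_pt {a b x y : F} (h : S.Tg a b • S.pt x y = S.pt x y) : a = 0 ∧ b = 0 := by
  rw [Tg_smul_pt] at h
  obtain ⟨h1, h2⟩ := S.pt_injective h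
  have ha : a = 0 := by linear_combination h1
  subst ha
  rw [map_zero, zero_mul, add_zero] at h2
  exact ⟨rfl, by linear_combination h2⟩

/-- a nontrivial element of the unipotent subgroup fixes only the point at infinity -/
theorem eq_pInf_of_Tg_fix' {a b : F} (hab : ¬ (a = 0 ∧ b = 0))
    {p : Projectivization F (Fin 4 → F)}
    (hp : p ∈ Cfsg.suzukiOvoid F m) (h : S.Tg a b • p = p) : p = pInf F := by
  rcases (S.mem_ovoid_iff p).1 hp with rfl | ⟨x, y, rfl⟩
  · rfl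
  · exact absurd (S.Tg_fix_pt h) hab

section group
variable [Fintype F]

include S in
/-- the stabilizer of the point at infinity normalizes the unipotent subgroup -/
theorem conj_mem_QSz (hm : 1 ≤ m) (hF : Fintype.card F = 2 ^ (2 * m + 1))
    {g : Cfsg.Sz F m} (hg : g ∈ MulAction.stabilizer (Cfsg.Sz F m) (pInf F))
    {h : Cfsg.Sz F m} (hh : h ∈ S.QSz) : g * h * g⁻¹ ∈ S.QSz := by
  rw [MulAction.mem_stabilizer_iff, Subgroup.smul_def] at hg
  obtain ⟨a, b, u, hgabu⟩ := S.exists_Tg_Dg_of_fix hm hF g.2 hg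
  obtain ⟨c, d, hcd⟩ := hh
  rw [mem_QSz]
  rw [Subgroup.coe_mul, Subgroup.coe_mul, Subgroup.coe_inv, hgabu, hcd, _root_.mul_inv_rev,
    Tg_inv, Dg_inv]
  have h1 : S.Tg a b * S.Dg u * S.Tg c d * ((S.Dg u⁻¹) * S.Tg a (b + S.s a * a)) =
      S.Tg a b * (S.Dg u * S.Tg c d) * S.Dg u⁻¹ * S.Tg a (b + S.s a * a) := by
    simp only [mul_assoc]
  rw [h1, Dg_Tg]
  have h2 : S.Tg a b * (S.Tg (S.s u * c) (S.s u * (u : F) ^ 2 * d) * S.Dg u) * S.Dg u⁻¹ *
      S.Tg a (b + S.s a * a) =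
      S.Tg a b * S.Tg (S.s u * c) (S.s u * (u : F) ^ 2 * d) * (S.Dg u * S.Dg u⁻¹) *
      S.Tg a (b + S.s a * a) := by
    simp only [mul_assoc]
  rw [h2, Dg_mul, mul_inv_cancel, Dg_one, mul_one, Tg_mul, Tg_mul]
  exact ⟨_, _, rfl⟩

include S in
theorem normalizer_QSz (hm : 1 ≤ m) (hF : Fintype.card F = 2 ^ (2 * m + 1)) :
    Subgroup.normalizer (S.QSz : Set (Cfsg.Sz F m)) =
      MulAction.stabilizer (Cfsg.Sz F m) (pInf F) := by
  ext g
  constructor
  · intro hg
    rw [MulAction.mem_stabilizer_iff, Subgroup.smul_def]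
    have h1 : g⁻¹ * S.TgSz 0 1 * g ∈ S.QSz :=
      (Subgroup.mem_normalizer_iff''.1 hg _).1 (S.TgSz_mem 0 1)
    have h2 : (g⁻¹ * S.TgSz 0 1 * g : Cfsg.Sz F m) ∈
        MulAction.stabilizer (Cfsg.Sz F m) (pInf F) := S.QSz_le_stabilizer h1
    rw [MulAction.mem_stabilizer_iff, Subgroup.smul_def] at h2
    apply S.eq_pInf_of_Tg_fix (b := 1) one_ne_zero (smul_mem_of_mem_Sz g.2 S.pInf_mem)
    have h3 : ((g⁻¹ * S.TgSz 0 1 * g : Cfsg.Sz F m) : SpecialLinearGroup (Fin 4) F) =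
        (g : SpecialLinearGroup (Fin 4) F)⁻¹ * S.Tg 0 1 * (g : SpecialLinearGroup (Fin 4) F) := rfl
    rw [h3, mul_smul, mul_smul, inv_smul_eq_iff] at h2
    exact h2
  · intro hg
    rw [Subgroup.mem_normalizer_iff]
    intro h
    constructor
    · intro hh
      exact S.conj_mem_QSz hm hF hg hh
    · intro hh
      have hg' : g⁻¹ ∈ MulAction.stabilizer (Cfsg.Sz F m) (pInf F) := Subgroup.inv_mem _ hg
      have := S.conj_mem_QSz hm hF hg' hh
      rw [inv_inv] at this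
      have e : g⁻¹ * (g * h * g⁻¹) * g = h := by group
      rwa [e] at this

include S in
theorem stabilizer_ne_top :
    MulAction.stabilizer (Cfsg.Sz F m) (pInf F) ≠ ⊤ := by
  intro h
  have h1 : S.WgSz ∈ MulAction.stabilizer (Cfsg.Sz F m) (pInf F) := by
    rw [h]; exact Subgroup.mem_top _
  rw [MulAction.mem_stabilizer_iff, Subgroup.smul_def] at h1
  have h2 : Wg F • pInf F = pInf F := h1
  rw [S.Wg_smul_pInf] at h2
  exact S.pt_ne_pInf 0 0 h2

include S in
/-- a subgroup containing the unipotent subgroup and moving the point at infinity is transitive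
on the ovoid -/
theorem exists_mem_smul_eq {M : Subgroup (Cfsg.Sz F m)} (hQ : S.QSz ≤ M) {g : Cfsg.Sz F m}
    (hgM : g ∈ M) (hg : (g : SpecialLinearGroup (Fin 4) F) • pInf F ≠ pInf F)
    {p : Projectivization F (Fin 4 → F)} (hp : p ∈ Cfsg.suzukiOvoid F m) :
    ∃ k ∈ M, (k : SpecialLinearGroup (Fin 4) F) • pInf F = p := by
  rcases (S.mem_ovoid_iff p).1 hp with rfl | ⟨x, y, rfl⟩
  · exact ⟨1, M.one_mem, one_smul _ _⟩
  · rcases (S.mem_ovoid_iff _).1 (smul_mem_of_mem_Sz g.2 S.pInf_mem) with h | ⟨x₀, y₀, h⟩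
    · exact absurd h hg
    · refine ⟨S.TgSz (x + x₀) (y + y₀ + S.s (x + x₀) * x₀) * g,
        M.mul_mem (hQ (S.TgSz_mem _ _)) hgM, ?_⟩
      have e : ((S.TgSz (x + x₀) (y + y₀ + S.s (x + x₀) * x₀) * g : Cfsg.Sz F m) :
          SpecialLinearGroup (Fin 4) F) =
          S.Tg (x + x₀) (y + y₀ + S.s (x + x₀) * x₀) * (g : SpecialLinearGroup (Fin 4) F) := rfl
      rw [e, mul_smul, h, Tg_smul_pt]
      congr 1
      · have := S.add_self x₀
        linear_combination this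
      · have h1 := S.add_self y₀
        have h2 := S.add_self (S.s (x + x₀) * x₀)
        linear_combination h1 + h2

include S in
/-- a subgroup containing a Sylow 2-subgroup and moving its fixed point is everything -/
theorem eq_top_of_QSz_le (hm : 1 ≤ m) (hF : Fintype.card F = 2 ^ (2 * m + 1))
    {M : Subgroup (Cfsg.Sz F m)} (hQ : S.QSz ≤ M) {g : Cfsg.Sz F m}
    (hgM : g ∈ M) (hg : (g : SpecialLinearGroup (Fin 4) F) • pInf F ≠ pInf F) : M = ⊤ := by
  have hN : Subgroup.normalClosure (S.QSz : Set (Cfsg.Sz F m)) ≠ ⊥ := by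
    intro h
    have h1 : S.TgSz 1 0 ∈ Subgroup.normalClosure (S.QSz : Set (Cfsg.Sz F m)) :=
      Subgroup.subset_normalClosure (S.TgSz_mem 1 0)
    rw [h, Subgroup.mem_bot] at h1
    exact S.TgSz_ne_one h1
  have htop := S.eq_top_of_normal hm hF _ hN
  rw [eq_top_iff, ← htop]
  unfold Subgroup.normalClosure
  rw [Subgroup.closure_le]
  intro x hx
  rw [Group.mem_conjugatesOfSet_iff] at hx
  obtain ⟨a, ha, hax⟩ := hx
  rw [isConj_iff] at hax
  obtain ⟨c, rfl⟩ := hax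
  obtain ⟨k, hkM, hk⟩ := S.exists_mem_smul_eq hQ hgM hg (smul_mem_of_mem_Sz c.2 S.pInf_mem)
  have hn : k⁻¹ * c ∈ MulAction.stabilizer (Cfsg.Sz F m) (pInf F) := by
    rw [MulAction.mem_stabilizer_iff, Subgroup.smul_def]
    have e : ((k⁻¹ * c : Cfsg.Sz F m) : SpecialLinearGroup (Fin 4) F) =
        (k : SpecialLinearGroup (Fin 4) F)⁻¹ * (c : SpecialLinearGroup (Fin 4) F) := rfl
    rw [e, mul_smul, inv_smul_eq_iff, hk]
  have h1 := S.conj_mem_QSz hm hF hn ha
  have e2 : c * a * c⁻¹ = k * ((k⁻¹ * c) * a * (k⁻¹ * c)⁻¹) * k⁻¹ := by group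
  rw [SetLike.mem_coe, e2]
  exact M.mul_mem (M.mul_mem hkM (hQ h1)) (M.inv_mem hkM)

include S in
theorem isCoatom_normalizer_QSz (hm : 1 ≤ m) (hF : Fintype.card F = 2 ^ (2 * m + 1)) :
    IsCoatom (Subgroup.normalizer (S.QSz : Set (Cfsg.Sz F m))) := by
  rw [S.normalizer_QSz hm hF]
  refine ⟨S.stabilizer_ne_top, ?_⟩
  intro M hM
  obtain ⟨g, hgM, hgn⟩ := SetLike.exists_of_lt hM
  apply S.eq_top_of_QSz_le hm hF (le_trans S.QSz_le_stabilizer hM.le) hgM
  intro h
  apply hgn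
  rw [MulAction.mem_stabilizer_iff, Subgroup.smul_def]
  exact h

include S in
theorem eq_normalizer_of_isCoatom (hm : 1 ≤ m) (hF : Fintype.card F = 2 ^ (2 * m + 1))
    {M : Subgroup (Cfsg.Sz F m)} (hM : IsCoatom M) (hQ : S.QSz ≤ M) :
    M = Subgroup.normalizer (S.QSz : Set (Cfsg.Sz F m)) := by
  rw [S.normalizer_QSz hm hF]
  by_cases hle : M ≤ MulAction.stabilizer (Cfsg.Sz F m) (pInf F)
  · rcases eq_or_lt_of_le hle with h | h
    · exact h
    · exact absurd (hM.2 _ h) S.stabilizer_ne_top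
  · exfalso
    obtain ⟨g, hgM, hgn⟩ := SetLike.not_le_iff_exists.1 hle
    apply hM.1
    apply S.eq_top_of_QSz_le hm hF hQ hgM
    intro h
    apply hgn
    rw [MulAction.mem_stabilizer_iff, Subgroup.smul_def]
    exact h

include S in
/-- the Borel subgroups are maximal, and the only maximal subgroups over a Sylow 2-subgroup -/
theorem borel_maximal (hm : 1 ≤ m) (hF : Fintype.card F = 2 ^ (2 * m + 1))
    (P : Sylow 2 (Cfsg.Sz F m)) :
    IsCoatom (Subgroup.normalizer ((P : Subgroup (Cfsg.Sz F m)) : Set (Cfsg.Sz F m))) ∧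
    ∀ M : Subgroup (Cfsg.Sz F m), IsCoatom M → (P : Subgroup (Cfsg.Sz F m)) ≤ M →
      M = Subgroup.normalizer ((P : Subgroup (Cfsg.Sz F m)) : Set (Cfsg.Sz F m)) := by
  obtain ⟨g, hg⟩ := S.exists_conj_QSz hm hF P
  have hmap : (P : Subgroup (Cfsg.Sz F m)) = S.QSz.map (MulAut.conj g).toMonoidHom := by
    rw [hg]; rfl
  have hnorm : Subgroup.normalizer ((P : Subgroup (Cfsg.Sz F m)) : Set (Cfsg.Sz F m)) =
      (MulAut.conj g).mapSubgroup (Subgroup.normalizer (S.QSz : Set (Cfsg.Sz F m))) := by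
    rw [hmap, ← Subgroup.map_equiv_normalizer_eq]
    rfl
  constructor
  · rw [hnorm, OrderIso.isCoatom_iff]
    exact S.isCoatom_normalizer_QSz hm hF
  · intro M hM hPM
    rw [hnorm]
    have hM' : IsCoatom ((MulAut.conj g).mapSubgroup.symm M) := by
      rw [← OrderIso.isCoatom_iff (MulAut.conj g).mapSubgroup, OrderIso.apply_symm_apply]
      exact hM
    have hQ' : S.QSz ≤ (MulAut.conj g).mapSubgroup.symm M := by
      rw [← (MulAut.conj g).mapSubgroup.le_iff_le, OrderIso.apply_symm_apply]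
      rw [hmap] at hPM
      exact hPM
    rw [← S.eq_normalizer_of_isCoatom hm hF hM' hQ', OrderIso.apply_symm_apply]

end group

end SzData

end Cfsg.Agent.Helper2.Sz
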