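import Mathlib
import Cfsg.Agent.Lib.Helper2.SzBorel
import Cfsg.Agent.Lib.Helper2.CosetAct
import Cfsg.Agent.S0327

set_option autoImplicit false
set_option linter.unusedSectionVars false
set_option linter.unusedSimpArgs false

namespace Cfsg.Agent.Helper2.Sz

open Matrix Cfsg.Agent.S0335
open scoped Pointwise

variable {F : Type*} [Field F] {m : ℕ} (S : SzData F m)

namespace SzData

section group
variable [Fintype F]

include S in
/-- the unipotent subgroup acts regularly on the affine points -/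
theorem QSz_regular (x y : Cfsg.suzukiOvoid F m)
    (hx : x ≠ ⟨pInf F, S.pInf_mem⟩) (hy : y ≠ ⟨pInf F, S.pInf_mem⟩) :
    ∃! s : S.QSz, (s : Cfsg.Sz F m) • x = y := by
  obtain ⟨x, hxm⟩ := x
  obtain ⟨y, hym⟩ := y
  rcases (S.mem_ovoid_iff x).1 hxm with rfl | ⟨a, b, rfl⟩
  · exact absurd rfl hx
  rcases (S.mem_ovoid_iff y).1 hym with rfl | ⟨c, d, rfl⟩
  · exact absurd rfl hy
  refine ⟨⟨S.TgSz (c + a) (d + b + S.s (c + a) * a), S.TgSz_mem _ _⟩, ?_, ?_⟩
  · apply Subtype.ext
    show S.Tg (c + a) (d + b + S.s (c + a) * a) • S.pt a b = S.pt c d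
    rw [Tg_smul_pt]
    congr 1
    · have := S.add_self a
      linear_combination this
    · have h1 := S.add_self b
      have h2 := S.add_self (S.s (c + a) * a)
      linear_combination h1 + h2
  · rintro ⟨s', t, u, hs'⟩ hsm
    have h1 : S.Tg t u • S.pt a b = S.pt c d := by
      have := congrArg Subtype.val hsm
      rw [← hs']
      exact this
    rw [Tg_smul_pt] at h1
    obtain ⟨e1, e2⟩ := S.pt_injective h1
    have ht : t = c + a := by
      have := S.add_self a
      linear_combination e1 - this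
    subst ht
    have hu : u = d + b + S.s (c + a) * a := by
      have h1 := S.add_self b
      have h2 := S.add_self (S.s (c + a) * a)
      linear_combination e2 - h1 - h2
    subst hu
    apply Subtype.ext
    apply Subtype.ext
    exact hs'

include S in
/-- the structure of the Suzuki group on the cosets of a Borel subgroup, for any isomorphic copy -/
theorem coset_structure (hm : 1 ≤ m) (hF : Fintype.card F = 2 ^ (2 * m + 1))
    {H : Type*} [Group H] (e : Cfsg.Sz F m ≃* H) :
    Nat.card H = (2 ^ (2 * m + 1)) ^ 2 * (2 ^ (2 * m + 1) - 1) * ((2 ^ (2 * m + 1)) ^ 2 + 1) ∧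
    ∃ P : Sylow 2 H,
      Nat.card (Subgroup.normalizer ((P : Subgroup H) : Set H)) =
        (2 ^ (2 * m + 1)) ^ 2 * (2 ^ (2 * m + 1) - 1) ∧
      (Subgroup.normalizer ((P : Subgroup H) : Set H)).index = (2 ^ (2 * m + 1)) ^ 2 + 1 ∧
      MulAction.IsMultiplyPretransitive H (H ⧸ Subgroup.normalizer ((P : Subgroup H) : Set H)) 2 ∧
      ∀ x y : H ⧸ Subgroup.normalizer ((P : Subgroup H) : Set H),
        x ≠ (QuotientGroup.mk 1) → y ≠ (QuotientGroup.mk 1) →
        ∃! s : (P : Subgroup H), (s : H) • x = y := by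
  have hfact2 : Fact (Nat.Prime 2) := ⟨Nat.prime_two⟩
  have hfin : Finite H := Finite.of_equiv _ e.toEquiv
  have hcardH : Nat.card H =
      (2 ^ (2 * m + 1)) ^ 2 * (2 ^ (2 * m + 1) - 1) * ((2 ^ (2 * m + 1)) ^ 2 + 1) := by
    rw [← Nat.card_congr e.toEquiv, S.card_Sz hm hF]
    ring
  refine ⟨hcardH, ?_⟩
  letI : MulAction H (Cfsg.suzukiOvoid F m) :=
    MulAction.compHom (Cfsg.suzukiOvoid F m) e.symm.toMonoidHom
  have hsmul : ∀ (h : H) (x : Cfsg.suzukiOvoid F m), h • x = e.symm h • x := fun _ _ => rfl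
  obtain ⟨o, hodef⟩ : ∃ o : Cfsg.suzukiOvoid F m, o = ⟨pInf F, S.pInf_mem⟩ := ⟨_, rfl⟩
  -- the Sylow subgroup
  have hP1 : IsPGroup 2 (S.QSz.map e.toMonoidHom) := (S.isPGroup_QSz hF).map _
  have hP2 : ¬ 2 ∣ (S.QSz.map e.toMonoidHom).index := by
    have : (S.QSz.map e.toMonoidHom).index = S.QSz.index := Subgroup.index_map_equiv S.QSz e
    rw [this]
    exact S.not_two_dvd_index_QSz hm hF
  refine ⟨hP1.toSylow hP2, ?_⟩
  have hcoe : ((hP1.toSylow hP2 : Sylow 2 H) : Subgroup H) = S.QSz.map e.toMonoidHom := rfl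
  rw [hcoe]
  -- the normalizer is the stabilizer
  have hstab : ∀ g : Cfsg.Sz F m, g ∈ MulAction.stabilizer (Cfsg.Sz F m) (pInf F) ↔ g • o = o := by
    intro g
    rw [MulAction.mem_stabilizer_iff, hodef, Subtype.ext_iff]
    rfl
  have hN : Subgroup.normalizer ((S.QSz.map e.toMonoidHom : Subgroup H) : Set H) =
      MulAction.stabilizer H o := by
    rw [← Subgroup.map_equiv_normalizer_eq, S.normalizer_QSz hm hF]
    ext h
    rw [Subgroup.mem_map, MulAction.mem_stabilizer_iff, hsmul]
    constructor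
    · rintro ⟨g, hg, rfl⟩
      show e.symm (e g) • o = o
      rw [MulEquiv.symm_apply_apply]
      exact (hstab g).1 hg
    · intro hh
      exact ⟨e.symm h, (hstab _).2 hh, e.apply_symm_apply h⟩
  have hNcard : Nat.card (Subgroup.normalizer ((S.QSz.map e.toMonoidHom : Subgroup H) : Set H)) =
      (2 ^ (2 * m + 1)) ^ 2 * (2 ^ (2 * m + 1) - 1) := by
    rw [← Subgroup.map_equiv_normalizer_eq, S.normalizer_QSz hm hF,
      Subgroup.card_map_of_injective e.injective, S.card_stabilizer_pInf hm hF]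
  refine ⟨hNcard, ?_, ?_⟩
  · have h1 := Subgroup.card_mul_index
      (Subgroup.normalizer ((S.QSz.map e.toMonoidHom : Subgroup H) : Set H))
    rw [hNcard, hcardH] at h1
    have hpos : 0 < (2 ^ (2 * m + 1)) ^ 2 * (2 ^ (2 * m + 1) - 1) := by
      have : 2 ≤ 2 ^ (2 * m + 1) := by
        calc 2 = 2 ^ 1 := by norm_num
          _ ≤ 2 ^ (2 * m + 1) := Nat.pow_le_pow_right (by norm_num) (by omega)
      have h3 : 0 < 2 ^ (2 * m + 1) - 1 := by omega
      positivity
    exact Nat.eq_of_mul_eq_mul_left hpos h1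
  · apply CosetAct.coset_structure (Ω := Cfsg.suzukiOvoid F m) _ o _ _ _ hN
    · intro a b c d hab hcd
      have h2t := (Cfsg.Agent.S0327.result hm hF).2.1
      rw [MulAction.is_two_pretransitive_iff] at h2t
      obtain ⟨g, h1, h2⟩ := h2t hab hcd
      refine ⟨e g, ?_, ?_⟩
      · rw [hsmul, MulEquiv.symm_apply_apply, h1]
      · rw [hsmul, MulEquiv.symm_apply_apply, h2]
    · intro x y hx hy
      rw [hodef] at hx hy
      obtain ⟨s, hs, huniq⟩ := S.QSz_regular x y hx hy
      refine ⟨⟨e s, Subgroup.mem_map_of_mem _ s.2⟩, ?_, ?_⟩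
      · show e (s : Cfsg.Sz F m) • x = y
        rw [hsmul, MulEquiv.symm_apply_apply, hs]
      · rintro ⟨s', q, hq, rfl⟩ hs'
        have h1 : (q : Cfsg.Sz F m) • x = y := by
          have : e q • x = y := hs'
          rw [hsmul, MulEquiv.symm_apply_apply] at this
          exact this
        have h2 := huniq ⟨q, hq⟩ h1
        apply Subtype.ext
        show e q = e s
        rw [← h2]

end group

end SzData

end Cfsg.Agent.Helper2.Sz
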