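import Mathlib
import Cfsg.Agent.Lib.Helper2.SzSimple
import Cfsg.Prelude.Def_Sz

set_option autoImplicit false
set_option linter.unusedSectionVars false
set_option linter.unusedSimpArgs false
set_option linter.unusedVariables false

namespace Cfsg.Agent.Helper2.Sz

open Matrix Cfsg.Agent.S0335

section mats

variable {F : Type*} [Field F]

/-- the line coordinates of the span of two vectors -/
def omega (v y : Fin 4 → F) : Fin 4 → F :=
  ![v 0 * y 1 - v 1 * y 0, v 0 * y 2 - v 2 * y 0, v 1 * y 3 - v 3 * y 1, v 2 * y 3 - v 3 * y 2]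

theorem altB_eq (v y : Fin 4 → F) :
    v 0 * y 3 + v 1 * y 2 + v 2 * y 1 + v 3 * y 0 =
      v ⬝ᵥ ((Wm : Matrix (Fin 4) (Fin 4) F) *ᵥ y) := by
  simp [Wm, dotProduct, Matrix.mulVec, Fin.sum_univ_four]

theorem altForm4_eq (v y : Fin 4 → F) :
    Cfsg.Lie.altForm4 v y = v ⬝ᵥ ((Wm : Matrix (Fin 4) (Fin 4) F) *ᵥ y) := by
  rw [← altB_eq]; rfl

theorem altB_mulVec {g : Matrix (Fin 4) (Fin 4) F} (h : gᵀ * Wm * g = Wm) (v y : Fin 4 → F) :
    (g *ᵥ v) ⬝ᵥ ((Wm : Matrix (Fin 4) (Fin 4) F) *ᵥ (g *ᵥ y)) =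
      v ⬝ᵥ ((Wm : Matrix (Fin 4) (Fin 4) F) *ᵥ y) := by
  rw [← Matrix.vecMul_transpose, ← Matrix.dotProduct_mulVec, Matrix.mulVec_mulVec,
    Matrix.mulVec_mulVec, h]

theorem form_swap {g : Matrix (Fin 4) (Fin 4) F} (h : gᵀ * Wm * g = Wm) :
    g * Wm * gᵀ = Wm := by
  have h1 : (Wm * gᵀ * Wm) * g = 1 := by
    rw [mul_assoc, mul_assoc, ← mul_assoc gᵀ, h, Wm_mul_Wm]
  have h2 : g * (Wm * gᵀ * Wm) = 1 := _root_.mul_eq_one_comm.1 h1
  calc g * Wm * gᵀ = g * (Wm * gᵀ * Wm) * Wm := by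
        simp only [mul_assoc, Wm_mul_Wm, mul_one]
    _ = Wm := by rw [h2, one_mul]

theorem row_rel {g : Matrix (Fin 4) (Fin 4) F} (h : g * Wm * gᵀ = Wm) (k l : Fin 4) :
    g k 0 * g l 3 + g k 1 * g l 2 + g k 2 * g l 1 + g k 3 * g l 0 =
      (Wm : Matrix (Fin 4) (Fin 4) F) k l := by
  have := congrFun (congrFun h k) l
  rw [← this]
  simp [Matrix.mul_apply, Wm, Fin.sum_univ_four]
  ring

theorem det_eq_one_of_form (h2 : (2 : F) = 0) {g : Matrix (Fin 4) (Fin 4) F}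
    (h : gᵀ * Wm * g = Wm) : g.det = 1 := by
  have h1 := congrArg Matrix.det h
  rw [Matrix.det_mul, Matrix.det_mul, Matrix.det_transpose, det_Wm, mul_one] at h1
  have h3 : (g.det - 1) ^ 2 = 0 := by linear_combination h1 + (1 - g.det) * h2
  exact sub_eq_zero.1 (pow_eq_zero_iff two_ne_zero |>.1 h3)

theorem omega_mulVec (h2 : (2 : F) = 0) (g : Matrix (Fin 4) (Fin 4) F)
    (hr01 : g 0 0 * g 1 3 + g 0 1 * g 1 2 + g 0 2 * g 1 1 + g 0 3 * g 1 0 = 0)
    (hr02 : g 0 0 * g 2 3 + g 0 1 * g 2 2 + g 0 2 * g 2 1 + g 0 3 * g 2 0 = 0)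
    (hr13 : g 1 0 * g 3 3 + g 1 1 * g 3 2 + g 1 2 * g 3 1 + g 1 3 * g 3 0 = 0)
    (hr23 : g 2 0 * g 3 3 + g 2 1 * g 3 2 + g 2 2 * g 3 1 + g 2 3 * g 3 0 = 0)
    (v y : Fin 4 → F) (hB : v 0 * y 3 + v 1 * y 2 + v 2 * y 1 + v 3 * y 0 = 0) :
    omega (g *ᵥ v) (g *ᵥ y) = Cfsg.Lie.star4 g *ᵥ omega v y := by
  ext p
  fin_cases p
  · simp [omega, Cfsg.Lie.star4, Cfsg.Lie.pairOf, Matrix.mulVec, dotProduct, Fin.sum_univ_four]
    linear_combination ( g 0 1 * g 1 2 + (-1) * g 0 2 * g 1 1 ) * hB + ( v 0 * y 3 + (-1) * v 3 * y 0 ) * hr01 + ( (-1) * g 0 1 * g 1 2 * v 0 * y 3 + (-1) * g 0 1 * g 1 2 * v 2 * y 1 + g 0 2 * g 1 1 * v 2 * y 1 + g 0 2 * g 1 1 * v 3 * y 0 + (-1) * g 0 3 * g 1 0 * v 0 * y 3 + g 0 3 * g 1 0 * v 3 * y 0 ) * h2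
  · simp [omega, Cfsg.Lie.star4, Cfsg.Lie.pairOf, Matrix.mulVec, dotProduct, Fin.sum_univ_four]
    linear_combination ( g 0 1 * g 2 2 + (-1) * g 0 2 * g 2 1 ) * hB + ( v 0 * y 3 + (-1) * v 3 * y 0 ) * hr02 + ( (-1) * g 0 1 * g 2 2 * v 0 * y 3 + (-1) * g 0 1 * g 2 2 * v 2 * y 1 + g 0 2 * g 2 1 * v 2 * y 1 + g 0 2 * g 2 1 * v 3 * y 0 + (-1) * g 0 3 * g 2 0 * v 0 * y 3 + g 0 3 * g 2 0 * v 3 * y 0 ) * h2
  · simp [omega, Cfsg.Lie.star4, Cfsg.Lie.pairOf, Matrix.mulVec, dotProduct, Fin.sum_univ_four]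
    linear_combination ( g 1 1 * g 3 2 + (-1) * g 1 2 * g 3 1 ) * hB + ( v 0 * y 3 + (-1) * v 3 * y 0 ) * hr13 + ( (-1) * g 1 1 * g 3 2 * v 0 * y 3 + (-1) * g 1 1 * g 3 2 * v 2 * y 1 + g 1 2 * g 3 1 * v 2 * y 1 + g 1 2 * g 3 1 * v 3 * y 0 + (-1) * g 1 3 * g 3 0 * v 0 * y 3 + g 1 3 * g 3 0 * v 3 * y 0 ) * h2
  · simp [omega, Cfsg.Lie.star4, Cfsg.Lie.pairOf, Matrix.mulVec, dotProduct, Fin.sum_univ_four]
    linear_combination ( g 2 1 * g 3 2 + (-1) * g 2 2 * g 3 1 ) * hB + ( v 0 * y 3 + (-1) * v 3 * y 0 ) * hr23 + ( (-1) * g 2 1 * g 3 2 * v 0 * y 3 + (-1) * g 2 1 * g 3 2 * v 2 * y 1 + g 2 2 * g 3 1 * v 2 * y 1 + g 2 2 * g 3 1 * v 3 * y 0 + (-1) * g 2 3 * g 3 0 * v 0 * y 3 + g 2 3 * g 3 0 * v 3 * y 0 ) * h2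

end mats

section abs

variable {F : Type*} [Field F] (s : F →+* F)

/-- absolute vectors of the polarity -/
def Abs (v : Fin 4 → F) : Prop :=
  ∃ (y : Fin 4 → F) (c : F), c ≠ 0 ∧ v 0 * y 3 + v 1 * y 2 + v 2 * y 1 + v 3 * y 0 = 0 ∧
    omega v y = c • (fun i => s (v i))

theorem abs_ev : Abs s (ev : Fin 4 → F) := by
  refine ⟨![0, 1, 0, 0], 1, one_ne_zero, ?_, ?_⟩
  · simp [ev]
  · ext i
    fin_cases i <;> simp [omega, ev]

theorem abs_smul {v : Fin 4 → F} (h : Abs s v) {a : F} (ha : a ≠ 0) : Abs s (a • v) := by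
  obtain ⟨y, c, hc, hB, hω⟩ := h
  have hsa : s a ≠ 0 := (map_ne_zero s).2 ha
  refine ⟨y, a * c / s a, div_ne_zero (mul_ne_zero ha hc) hsa, ?_, ?_⟩
  · simp only [Pi.smul_apply, smul_eq_mul]
    linear_combination a * hB
  · have h0 := congrFun hω 0
    have h1 := congrFun hω 1
    have h2 := congrFun hω 2
    have h3 := congrFun hω 3
    simp [omega] at h0 h1 h2 h3
    ext i
    fin_cases i
    · simp [omega]
      field_simp
      linear_combination h0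
    · simp [omega]
      field_simp
      linear_combination h1
    · simp [omega]
      field_simp
      linear_combination h2
    · simp [omega]
      field_simp
      linear_combination h3

theorem abs_mulVec (h2 : (2 : F) = 0) {g : Matrix (Fin 4) (Fin 4) F} (hform : gᵀ * Wm * g = Wm)
    (hstar : Cfsg.Lie.star4 g = g.map s) {v : Fin 4 → F} (hv : Abs s v) : Abs s (g *ᵥ v) := by
  obtain ⟨y, c, hc, hB, hω⟩ := hv
  have hsw := form_swap hform
  have hr01 := row_rel hsw 0 1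
  have hr02 := row_rel hsw 0 2
  have hr13 := row_rel hsw 1 3
  have hr23 := row_rel hsw 2 3
  simp [Wm] at hr01 hr02 hr13 hr23
  refine ⟨g *ᵥ y, c, hc, ?_, ?_⟩
  · rw [altB_eq, altB_mulVec hform, ← altB_eq, hB]
  · rw [omega_mulVec h2 g hr01 hr02 hr13 hr23 v y hB, hstar, hω]
    ext i
    simp only [Matrix.mulVec, dotProduct, Matrix.map_apply, Pi.smul_apply, smul_eq_mul, map_sum,
      map_mul, Finset.mul_sum]
    apply Finset.sum_congr rfl
    intro j _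
    ring

/-- absolute vectors are the vectors of the ovoid -/
theorem abs_cases (h2 : (2 : F) = 0) {v : Fin 4 → F} (hv : Abs s v) :
    (v 1 = 0 ∧ v 2 = 0 ∧ v 3 = 0) ∨ (v 3 ≠ 0 ∧ v 0 / v 3 = ff s (v 2 / v 3) (v 1 / v 3)) := by
  by_cases hv3 : v 3 = 0
  · left
    obtain ⟨y, c, hc, hB, hω⟩ := hv
    have e1 := congrFun hω 1
    have e2 := congrFun hω 2
    have e3 := congrFun hω 3
    simp [omega, hv3] at e1 e2 e3
    rw [hv3, zero_mul, add_zero] at hB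
    have hv2 : v 2 = 0 := by
      by_contra hne
      rcases e3 with h | h
      · exact hne h
      · rw [h, mul_zero] at e2
        rcases (zero_eq_mul.1 e2) with h' | h'
        · exact hc h'
        · exact hne ((map_eq_zero s).1 h')
    rw [hv2, zero_mul, sub_zero] at e1
    rw [hv2, zero_mul, add_zero] at hB
    rw [hv2, map_zero, mul_zero] at e2
    have hv1 : v 1 = 0 := by
      by_contra hne
      rcases mul_eq_zero.1 e2 with h | h
      · exact hne h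
      · rw [h, mul_zero, zero_add] at hB
        rcases mul_eq_zero.1 hB with h' | h'
        · exact hne h'
        · rw [h', mul_zero] at e1
          rcases (zero_eq_mul.1 e1) with h'' | h''
          · exact hc h''
          · exact hne ((map_eq_zero s).1 h'')
    exact ⟨hv1, hv2, hv3⟩
  · right
    refine ⟨hv3, ?_⟩
    obtain ⟨y, c, hc, hB, hω⟩ := abs_smul s hv (inv_ne_zero hv3)
    have e1 := congrFun hω 1
    have e2 := congrFun hω 2
    have e3 := congrFun hω 3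
    simp [omega, hv3] at e1 e2 e3 hB
    have key : c * ((v 3)⁻¹ * v 0 - ((v 3)⁻¹ * v 2 * ((v 3)⁻¹ * v 1) +
        ((v 3)⁻¹ * v 2) ^ 2 * ((s (v 3))⁻¹ * s (v 2)) + (s (v 3))⁻¹ * s (v 1))) = 0 := by
      linear_combination (-1) * e1 - ((v 3)⁻¹ * v 2) * hB -
        ((v 3)⁻¹ * v 0 + (v 3)⁻¹ * v 1 * ((v 3)⁻¹ * v 2)) * e3 - ((v 3)⁻¹ * v 2) ^ 2 * e2 +
        ((-1) * c * ((s (v 3))⁻¹ * s (v 1)) +
          (-1) * c * ((s (v 3))⁻¹ * s (v 2)) * ((v 3)⁻¹ * v 2) ^ 2 +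
          (-1) * c * ((v 3)⁻¹ * v 1) * ((v 3)⁻¹ * v 2) +
          ((v 3)⁻¹ * v 0) * ((v 3)⁻¹ * v 2) * y 3 +
          ((v 3)⁻¹ * v 1) * ((v 3)⁻¹ * v 2) ^ 2 * y 3) * h2
    rcases mul_eq_zero.1 key with h | h
    · exact absurd h hc
    · unfold ff
      rw [map_div₀, map_div₀, div_eq_inv_mul, div_eq_inv_mul, div_eq_inv_mul, div_eq_inv_mul,
        div_eq_inv_mul]
      linear_combination h

end abs

section gens

variable {F : Type*} [Field F] {m : ℕ} (S : SzData F m)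

namespace SzData

/-- the defining conditions of the generators of the symplectic model -/
def IsGen (M : Matrix (Fin 4) (Fin 4) F) : Prop :=
  Mᵀ * Wm * M = Wm ∧ Cfsg.Lie.star4 M = M.map S.s

theorem isGen_Tm (a b : F) : S.IsGen (Tm S.s a b) := by
  refine ⟨Tm_form S.s S.h2 a b, ?_⟩
  have h2 := S.h2
  ext i j
  fin_cases i <;> fin_cases j <;>
    simp [Cfsg.Lie.star4, Cfsg.Lie.pairOf, Tm, ff, S.hs] <;>
    first
      | done
      | ring1
      | linear_combination ((-1) * a ^ 2 * S.s a + (-1) * S.s b) * h2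
      | linear_combination ((-1) * a ^ 2 * S.s a ^ 2 + (-1) * S.s a * S.s b) * h2
      | linear_combination ((-1) * S.s b) * h2
      | linear_combination (a ^ 2 * S.s a + S.s b) * h2
      | linear_combination (a ^ 2 * S.s a ^ 2 + S.s a * S.s b) * h2
      | linear_combination (S.s b) * h2

theorem isGen_Dm {u : F} (hu : u ≠ 0) : S.IsGen (Dm S.s u) := by
  refine ⟨Dm_form S.s hu, ?_⟩
  have hsu : S.s u ≠ 0 := (map_ne_zero S.s).2 hu
  ext i j
  fin_cases i <;> fin_cases j <;>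
    simp [Cfsg.Lie.star4, Cfsg.Lie.pairOf, Dm, S.hs] <;>
    first
      | done
      | (field_simp)
      | ring

theorem isGen_Wm : S.IsGen (Wm : Matrix (Fin 4) (Fin 4) F) := by
  refine ⟨Wm_form, ?_⟩
  have h2 := S.h2
  ext i j
  fin_cases i <;> fin_cases j <;>
    simp [Cfsg.Lie.star4, Cfsg.Lie.pairOf, Wm] <;>
    first
      | done
      | linear_combination (-1 : F) * h2
      | linear_combination (1 : F) * h2

theorem abs_wv (x y : F) : Abs S.s (wv S.s x y) := by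
  have h1 : wv S.s x y = Tm S.s x y *ᵥ ((Wm : Matrix (Fin 4) (Fin 4) F) *ᵥ ev) := by
    rw [Wm_mulVec_ev S.s, Tm_mulVec_wv S.s S.hs S.h2, add_zero, mul_zero, add_zero, add_zero]
  rw [h1]
  exact abs_mulVec S.s S.h2 (S.isGen_Tm x y).1 (S.isGen_Tm x y).2
    (abs_mulVec S.s S.h2 S.isGen_Wm.1 S.isGen_Wm.2 (abs_ev S.s))

theorem mk_mem_ovoid_of_abs {v : Fin 4 → F} (hv : Abs S.s v) (hv0 : v ≠ 0) :
    Projectivization.mk F v hv0 ∈ Cfsg.suzukiOvoid F m := by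
  rw [S.mem_ovoid_iff]
  rcases abs_cases S.s S.h2 hv with ⟨h1, h2, h3⟩ | ⟨h3, h0⟩
  · left
    unfold pInf
    rw [Projectivization.mk_eq_mk_iff']
    refine ⟨v 0, ?_⟩
    ext i
    fin_cases i <;> simp [ev, h1, h2, h3]
  · right
    refine ⟨v 2 / v 3, v 1 / v 3, ?_⟩
    unfold pt
    rw [Projectivization.mk_eq_mk_iff']
    refine ⟨v 3, ?_⟩
    ext i
    fin_cases i
    · simp [vec, wv]
      rw [← h0]
      field_simp
    · simp [vec, wv]
      field_simp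
    · simp [vec, wv]
      field_simp
    · simp [vec, wv]

section group
variable [Fintype F]

include S in
/-- a matrix satisfying the conditions of the symplectic model stabilizes the ovoid -/
theorem exists_mem_Sz_of_isGen {M : Matrix (Fin 4) (Fin 4) F} (hM : S.IsGen M) :
    ∃ g : SpecialLinearGroup (Fin 4) F, g.1 = M ∧ g ∈ Cfsg.Sz F m := by
  have hdet := det_eq_one_of_form S.h2 hM.1
  obtain ⟨g, hg⟩ : ∃ g : SpecialLinearGroup (Fin 4) F, g.1 = M := ⟨⟨M, hdet⟩, rfl⟩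
  refine ⟨g, hg, ?_⟩
  apply S.mem_Sz_of_forall
  intro p hp
  have key : ∀ v : Fin 4 → F, ∀ hv0 : v ≠ 0, Abs S.s v →
      g • Projectivization.mk F v hv0 ∈ Cfsg.suzukiOvoid F m := by
    intro v hv0 hv
    rw [smul_mk g v hv0 (mulVec_ne g hv0)]
    apply S.mk_mem_ovoid_of_abs
    rw [hg]
    exact abs_mulVec S.s S.h2 hM.1 hM.2 hv
  rcases (S.mem_ovoid_iff p).1 hp with rfl | ⟨x, y, rfl⟩
  · exact key ev ev_ne (abs_ev S.s)
  · exact key (S.vec x y) (S.vec_ne x y) (S.abs_wv x y)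

end group

end SzData

end gens

section bridge

variable {F : Type*} [Field F]

theorem mem_Sp4_iff (g : GL (Fin 4) F) :
    g ∈ Cfsg.Lie.Sp4 F ↔
      (g : Matrix (Fin 4) (Fin 4) F)ᵀ * Wm * (g : Matrix (Fin 4) (Fin 4) F) = Wm := by
  constructor
  · intro h
    have h' : ∀ u v : Fin 4 → F, Cfsg.Lie.altForm4 ((g : Matrix (Fin 4) (Fin 4) F) *ᵥ u)
        ((g : Matrix (Fin 4) (Fin 4) F) *ᵥ v) = Cfsg.Lie.altForm4 u v := h
    ext i j
    have h1 := h' (Pi.single i 1) (Pi.single j 1)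
    rw [altForm4_eq, altForm4_eq] at h1
    have e1 : ((g : Matrix (Fin 4) (Fin 4) F) *ᵥ Pi.single i 1) ⬝ᵥ
        ((Wm : Matrix (Fin 4) (Fin 4) F) *ᵥ ((g : Matrix (Fin 4) (Fin 4) F) *ᵥ Pi.single j 1)) =
        ((g : Matrix (Fin 4) (Fin 4) F)ᵀ * Wm * (g : Matrix (Fin 4) (Fin 4) F) :
          Matrix (Fin 4) (Fin 4) F) i j := by
      rw [← Matrix.vecMul_transpose, ← Matrix.dotProduct_mulVec, Matrix.mulVec_mulVec,
        Matrix.mulVec_mulVec, Matrix.mulVec_single_one, single_one_dotProduct]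
      rfl
    have e2 : (Pi.single i 1 : Fin 4 → F) ⬝ᵥ
        ((Wm : Matrix (Fin 4) (Fin 4) F) *ᵥ Pi.single j 1) =
        (Wm : Matrix (Fin 4) (Fin 4) F) i j := by
      rw [Matrix.mulVec_single_one, single_one_dotProduct]
      rfl
    rw [e1, e2] at h1
    exact h1
  · intro h u v
    show Cfsg.Lie.altForm4 ((g : Matrix (Fin 4) (Fin 4) F) *ᵥ u)
        ((g : Matrix (Fin 4) (Fin 4) F) *ᵥ v) = Cfsg.Lie.altForm4 u v
    rw [altForm4_eq, altForm4_eq, altB_mulVec h]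

variable {m : ℕ} (S : SzData F m)

namespace SzData

theorem mem_genSet_iff (g : GL (Fin 4) F) :
    (g ∈ Cfsg.Lie.Sp4 F ∧ Cfsg.Lie.star4 (g : Matrix (Fin 4) (Fin 4) F) =
      (g : Matrix (Fin 4) (Fin 4) F).map (fun x => x ^ 2 ^ (m + 1))) ↔
      S.IsGen (g : Matrix (Fin 4) (Fin 4) F) := by
  have hfun : (fun x : F => x ^ 2 ^ (m + 1)) = S.s := by
    funext x
    rw [S.hpow]
  rw [hfun, mem_Sp4_iff]
  rfl

/-- the inclusion of the ovoid model into the general linear group -/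
def toGLHom : Cfsg.Sz F m →* GL (Fin 4) F :=
  (Matrix.SpecialLinearGroup.toGL).comp (Cfsg.Sz F m).subtype

theorem toGLHom_coe (g : Cfsg.Sz F m) :
    ((toGLHom g : GL (Fin 4) F) : Matrix (Fin 4) (Fin 4) F) =
      ((g : SpecialLinearGroup (Fin 4) F) : Matrix (Fin 4) (Fin 4) F) := rfl

theorem toGLHom_injective : Function.Injective (toGLHom (F := F) (m := m)) := by
  intro g h hgh
  apply Subtype.ext
  apply Subtype.ext
  have := congrArg (fun x : GL (Fin 4) F => (x : Matrix (Fin 4) (Fin 4) F)) hgh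
  exact this

section group
variable [Fintype F]

include S in
theorem range_toGLHom (hm : 1 ≤ m) (hF : Fintype.card F = 2 ^ (2 * m + 1)) :
    (toGLHom (F := F) (m := m)).range = Cfsg.Lie.Sz F (2 ^ (m + 1)) := by
  apply le_antisymm
  · rintro _ ⟨⟨g, hg⟩, rfl⟩
    have hgen : ∀ x : Cfsg.Sz F m,
        S.IsGen ((x : SpecialLinearGroup (Fin 4) F) : Matrix (Fin 4) (Fin 4) F) →
        toGLHom x ∈ Cfsg.Lie.Sz F (2 ^ (m + 1)) := by
      intro x hx
      apply Subgroup.subset_closure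
      rw [Set.mem_setOf_eq, S.mem_genSet_iff]
      exact hx
    have hT : ∀ a b, toGLHom (S.TgSz a b) ∈ Cfsg.Lie.Sz F (2 ^ (m + 1)) :=
      fun a b => hgen _ (S.isGen_Tm a b)
    have hD : ∀ u, toGLHom (S.DgSz u) ∈ Cfsg.Lie.Sz F (2 ^ (m + 1)) :=
      fun u => hgen _ (S.isGen_Dm u.ne_zero)
    have hW : toGLHom S.WgSz ∈ Cfsg.Lie.Sz F (2 ^ (m + 1)) := hgen _ S.isGen_Wm
    rcases S.exists_decomp hm hF hg with ⟨a, b, u, hgabu⟩ | ⟨a, b, c, d, u, hgabu⟩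
    · have e : (⟨g, hg⟩ : Cfsg.Sz F m) = S.TgSz a b * S.DgSz u := Subtype.ext hgabu
      rw [e, map_mul]
      exact Subgroup.mul_mem _ (hT a b) (hD u)
    · have e : (⟨g, hg⟩ : Cfsg.Sz F m) = S.TgSz a b * S.WgSz * (S.TgSz c d * S.DgSz u) :=
        Subtype.ext hgabu
      rw [e, map_mul, map_mul, map_mul]
      exact Subgroup.mul_mem _ (Subgroup.mul_mem _ (hT a b) hW)
        (Subgroup.mul_mem _ (hT c d) (hD u))
  · unfold Cfsg.Lie.Sz
    rw [Subgroup.closure_le]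
    intro g hg
    rw [Set.mem_setOf_eq, S.mem_genSet_iff] at hg
    obtain ⟨g', hg'M, hg'⟩ := S.exists_mem_Sz_of_isGen hg
    refine ⟨⟨g', hg'⟩, ?_⟩
    apply Units.ext
    rw [toGLHom_coe]
    exact hg'M

end group

end SzData

/-- the two models of the Suzuki group are isomorphic -/
theorem nonempty_bridge [Fintype F] (hm : 1 ≤ m) (hF : Fintype.card F = 2 ^ (2 * m + 1)) :
    Nonempty (Cfsg.Sz F m ≃* Cfsg.Lie.Sz F (2 ^ (m + 1))) := by
  obtain ⟨S⟩ := nonempty_szData (m := m) hF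
  exact ⟨(MonoidHom.ofInjective SzData.toGLHom_injective).trans
    (MulEquiv.subgroupCongr (S.range_toGLHom hm hF))⟩

end bridge

end Cfsg.Agent.Helper2.Sz
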