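import Mathlib
import Cfsg.Agent.Lib.Helper2.IrrGal

set_option autoImplicit false
set_option linter.unusedSectionVars false

namespace Cfsg.Agent.Helper2.IrrMat

open Matrix Finset

variable {F : Type*} [Field F] [Fintype F]

/-- commuting irreducible elements have the same centralizer -/
theorem Cent_le_of_commute {M M' : Matrix (Fin 4) (Fin 4) F} {p : ℕ} (h : IrrData M p)
    (hcomm : M * M' = M' * M) : Cent M ≤ Cent M' := by
  intro c hc
  rw [mem_Cent]
  have hM' : M' ∈ Cent M := mem_Cent.2 hcomm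
  have h1 : (⟨M', hM'⟩ : Cent M) * ⟨c, hc⟩ = ⟨c, hc⟩ * ⟨M', hM'⟩ :=
    (isField_Cent h).mul_comm _ _
  exact congrArg Subtype.val h1

theorem Cent_eq_of_commute {M M' : Matrix (Fin 4) (Fin 4) F} {p p' : ℕ} (h : IrrData M p)
    (h' : IrrData M' p') (hcomm : M * M' = M' * M) : Cent M = Cent M' :=
  le_antisymm (Cent_le_of_commute h hcomm) (Cent_le_of_commute h' hcomm.symm)

/-- the index of the centralizer in a group normalizing the centralizer field divides four -/
theorem index_dvd_four' {M : Matrix (Fin 4) (Fin 4) F} {p : ℕ} (h : IrrData M p)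
    {H : Type*} [Group H] [Finite H] (φ : H →* Matrix (Fin 4) (Fin 4) F)
    (hnorm : ∀ x : H, ∀ c ∈ Cent M, φ x * c * φ x⁻¹ ∈ Cent M)
    (K : Subgroup H) (hK : ∀ x, x ∈ K ↔ M * φ x = φ x * M) : K.index ∣ 4 := by
  have hmul : ∀ x : H, φ x * φ x⁻¹ = 1 := fun x => by rw [← map_mul, mul_inv_cancel, map_one]
  have hmul' : ∀ x : H, φ x⁻¹ * φ x = 1 := fun x => by rw [← map_mul, inv_mul_cancel, map_one]
  have hc1 : ∀ x : H, ∀ c ∈ Cent M, φ x * c * φ x⁻¹ ∈ Cent M := hnorm
  have hc2 : ∀ x : H, ∀ c ∈ Cent M, φ x⁻¹ * c * φ x ∈ Cent M := by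
    intro x c hc
    have := hnorm x⁻¹ c hc
    rwa [inv_inv] at this
  let ψ : H →* (Cent M ≃ₐ[F] Cent M) :=
    { toFun := fun x => conjAlgEquiv (φ x) (φ x⁻¹) (hmul x) (hmul' x) (hc1 x) (hc2 x)
      map_one' := by
        apply AlgEquiv.ext
        intro c
        apply Subtype.ext
        show φ 1 * c.1 * φ 1⁻¹ = c.1
        rw [inv_one, map_one, one_mul, mul_one]
      map_mul' := fun x y => by
        apply AlgEquiv.ext
        intro c
        apply Subtype.ext
        show φ (x * y) * c.1 * φ (x * y)⁻¹ = φ x * (φ y * c.1 * φ y⁻¹) * φ x⁻¹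
        rw [_root_.mul_inv_rev, map_mul, map_mul]
        simp only [mul_assoc] }
  have hker : K = ψ.ker := by
    ext x
    rw [hK, MonoidHom.mem_ker]
    constructor
    · intro hx
      apply AlgEquiv.ext
      intro c
      apply Subtype.ext
      show φ x * c.1 * φ x⁻¹ = c.1
      have hxC : (⟨φ x, mem_Cent.2 hx⟩ : Cent M) * c = c * ⟨φ x, mem_Cent.2 hx⟩ :=
        (isField_Cent h).mul_comm _ _
      have hxc : φ x * c.1 = c.1 * φ x := congrArg Subtype.val hxC
      rw [hxc, mul_assoc, hmul, mul_one]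
    · intro hx
      have h1 := congrArg (fun e : Cent M ≃ₐ[F] Cent M => (e ⟨M, self_mem_Cent M⟩ : Cent M).1) hx
      have h2 : φ x * M * φ x⁻¹ = M := h1
      calc M * φ x = (φ x * M * φ x⁻¹) * φ x := by rw [h2]
        _ = φ x * M * (φ x⁻¹ * φ x) := by simp only [mul_assoc]
        _ = φ x * M := by rw [hmul', mul_one]
  rw [hker, Subgroup.index_ker]
  have hdvd := Subgroup.card_subgroup_dvd_card ψ.range
  rw [card_aut_Cent h] at hdvd
  exact hdvd

end Cfsg.Agent.Helper2.IrrMat
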