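import Mathlib
import Cfsg.Agent.Lib.Helper2.SzCN
import Cfsg.Agent.Lib.Helper2.IrrNorm

set_option autoImplicit false
set_option linter.unusedSectionVars false
set_option linter.unusedSimpArgs false

namespace Cfsg.Agent.Helper2.Sz

open Matrix Cfsg.Agent.S0335
open scoped Pointwise commutatorElement

/-- fixed-point-free elements on the ovoid -/
def Fpf {F : Type*} [Field F] {m : ℕ} (g : Cfsg.Sz F m) : Prop :=
  ∀ p ∈ Cfsg.suzukiOvoid F m, (g : SpecialLinearGroup (Fin 4) F) • p ≠ p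

variable {F : Type*} [Field F] {m : ℕ} (S : SzData F m)

namespace SzData

section group
variable [Fintype F]

include S in
theorem not_fpf_one : ¬ Fpf (1 : Cfsg.Sz F m) := by
  intro h
  exact h (pInf F) S.pInf_mem (by rw [Subgroup.coe_one, one_smul])

include S in
/-- elements of odd prime order dividing `q ^ 2 + 1` have no fixed points -/
theorem fpf_of_prime_order (hm : 1 ≤ m) (hF : Fintype.card F = 2 ^ (2 * m + 1)) {ℓ : ℕ}
    (hℓ : ℓ.Prime) (hℓ2 : ℓ ≠ 2) (hdvd : ℓ ∣ (2 ^ (2 * m + 1)) ^ 2 + 1) {y : Cfsg.Sz F m}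
    (hy : orderOf y = ℓ) : Fpf y := by
  intro p hp hfix
  rw [← S.orbit_pInf] at hp
  obtain ⟨h, hh⟩ := hp
  have hh' : (h : SpecialLinearGroup (Fin 4) F) • pInf F = p := hh
  have hmem : h⁻¹ * y * h ∈ MulAction.stabilizer (Cfsg.Sz F m) (pInf F) := by
    rw [MulAction.mem_stabilizer_iff, Subgroup.smul_def]
    show ((h⁻¹ * y * h : Cfsg.Sz F m) : SpecialLinearGroup (Fin 4) F) • pInf F = pInf F
    rw [Subgroup.coe_mul, Subgroup.coe_mul, mul_smul, mul_smul, hh', hfix, ← hh',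
      Subgroup.coe_inv, inv_smul_smul]
  have hord : orderOf (h⁻¹ * y * h) = ℓ := by
    have h1 : h⁻¹ * y * h = MulAut.conj h⁻¹ y := by rw [MulAut.conj_apply, inv_inv]
    rw [h1, MulEquiv.orderOf_eq, hy]
  have h1 : ℓ ∣ Nat.card (MulAction.stabilizer (Cfsg.Sz F m) (pInf F)) := by
    have := orderOf_dvd_natCard (⟨h⁻¹ * y * h, hmem⟩ :
      MulAction.stabilizer (Cfsg.Sz F m) (pInf F))
    rwa [Subgroup.orderOf_mk, hord] at this
  rw [S.card_stabilizer_pInf hm hF] at h1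
  rcases (Nat.Prime.dvd_mul hℓ).1 h1 with h2 | h2
  · have h3 := hℓ.dvd_of_dvd_pow (hℓ.dvd_of_dvd_pow h2)
    exact hℓ2 ((Nat.prime_dvd_prime_iff_eq hℓ Nat.prime_two).1 h3)
  · have := not_dvd_pow_sub_one hℓ hℓ2 Nat.one_le_two_pow hdvd 1 le_rfl (by norm_num)
    rw [pow_one] at this
    exact this h2

include S in
/-- an element commuting with an element of odd prime order dividing `q - 1` has fixed points -/
theorem not_fpf_of_commute_split (hm : 1 ≤ m) (hF : Fintype.card F = 2 ^ (2 * m + 1)) {ℓ : ℕ}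
    [hℓ : Fact ℓ.Prime] (hℓ2 : ℓ ≠ 2) (hdvd : ℓ ∣ 2 ^ (2 * m + 1) - 1) {y g : Cfsg.Sz F m}
    (hy : orderOf y = ℓ) (hc : g * y = y * g) : ¬ Fpf g := by
  intro hfpf
  have hP : IsPGroup ℓ (Subgroup.zpowers y) := by
    apply IsPGroup.of_card (n := 1)
    rw [Nat.card_zpowers, hy, pow_one]
  obtain ⟨a, b, ha, hb, hab, hfix⟩ := S.exists_two_fixed hF hℓ2 hdvd (Subgroup.zpowers y) hP
  obtain ⟨hya, hyb⟩ := hfix y (Subgroup.mem_zpowers y)
  obtain ⟨g₀, hg₀, h1, h2⟩ := S.exists_smul_pair ha hb hab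
  have hy1 : y ≠ 1 := by
    intro h1
    rw [h1, orderOf_one] at hy
    exact hℓ.out.one_lt.ne hy
  -- conjugate into the torus
  have hmem : g₀⁻¹ * (y : SpecialLinearGroup (Fin 4) F) * g₀ ∈ Cfsg.Sz F m :=
    (Cfsg.Sz F m).mul_mem ((Cfsg.Sz F m).mul_mem ((Cfsg.Sz F m).inv_mem hg₀) y.2) hg₀
  have e1 : (g₀⁻¹ * (y : SpecialLinearGroup (Fin 4) F) * g₀) • pInf F = pInf F := by
    rw [mul_smul, mul_smul, h1, hya, ← h1, inv_smul_smul]
  have e2 : (g₀⁻¹ * (y : SpecialLinearGroup (Fin 4) F) * g₀) • S.pt 0 0 = S.pt 0 0 := by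
    rw [mul_smul, mul_smul, h2, hyb, ← h2, inv_smul_smul]
  obtain ⟨u₀, hu₀⟩ := S.eq_Dg_of_fix hm hF hmem e1 e2
  have hu₀1 : u₀ ≠ 1 := by
    rintro rfl
    apply hy1
    apply Subtype.ext
    rw [Dg_one] at hu₀
    have : (y : SpecialLinearGroup (Fin 4) F) = g₀ * (g₀⁻¹ * y * g₀) * g₀⁻¹ := by group
    rw [this, hu₀, mul_one, mul_inv_cancel]
    rfl
  have hmem' : g₀⁻¹ * (g : SpecialLinearGroup (Fin 4) F) * g₀ ∈ Cfsg.Sz F m :=
    (Cfsg.Sz F m).mul_mem ((Cfsg.Sz F m).mul_mem ((Cfsg.Sz F m).inv_mem hg₀) g.2) hg₀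
  have hc' : (g : SpecialLinearGroup (Fin 4) F) * y = y * g := congrArg Subtype.val hc
  have hcomm : (g₀⁻¹ * (g : SpecialLinearGroup (Fin 4) F) * g₀) * S.Dg u₀ =
      S.Dg u₀ * (g₀⁻¹ * (g : SpecialLinearGroup (Fin 4) F) * g₀) := by
    rw [← hu₀]
    calc g₀⁻¹ * (g : SpecialLinearGroup (Fin 4) F) * g₀ * (g₀⁻¹ * y * g₀)
        = g₀⁻¹ * ((g : SpecialLinearGroup (Fin 4) F) * y) * g₀ := by group
      _ = g₀⁻¹ * ((y : SpecialLinearGroup (Fin 4) F) * g) * g₀ := by rw [hc']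
      _ = g₀⁻¹ * y * g₀ * (g₀⁻¹ * g * g₀) := by group
  obtain ⟨v, hv⟩ := S.mem_torus_of_commute hm hF hu₀1 hmem' hcomm
  apply hfpf a ha
  have h3 : (g : SpecialLinearGroup (Fin 4) F) = g₀ * S.Dg v * g₀⁻¹ := by
    rw [← hv]; group
  rw [h3, ← h1, mul_smul, mul_smul, inv_smul_smul, Dg_smul_pInf]

include S in
/-- a 2-element has a fixed point -/
theorem not_fpf_of_pow_four (hF : Fintype.card F = 2 ^ (2 * m + 1)) {g : Cfsg.Sz F m}
    (hg : g ^ 4 = 1) : ¬ Fpf g := by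
  intro hfpf
  have : Fact (Nat.Prime 2) := ⟨Nat.prime_two⟩
  have hp : IsPGroup 2 (Subgroup.zpowers g) := by
    rintro ⟨x, hx⟩
    obtain ⟨n, rfl⟩ := Subgroup.mem_zpowers_iff.1 hx
    refine ⟨2, Subtype.ext ?_⟩
    show (g ^ n) ^ 2 ^ 2 = 1
    have : (2 : ℕ) ^ 2 = 4 := by norm_num
    rw [this, ← zpow_natCast, ← _root_.zpow_mul, mul_comm, _root_.zpow_mul, zpow_natCast, hg,
      _root_.one_zpow]
  have hcard : ¬ 2 ∣ Nat.card (Cfsg.suzukiOvoid F m) := by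
    rw [Cfsg.Agent.S0326.result, hF]
    have h1 : (2 ^ (2 * m + 1)) ^ 2 = 2 * (2 ^ (2 * m) * 2 ^ (2 * m + 1)) := by
      rw [pow_succ (2 : ℕ) (2 * m)]; ring
    rw [h1]
    omega
  obtain ⟨⟨p, hp1⟩, hp2⟩ := hp.nonempty_fixed_point_of_prime_not_dvd_card
    (Cfsg.suzukiOvoid F m) hcard
  exact hfpf p hp1 (congrArg Subtype.val (hp2 ⟨g, Subgroup.mem_zpowers g⟩))

include S in
/-- a fixed-point-free element has a power of odd prime order dividing `q ^ 2 + 1` -/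
theorem exists_prime_of_fpf (hm : 1 ≤ m) (hF : Fintype.card F = 2 ^ (2 * m + 1))
    {g : Cfsg.Sz F m} (hg : Fpf g) :
    ∃ (ℓ k : ℕ), ℓ.Prime ∧ ℓ ≠ 2 ∧ ℓ ∣ (2 ^ (2 * m + 1)) ^ 2 + 1 ∧ orderOf (g ^ k) = ℓ := by
  have hg1 : g ≠ 1 := by
    rintro rfl
    exact S.not_fpf_one hg
  have hn0 : orderOf g ≠ 0 := (orderOf_pos g).ne'
  have hn1 : orderOf g ≠ 1 := by rwa [Ne, orderOf_eq_one_iff]
  obtain ⟨ℓ, hℓdef⟩ : ∃ ℓ, ℓ = (orderOf g).minFac := ⟨_, rfl⟩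
  have hℓ : ℓ.Prime := hℓdef ▸ Nat.minFac_prime hn1
  have hℓn : ℓ ∣ orderOf g := hℓdef ▸ Nat.minFac_dvd _
  have hy : orderOf (g ^ (orderOf g / ℓ)) = ℓ := orderOf_pow_orderOf_div hn0 hℓn
  have hc : g * g ^ (orderOf g / ℓ) = g ^ (orderOf g / ℓ) * g :=
    ((Commute.refl g).pow_right _).eq
  have hℓ2 : ℓ ≠ 2 := by
    intro h2
    have hy2 : (g ^ (orderOf g / ℓ)) ^ 2 = 1 := by
      have := pow_orderOf_eq_one (g ^ (orderOf g / ℓ))
      rw [hy] at this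
      rw [← h2]
      exact this
    have hy1 : g ^ (orderOf g / ℓ) ≠ 1 := by
      intro h
      rw [h, orderOf_one] at hy
      exact hℓ.one_lt.ne hy
    exact S.not_fpf_of_pow_four hF (S.pow_four_of_commute_involution hm hF hy1 hy2 hc) hg
  have hℓG : ℓ ∣ Nat.card (Cfsg.Sz F m) := hℓn.trans (orderOf_dvd_natCard g)
  rw [S.card_Sz hm hF] at hℓG
  rcases prime_dvd_order hℓ hℓ2 ⟨_, rfl⟩ hℓG with h | h
  · exact ⟨ℓ, orderOf g / ℓ, hℓ, hℓ2, h, hy⟩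
  · exfalso
    have : Fact ℓ.Prime := ⟨hℓ⟩
    exact S.not_fpf_of_commute_split hm hF hℓ2 h hy hc hg

end group

end SzData

end Cfsg.Agent.Helper2.Sz
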