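import Mathlib
import Cfsg.Agent.Lib.Helper2.SzTorus

set_option autoImplicit false
set_option linter.unusedSectionVars false
set_option linter.unusedSimpArgs false

namespace Cfsg.Agent.Helper2.Sz

open Matrix Cfsg.Agent.S0335
open scoped Pointwise commutatorElement

/-- the maximal tori of order dividing `q ^ 2 + 1` -/
def IsTorus {F : Type*} [Field F] {m : ℕ} (A : Subgroup (Cfsg.Sz F m)) : Prop :=
  ∃ (y : Cfsg.Sz F m) (ℓ : ℕ), ℓ.Prime ∧ ℓ ≠ 2 ∧ ℓ ∣ (2 ^ (2 * m + 1)) ^ 2 + 1 ∧ orderOf y = ℓ ∧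
    A = Subgroup.centralizer {y}

variable {F : Type*} [Field F] {m : ℕ} (S : SzData F m)

theorem mem_centralizer_singleton {G : Type*} [Group G] {x z : G} :
    z ∈ Subgroup.centralizer ({x} : Set G) ↔ z * x = x * z := by
  rw [Subgroup.mem_centralizer_iff]
  constructor
  · intro h
    exact (h x rfl).symm
  · rintro h y rfl
    exact h.symm

namespace SzData

section group
variable [Fintype F]

include S in
theorem irrData_of_orderOf (hF : Fintype.card F = 2 ^ (2 * m + 1)) {ℓ : ℕ}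
    (hℓ : ℓ.Prime) (hℓ2 : ℓ ≠ 2) (hdvd : ℓ ∣ (2 ^ (2 * m + 1)) ^ 2 + 1) {y : Cfsg.Sz F m}
    (hy : orderOf y = ℓ) : IrrMat.IrrData (y : SpecialLinearGroup (Fin 4) F).1 ℓ := by
  have hy1 : y ≠ 1 := by
    intro h1
    rw [h1, orderOf_one] at hy
    exact hℓ.one_lt.ne hy
  have hyp : (y : SpecialLinearGroup (Fin 4) F) ^ ℓ = 1 := by
    have h1 : y ^ ℓ = 1 := by
      have := pow_orderOf_eq_one y
      rwa [hy] at this
    exact congrArg Subtype.val h1
  have hy1' : (y : SpecialLinearGroup (Fin 4) F) ≠ 1 := fun h => hy1 (Subtype.ext h)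
  exact S.irrData_of_prime_order hF hℓ hℓ2 hdvd hyp hy1'

include S in
theorem isCyclic_centralizer (hF : Fintype.card F = 2 ^ (2 * m + 1)) {ℓ : ℕ}
    (hℓ : ℓ.Prime) (hℓ2 : ℓ ≠ 2) (hdvd : ℓ ∣ (2 ^ (2 * m + 1)) ^ 2 + 1) {y : Cfsg.Sz F m}
    (hy : orderOf y = ℓ) : IsCyclic (Subgroup.centralizer ({y} : Set (Cfsg.Sz F m))) := by
  have hirr := S.irrData_of_orderOf hF hℓ hℓ2 hdvd hy
  let φ : Subgroup.centralizer ({y} : Set (Cfsg.Sz F m)) →* Matrix (Fin 4) (Fin 4) F :=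
    (toMatHom F).comp ((Cfsg.Sz F m).subtype.comp
      (Subgroup.centralizer ({y} : Set (Cfsg.Sz F m))).subtype)
  have hφ : Function.Injective φ := by
    intro a b hab
    exact Subtype.ext (Subtype.ext (toMatHom_injective F hab))
  apply IrrMat.isCyclic_of_commute hirr φ hφ
  intro a
  have h1 : y * a.1 = a.1 * y := Subgroup.mem_centralizer_iff.1 a.2 y rfl
  exact congrArg (fun z : Cfsg.Sz F m => (z : SpecialLinearGroup (Fin 4) F).1) h1

include S in
/-- the nontrivial elements of a torus have no fixed points -/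
theorem fpf_of_commute (hm : 1 ≤ m) (hF : Fintype.card F = 2 ^ (2 * m + 1)) {ℓ : ℕ}
    (hℓ : ℓ.Prime) (hℓ2 : ℓ ≠ 2) (hdvd : ℓ ∣ (2 ^ (2 * m + 1)) ^ 2 + 1) {y a : Cfsg.Sz F m}
    (hy : orderOf y = ℓ) (hc : a * y = y * a) (ha : a ≠ 1) : Fpf a := by
  intro p hp hfix
  have hyf := S.fpf_of_prime_order hm hF hℓ hℓ2 hdvd hy
  have hc' : (a : SpecialLinearGroup (Fin 4) F) * y = y * a := congrArg Subtype.val hc
  have hp1 : (y : SpecialLinearGroup (Fin 4) F) • p ∈ Cfsg.suzukiOvoid F m :=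
    smul_mem_of_mem_Sz y.2 hp
  have hp2 : (y : SpecialLinearGroup (Fin 4) F) • (y : SpecialLinearGroup (Fin 4) F) • p ∈
      Cfsg.suzukiOvoid F m := smul_mem_of_mem_Sz y.2 hp1
  have hf1 : (a : SpecialLinearGroup (Fin 4) F) • (y : SpecialLinearGroup (Fin 4) F) • p =
      (y : SpecialLinearGroup (Fin 4) F) • p := by
    rw [← mul_smul, hc', mul_smul, hfix]
  have hf2 : (a : SpecialLinearGroup (Fin 4) F) • (y : SpecialLinearGroup (Fin 4) F) •
      (y : SpecialLinearGroup (Fin 4) F) • p =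
      (y : SpecialLinearGroup (Fin 4) F) • (y : SpecialLinearGroup (Fin 4) F) • p := by
    rw [← mul_smul, hc', mul_smul, hf1]
  have hne1 : p ≠ (y : SpecialLinearGroup (Fin 4) F) • p := fun h => hyf p hp h.symm
  have hne2 : (y : SpecialLinearGroup (Fin 4) F) • p ≠
      (y : SpecialLinearGroup (Fin 4) F) • (y : SpecialLinearGroup (Fin 4) F) • p :=
    fun h => hyf _ hp1 h.symm
  have hne3 : p ≠ (y : SpecialLinearGroup (Fin 4) F) • (y : SpecialLinearGroup (Fin 4) F) • p := by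
    intro h
    -- then all even powers fix p, and y is an even power
    have heven : ∀ j : ℕ, ((y : SpecialLinearGroup (Fin 4) F) ^ (2 * j)) • p = p := by
      intro j
      induction j with
      | zero => rw [mul_zero, pow_zero, one_smul]
      | succ j ih =>
        have : 2 * (j + 1) = 2 * j + 2 := by ring
        rw [this, pow_add, mul_smul, pow_two, mul_smul, ← h, ih]
    obtain ⟨k, hk⟩ := hℓ.odd_of_ne_two hℓ2
    have hyℓ : (y : SpecialLinearGroup (Fin 4) F) ^ ℓ = 1 := by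
      have h1 : y ^ ℓ = 1 := by
        have := pow_orderOf_eq_one y
        rwa [hy] at this
      exact congrArg Subtype.val h1
    apply hyf p hp
    have h2 : (y : SpecialLinearGroup (Fin 4) F) = y ^ (2 * (k + 1)) := by
      have : 2 * (k + 1) = ℓ + 1 := by omega
      rw [this, pow_succ, hyℓ, one_mul]
    rw [h2]
    exact heven (k + 1)
  apply ha
  apply Subtype.ext
  exact S.eq_one_of_fix_three hm hF a.2 hp hp1 hp2 hne1 hne2 hne3 hfix hf1 hf2

include S in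
/-- the centralizer of a fixed-point-free element is a torus -/
theorem isTorus_centralizer_of_fpf (hm : 1 ≤ m) (hF : Fintype.card F = 2 ^ (2 * m + 1))
    {g : Cfsg.Sz F m} (hg : Fpf g) :
    IsTorus (Subgroup.centralizer ({g} : Set (Cfsg.Sz F m))) := by
  obtain ⟨ℓ, k, hℓ, hℓ2, hdvd, hy⟩ := S.exists_prime_of_fpf hm hF hg
  refine ⟨g ^ k, ℓ, hℓ, hℓ2, hdvd, hy, ?_⟩
  apply le_antisymm
  · intro z hz
    rw [mem_centralizer_singleton] at hz ⊢
    have h2 : Commute z g := hz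
    exact (h2.pow_right k).eq
  · intro z hz
    rw [mem_centralizer_singleton] at hz ⊢
    have hgc : g * g ^ k = g ^ k * g := ((Commute.refl g).pow_right k).eq
    exact S.commute_of_commute_twisted hF hℓ hℓ2 hdvd hy hz hgc

include S in
/-- the tori are self-centralizing -/
theorem centralizer_eq_of_mem_torus (hm : 1 ≤ m) (hF : Fintype.card F = 2 ^ (2 * m + 1))
    {A : Subgroup (Cfsg.Sz F m)} (hA : IsTorus A) {a : Cfsg.Sz F m} (ha : a ∈ A) (ha1 : a ≠ 1) :
    Subgroup.centralizer ({a} : Set (Cfsg.Sz F m)) = A := by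
  obtain ⟨y, ℓ, hℓ, hℓ2, hdvd, hy, rfl⟩ := hA
  rw [mem_centralizer_singleton] at ha
  have hafpf := S.fpf_of_commute hm hF hℓ hℓ2 hdvd hy ha ha1
  obtain ⟨y', ℓ', hℓ', hℓ2', hdvd', hy', hCa⟩ := S.isTorus_centralizer_of_fpf hm hF hafpf
  apply le_antisymm
  · intro z hz
    rw [mem_centralizer_singleton]
    -- z and y both lie in the centralizer of a, which is commutative
    have hz' : z ∈ Subgroup.centralizer ({y'} : Set (Cfsg.Sz F m)) := hCa ▸ hz
    have hyC : y ∈ Subgroup.centralizer ({a} : Set (Cfsg.Sz F m)) := by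
      rw [mem_centralizer_singleton]
      exact ha.symm
    have hyC' : y ∈ Subgroup.centralizer ({y'} : Set (Cfsg.Sz F m)) := hCa ▸ hyC
    rw [mem_centralizer_singleton] at hz' hyC'
    exact S.commute_of_commute_twisted hF hℓ' hℓ2' hdvd' hy' hz' hyC'
  · intro z hz
    rw [mem_centralizer_singleton] at hz ⊢
    exact S.commute_of_commute_twisted hF hℓ hℓ2 hdvd hy hz ha

include S in
theorem fpf_of_mem_torus (hm : 1 ≤ m) (hF : Fintype.card F = 2 ^ (2 * m + 1))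
    {A : Subgroup (Cfsg.Sz F m)} (hA : IsTorus A) {a : Cfsg.Sz F m} (ha : a ∈ A) (ha1 : a ≠ 1) :
    Fpf a := by
  obtain ⟨y, ℓ, hℓ, hℓ2, hdvd, hy, rfl⟩ := hA
  rw [mem_centralizer_singleton] at ha
  exact S.fpf_of_commute hm hF hℓ hℓ2 hdvd hy ha ha1

include S in
theorem isCyclic_of_isTorus (hF : Fintype.card F = 2 ^ (2 * m + 1))
    {A : Subgroup (Cfsg.Sz F m)} (hA : IsTorus A) : IsCyclic A := by
  obtain ⟨y, ℓ, hℓ, hℓ2, hdvd, hy, rfl⟩ := hA
  exact S.isCyclic_centralizer hF hℓ hℓ2 hdvd hy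

theorem one_lt_card_of_isTorus {A : Subgroup (Cfsg.Sz F m)} (hA : IsTorus A) :
    1 < Nat.card A := by
  obtain ⟨y, ℓ, hℓ, hℓ2, hdvd, hy, rfl⟩ := hA
  have hy1 : y ≠ 1 := by
    intro h1
    rw [h1, orderOf_one] at hy
    exact hℓ.one_lt.ne hy
  rw [Finite.one_lt_card_iff_nontrivial]
  refine ⟨⟨⟨y, mem_centralizer_singleton.2 rfl⟩, 1, ?_⟩⟩
  intro h
  exact hy1 (congrArg Subtype.val h)

include S in
/-- the order of a torus divides `q ^ 2 + 1` -/
theorem card_torus_dvd (hm : 1 ≤ m) (hF : Fintype.card F = 2 ^ (2 * m + 1))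
    {A : Subgroup (Cfsg.Sz F m)} (hA : IsTorus A) :
    Nat.card A ∣ (2 ^ (2 * m + 1)) ^ 2 + 1 := by
  have h1 : Nat.card A ∣ Nat.card (Cfsg.Sz F m) := Subgroup.card_subgroup_dvd_card A
  rw [S.card_Sz hm hF] at h1
  have hcop : Nat.Coprime (Nat.card A) ((2 ^ (2 * m + 1)) ^ 2 * (2 ^ (2 * m + 1) - 1)) := by
    apply Nat.coprime_of_dvd
    intro ℓ' hℓ' hd1 hd2
    have : Fact ℓ'.Prime := ⟨hℓ'⟩
    obtain ⟨a, ha⟩ := exists_prime_orderOf_dvd_card' ℓ' hd1
    have ha1 : a ≠ 1 := by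
      intro h
      rw [h, orderOf_one] at ha
      exact hℓ'.one_lt.ne ha
    have ha1' : (a : Cfsg.Sz F m) ≠ 1 := fun h => ha1 (Subtype.ext h)
    have hfpf := S.fpf_of_mem_torus hm hF hA a.2 ha1'
    have hord : orderOf (a : Cfsg.Sz F m) = ℓ' := by rw [Subgroup.orderOf_coe, ha]
    by_cases h2 : ℓ' = 2
    · have h4 : (a : Cfsg.Sz F m) ^ 4 = 1 := by
        have := pow_orderOf_eq_one (a : Cfsg.Sz F m)
        rw [hord, h2] at this
        have h5 : (a : Cfsg.Sz F m) ^ 4 = ((a : Cfsg.Sz F m) ^ 2) ^ 2 := by rw [← pow_mul]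
        rw [h5, this, one_pow]
      exact S.not_fpf_of_pow_four hF h4 hfpf
    · rcases (Nat.Prime.dvd_mul hℓ').1 hd2 with h3 | h3
      · have h4 := hℓ'.dvd_of_dvd_pow (hℓ'.dvd_of_dvd_pow h3)
        exact h2 ((Nat.prime_dvd_prime_iff_eq hℓ' Nat.prime_two).1 h4)
      · exact S.not_fpf_of_commute_split hm hF h2 h3 hord rfl hfpf
  have h2 : Nat.card A ∣ ((2 ^ (2 * m + 1)) ^ 2 * (2 ^ (2 * m + 1) - 1)) *
      ((2 ^ (2 * m + 1)) ^ 2 + 1) := by
    convert h1 using 1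
    ring
  exact hcop.dvd_of_dvd_mul_left h2

theorem three_not_dvd (m : ℕ) : ¬ 3 ∣ (2 ^ (2 * m + 1)) ^ 2 + 1 := by
  have h1 : (2 ^ (2 * m + 1)) ^ 2 = 4 ^ (2 * m + 1) := by
    rw [← pow_mul, mul_comm, pow_mul]; norm_num
  rw [h1]
  intro h
  have h2 : (4 ^ (2 * m + 1) + 1) % 3 = 2 := by
    rw [Nat.add_mod, Nat.pow_mod]
    norm_num
  omega

include S in
theorem five_le_card_torus (hm : 1 ≤ m) (hF : Fintype.card F = 2 ^ (2 * m + 1))
    {A : Subgroup (Cfsg.Sz F m)} (hA : IsTorus A) : 5 ≤ Nat.card A := by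
  have h1 := one_lt_card_of_isTorus hA
  have h2 := S.card_torus_dvd hm hF hA
  have h3 := three_not_dvd m
  have hodd : ¬ 2 ∣ (2 ^ (2 * m + 1)) ^ 2 + 1 := by
    have h1 : (2 ^ (2 * m + 1)) ^ 2 = 2 * (2 ^ (2 * m) * 2 ^ (2 * m + 1)) := by
      rw [pow_succ (2 : ℕ) (2 * m)]; ring
    rw [h1]
    omega
  by_contra hlt
  have hlt' : Nat.card A < 5 := by omega
  interval_cases (Nat.card A)
  · exact hodd h2
  · exact h3 h2
  · exact hodd (dvd_trans (by norm_num) h2)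

end group

end SzData

end Cfsg.Agent.Helper2.Sz
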