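import Mathlib
import Cfsg.Agent.Lib.Helper2.SzTorus2

set_option autoImplicit false
set_option linter.unusedSectionVars false
set_option linter.unusedSimpArgs false

namespace Cfsg.Agent.Helper2.Sz

open Matrix Cfsg.Agent.S0335
open scoped Pointwise commutatorElement

variable {F : Type*} [Field F] {m : ℕ} (S : SzData F m)

namespace SzData

section group
variable [Fintype F]

include S in
/-- the normalizer of a torus has index dividing four over the torus -/
theorem card_normalizer_torus (hF : Fintype.card F = 2 ^ (2 * m + 1))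
    {A : Subgroup (Cfsg.Sz F m)} (hA : IsTorus A) :
    ∃ i : ℕ, i ∣ 4 ∧ Nat.card (Subgroup.normalizer (A : Set (Cfsg.Sz F m))) = Nat.card A * i := by
  obtain ⟨y, ℓ, hℓ, hℓ2, hdvd, hy, rfl⟩ := hA
  obtain ⟨A, hAdef⟩ : ∃ A, A = Subgroup.centralizer ({y} : Set (Cfsg.Sz F m)) := ⟨_, rfl⟩
  rw [← hAdef]
  have hmemA : ∀ z : Cfsg.Sz F m, z ∈ A ↔ z * y = y * z := by
    intro z
    rw [hAdef, mem_centralizer_singleton]
  clear hAdef
  have hirr := S.irrData_of_orderOf hF hℓ hℓ2 hdvd hy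
  have hyA : y ∈ A := (hmemA y).2 rfl
  let φ : Subgroup.normalizer (A : Set (Cfsg.Sz F m)) →* Matrix (Fin 4) (Fin 4) F :=
    (toMatHom F).comp ((Cfsg.Sz F m).subtype.comp
      (Subgroup.normalizer (A : Set (Cfsg.Sz F m))).subtype)
  have hφ : ∀ x : Subgroup.normalizer (A : Set (Cfsg.Sz F m)),
      φ x = ((x : Cfsg.Sz F m) : SpecialLinearGroup (Fin 4) F).1 := fun x => rfl
  have hK : ∀ x : Subgroup.normalizer (A : Set (Cfsg.Sz F m)),
      x ∈ A.subgroupOf (Subgroup.normalizer (A : Set (Cfsg.Sz F m))) ↔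
        (y : SpecialLinearGroup (Fin 4) F).1 * φ x = φ x * (y : SpecialLinearGroup (Fin 4) F).1 := by
    intro x
    rw [Subgroup.mem_subgroupOf, hmemA, hφ]
    constructor
    · intro h
      exact (congrArg (fun z : Cfsg.Sz F m => (z : SpecialLinearGroup (Fin 4) F).1) h).symm
    · intro h
      apply Subtype.ext
      apply Subtype.ext
      exact h.symm
  have hnorm : ∀ x : Subgroup.normalizer (A : Set (Cfsg.Sz F m)),
      ∀ c ∈ IrrMat.Cent (y : SpecialLinearGroup (Fin 4) F).1,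
        φ x * c * φ x⁻¹ ∈ IrrMat.Cent (y : SpecialLinearGroup (Fin 4) F).1 := by
    intro x c hc
    have hmul : φ x * φ x⁻¹ = 1 := by rw [← map_mul, mul_inv_cancel, map_one]
    have hmul' : φ x⁻¹ * φ x = 1 := by rw [← map_mul, inv_mul_cancel, map_one]
    have hy'A : (x : Cfsg.Sz F m) * y * (x : Cfsg.Sz F m)⁻¹ ∈ A :=
      (Subgroup.mem_normalizer_iff.1 x.2 y).1 hyA
    have hy'ord : orderOf ((x : Cfsg.Sz F m) * y * (x : Cfsg.Sz F m)⁻¹) = ℓ := by
      have h1 : (x : Cfsg.Sz F m) * y * (x : Cfsg.Sz F m)⁻¹ = MulAut.conj (x : Cfsg.Sz F m) y := by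
        rw [MulAut.conj_apply]
      rw [h1, MulEquiv.orderOf_eq, hy]
    have hirr' := S.irrData_of_orderOf hF hℓ hℓ2 hdvd hy'ord
    have hM' : (((x : Cfsg.Sz F m) * y * (x : Cfsg.Sz F m)⁻¹ : Cfsg.Sz F m) :
        SpecialLinearGroup (Fin 4) F).1 = φ x * (y : SpecialLinearGroup (Fin 4) F).1 * φ x⁻¹ := rfl
    have hcomm : (y : SpecialLinearGroup (Fin 4) F).1 *
        (φ x * (y : SpecialLinearGroup (Fin 4) F).1 * φ x⁻¹) =
        (φ x * (y : SpecialLinearGroup (Fin 4) F).1 * φ x⁻¹) *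
          (y : SpecialLinearGroup (Fin 4) F).1 := by
      rw [hmemA] at hy'A
      rw [← hM']
      exact (congrArg (fun z : Cfsg.Sz F m => (z : SpecialLinearGroup (Fin 4) F).1) hy'A).symm
    rw [hM'] at hirr'
    rw [IrrMat.Cent_eq_of_commute hirr hirr' hcomm, IrrMat.mem_Cent]
    have hc' := IrrMat.mem_Cent.1 hc
    calc φ x * (y : SpecialLinearGroup (Fin 4) F).1 * φ x⁻¹ * (φ x * c * φ x⁻¹)
        = φ x * (y : SpecialLinearGroup (Fin 4) F).1 * (φ x⁻¹ * φ x) * c * φ x⁻¹ := by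
          simp only [mul_assoc]
      _ = φ x * ((y : SpecialLinearGroup (Fin 4) F).1 * c) * φ x⁻¹ := by
          rw [hmul', mul_one]; simp only [mul_assoc]
      _ = φ x * (c * (y : SpecialLinearGroup (Fin 4) F).1) * φ x⁻¹ := by rw [hc']
      _ = φ x * c * (φ x⁻¹ * φ x) * (y : SpecialLinearGroup (Fin 4) F).1 * φ x⁻¹ := by
          rw [hmul', mul_one]; simp only [mul_assoc]
      _ = φ x * c * φ x⁻¹ * (φ x * (y : SpecialLinearGroup (Fin 4) F).1 * φ x⁻¹) := by
          simp only [mul_assoc]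
  have hidx := IrrMat.index_dvd_four' hirr φ hnorm
    (A.subgroupOf (Subgroup.normalizer (A : Set (Cfsg.Sz F m)))) hK
  refine ⟨_, hidx, ?_⟩
  rw [← Subgroup.card_mul_index (A.subgroupOf (Subgroup.normalizer (A : Set (Cfsg.Sz F m)))),
    Nat.card_congr (Subgroup.subgroupOfEquivOfLe (Subgroup.le_normalizer (H := A))).toEquiv]

end group

end SzData

end Cfsg.Agent.Helper2.Sz
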