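import Mathlib
import Cfsg.Agent.Lib.Helper2.SzTorus3

set_option autoImplicit false
set_option linter.unusedSectionVars false
set_option linter.unusedSimpArgs false

namespace Cfsg.Agent.Helper2.Sz

open Matrix Cfsg.Agent.S0335
open scoped Pointwise commutatorElement

/-- abstract fixed point counting for a doubly transitive group with trivial
three point stabilizers -/
theorem card_fpf_of_two_transitive {G X : Type*} [Group G] [Finite G] [MulAction G X] [Finite X]
    (a₀ b₀ : X) (hab₀ : a₀ ≠ b₀)
    (h2 : ∀ a b : X, a ≠ b → ∃ g : G, g • a₀ = a ∧ g • b₀ = b)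
    (h3 : ∀ g : G, ∀ a b c : X, a ≠ b → b ≠ c → a ≠ c → g • a = a → g • b = b → g • c = c →
      g = 1) :
    2 * Nat.card {g : G // ∀ x : X, g • x ≠ x} + (Nat.card X - 1) * (Nat.card X - 2) =
      Nat.card G := by
  classical
  have : Fintype G := Fintype.ofFinite G
  have : Fintype X := Fintype.ofFinite X
  -- transitivity
  have h1 : ∀ a : X, ∃ g : G, g • a₀ = a := by
    intro a
    by_cases ha : a = b₀
    · obtain ⟨g, -, hg⟩ := h2 b₀ a₀ hab₀.symm
      exact ⟨g⁻¹, by rw [inv_smul_eq_iff, ha, hg]⟩
    · by_cases ha' : a = a₀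
      · exact ⟨1, by rw [one_smul, ha']⟩
      · obtain ⟨g, hg, -⟩ := h2 a a₀ ha'
        exact ⟨g, hg⟩
  -- Burnside on X
  have hB1 := MulAction.sum_card_fixedBy_eq_card_orbits_mul_card_group G X
  have horb1 : Fintype.card (Quotient (MulAction.orbitRel G X)) = 1 := by
    rw [Fintype.card_eq_one_iff]
    refine ⟨Quotient.mk'' a₀, ?_⟩
    intro x
    induction x using Quotient.inductionOn' with
    | h a =>
      apply Quotient.sound'
      obtain ⟨g, hg⟩ := h1 a
      exact ⟨g, hg⟩
  rw [horb1, one_mul] at hB1
  -- Burnside on X × X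
  have hB2 := MulAction.sum_card_fixedBy_eq_card_orbits_mul_card_group G (X × X)
  have horb2 : Fintype.card (Quotient (MulAction.orbitRel G (X × X))) = 2 := by
    have hwd : ∀ x y : X × X, (MulAction.orbitRel G (X × X)) x y →
        decide (x.1 = x.2) = decide (y.1 = y.2) := by
      rintro ⟨a, b⟩ ⟨c, d⟩ ⟨g, hg⟩
      have hg' : g • (c, d) = (a, b) := hg
      rw [Prod.smul_mk, Prod.mk.injEq] at hg'
      obtain ⟨rfl, rfl⟩ := hg'
      simp only [decide_eq_decide]
      constructor
      · intro h
        exact MulAction.injective g h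
      · intro h
        rw [h]
    let e : Quotient (MulAction.orbitRel G (X × X)) ≃ Bool :=
      { toFun := Quotient.lift (fun x : X × X => decide (x.1 = x.2)) hwd
        invFun := fun b => if b then Quotient.mk'' (a₀, a₀) else Quotient.mk'' (a₀, b₀)
        left_inv := by
          intro x
          induction x using Quotient.inductionOn' with
          | h x =>
            obtain ⟨a, b⟩ := x
            show (if decide (a = b) then _ else _) = _
            by_cases hab : a = b
            · subst hab
              simp only [decide_true, if_true]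
              apply Quotient.sound'
              obtain ⟨g, hg⟩ := h1 a
              refine ⟨g⁻¹, ?_⟩
              show g⁻¹ • (a, a) = (a₀, a₀)
              rw [Prod.smul_mk, Prod.mk.injEq, inv_smul_eq_iff, hg]
              exact ⟨rfl, rfl⟩
            · simp only [hab, decide_false, Bool.false_eq_true, if_false]
              apply Quotient.sound'
              obtain ⟨g, hg1, hg2⟩ := h2 a b hab
              refine ⟨g⁻¹, ?_⟩
              show g⁻¹ • (a, b) = (a₀, b₀)
              rw [Prod.smul_mk, Prod.mk.injEq, inv_smul_eq_iff, inv_smul_eq_iff, hg1, hg2]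
              exact ⟨rfl, rfl⟩
        right_inv := by
          intro b
          cases b
          · show decide (a₀ = b₀) = false
            simp [hab₀]
          · show decide (a₀ = a₀) = true
            simp }
    rw [Fintype.card_congr e, Fintype.card_bool]
  rw [horb2] at hB2
  -- fixed points on pairs
  have hpair : ∀ g : G, Fintype.card (MulAction.fixedBy (X × X) g) =
      Fintype.card (MulAction.fixedBy X g) * Fintype.card (MulAction.fixedBy X g) := by
    intro g
    rw [← Fintype.card_prod]
    apply Fintype.card_congr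
    exact
      { toFun := fun x => (⟨x.1.1, congrArg Prod.fst x.2⟩, ⟨x.1.2, congrArg Prod.snd x.2⟩)
        invFun := fun x => ⟨(x.1.1, x.2.1), by
          show g • (x.1.1, x.2.1) = (x.1.1, x.2.1)
          rw [Prod.smul_mk, x.1.2, x.2.2]⟩
        left_inv := fun x => rfl
        right_inv := fun x => rfl }
  simp only [hpair] at hB2
  -- the key pointwise identity
  have hone : Fintype.card (MulAction.fixedBy X (1 : G)) = Fintype.card X := by
    apply Fintype.card_congr
    exact
      { toFun := fun x => x.1
        invFun := fun x => ⟨x, one_smul G x⟩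
        left_inv := fun x => rfl
        right_inv := fun x => rfl }
  have hle : ∀ g : G, g ≠ 1 → Fintype.card (MulAction.fixedBy X g) ≤ 2 := by
    intro g hg
    by_contra hlt
    have h3' : 2 < Fintype.card (MulAction.fixedBy X g) := by omega
    obtain ⟨a, b, c, hab, hac, hbc⟩ := Fintype.two_lt_card_iff.1 h3'
    apply hg
    exact h3 g a.1 b.1 c.1 (fun h => hab (Subtype.ext h)) (fun h => hbc (Subtype.ext h))
      (fun h => hac (Subtype.ext h)) a.2 b.2 c.2
  have hzero : ∀ g : G, Fintype.card (MulAction.fixedBy X g) = 0 ↔ ∀ x : X, g • x ≠ x := by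
    intro g
    rw [Fintype.card_eq_zero_iff]
    constructor
    · intro h x hx
      exact h.false ⟨x, hx⟩
    · intro h
      exact ⟨fun x => h x.1 x.2⟩
  -- pointwise: k^2 + 2 = 3k + 2[k=0] for g ≠ 1
  have hpt : ∀ g : G, g ≠ 1 →
      Fintype.card (MulAction.fixedBy X g) * Fintype.card (MulAction.fixedBy X g) + 2 =
        3 * Fintype.card (MulAction.fixedBy X g) +
          2 * (if ∀ x : X, g • x ≠ x then 1 else 0) := by
    intro g hg
    have h1 := hle g hg
    have h2 := hzero g
    by_cases hfp : ∀ x : X, g • x ≠ x
    · rw [if_pos hfp, h2.2 hfp]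
    · rw [if_neg hfp]
      have : Fintype.card (MulAction.fixedBy X g) ≠ 0 := fun h => hfp (h2.1 h)
      interval_cases (Fintype.card (MulAction.fixedBy X g)) <;> simp_all
  -- sum over g ≠ 1
  have hsum : ∑ g : G, (Fintype.card (MulAction.fixedBy X g) *
      Fintype.card (MulAction.fixedBy X g) + 2) + 3 * Fintype.card X =
      ∑ g : G, (3 * Fintype.card (MulAction.fixedBy X g) +
          2 * (if ∀ x : X, g • x ≠ x then 1 else 0)) + (Fintype.card X * Fintype.card X + 2) := by
    rw [← Finset.add_sum_erase Finset.univ _ (Finset.mem_univ (1 : G)),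
      ← Finset.add_sum_erase Finset.univ (fun g : G => 3 * Fintype.card (MulAction.fixedBy X g) +
          2 * (if ∀ x : X, g • x ≠ x then 1 else 0)) (Finset.mem_univ (1 : G))]
    have hrest : ∑ g ∈ Finset.univ.erase (1 : G), (Fintype.card (MulAction.fixedBy X g) *
        Fintype.card (MulAction.fixedBy X g) + 2) =
        ∑ g ∈ Finset.univ.erase (1 : G), (3 * Fintype.card (MulAction.fixedBy X g) +
          2 * (if ∀ x : X, g • x ≠ x then 1 else 0)) := by
      apply Finset.sum_congr rfl
      intro g hg
      exact hpt g (Finset.ne_of_mem_erase hg)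
    rw [hrest, hone]
    have hnf : ¬ ∀ x : X, (1 : G) • x ≠ x := fun h => h a₀ (one_smul G a₀)
    rw [if_neg hnf]
    ring
  rw [Finset.sum_add_distrib, Finset.sum_add_distrib, hB2, ← Finset.mul_sum, hB1,
    ← Finset.mul_sum, Finset.sum_const, Finset.card_univ, smul_eq_mul] at hsum
  have hN : ∑ g : G, (if ∀ x : X, g • x ≠ x then 1 else 0) =
      Nat.card {g : G // ∀ x : X, g • x ≠ x} := by
    rw [Nat.card_eq_fintype_card, Fintype.card_subtype, Finset.card_filter]
  rw [hN] at hsum
  rw [Nat.card_eq_fintype_card (α := X), Nat.card_eq_fintype_card (α := G)]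
  have hX2 : 2 ≤ Fintype.card X := by
    rw [← Finset.card_univ]
    have : ({a₀, b₀} : Finset X).card = 2 := Finset.card_pair hab₀
    rw [← this]
    exact Finset.card_le_card (Finset.subset_univ _)
  obtain ⟨k, hk⟩ : ∃ k, Fintype.card X = k + 2 := ⟨Fintype.card X - 2, by omega⟩
  rw [hk] at hsum ⊢
  have e1 : k + 2 - 1 = k + 1 := by omega
  have e2 : k + 2 - 2 = k := by omega
  rw [e1, e2]
  nlinarith [hsum]

end Cfsg.Agent.Helper2.Sz
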