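import Mathlib

set_option autoImplicit false

namespace Cfsg.Agent.Helper2.SzArith

/-- the data attached to a conjugacy class of tori -/
structure TorusData (q : ℕ) (a i e : ℕ) : Prop where
  five_le : 5 ≤ a
  dvd : a ∣ q ^ 2 + 1
  idx : i = 1 ∨ i = 2 ∨ i = 4
  count : e * (a * i) = q ^ 2 * (q ^ 2 + 1) * (q - 1) * (a - 1)

theorem TorusData.lower {q a i e : ℕ} (h : TorusData q a i e) :
    q ^ 2 * (q ^ 2 + 1) * (q - 1) ≤ 5 * e := by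
  obtain ⟨h5, -, hi, hc⟩ := h
  obtain ⟨b, rfl⟩ : ∃ b, a = b + 5 := ⟨a - 5, by omega⟩
  have e1 : b + 5 - 1 = b + 4 := by omega
  rw [e1] at hc
  set Gc := q ^ 2 * (q ^ 2 + 1) * (q - 1) with hGc
  have hi4 : i ≤ 4 := by rcases hi with rfl | rfl | rfl <;> omega
  by_contra hlt
  have hlt' : 5 * e < Gc := by omega
  have h1 : e * ((b + 5) * i) ≤ e * ((b + 5) * 4) :=
    Nat.mul_le_mul_left _ (Nat.mul_le_mul_left _ hi4)
  nlinarith

theorem TorusData.lower' {q a i e : ℕ} (h : TorusData q a i e) (hi2 : i ≤ 2) :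
    2 * (q ^ 2 * (q ^ 2 + 1) * (q - 1)) ≤ 5 * e := by
  obtain ⟨h5, -, hi, hc⟩ := h
  obtain ⟨b, rfl⟩ : ∃ b, a = b + 5 := ⟨a - 5, by omega⟩
  have e1 : b + 5 - 1 = b + 4 := by omega
  rw [e1] at hc
  set Gc := q ^ 2 * (q ^ 2 + 1) * (q - 1) with hGc
  by_contra hlt
  have hlt' : 5 * e < 2 * Gc := by omega
  have h1 : e * ((b + 5) * i) ≤ e * ((b + 5) * 2) :=
    Nat.mul_le_mul_left _ (Nat.mul_le_mul_left _ hi2)
  nlinarith

theorem Gc_pos {q : ℕ} (hq : 8 ≤ q) : 0 < q ^ 2 * (q ^ 2 + 1) * (q - 1) := by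
  have : 0 < q - 1 := by omega
  positivity

/-- three classes are impossible -/
theorem three_false {q N₀ a₁ i₁ e₁ a₂ i₂ e₂ a₃ i₃ e₃ : ℕ} (hq : 8 ≤ q)
    (hN : 2 * N₀ + q ^ 2 * (q ^ 2 - 1) = q ^ 2 * (q ^ 2 + 1) * (q - 1))
    (h₁ : TorusData q a₁ i₁ e₁) (h₂ : TorusData q a₂ i₂ e₂) (h₃ : TorusData q a₃ i₃ e₃)
    (hsum : e₁ + e₂ + e₃ ≤ N₀) : False := by
  have := h₁.lower
  have := h₂.lower
  have := h₃.lower
  have := Gc_pos hq
  omega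

/-- one class is impossible -/
theorem one_false {q N₀ a i e : ℕ} (hq : 8 ≤ q)
    (hN : 2 * N₀ + q ^ 2 * (q ^ 2 - 1) = q ^ 2 * (q ^ 2 + 1) * (q - 1))
    (h : TorusData q a i e) (hsum : e = N₀) : False := by
  subst hsum
  obtain ⟨h5, -, hi, hc⟩ := h
  obtain ⟨b, rfl⟩ : ∃ b, a = b + 5 := ⟨a - 5, by omega⟩
  obtain ⟨p, rfl⟩ : ∃ p, q = p + 8 := ⟨q - 8, by omega⟩
  have e1 : b + 5 - 1 = b + 4 := by omega
  have e2 : p + 8 - 1 = p + 7 := by omega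
  have e3 : (p + 8) ^ 2 - 1 = (p + 7) * (p + 9) := by
    have : (p + 8) ^ 2 = (p + 7) * (p + 9) + 1 := by ring
    omega
  rw [e1, e2] at hc
  rw [e2, e3] at hN
  rcases hi with rfl | rfl | rfl
  · obtain ⟨Gc, hGc⟩ : ∃ Gc, Gc = (p + 8) ^ 2 * ((p + 8) ^ 2 + 1) * (p + 7) := ⟨_, rfl⟩
    rw [← hGc] at hc hN
    have hGpos : 0 < Gc := by rw [hGc]; positivity
    have h2e : 2 * e ≤ Gc := by omega
    have h3 : 2 * e * (b + 5) ≤ Gc * (b + 5) := Nat.mul_le_mul_right _ h2e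
    have h4 : 2 * e * (b + 5) = Gc * (2 * (b + 4)) := by
      rw [mul_one] at hc
      calc 2 * e * (b + 5) = 2 * (e * (b + 5)) := by ring
        _ = 2 * (Gc * (b + 4)) := by rw [hc]
        _ = Gc * (2 * (b + 4)) := by ring
    rw [h4] at h3
    have := Nat.le_of_mul_le_mul_left h3 hGpos
    omega
  · -- (q^2+1) = a (q+1)
    have h1 : (p + 8) ^ 2 + 1 = (b + 5) * (p + 9) := by
      have h2 : (p + 8) ^ 2 * (p + 7) * ((p + 8) ^ 2 + 1) =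
          (p + 8) ^ 2 * (p + 7) * ((b + 5) * (p + 9)) := by nlinarith
      have hpos : 0 < (p + 8) ^ 2 * (p + 7) := by positivity
      exact Nat.eq_of_mul_eq_mul_left hpos h2
    rcases Nat.lt_or_ge (b + 5) (p + 8) with hlt | hge
    · have : (b + 5) * (p + 9) ≤ (p + 7) * (p + 9) := Nat.mul_le_mul_right _ (by omega)
      nlinarith
    · have : (p + 8) * (p + 9) ≤ (b + 5) * (p + 9) := Nat.mul_le_mul_right _ hge
      nlinarith
  · -- (q^2+1)(a+1) = 2 a (q+1)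
    have h1 : ((p + 8) ^ 2 + 1) * (b + 6) = 2 * (b + 5) * (p + 9) := by
      have h2 : (p + 8) ^ 2 * (p + 7) * (((p + 8) ^ 2 + 1) * (b + 6)) =
          (p + 8) ^ 2 * (p + 7) * (2 * (b + 5) * (p + 9)) := by nlinarith
      have hpos : 0 < (p + 8) ^ 2 * (p + 7) := by positivity
      exact Nat.eq_of_mul_eq_mul_left hpos h2
    have hlt : 2 * (p + 9) < (p + 8) ^ 2 + 1 := by nlinarith
    have h3 : 2 * (b + 5) * (p + 9) < ((p + 8) ^ 2 + 1) * (b + 6) := by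
      calc 2 * (b + 5) * (p + 9) = (b + 5) * (2 * (p + 9)) := by ring
        _ < (b + 5) * ((p + 8) ^ 2 + 1) := Nat.mul_lt_mul_of_pos_left hlt (by omega)
        _ ≤ (b + 6) * ((p + 8) ^ 2 + 1) := Nat.mul_le_mul_right _ (by omega)
        _ = ((p + 8) ^ 2 + 1) * (b + 6) := by ring
    omega

set_option maxHeartbeats 1000000 in
/-- two classes: the orders are determined -/
theorem two_classes {q r N₀ a₁ i₁ e₁ a₂ i₂ e₂ : ℕ} (hq : 8 ≤ q) (hr : r * r = 2 * q)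
    (hN : 2 * N₀ + q ^ 2 * (q ^ 2 - 1) = q ^ 2 * (q ^ 2 + 1) * (q - 1))
    (h₁ : TorusData q a₁ i₁ e₁) (h₂ : TorusData q a₂ i₂ e₂) (hcop : Nat.Coprime a₁ a₂)
    (hsum : e₁ + e₂ = N₀) :
    i₁ = 4 ∧ i₂ = 4 ∧ ((a₁ = q + r + 1 ∧ a₂ = q - r + 1) ∨ (a₁ = q - r + 1 ∧ a₂ = q + r + 1)) := by
  have hGpos := Gc_pos hq
  have hi₁ : i₁ = 4 := by
    rcases h₁.idx with h | h | h
    · exfalso
      have := h₁.lower' (by omega)
      have := h₂.lower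
      omega
    · exfalso
      have := h₁.lower' (by omega)
      have := h₂.lower
      omega
    · exact h
  have hi₂ : i₂ = 4 := by
    rcases h₂.idx with h | h | h
    · exfalso
      have := h₂.lower' (by omega)
      have := h₁.lower
      omega
    · exfalso
      have := h₂.lower' (by omega)
      have := h₁.lower
      omega
    · exact h
  refine ⟨hi₁, hi₂, ?_⟩
  subst hi₁ hi₂
  obtain ⟨h5₁, hd₁, -, hc₁⟩ := h₁
  obtain ⟨h5₂, hd₂, -, hc₂⟩ := h₂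
  obtain ⟨c, hc⟩ := hcop.mul_dvd_of_dvd_of_dvd hd₁ hd₂
  have hrq : r ≤ q := by
    by_contra hlt
    have h1 : q < r := by omega
    have h2 : q * q < r * r := Nat.mul_self_lt_mul_self h1
    nlinarith
  -- work over the integers
  have hq1 : ((q - 1 : ℕ) : ℤ) = (q : ℤ) - 1 := by
    rw [Nat.cast_sub (by omega)]; simp
  have hq2 : ((q ^ 2 - 1 : ℕ) : ℤ) = (q : ℤ) ^ 2 - 1 := by
    rw [Nat.cast_sub (Nat.one_le_pow _ _ (by omega))]; simp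
  have ha₁ : ((a₁ - 1 : ℕ) : ℤ) = (a₁ : ℤ) - 1 := by
    rw [Nat.cast_sub (by omega)]; simp
  have ha₂ : ((a₂ - 1 : ℕ) : ℤ) = (a₂ : ℤ) - 1 := by
    rw [Nat.cast_sub (by omega)]; simp
  have zN : 2 * (N₀ : ℤ) + (q : ℤ) ^ 2 * ((q : ℤ) ^ 2 - 1) =
      (q : ℤ) ^ 2 * ((q : ℤ) ^ 2 + 1) * ((q : ℤ) - 1) := by
    have := congrArg (fun x : ℕ => (x : ℤ)) hN
    simp only [Nat.cast_add, Nat.cast_mul, Nat.cast_pow, Nat.cast_ofNat, hq1, hq2,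
      Nat.cast_one] at this
    exact this
  have z₁ : (e₁ : ℤ) * ((a₁ : ℤ) * 4) =
      (q : ℤ) ^ 2 * ((q : ℤ) ^ 2 + 1) * ((q : ℤ) - 1) * ((a₁ : ℤ) - 1) := by
    have := congrArg (fun x : ℕ => (x : ℤ)) hc₁
    simp only [Nat.cast_add, Nat.cast_mul, Nat.cast_pow, Nat.cast_ofNat, hq1, ha₁,
      Nat.cast_one] at this
    exact this
  have z₂ : (e₂ : ℤ) * ((a₂ : ℤ) * 4) =
      (q : ℤ) ^ 2 * ((q : ℤ) ^ 2 + 1) * ((q : ℤ) - 1) * ((a₂ : ℤ) - 1) := by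
    have := congrArg (fun x : ℕ => (x : ℤ)) hc₂
    simp only [Nat.cast_add, Nat.cast_mul, Nat.cast_pow, Nat.cast_ofNat, hq1, ha₂,
      Nat.cast_one] at this
    exact this
  have zs : (e₁ : ℤ) + e₂ = N₀ := by exact_mod_cast hsum
  have zc : (q : ℤ) ^ 2 + 1 = (a₁ : ℤ) * a₂ * c := by exact_mod_cast hc
  have zr : (r : ℤ) * r = 2 * q := by exact_mod_cast hr
  have zq : (8 : ℤ) ≤ q := by exact_mod_cast hq
  have za₁ : (5 : ℤ) ≤ a₁ := by exact_mod_cast h5₁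
  have za₂ : (5 : ℤ) ≤ a₂ := by exact_mod_cast h5₂
  -- the key relation
  have hstar : ((q : ℤ) ^ 2 + 1) * ((a₁ : ℤ) + a₂) = 2 * ((q : ℤ) + 1) * (a₁ * a₂) := by
    have h1 : (q : ℤ) ^ 2 * ((q : ℤ) - 1) * (((q : ℤ) ^ 2 + 1) * ((a₁ : ℤ) + a₂)) =
        (q : ℤ) ^ 2 * ((q : ℤ) - 1) * (2 * ((q : ℤ) + 1) * (a₁ * a₂)) := by
      linear_combination (a₂ : ℤ) * z₁ + (a₁ : ℤ) * z₂ - 2 * (a₁ : ℤ) * a₂ * zN
        - 4 * (a₁ : ℤ) * a₂ * zs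
    have hpos : (q : ℤ) ^ 2 * ((q : ℤ) - 1) ≠ 0 := by
      have : (0 : ℤ) < (q : ℤ) ^ 2 * ((q : ℤ) - 1) := by
        have : (0 : ℤ) < (q : ℤ) - 1 := by linarith
        positivity
      exact this.ne'
    exact mul_left_cancel₀ hpos h1
  have hcpos : (1 : ℤ) ≤ c := by
    have : c ≠ 0 := by
      rintro rfl
      rw [mul_zero] at hc
      have : 0 < q ^ 2 + 1 := by positivity
      omega
    have : 1 ≤ c := by omega
    exact_mod_cast this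
  have hprod : (0 : ℤ) < (a₁ : ℤ) * a₂ := by positivity
  have hcsum : (c : ℤ) * ((a₁ : ℤ) + a₂) = 2 * ((q : ℤ) + 1) := by
    have h1 : (a₁ : ℤ) * a₂ * ((c : ℤ) * ((a₁ : ℤ) + a₂)) = (a₁ : ℤ) * a₂ * (2 * ((q : ℤ) + 1)) := by
      rw [zc] at hstar
      linear_combination hstar
    exact mul_left_cancel₀ hprod.ne' h1
  have hc1 : (c : ℤ) = 1 := by
    by_contra hne
    have hc2 : (2 : ℤ) ≤ c := by
      rcases lt_or_eq_of_le hcpos with h | h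
      · linarith
      · exact absurd h.symm hne
    -- AM-GM
    have hamgm : 4 * ((a₁ : ℤ) * a₂) ≤ ((a₁ : ℤ) + a₂) ^ 2 := by nlinarith [sq_nonneg ((a₁ : ℤ) - a₂)]
    have h1 : (c : ℤ) * ((q : ℤ) ^ 2 + 1) ≤ ((q : ℤ) + 1) ^ 2 := by
      have h2 : (c : ℤ) ^ 2 * (4 * ((a₁ : ℤ) * a₂)) ≤ (c : ℤ) ^ 2 * ((a₁ : ℤ) + a₂) ^ 2 :=
        mul_le_mul_of_nonneg_left hamgm (by positivity)
      have h3 : (c : ℤ) ^ 2 * ((a₁ : ℤ) + a₂) ^ 2 = 4 * ((q : ℤ) + 1) ^ 2 := by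
        have : (c : ℤ) ^ 2 * ((a₁ : ℤ) + a₂) ^ 2 = ((c : ℤ) * ((a₁ : ℤ) + a₂)) ^ 2 := by ring
        rw [this, hcsum]; ring
      have h4 : (c : ℤ) ^ 2 * (4 * ((a₁ : ℤ) * a₂)) = 4 * (c : ℤ) * ((q : ℤ) ^ 2 + 1) := by
        rw [zc]; ring
      rw [h3, h4] at h2
      linarith
    have h5 : 2 * ((q : ℤ) ^ 2 + 1) ≤ (c : ℤ) * ((q : ℤ) ^ 2 + 1) :=
      mul_le_mul_of_nonneg_right hc2 (by positivity)
    have h6 : 8 * (q : ℤ) ≤ (q : ℤ) * q := mul_le_mul_of_nonneg_right zq (by linarith)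
    nlinarith
  rw [hc1, mul_one] at zc
  rw [hc1, one_mul] at hcsum
  -- the difference
  have hdiff : ((a₁ : ℤ) - a₂ - 2 * r) * ((a₁ : ℤ) - a₂ + 2 * r) = 0 := by
    have h1 : ((a₁ : ℤ) - a₂) ^ 2 = ((a₁ : ℤ) + a₂) ^ 2 - 4 * (a₁ * a₂) := by ring
    have h2 : ((a₁ : ℤ) - a₂ - 2 * r) * ((a₁ : ℤ) - a₂ + 2 * r) =
        ((a₁ : ℤ) - a₂) ^ 2 - 4 * (r * r) := by ring
    rw [h2, h1, hcsum, ← zc, zr]
    ring
  rcases mul_eq_zero.1 hdiff with h | h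
  · left
    have e1 : (a₁ : ℤ) = q + r + 1 := by linarith
    have e2 : (a₂ : ℤ) = q - r + 1 := by linarith
    constructor
    · exact_mod_cast e1
    · have : ((q - r + 1 : ℕ) : ℤ) = (q : ℤ) - r + 1 := by
        rw [Nat.cast_add, Nat.cast_sub hrq]; simp
      have h3 : ((a₂ : ℕ) : ℤ) = ((q - r + 1 : ℕ) : ℤ) := by rw [this, e2]
      exact_mod_cast h3
  · right
    have e1 : (a₂ : ℤ) = q + r + 1 := by linarith
    have e2 : (a₁ : ℤ) = q - r + 1 := by linarith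
    constructor
    · have : ((q - r + 1 : ℕ) : ℤ) = (q : ℤ) - r + 1 := by
        rw [Nat.cast_add, Nat.cast_sub hrq]; simp
      have h3 : ((a₁ : ℕ) : ℤ) = ((q - r + 1 : ℕ) : ℤ) := by rw [this, e2]
      exact_mod_cast h3
    · exact_mod_cast e1

end Cfsg.Agent.Helper2.SzArith
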