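import Mathlib

set_option autoImplicit false

namespace Cfsg.Agent.Helper2.TICount

theorem card_ne_one {A : Type*} [Group A] [Finite A] :
    Nat.card {a : A // a ≠ 1} = Nat.card A - 1 := by
  classical
  have : Fintype A := Fintype.ofFinite A
  rw [Nat.card_eq_fintype_card, Nat.card_eq_fintype_card]
  exact Set.card_ne_eq (1 : A)

/-- counting the union of the conjugates of a trivial intersection subgroup -/
theorem card_conj_union {G : Type*} [Group G] [Finite G] (A : Subgroup G)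
    (hTI : ∀ a ∈ A, a ≠ 1 → ∀ h : G, h⁻¹ * a * h ∈ A →
      h ∈ Subgroup.normalizer (A : Set G)) :
    Nat.card {g : G // g ≠ 1 ∧ ∃ h : G, h⁻¹ * g * h ∈ A} *
        Nat.card (Subgroup.normalizer (A : Set G)) =
      Nat.card G * (Nat.card A - 1) := by
  classical
  -- the first bijection
  let e1 : {p : G × G // p.2 ≠ 1 ∧ p.1⁻¹ * p.2 * p.1 ∈ A} ≃ G × {a : A // a ≠ 1} :=
    { toFun := fun p => (p.1.1, ⟨⟨p.1.1⁻¹ * p.1.2 * p.1.1, p.2.2⟩, fun h => p.2.1 (by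
        have h1 : p.1.1⁻¹ * p.1.2 * p.1.1 = 1 := congrArg Subtype.val h
        have h2 : p.1.2 = p.1.1 * (p.1.1⁻¹ * p.1.2 * p.1.1) * p.1.1⁻¹ := by group
        rw [h2, h1]
        group)⟩)
      invFun := fun x => ⟨(x.1, x.1 * x.2.1.1 * x.1⁻¹), by
        constructor
        · intro h
          apply x.2.2
          apply Subtype.ext
          have h' : x.1 * x.2.1.1 * x.1⁻¹ = 1 := h
          have h2 : (x.2.1 : G) = x.1⁻¹ * (x.1 * x.2.1.1 * x.1⁻¹) * x.1 := by group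
          show (x.2.1 : G) = 1
          rw [h2, h']
          group
        · have h2 : x.1⁻¹ * (x.1 * x.2.1.1 * x.1⁻¹) * x.1 = (x.2.1 : G) := by group
          show x.1⁻¹ * (x.1 * x.2.1.1 * x.1⁻¹) * x.1 ∈ A
          rw [h2]
          exact x.2.1.2⟩
      left_inv := by
        rintro ⟨⟨h, g⟩, hp⟩
        apply Subtype.ext
        show (h, h * (h⁻¹ * g * h) * h⁻¹) = (h, g)
        congr 1
        group
      right_inv := by
        rintro ⟨h, ⟨a, ha⟩, ha1⟩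
        show (h, (⟨⟨h⁻¹ * (h * a * h⁻¹) * h, _⟩, _⟩ : {a : A // a ≠ 1})) = (h, ⟨⟨a, ha⟩, ha1⟩)
        congr 1
        apply Subtype.ext
        apply Subtype.ext
        show h⁻¹ * (h * a * h⁻¹) * h = a
        group }
  -- the second bijection
  have hex : ∀ g : {g : G // g ≠ 1 ∧ ∃ h : G, h⁻¹ * g * h ∈ A}, ∃ h : G, h⁻¹ * g.1 * h ∈ A :=
    fun g => g.2.2
  choose h₀ hh₀ using hex
  let e2 : {p : G × G // p.2 ≠ 1 ∧ p.1⁻¹ * p.2 * p.1 ∈ A} ≃
      {g : G // g ≠ 1 ∧ ∃ h : G, h⁻¹ * g * h ∈ A} × Subgroup.normalizer (A : Set G) :=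
    { toFun := fun p => (⟨p.1.2, p.2.1, p.1.1, p.2.2⟩,
        ⟨(h₀ ⟨p.1.2, p.2.1, p.1.1, p.2.2⟩)⁻¹ * p.1.1, by
          have ha := hh₀ ⟨p.1.2, p.2.1, p.1.1, p.2.2⟩
          apply hTI _ ha
          · intro h1
            apply p.2.1
            have h2 : p.1.2 = (h₀ ⟨p.1.2, p.2.1, p.1.1, p.2.2⟩) *
                ((h₀ ⟨p.1.2, p.2.1, p.1.1, p.2.2⟩)⁻¹ * p.1.2 *
                  (h₀ ⟨p.1.2, p.2.1, p.1.1, p.2.2⟩)) *
                (h₀ ⟨p.1.2, p.2.1, p.1.1, p.2.2⟩)⁻¹ := by group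
            rw [h2, h1]
            group
          · have h2 : ((h₀ ⟨p.1.2, p.2.1, p.1.1, p.2.2⟩)⁻¹ * p.1.1)⁻¹ *
                ((h₀ ⟨p.1.2, p.2.1, p.1.1, p.2.2⟩)⁻¹ * p.1.2 *
                  (h₀ ⟨p.1.2, p.2.1, p.1.1, p.2.2⟩)) *
                ((h₀ ⟨p.1.2, p.2.1, p.1.1, p.2.2⟩)⁻¹ * p.1.1) = p.1.1⁻¹ * p.1.2 * p.1.1 := by
              group
            rw [h2]
            exact p.2.2⟩)
      invFun := fun x => ⟨(h₀ x.1 * x.2.1, x.1.1), by
        refine ⟨x.1.2.1, ?_⟩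
        have h2 : (h₀ x.1 * x.2.1)⁻¹ * x.1.1 * (h₀ x.1 * x.2.1) =
            (x.2.1 : G)⁻¹ * ((h₀ x.1)⁻¹ * x.1.1 * h₀ x.1) * x.2.1 := by group
        show (h₀ x.1 * x.2.1)⁻¹ * x.1.1 * (h₀ x.1 * x.2.1) ∈ A
        rw [h2]
        exact (Subgroup.mem_normalizer_iff''.1 x.2.2 _).1 (hh₀ x.1)⟩
      left_inv := by
        rintro ⟨⟨h, g⟩, hp⟩
        apply Subtype.ext
        show (h₀ ⟨g, hp.1, h, hp.2⟩ * ((h₀ ⟨g, hp.1, h, hp.2⟩)⁻¹ * h), g) = (h, g)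
        congr 1
        group
      right_inv := by
        rintro ⟨g, n⟩
        show ((⟨g.1, _⟩ : {g : G // g ≠ 1 ∧ ∃ h : G, h⁻¹ * g * h ∈ A}),
          (⟨(h₀ ⟨g.1, _⟩)⁻¹ * (h₀ g * n.1), _⟩ : Subgroup.normalizer (A : Set G))) = (g, n)
        congr 1
        apply Subtype.ext
        show (h₀ g)⁻¹ * (h₀ g * n.1) = n.1
        group }
  have h1 := Nat.card_congr e1
  have h2 := Nat.card_congr e2
  rw [Nat.card_prod] at h1 h2
  rw [← h2, h1, card_ne_one]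

end Cfsg.Agent.Helper2.TICount
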