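import Mathlib
import Cfsg.Agent.Lib.Helper2.SzTorus3
import Cfsg.Agent.Lib.Helper2.FpfCount
import Cfsg.Agent.Lib.Helper2.TICount
import Cfsg.Agent.Lib.Helper2.SzArith
import Cfsg.Agent.S0331

set_option autoImplicit false
set_option linter.unusedSectionVars false
set_option linter.unusedSimpArgs false

namespace Cfsg.Agent.Helper2.Sz

open Matrix Cfsg.Agent.S0335
open scoped Pointwise commutatorElement

variable {F : Type*} [Field F] {m : ℕ} (S : SzData F m)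

/-- the union of the conjugates of a subgroup, without the identity -/
def ConjUnion {F : Type*} [Field F] {m : ℕ} (A : Subgroup (Cfsg.Sz F m)) (g : Cfsg.Sz F m) : Prop :=
  g ≠ 1 ∧ ∃ h : Cfsg.Sz F m, h⁻¹ * g * h ∈ A

namespace SzData

section group
variable [Fintype F]

include S in
/-- the number of fixed-point-free elements -/
theorem card_fpf (hm : 1 ≤ m) (hF : Fintype.card F = 2 ^ (2 * m + 1)) :
    2 * Nat.card {g : Cfsg.Sz F m // Fpf g} +
        (2 ^ (2 * m + 1)) ^ 2 * ((2 ^ (2 * m + 1)) ^ 2 - 1) =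
      (2 ^ (2 * m + 1)) ^ 2 * ((2 ^ (2 * m + 1)) ^ 2 + 1) * (2 ^ (2 * m + 1) - 1) := by
  have h := card_fpf_of_two_transitive (G := Cfsg.Sz F m) (X := Cfsg.suzukiOvoid F m)
    ⟨pInf F, S.pInf_mem⟩ ⟨S.pt 0 0, S.pt_mem 0 0⟩
    (fun h => S.pt_ne_pInf 0 0 (congrArg Subtype.val h).symm)
    (by
      intro a b hab
      obtain ⟨g, hg, h1, h2⟩ := S.exists_smul_pair a.2 b.2 (fun h => hab (Subtype.ext h))
      exact ⟨⟨g, hg⟩, Subtype.ext h1, Subtype.ext h2⟩)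
    (by
      intro g a b c hab hbc hac h1 h2 h3
      apply Subtype.ext
      exact S.eq_one_of_fix_three hm hF g.2 a.2 b.2 c.2 (fun h => hab (Subtype.ext h))
        (fun h => hbc (Subtype.ext h)) (fun h => hac (Subtype.ext h))
        (congrArg Subtype.val h1) (congrArg Subtype.val h2) (congrArg Subtype.val h3))
  rw [Cfsg.Agent.S0326.result, hF, S.card_Sz hm hF] at h
  have e1 : (2 ^ (2 * m + 1)) ^ 2 + 1 - 1 = (2 ^ (2 * m + 1)) ^ 2 := by omega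
  have e2 : (2 ^ (2 * m + 1)) ^ 2 + 1 - 2 = (2 ^ (2 * m + 1)) ^ 2 - 1 := by omega
  rw [e1, e2] at h
  rw [← h]
  congr 2
  apply Nat.card_congr
  apply Equiv.subtypeEquivRight
  intro g
  constructor
  · intro hg x
    intro hx
    exact hg x.1 x.2 (congrArg Subtype.val hx)
  · intro hg p hp hx
    exact hg ⟨p, hp⟩ (Subtype.ext hx)

include S in
theorem torus_TI (hm : 1 ≤ m) (hF : Fintype.card F = 2 ^ (2 * m + 1))
    {A : Subgroup (Cfsg.Sz F m)} (hA : IsTorus A) :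
    ∀ a ∈ A, a ≠ 1 → ∀ h : Cfsg.Sz F m, h⁻¹ * a * h ∈ A →
      h ∈ Subgroup.normalizer (A : Set (Cfsg.Sz F m)) := by
  intro a ha ha1 h hah
  have ha1' : h⁻¹ * a * h ≠ 1 := by
    intro h1
    apply ha1
    calc a = h * (h⁻¹ * a * h) * h⁻¹ := by group
      _ = 1 := by rw [h1]; group
  have hC := S.centralizer_eq_of_mem_torus hm hF hA ha ha1
  have hC' := S.centralizer_eq_of_mem_torus hm hF hA hah ha1'
  rw [Subgroup.mem_normalizer_iff]
  intro z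
  have e1 : z ∈ A ↔ z * (h⁻¹ * a * h) = (h⁻¹ * a * h) * z := by
    rw [← hC', mem_centralizer_singleton]
  have e2 : h * z * h⁻¹ ∈ A ↔ (h * z * h⁻¹) * a = a * (h * z * h⁻¹) := by
    rw [← hC, mem_centralizer_singleton]
  rw [e1, e2]
  constructor
  · intro hz
    calc h * z * h⁻¹ * a = h * (z * (h⁻¹ * a * h)) * h⁻¹ := by group
      _ = h * ((h⁻¹ * a * h) * z) * h⁻¹ := by rw [hz]
      _ = a * (h * z * h⁻¹) := by group
  · intro hz
    calc z * (h⁻¹ * a * h) = h⁻¹ * ((h * z * h⁻¹) * a) * h := by group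
      _ = h⁻¹ * (a * (h * z * h⁻¹)) * h := by rw [hz]
      _ = h⁻¹ * a * h * z := by group

include S in
/-- the counting data of a torus -/
theorem torusData (hm : 1 ≤ m) (hF : Fintype.card F = 2 ^ (2 * m + 1))
    {A : Subgroup (Cfsg.Sz F m)} (hA : IsTorus A) :
    ∃ i : ℕ, Nat.card (Subgroup.normalizer (A : Set (Cfsg.Sz F m))) = Nat.card A * i ∧
      SzArith.TorusData (2 ^ (2 * m + 1)) (Nat.card A) i
        (Nat.card {g : Cfsg.Sz F m // ConjUnion A g}) := by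
  obtain ⟨i, hi, hN⟩ := S.card_normalizer_torus hF hA
  refine ⟨i, hN, S.five_le_card_torus hm hF hA, S.card_torus_dvd hm hF hA, ?_, ?_⟩
  · have hle : i ≤ 4 := Nat.le_of_dvd (by norm_num) hi
    interval_cases i
    · simp at hi
    · exact Or.inl rfl
    · exact Or.inr (Or.inl rfl)
    · norm_num at hi
    · exact Or.inr (Or.inr rfl)
  · have h := TICount.card_conj_union A (S.torus_TI hm hF hA)
    rw [hN, S.card_Sz hm hF] at h
    exact h

include S in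
theorem fpf_of_conjUnion (hm : 1 ≤ m) (hF : Fintype.card F = 2 ^ (2 * m + 1))
    {A : Subgroup (Cfsg.Sz F m)} (hA : IsTorus A) {g : Cfsg.Sz F m} (hg : ConjUnion A g) :
    Fpf g := by
  obtain ⟨hg1, h, hh⟩ := hg
  have hne : h⁻¹ * g * h ≠ 1 := by
    intro h1
    apply hg1
    calc g = h * (h⁻¹ * g * h) * h⁻¹ := by group
      _ = 1 := by rw [h1]; group
  have hf := S.fpf_of_mem_torus hm hF hA hh hne
  intro p hp hfix
  refine hf (((h⁻¹ : Cfsg.Sz F m) : SpecialLinearGroup (Fin 4) F) • p)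
    (smul_mem_of_mem_Sz (h⁻¹).2 hp) ?_
  show ((h⁻¹ * g * h : Cfsg.Sz F m) : SpecialLinearGroup (Fin 4) F) •
    ((h⁻¹ : Cfsg.Sz F m) : SpecialLinearGroup (Fin 4) F) • p = _
  rw [Subgroup.coe_mul, Subgroup.coe_mul, mul_smul, mul_smul, Subgroup.coe_inv, smul_inv_smul, hfix]

theorem conjUnion_centralizer_self {g : Cfsg.Sz F m} (hg1 : g ≠ 1) :
    ConjUnion (Subgroup.centralizer ({g} : Set (Cfsg.Sz F m))) g := by
  refine ⟨hg1, 1, ?_⟩
  rw [inv_one, one_mul, mul_one, mem_centralizer_singleton]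

include S in
/-- two tori whose conjugates meet are conjugate -/
theorem conjUnion_of_meet (hm : 1 ≤ m) (hF : Fintype.card F = 2 ^ (2 * m + 1))
    {A₁ A₂ : Subgroup (Cfsg.Sz F m)} (hA₁ : IsTorus A₁) (hA₂ : IsTorus A₂)
    {x : Cfsg.Sz F m} (hx₁ : ConjUnion A₁ x) (hx₂ : ConjUnion A₂ x)
    {g : Cfsg.Sz F m} (hg : g ∈ A₂) (hg1 : g ≠ 1) : ConjUnion A₁ g := by
  obtain ⟨hx1, h₁, hh₁⟩ := hx₁
  obtain ⟨-, h₂, hh₂⟩ := hx₂
  have hne₁ : h₁⁻¹ * x * h₁ ≠ 1 := by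
    intro h1
    apply hx1
    calc x = h₁ * (h₁⁻¹ * x * h₁) * h₁⁻¹ := by group
      _ = 1 := by rw [h1]; group
  have hne₂ : h₂⁻¹ * x * h₂ ≠ 1 := by
    intro h1
    apply hx1
    calc x = h₂ * (h₂⁻¹ * x * h₂) * h₂⁻¹ := by group
      _ = 1 := by rw [h1]; group
  have hC₁ := S.centralizer_eq_of_mem_torus hm hF hA₁ hh₁ hne₁
  have hC₂ := S.centralizer_eq_of_mem_torus hm hF hA₂ hh₂ hne₂
  refine ⟨hg1, h₂⁻¹ * h₁, ?_⟩
  rw [← hC₂, mem_centralizer_singleton] at hg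
  rw [← hC₁, mem_centralizer_singleton]
  calc (h₂⁻¹ * h₁)⁻¹ * g * (h₂⁻¹ * h₁) * (h₁⁻¹ * x * h₁)
      = h₁⁻¹ * h₂ * (g * (h₂⁻¹ * x * h₂)) * h₂⁻¹ * h₁ := by group
    _ = h₁⁻¹ * h₂ * ((h₂⁻¹ * x * h₂) * g) * h₂⁻¹ * h₁ := by rw [hg]
    _ = h₁⁻¹ * x * h₁ * ((h₂⁻¹ * h₁)⁻¹ * g * (h₂⁻¹ * h₁)) := by group

end group

end SzData

end Cfsg.Agent.Helper2.Sz
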