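import Mathlib
import Cfsg.Agent.Lib.Helper2.SzExc

set_option autoImplicit false
set_option linter.unusedSectionVars false
set_option linter.unusedSimpArgs false

namespace Cfsg.Agent.Helper2.Sz

open Matrix Cfsg.Agent.S0335
open scoped Pointwise commutatorElement

theorem card_subtype_or {α : Type*} [Finite α] (p q : α → Prop) (h : ∀ x, p x → ¬ q x) :
    Nat.card {x // p x ∨ q x} = Nat.card {x // p x} + Nat.card {x // q x} := by
  classical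
  have hd : Disjoint p q := by
    rw [disjoint_iff_inf_le]
    intro x hx
    exact h x hx.1 hx.2
  rw [Nat.card_congr (_root_.subtypeOrEquiv p q hd), Nat.card_sum]

theorem five_dvd (m : ℕ) : 5 ∣ (2 ^ (2 * m + 1)) ^ 2 + 1 := by
  have h1 : (2 ^ (2 * m + 1)) ^ 2 = 4 * 16 ^ m := by
    rw [← pow_mul, mul_comm, pow_mul, pow_succ, pow_mul]; norm_num; ring
  rw [h1]
  have h2 : (4 * 16 ^ m + 1) % 5 = 0 := by
    rw [Nat.add_mod, Nat.mul_mod, Nat.pow_mod]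
    norm_num
  exact Nat.dvd_of_mod_eq_zero h2

variable {F : Type*} [Field F] {m : ℕ} (S : SzData F m)

namespace SzData

section group
variable [Fintype F]

include S in
/-- tori of different conjugacy classes have coprime orders -/
theorem coprime_card_of_disjoint (hm : 1 ≤ m) (hF : Fintype.card F = 2 ^ (2 * m + 1))
    {A₁ A₂ : Subgroup (Cfsg.Sz F m)} (hA₁ : IsTorus A₁) (_hA₂ : IsTorus A₂)
    (hdisj : ∀ x, ConjUnion A₁ x → ¬ ConjUnion A₂ x) :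
    Nat.Coprime (Nat.card A₁) (Nat.card A₂) := by
  apply Nat.coprime_of_dvd
  intro ℓ' hℓ' hd1 hd2
  have : Fact ℓ'.Prime := ⟨hℓ'⟩
  obtain ⟨y₁, hy₁⟩ := exists_prime_orderOf_dvd_card' ℓ' hd1
  obtain ⟨y₂, hy₂⟩ := exists_prime_orderOf_dvd_card' ℓ' hd2
  have hℓ2 : ℓ' ≠ 2 := by
    rintro rfl
    have h1 := hd1.trans (S.card_torus_dvd hm hF hA₁)
    have h2 : (2 ^ (2 * m + 1)) ^ 2 = 2 * (2 ^ (2 * m) * 2 ^ (2 * m + 1)) := by
      rw [pow_succ (2 : ℕ) (2 * m)]; ring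
    rw [h2] at h1
    omega
  have ho₁ : orderOf (y₁ : Cfsg.Sz F m) = ℓ' := by rw [Subgroup.orderOf_coe, hy₁]
  have ho₂ : orderOf (y₂ : Cfsg.Sz F m) = ℓ' := by rw [Subgroup.orderOf_coe, hy₂]
  have hy₁1 : (y₁ : Cfsg.Sz F m) ≠ 1 := by
    intro h
    rw [h, orderOf_one] at ho₁
    exact hℓ'.one_lt.ne ho₁
  have hy₂1 : (y₂ : Cfsg.Sz F m) ≠ 1 := by
    intro h
    rw [h, orderOf_one] at ho₂
    exact hℓ'.one_lt.ne ho₂
  have hP₁ : IsPGroup ℓ' (Subgroup.zpowers (y₁ : Cfsg.Sz F m)) := by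
    apply IsPGroup.of_card (n := 1)
    rw [Nat.card_zpowers, ho₁, pow_one]
  have hP₂ : IsPGroup ℓ' (Subgroup.zpowers (y₂ : Cfsg.Sz F m)) := by
    apply IsPGroup.of_card (n := 1)
    rw [Nat.card_zpowers, ho₂, pow_one]
  obtain ⟨P₁, hP₁le⟩ := hP₁.exists_le_sylow
  obtain ⟨P₂, hP₂le⟩ := hP₂.exists_le_sylow
  obtain ⟨k, hk⟩ := MulAction.exists_smul_eq (Cfsg.Sz F m) P₁ P₂
  have hcyc : IsCyclic P₁ := Cfsg.Agent.S0331.result hm hF hℓ2 P₁
  have hy₁P : (y₁ : Cfsg.Sz F m) ∈ (P₁ : Subgroup (Cfsg.Sz F m)) :=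
    hP₁le (Subgroup.mem_zpowers _)
  have hy₂P : (y₂ : Cfsg.Sz F m) ∈ (P₂ : Subgroup (Cfsg.Sz F m)) :=
    hP₂le (Subgroup.mem_zpowers _)
  have hP₁A : ∀ z ∈ (P₁ : Subgroup (Cfsg.Sz F m)), z ∈ A₁ := by
    intro z hz
    rw [← S.centralizer_eq_of_mem_torus hm hF hA₁ y₁.2 hy₁1, mem_centralizer_singleton]
    have hcomm := (IsCyclic.commGroup (α := (P₁ : Subgroup (Cfsg.Sz F m)))).mul_comm
      ⟨z, hz⟩ ⟨y₁, hy₁P⟩
    exact congrArg Subtype.val hcomm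
  rw [← hk, Sylow.coe_subgroup_smul, Subgroup.mem_pointwise_smul_iff_inv_smul_mem] at hy₂P
  have h3 : k⁻¹ * (y₂ : Cfsg.Sz F m) * k ∈ A₁ := by
    have := hP₁A _ hy₂P
    rwa [← map_inv, MulAut.smul_def, MulAut.conj_apply, inv_inv] at this
  apply hdisj (y₂ : Cfsg.Sz F m) ⟨hy₂1, k, h3⟩
  exact ⟨hy₂1, 1, by rw [inv_one, one_mul, mul_one]; exact y₂.2⟩

include S in
/-- the two classes of twisted tori -/
theorem exists_two_tori (hm : 1 ≤ m) (hF : Fintype.card F = 2 ^ (2 * m + 1)) :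
    ∃ A₁ A₂ : Subgroup (Cfsg.Sz F m), IsTorus A₁ ∧ IsTorus A₂ ∧
      Nat.card A₁ = 2 ^ (2 * m + 1) + 2 ^ (m + 1) + 1 ∧
      Nat.card A₂ = 2 ^ (2 * m + 1) - 2 ^ (m + 1) + 1 ∧
      Nat.card (Subgroup.normalizer (A₁ : Set (Cfsg.Sz F m))) =
        4 * (2 ^ (2 * m + 1) + 2 ^ (m + 1) + 1) ∧
      Nat.card (Subgroup.normalizer (A₂ : Set (Cfsg.Sz F m))) =
        4 * (2 ^ (2 * m + 1) - 2 ^ (m + 1) + 1) := by
  have hN := S.card_fpf hm hF
  have hq8 : 8 ≤ 2 ^ (2 * m + 1) := by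
    calc 8 = 2 ^ 3 := by norm_num
      _ ≤ 2 ^ (2 * m + 1) := Nat.pow_le_pow_right (by norm_num) (by omega)
  have hr : 2 ^ (m + 1) * 2 ^ (m + 1) = 2 * 2 ^ (2 * m + 1) := by
    rw [← pow_add, ← pow_succ']
    congr 1
    omega
  -- a first torus, from an element of order five
  have : Fact (Nat.Prime 5) := ⟨by norm_num⟩
  have h5G : 5 ∣ Nat.card (Cfsg.Sz F m) := by
    rw [S.card_Sz hm hF]
    exact Dvd.dvd.mul_right (Dvd.dvd.mul_left (five_dvd m) _) _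
  obtain ⟨g₁, hg₁⟩ := exists_prime_orderOf_dvd_card' 5 h5G
  have hA₁ : IsTorus (Subgroup.centralizer ({g₁} : Set (Cfsg.Sz F m))) :=
    ⟨g₁, 5, by norm_num, by norm_num, five_dvd m, hg₁, rfl⟩
  obtain ⟨A₁, hA₁def⟩ : ∃ A₁, A₁ = Subgroup.centralizer ({g₁} : Set (Cfsg.Sz F m)) := ⟨_, rfl⟩
  rw [← hA₁def] at hA₁
  obtain ⟨i₁, hN₁, hT₁⟩ := S.torusData hm hF hA₁
  by_cases hcov₁ : ∀ g : Cfsg.Sz F m, Fpf g → ConjUnion A₁ g
  · exfalso
    have h1 : Nat.card {g : Cfsg.Sz F m // ConjUnion A₁ g} =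
        Nat.card {g : Cfsg.Sz F m // Fpf g} :=
      Nat.card_congr (Equiv.subtypeEquivRight
        (fun g => ⟨S.fpf_of_conjUnion hm hF hA₁, hcov₁ g⟩))
    exact SzArith.one_false hq8 hN hT₁ h1
  · obtain ⟨g₂, hg₂f, hg₂n⟩ : ∃ g : Cfsg.Sz F m, Fpf g ∧ ¬ ConjUnion A₁ g := by
      by_contra hcon
      apply hcov₁
      intro g hg
      by_contra hng
      exact hcon ⟨g, hg, hng⟩
    have hg₂1 : g₂ ≠ 1 := by
      rintro rfl
      exact S.not_fpf_one hg₂f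
    have hA₂ := S.isTorus_centralizer_of_fpf hm hF hg₂f
    obtain ⟨A₂, hA₂def⟩ : ∃ A₂, A₂ = Subgroup.centralizer ({g₂} : Set (Cfsg.Sz F m)) := ⟨_, rfl⟩
    rw [← hA₂def] at hA₂
    have hg₂A : g₂ ∈ A₂ := by rw [hA₂def, mem_centralizer_singleton]
    obtain ⟨i₂, hN₂, hT₂⟩ := S.torusData hm hF hA₂
    have hdisj₁₂ : ∀ x, ConjUnion A₁ x → ¬ ConjUnion A₂ x :=
      fun x h1 h2 => hg₂n (S.conjUnion_of_meet hm hF hA₁ hA₂ h1 h2 hg₂A hg₂1)
    by_cases hcov₂ : ∀ g : Cfsg.Sz F m, Fpf g → ConjUnion A₁ g ∨ ConjUnion A₂ g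
    · have h1 : Nat.card {g : Cfsg.Sz F m // ConjUnion A₁ g} +
          Nat.card {g : Cfsg.Sz F m // ConjUnion A₂ g} =
          Nat.card {g : Cfsg.Sz F m // Fpf g} := by
        rw [← card_subtype_or _ _ hdisj₁₂]
        apply Nat.card_congr
        apply Equiv.subtypeEquivRight
        intro g
        constructor
        · rintro (h | h)
          · exact S.fpf_of_conjUnion hm hF hA₁ h
          · exact S.fpf_of_conjUnion hm hF hA₂ h
        · exact hcov₂ g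
      have hcop := S.coprime_card_of_disjoint hm hF hA₁ hA₂ hdisj₁₂
      obtain ⟨hi₁, hi₂, hcases⟩ := SzArith.two_classes hq8 hr hN hT₁ hT₂ hcop h1
      rw [hi₁] at hN₁
      rw [hi₂] at hN₂
      rcases hcases with ⟨e1, e2⟩ | ⟨e1, e2⟩
      · refine ⟨A₁, A₂, hA₁, hA₂, e1, e2, ?_, ?_⟩
        · rw [hN₁, e1, mul_comm]
        · rw [hN₂, e2, mul_comm]
      · refine ⟨A₂, A₁, hA₂, hA₁, e2, e1, ?_, ?_⟩
        · rw [hN₂, e2, mul_comm]
        · rw [hN₁, e1, mul_comm]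
    · exfalso
      obtain ⟨g₃, hg₃f, hg₃n⟩ : ∃ g : Cfsg.Sz F m, Fpf g ∧
          ¬ (ConjUnion A₁ g ∨ ConjUnion A₂ g) := by
        by_contra hcon
        apply hcov₂
        intro g hg
        by_contra hng
        exact hcon ⟨g, hg, hng⟩
      have hg₃1 : g₃ ≠ 1 := by
        rintro rfl
        exact S.not_fpf_one hg₃f
      have hA₃ := S.isTorus_centralizer_of_fpf hm hF hg₃f
      obtain ⟨A₃, hA₃def⟩ : ∃ A₃, A₃ = Subgroup.centralizer ({g₃} : Set (Cfsg.Sz F m)) :=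
        ⟨_, rfl⟩
      rw [← hA₃def] at hA₃
      have hg₃A : g₃ ∈ A₃ := by rw [hA₃def, mem_centralizer_singleton]
      obtain ⟨i₃, hN₃, hT₃⟩ := S.torusData hm hF hA₃
      have hdisj₁₃ : ∀ x, ConjUnion A₁ x → ¬ ConjUnion A₃ x :=
        fun x h1 h2 => hg₃n (Or.inl (S.conjUnion_of_meet hm hF hA₁ hA₃ h1 h2 hg₃A hg₃1))
      have hdisj₂₃ : ∀ x, ConjUnion A₂ x → ¬ ConjUnion A₃ x :=
        fun x h1 h2 => hg₃n (Or.inr (S.conjUnion_of_meet hm hF hA₂ hA₃ h1 h2 hg₃A hg₃1))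
      have h1 : Nat.card {g : Cfsg.Sz F m // ConjUnion A₁ g} +
          Nat.card {g : Cfsg.Sz F m // ConjUnion A₂ g} +
          Nat.card {g : Cfsg.Sz F m // ConjUnion A₃ g} ≤
          Nat.card {g : Cfsg.Sz F m // Fpf g} := by
        rw [← card_subtype_or _ _ hdisj₁₂, ← card_subtype_or _ _ (by
          rintro x (h | h)
          · exact hdisj₁₃ x h
          · exact hdisj₂₃ x h)]
        apply Nat.card_le_card_of_injective (Subtype.map id (by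
          rintro g ((h | h) | h)
          · exact S.fpf_of_conjUnion hm hF hA₁ h
          · exact S.fpf_of_conjUnion hm hF hA₂ h
          · exact S.fpf_of_conjUnion hm hF hA₃ h))
        exact Subtype.map_injective _ Function.injective_id
      exact SzArith.three_false hq8 hN hT₁ hT₂ hT₃ h1

end group

end SzData

end Cfsg.Agent.Helper2.Sz
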