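import Mathlib
import Cfsg.Agent.Lib.Helper2.SzExc2

set_option autoImplicit false
set_option linter.unusedSectionVars false
set_option linter.unusedSimpArgs false

namespace Cfsg.Agent.Helper2.Sz

open Matrix Cfsg.Agent.S0335
open scoped Pointwise commutatorElement

variable {F : Type*} [Field F] {m : ℕ} (S : SzData F m)

namespace SzData

section group
variable [Fintype F]

include S in
/-- the two classes of twisted tori -/
theorem exists_two_tori_cover (hm : 1 ≤ m) (hF : Fintype.card F = 2 ^ (2 * m + 1)) :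
    ∃ A₁ A₂ : Subgroup (Cfsg.Sz F m), IsTorus A₁ ∧ IsTorus A₂ ∧
      Nat.card A₁ = 2 ^ (2 * m + 1) + 2 ^ (m + 1) + 1 ∧
      Nat.card A₂ = 2 ^ (2 * m + 1) - 2 ^ (m + 1) + 1 ∧
      Nat.card (Subgroup.normalizer (A₁ : Set (Cfsg.Sz F m))) =
        4 * (2 ^ (2 * m + 1) + 2 ^ (m + 1) + 1) ∧
      Nat.card (Subgroup.normalizer (A₂ : Set (Cfsg.Sz F m))) =
        4 * (2 ^ (2 * m + 1) - 2 ^ (m + 1) + 1) ∧
      ∀ g : Cfsg.Sz F m, Fpf g → ConjUnion A₁ g ∨ ConjUnion A₂ g := by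
  have hN := S.card_fpf hm hF
  have hq8 : 8 ≤ 2 ^ (2 * m + 1) := by
    calc 8 = 2 ^ 3 := by norm_num
      _ ≤ 2 ^ (2 * m + 1) := Nat.pow_le_pow_right (by norm_num) (by omega)
  have hr : 2 ^ (m + 1) * 2 ^ (m + 1) = 2 * 2 ^ (2 * m + 1) := by
    rw [← pow_add, ← pow_succ']
    congr 1
    omega
  -- a first torus, from an element of order five
  have : Fact (Nat.Prime 5) := ⟨by norm_num⟩
  have h5G : 5 ∣ Nat.card (Cfsg.Sz F m) := by
    rw [S.card_Sz hm hF]
    exact Dvd.dvd.mul_right (Dvd.dvd.mul_left (five_dvd m) _) _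
  obtain ⟨g₁, hg₁⟩ := exists_prime_orderOf_dvd_card' 5 h5G
  have hA₁ : IsTorus (Subgroup.centralizer ({g₁} : Set (Cfsg.Sz F m))) :=
    ⟨g₁, 5, by norm_num, by norm_num, five_dvd m, hg₁, rfl⟩
  obtain ⟨A₁, hA₁def⟩ : ∃ A₁, A₁ = Subgroup.centralizer ({g₁} : Set (Cfsg.Sz F m)) := ⟨_, rfl⟩
  rw [← hA₁def] at hA₁
  obtain ⟨i₁, hN₁, hT₁⟩ := S.torusData hm hF hA₁
  by_cases hcov₁ : ∀ g : Cfsg.Sz F m, Fpf g → ConjUnion A₁ g
  · exfalso
    have h1 : Nat.card {g : Cfsg.Sz F m // ConjUnion A₁ g} =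
        Nat.card {g : Cfsg.Sz F m // Fpf g} :=
      Nat.card_congr (Equiv.subtypeEquivRight
        (fun g => ⟨S.fpf_of_conjUnion hm hF hA₁, hcov₁ g⟩))
    exact SzArith.one_false hq8 hN hT₁ h1
  · obtain ⟨g₂, hg₂f, hg₂n⟩ : ∃ g : Cfsg.Sz F m, Fpf g ∧ ¬ ConjUnion A₁ g := by
      by_contra hcon
      apply hcov₁
      intro g hg
      by_contra hng
      exact hcon ⟨g, hg, hng⟩
    have hg₂1 : g₂ ≠ 1 := by
      rintro rfl
      exact S.not_fpf_one hg₂f
    have hA₂ := S.isTorus_centralizer_of_fpf hm hF hg₂f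
    obtain ⟨A₂, hA₂def⟩ : ∃ A₂, A₂ = Subgroup.centralizer ({g₂} : Set (Cfsg.Sz F m)) := ⟨_, rfl⟩
    rw [← hA₂def] at hA₂
    have hg₂A : g₂ ∈ A₂ := by rw [hA₂def, mem_centralizer_singleton]
    obtain ⟨i₂, hN₂, hT₂⟩ := S.torusData hm hF hA₂
    have hdisj₁₂ : ∀ x, ConjUnion A₁ x → ¬ ConjUnion A₂ x :=
      fun x h1 h2 => hg₂n (S.conjUnion_of_meet hm hF hA₁ hA₂ h1 h2 hg₂A hg₂1)
    by_cases hcov₂ : ∀ g : Cfsg.Sz F m, Fpf g → ConjUnion A₁ g ∨ ConjUnion A₂ g
    · have h1 : Nat.card {g : Cfsg.Sz F m // ConjUnion A₁ g} +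
          Nat.card {g : Cfsg.Sz F m // ConjUnion A₂ g} =
          Nat.card {g : Cfsg.Sz F m // Fpf g} := by
        rw [← card_subtype_or _ _ hdisj₁₂]
        apply Nat.card_congr
        apply Equiv.subtypeEquivRight
        intro g
        constructor
        · rintro (h | h)
          · exact S.fpf_of_conjUnion hm hF hA₁ h
          · exact S.fpf_of_conjUnion hm hF hA₂ h
        · exact hcov₂ g
      have hcop := S.coprime_card_of_disjoint hm hF hA₁ hA₂ hdisj₁₂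
      obtain ⟨hi₁, hi₂, hcases⟩ := SzArith.two_classes hq8 hr hN hT₁ hT₂ hcop h1
      rw [hi₁] at hN₁
      rw [hi₂] at hN₂
      rcases hcases with ⟨e1, e2⟩ | ⟨e1, e2⟩
      · refine ⟨A₁, A₂, hA₁, hA₂, e1, e2, ?_, ?_, hcov₂⟩
        · rw [hN₁, e1, mul_comm]
        · rw [hN₂, e2, mul_comm]
      · refine ⟨A₂, A₁, hA₂, hA₁, e2, e1, ?_, ?_, fun g hg => (hcov₂ g hg).symm⟩
        · rw [hN₂, e2, mul_comm]
        · rw [hN₁, e1, mul_comm]
    · exfalso
      obtain ⟨g₃, hg₃f, hg₃n⟩ : ∃ g : Cfsg.Sz F m, Fpf g ∧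
          ¬ (ConjUnion A₁ g ∨ ConjUnion A₂ g) := by
        by_contra hcon
        apply hcov₂
        intro g hg
        by_contra hng
        exact hcon ⟨g, hg, hng⟩
      have hg₃1 : g₃ ≠ 1 := by
        rintro rfl
        exact S.not_fpf_one hg₃f
      have hA₃ := S.isTorus_centralizer_of_fpf hm hF hg₃f
      obtain ⟨A₃, hA₃def⟩ : ∃ A₃, A₃ = Subgroup.centralizer ({g₃} : Set (Cfsg.Sz F m)) :=
        ⟨_, rfl⟩
      rw [← hA₃def] at hA₃
      have hg₃A : g₃ ∈ A₃ := by rw [hA₃def, mem_centralizer_singleton]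
      obtain ⟨i₃, hN₃, hT₃⟩ := S.torusData hm hF hA₃
      have hdisj₁₃ : ∀ x, ConjUnion A₁ x → ¬ ConjUnion A₃ x :=
        fun x h1 h2 => hg₃n (Or.inl (S.conjUnion_of_meet hm hF hA₁ hA₃ h1 h2 hg₃A hg₃1))
      have hdisj₂₃ : ∀ x, ConjUnion A₂ x → ¬ ConjUnion A₃ x :=
        fun x h1 h2 => hg₃n (Or.inr (S.conjUnion_of_meet hm hF hA₂ hA₃ h1 h2 hg₃A hg₃1))
      have h1 : Nat.card {g : Cfsg.Sz F m // ConjUnion A₁ g} +
          Nat.card {g : Cfsg.Sz F m // ConjUnion A₂ g} +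
          Nat.card {g : Cfsg.Sz F m // ConjUnion A₃ g} ≤
          Nat.card {g : Cfsg.Sz F m // Fpf g} := by
        rw [← card_subtype_or _ _ hdisj₁₂, ← card_subtype_or _ _ (by
          rintro x (h | h)
          · exact hdisj₁₃ x h
          · exact hdisj₂₃ x h)]
        apply Nat.card_le_card_of_injective (Subtype.map id (by
          rintro g ((h | h) | h)
          · exact S.fpf_of_conjUnion hm hF hA₁ h
          · exact S.fpf_of_conjUnion hm hF hA₂ h
          · exact S.fpf_of_conjUnion hm hF hA₃ h))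
        exact Subtype.map_injective _ Function.injective_id
      exact SzArith.three_false hq8 hN hT₁ hT₂ hT₃ h1


include S in
/-- the order of a twisted torus -/
theorem card_of_isTorus (hm : 1 ≤ m) (hF : Fintype.card F = 2 ^ (2 * m + 1))
    {A : Subgroup (Cfsg.Sz F m)} (hA : IsTorus A) :
    Nat.card A = 2 ^ (2 * m + 1) + 2 ^ (m + 1) + 1 ∨
      Nat.card A = 2 ^ (2 * m + 1) - 2 ^ (m + 1) + 1 := by
  obtain ⟨A₁, A₂, hA₁, hA₂, hc₁, hc₂, -, -, hcov⟩ := S.exists_two_tori_cover hm hF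
  obtain ⟨y, ℓ, hℓ, hℓ2, hdvd, hy, hAy⟩ := id hA
  have hy1 : y ≠ 1 := by
    intro h1
    rw [h1, orderOf_one] at hy
    exact hℓ.one_lt.ne hy
  have hyA : y ∈ A := by rw [hAy, mem_centralizer_singleton]
  have hfpf := S.fpf_of_prime_order hm hF hℓ hℓ2 hdvd hy
  have key : ∀ B : Subgroup (Cfsg.Sz F m), IsTorus B → ConjUnion B y → Nat.card A = Nat.card B := by
    intro B hB hBy
    obtain ⟨-, k, hk⟩ := hBy
    have hne : k⁻¹ * y * k ≠ 1 := by
      intro h1
      apply hy1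
      calc y = k * (k⁻¹ * y * k) * k⁻¹ := by group
        _ = 1 := by rw [h1]; group
    have hB' := S.centralizer_eq_of_mem_torus hm hF hB hk hne
    have hA' := S.centralizer_eq_of_mem_torus hm hF hA hyA hy1
    -- conjugation by `k⁻¹` carries the centralizer of `y` onto that of `k⁻¹ y k`
    have hmap : B = A.map (MulAut.conj k⁻¹).toMonoidHom := by
      rw [← hB', ← hA']
      ext z
      rw [mem_centralizer_singleton, Subgroup.mem_map]
      constructor
      · intro hz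
        refine ⟨k * z * k⁻¹, ?_, ?_⟩
        · rw [mem_centralizer_singleton]
          calc k * z * k⁻¹ * y = k * (z * (k⁻¹ * y * k)) * k⁻¹ := by group
            _ = k * ((k⁻¹ * y * k) * z) * k⁻¹ := by rw [hz]
            _ = y * (k * z * k⁻¹) := by group
        · show MulAut.conj k⁻¹ (k * z * k⁻¹) = z
          rw [MulAut.conj_apply]; group
      · rintro ⟨w, hw, rfl⟩
        rw [mem_centralizer_singleton] at hw
        show MulAut.conj k⁻¹ w * (k⁻¹ * y * k) = (k⁻¹ * y * k) * MulAut.conj k⁻¹ w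
        rw [MulAut.conj_apply, inv_inv]
        calc k⁻¹ * w * k * (k⁻¹ * y * k) = k⁻¹ * (w * y) * k := by group
          _ = k⁻¹ * (y * w) * k := by rw [hw]
          _ = k⁻¹ * y * k * (k⁻¹ * w * k) := by group
    rw [hmap]
    exact (Subgroup.card_map_of_injective (MulAut.conj k⁻¹).injective).symm
  rcases hcov y hfpf with h | h
  · left; rw [key A₁ hA₁ h, hc₁]
  · right; rw [key A₂ hA₂ h, hc₂]

end group

end SzData

end Cfsg.Agent.Helper2.Sz
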