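import Mathlib
import Cfsg.Agent.Lib.Helper2.SzExc3
import Cfsg.Agent.Lib.Helper2.SzBorel

set_option autoImplicit false
set_option linter.unusedSectionVars false
set_option linter.unusedSimpArgs false

namespace Cfsg.Agent.Helper2.Sz

open Matrix Cfsg.Agent.S0335
open scoped Pointwise commutatorElement

theorem r_le_q (m : ℕ) : 2 ^ (m + 1) ≤ 2 ^ (2 * m + 1) :=
  Nat.pow_le_pow_right (by norm_num) (by omega)

theorem r_mul_r (m : ℕ) : 2 ^ (m + 1) * 2 ^ (m + 1) = 2 * 2 ^ (2 * m + 1) := by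
  rw [← pow_add, ← pow_succ']
  congr 1
  omega

theorem tori_mul (m : ℕ) :
    (2 ^ (2 * m + 1) + 2 ^ (m + 1) + 1) * (2 ^ (2 * m + 1) - 2 ^ (m + 1) + 1) =
      (2 ^ (2 * m + 1)) ^ 2 + 1 := by
  obtain ⟨d, hd⟩ := Nat.exists_eq_add_of_le (r_le_q m)
  have hr := r_mul_r m
  rw [hd] at hr ⊢
  rw [Nat.add_sub_cancel_left]
  nlinarith [hr]

/-- a common odd prime divisor of the two twisted torus orders does not exist -/
theorem tori_coprime_aux (m : ℕ) {ℓ : ℕ} (hℓ : ℓ.Prime) (hℓ2 : ℓ ≠ 2)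
    (h1 : ℓ ∣ 2 ^ (2 * m + 1) + 2 ^ (m + 1) + 1) (h2 : ℓ ∣ 2 ^ (2 * m + 1) - 2 ^ (m + 1) + 1) :
    False := by
  have h3 := Nat.dvd_sub h1 h2
  have hle := r_le_q m
  have h4 : 2 ^ (2 * m + 1) + 2 ^ (m + 1) + 1 - (2 ^ (2 * m + 1) - 2 ^ (m + 1) + 1) =
      2 ^ (m + 2) := by
    rw [pow_succ 2 (m + 1)]
    omega
  rw [h4] at h3
  have h5 := hℓ.dvd_of_dvd_pow h3
  exact hℓ2 ((Nat.prime_dvd_prime_iff_eq hℓ Nat.prime_two).1 h5)

variable {F : Type*} [Field F] {m : ℕ} (S : SzData F m)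

namespace SzData

section group
variable [Fintype F]

include S in
/-- elements of odd prime order dividing `q - 1` are conjugate into the diagonal torus, together
with their centralizers -/
theorem exists_conj_split (hm : 1 ≤ m) (hF : Fintype.card F = 2 ^ (2 * m + 1)) {p : ℕ}
    [hpf : Fact p.Prime] (hp2 : p ≠ 2) (hpq : p ∣ 2 ^ (2 * m + 1) - 1)
    {x : Cfsg.Sz F m} (hx : orderOf x = p) :
    ∃ (g : Cfsg.Sz F m) (u₀ : Fˣ), u₀ ≠ 1 ∧ g⁻¹ * x * g = S.DgSz u₀ ∧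
      ∀ h : Cfsg.Sz F m, h * x = x * h → ∃ v : Fˣ, g⁻¹ * h * g = S.DgSz v := by
  have hP : IsPGroup p (Subgroup.zpowers x) := by
    apply IsPGroup.of_card (n := 1)
    rw [Nat.card_zpowers, hx, pow_one]
  obtain ⟨a, b, ha, hb, hab, hfix⟩ := S.exists_two_fixed hF hp2 hpq (Subgroup.zpowers x) hP
  obtain ⟨hxa, hxb⟩ := hfix x (Subgroup.mem_zpowers x)
  obtain ⟨g, hg⟩ := S.exists_conj_torus hm hF ha hb hab
  obtain ⟨u₀, hu₀⟩ := hg x hxa hxb
  have hx1 : x ≠ 1 := by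
    intro h1
    rw [h1, orderOf_one] at hx
    exact hpf.out.one_lt.ne hx
  have hu₀1 : u₀ ≠ 1 := by
    rintro rfl
    apply hx1
    rw [map_one] at hu₀
    calc x = g * (g⁻¹ * x * g) * g⁻¹ := by group
      _ = 1 := by rw [hu₀]; group
  refine ⟨g, u₀, hu₀1, hu₀, ?_⟩
  intro h hc
  have hcomm' : (g⁻¹ * h * g) * (g⁻¹ * x * g) = (g⁻¹ * x * g) * (g⁻¹ * h * g) := by
    calc (g⁻¹ * h * g) * (g⁻¹ * x * g) = g⁻¹ * (h * x) * g := by group
      _ = g⁻¹ * (x * h) * g := by rw [hc]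
      _ = (g⁻¹ * x * g) * (g⁻¹ * h * g) := by group
  rw [hu₀] at hcomm'
  have hcomm2 : ((g⁻¹ * h * g : Cfsg.Sz F m) : SpecialLinearGroup (Fin 4) F) * S.Dg u₀ =
      S.Dg u₀ * ((g⁻¹ * h * g : Cfsg.Sz F m) : SpecialLinearGroup (Fin 4) F) :=
    congrArg Subtype.val hcomm'
  obtain ⟨v, hv⟩ := S.mem_torus_of_commute hm hF hu₀1 (g⁻¹ * h * g).2 hcomm2
  exact ⟨v, Subtype.ext hv⟩

include S in
/-- the centralizer of an element of odd prime order dividing `q - 1` is cyclic of order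
`q - 1` -/
theorem centralizer_split (hm : 1 ≤ m) (hF : Fintype.card F = 2 ^ (2 * m + 1)) {p : ℕ}
    [hpf : Fact p.Prime] (hp2 : p ≠ 2) (hpq : p ∣ 2 ^ (2 * m + 1) - 1)
    {x : Cfsg.Sz F m} (hx : orderOf x = p) :
    IsCyclic (Subgroup.centralizer ({x} : Set (Cfsg.Sz F m))) ∧
      Nat.card (Subgroup.centralizer ({x} : Set (Cfsg.Sz F m))) = 2 ^ (2 * m + 1) - 1 := by
  obtain ⟨g, u₀, hu₀1, hu₀, hkey⟩ := S.exists_conj_split hm hF hp2 hpq hx
  have hxe : x = g * S.DgSz u₀ * g⁻¹ := by rw [← hu₀]; group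
  -- the map `Fˣ → C(x)`
  have hmem : ∀ v : Fˣ, g * S.DgSz v * g⁻¹ ∈ Subgroup.centralizer ({x} : Set (Cfsg.Sz F m)) := by
    intro v
    rw [mem_centralizer_singleton, hxe]
    calc g * S.DgSz v * g⁻¹ * (g * S.DgSz u₀ * g⁻¹) = g * (S.DgSz v * S.DgSz u₀) * g⁻¹ := by group
      _ = g * (S.DgSz u₀ * S.DgSz v) * g⁻¹ := by rw [← map_mul, ← map_mul, mul_comm]
      _ = g * S.DgSz u₀ * g⁻¹ * (g * S.DgSz v * g⁻¹) := by group
  let φ : Fˣ →* Subgroup.centralizer ({x} : Set (Cfsg.Sz F m)) :=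
    { toFun := fun v => ⟨g * S.DgSz v * g⁻¹, hmem v⟩
      map_one' := by
        apply Subtype.ext
        show g * S.DgSz 1 * g⁻¹ = 1
        rw [map_one]; group
      map_mul' := by
        intro v w
        apply Subtype.ext
        show g * S.DgSz (v * w) * g⁻¹ = (g * S.DgSz v * g⁻¹) * (g * S.DgSz w * g⁻¹)
        rw [map_mul]; group }
  have hφs : Function.Surjective φ := by
    rintro ⟨h, hh⟩
    rw [mem_centralizer_singleton] at hh
    obtain ⟨v, hv⟩ := hkey h hh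
    refine ⟨v, Subtype.ext ?_⟩
    show g * S.DgSz v * g⁻¹ = h
    rw [← hv]; group
  have hφi : Function.Injective φ := by
    intro v w hvw
    have h1 : g * S.DgSz v * g⁻¹ = g * S.DgSz w * g⁻¹ := congrArg Subtype.val hvw
    apply S.DgSz_injective
    calc S.DgSz v = g⁻¹ * (g * S.DgSz v * g⁻¹) * g := by group
      _ = g⁻¹ * (g * S.DgSz w * g⁻¹) * g := by rw [h1]
      _ = S.DgSz w := by group
  constructor
  · exact isCyclic_of_surjective φ hφs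
  · rw [← Nat.card_eq_of_bijective φ ⟨hφi, hφs⟩, Nat.card_units, Nat.card_eq_fintype_card, hF]

include S in
/-- distinct Sylow 2-subgroups meet trivially -/
theorem sylow_eq_of_mem (hm : 1 ≤ m) (hF : Fintype.card F = 2 ^ (2 * m + 1))
    {P P' : Sylow 2 (Cfsg.Sz F m)} {g : Cfsg.Sz F m} (hg1 : g ≠ 1)
    (hP : g ∈ (P : Subgroup (Cfsg.Sz F m))) (hP' : g ∈ (P' : Subgroup (Cfsg.Sz F m))) :
    P = P' := by
  obtain ⟨k, hk⟩ := S.exists_conj_QSz hm hF P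
  obtain ⟨k', hk'⟩ := S.exists_conj_QSz hm hF P'
  apply Sylow.ext
  rw [hk, hk']
  rw [hk, Subgroup.mem_pointwise_smul_iff_inv_smul_mem, ← map_inv, MulAut.smul_def,
    MulAut.conj_apply, inv_inv] at hP
  rw [hk', Subgroup.mem_pointwise_smul_iff_inv_smul_mem, ← map_inv, MulAut.smul_def,
    MulAut.conj_apply, inv_inv] at hP'
  obtain ⟨a, b, hab⟩ := hP
  have hab0 : ¬ (a = 0 ∧ b = 0) := by
    rintro ⟨rfl, rfl⟩
    rw [Tg_zero] at hab
    apply hg1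
    have h1 : k⁻¹ * g * k = 1 := Subtype.ext hab
    calc g = k * (k⁻¹ * g * k) * k⁻¹ := by group
      _ = 1 := by rw [h1]; group
  have hstab' : k'⁻¹ * g * k' ∈ MulAction.stabilizer (Cfsg.Sz F m) (pInf F) :=
    S.QSz_le_stabilizer hP'
  rw [MulAction.mem_stabilizer_iff, Subgroup.smul_def] at hstab'
  have hn : k⁻¹ * k' ∈ MulAction.stabilizer (Cfsg.Sz F m) (pInf F) := by
    rw [MulAction.mem_stabilizer_iff, Subgroup.smul_def]
    apply S.eq_pInf_of_Tg_fix' hab0 (smul_mem_of_mem_Sz (k⁻¹ * k').2 S.pInf_mem)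
    rw [← hab]
    have e1 : ((k⁻¹ * g * k : Cfsg.Sz F m) : SpecialLinearGroup (Fin 4) F) *
        ((k⁻¹ * k' : Cfsg.Sz F m) : SpecialLinearGroup (Fin 4) F) =
        ((k⁻¹ * k' : Cfsg.Sz F m) : SpecialLinearGroup (Fin 4) F) *
        ((k'⁻¹ * g * k' : Cfsg.Sz F m) : SpecialLinearGroup (Fin 4) F) := by
      rw [← Subgroup.coe_mul, ← Subgroup.coe_mul]
      congr 1
      group
    rw [← mul_smul, e1, mul_smul, hstab']
  ext z
  rw [Subgroup.mem_pointwise_smul_iff_inv_smul_mem, Subgroup.mem_pointwise_smul_iff_inv_smul_mem,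
    ← map_inv, ← map_inv, MulAut.smul_def, MulAut.smul_def, MulAut.conj_apply, MulAut.conj_apply,
    inv_inv, inv_inv]
  constructor
  · intro hz
    have hn' : (k⁻¹ * k')⁻¹ ∈ MulAction.stabilizer (Cfsg.Sz F m) (pInf F) :=
      Subgroup.inv_mem _ hn
    have := S.conj_mem_QSz hm hF hn' hz
    have e : (k⁻¹ * k')⁻¹ * (k⁻¹ * z * k) * (k⁻¹ * k')⁻¹⁻¹ = k'⁻¹ * z * k' := by group
    rwa [e] at this
  · intro hz
    have := S.conj_mem_QSz hm hF hn hz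
    have e : (k⁻¹ * k') * (k'⁻¹ * z * k') * (k⁻¹ * k')⁻¹ = k⁻¹ * z * k := by group
    rwa [e] at this

end group

end SzData

end Cfsg.Agent.Helper2.Sz
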