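import Mathlib
import Cfsg.Agent.Lib.Helper2.SzPart

set_option autoImplicit false
set_option linter.unusedSectionVars false
set_option linter.unusedSimpArgs false

namespace Cfsg.Agent.Helper2.Sz

open Matrix Cfsg.Agent.S0335
open scoped Pointwise commutatorElement

variable {F : Type*} [Field F] {m : ℕ} (S : SzData F m)

/-- the members of the partition -/
def IsPartMember {F : Type*} [Field F] {m : ℕ} (U : Subgroup (Cfsg.Sz F m)) : Prop :=
  (∃ P : Sylow 2 (Cfsg.Sz F m), U = (P : Subgroup (Cfsg.Sz F m))) ∨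
    (IsCyclic U ∧ Nat.card U ∈ ({2 ^ (2 * m + 1) - 1, 2 ^ (2 * m + 1) + 2 ^ (m + 1) + 1,
      2 ^ (2 * m + 1) - 2 ^ (m + 1) + 1} : Set ℕ))

theorem odd_of_mem {m k : ℕ} (hk : k ∈ ({2 ^ (2 * m + 1) - 1, 2 ^ (2 * m + 1) + 2 ^ (m + 1) + 1,
    2 ^ (2 * m + 1) - 2 ^ (m + 1) + 1} : Set ℕ)) : ¬ 2 ∣ k := by
  have h1 : 2 ∣ 2 ^ (2 * m + 1) := dvd_pow_self 2 (by omega)
  have h2 : 2 ∣ 2 ^ (m + 1) := dvd_pow_self 2 (by omega)
  have h3 : 1 ≤ 2 ^ (2 * m + 1) := Nat.one_le_two_pow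
  have hle := r_le_q m
  rcases hk with rfl | rfl | hk
  · omega
  · omega
  · rw [Set.mem_singleton_iff] at hk
    subst hk
    omega

namespace SzData

section group
variable [Fintype F]

include S in
/-- a cyclic member containing an element of prime order `ℓ` is the centralizer of it -/
theorem member_eq_centralizer (hm : 1 ≤ m) (hF : Fintype.card F = 2 ^ (2 * m + 1))
    {U : Subgroup (Cfsg.Sz F m)} (hUc : IsCyclic U)
    (hUk : Nat.card U ∈ ({2 ^ (2 * m + 1) - 1, 2 ^ (2 * m + 1) + 2 ^ (m + 1) + 1,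
      2 ^ (2 * m + 1) - 2 ^ (m + 1) + 1} : Set ℕ))
    {x : Cfsg.Sz F m} {ℓ : ℕ} (hℓ : ℓ.Prime) (hx : orderOf x = ℓ) (hxU : x ∈ U) :
    U = Subgroup.centralizer ({x} : Set (Cfsg.Sz F m)) := by
  have hfact : Fact ℓ.Prime := ⟨hℓ⟩
  have hℓU : ℓ ∣ Nat.card U := by
    rw [← hx, ← Subgroup.orderOf_mk x hxU]
    exact orderOf_dvd_natCard _
  have hℓ2 : ℓ ≠ 2 := by
    rintro rfl
    exact odd_of_mem hUk hℓU
  have hle : U ≤ Subgroup.centralizer ({x} : Set (Cfsg.Sz F m)) := by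
    intro z hz
    rw [mem_centralizer_singleton]
    have hcomm := (IsCyclic.commGroup (α := U)).mul_comm ⟨z, hz⟩ ⟨x, hxU⟩
    exact congrArg Subtype.val hcomm
  have hdvd := Subgroup.card_dvd_of_le hle
  have hq1 : 1 ≤ 2 ^ (2 * m + 1) := Nat.one_le_two_pow
  have hℓG : ℓ ∣ (2 ^ (2 * m + 1)) ^ 2 * ((2 ^ (2 * m + 1)) ^ 2 + 1) * (2 ^ (2 * m + 1) - 1) := by
    rw [← S.card_Sz hm hF, ← hx]
    exact orderOf_dvd_natCard _
  -- the twisted orders divide `q ^ 2 + 1`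
  have hplus : 2 ^ (2 * m + 1) + 2 ^ (m + 1) + 1 ∣ (2 ^ (2 * m + 1)) ^ 2 + 1 :=
    Dvd.intro _ (tori_mul m)
  have hminus : 2 ^ (2 * m + 1) - 2 ^ (m + 1) + 1 ∣ (2 ^ (2 * m + 1)) ^ 2 + 1 :=
    Dvd.intro_left _ (tori_mul m)
  have hpow1 : (2 ^ (2 * m + 1)) ^ 1 - 1 = 2 ^ (2 * m + 1) - 1 := by rw [pow_one]
  apply Subgroup.eq_of_le_of_card_ge hle
  apply le_of_eq
  rcases prime_dvd_order hℓ hℓ2 ⟨2 * m + 1, rfl⟩ hℓG with h | h
  · -- twisted case
    have hT : IsTorus (Subgroup.centralizer ({x} : Set (Cfsg.Sz F m))) :=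
      ⟨x, ℓ, hℓ, hℓ2, h, hx, rfl⟩
    have hno : ¬ ℓ ∣ 2 ^ (2 * m + 1) - 1 := by
      have := not_dvd_pow_sub_one hℓ hℓ2 hq1 h 1 le_rfl (by norm_num)
      rwa [hpow1] at this
    have hℓC : ℓ ∣ Nat.card (Subgroup.centralizer ({x} : Set (Cfsg.Sz F m))) := hℓU.trans hdvd
    rcases S.card_of_isTorus hm hF hT with hC | hC <;> rcases hUk with hU | hU | hU
    · rw [hU] at hℓU; exact absurd hℓU hno
    · rw [hC, hU]
    · rw [Set.mem_singleton_iff] at hU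
      rw [hU] at hℓU; rw [hC] at hℓC
      exact (tori_coprime_aux m hℓ hℓ2 hℓC hℓU).elim
    · rw [hU] at hℓU; exact absurd hℓU hno
    · rw [hU] at hℓU; rw [hC] at hℓC
      exact (tori_coprime_aux m hℓ hℓ2 hℓU hℓC).elim
    · rw [Set.mem_singleton_iff] at hU
      rw [hC, hU]
  · -- split case
    obtain ⟨-, hC⟩ := S.centralizer_split hm hF hℓ2 h hx
    have hno : ¬ ℓ ∣ (2 ^ (2 * m + 1)) ^ 2 + 1 := by
      intro h'
      have := not_dvd_pow_sub_one hℓ hℓ2 hq1 h' 1 le_rfl (by norm_num)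
      rw [hpow1] at this
      exact this h
    rcases hUk with hU | hU | hU
    · rw [hC, hU]
    · rw [hU] at hℓU; exact absurd (hℓU.trans hplus) hno
    · rw [Set.mem_singleton_iff] at hU
      rw [hU] at hℓU; exact absurd (hℓU.trans hminus) hno

include S in
/-- the partition of the Suzuki group -/
theorem partition (hm : 1 ≤ m) (hF : Fintype.card F = 2 ^ (2 * m + 1))
    (g : Cfsg.Sz F m) (hg : g ≠ 1) :
    ∃! U : Subgroup (Cfsg.Sz F m), IsPartMember U ∧ g ∈ U := by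
  have hfact2 : Fact (Nat.Prime 2) := ⟨Nat.prime_two⟩
  have hn0 : orderOf g ≠ 0 := (orderOf_pos g).ne'
  have hn1 : orderOf g ≠ 1 := by rwa [Ne, orderOf_eq_one_iff]
  obtain ⟨p, hpdef⟩ : ∃ p, p = (orderOf g).minFac := ⟨_, rfl⟩
  have hpp : p.Prime := hpdef ▸ Nat.minFac_prime hn1
  have hpn : p ∣ orderOf g := hpdef ▸ Nat.minFac_dvd _
  obtain ⟨x, hxdef⟩ : ∃ x, x = g ^ (orderOf g / p) := ⟨_, rfl⟩
  have hx : orderOf x = p := hxdef ▸ orderOf_pow_orderOf_div hn0 hpn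
  have hgx : g * x = x * g := by
    rw [hxdef]
    exact ((Commute.refl g).pow_right _).eq
  have hx1 : x ≠ 1 := by
    intro h
    rw [h, orderOf_one] at hx
    exact hpp.one_lt.ne hx
  have hpG : p ∣ (2 ^ (2 * m + 1)) ^ 2 * ((2 ^ (2 * m + 1)) ^ 2 + 1) * (2 ^ (2 * m + 1) - 1) := by
    rw [← S.card_Sz hm hF, ← hx]
    exact orderOf_dvd_natCard _
  -- uniqueness among all members
  have huniq : ∀ U U' : Subgroup (Cfsg.Sz F m), IsPartMember U → g ∈ U → IsPartMember U' →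
      g ∈ U' → U = U' := by
    have hmixed : ∀ (P : Sylow 2 (Cfsg.Sz F m)) (U' : Subgroup (Cfsg.Sz F m)),
        g ∈ (P : Subgroup (Cfsg.Sz F m)) → g ∈ U' →
        Nat.card U' ∈ ({2 ^ (2 * m + 1) - 1, 2 ^ (2 * m + 1) + 2 ^ (m + 1) + 1,
          2 ^ (2 * m + 1) - 2 ^ (m + 1) + 1} : Set ℕ) → False := by
      intro P U' hgP hgU' hk
      obtain ⟨j, hj⟩ := (IsPGroup.iff_orderOf.1 P.2) ⟨g, hgP⟩
      rw [Subgroup.orderOf_mk] at hj
      have h1 : orderOf g ∣ Nat.card U' := by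
        rw [← Subgroup.orderOf_mk g hgU']
        exact orderOf_dvd_natCard _
      have h2 : p ∣ 2 ^ j := by rw [← hj]; exact hpn
      have h3 : p = 2 := (Nat.prime_dvd_prime_iff_eq hpp Nat.prime_two).1 (hpp.dvd_of_dvd_pow h2)
      exact odd_of_mem hk (h3 ▸ hpn.trans h1)
    have hcyc : ∀ U : Subgroup (Cfsg.Sz F m), IsCyclic U →
        Nat.card U ∈ ({2 ^ (2 * m + 1) - 1, 2 ^ (2 * m + 1) + 2 ^ (m + 1) + 1,
          2 ^ (2 * m + 1) - 2 ^ (m + 1) + 1} : Set ℕ) → g ∈ U →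
        U = Subgroup.centralizer ({x} : Set (Cfsg.Sz F m)) := by
      intro U hUc hUk hgU
      apply S.member_eq_centralizer hm hF hUc hUk hpp hx
      rw [hxdef]
      exact U.pow_mem hgU _
    intro U U' hU hgU hU' hgU'
    rcases hU with ⟨P, rfl⟩ | ⟨hUc, hUk⟩ <;> rcases hU' with ⟨P', rfl⟩ | ⟨hUc', hUk'⟩
    · rw [S.sylow_eq_of_mem hm hF hg hgU hgU']
    · exact (hmixed P U' hgU hgU' hUk').elim
    · exact (hmixed P' U hgU' hgU hUk).elim
    · rw [hcyc U hUc hUk hgU, hcyc U' hUc' hUk' hgU']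
  -- existence
  have hex : ∃ U : Subgroup (Cfsg.Sz F m), IsPartMember U ∧ g ∈ U := by
    by_cases hp2 : p = 2
    · have hx2 : x ^ 2 = 1 := by
        have := pow_orderOf_eq_one x
        rwa [hx, hp2] at this
      have hg4 : g ^ 4 = 1 := S.pow_four_of_commute_involution hm hF hx1 hx2 hgx
      have hPG : IsPGroup 2 (Subgroup.zpowers g) := by
        rintro ⟨z, hz⟩
        obtain ⟨i, rfl⟩ := Subgroup.mem_zpowers_iff.1 hz
        refine ⟨2, Subtype.ext ?_⟩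
        show (g ^ i) ^ 2 ^ 2 = 1
        have h22 : 2 ^ 2 = 4 := by norm_num
        rw [h22, ← zpow_natCast, ← _root_.zpow_mul, mul_comm, _root_.zpow_mul, zpow_natCast, hg4, _root_.one_zpow]
      obtain ⟨P, hP⟩ := hPG.exists_le_sylow
      exact ⟨P, Or.inl ⟨P, rfl⟩, hP (Subgroup.mem_zpowers g)⟩
    · have hfact : Fact p.Prime := ⟨hpp⟩
      refine ⟨Subgroup.centralizer ({x} : Set (Cfsg.Sz F m)), Or.inr ?_, ?_⟩
      · rcases prime_dvd_order hpp hp2 ⟨2 * m + 1, rfl⟩ hpG with h | h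
        · have hT : IsTorus (Subgroup.centralizer ({x} : Set (Cfsg.Sz F m))) :=
            ⟨x, p, hpp, hp2, h, hx, rfl⟩
          refine ⟨S.isCyclic_of_isTorus hF hT, ?_⟩
          rcases S.card_of_isTorus hm hF hT with hC | hC
          · rw [hC]; exact Or.inr (Or.inl rfl)
          · rw [hC]; exact Or.inr (Or.inr rfl)
        · obtain ⟨hc, hC⟩ := S.centralizer_split hm hF hp2 h hx
          exact ⟨hc, by rw [hC]; exact Or.inl rfl⟩
      · rw [mem_centralizer_singleton]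
        exact hgx
  obtain ⟨U, hU, hgU⟩ := hex
  exact ⟨U, ⟨hU, hgU⟩, fun U' hU' => huniq U' U hU'.1 hU'.2 hU hgU⟩

end group

end SzData

end Cfsg.Agent.Helper2.Sz
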