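import Mathlib
import Cfsg.Agent.Lib.Helper2.SzPart2
import Cfsg.Agent.Lib.Helper2.SzBridge
import Cfsg.Agent.S0327
import Cfsg.Agent.S0330

set_option autoImplicit false
set_option linter.unusedSectionVars false
set_option linter.unusedSimpArgs false

namespace Cfsg.Agent.Helper2.Sz

open Matrix Cfsg.Agent.S0335
open scoped Pointwise

/-- covers by proper subgroups -/
def IsCover {G : Type*} [Group G] (𝓐 : Finset (Subgroup G)) : Prop :=
  (∀ A ∈ 𝓐, A ≠ ⊤) ∧ ∀ g : G, ∃ A ∈ 𝓐, g ∈ A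

/-- a group has no nilpotent minimal cover -/
def NoNilpotentMinCover (G : Type*) [Group G] : Prop :=
  ¬ ∃ 𝓐 : Finset (Subgroup G), IsCover 𝓐 ∧
    (∀ 𝓑 : Finset (Subgroup G), IsCover 𝓑 → 𝓐.card ≤ 𝓑.card) ∧
    ∀ A ∈ 𝓐, Group.IsNilpotent A

theorem IsCover.map {G H : Type*} [Group G] [Group H] (e : G ≃* H)
    {𝓐 : Finset (Subgroup G)} (h : IsCover 𝓐) :
    IsCover (𝓐.map e.mapSubgroup.toEmbedding) := by
  constructor
  · intro A hA
    rw [Finset.mem_map] at hA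
    obtain ⟨A₀, hA₀, rfl⟩ := hA
    intro htop
    apply h.1 A₀ hA₀
    apply e.mapSubgroup.injective
    rw [OrderIso.map_top]
    exact htop
  · intro g
    obtain ⟨A, hA, hgA⟩ := h.2 (e.symm g)
    refine ⟨e.mapSubgroup A, Finset.mem_map_of_mem _ hA, ?_⟩
    show g ∈ A.map e.toMonoidHom
    exact ⟨e.symm g, hgA, e.apply_symm_apply g⟩

theorem NoNilpotentMinCover.of_equiv {G H : Type*} [Group G] [Group H] (e : G ≃* H)
    (h : NoNilpotentMinCover G) : NoNilpotentMinCover H := by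
  rintro ⟨𝓐, hcov, hmin, hnil⟩
  apply h
  refine ⟨𝓐.map e.symm.mapSubgroup.toEmbedding, hcov.map e.symm, ?_, ?_⟩
  · intro 𝓑 h𝓑
    rw [Finset.card_map]
    have := hmin _ (h𝓑.map e)
    rwa [Finset.card_map] at this
  · intro A hA
    rw [Finset.mem_map] at hA
    obtain ⟨A₀, hA₀, rfl⟩ := hA
    have := hnil A₀ hA₀
    exact Group.nilpotent_of_mulEquiv
      (Subgroup.equivMapOfInjective A₀ e.symm.toMonoidHom e.symm.injective)

variable {F : Type*} [Field F] {m : ℕ} (S : SzData F m)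

namespace SzData

section group
variable [Fintype F]

include S in
/-- the centralizer of a non-identity element lies in its member of the partition -/
theorem centralizer_le_member (hm : 1 ≤ m) (hF : Fintype.card F = 2 ^ (2 * m + 1))
    {c : Cfsg.Sz F m} (hc : c ≠ 1) {U : Subgroup (Cfsg.Sz F m)} (hU : IsPartMember U)
    (hcU : c ∈ U) {a : Cfsg.Sz F m} (hac : a * c = c * a) : a ∈ U := by
  have hfact2 : Fact (Nat.Prime 2) := ⟨Nat.prime_two⟩
  rcases hU with ⟨P, rfl⟩ | ⟨hUc, hUk⟩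
  · obtain ⟨T⟩ := S.nonempty_tdata hm hF P
    have hc4 : c ^ 4 = 1 := congrArg Subtype.val (T.pow_four ⟨c, hcU⟩)
    obtain ⟨x, hx1, hx2, hxc⟩ : ∃ x : Cfsg.Sz F m, x ≠ 1 ∧ x ^ 2 = 1 ∧
        ∀ h : Cfsg.Sz F m, h * c = c * h → h * x = x * h := by
      by_cases h2 : c ^ 2 = 1
      · exact ⟨c, hc, h2, fun h hh => hh⟩
      · refine ⟨c ^ 2, h2, ?_, ?_⟩
        · rw [← pow_mul]; exact hc4
        · intro h hh
          have : Commute h c := hh
          exact (this.pow_right 2).eq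
    have hPG : IsPGroup 2 (Subgroup.centralizer ({c} : Set (Cfsg.Sz F m))) := by
      rintro ⟨h, hh⟩
      rw [mem_centralizer_singleton] at hh
      refine ⟨2, Subtype.ext ?_⟩
      show h ^ 2 ^ 2 = 1
      have h22 : 2 ^ 2 = 4 := by norm_num
      rw [h22]
      exact S.pow_four_of_commute_involution hm hF hx1 hx2 (hxc h hh)
    obtain ⟨P', hP'⟩ := hPG.exists_le_sylow
    have hcP' : c ∈ (P' : Subgroup (Cfsg.Sz F m)) := hP' (by rw [mem_centralizer_singleton])
    have hPP' : P = P' := S.sylow_eq_of_mem hm hF hc hcU hcP'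
    rw [hPP']
    exact hP' (by rw [mem_centralizer_singleton]; exact hac)
  · have hn0 : orderOf c ≠ 0 := (orderOf_pos c).ne'
    have hn1 : orderOf c ≠ 1 := by rwa [Ne, orderOf_eq_one_iff]
    obtain ⟨p, hpdef⟩ : ∃ p, p = (orderOf c).minFac := ⟨_, rfl⟩
    have hpp : p.Prime := hpdef ▸ Nat.minFac_prime hn1
    have hpn : p ∣ orderOf c := hpdef ▸ Nat.minFac_dvd _
    obtain ⟨x, hxdef⟩ : ∃ x, x = c ^ (orderOf c / p) := ⟨_, rfl⟩
    have hx : orderOf x = p := hxdef ▸ orderOf_pow_orderOf_div hn0 hpn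
    have hxU : x ∈ U := by rw [hxdef]; exact U.pow_mem hcU _
    rw [S.member_eq_centralizer hm hF hUc hUk hpp hx hxU, mem_centralizer_singleton, hxdef]
    have : Commute a c := hac
    exact (this.pow_right _).eq

include S in
/-- a nilpotent subgroup lies in a member of the partition -/
theorem nilpotent_le_member (hm : 1 ≤ m) (hF : Fintype.card F = 2 ^ (2 * m + 1))
    {A : Subgroup (Cfsg.Sz F m)} (hA : Group.IsNilpotent A) {g : Cfsg.Sz F m} (hgA : g ∈ A)
    (hg1 : g ≠ 1) {U : Subgroup (Cfsg.Sz F m)} (hU : IsPartMember U) (hgU : g ∈ U) : A ≤ U := by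
  have hnt : Nontrivial A := ⟨⟨⟨g, hgA⟩, 1, fun h => hg1 (congrArg Subtype.val h)⟩⟩
  have hZ := Group.IsNilpotent.center_ne_bot A
  obtain ⟨⟨⟨c, hcA⟩, hcZ⟩, hc1⟩ := (Subgroup.ne_bot_iff_exists_ne_one).1 hZ
  have hc1' : c ≠ 1 := by
    intro h
    apply hc1
    apply Subtype.ext
    apply Subtype.ext
    exact h
  obtain ⟨U', ⟨hU', hcU'⟩, -⟩ := S.partition hm hF c hc1'
  have hAU' : A ≤ U' := by
    intro a ha
    apply S.centralizer_le_member hm hF hc1' hU' hcU'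
    have := Subgroup.mem_center_iff.1 hcZ ⟨a, ha⟩
    exact congrArg Subtype.val this
  obtain ⟨U'', -, huniq⟩ := S.partition hm hF g hg1
  have e1 : U = U'' := huniq U ⟨hU, hgU⟩
  have e2 : U' = U'' := huniq U' ⟨hU', hAU' hgA⟩
  rw [e1, ← e2]
  exact hAU'

include S in
/-- the diagonal torus is a member of the partition -/
theorem isPartMember_range_DgSz (hF : Fintype.card F = 2 ^ (2 * m + 1)) :
    IsPartMember S.DgSz.range := by
  right
  constructor
  · exact isCyclic_of_surjective S.DgSz.rangeRestrict S.DgSz.rangeRestrict_surjective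
  · have h1 : Nat.card S.DgSz.range = Nat.card Fˣ :=
      (Nat.card_congr (MonoidHom.ofInjective S.DgSz_injective).toEquiv).symm
    rw [h1, Nat.card_units, Nat.card_eq_fintype_card, hF]
    exact Or.inl rfl

include S in
/-- the Suzuki group has no nilpotent minimal cover -/
theorem no_nilpotent_min_cover (hm : 1 ≤ m) (hF : Fintype.card F = 2 ^ (2 * m + 1)) :
    NoNilpotentMinCover (Cfsg.Sz F m) := by
  classical
  rintro ⟨𝓐, ⟨hprop, hcov⟩, hmin, hnil⟩
  have hfact2 : Fact (Nat.Prime 2) := ⟨Nat.prime_two⟩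
  have : Fintype (Sylow 2 (Cfsg.Sz F m)) := Fintype.ofFinite _
  -- a non-identity element in each Sylow subgroup
  have hz : ∀ P : Sylow 2 (Cfsg.Sz F m), ∃ z : Cfsg.Sz F m,
      z ∈ (P : Subgroup (Cfsg.Sz F m)) ∧ z ≠ 1 := by
    intro P
    have hcard : Nat.card P = (2 ^ (2 * m + 1)) ^ 2 := (Cfsg.Agent.S0330.result hm hF P).1
    have h1 : 1 < Nat.card P := by
      rw [hcard]
      have : 2 ≤ 2 ^ (2 * m + 1) := by
        calc 2 = 2 ^ 1 := by norm_num
          _ ≤ 2 ^ (2 * m + 1) := Nat.pow_le_pow_right (by norm_num) (by omega)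
      nlinarith
    rw [Finite.one_lt_card_iff_nontrivial] at h1
    obtain ⟨⟨z, hz⟩, hne⟩ := exists_ne (1 : P)
    exact ⟨z, hz, fun h => hne (Subtype.ext h)⟩
  choose z hzP hz1 using hz
  choose cov hcov𝓐 hcovmem using hcov
  -- the torus element
  obtain ⟨u, hu⟩ := Cfsg.Agent.S0327.exists_unit_ne_one (F := F) hm hF
  obtain ⟨t, htdef⟩ : ∃ t, t = S.DgSz u := ⟨_, rfl⟩
  have ht1 : t ≠ 1 := by
    rw [htdef]
    intro h
    apply hu
    apply S.DgSz_injective
    rw [h, map_one]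
  have hD := S.isPartMember_range_DgSz hF
  have htD : t ∈ S.DgSz.range := ⟨u, htdef.symm⟩
  have hDB : S.DgSz.range ≤ Subgroup.normalizer
      (((S.QSylow hm hF : Sylow 2 (Cfsg.Sz F m)) : Subgroup (Cfsg.Sz F m)) :
        Set (Cfsg.Sz F m)) := by
    rw [coe_QSylow, S.normalizer_QSz hm hF, S.range_DgSz hm hF]
    exact inf_le_left
  have hSylMem : ∀ P : Sylow 2 (Cfsg.Sz F m), IsPartMember (P : Subgroup (Cfsg.Sz F m)) :=
    fun P => Or.inl ⟨P, rfl⟩
  have hcovP : ∀ P : Sylow 2 (Cfsg.Sz F m), cov (z P) ≤ (P : Subgroup (Cfsg.Sz F m)) :=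
    fun P => S.nilpotent_le_member hm hF (hnil _ (hcov𝓐 _)) (hcovmem _) (hz1 P) (hSylMem P)
      (hzP P)
  have hcovt : cov t ≤ S.DgSz.range :=
    S.nilpotent_le_member hm hF (hnil _ (hcov𝓐 _)) (hcovmem _) ht1 hD htD
  -- the members inside Borel subgroups
  obtain ⟨𝓐₀, h𝓐₀def⟩ : ∃ 𝓐₀ : Finset (Subgroup (Cfsg.Sz F m)), 𝓐₀ = 𝓐.filter (fun A =>
      ∃ P : Sylow 2 (Cfsg.Sz F m), A ≤ Subgroup.normalizer
        ((P : Subgroup (Cfsg.Sz F m)) : Set (Cfsg.Sz F m))) := ⟨_, rfl⟩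
  have hmem₀ : ∀ A, A ∈ 𝓐₀ ↔ A ∈ 𝓐 ∧ ∃ P : Sylow 2 (Cfsg.Sz F m), A ≤ Subgroup.normalizer
      ((P : Subgroup (Cfsg.Sz F m)) : Set (Cfsg.Sz F m)) := by
    intro A
    rw [h𝓐₀def, Finset.mem_filter]
  obtain ⟨f, hfdef⟩ : ∃ f : Option (Sylow 2 (Cfsg.Sz F m)) → Subgroup (Cfsg.Sz F m),
      f = fun o => o.elim (cov t) (fun P => cov (z P)) := ⟨_, rfl⟩
  have hfsome : ∀ P, f (some P) = cov (z P) := fun P => by rw [hfdef]; rfl
  have hfnone : f none = cov t := by rw [hfdef]; rfl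
  have hf_mem : ∀ o, f o ∈ 𝓐₀ := by
    intro o
    rw [hmem₀]
    cases o with
    | none =>
      rw [hfnone]
      exact ⟨hcov𝓐 _, S.QSylow hm hF, le_trans hcovt hDB⟩
    | some P =>
      rw [hfsome]
      exact ⟨hcov𝓐 _, P, le_trans (hcovP P) Subgroup.le_normalizer⟩
  have hmixed : ∀ P : Sylow 2 (Cfsg.Sz F m), cov (z P) ≠ cov t := by
    intro P h
    have h1 : t ∈ (P : Subgroup (Cfsg.Sz F m)) := hcovP P (h ▸ hcovmem t)
    obtain ⟨U, -, huniq⟩ := S.partition hm hF t ht1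
    have e1 : (P : Subgroup (Cfsg.Sz F m)) = U := huniq _ ⟨hSylMem P, h1⟩
    have e2 : S.DgSz.range = U := huniq _ ⟨hD, htD⟩
    have hcardP : Nat.card (P : Subgroup (Cfsg.Sz F m)) = (2 ^ (2 * m + 1)) ^ 2 :=
      (Cfsg.Agent.S0330.result hm hF P).1
    have hcardD : Nat.card S.DgSz.range = 2 ^ (2 * m + 1) - 1 := by
      have h1 : Nat.card S.DgSz.range = Nat.card Fˣ :=
        (Nat.card_congr (MonoidHom.ofInjective S.DgSz_injective).toEquiv).symm
      rw [h1, Nat.card_units, Nat.card_eq_fintype_card, hF]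
    rw [e1, ← e2, hcardD] at hcardP
    have h3 : 1 ≤ 2 ^ (2 * m + 1) := Nat.one_le_two_pow
    have h4 : 2 ^ (2 * m + 1) ≤ (2 ^ (2 * m + 1)) ^ 2 := Nat.le_self_pow (by norm_num) _
    omega
  have hf_inj : Function.Injective f := by
    intro o o' h
    cases o with
    | none =>
      cases o' with
      | none => rfl
      | some P' =>
        rw [hfnone, hfsome] at h
        exact absurd h.symm (hmixed P')
    | some P =>
      cases o' with
      | none =>
        rw [hfnone, hfsome] at h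
        exact absurd h (hmixed P)
      | some P' =>
        rw [hfsome, hfsome] at h
        have h1 : z P ∈ (P' : Subgroup (Cfsg.Sz F m)) := hcovP P' (h ▸ hcovmem (z P))
        rw [S.sylow_eq_of_mem hm hF (hz1 P) (hzP P) h1]
  have hcard₀ : Fintype.card (Sylow 2 (Cfsg.Sz F m)) + 1 ≤ 𝓐₀.card := by
    rw [← Fintype.card_option, ← Finset.card_univ]
    exact Finset.card_le_card_of_injOn f (fun o _ => hf_mem o) hf_inj.injOn
  -- the new cover
  obtain ⟨Bor, hBordef⟩ : ∃ Bor : Finset (Subgroup (Cfsg.Sz F m)),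
      Bor = Finset.univ.image (fun P : Sylow 2 (Cfsg.Sz F m) =>
        Subgroup.normalizer ((P : Subgroup (Cfsg.Sz F m)) : Set (Cfsg.Sz F m))) := ⟨_, rfl⟩
  have hBorcard : Bor.card ≤ Fintype.card (Sylow 2 (Cfsg.Sz F m)) := by
    rw [hBordef, ← Finset.card_univ]
    exact Finset.card_image_le
  have h𝓑 : IsCover ((𝓐 \ 𝓐₀) ∪ Bor) := by
    constructor
    · intro A hA
      rw [Finset.mem_union] at hA
      rcases hA with hA | hA
      · exact hprop A (Finset.mem_sdiff.1 hA).1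
      · rw [hBordef, Finset.mem_image] at hA
        obtain ⟨P, -, rfl⟩ := hA
        exact (S.borel_maximal hm hF P).1.1
    · intro g
      by_cases hg : cov g ∈ 𝓐₀
      · obtain ⟨-, P, hP⟩ := (hmem₀ _).1 hg
        refine ⟨_, Finset.mem_union_right _ ?_, hP (hcovmem g)⟩
        rw [hBordef]
        exact Finset.mem_image_of_mem _ (Finset.mem_univ P)
      · exact ⟨cov g, Finset.mem_union_left _ (Finset.mem_sdiff.2 ⟨hcov𝓐 g, hg⟩), hcovmem g⟩
  have hsub : 𝓐₀ ⊆ 𝓐 := by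
    rw [h𝓐₀def]
    exact Finset.filter_subset _ _
  have hcard𝓑 : ((𝓐 \ 𝓐₀) ∪ Bor).card ≤ (𝓐.card - 𝓐₀.card) + Bor.card := by
    calc ((𝓐 \ 𝓐₀) ∪ Bor).card ≤ (𝓐 \ 𝓐₀).card + Bor.card := Finset.card_union_le _ _
      _ = (𝓐.card - 𝓐₀.card) + Bor.card := by rw [Finset.card_sdiff_of_subset hsub]
  have hle := hmin _ h𝓑
  have h₀le : 𝓐₀.card ≤ 𝓐.card := Finset.card_le_card hsub
  omega

end group

end SzData

end Cfsg.Agent.Helper2.Sz
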