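import Mathlib
import Cfsg.Agent.Lib.Helper2.SzCover
import Cfsg.Agent.Lib.Helper2.SzCoset

set_option autoImplicit false
set_option linter.unusedSectionVars false
set_option linter.unusedSimpArgs false

namespace Cfsg.Agent.Helper2.Sz

open Matrix Cfsg.Agent.S0335
open scoped Pointwise

variable {F : Type*} [Field F] {m : ℕ} (S : SzData F m)

namespace SzData

/-- the map `u ↦ s u * u ^ 2` is onto the units -/
theorem exists_unit_eq [Finite F] {e : F} (he : e ≠ 0) : ∃ u : Fˣ, S.s u * (u : F) ^ 2 = e := by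
  obtain ⟨w, hw⟩ := Finite.surjective_of_injective S.s_injective e
  obtain ⟨t, ht⟩ := S.mul_s_surjective w
  have hkey : S.s t * t ^ 2 = e := by
    apply S.s_injective
    rw [map_mul, S.hs, map_pow, ← hw, S.hs, ← ht]
    ring
  have ht0 : t ≠ 0 := by
    rintro rfl
    apply he
    rw [← hkey, map_zero, zero_mul]
  exact ⟨Units.mk0 t ht0, hkey⟩

/-- the Tits endomorphism is onto the units -/
theorem exists_unit_s_eq [Finite F] {e : F} (he : e ≠ 0) : ∃ u : Fˣ, S.s u = e := by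
  obtain ⟨w, hw⟩ := Finite.surjective_of_injective S.s_injective e
  have hw0 : w ≠ 0 := by
    rintro rfl
    apply he
    rw [← hw, map_zero]
  exact ⟨Units.mk0 w hw0, hw⟩

section group
variable [Fintype F]

theorem TgSz_mul (a b c d : F) :
    S.TgSz a b * S.TgSz c d = S.TgSz (a + c) (b + d + S.s a * c) :=
  Subtype.ext (S.Tg_mul a b c d)

theorem TgSz_zero : S.TgSz 0 0 = 1 := Subtype.ext S.Tg_zero

theorem TgSz_inv (a b : F) : (S.TgSz a b)⁻¹ = S.TgSz a (b + S.s a * a) :=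
  Subtype.ext (S.Tg_inv a b)

theorem TgSz_injective {a b c d : F} (h : S.TgSz a b = S.TgSz c d) : a = c ∧ b = d :=
  S.Tg_injective (congrArg Subtype.val h)

theorem DgSz_TgSz (u : Fˣ) (a b : F) :
    S.DgSz u * S.TgSz a b = S.TgSz (S.s u * a) (S.s u * (u : F) ^ 2 * b) * S.DgSz u :=
  Subtype.ext (S.Dg_Tg u a b)

theorem mem_QSz_iff {g : Cfsg.Sz F m} : g ∈ S.QSz ↔ ∃ a b, g = S.TgSz a b := by
  constructor
  · rintro ⟨a, b, h⟩
    exact ⟨a, b, Subtype.ext h⟩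
  · rintro ⟨a, b, rfl⟩
    exact S.TgSz_mem a b

theorem mem_stabilizer_pInf_iff (hm : 1 ≤ m) (hF : Fintype.card F = 2 ^ (2 * m + 1))
    {g : Cfsg.Sz F m} :
    g ∈ MulAction.stabilizer (Cfsg.Sz F m) (pInf F) ↔
      ∃ (a b : F) (u : Fˣ), g = S.TgSz a b * S.DgSz u := by
  constructor
  · intro hg
    rw [MulAction.mem_stabilizer_iff, Subgroup.smul_def] at hg
    obtain ⟨a, b, u, h⟩ := S.exists_Tg_Dg_of_fix hm hF g.2 hg
    exact ⟨a, b, u, Subtype.ext h⟩
  · rintro ⟨a, b, u, rfl⟩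
    rw [MulAction.mem_stabilizer_iff, Subgroup.smul_def]
    exact S.Tg_Dg_smul_pInf a b u

/-- conjugation of a unipotent element by an element of the point stabilizer -/
theorem conj_TgSz (a b c d : F) (u : Fˣ) :
    (S.TgSz a b * S.DgSz u) * S.TgSz c d * (S.TgSz a b * S.DgSz u)⁻¹ =
      S.TgSz (S.s u * c)
        (S.s u * (u : F) ^ 2 * d + S.s a * (S.s u * c) + S.s (S.s u * c) * a) := by
  have h := S.DgSz_TgSz u c d
  calc (S.TgSz a b * S.DgSz u) * S.TgSz c d * (S.TgSz a b * S.DgSz u)⁻¹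
      = S.TgSz a b * (S.DgSz u * S.TgSz c d) * (S.DgSz u)⁻¹ * (S.TgSz a b)⁻¹ := by group
    _ = S.TgSz a b * S.TgSz (S.s u * c) (S.s u * (u : F) ^ 2 * d) * (S.TgSz a b)⁻¹ := by
        rw [h]; group
    _ = _ := by
        rw [TgSz_inv, TgSz_mul, TgSz_mul, map_add]
        congr 1
        · linear_combination S.add_self a
        · linear_combination S.add_self b + S.add_self (S.s a * a)

/-- the centre of the unipotent subgroup -/
def ZSz : Subgroup (Cfsg.Sz F m) where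
  carrier := {g | ∃ b : F, g = S.TgSz 0 b}
  mul_mem' := by
    rintro _ _ ⟨b, rfl⟩ ⟨d, rfl⟩
    exact ⟨b + d, by rw [TgSz_mul, add_zero, map_zero, zero_mul, add_zero]⟩
  one_mem' := ⟨0, S.TgSz_zero.symm⟩
  inv_mem' := by
    rintro _ ⟨b, rfl⟩
    exact ⟨b, by rw [TgSz_inv, map_zero, zero_mul, add_zero]⟩

theorem mem_ZSz {g : Cfsg.Sz F m} : g ∈ S.ZSz ↔ ∃ b : F, g = S.TgSz 0 b := Iff.rfl

theorem ZSz_le_QSz : S.ZSz ≤ S.QSz := by
  rintro _ ⟨b, rfl⟩
  exact S.TgSz_mem 0 b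

theorem card_ZSz : Nat.card S.ZSz = Fintype.card F := by
  rw [← Nat.card_eq_fintype_card]
  symm
  apply Nat.card_eq_of_bijective (fun b : F => (⟨S.TgSz 0 b, ⟨b, rfl⟩⟩ : S.ZSz))
  constructor
  · intro b d h
    exact (S.TgSz_injective (congrArg Subtype.val h)).2
  · rintro ⟨_, b, rfl⟩
    exact ⟨b, rfl⟩

theorem TgSz_eq_one_iff {a b : F} : S.TgSz a b = 1 ↔ a = 0 ∧ b = 0 := by
  rw [← TgSz_zero]
  constructor
  · intro h
    exact S.TgSz_injective h
  · rintro ⟨rfl, rfl⟩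
    rfl

/-- an involution of the unipotent subgroup is central -/
theorem mem_ZSz_of_mul_self {g : Cfsg.Sz F m} (hg : g ∈ S.QSz) (h : g * g = 1) : g ∈ S.ZSz := by
  obtain ⟨a, b, rfl⟩ := S.mem_QSz_iff.1 hg
  rw [TgSz_mul, S.TgSz_eq_one_iff] at h
  have h1 : S.s a * a = 0 := by
    have := h.2
    rw [S.add_self, zero_add] at this
    exact this
  have ha : a = 0 := by
    rcases mul_eq_zero.1 h1 with h2 | h2
    · exact (map_eq_zero S.s).1 h2
    · exact h2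
  subst ha
  exact ⟨b, rfl⟩

theorem mul_self_of_mem_ZSz {g : Cfsg.Sz F m} (hg : g ∈ S.ZSz) : g * g = 1 := by
  obtain ⟨b, rfl⟩ := hg
  rw [TgSz_mul, S.TgSz_eq_one_iff, map_zero, zero_mul, add_zero, S.add_self, S.add_self]
  exact ⟨rfl, rfl⟩

/-- the centralizer of a central involution of the unipotent subgroup -/
theorem centralizer_eq_QSz (hm : 1 ≤ m) (hF : Fintype.card F = 2 ^ (2 * m + 1))
    {t : Cfsg.Sz F m} (ht : t ∈ S.ZSz) (ht1 : t ≠ 1) :
    Subgroup.centralizer ({t} : Set (Cfsg.Sz F m)) = S.QSz := by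
  obtain ⟨b, rfl⟩ := ht
  have hb : b ≠ 0 := by
    rintro rfl
    exact ht1 S.TgSz_zero
  ext g
  rw [mem_centralizer_singleton]
  constructor
  · intro hcomm
    have h1 : (g : SpecialLinearGroup (Fin 4) F) * S.Tg 0 b = S.Tg 0 b * g :=
      congrArg Subtype.val hcomm
    obtain ⟨a', b', h⟩ := S.mem_Q_of_commute hm hF hb g.2 h1
    exact ⟨a', b', h⟩
  · intro hg
    obtain ⟨a', b', rfl⟩ := S.mem_QSz_iff.1 hg
    rw [TgSz_mul, TgSz_mul, map_zero, zero_mul, mul_zero, add_zero, add_zero, zero_add,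
      add_zero, add_comm]

/-- the point stabilizer normalizes the centre of the unipotent subgroup -/
theorem conj_mem_ZSz (hm : 1 ≤ m) (hF : Fintype.card F = 2 ^ (2 * m + 1))
    {g : Cfsg.Sz F m} (hg : g ∈ MulAction.stabilizer (Cfsg.Sz F m) (pInf F))
    {z : Cfsg.Sz F m} (hz : z ∈ S.ZSz) : g * z * g⁻¹ ∈ S.ZSz := by
  obtain ⟨a, b, u, rfl⟩ := (S.mem_stabilizer_pInf_iff hm hF).1 hg
  obtain ⟨d, rfl⟩ := hz
  rw [conj_TgSz, mul_zero]
  exact ⟨_, rfl⟩

/-- the torus is transitive on the central involutions -/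
theorem exists_conj_eq {z z' : Cfsg.Sz F m} (hz : z ∈ S.ZSz) (hz1 : z ≠ 1)
    (hz' : z' ∈ S.ZSz) (hz'1 : z' ≠ 1) :
    ∃ u : Fˣ, S.DgSz u * z * (S.DgSz u)⁻¹ = z' := by
  obtain ⟨b, rfl⟩ := hz
  obtain ⟨b', rfl⟩ := hz'
  have hb : b ≠ 0 := by
    rintro rfl
    exact hz1 S.TgSz_zero
  have hb' : b' ≠ 0 := by
    rintro rfl
    exact hz'1 S.TgSz_zero
  obtain ⟨u, hu⟩ := S.exists_unit_eq (div_ne_zero hb' hb)
  refine ⟨u, ?_⟩
  have h := S.conj_TgSz 0 0 0 b u
  rw [TgSz_zero, one_mul] at h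
  rw [h]
  simp only [mul_zero, map_zero, zero_mul, add_zero]
  rw [hu]
  congr 1
  field_simp

/-- elements conjugating a nontrivial unipotent element into the unipotent subgroup fix the
point at infinity -/
theorem mem_stabilizer_of_conj_mem_QSz {a : Cfsg.Sz F m} (ha : a ∈ S.QSz) (ha1 : a ≠ 1)
    {x : Cfsg.Sz F m} (hx : x⁻¹ * a * x ∈ S.QSz) :
    x ∈ MulAction.stabilizer (Cfsg.Sz F m) (pInf F) := by
  obtain ⟨c, d, rfl⟩ := S.mem_QSz_iff.1 ha
  obtain ⟨c', d', hx'⟩ := S.mem_QSz_iff.1 hx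
  have hcd : ¬ (c = 0 ∧ d = 0) := fun h => ha1 (S.TgSz_eq_one_iff.2 h)
  rw [MulAction.mem_stabilizer_iff, Subgroup.smul_def]
  apply S.eq_pInf_of_Tg_fix' hcd (smul_mem_of_mem_Sz x.2 S.pInf_mem)
  have e : S.TgSz c d * x = x * S.TgSz c' d' := by
    rw [← hx']; group
  have e' : S.Tg c d * (x : SpecialLinearGroup (Fin 4) F) =
      (x : SpecialLinearGroup (Fin 4) F) * S.Tg c' d' := congrArg Subtype.val e
  rw [← mul_smul, e', mul_smul, Tg_smul_pInf]

/-- the structure of a subgroup of the point stabilizer -/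
theorem card_of_le_stabilizer (hm : 1 ≤ m) (hF : Fintype.card F = 2 ^ (2 * m + 1))
    {K : Subgroup (Cfsg.Sz F m)}
    (hK : K ≤ MulAction.stabilizer (Cfsg.Sz F m) (pInf F)) :
    ∃ d : ℕ, d ∣ 2 ^ (2 * m + 1) - 1 ∧ Nat.card (K ⊓ S.QSz : Subgroup (Cfsg.Sz F m)) * d =
      Nat.card K ∧
      (d = 2 ^ (2 * m + 1) - 1 → ∀ u : Fˣ, ∃ a b : F, S.TgSz a b * S.DgSz u ∈ K) := by
  obtain ⟨B, hBdef⟩ : ∃ B, B = MulAction.stabilizer (Cfsg.Sz F m) (pInf F) := ⟨_, rfl⟩
  have hker : (S.torusHom hm hF).ker =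
      S.QSz.subgroupOf (MulAction.stabilizer (Cfsg.Sz F m) (pInf F)) := by
    ext g
    rw [MonoidHom.mem_ker, Subgroup.mem_subgroupOf]
    obtain ⟨a, b, hab⟩ := S.torusPart_spec hm hF g
    constructor
    · intro hg
      have hg' : S.torusPart hm hF g = 1 := hg
      rw [hg', Dg_one, mul_one] at hab
      exact ⟨a, b, hab⟩
    · rintro ⟨a', b', h⟩
      apply S.torusPart_eq hm hF (a := a') (b := b')
      rw [h, Dg_one, mul_one]
  refine ⟨Nat.card ((K.subgroupOf (MulAction.stabilizer (Cfsg.Sz F m) (pInf F))).map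
    (S.torusHom hm hF)), ?_, ?_, ?_⟩
  · have h := Subgroup.card_subgroup_dvd_card ((K.subgroupOf
      (MulAction.stabilizer (Cfsg.Sz F m) (pInf F))).map (S.torusHom hm hF))
    rw [Nat.card_units, Nat.card_eq_fintype_card (α := F), hF] at h
    exact h
  · rw [← Subgroup.relIndex_ker, hker, Subgroup.relIndex_subgroupOf hK]
    have h1 := Subgroup.relIndex_mul_relIndex (⊥ : Subgroup (Cfsg.Sz F m)) (K ⊓ S.QSz) K
      bot_le inf_le_left
    rw [Subgroup.relIndex_bot_left, Subgroup.relIndex_bot_left, inf_comm,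
      Subgroup.inf_relIndex_right] at h1
    rw [inf_comm]
    exact h1
  · intro hd u
    have htop : (K.subgroupOf (MulAction.stabilizer (Cfsg.Sz F m) (pInf F))).map
        (S.torusHom hm hF) = ⊤ := by
      apply Subgroup.eq_top_of_card_eq
      rw [hd, Nat.card_units, Nat.card_eq_fintype_card (α := F), hF]
    have hu : u ∈ (K.subgroupOf (MulAction.stabilizer (Cfsg.Sz F m) (pInf F))).map
        (S.torusHom hm hF) := by
      rw [htop]; exact Subgroup.mem_top u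
    obtain ⟨g, hgK, hgu⟩ := hu
    obtain ⟨a, b, hab⟩ := S.torusPart_spec hm hF g
    have hgu' : S.torusPart hm hF g = u := hgu
    rw [hgu'] at hab
    refine ⟨a, b, ?_⟩
    have : S.TgSz a b * S.DgSz u = (g : Cfsg.Sz F m) := Subtype.ext hab.symm
    rw [this]
    exact hgK

/-- the unipotent part of a subgroup is small over its central part -/
theorem card_inf_QSz_le (H : Subgroup (Cfsg.Sz F m)) :
    Nat.card (H ⊓ S.QSz : Subgroup (Cfsg.Sz F m)) ≤
      Nat.card (H ⊓ S.ZSz : Subgroup (Cfsg.Sz F m)) * Fintype.card F := by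
  have hq : 0 < Fintype.card F := Fintype.card_pos
  -- the index of the centre in the unipotent subgroup
  have h1 := Subgroup.relIndex_mul_relIndex (⊥ : Subgroup (Cfsg.Sz F m)) S.ZSz S.QSz
    bot_le S.ZSz_le_QSz
  rw [Subgroup.relIndex_bot_left, Subgroup.relIndex_bot_left, S.card_ZSz, S.card_QSz, pow_two]
    at h1
  have hrel : S.ZSz.relIndex S.QSz = Fintype.card F := Nat.eq_of_mul_eq_mul_left hq h1
  have hle : S.ZSz.relIndex (H ⊓ S.QSz) ≤ Fintype.card F := by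
    rw [← hrel]
    apply Subgroup.relIndex_le_of_le_right inf_le_right
    rw [hrel]
    exact hq.ne'
  have h2 := Subgroup.relIndex_mul_relIndex (⊥ : Subgroup (Cfsg.Sz F m))
    (S.ZSz ⊓ (H ⊓ S.QSz)) (H ⊓ S.QSz) bot_le inf_le_right
  rw [Subgroup.relIndex_bot_left, Subgroup.relIndex_bot_left, Subgroup.inf_relIndex_right] at h2
  have e : S.ZSz ⊓ (H ⊓ S.QSz) = H ⊓ S.ZSz := by
    rw [inf_comm, inf_assoc, inf_eq_right.2 S.ZSz_le_QSz]
  rw [e] at h2
  rw [← h2]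
  exact Nat.mul_le_mul_left _ hle

/-- a subgroup of the point stabilizer with full torus part and nontrivial unipotent part -/
theorem inf_QSz_of_torus_full {K : Subgroup (Cfsg.Sz F m)}
    (hK : ∀ u : Fˣ, ∃ a b : F, S.TgSz a b * S.DgSz u ∈ K)
    (hne : (K ⊓ S.QSz : Subgroup (Cfsg.Sz F m)) ≠ ⊥) :
    S.ZSz ≤ K ∧ ((K ⊓ S.QSz : Subgroup (Cfsg.Sz F m)) = S.ZSz ∨ S.QSz ≤ K) := by
  -- a central involution in `K`
  have h1 : ∃ d : F, d ≠ 0 ∧ S.TgSz 0 d ∈ K := by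
    obtain ⟨g, hg1⟩ := (Subgroup.ne_bot_iff_exists_ne_one).1 hne
    obtain ⟨hgK, hgQ⟩ := Subgroup.mem_inf.1 g.2
    obtain ⟨a, b, hab⟩ := S.mem_QSz_iff.1 hgQ
    have hab1 : S.TgSz a b ≠ 1 := by
      rw [← hab]
      intro h
      exact hg1 (Subtype.ext h)
    by_cases ha : a = 0
    · subst ha
      refine ⟨b, ?_, hab ▸ hgK⟩
      rintro rfl
      exact hab1 S.TgSz_zero
    · refine ⟨S.s a * a, mul_ne_zero ((map_ne_zero S.s).2 ha) ha, ?_⟩
      have h2 : S.TgSz a b * S.TgSz a b ∈ K := K.mul_mem (hab ▸ hgK) (hab ▸ hgK)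
      rwa [TgSz_mul, S.add_self, S.add_self, zero_add] at h2
  obtain ⟨d, hd, hdK⟩ := h1
  have hZ : S.ZSz ≤ K := by
    rintro _ ⟨d', rfl⟩
    by_cases hd' : d' = 0
    · subst hd'
      rw [TgSz_zero]
      exact K.one_mem
    · obtain ⟨u, hu⟩ := S.exists_unit_eq (div_ne_zero hd' hd)
      obtain ⟨a, b, hab⟩ := hK u
      have h2 := K.mul_mem (K.mul_mem hab hdK) (K.inv_mem hab)
      rw [conj_TgSz] at h2
      simp only [mul_zero, map_zero, zero_mul, add_zero] at h2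
      rw [hu] at h2
      have e : d' / d * d = d' := by field_simp
      rwa [e] at h2
  refine ⟨hZ, ?_⟩
  by_cases h : ∃ c : F, c ≠ 0 ∧ ∃ d : F, S.TgSz c d ∈ K
  · right
    obtain ⟨c, hc, d₀, hcK⟩ := h
    intro g hg
    obtain ⟨c', d', rfl⟩ := S.mem_QSz_iff.1 hg
    by_cases hc' : c' = 0
    · subst hc'
      exact hZ ⟨d', rfl⟩
    · obtain ⟨u, hu⟩ := S.exists_unit_s_eq (div_ne_zero hc' hc)
      obtain ⟨a, b, hab⟩ := hK u
      have h2 := K.mul_mem (K.mul_mem hab hcK) (K.inv_mem hab)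
      rw [conj_TgSz, hu] at h2
      have e : c' / c * c = c' := by field_simp
      rw [e] at h2
      obtain ⟨d'', hd''⟩ : ∃ d'' : F, S.TgSz c' d'' ∈ K := ⟨_, h2⟩
      have h3 := K.mul_mem hd'' (hZ ⟨d' + d'', rfl⟩)
      rw [TgSz_mul, add_zero, mul_zero, add_zero] at h3
      have e2 : d'' + (d' + d'') = d' := by linear_combination S.add_self d''
      rwa [e2] at h3
  · left
    apply le_antisymm
    · intro g hg
      obtain ⟨hgK, hgQ⟩ := Subgroup.mem_inf.1 hg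
      obtain ⟨c, d', rfl⟩ := S.mem_QSz_iff.1 hgQ
      by_cases hc : c = 0
      · subst hc
        exact ⟨d', rfl⟩
      · exact absurd ⟨c, hc, d', hgK⟩ h
    · exact le_inf hZ S.ZSz_le_QSz

/-- an involution is conjugate into the centre of the unipotent subgroup -/
theorem exists_conj_mem_ZSz (hm : 1 ≤ m) (hF : Fintype.card F = 2 ^ (2 * m + 1))
    {g : Cfsg.Sz F m} (hg2 : g * g = 1) : ∃ k : Cfsg.Sz F m, k⁻¹ * g * k ∈ S.ZSz := by
  have hfact2 : Fact (Nat.Prime 2) := ⟨Nat.prime_two⟩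
  have hp : IsPGroup 2 (Subgroup.zpowers g) := by
    rintro ⟨h, hh⟩
    refine ⟨1, ?_⟩
    obtain ⟨n, rfl⟩ := Subgroup.mem_zpowers_iff.1 hh
    apply Subtype.ext
    show (g ^ n) ^ 2 ^ 1 = 1
    rw [pow_one, ← zpow_natCast, ← _root_.zpow_mul, mul_comm, _root_.zpow_mul, zpow_natCast,
      pow_two, hg2, _root_.one_zpow]
  obtain ⟨P, hP⟩ := hp.exists_le_sylow
  obtain ⟨k, hk⟩ := S.exists_conj_QSz hm hF P
  have hgP : g ∈ (P : Subgroup (Cfsg.Sz F m)) := hP (Subgroup.mem_zpowers g)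
  rw [hk, Subgroup.mem_pointwise_smul_iff_inv_smul_mem, ← map_inv, MulAut.smul_def,
    MulAut.conj_apply, inv_inv] at hgP
  refine ⟨k, S.mem_ZSz_of_mul_self hgP ?_⟩
  calc k⁻¹ * g * k * (k⁻¹ * g * k) = k⁻¹ * (g * g) * k := by group
    _ = 1 := by rw [hg2]; group

end group

end SzData

end Cfsg.Agent.Helper2.Sz
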