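import Mathlib
import Cfsg.Agent.Lib.Helper2.SzBorelSub
import Cfsg.Agent.Lib.Helper2.FixCount

set_option autoImplicit false
set_option linter.unusedSectionVars false
set_option linter.unusedSimpArgs false

namespace Cfsg.Agent.Helper2.Sz

open Matrix Cfsg.Agent.S0335
open scoped Pointwise

variable {F : Type*} [Field F] {m : ℕ} (S : SzData F m)

theorem three_not_dvd_pred (m : ℕ) : ¬ 3 ∣ 2 ^ (2 * m + 1) - 1 := by
  have h1 : 2 ^ (2 * m + 1) % 3 = 2 := by
    rw [pow_succ, pow_mul, Nat.mul_mod, Nat.pow_mod]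
    norm_num
  have h2 : 1 ≤ 2 ^ (2 * m + 1) := Nat.one_le_two_pow
  omega

/-- the arithmetic of the even case -/
theorem fixity_arith {m q z f s d k : ℕ} (hm : 1 ≤ m) (hq : q = 2 ^ (2 * m + 1))
    (h1 : f * k = q ^ 2 * (z - 1)) (h2 : s * d = k) (h3 : s ≤ z * q) (h4 : f ≤ 2) (h5 : 2 ≤ z)
    (h6 : d ∣ q - 1) : d = q - 1 := by
  have hq8 : 8 ≤ q := by
    rw [hq]
    calc 8 = 2 ^ 3 := by norm_num
      _ ≤ 2 ^ (2 * m + 1) := Nat.pow_le_pow_right (by norm_num) (by omega)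
  have hqeven : 2 ∣ q := by rw [hq]; exact dvd_pow_self 2 (by omega)
  have h3' : ¬ 3 ∣ q - 1 := by rw [hq]; exact three_not_dvd_pred m
  -- the main inequality
  have hA : q * (q * (z - 1)) ≤ q * (2 * z * d) := by
    calc q * (q * (z - 1)) = f * k := by rw [h1]; ring
      _ = f * (s * d) := by rw [h2]
      _ ≤ 2 * (z * q * d) :=
          Nat.mul_le_mul h4 (Nat.mul_le_mul_right d h3)
      _ = q * (2 * z * d) := by ring
  have hB : q * (z - 1) ≤ 2 * z * d := Nat.le_of_mul_le_mul_left hA (by omega)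
  have hC : q * z ≤ 4 * z * d := by
    have hz : z ≤ 2 * (z - 1) := by omega
    calc q * z ≤ q * (2 * (z - 1)) := Nat.mul_le_mul_left q hz
      _ = 2 * (q * (z - 1)) := by ring
      _ ≤ 2 * (2 * z * d) := Nat.mul_le_mul_left 2 hB
      _ = 4 * z * d := by ring
  have hD : q ≤ 4 * d := by
    have : z * q ≤ z * (4 * d) := by
      calc z * q = q * z := by ring
        _ ≤ 4 * z * d := hC
        _ = z * (4 * d) := by ring
    exact Nat.le_of_mul_le_mul_left this (by omega)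
  obtain ⟨e, he⟩ := h6
  have hd0 : 0 < d := by
    rcases Nat.eq_zero_or_pos d with h | h
    · rw [h, zero_mul] at he; omega
    · exact h
  have he4 : e < 4 := by
    by_contra hcon
    have : d * 4 ≤ d * e := Nat.mul_le_mul_left d (by omega)
    omega
  interval_cases e
  · omega
  · omega
  · exfalso
    obtain ⟨j, hj⟩ := hqeven
    omega
  · exfalso
    exact h3' ⟨d, by rw [he]; ring⟩

namespace SzData

section group
variable [Fintype F]

include S in
/-- involutions of a subgroup containing a central involution of the unipotent subgroup are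
conjugate, inside the subgroup, into the centre of the unipotent subgroup -/
theorem exists_conj_mem_ZSz_of_mem (hm : 1 ≤ m) (hF : Fintype.card F = 2 ^ (2 * m + 1))
    {H : Subgroup (Cfsg.Sz F m)} {t : Cfsg.Sz F m} (htH : t ∈ H) (htZ : t ∈ S.ZSz) (ht1 : t ≠ 1)
    {g : Cfsg.Sz F m} (hgH : g ∈ H) (hg2 : g * g = 1) : ∃ h ∈ H, h⁻¹ * g * h ∈ S.ZSz := by
  have hfact2 : Fact (Nat.Prime 2) := ⟨Nat.prime_two⟩
  have hR : IsPGroup 2 (S.QSz.subgroupOf H) := (S.isPGroup_QSz hF).comap_subtype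
  obtain ⟨P, hRP⟩ := hR.exists_le_sylow
  have hp : IsPGroup 2 (Subgroup.zpowers (⟨g, hgH⟩ : H)) := by
    rintro ⟨h, hh⟩
    refine ⟨1, ?_⟩
    obtain ⟨n, rfl⟩ := Subgroup.mem_zpowers_iff.1 hh
    apply Subtype.ext
    have e : (⟨g, hgH⟩ : H) * ⟨g, hgH⟩ = 1 := Subtype.ext hg2
    show ((⟨g, hgH⟩ : H) ^ n) ^ 2 ^ 1 = 1
    rw [pow_one, ← zpow_natCast, ← _root_.zpow_mul, mul_comm, _root_.zpow_mul, zpow_natCast,
      pow_two, e, _root_.one_zpow]
  obtain ⟨P', hP'⟩ := hp.exists_le_sylow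
  obtain ⟨h, hh⟩ := MulAction.exists_smul_eq H P P'
  have hgP : (⟨g, hgH⟩ : H) ∈ (P' : Subgroup H) := hP' (Subgroup.mem_zpowers _)
  rw [← hh, Sylow.coe_subgroup_smul, Subgroup.mem_pointwise_smul_iff_inv_smul_mem, ← map_inv,
    MulAut.smul_def, MulAut.conj_apply, inv_inv] at hgP
  -- the Sylow subgroup `P` lies in the unipotent subgroup
  have hPQ : ∀ x : H, x ∈ (P : Subgroup H) → (x : Cfsg.Sz F m) ∈ S.QSz := by
    have hmap : IsPGroup 2 ((P : Subgroup H).map H.subtype) := P.isPGroup'.map _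
    obtain ⟨P'', hP''⟩ := hmap.exists_le_sylow
    have ht'' : t ∈ (P'' : Subgroup (Cfsg.Sz F m)) := by
      apply hP''
      refine ⟨⟨t, htH⟩, hRP ?_, rfl⟩
      rw [Subgroup.mem_subgroupOf]
      exact S.ZSz_le_QSz htZ
    have heq : P'' = S.QSylow hm hF :=
      S.sylow_eq_of_mem hm hF ht1 ht'' (S.ZSz_le_QSz htZ)
    intro x hx
    have : (x : Cfsg.Sz F m) ∈ (P'' : Subgroup (Cfsg.Sz F m)) := hP'' ⟨x, hx, rfl⟩
    rw [heq] at this
    exact this
  refine ⟨h, h.2, ?_⟩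
  have h1 := hPQ _ hgP
  apply S.mem_ZSz_of_mul_self h1
  have e : ((h⁻¹ * ⟨g, hgH⟩ * h : H) : Cfsg.Sz F m) = (h : Cfsg.Sz F m)⁻¹ * g * h := rfl
  rw [e]
  calc (h : Cfsg.Sz F m)⁻¹ * g * h * ((h : Cfsg.Sz F m)⁻¹ * g * h)
      = (h : Cfsg.Sz F m)⁻¹ * (g * g) * h := by group
    _ = 1 := by rw [hg2]; group

include S in
/-- counting the conjugators of a central involution into a subgroup -/
theorem card_conj_mem (hm : 1 ≤ m) (hF : Fintype.card F = 2 ^ (2 * m + 1))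
    (H : Subgroup (Cfsg.Sz F m)) {t : Cfsg.Sz F m} (htH : t ∈ H) (htZ : t ∈ S.ZSz) (ht1 : t ≠ 1) :
    Nat.card {x : Cfsg.Sz F m // x⁻¹ * t * x ∈ H} *
        Nat.card (H ⊓ MulAction.stabilizer (Cfsg.Sz F m) (pInf F) : Subgroup (Cfsg.Sz F m)) =
      Fintype.card F ^ 2 *
        (Nat.card H * (Nat.card (H ⊓ S.ZSz : Subgroup (Cfsg.Sz F m)) - 1)) := by
  classical
  obtain ⟨A, hAdef⟩ : ∃ A : Subgroup H, A = S.ZSz.subgroupOf H := ⟨_, rfl⟩
  have hmemA : ∀ x : H, x ∈ A ↔ (x : Cfsg.Sz F m) ∈ S.ZSz := by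
    intro x
    rw [hAdef, Subgroup.mem_subgroupOf]
  have htt : t * t = 1 := S.mul_self_of_mem_ZSz htZ
  -- the normalizer
  have hnorm : ∀ h : H, h ∈ Subgroup.normalizer (A : Set H) ↔
      (h : Cfsg.Sz F m) ∈ MulAction.stabilizer (Cfsg.Sz F m) (pInf F) := by
    intro h
    constructor
    · intro hh
      rw [Subgroup.mem_normalizer_iff] at hh
      have h1 := (hh ⟨t, htH⟩).1 ((hmemA _).2 htZ)
      have h2 : (h : Cfsg.Sz F m) * t * (h : Cfsg.Sz F m)⁻¹ ∈ S.ZSz := (hmemA _).1 h1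
      have h3 := S.mem_stabilizer_of_conj_mem_QSz (S.ZSz_le_QSz htZ) ht1
        (x := (h : Cfsg.Sz F m)⁻¹) (by rw [inv_inv]; exact S.ZSz_le_QSz h2)
      exact (Subgroup.inv_mem_iff _).1 h3
    · intro hh
      rw [Subgroup.mem_normalizer_iff]
      intro z
      rw [hmemA, hmemA]
      constructor
      · intro hz
        exact S.conj_mem_ZSz hm hF hh hz
      · intro hz
        have h1 := S.conj_mem_ZSz hm hF (Subgroup.inv_mem _ hh) hz
        have e : (h : Cfsg.Sz F m)⁻¹ * ((h * z * h⁻¹ : H) : Cfsg.Sz F m) * ((h : Cfsg.Sz F m)⁻¹)⁻¹ =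
            (z : Cfsg.Sz F m) := by
          show (h : Cfsg.Sz F m)⁻¹ * ((h : Cfsg.Sz F m) * z * (h : Cfsg.Sz F m)⁻¹) *
            ((h : Cfsg.Sz F m)⁻¹)⁻¹ = z
          group
        rwa [e] at h1
  have hTI : ∀ a ∈ A, a ≠ 1 → ∀ h : H, h⁻¹ * a * h ∈ A →
      h ∈ Subgroup.normalizer (A : Set H) := by
    intro a ha ha1 h hah
    rw [hnorm]
    apply S.mem_stabilizer_of_conj_mem_QSz (a := (a : Cfsg.Sz F m))
      (S.ZSz_le_QSz ((hmemA a).1 ha))
    · intro h1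
      exact ha1 (Subtype.ext h1)
    · exact S.ZSz_le_QSz ((hmemA _).1 hah)
  have hcount := TICount.card_conj_union A hTI
  have hcardA : Nat.card A = Nat.card (H ⊓ S.ZSz : Subgroup (Cfsg.Sz F m)) := by
    rw [hAdef, ← Subgroup.card_subtype H (S.ZSz.subgroupOf H), Subgroup.subgroupOf_map_subtype,
      inf_comm]
  have hcardN : Nat.card (Subgroup.normalizer (A : Set H)) =
      Nat.card (H ⊓ MulAction.stabilizer (Cfsg.Sz F m) (pInf F) : Subgroup (Cfsg.Sz F m)) := by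
    have : Subgroup.normalizer (A : Set H) =
        (MulAction.stabilizer (Cfsg.Sz F m) (pInf F)).subgroupOf H := by
      ext h
      rw [hnorm, Subgroup.mem_subgroupOf]
    rw [this, ← Subgroup.card_subtype H, Subgroup.subgroupOf_map_subtype, inf_comm]
  -- the fibration
  have hfib : ∀ c : {g : H // g ≠ 1 ∧ ∃ h : H, h⁻¹ * g * h ∈ A},
      Nat.card {x : Cfsg.Sz F m // x⁻¹ * t * x = ((c : H) : Cfsg.Sz F m)} = Fintype.card F ^ 2 := by
    rintro ⟨c, hc1, h, hh⟩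
    have hz : (h : Cfsg.Sz F m)⁻¹ * c * h ∈ S.ZSz := (hmemA _).1 hh
    have hz1 : (h : Cfsg.Sz F m)⁻¹ * c * h ≠ 1 := by
      intro h1
      apply hc1
      apply Subtype.ext
      calc (c : Cfsg.Sz F m) = h * ((h : Cfsg.Sz F m)⁻¹ * c * h) * (h : Cfsg.Sz F m)⁻¹ := by group
        _ = 1 := by rw [h1]; group
    obtain ⟨u, hu⟩ := S.exists_conj_eq htZ ht1 hz hz1
    obtain ⟨y, hydef⟩ : ∃ y : Cfsg.Sz F m, y = h * S.DgSz u := ⟨_, rfl⟩
    have hy : (c : Cfsg.Sz F m) = y * t * y⁻¹ := by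
      rw [hydef]
      calc (c : Cfsg.Sz F m) = h * ((h : Cfsg.Sz F m)⁻¹ * c * h) * (h : Cfsg.Sz F m)⁻¹ := by group
        _ = h * (S.DgSz u * t * (S.DgSz u)⁻¹) * (h : Cfsg.Sz F m)⁻¹ := by rw [hu]
        _ = _ := by group
    rw [← S.card_QSz, ← S.centralizer_eq_QSz hm hF htZ ht1]
    apply Nat.card_congr
    exact
      { toFun := fun x => ⟨x.1 * y, by
          rw [mem_centralizer_singleton]
          have hx : x.1⁻¹ * t * x.1 = y * t * y⁻¹ := x.2.trans hy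
          calc x.1 * y * t = x.1 * (y * t * y⁻¹) * y := by group
            _ = x.1 * (x.1⁻¹ * t * x.1) * y := by rw [hx]
            _ = t * (x.1 * y) := by group⟩
        invFun := fun k => ⟨k.1 * y⁻¹, by
          have hk : k.1 * t = t * k.1 := mem_centralizer_singleton.1 k.2
          show (k.1 * y⁻¹)⁻¹ * t * (k.1 * y⁻¹) = (c : Cfsg.Sz F m)
          rw [hy]
          calc (k.1 * y⁻¹)⁻¹ * t * (k.1 * y⁻¹) = y * k.1⁻¹ * (t * k.1) * y⁻¹ := by group
            _ = y * k.1⁻¹ * (k.1 * t) * y⁻¹ := by rw [hk]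
            _ = y * t * y⁻¹ := by group⟩
        left_inv := fun x => Subtype.ext (by simp)
        right_inv := fun k => Subtype.ext (by simp) }
  have e : {x : Cfsg.Sz F m // x⁻¹ * t * x ∈ H} ≃
      Σ c : {g : H // g ≠ 1 ∧ ∃ h : H, h⁻¹ * g * h ∈ A},
        {x : Cfsg.Sz F m // x⁻¹ * t * x = ((c : H) : Cfsg.Sz F m)} :=
    { toFun := fun x => ⟨⟨⟨x.1⁻¹ * t * x.1, x.2⟩, by
          intro h1
          apply ht1
          have h2 : x.1⁻¹ * t * x.1 = 1 := congrArg Subtype.val h1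
          calc t = x.1 * (x.1⁻¹ * t * x.1) * x.1⁻¹ := by group
            _ = 1 := by rw [h2]; group, by
          have h2 : x.1⁻¹ * t * x.1 * (x.1⁻¹ * t * x.1) = 1 := by
            calc x.1⁻¹ * t * x.1 * (x.1⁻¹ * t * x.1) = x.1⁻¹ * (t * t) * x.1 := by group
              _ = 1 := by rw [htt]; group
          obtain ⟨h, hh, hz⟩ := S.exists_conj_mem_ZSz_of_mem hm hF htH htZ ht1 x.2 h2
          exact ⟨⟨h, hh⟩, (hmemA _).2 hz⟩⟩, ⟨x.1, rfl⟩⟩
      invFun := fun p => ⟨p.2.1, by rw [p.2.2]; exact p.1.1.2⟩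
      left_inv := fun x => rfl
      right_inv := by
        rintro ⟨⟨⟨c, hc⟩, hc1, hc2⟩, ⟨x, hx⟩⟩
        dsimp only at hx
        subst hx
        rfl }
  have : Fintype {g : H // g ≠ 1 ∧ ∃ h : H, h⁻¹ * g * h ∈ A} := Fintype.ofFinite _
  rw [Nat.card_congr e, Nat.card_sigma]
  simp only [hfib]
  rw [Finset.sum_const, Finset.card_univ, smul_eq_mul, ← Nat.card_eq_fintype_card, ← hcardN,
    ← hcardA, ← hcount]
  ring

include S in
/-- the stabilizer of a point in a transitive action of fixity at most two, when it contains a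
central involution of the standard unipotent subgroup -/
theorem stabilizer_eq_of_mem_ZSz (hm : 1 ≤ m) (hF : Fintype.card F = 2 ^ (2 * m + 1))
    {Ω : Type*} [Finite Ω] [MulAction (Cfsg.Sz F m) Ω] [MulAction.IsPretransitive (Cfsg.Sz F m) Ω]
    (hfix : ∀ g : Cfsg.Sz F m, g ≠ 1 → Nat.card (MulAction.fixedBy Ω g) ≤ 2) (α : Ω)
    (hne : MulAction.stabilizer (Cfsg.Sz F m) α ≠ ⊤)
    {t : Cfsg.Sz F m} (htZ : t ∈ S.ZSz) (ht1 : t ≠ 1) (htα : t • α = α) :
    MulAction.stabilizer (Cfsg.Sz F m) α = MulAction.stabilizer (Cfsg.Sz F m) (pInf F) := by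
  obtain ⟨H, hHdef⟩ : ∃ H, H = MulAction.stabilizer (Cfsg.Sz F m) α := ⟨_, rfl⟩
  rw [← hHdef] at hne ⊢
  have htH : t ∈ H := by rw [hHdef]; exact htα
  obtain ⟨K, hKdef⟩ : ∃ K, K = H ⊓ MulAction.stabilizer (Cfsg.Sz F m) (pInf F) := ⟨_, rfl⟩
  have hKB : K ≤ MulAction.stabilizer (Cfsg.Sz F m) (pInf F) := by rw [hKdef]; exact inf_le_right
  have hKH : K ≤ H := by rw [hKdef]; exact inf_le_left
  have h1 := FixCount.card_fixedBy_mul_card_stabilizer t α
  rw [← hHdef] at h1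
  have h2 := S.card_conj_mem hm hF H htH htZ ht1
  rw [← hKdef] at h2
  have hHpos : 0 < Nat.card H := Nat.card_pos
  have hkey : Nat.card (MulAction.fixedBy Ω t) * Nat.card K =
      Fintype.card F ^ 2 * (Nat.card (H ⊓ S.ZSz : Subgroup (Cfsg.Sz F m)) - 1) := by
    apply Nat.eq_of_mul_eq_mul_left hHpos
    calc Nat.card H * (Nat.card (MulAction.fixedBy Ω t) * Nat.card K)
        = Nat.card (MulAction.fixedBy Ω t) * Nat.card H * Nat.card K := by ring
      _ = _ := by rw [h1, h2]; ring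
  obtain ⟨d, hd, hdK, hfull⟩ := S.card_of_le_stabilizer hm hF hKB
  have hKQ : (K ⊓ S.QSz : Subgroup (Cfsg.Sz F m)) = H ⊓ S.QSz := by
    rw [hKdef, inf_assoc, inf_eq_right.2 S.QSz_le_stabilizer]
  have hsle := S.card_inf_QSz_le H
  have hz2 : 2 ≤ Nat.card (H ⊓ S.ZSz : Subgroup (Cfsg.Sz F m)) := by
    have : (H ⊓ S.ZSz : Subgroup (Cfsg.Sz F m)) ≠ ⊥ := by
      intro h
      have : t ∈ (H ⊓ S.ZSz : Subgroup (Cfsg.Sz F m)) := ⟨htH, htZ⟩
      rw [h, Subgroup.mem_bot] at this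
      exact ht1 this
    exact (Subgroup.one_lt_card_iff_ne_bot _).2 this
  have hdeq : d = Fintype.card F - 1 := by
    apply fixity_arith hm hF hkey hdK _ (hfix t ht1) hz2 (by rw [hF]; exact hd)
    rw [hKQ]
    exact hsle
  have htKQ : t ∈ (K ⊓ S.QSz : Subgroup (Cfsg.Sz F m)) := by
    rw [hKQ]
    exact ⟨htH, S.ZSz_le_QSz htZ⟩
  have hneb : (K ⊓ S.QSz : Subgroup (Cfsg.Sz F m)) ≠ ⊥ := by
    intro h
    rw [h, Subgroup.mem_bot] at htKQ
    exact ht1 htKQ
  obtain ⟨hZK, hcase⟩ := S.inf_QSz_of_torus_full (hfull (by rw [hdeq, hF])) hneb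
  have hzq : Nat.card (H ⊓ S.ZSz : Subgroup (Cfsg.Sz F m)) = Fintype.card F := by
    rw [inf_eq_right.2 (hZK.trans hKH), S.card_ZSz]
  have hq8 : 8 ≤ Fintype.card F := by
    rw [hF]
    calc 8 = 2 ^ 3 := by norm_num
      _ ≤ 2 ^ (2 * m + 1) := Nat.pow_le_pow_right (by norm_num) (by omega)
  rw [hzq] at hkey
  rcases hcase with hc | hc
  · exfalso
    rw [hc, S.card_ZSz, hdeq] at hdK
    rw [← hdK] at hkey
    have h3 : Nat.card (MulAction.fixedBy Ω t) = Fintype.card F := by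
      have hpos : 0 < Fintype.card F * (Fintype.card F - 1) := by
        apply Nat.mul_pos <;> omega
      apply Nat.eq_of_mul_eq_mul_right hpos
      rw [hkey]
      ring
    have := hfix t ht1
    omega
  · have hKQ' : (K ⊓ S.QSz : Subgroup (Cfsg.Sz F m)) = S.QSz := inf_eq_right.2 hc
    rw [hKQ', S.card_QSz, hdeq] at hdK
    have hKB' : K = MulAction.stabilizer (Cfsg.Sz F m) (pInf F) := by
      apply Subgroup.eq_of_le_of_card_ge hKB
      rw [S.card_stabilizer_pInf hm hF, ← hdK, hF]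
    have hBH : MulAction.stabilizer (Cfsg.Sz F m) (pInf F) ≤ H := by
      rw [← hKB']
      exact hKH
    have hco := S.isCoatom_normalizer_QSz hm hF
    rw [S.normalizer_QSz hm hF] at hco
    rcases eq_or_lt_of_le hBH with h | h
    · exact h.symm
    · exact absurd (hco.2 _ h) hne

end group

end SzData

end Cfsg.Agent.Helper2.Sz
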