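import Mathlib
import Cfsg.Agent.Lib.Helper2.TICount

set_option autoImplicit false

namespace Cfsg.Agent.Helper2.TICount

theorem card_subtype_or' {α : Type*} [Finite α] (p q : α → Prop) (h : ∀ x, p x → ¬ q x) :
    Nat.card {x // p x ∨ q x} = Nat.card {x // p x} + Nat.card {x // q x} := by
  classical
  have hd : Disjoint p q := by
    rw [disjoint_iff_inf_le]
    intro x hx
    exact h x hx.1 hx.2
  rw [Nat.card_congr (_root_.subtypeOrEquiv p q hd), Nat.card_sum]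

/-- a class of self-normalizing trivial intersection subgroups of order at least three fills
more than two thirds of the group -/
theorem two_mul_card_le {H : Type*} [Group H] [Finite H] (U : Subgroup H)
    (h3 : 3 ≤ Nat.card U)
    (hTI : ∀ a ∈ U, a ≠ 1 → ∀ h : H, h⁻¹ * a * h ∈ U → h ∈ Subgroup.normalizer (U : Set H))
    (hN : Subgroup.normalizer (U : Set H) = U) :
    2 * Nat.card H ≤ 3 * Nat.card {g : H // g ≠ 1 ∧ ∃ h : H, h⁻¹ * g * h ∈ U} := by
  have hc := card_conj_union U hTI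
  rw [hN] at hc
  obtain ⟨u, hu⟩ : ∃ u, u = Nat.card U := ⟨_, rfl⟩
  obtain ⟨c, hcdef⟩ : ∃ c, c = Nat.card {g : H // g ≠ 1 ∧ ∃ h : H, h⁻¹ * g * h ∈ U} := ⟨_, rfl⟩
  obtain ⟨n, hn⟩ : ∃ n, n = Nat.card H := ⟨_, rfl⟩
  rw [← hu, ← hcdef, ← hn] at hc
  rw [← hu] at h3
  rw [← hcdef, ← hn]
  have h1 : 2 * u ≤ 3 * (u - 1) := by omega
  have h2 : 2 * n * u ≤ 3 * c * u := by
    calc 2 * n * u = n * (2 * u) := by ring
      _ ≤ n * (3 * (u - 1)) := Nat.mul_le_mul_left n h1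
      _ = 3 * (n * (u - 1)) := by ring
      _ = 3 * (c * u) := by rw [hc]
      _ = 3 * c * u := by ring
  exact Nat.le_of_mul_le_mul_right h2 (by omega)

/-- a group covered by self-normalizing trivial intersection subgroups is one of them -/
theorem eq_top_of_selfnormalizing_cover {H : Type*} [Group H] [Finite H] (U₁ : Subgroup H)
    (h3 : 3 ≤ Nat.card U₁)
    (hTI : ∀ a ∈ U₁, a ≠ 1 → ∀ h : H, h⁻¹ * a * h ∈ U₁ →
      h ∈ Subgroup.normalizer (U₁ : Set H))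
    (hN : Subgroup.normalizer (U₁ : Set H) = U₁)
    (hcov : ∀ g : H, g ≠ 1 → (¬ ∃ h : H, h⁻¹ * g * h ∈ U₁) → ∃ U₂ : Subgroup H,
      3 ≤ Nat.card U₂ ∧
      (∀ a ∈ U₂, a ≠ 1 → ∀ h : H, h⁻¹ * a * h ∈ U₂ → h ∈ Subgroup.normalizer (U₂ : Set H)) ∧
      Subgroup.normalizer (U₂ : Set H) = U₂ ∧
      (∀ x : H, x ≠ 1 → (∃ h : H, h⁻¹ * x * h ∈ U₁) → ¬ ∃ h : H, h⁻¹ * x * h ∈ U₂)) :
    U₁ = ⊤ := by
  have hHpos : 0 < Nat.card H := Nat.card_pos
  by_cases hall : ∀ g : H, g ≠ 1 → ∃ h : H, h⁻¹ * g * h ∈ U₁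
  · have hc := card_conj_union U₁ hTI
    rw [hN] at hc
    have e : Nat.card {g : H // g ≠ 1 ∧ ∃ h : H, h⁻¹ * g * h ∈ U₁} = Nat.card H - 1 := by
      rw [← card_ne_one]
      apply Nat.card_congr
      exact
        { toFun := fun g => ⟨g.1, g.2.1⟩
          invFun := fun g => ⟨g.1, g.2, hall g.1 g.2⟩
          left_inv := fun g => rfl
          right_inv := fun g => rfl }
    rw [e] at hc
    apply Subgroup.eq_top_of_card_eq
    have hU : 0 < Nat.card U₁ := Nat.card_pos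
    obtain ⟨n, hn⟩ : ∃ n, Nat.card H = n + 1 := ⟨Nat.card H - 1, by omega⟩
    obtain ⟨u, hu⟩ : ∃ u, Nat.card U₁ = u + 1 := ⟨Nat.card U₁ - 1, by omega⟩
    rw [hn, hu] at hc ⊢
    simp only [Nat.add_sub_cancel] at hc
    have : n * (u + 1) = (n + 1) * u := hc
    have : n = u := by
      have h1 : n * u + n = n * u + u := by linarith
      omega
    rw [this]
  · exfalso
    rw [not_forall] at hall
    obtain ⟨g, hg⟩ := hall
    rw [Classical.not_imp] at hg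
    obtain ⟨hg1, hgn⟩ := hg
    obtain ⟨U₂, h3', hTI', hN', hdisj⟩ := hcov g hg1 hgn
    have k1 := two_mul_card_le U₁ h3 hTI hN
    have k2 := two_mul_card_le U₂ h3' hTI' hN'
    have hsum := card_subtype_or' (fun g : H => g ≠ 1 ∧ ∃ h : H, h⁻¹ * g * h ∈ U₁)
      (fun g : H => g ≠ 1 ∧ ∃ h : H, h⁻¹ * g * h ∈ U₂)
      (fun x hx hx' => hdisj x hx.1 hx.2 hx'.2)
    have hle : Nat.card {x : H // (x ≠ 1 ∧ ∃ h : H, h⁻¹ * x * h ∈ U₁) ∨
        (x ≠ 1 ∧ ∃ h : H, h⁻¹ * x * h ∈ U₂)} ≤ Nat.card {x : H // x ≠ 1} := by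
      apply Nat.card_le_card_of_injective (fun x => (⟨x.1, by
        rcases x.2 with h | h
        · exact h.1
        · exact h.1⟩ : {x : H // x ≠ 1}))
      intro x y hxy
      have h1 : (x : H) = (y : H) := congrArg (fun z : {x : H // x ≠ 1} => (z : H)) hxy
      exact Subtype.ext h1
    rw [card_ne_one] at hle
    omega

end Cfsg.Agent.Helper2.TICount
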