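import Mathlib
import Cfsg.Agent.Lib.Helper2.SzFixity
import Cfsg.Agent.Lib.Helper2.TICount2

set_option autoImplicit false
set_option linter.unusedSectionVars false
set_option linter.unusedSimpArgs false

namespace Cfsg.Agent.Helper2.Sz

open Matrix Cfsg.Agent.S0335
open scoped Pointwise

variable {F : Type*} [Field F] {m : ℕ} (S : SzData F m)

namespace SzData

section group
variable [Fintype F]

/-- a cyclic member of the partition meeting a point stabilizer lies in it -/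
theorem member_le_stabilizer {Ω : Type*} [Finite Ω] [MulAction (Cfsg.Sz F m) Ω]
    (hfix : ∀ g : Cfsg.Sz F m, g ≠ 1 → Nat.card (MulAction.fixedBy Ω g) ≤ 2) (α : Ω)
    {g : Cfsg.Sz F m} (hg1 : g ≠ 1) (hgα : g • α = α) {U : Subgroup (Cfsg.Sz F m)}
    (hUc : IsCyclic U)
    (hUk : Nat.card U ∈ ({2 ^ (2 * m + 1) - 1, 2 ^ (2 * m + 1) + 2 ^ (m + 1) + 1,
      2 ^ (2 * m + 1) - 2 ^ (m + 1) + 1} : Set ℕ)) (hgU : g ∈ U) :
    U ≤ MulAction.stabilizer (Cfsg.Sz F m) α := by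
  intro c hcU
  rw [MulAction.mem_stabilizer_iff]
  apply FixCount.smul_eq_of_commute_of_odd (hfix g hg1) hgα
  · have := (IsCyclic.commGroup (α := U)).mul_comm ⟨c, hcU⟩ ⟨g, hgU⟩
    exact congrArg Subtype.val this
  · have hdvd : orderOf c ∣ Nat.card U := Subgroup.orderOf_dvd_natCard U hcU
    have hodd : Odd (Nat.card U) := by
      rw [Nat.odd_iff]
      have := odd_of_mem hUk
      omega
    exact Odd.of_dvd_nat hodd hdvd

include S in
/-- a cyclic member is the centralizer of each of its nontrivial elements -/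
theorem member_eq_centralizer' (hm : 1 ≤ m) (hF : Fintype.card F = 2 ^ (2 * m + 1))
    {U : Subgroup (Cfsg.Sz F m)} (hUc : IsCyclic U)
    (hUk : Nat.card U ∈ ({2 ^ (2 * m + 1) - 1, 2 ^ (2 * m + 1) + 2 ^ (m + 1) + 1,
      2 ^ (2 * m + 1) - 2 ^ (m + 1) + 1} : Set ℕ))
    {a : Cfsg.Sz F m} (ha : a ∈ U) (ha1 : a ≠ 1) (z : Cfsg.Sz F m) :
    z ∈ U ↔ z * a = a * z := by
  constructor
  · intro hz
    have := (IsCyclic.commGroup (α := U)).mul_comm ⟨z, hz⟩ ⟨a, ha⟩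
    exact congrArg Subtype.val this
  · intro hz
    exact S.centralizer_le_member hm hF ha1 (Or.inr ⟨hUc, hUk⟩) ha hz

include S in
/-- cyclic members are trivial intersection subgroups -/
theorem member_TI (hm : 1 ≤ m) (hF : Fintype.card F = 2 ^ (2 * m + 1))
    {U : Subgroup (Cfsg.Sz F m)} (hUc : IsCyclic U)
    (hUk : Nat.card U ∈ ({2 ^ (2 * m + 1) - 1, 2 ^ (2 * m + 1) + 2 ^ (m + 1) + 1,
      2 ^ (2 * m + 1) - 2 ^ (m + 1) + 1} : Set ℕ))
    {a : Cfsg.Sz F m} (ha : a ∈ U) (ha1 : a ≠ 1) {k : Cfsg.Sz F m} (hk : k⁻¹ * a * k ∈ U) :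
    k ∈ Subgroup.normalizer (U : Set (Cfsg.Sz F m)) := by
  have hk1 : k⁻¹ * a * k ≠ 1 := by
    intro h1
    apply ha1
    calc a = k * (k⁻¹ * a * k) * k⁻¹ := by group
      _ = 1 := by rw [h1]; group
  rw [Subgroup.mem_normalizer_iff]
  intro z
  rw [S.member_eq_centralizer' hm hF hUc hUk hk hk1 z,
    S.member_eq_centralizer' hm hF hUc hUk ha ha1 (k * z * k⁻¹)]
  constructor
  · intro h
    calc k * z * k⁻¹ * a = k * (z * (k⁻¹ * a * k)) * k⁻¹ := by group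
      _ = k * ((k⁻¹ * a * k) * z) * k⁻¹ := by rw [h]
      _ = a * (k * z * k⁻¹) := by group
  · intro h
    calc z * (k⁻¹ * a * k) = k⁻¹ * ((k * z * k⁻¹) * a) * k := by group
      _ = k⁻¹ * (a * (k * z * k⁻¹)) * k := by rw [h]
      _ = k⁻¹ * a * k * z := by group

include S in
/-- the normalizer of a twisted torus -/
theorem card_normalizer_twisted (hm : 1 ≤ m) (hF : Fintype.card F = 2 ^ (2 * m + 1))
    {U : Subgroup (Cfsg.Sz F m)} (hUc : IsCyclic U)
    (hUk : Nat.card U = 2 ^ (2 * m + 1) + 2 ^ (m + 1) + 1 ∨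
      Nat.card U = 2 ^ (2 * m + 1) - 2 ^ (m + 1) + 1) :
    Nat.card (Subgroup.normalizer (U : Set (Cfsg.Sz F m))) = 4 * Nat.card U := by
  obtain ⟨A₁, A₂, hA₁, hA₂, hc₁, hc₂, hn₁, hn₂, hcov⟩ := S.exists_two_tori_cover hm hF
  have hUmem : Nat.card U ∈ ({2 ^ (2 * m + 1) - 1, 2 ^ (2 * m + 1) + 2 ^ (m + 1) + 1,
      2 ^ (2 * m + 1) - 2 ^ (m + 1) + 1} : Set ℕ) := by
    rcases hUk with h | h
    · exact Or.inr (Or.inl h)
    · exact Or.inr (Or.inr h)
  have hrq : 2 ^ (m + 1) < 2 ^ (2 * m + 1) := Nat.pow_lt_pow_right (by norm_num) (by omega)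
  have h1U : Nat.card U ≠ 1 := by
    obtain ⟨q, hq⟩ : ∃ q, q = 2 ^ (2 * m + 1) := ⟨_, rfl⟩
    obtain ⟨r, hr⟩ : ∃ r, r = 2 ^ (m + 1) := ⟨_, rfl⟩
    rw [← hq, ← hr] at hUk hrq
    rcases hUk with h | h <;> omega
  obtain ⟨ℓ, hℓdef⟩ : ∃ ℓ, ℓ = (Nat.card U).minFac := ⟨_, rfl⟩
  have hℓ : ℓ.Prime := hℓdef ▸ Nat.minFac_prime h1U
  have hℓU : ℓ ∣ Nat.card U := hℓdef ▸ Nat.minFac_dvd _
  have hfact : Fact ℓ.Prime := ⟨hℓ⟩
  obtain ⟨y', hy'⟩ := exists_prime_orderOf_dvd_card' ℓ hℓU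
  obtain ⟨y, hyU⟩ := y'
  have hy : orderOf y = ℓ := by
    rw [← hy']
    exact (Subgroup.orderOf_mk y hyU).symm
  have hℓ2 : ℓ ≠ 2 := by
    rintro rfl
    exact odd_of_mem hUmem hℓU
  have hdvd : ℓ ∣ (2 ^ (2 * m + 1)) ^ 2 + 1 := by
    rw [← tori_mul m]
    rcases hUk with h | h
    · exact (h ▸ hℓU).mul_right _
    · exact (h ▸ hℓU).mul_left _
  have hy1 : y ≠ 1 := by
    intro h1
    rw [h1, orderOf_one] at hy
    exact hℓ.one_lt.ne hy
  have hfpf := S.fpf_of_prime_order hm hF hℓ hℓ2 hdvd hy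
  -- the torus conjugate to `U`
  have key : ∀ A : Subgroup (Cfsg.Sz F m), IsTorus A → ConjUnion A y →
      Nat.card (Subgroup.normalizer (A : Set (Cfsg.Sz F m))) = 4 * Nat.card A →
      Nat.card (Subgroup.normalizer (U : Set (Cfsg.Sz F m))) = 4 * Nat.card U := by
    rintro A hA ⟨-, h, hh⟩ hnA
    have hh1 : h⁻¹ * y * h ≠ 1 := by
      intro h1
      apply hy1
      calc y = h * (h⁻¹ * y * h) * h⁻¹ := by group
        _ = 1 := by rw [h1]; group
    have hCA := S.centralizer_eq_of_mem_torus hm hF hA hh hh1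
    have hUA : U = A.map (MulAut.conj h).toMonoidHom := by
      ext z
      rw [S.member_eq_centralizer' hm hF hUc hUmem hyU hy1 z, Subgroup.mem_map]
      constructor
      · intro hz
        refine ⟨h⁻¹ * z * h, ?_, ?_⟩
        · rw [← hCA, mem_centralizer_singleton]
          calc h⁻¹ * z * h * (h⁻¹ * y * h) = h⁻¹ * (z * y) * h := by group
            _ = h⁻¹ * (y * z) * h := by rw [hz]
            _ = h⁻¹ * y * h * (h⁻¹ * z * h) := by group
        · show h * (h⁻¹ * z * h) * h⁻¹ = z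
          group
      · rintro ⟨a, ha, rfl⟩
        rw [← hCA, mem_centralizer_singleton] at ha
        show h * a * h⁻¹ * y = y * (h * a * h⁻¹)
        calc h * a * h⁻¹ * y = h * (a * (h⁻¹ * y * h)) * h⁻¹ := by group
          _ = h * ((h⁻¹ * y * h) * a) * h⁻¹ := by rw [ha]
          _ = y * (h * a * h⁻¹) := by group
    rw [hUA, ← Subgroup.map_equiv_normalizer_eq,
      Subgroup.card_map_of_injective (MulAut.conj h).injective,
      Subgroup.card_map_of_injective (MulAut.conj h).injective, hnA]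
  rcases hcov y hfpf with h | h
  · exact key A₁ hA₁ h (by rw [hn₁, hc₁])
  · exact key A₂ hA₂ h (by rw [hn₂, hc₂])

/-- the fixed points of a nontrivial element of the standard torus -/
theorem Dg_fix_of_ne_one {v : Fˣ} (hv : v ≠ 1) {p : Projectivization F (Fin 4 → F)}
    (hp : p ∈ Cfsg.suzukiOvoid F m) (h : S.Dg v • p = p) : p = pInf F ∨ p = S.pt 0 0 := by
  rcases (S.mem_ovoid_iff p).1 hp with rfl | ⟨x, y, rfl⟩
  · exact Or.inl rfl
  · right
    rw [Dg_smul_pt] at h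
    obtain ⟨h1, h2⟩ := S.pt_injective h
    have hx : x = 0 := by
      by_contra hx
      apply hv
      apply Units.ext
      apply S.s_injective
      rw [Units.val_one, map_one]
      exact mul_right_cancel₀ hx (by rw [h1, one_mul])
    have hy : y = 0 := by
      by_contra hy
      apply hv
      apply S.unit_eq_one_of
      exact mul_right_cancel₀ hy (by rw [h2, one_mul])
    rw [hx, hy]

include S in
/-- an element of odd order normalizing the standard torus lies in it -/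
theorem mem_range_of_normalizer (hm : 1 ≤ m) (hF : Fintype.card F = 2 ^ (2 * m + 1))
    {y : Cfsg.Sz F m} (hy : ∀ u : Fˣ, ∃ v : Fˣ, y⁻¹ * S.DgSz u * y = S.DgSz v)
    (hodd : Odd (orderOf y)) : y ∈ S.DgSz.range := by
  -- a nontrivial element of the torus
  have hcard : 1 < Nat.card Fˣ := by
    rw [Nat.card_units, Nat.card_eq_fintype_card, hF]
    have : 2 ^ 3 ≤ 2 ^ (2 * m + 1) := Nat.pow_le_pow_right (by norm_num) (by omega)
    omega
  have hnt : Nontrivial Fˣ := (Finite.one_lt_card_iff_nontrivial).1 hcard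
  obtain ⟨u₀, hu₀⟩ := exists_ne (1 : Fˣ)
  obtain ⟨v, hv⟩ := hy u₀
  have hv1 : v ≠ 1 := by
    rintro rfl
    apply hu₀
    apply S.DgSz_injective
    rw [map_one] at hv ⊢
    calc S.DgSz u₀ = y * (y⁻¹ * S.DgSz u₀ * y) * y⁻¹ := by group
      _ = 1 := by rw [hv]; group
  have hcomm : S.DgSz u₀ * y = y * S.DgSz v := by
    rw [← hv]; group
  have hcomm' : S.Dg u₀ * (y : SpecialLinearGroup (Fin 4) F) =
      (y : SpecialLinearGroup (Fin 4) F) * S.Dg v := congrArg Subtype.val hcomm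
  have hmove : ∀ p : Projectivization F (Fin 4 → F), p ∈ Cfsg.suzukiOvoid F m →
      S.Dg v • p = p → (y : SpecialLinearGroup (Fin 4) F) • p = pInf F ∨
        (y : SpecialLinearGroup (Fin 4) F) • p = S.pt 0 0 := by
    intro p hp hfix
    apply S.Dg_fix_of_ne_one hu₀ (smul_mem_of_mem_Sz y.2 hp)
    rw [← mul_smul, hcomm', mul_smul, hfix]
  have h1 := hmove (pInf F) S.pInf_mem (S.Dg_smul_pInf v)
  have h2 := hmove (S.pt 0 0) (S.pt_mem 0 0) (S.Dg_smul_pt_zero v)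
  have hne : (y : SpecialLinearGroup (Fin 4) F) • pInf F ≠
      (y : SpecialLinearGroup (Fin 4) F) • S.pt 0 0 := by
    intro h
    exact S.pt_ne_pInf 0 0 (MulAction.injective _ h).symm
  -- the square of `y` fixes both points
  have hsq : y * y ∈ S.DgSz.range := by
    rw [S.range_DgSz hm hF, Subgroup.mem_inf, MulAction.mem_stabilizer_iff,
      MulAction.mem_stabilizer_iff, Subgroup.smul_def, Subgroup.smul_def]
    have e : ((y * y : Cfsg.Sz F m) : SpecialLinearGroup (Fin 4) F) =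
        (y : SpecialLinearGroup (Fin 4) F) * (y : SpecialLinearGroup (Fin 4) F) := rfl
    rw [e, mul_smul, mul_smul]
    rcases h1 with h1 | h1 <;> rcases h2 with h2 | h2
    · exact absurd (h1.trans h2.symm) hne
    · exact ⟨by rw [h1, h1], by rw [h2, h2]⟩
    · exact ⟨by rw [h1, h2], by rw [h2, h1]⟩
    · exact absurd (h1.trans h2.symm) hne
  obtain ⟨k, hk⟩ := hodd
  have e : y = (y * y) ^ (k + 1) := by
    rw [← pow_two, ← pow_mul]
    have : 2 * (k + 1) = orderOf y + 1 := by omega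
    rw [this, pow_succ, pow_orderOf_eq_one, one_mul]
  rw [e]
  exact Subgroup.pow_mem _ hsq _

include S in
/-- a split torus is conjugate to the standard one -/
theorem exists_conj_range_of_split (hm : 1 ≤ m) (hF : Fintype.card F = 2 ^ (2 * m + 1))
    {U : Subgroup (Cfsg.Sz F m)} (hUc : IsCyclic U) (hUk : Nat.card U = 2 ^ (2 * m + 1) - 1) :
    ∃ g : Cfsg.Sz F m, ∀ z : Cfsg.Sz F m, z ∈ U ↔ g⁻¹ * z * g ∈ S.DgSz.range := by
  have hUmem : Nat.card U ∈ ({2 ^ (2 * m + 1) - 1, 2 ^ (2 * m + 1) + 2 ^ (m + 1) + 1,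
      2 ^ (2 * m + 1) - 2 ^ (m + 1) + 1} : Set ℕ) := Or.inl hUk
  have hq8 : 2 ^ 3 ≤ 2 ^ (2 * m + 1) := Nat.pow_le_pow_right (by norm_num) (by omega)
  have h1U : Nat.card U ≠ 1 := by omega
  obtain ⟨ℓ, hℓdef⟩ : ∃ ℓ, ℓ = (Nat.card U).minFac := ⟨_, rfl⟩
  have hℓ : ℓ.Prime := hℓdef ▸ Nat.minFac_prime h1U
  have hℓU : ℓ ∣ Nat.card U := hℓdef ▸ Nat.minFac_dvd _
  have hfact : Fact ℓ.Prime := ⟨hℓ⟩
  obtain ⟨y', hy'⟩ := exists_prime_orderOf_dvd_card' ℓ hℓU
  obtain ⟨y, hyU⟩ := y'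
  have hy : orderOf y = ℓ := by
    rw [← hy']
    exact (Subgroup.orderOf_mk y hyU).symm
  have hℓ2 : ℓ ≠ 2 := by
    rintro rfl
    exact odd_of_mem hUmem hℓU
  have hy1 : y ≠ 1 := by
    intro h1
    rw [h1, orderOf_one] at hy
    exact hℓ.one_lt.ne hy
  obtain ⟨g, u₀, hu₀, hgy, hall⟩ := S.exists_conj_split hm hF hℓ2 (hUk ▸ hℓU) hy
  refine ⟨g, fun z => ?_⟩
  rw [S.member_eq_centralizer' hm hF hUc hUmem hyU hy1 z]
  constructor
  · intro hz
    obtain ⟨v, hv⟩ := hall z hz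
    exact ⟨v, hv.symm⟩
  · rintro ⟨v, hv⟩
    have hz : z = g * S.DgSz v * g⁻¹ := by rw [hv]; group
    have hy' : y = g * S.DgSz u₀ * g⁻¹ := by rw [← hgy]; group
    rw [hz, hy']
    calc g * S.DgSz v * g⁻¹ * (g * S.DgSz u₀ * g⁻¹) = g * (S.DgSz v * S.DgSz u₀) * g⁻¹ := by group
      _ = g * (S.DgSz u₀ * S.DgSz v) * g⁻¹ := by rw [← map_mul, ← map_mul, mul_comm]
      _ = _ := by group

include S in
/-- an element of odd order normalizing a split torus lies in it -/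
theorem mem_of_mem_normalizer_split (hm : 1 ≤ m) (hF : Fintype.card F = 2 ^ (2 * m + 1))
    {U : Subgroup (Cfsg.Sz F m)} (hUc : IsCyclic U) (hUk : Nat.card U = 2 ^ (2 * m + 1) - 1)
    {x : Cfsg.Sz F m} (hx : x ∈ Subgroup.normalizer (U : Set (Cfsg.Sz F m)))
    (hodd : Odd (orderOf x)) : x ∈ U := by
  obtain ⟨g, hg⟩ := S.exists_conj_range_of_split hm hF hUc hUk
  rw [hg x]
  apply S.mem_range_of_normalizer hm hF
  · intro u
    have hw : g * S.DgSz u * g⁻¹ ∈ U := by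
      rw [hg]
      refine ⟨u, ?_⟩
      group
    have hx' : x⁻¹ ∈ Subgroup.normalizer (U : Set (Cfsg.Sz F m)) := Subgroup.inv_mem _ hx
    rw [Subgroup.mem_normalizer_iff] at hx'
    have hw' := (hx' _).1 hw
    rw [hg] at hw'
    obtain ⟨v, hv⟩ := hw'
    refine ⟨v, ?_⟩
    rw [hv]
    group
  · have e : g⁻¹ * x * g = (MulAut.conj g⁻¹) x := by
      rw [MulAut.conj_apply, inv_inv]
    rw [e, MulEquiv.orderOf_eq]
    exact hodd

include S in
/-- a point stabilizer of odd order contains no twisted torus -/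
theorem no_twisted_member (hm : 1 ≤ m) (hF : Fintype.card F = 2 ^ (2 * m + 1))
    {Ω : Type*} [Finite Ω] [MulAction (Cfsg.Sz F m) Ω]
    (hfix : ∀ g : Cfsg.Sz F m, g ≠ 1 → Nat.card (MulAction.fixedBy Ω g) ≤ 2) (α : Ω)
    (hodd : Odd (Nat.card (MulAction.stabilizer (Cfsg.Sz F m) α)))
    {U : Subgroup (Cfsg.Sz F m)} (hUc : IsCyclic U)
    (hUk : Nat.card U = 2 ^ (2 * m + 1) + 2 ^ (m + 1) + 1 ∨
      Nat.card U = 2 ^ (2 * m + 1) - 2 ^ (m + 1) + 1)
    (hUH : U ≤ MulAction.stabilizer (Cfsg.Sz F m) α) : False := by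
  obtain ⟨H, hHdef⟩ : ∃ H, H = MulAction.stabilizer (Cfsg.Sz F m) α := ⟨_, rfl⟩
  rw [← hHdef] at hodd hUH
  obtain ⟨N, hNdef⟩ : ∃ N, N = Subgroup.normalizer (U : Set (Cfsg.Sz F m)) := ⟨_, rfl⟩
  have hN := S.card_normalizer_twisted hm hF hUc hUk
  rw [← hNdef] at hN
  have hrq : 2 ^ (m + 1) < 2 ^ (2 * m + 1) := Nat.pow_lt_pow_right (by norm_num) (by omega)
  have h1U : 1 < Nat.card U := by
    obtain ⟨q, hq⟩ : ∃ q, q = 2 ^ (2 * m + 1) := ⟨_, rfl⟩
    obtain ⟨r, hr⟩ : ∃ r, r = 2 ^ (m + 1) := ⟨_, rfl⟩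
    rw [← hq, ← hr] at hUk hrq
    rcases hUk with h | h <;> omega
  obtain ⟨⟨u, huU⟩, hu1⟩ := (Subgroup.ne_bot_iff_exists_ne_one).1
    ((Subgroup.one_lt_card_iff_ne_bot U).1 h1U)
  have hu1' : u ≠ 1 := fun h => hu1 (Subtype.ext h)
  -- the orbit of `α` under the normalizer
  have hstab : H.subgroupOf N = MulAction.stabilizer N α := by
    ext n
    rw [Subgroup.mem_subgroupOf, MulAction.mem_stabilizer_iff, hHdef,
      MulAction.mem_stabilizer_iff]
    rfl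
  have horb : (MulAction.orbit N α) ⊆ MulAction.fixedBy Ω u := by
    rintro _ ⟨n, rfl⟩
    rw [MulAction.mem_fixedBy]
    have hn : (n : Cfsg.Sz F m) ∈ Subgroup.normalizer (U : Set (Cfsg.Sz F m)) := by
      rw [← hNdef]; exact n.2
    have hn' : (n : Cfsg.Sz F m)⁻¹ ∈ Subgroup.normalizer (U : Set (Cfsg.Sz F m)) :=
      Subgroup.inv_mem _ hn
    rw [Subgroup.mem_normalizer_iff] at hn'
    have h1 := (hn' u).1 huU
    rw [inv_inv] at h1
    have h2 := hUH h1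
    rw [hHdef, MulAction.mem_stabilizer_iff] at h2
    show u • ((n : Cfsg.Sz F m) • α) = (n : Cfsg.Sz F m) • α
    calc u • ((n : Cfsg.Sz F m) • α)
        = (n : Cfsg.Sz F m) • (((n : Cfsg.Sz F m)⁻¹ * u * n) • α) := by
          rw [← mul_smul, ← mul_smul]; congr 1; group
      _ = (n : Cfsg.Sz F m) • α := by rw [h2]
  have hrel : H.relIndex N ≤ 2 := by
    rw [Subgroup.relIndex, hstab, MulAction.index_stabilizer]
    calc (MulAction.orbit N α).ncard ≤ (MulAction.fixedBy Ω u).ncard :=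
          Set.ncard_le_ncard horb (Set.toFinite _)
      _ = Nat.card (MulAction.fixedBy Ω u) := (Nat.card_coe_set_eq _).symm
      _ ≤ 2 := hfix u hu1'
  have h3 := Subgroup.relIndex_mul_relIndex (⊥ : Subgroup (Cfsg.Sz F m)) (H ⊓ N) N
    bot_le inf_le_right
  rw [Subgroup.relIndex_bot_left, Subgroup.relIndex_bot_left, Subgroup.inf_relIndex_right] at h3
  have hdvdH : Nat.card (H ⊓ N : Subgroup (Cfsg.Sz F m)) ∣ Nat.card H :=
    Subgroup.card_dvd_of_le inf_le_left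
  have hoddK : Odd (Nat.card (H ⊓ N : Subgroup (Cfsg.Sz F m))) := Odd.of_dvd_nat hodd hdvdH
  have hdvdN : Nat.card (H ⊓ N : Subgroup (Cfsg.Sz F m)) ∣ 4 * Nat.card U := by
    rw [← hN]
    exact Subgroup.card_dvd_of_le inf_le_right
  have hcop : Nat.Coprime (Nat.card (H ⊓ N : Subgroup (Cfsg.Sz F m))) 4 := by
    have : Nat.Coprime (Nat.card (H ⊓ N : Subgroup (Cfsg.Sz F m))) (2 ^ 2) :=
      Nat.Coprime.pow_right 2 (Nat.coprime_two_right.2 hoddK)
    exact this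
  have hdvdU := hcop.dvd_of_dvd_mul_left hdvdN
  have hle := Nat.le_of_dvd (by omega) hdvdU
  have : Nat.card N ≤ Nat.card U * 2 := by
    rw [← h3]
    exact Nat.mul_le_mul hle hrel
  omega

include S in
/-- the members of the partition in a point stabilizer of odd order are split tori -/
theorem exists_split_member (hm : 1 ≤ m) (hF : Fintype.card F = 2 ^ (2 * m + 1))
    {Ω : Type*} [Finite Ω] [MulAction (Cfsg.Sz F m) Ω]
    (hfix : ∀ g : Cfsg.Sz F m, g ≠ 1 → Nat.card (MulAction.fixedBy Ω g) ≤ 2) (α : Ω)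
    (hodd : Odd (Nat.card (MulAction.stabilizer (Cfsg.Sz F m) α)))
    {h : Cfsg.Sz F m} (hh : h ∈ MulAction.stabilizer (Cfsg.Sz F m) α) (h1 : h ≠ 1) :
    ∃ U : Subgroup (Cfsg.Sz F m), IsCyclic U ∧ Nat.card U = 2 ^ (2 * m + 1) - 1 ∧ h ∈ U ∧
      U ≤ MulAction.stabilizer (Cfsg.Sz F m) α := by
  have hfact2 : Fact (Nat.Prime 2) := ⟨Nat.prime_two⟩
  obtain ⟨U, ⟨hU, hhU⟩, -⟩ := S.partition hm hF h h1
  rcases hU with ⟨P, rfl⟩ | ⟨hUc, hUk⟩
  · exfalso
    obtain ⟨k, hk⟩ := P.isPGroup' ⟨h, hhU⟩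
    have hk' : h ^ 2 ^ k = 1 := congrArg Subtype.val hk
    have hd1 : orderOf h ∣ 2 ^ k := orderOf_dvd_of_pow_eq_one hk'
    have hd2 : orderOf h ∣ Nat.card (MulAction.stabilizer (Cfsg.Sz F m) α) :=
      Subgroup.orderOf_dvd_natCard _ hh
    have hcop : Nat.Coprime (2 ^ k) (Nat.card (MulAction.stabilizer (Cfsg.Sz F m) α)) :=
      Nat.Coprime.pow_left k (Nat.coprime_two_left.2 hodd)
    have := Nat.eq_one_of_dvd_coprimes hcop hd1 hd2
    exact h1 (orderOf_eq_one_iff.1 this)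
  · have hUH := member_le_stabilizer hfix α h1 (MulAction.mem_stabilizer_iff.1 hh) hUc hUk hhU
    rcases hUk with h0 | h0 | h0
    · exact ⟨U, hUc, h0, hhU, hUH⟩
    · exact absurd (S.no_twisted_member hm hF hfix α hodd hUc (Or.inl h0) hUH) id
    · rw [Set.mem_singleton_iff] at h0
      exact absurd (S.no_twisted_member hm hF hfix α hodd hUc (Or.inr h0) hUH) id

include S in
/-- a nontrivial point stabilizer of odd order in an action of fixity at most two is a split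
torus -/
theorem card_stabilizer_of_odd (hm : 1 ≤ m) (hF : Fintype.card F = 2 ^ (2 * m + 1))
    {Ω : Type*} [Finite Ω] [MulAction (Cfsg.Sz F m) Ω]
    (hfix : ∀ g : Cfsg.Sz F m, g ≠ 1 → Nat.card (MulAction.fixedBy Ω g) ≤ 2) (α : Ω)
    (hodd : Odd (Nat.card (MulAction.stabilizer (Cfsg.Sz F m) α)))
    (hne : MulAction.stabilizer (Cfsg.Sz F m) α ≠ ⊥) :
    Nat.card (MulAction.stabilizer (Cfsg.Sz F m) α) = 2 ^ (2 * m + 1) - 1 := by
  obtain ⟨H, hHdef⟩ : ∃ H, H = MulAction.stabilizer (Cfsg.Sz F m) α := ⟨_, rfl⟩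
  have hsplit := fun {h : Cfsg.Sz F m} (hh : h ∈ MulAction.stabilizer (Cfsg.Sz F m) α)
    (h1 : h ≠ 1) => S.exists_split_member hm hF hfix α hodd hh h1
  rw [← hHdef] at hodd hne hsplit ⊢
  have hq8 : 2 ^ 3 ≤ 2 ^ (2 * m + 1) := Nat.pow_le_pow_right (by norm_num) (by omega)
  obtain ⟨⟨h₀, hh₀⟩, hh₀1⟩ := (Subgroup.ne_bot_iff_exists_ne_one).1 hne
  have hh₀1' : h₀ ≠ 1 := fun h => hh₀1 (Subtype.ext h)
  obtain ⟨U₁, hU₁c, hU₁k, hh₀U, hU₁H⟩ := hsplit hh₀ hh₀1'
  -- facts about split members inside `H`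
  have hmemk : ∀ U : Subgroup (Cfsg.Sz F m), Nat.card U = 2 ^ (2 * m + 1) - 1 →
      Nat.card U ∈ ({2 ^ (2 * m + 1) - 1, 2 ^ (2 * m + 1) + 2 ^ (m + 1) + 1,
        2 ^ (2 * m + 1) - 2 ^ (m + 1) + 1} : Set ℕ) := fun U hU => Or.inl hU
  have hcard3 : ∀ U : Subgroup (Cfsg.Sz F m), U ≤ H → Nat.card U = 2 ^ (2 * m + 1) - 1 →
      3 ≤ Nat.card (U.subgroupOf H) := by
    intro U hUH hUk
    rw [Nat.card_congr (Subgroup.subgroupOfEquivOfLe hUH).toEquiv, hUk]
    omega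
  have hTI : ∀ U : Subgroup (Cfsg.Sz F m), IsCyclic U → Nat.card U = 2 ^ (2 * m + 1) - 1 →
      ∀ a ∈ U.subgroupOf H, a ≠ 1 → ∀ k : H, k⁻¹ * a * k ∈ U.subgroupOf H →
        k ∈ Subgroup.normalizer ((U.subgroupOf H : Subgroup H) : Set H) := by
    intro U hUc hUk a ha ha1 k hk
    rw [Subgroup.mem_subgroupOf] at ha hk
    have ha1' : (a : Cfsg.Sz F m) ≠ 1 := fun h => ha1 (Subtype.ext h)
    have hkN := S.member_TI hm hF hUc (hmemk U hUk) ha ha1' (k := (k : Cfsg.Sz F m)) hk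
    rw [Subgroup.mem_normalizer_iff] at hkN ⊢
    intro z
    rw [Subgroup.mem_subgroupOf, Subgroup.mem_subgroupOf]
    exact hkN z
  have hNorm : ∀ U : Subgroup (Cfsg.Sz F m), IsCyclic U → Nat.card U = 2 ^ (2 * m + 1) - 1 →
      U ≤ H → Subgroup.normalizer ((U.subgroupOf H : Subgroup H) : Set H) = U.subgroupOf H := by
    intro U hUc hUk hUH
    apply le_antisymm
    · intro x hx
      rw [Subgroup.mem_subgroupOf]
      apply S.mem_of_mem_normalizer_split hm hF hUc hUk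
      · rw [Subgroup.mem_normalizer_iff] at hx ⊢
        intro z
        constructor
        · intro hz
          have := (hx ⟨z, hUH hz⟩).1 (by rw [Subgroup.mem_subgroupOf]; exact hz)
          rw [Subgroup.mem_subgroupOf] at this
          exact this
        · intro hz
          have hzH : z ∈ H := by
            have h1 : (x : Cfsg.Sz F m) * z * (x : Cfsg.Sz F m)⁻¹ ∈ H := hUH hz
            have h2 : z = (x : Cfsg.Sz F m)⁻¹ * ((x : Cfsg.Sz F m) * z * (x : Cfsg.Sz F m)⁻¹) *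
                (x : Cfsg.Sz F m) := by group
            rw [h2]
            exact H.mul_mem (H.mul_mem (H.inv_mem x.2) h1) x.2
          have := (hx ⟨z, hzH⟩).2 (by rw [Subgroup.mem_subgroupOf]; exact hz)
          rw [Subgroup.mem_subgroupOf] at this
          exact this
      · exact Odd.of_dvd_nat hodd (Subgroup.orderOf_dvd_natCard _ x.2)
    · exact Subgroup.le_normalizer
  -- the counting argument
  have htop := TICount.eq_top_of_selfnormalizing_cover (U₁.subgroupOf H)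
    (hcard3 U₁ hU₁H hU₁k) (hTI U₁ hU₁c hU₁k) (hNorm U₁ hU₁c hU₁k hU₁H) (by
      intro g hg1 hgn
      have hg1' : (g : Cfsg.Sz F m) ≠ 1 := fun h => hg1 (Subtype.ext h)
      obtain ⟨U₂, hU₂c, hU₂k, hgU₂, hU₂H⟩ := hsplit g.2 hg1'
      refine ⟨U₂.subgroupOf H, hcard3 U₂ hU₂H hU₂k, hTI U₂ hU₂c hU₂k, hNorm U₂ hU₂c hU₂k hU₂H, ?_⟩
      rintro x hx1 ⟨k, hk⟩ ⟨k', hk'⟩
      rw [Subgroup.mem_subgroupOf] at hk hk'
      apply hgn
      have hx1' : (x : Cfsg.Sz F m) ≠ 1 := fun h => hx1 (Subtype.ext h)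
      have e1 : (((k⁻¹ * x * k : H)) : Cfsg.Sz F m) =
          (k : Cfsg.Sz F m)⁻¹ * x * k := rfl
      have e2 : (((k'⁻¹ * x * k' : H)) : Cfsg.Sz F m) =
          (k' : Cfsg.Sz F m)⁻¹ * x * k' := rfl
      rw [e1] at hk
      rw [e2] at hk'
      have hk1 : (k : Cfsg.Sz F m)⁻¹ * x * k ≠ 1 := by
        intro h
        apply hx1'
        calc (x : Cfsg.Sz F m) = k * ((k : Cfsg.Sz F m)⁻¹ * x * k) * (k : Cfsg.Sz F m)⁻¹ := by
              group
          _ = 1 := by rw [h]; group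
      have hk'1 : (k' : Cfsg.Sz F m)⁻¹ * x * k' ≠ 1 := by
        intro h
        apply hx1'
        calc (x : Cfsg.Sz F m) = k' * ((k' : Cfsg.Sz F m)⁻¹ * x * k') * (k' : Cfsg.Sz F m)⁻¹ := by
              group
          _ = 1 := by rw [h]; group
      -- `g` commutes with `k'⁻¹ x k'`, hence a conjugate of `g` lies in `U₁`
      have hc := (S.member_eq_centralizer' hm hF hU₂c (hmemk U₂ hU₂k) hk' hk'1 g).1 hgU₂
      refine ⟨k'⁻¹ * k, ?_⟩
      rw [Subgroup.mem_subgroupOf]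
      show ((k' : Cfsg.Sz F m)⁻¹ * k)⁻¹ * g * ((k' : Cfsg.Sz F m)⁻¹ * k) ∈ U₁
      rw [S.member_eq_centralizer' hm hF hU₁c (hmemk U₁ hU₁k) hk hk1]
      calc ((k' : Cfsg.Sz F m)⁻¹ * k)⁻¹ * g * ((k' : Cfsg.Sz F m)⁻¹ * k) *
            ((k : Cfsg.Sz F m)⁻¹ * x * k)
          = (k : Cfsg.Sz F m)⁻¹ * k' * ((g : Cfsg.Sz F m) * ((k' : Cfsg.Sz F m)⁻¹ * x * k')) *
              (k' : Cfsg.Sz F m)⁻¹ * k := by group
        _ = (k : Cfsg.Sz F m)⁻¹ * k' * (((k' : Cfsg.Sz F m)⁻¹ * x * k') * g) *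
              (k' : Cfsg.Sz F m)⁻¹ * k := by rw [hc]
        _ = _ := by group)
  have hle : H ≤ U₁ := Subgroup.subgroupOf_eq_top.1 htop
  rw [le_antisymm hle hU₁H, hU₁k]

end group

end SzData

end Cfsg.Agent.Helper2.Sz
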