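import Mathlib
import Cfsg.Agent.Lib.Helper2.SzFixity2

set_option autoImplicit false
set_option linter.unusedSectionVars false
set_option linter.unusedSimpArgs false
set_option linter.unusedVariables false

namespace Cfsg.Agent.Helper2.Sz

open Matrix Cfsg.Agent.S0335

variable {F : Type*} [Field F] {m : ℕ} (S : SzData F m)

namespace SzData

/-- field automorphisms commute with the Tits endomorphism -/
theorem map_s (φ : F ≃+* F) (x : F) : φ (S.s x) = S.s (φ x) := by
  rw [S.hpow, S.hpow, map_pow]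

/-- the entrywise action of a field automorphism on the special linear group -/
def slMap (φ : F ≃+* F) : SpecialLinearGroup (Fin 4) F →* SpecialLinearGroup (Fin 4) F :=
  SpecialLinearGroup.map (φ : F →+* F)

theorem slMap_apply (φ : F ≃+* F) (g : SpecialLinearGroup (Fin 4) F) (i j : Fin 4) :
    (slMap φ g : Matrix (Fin 4) (Fin 4) F) i j = φ ((g : Matrix (Fin 4) (Fin 4) F) i j) := rfl

theorem slMap_Tg (φ : F ≃+* F) (a b : F) : slMap φ (S.Tg a b) = S.Tg (φ a) (φ b) := by
  apply Subtype.ext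
  ext i j
  rw [slMap_apply]
  fin_cases i <;> fin_cases j <;> simp [Tg, Tm, ff, S.map_s]

theorem slMap_Dg (φ : F ≃+* F) (u : Fˣ) :
    slMap φ (S.Dg u) = S.Dg (Units.map (φ : F →* F) u) := by
  apply Subtype.ext
  ext i j
  rw [slMap_apply]
  fin_cases i <;> fin_cases j <;> simp [Dg, Dm, S.map_s]

theorem slMap_Wg (φ : F ≃+* F) : slMap φ (Wg F) = Wg F := by
  apply Subtype.ext
  ext i j
  rw [slMap_apply]
  fin_cases i <;> fin_cases j <;> simp [Wg, Wm]

theorem slMap_slMap (φ ψ : F ≃+* F) (g : SpecialLinearGroup (Fin 4) F) :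
    slMap φ (slMap ψ g) = slMap (ψ.trans φ) g := by
  apply Subtype.ext
  ext i j
  rw [slMap_apply, slMap_apply, slMap_apply]
  rfl

theorem slMap_refl (g : SpecialLinearGroup (Fin 4) F) :
    slMap (RingEquiv.refl F) g = g := by
  apply Subtype.ext
  ext i j
  rw [slMap_apply]
  rfl

section fin
variable [Fintype F]

include S in
theorem slMap_mem (hm : 1 ≤ m) (hF : Fintype.card F = 2 ^ (2 * m + 1)) (φ : F ≃+* F)
    {g : SpecialLinearGroup (Fin 4) F} (hg : g ∈ Cfsg.Sz F m) : slMap φ g ∈ Cfsg.Sz F m := by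
  rcases S.exists_decomp hm hF hg with ⟨a, b, u, rfl⟩ | ⟨a, b, c, d, u, rfl⟩
  · rw [map_mul, S.slMap_Tg, S.slMap_Dg]
    exact (Cfsg.Sz F m).mul_mem (S.Tg_mem _ _) (S.Dg_mem _)
  · rw [map_mul, map_mul, map_mul, S.slMap_Tg, S.slMap_Tg, S.slMap_Dg, slMap_Wg]
    exact (Cfsg.Sz F m).mul_mem ((Cfsg.Sz F m).mul_mem (S.Tg_mem _ _) S.Wg_mem)
      ((Cfsg.Sz F m).mul_mem (S.Tg_mem _ _) (S.Dg_mem _))

/-- the endomorphism of the Suzuki group induced by a field automorphism -/
def fieldHom (hm : 1 ≤ m) (hF : Fintype.card F = 2 ^ (2 * m + 1)) (φ : F ≃+* F) :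
    Cfsg.Sz F m →* Cfsg.Sz F m :=
  ((slMap φ).comp (Cfsg.Sz F m).subtype).codRestrict (Cfsg.Sz F m)
    (fun g => S.slMap_mem hm hF φ g.2)

theorem fieldHom_coe (hm : 1 ≤ m) (hF : Fintype.card F = 2 ^ (2 * m + 1)) (φ : F ≃+* F)
    (g : Cfsg.Sz F m) :
    ((S.fieldHom hm hF φ g : Cfsg.Sz F m) : SpecialLinearGroup (Fin 4) F) =
      slMap φ (g : SpecialLinearGroup (Fin 4) F) := rfl

/-- the automorphism of the Suzuki group induced by a field automorphism -/
def fieldAut (hm : 1 ≤ m) (hF : Fintype.card F = 2 ^ (2 * m + 1)) :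
    (F ≃+* F) →* MulAut (Cfsg.Sz F m) where
  toFun φ :=
    { toFun := S.fieldHom hm hF φ
      invFun := S.fieldHom hm hF φ.symm
      left_inv := by
        intro g
        apply Subtype.ext
        rw [fieldHom_coe, fieldHom_coe, slMap_slMap, RingEquiv.self_trans_symm, slMap_refl]
      right_inv := by
        intro g
        apply Subtype.ext
        rw [fieldHom_coe, fieldHom_coe, slMap_slMap, RingEquiv.symm_trans_self, slMap_refl]
      map_mul' := map_mul _ }
  map_one' := by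
    apply MulEquiv.ext
    intro g
    apply Subtype.ext
    exact slMap_refl _
  map_mul' := by
    intro φ ψ
    apply MulEquiv.ext
    intro g
    apply Subtype.ext
    show slMap (φ * ψ) (g : SpecialLinearGroup (Fin 4) F) =
      slMap φ (slMap ψ (g : SpecialLinearGroup (Fin 4) F))
    rw [slMap_slMap]
    rfl

theorem fieldAut_coe (hm : 1 ≤ m) (hF : Fintype.card F = 2 ^ (2 * m + 1)) (φ : F ≃+* F)
    (g : Cfsg.Sz F m) :
    ((S.fieldAut hm hF φ g : Cfsg.Sz F m) : SpecialLinearGroup (Fin 4) F) =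
      slMap φ (g : SpecialLinearGroup (Fin 4) F) := rfl

theorem fieldAut_TgSz (hm : 1 ≤ m) (hF : Fintype.card F = 2 ^ (2 * m + 1)) (φ : F ≃+* F)
    (a b : F) : S.fieldAut hm hF φ (S.TgSz a b) = S.TgSz (φ a) (φ b) := by
  apply Subtype.ext
  rw [fieldAut_coe]
  exact S.slMap_Tg φ a b

theorem fieldAut_DgSz (hm : 1 ≤ m) (hF : Fintype.card F = 2 ^ (2 * m + 1)) (φ : F ≃+* F)
    (u : Fˣ) : S.fieldAut hm hF φ (S.DgSz u) = S.DgSz (Units.map (φ : F →* F) u) := by
  apply Subtype.ext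
  rw [fieldAut_coe]
  exact S.slMap_Dg φ u

end fin

end SzData

end Cfsg.Agent.Helper2.Sz
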