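import Mathlib
import Cfsg.Prelude.Def_ClassicalGeometry
import Cfsg.Agent.S0764

set_option autoImplicit false

namespace Cfsg.Agent.Helper2.Symp

open Matrix

variable {m : ℕ} {F : Type*} [Field F]

/-- the standard alternating form -/
abbrev Bf (u v : Fin m ⊕ Fin m → F) : F := Cfsg.sympForm m F u v

theorem Bf_def (u v : Fin m ⊕ Fin m → F) : Bf u v = u ⬝ᵥ (Matrix.J (Fin m) F *ᵥ v) := rfl

theorem Bf_add_left (u u' v : Fin m ⊕ Fin m → F) : Bf (u + u') v = Bf u v + Bf u' v := by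
  simp only [Bf_def, add_dotProduct]

theorem Bf_add_right (u v v' : Fin m ⊕ Fin m → F) : Bf u (v + v') = Bf u v + Bf u v' := by
  simp only [Bf_def, Matrix.mulVec_add, dotProduct_add]

theorem Bf_smul_left (a : F) (u v : Fin m ⊕ Fin m → F) : Bf (a • u) v = a * Bf u v := by
  simp only [Bf_def, smul_dotProduct, smul_eq_mul]

theorem Bf_smul_right (a : F) (u v : Fin m ⊕ Fin m → F) : Bf u (a • v) = a * Bf u v := by
  simp only [Bf_def, Matrix.mulVec_smul, dotProduct_smul, smul_eq_mul]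

theorem Bf_self (v : Fin m ⊕ Fin m → F) : Bf v v = 0 := Cfsg.Agent.S0764.dot_J_self m v

theorem Bf_zero_left (v : Fin m ⊕ Fin m → F) : Bf 0 v = 0 := by
  simp only [Bf_def, zero_dotProduct]

theorem Bf_zero_right (v : Fin m ⊕ Fin m → F) : Bf v 0 = 0 := by
  simp only [Bf_def, Matrix.mulVec_zero, dotProduct_zero]

theorem Bf_skew (u v : Fin m ⊕ Fin m → F) : Bf u v = - Bf v u := by
  have h := Bf_self (u + v)
  rw [Bf_add_left, Bf_add_right, Bf_add_right, Bf_self, Bf_self] at h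
  linear_combination h

theorem Bf_neg_left (u v : Fin m ⊕ Fin m → F) : Bf (-u) v = - Bf u v := by
  have := Bf_smul_left (-1 : F) u v
  simpa using this

theorem Bf_neg_right (u v : Fin m ⊕ Fin m → F) : Bf u (-v) = - Bf u v := by
  have := Bf_smul_right (-1 : F) u v
  simpa using this

theorem Bf_sub_left (u u' v : Fin m ⊕ Fin m → F) : Bf (u - u') v = Bf u v - Bf u' v := by
  rw [sub_eq_add_neg, Bf_add_left, Bf_neg_left, sub_eq_add_neg]

theorem Bf_sub_right (u v v' : Fin m ⊕ Fin m → F) : Bf u (v - v') = Bf u v - Bf u v' := by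
  rw [sub_eq_add_neg, Bf_add_right, Bf_neg_right, sub_eq_add_neg]

/-- the standard basis vectors -/
def eV (i : Fin m) : Fin m ⊕ Fin m → F := Pi.single (Sum.inl i) 1

def fV (i : Fin m) : Fin m ⊕ Fin m → F := Pi.single (Sum.inr i) 1

theorem Bf_eV_right (u : Fin m ⊕ Fin m → F) (i : Fin m) : Bf u (eV i) = u (Sum.inr i) := by
  simp only [Bf_def, eV, Matrix.mulVec_single_one, dotProduct, Fintype.sum_sum_type]
  simp [Matrix.J, Matrix.fromBlocks_apply₁₁, Matrix.fromBlocks_apply₂₁, Matrix.one_apply]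

theorem Bf_fV_right (u : Fin m ⊕ Fin m → F) (i : Fin m) : Bf u (fV i) = - u (Sum.inl i) := by
  simp only [Bf_def, fV, Matrix.mulVec_single_one, dotProduct, Fintype.sum_sum_type]
  simp [Matrix.J, Matrix.fromBlocks_apply₁₂, Matrix.fromBlocks_apply₂₂, Matrix.one_apply]

theorem Bf_eV_left (u : Fin m ⊕ Fin m → F) (i : Fin m) : Bf (eV i) u = - u (Sum.inr i) := by
  rw [Bf_skew, Bf_eV_right]

theorem Bf_fV_left (u : Fin m ⊕ Fin m → F) (i : Fin m) : Bf (fV i) u = u (Sum.inl i) := by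
  rw [Bf_skew, Bf_fV_right, neg_neg]

theorem Bf_fV_eV (i : Fin m) : Bf (fV i : Fin m ⊕ Fin m → F) (eV i) = 1 := by
  rw [Bf_eV_right]; simp [fV]

theorem eV_ne_zero (i : Fin m) : (eV i : Fin m ⊕ Fin m → F) ≠ 0 := by
  intro h
  have := congrFun h (Sum.inl i)
  simp [eV] at this

theorem fV_ne_zero (i : Fin m) : (fV i : Fin m ⊕ Fin m → F) ≠ 0 := by
  intro h
  have := congrFun h (Sum.inr i)
  simp [fV] at this

/-- nondegeneracy -/
theorem exists_Bf_ne_zero {u : Fin m ⊕ Fin m → F} (hu : u ≠ 0) : ∃ x, Bf u x ≠ 0 := by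
  by_contra hcon
  push Not at hcon
  apply hu
  funext j
  rcases j with i | i
  · have := hcon (fV i)
    rw [Bf_fV_right] at this
    simpa using this
  · have := hcon (eV i)
    rw [Bf_eV_right] at this
    simpa using this

/-- elements of the symplectic group preserve the form -/
theorem Bf_mulVec {A : Matrix (Fin m ⊕ Fin m) (Fin m ⊕ Fin m) F}
    (hA : A ∈ Matrix.symplecticGroup (Fin m) F) (u v : Fin m ⊕ Fin m → F) :
    Bf (A *ᵥ u) (A *ᵥ v) = Bf u v := by
  have h1 : Aᵀ * Matrix.J (Fin m) F * A = Matrix.J (Fin m) F := SymplecticGroup.mem_iff'.1 hA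
  simp only [Bf_def]
  rw [← Matrix.vecMul_transpose A u, ← Matrix.dotProduct_mulVec, Matrix.mulVec_mulVec,
    Matrix.mulVec_mulVec, h1]

/-! ### The action on vectors -/

/-- the action of the symplectic group on vectors -/
@[reducible] def spDistribMulAction (m : ℕ) (F : Type*) [Field F] :
    DistribMulAction (Matrix.symplecticGroup (Fin m) F) (Fin m ⊕ Fin m → F) where
  smul g v := (g : Matrix (Fin m ⊕ Fin m) (Fin m ⊕ Fin m) F) *ᵥ v
  one_smul v := Matrix.one_mulVec v
  mul_smul g h v := (Matrix.mulVec_mulVec v (g : Matrix (Fin m ⊕ Fin m) (Fin m ⊕ Fin m) F)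
    (h : Matrix (Fin m ⊕ Fin m) (Fin m ⊕ Fin m) F)).symm
  smul_zero _ := Matrix.mulVec_zero _
  smul_add _ u v := Matrix.mulVec_add _ u v

scoped[Cfsg.Agent.Helper2.Symp] attribute [instance] Cfsg.Agent.Helper2.Symp.spDistribMulAction

theorem smul_def (g : Matrix.symplecticGroup (Fin m) F) (v : Fin m ⊕ Fin m → F) :
    g • v = (g : Matrix (Fin m ⊕ Fin m) (Fin m ⊕ Fin m) F) *ᵥ v := rfl

theorem spSMulCommClass (m : ℕ) (F : Type*) [Field F] :
    SMulCommClass (Matrix.symplecticGroup (Fin m) F) F (Fin m ⊕ Fin m → F) :=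
  ⟨fun g a v => by rw [smul_def g, smul_def g, Matrix.mulVec_smul]⟩

scoped[Cfsg.Agent.Helper2.Symp] attribute [instance] Cfsg.Agent.Helper2.Symp.spSMulCommClass

theorem Bf_smul_smul (g : Matrix.symplecticGroup (Fin m) F) (u v : Fin m ⊕ Fin m → F) :
    Bf (g • u) (g • v) = Bf u v := Bf_mulVec g.2 u v

theorem Bf_smul_inv (g : Matrix.symplecticGroup (Fin m) F) (u v : Fin m ⊕ Fin m → F) :
    Bf (g⁻¹ • u) v = Bf u (g • v) := by
  rw [← Bf_smul_smul g (g⁻¹ • u) v, smul_inv_smul]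

theorem ext_smul {g h : Matrix.symplecticGroup (Fin m) F}
    (hgh : ∀ v : Fin m ⊕ Fin m → F, g • v = h • v) : g = h := by
  apply Subtype.ext
  apply Matrix.toLin'.injective
  apply LinearMap.ext
  intro v
  rw [Matrix.toLin'_apply, Matrix.toLin'_apply]
  exact hgh v

/-! ### Transvections -/

/-- the symplectic transvection as an element of the group -/
def tv (v : Fin m ⊕ Fin m → F) (c : F) : Matrix.symplecticGroup (Fin m) F :=
  ⟨Cfsg.sympTransvection m v c, Cfsg.Agent.S0764.result m v c⟩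

theorem tv_coe (v : Fin m ⊕ Fin m → F) (c : F) :
    ((tv v c : Matrix.symplecticGroup (Fin m) F) : Matrix (Fin m ⊕ Fin m) (Fin m ⊕ Fin m) F) =
      Cfsg.sympTransvection m v c := rfl

theorem tv_smul (v : Fin m ⊕ Fin m → F) (c : F) (x : Fin m ⊕ Fin m → F) :
    tv v c • x = x + (c * Bf x v) • v := by
  rw [smul_def, tv_coe]
  unfold Cfsg.sympTransvection
  rw [Matrix.add_mulVec, Matrix.one_mulVec, Matrix.smul_mulVec, Matrix.vecMulVec_mulVec,
    dotProduct_comm, ← Bf_def, op_smul_eq_smul, smul_smul]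

theorem tv_zero_right (v : Fin m ⊕ Fin m → F) : tv v 0 = 1 := by
  apply ext_smul
  intro x
  rw [tv_smul, zero_mul, zero_smul, add_zero, one_smul]

theorem tv_zero_left (c : F) : tv (0 : Fin m ⊕ Fin m → F) c = 1 := by
  apply ext_smul
  intro x
  rw [tv_smul, smul_zero, add_zero, one_smul]

theorem tv_mul_tv (v : Fin m ⊕ Fin m → F) (c d : F) : tv v c * tv v d = tv v (c + d) := by
  apply ext_smul
  intro x
  rw [mul_smul, tv_smul, tv_smul, tv_smul, Bf_add_left, Bf_smul_left, Bf_self, mul_zero, add_zero,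
    add_assoc, ← add_smul]
  congr 2
  ring

theorem tv_inv (v : Fin m ⊕ Fin m → F) (c : F) : (tv v c)⁻¹ = tv v (-c) := by
  rw [inv_eq_iff_mul_eq_one, tv_mul_tv, add_neg_cancel, tv_zero_right]

theorem conj_tv (g : Matrix.symplecticGroup (Fin m) F) (v : Fin m ⊕ Fin m → F) (c : F) :
    g * tv v c * g⁻¹ = tv (g • v) c := by
  apply ext_smul
  intro x
  rw [mul_smul, mul_smul, tv_smul, tv_smul, smul_add, smul_inv_smul, Bf_smul_inv,
    smul_comm g]

theorem tv_smul_vec (a : F) (v : Fin m ⊕ Fin m → F) (c : F) : tv (a • v) c = tv v (a * a * c) := by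
  apply ext_smul
  intro x
  rw [tv_smul, tv_smul, Bf_smul_right, smul_smul]
  congr 2
  ring

/-- product of two transvections along orthogonal vectors -/
theorem tv_mul_tv_orth (u w : Fin m ⊕ Fin m → F) (c d : F) (h : Bf u w = 0)
    (x : Fin m ⊕ Fin m → F) :
    (tv u c * tv w d) • x = x + (c * Bf x u) • u + (d * Bf x w) • w := by
  rw [mul_smul, tv_smul, tv_smul, Bf_add_left, Bf_smul_left, Bf_skew w u, h, neg_zero, mul_zero,
    add_zero]
  abel

theorem tv_comm_of_orth (u w : Fin m ⊕ Fin m → F) (c d : F) (h : Bf u w = 0) :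
    tv u c * tv w d = tv w d * tv u c := by
  apply ext_smul
  intro x
  have h' : Bf w u = 0 := by rw [Bf_skew, h, neg_zero]
  rw [tv_mul_tv_orth u w c d h, tv_mul_tv_orth w u d c h']
  abel


end Cfsg.Agent.Helper2.Symp
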