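import Mathlib
import Cfsg.Agent.Lib.Helper17.TSLDefs

/-! # S3366 piece ZCENT (helper2): `Z(R)` is central in `X`. -/

set_option autoImplicit false

namespace Cfsg.Agent.Helper17.TSL

variable {X : Type*} [Group X] [Finite X] (S : Setup X)

theorem zcent_conj_mem (g w : X) (hw : w ∈ S.Z) : g * w * g⁻¹ ∈ S.Z := by
  have hn := S.normal
  rw [S.mem_Z] at hw ⊢
  refine ⟨hn.conj_mem w hw.1 g, fun r hr => ?_⟩
  have h1 : g⁻¹ * r * g ∈ S.R := by
    have := hn.conj_mem r hr g⁻¹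
    simpa using this
  have h2 := hw.2 _ h1
  calc r * (g * w * g⁻¹) = g * ((g⁻¹ * r * g) * w) * g⁻¹ := by group
    _ = g * (w * (g⁻¹ * r * g)) * g⁻¹ := by rw [h2]
    _ = g * w * g⁻¹ * r := by group

theorem zcent_tri (w v : X) (hw : w ∈ S.Z) (hv : v ∈ S.Z) (hw1 : w ≠ 1) :
    v = 1 ∨ v = w ∨ v = w⁻¹ := by
  have : Fact (Nat.Prime 3) := ⟨by norm_num⟩
  have hcard : Nat.card S.Z = 3 := S.card_Z
  have hne : (⟨w, hw⟩ : S.Z) ≠ 1 := by
    intro h
    exact hw1 (congrArg Subtype.val h)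
  have hgen := zpowers_eq_top_of_prime_card (G := S.Z) (p := 3) hcard hne
  have hmem : (⟨v, hv⟩ : S.Z) ∈ Subgroup.zpowers (⟨w, hw⟩ : S.Z) := by
    rw [hgen]; trivial
  obtain ⟨k, hk⟩ := Subgroup.mem_zpowers_iff.mp hmem
  have hk' : w ^ k = v := by
    have := congrArg Subtype.val hk
    simpa using this
  have hw3 : w ^ 3 = 1 := S.exp_R w ((S.mem_Z w).mp hw).1
  have hred : w ^ k = w ^ (k % 3) := zpow_eq_zpow_emod' k hw3
  have h0 : 0 ≤ k % 3 := Int.emod_nonneg k (by norm_num)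
  have h3 : k % 3 < 3 := Int.emod_lt_of_pos k (by norm_num)
  rw [hred] at hk'
  have hcases : k % 3 = 0 ∨ k % 3 = 1 ∨ k % 3 = 2 := by omega
  rcases hcases with h | h | h
  · left; rw [← hk', h]; simp
  · right; left; rw [← hk', h]; simp
  · right; right
    rw [← hk', h]
    have : w ^ (2 : ℤ) * w = 1 := by
      have : w ^ (2 : ℤ) * w = w ^ 3 := by
        rw [show (2 : ℤ) = ((2 : ℕ) : ℤ) by norm_num, zpow_natCast]
        exact (pow_succ w 2).symm
      rw [this, hw3]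
    exact eq_inv_of_mul_eq_one_left this

theorem zcent_of_cube (g w : X) (hw : w ∈ S.Z) (hg : S.π g ^ 3 = 1) : g * w = w * g := by
  by_cases hw1 : w = 1
  · subst hw1; simp
  have hg3 : g ^ 3 ∈ S.R := by
    rw [← S.ker, MonoidHom.mem_ker, map_pow, hg]
  have hcomm : g ^ 3 * w = w * g ^ 3 := ((S.mem_Z w).mp hw).2 _ hg3
  have hw3 : w ^ 3 = 1 := S.exp_R w ((S.mem_Z w).mp hw).1
  rcases zcent_tri S w (g * w * g⁻¹) hw (zcent_conj_mem S g w hw) hw1 with h | h | h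
  · exfalso; apply hw1
    have : w = g⁻¹ * (g * w * g⁻¹) * g := by group
    rw [this, h]; group
  · calc g * w = (g * w * g⁻¹) * g := by group
      _ = w * g := by rw [h]
  · exfalso
    have e1 : g * w⁻¹ * g⁻¹ = w := by
      have : g * w⁻¹ * g⁻¹ = (g * w * g⁻¹)⁻¹ := by group
      rw [this, h, inv_inv]
    have h2 : g ^ 3 * w * (g ^ 3)⁻¹ = w⁻¹ := by
      calc g ^ 3 * w * (g ^ 3)⁻¹ = g * (g * (g * w * g⁻¹) * g⁻¹) * g⁻¹ := by
            rw [pow_succ, pow_two]; group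
        _ = g * (g * w⁻¹ * g⁻¹) * g⁻¹ := by rw [h]
        _ = g * w * g⁻¹ := by rw [e1]
        _ = w⁻¹ := h
    have h3 : g ^ 3 * w * (g ^ 3)⁻¹ = w := by rw [hcomm]; group
    have h4 : w = w⁻¹ := by rw [← h3]; rw [h3] at h2; rw [h3]; exact h2
    apply hw1
    have h5 : w * w = 1 := by
      nth_rewrite 2 [h4]; exact mul_inv_cancel w
    have : w ^ 3 = w := by
      rw [pow_succ, pow_two, h5, one_mul]
    rw [← this, hw3]

/-- piece ZCENT: `Z` is central in `X`. -/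
theorem Z_central (g w : X) (hw : w ∈ S.Z) : g * w = w * g := by
  obtain ⟨a, ha, b, hb, c, hc, habc⟩ := three_gen (S.π g)
  obtain ⟨ga, rfl⟩ := S.surj a
  obtain ⟨gb, rfl⟩ := S.surj b
  obtain ⟨gc, rfl⟩ := S.surj c
  have hr : (ga * gb * gc)⁻¹ * g ∈ S.R := by
    rw [← S.ker, MonoidHom.mem_ker, map_mul, map_inv, habc, map_mul, map_mul]
    group
  have h1 : Commute ga w := zcent_of_cube S ga w hw ha
  have h2 : Commute gb w := zcent_of_cube S gb w hw hb
  have h3 : Commute gc w := zcent_of_cube S gc w hw hc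
  have h4 : Commute ((ga * gb * gc)⁻¹ * g) w := ((S.mem_Z w).mp hw).2 _ hr
  have h5 : Commute (ga * gb * gc * ((ga * gb * gc)⁻¹ * g)) w :=
    ((h1.mul_left h2).mul_left h3).mul_left h4
  have h6 : ga * gb * gc * ((ga * gb * gc)⁻¹ * g) = g := by group
  rw [h6] at h5
  exact h5

end Cfsg.Agent.Helper17.TSL
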