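import Mathlib
import Cfsg.Agent.Lib.Helper17.TSLDefs
import Cfsg.Agent.Lib.Helper2.TSLZCENT

/-! # S3366 piece LIFT, core (helper2): unique `t`-inverted lift of each coset of `Z` in `R`;
DECOMP and CENT as hypotheses. -/

set_option autoImplicit false

namespace Cfsg.Agent.Helper17.TSL

variable {X : Type*} [Group X] [Finite X] (S : Setup X)

theorem lift_sq_cube (v : X) (h2 : v = v⁻¹) (h3 : v ^ 3 = 1) : v = 1 := by
  have h5 : v * v = 1 := by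
    nth_rewrite 2 [h2]; exact mul_inv_cancel v
  have : v ^ 3 = v := by
    rw [pow_succ, pow_two, h5, one_mul]
  rw [← this, h3]

theorem lift_unique_core (t : X)
    (hcent : ∀ r ∈ S.R, t * r = r * t → r ∈ S.Z)
    (r : X)
    (hdecomp : ∃ c ∈ S.R, ∃ i ∈ S.R, t * c = c * t ∧ t * i * t⁻¹ = i⁻¹ ∧ r = c * i) :
    ∃! i : X, (i ∈ S.R ∧ t * i * t⁻¹ = i⁻¹) ∧ i⁻¹ * r ∈ S.Z := by
  obtain ⟨c, hc, i, hi, htc, hti, hr⟩ := hdecomp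
  have hcZ : c ∈ S.Z := hcent c hc htc
  have hzi : i⁻¹ * r ∈ S.Z := by
    have hcomm : i⁻¹ * c = c * i⁻¹ := Z_central S i⁻¹ c hcZ
    have : i⁻¹ * r = c := by
      rw [hr, ← mul_assoc, hcomm, mul_assoc, inv_mul_cancel, mul_one]
    rw [this]; exact hcZ
  refine ⟨i, ⟨⟨hi, hti⟩, hzi⟩, ?_⟩
  rintro j ⟨⟨hj, htj⟩, hzj⟩
  -- v = i⁻¹ j in Z
  have hv : i⁻¹ * j ∈ S.Z := by
    have h1 : (i⁻¹ * r) * (j⁻¹ * r)⁻¹ ∈ S.Z := S.Z.mul_mem hzi (S.Z.inv_mem hzj)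
    have h2 : (i⁻¹ * r) * (j⁻¹ * r)⁻¹ = i⁻¹ * j := by group
    rwa [h2] at h1
  set v := i⁻¹ * j with hvdef
  have hjv : j = i * v := by rw [hvdef]; group
  have htv : t * v * t⁻¹ = v := by
    rw [Z_central S t v hv]; group
  have hvinv : v⁻¹ ∈ S.Z := S.Z.inv_mem hv
  have e1 : t * j * t⁻¹ = i⁻¹ * v := by
    calc t * j * t⁻¹ = (t * i * t⁻¹) * (t * v * t⁻¹) := by rw [hjv]; group
      _ = i⁻¹ * v := by rw [hti, htv]
  have e2 : j⁻¹ = i⁻¹ * v⁻¹ := by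
    rw [hjv, mul_inv_rev]
    exact (Z_central S i⁻¹ v⁻¹ hvinv).symm
  have e3 : i⁻¹ * v = i⁻¹ * v⁻¹ := by rw [← e1, htj, e2]
  have e4 : v = v⁻¹ := mul_left_cancel e3
  have hv3 : v ^ 3 = 1 := S.exp_R v ((S.mem_Z v).mp hv).1
  have hv1 : v = 1 := lift_sq_cube v e4 hv3
  rw [hjv, hv1, mul_one]

end Cfsg.Agent.Helper17.TSL
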