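import Mathlib
import Cfsg.Agent.Lib.Helper17.TSLDefs
import Cfsg.Agent.Lib.Helper2.TSLZCENT
import Cfsg.Agent.Lib.Helper2.TSLLIFTCore
import Cfsg.Agent.Lib.Helper24.TSLCENTCore

/-! # S3366 piece LIFT (helper2): unique `t`-inverted lift of each coset of `Z` in `R`.
Self-contained: private copies `lift_decomp`, `lift_frat` of the DECOMP / FRAT statements, and
helper24's `cent_t_core`. -/

set_option autoImplicit false

namespace Cfsg.Agent.Helper17.TSL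

variable {X : Type*} [Group X] [Finite X] (S : Setup X)

theorem lift_inv_cube (m : X) (hm3 : m ^ 3 = 1) : m⁻¹ * m⁻¹ = m := by
  have h : m * m * m = 1 := by rw [← hm3, pow_succ, pow_two]
  calc m⁻¹ * m⁻¹ = m⁻¹ * m⁻¹ * (m * m * m) := by rw [h, mul_one]
    _ = m := by group

theorem lift_decomp (t : X) (ht : t * t = 1) (r : X) (hr : r ∈ S.R) :
    ∃ c ∈ S.R, ∃ i ∈ S.R, t * c = c * t ∧ t * i * t⁻¹ = i⁻¹ ∧ r = c * i := by
  have hn := S.normal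
  have htinv : t⁻¹ = t := inv_eq_of_mul_eq_one_left ht
  obtain ⟨s, hs⟩ : ∃ s, s = t * r * t⁻¹ := ⟨_, rfl⟩
  have hsR : s ∈ S.R := by rw [hs]; exact hn.conj_mem r hr t
  obtain ⟨m, hm⟩ : ∃ m, m = s⁻¹ * r := ⟨_, rfl⟩
  have hmR : m ∈ S.R := by rw [hm]; exact S.R.mul_mem (S.R.inv_mem hsR) hr
  have hm3 : m ^ 3 = 1 := S.exp_R m hmR
  have hts : t * s * t⁻¹ = r := by
    rw [hs, htinv]
    calc t * (t * r * t) * t = (t * t) * r * (t * t) := by group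
      _ = r := by rw [ht]; group
  have htm : t * m * t⁻¹ = m⁻¹ := by
    calc t * m * t⁻¹ = (t * s * t⁻¹)⁻¹ * (t * r * t⁻¹) := by rw [hm]; group
      _ = r⁻¹ * s := by rw [hts, hs]
      _ = m⁻¹ := by rw [hm]; group
  have hsm : s = r * m⁻¹ := by rw [hm]; group
  refine ⟨r * m, S.R.mul_mem hr hmR, m⁻¹, S.R.inv_mem hmR, ?_, ?_, by group⟩
  · have h1 : t * (r * m) * t⁻¹ = r * m := by
      calc t * (r * m) * t⁻¹ = (t * r * t⁻¹) * (t * m * t⁻¹) := by group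
        _ = s * m⁻¹ := by rw [htm, hs]
        _ = r * (m⁻¹ * m⁻¹) := by rw [hsm, mul_assoc]
        _ = r * m := by rw [lift_inv_cube m hm3]
    calc t * (r * m) = (t * (r * m) * t⁻¹) * t := by group
      _ = r * m * t := by rw [h1]
  · calc t * m⁻¹ * t⁻¹ = (t * m * t⁻¹)⁻¹ := by group
      _ = (m⁻¹)⁻¹ := by rw [htm]

theorem lift_frat (t : X) (ht : t * t = 1) (hπ : S.π t = negOne) (g : X) :
    ∃ r ∈ S.R, (r⁻¹ * g) * t = t * (r⁻¹ * g) := by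
  have htinv : t⁻¹ = t := inv_eq_of_mul_eq_one_left ht
  obtain ⟨ρ, hρ⟩ : ∃ ρ, ρ = g * t * g⁻¹ * t := ⟨_, rfl⟩
  have hρR : ρ ∈ S.R := by
    rw [← S.ker, MonoidHom.mem_ker, hρ]
    simp only [map_mul, map_inv, hπ]
    rw [negOne_central (S.π g), mul_inv_cancel_right, negOne_sq]
  have hρ3 : ρ ^ 3 = 1 := S.exp_R ρ hρR
  have hτ : t * ρ = ρ⁻¹ * t := by
    have e1 : t * ρ = t * g * t * g⁻¹ * t := by rw [hρ]; group
    have e2 : ρ⁻¹ * t = t⁻¹ * g * t⁻¹ * g⁻¹ * t := by rw [hρ]; group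
    rw [e1, e2, htinv]
  have hgt : g * t = ρ * t * g := by
    have : ρ * t * g = g * t * g⁻¹ * (t * t) * g := by rw [hρ]; group
    rw [this, ht]; group
  refine ⟨ρ⁻¹, S.R.inv_mem hρR, ?_⟩
  rw [inv_inv]
  calc ρ * g * t = ρ * (g * t) := by group
    _ = ρ * (ρ * t * g) := by rw [hgt]
    _ = (ρ⁻¹ * ρ⁻¹)⁻¹ * t * g := by rw [mul_inv_rev, inv_inv]; group
    _ = ρ⁻¹ * t * g := by rw [lift_inv_cube ρ hρ3]
    _ = t * ρ * g := by rw [hτ]
    _ = t * (ρ * g) := by group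

/-- piece LIFT -/
theorem lift_unique (t : X) (ht : t * t = 1) (hπ : S.π t = negOne) (r : X) (hr : r ∈ S.R) :
    ∃! i : X, (i ∈ S.R ∧ t * i * t⁻¹ = i⁻¹) ∧ i⁻¹ * r ∈ S.Z :=
  lift_unique_core S t
    (fun r' hr' hc' => cent_t_core S (Z_central S) t ht hπ (lift_frat S t ht hπ)
      (fun r'' hr'' => lift_decomp S t ht r'' hr'') r' hr' hc')
    r (lift_decomp S t ht r hr)

end Cfsg.Agent.Helper17.TSL
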