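import Mathlib
import Cfsg.Agent.Lib.Helper10.MixDefs

/-!
# S4017 piece EIG (helper2): a common eigen-element for the Sylow 2-subgroup
-/

set_option autoImplicit false

namespace Cfsg.Agent.Helper10.Mix

variable {G : Type*} [Group G]

/-- conjugation -/
def eigCj (s x : G) : G := s * x * s⁻¹

theorem eigCj_mul (s x y : G) : eigCj s (x * y) = eigCj s x * eigCj s y := by
  unfold eigCj; group

theorem eigCj_inv (s x : G) : eigCj s x⁻¹ = (eigCj s x)⁻¹ := by
  unfold eigCj; group

theorem eigCj_comm {s r : G} (h : s * r = r * s) (x : G) :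
    eigCj r (eigCj s x) = eigCj s (eigCj r x) := by
  unfold eigCj
  have h' : s⁻¹ * r⁻¹ = r⁻¹ * s⁻¹ := by
    rw [← mul_inv_rev, ← mul_inv_rev, h]
  calc r * (s * x * s⁻¹) * r⁻¹ = (r * s) * x * (s⁻¹ * r⁻¹) := by group
    _ = (s * r) * x * (r⁻¹ * s⁻¹) := by rw [h, h']
    _ = s * (r * x * r⁻¹) * s⁻¹ := by group

theorem eigCj_self {s : G} (h : s * s = 1) (x : G) : eigCj s (eigCj s x) = x := by
  unfold eigCj
  have h' : s⁻¹ = s := inv_eq_of_mul_eq_one_right h
  calc s * (s * x * s⁻¹) * s⁻¹ = (s * s) * x * (s⁻¹ * s⁻¹) := by group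
    _ = x := by rw [h', h, one_mul, mul_one]

theorem eig_orderOf_cj (s x : G) : orderOf (eigCj s x) = orderOf x :=
  orderOf_injective (MulAut.conj s).toMonoidHom (MulAut.conj s).injective x

theorem eig_comm_of_exp2 {Q : Subgroup G} (hexp : ∀ s ∈ Q, s * s = 1) {s r : G} (hs : s ∈ Q)
    (hr : r ∈ Q) : s * r = r * s := by
  have h1 := inv_eq_of_mul_eq_one_right (hexp (s * r) (Q.mul_mem hs hr))
  have hs' : s⁻¹ = s := inv_eq_of_mul_eq_one_right (hexp s hs)
  have hr' : r⁻¹ = r := inv_eq_of_mul_eq_one_right (hexp r hr)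
  rw [mul_inv_rev, hs', hr'] at h1
  exact h1.symm

/-- the plus/minus step: both sign patterns are inherited -/
theorem eig_step_same {b c : G} (hbc : Commute b c) {r : G} (hb : eigCj r b = b)
    (hc : eigCj r c = c) : eigCj r (b * c) = b * c ∧ eigCj r (b * c⁻¹) = b * c⁻¹ := by
  refine ⟨?_, ?_⟩
  · rw [eigCj_mul, hb, hc]
  · rw [eigCj_mul, eigCj_inv, hb, hc]

theorem eig_step_inv {b c : G} (hbc : Commute b c) {r : G} (hb : eigCj r b = b⁻¹)
    (hc : eigCj r c = c⁻¹) :
    eigCj r (b * c) = (b * c)⁻¹ ∧ eigCj r (b * c⁻¹) = (b * c⁻¹)⁻¹ := by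
  refine ⟨?_, ?_⟩
  · rw [eigCj_mul, hb, hc, mul_inv_rev]
    exact (hbc.inv_inv).eq
  · rw [eigCj_mul, eigCj_inv, hb, hc, mul_inv_rev, inv_inv]
    exact (hbc.inv_left).symm.eq.symm

variable [Finite G] {p a : ℕ}

/-! ### PIECE EIG : eigen-element -/
theorem exists_eig (c : Cfg G p a) {Q : Sylow 2 G} (B : Base G p a Q) {t : G} (ht : t ∈ Q)
    (ht1 : t ≠ 1) {y : G} (hy : IsPElt p y) (hyt : Commute y t)
    (hyQ : y ∉ Subgroup.centralizer ((Q : Subgroup G) : Set G)) :
    ∃ b : G, b ≠ 1 ∧ IsPElt p b ∧ Commute b t ∧ Eig Q b := by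
  classical
  have hp := c.hp
  -- `p` is odd
  have hpodd : p ≠ 2 := by
    intro h2
    have hpa := c.hpa
    have ha := c.ha
    rw [h2] at hpa
    have h4 : 4 ∣ 2 ^ a := by
      obtain ⟨k, rfl⟩ := Nat.exists_eq_add_of_le ha
      rw [pow_add]
      exact Dvd.intro _ rfl
    omega
  have hQcomm : ∀ s ∈ Q, ∀ r ∈ Q, s * r = r * s := fun s hs r hr =>
    eig_comm_of_exp2 (Q := (Q : Subgroup G)) B.exp2 hs hr
  -- the set `A` of `p`-elements commuting with `t`
  let InA : G → Prop := fun x => IsPElt p x ∧ Commute x t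
  have hAmul : ∀ x z : G, InA x → InA z → InA (x * z) ∧ Commute x z := by
    intro x z hx hz
    obtain ⟨h1, h2⟩ := B.pc t ht ht1 x z hx.1 hz.1 hx.2 hz.2
    exact ⟨⟨h2, hx.2.mul_left hz.2⟩, h1⟩
  have hAinv : ∀ x : G, InA x → InA x⁻¹ := by
    intro x hx
    obtain ⟨k, hk⟩ := hx.1
    exact ⟨⟨k, by rw [orderOf_inv, hk]⟩, hx.2.inv_left⟩
  have hAcj : ∀ s ∈ Q, ∀ x : G, InA x → InA (eigCj s x) := by
    intro s hs x hx
    obtain ⟨k, hk⟩ := hx.1
    refine ⟨⟨k, by rw [eig_orderOf_cj, hk]⟩, ?_⟩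
    have hst : s * t = t * s := hQcomm s hs t ht
    have hst' : s⁻¹ * t = t * s⁻¹ := by
      have : Commute s t := hst
      exact this.inv_left.eq
    show s * x * s⁻¹ * t = t * (s * x * s⁻¹)
    calc s * x * s⁻¹ * t = s * x * (s⁻¹ * t) := by group
      _ = s * (x * t) * s⁻¹ := by rw [hst']; group
      _ = s * (t * x) * s⁻¹ := by rw [hx.2.eq]
      _ = (s * t) * x * s⁻¹ := by group
      _ = t * (s * x * s⁻¹) := by rw [hst]; group
  -- an element of odd prime power order with trivial square is trivial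
  have hsq : ∀ x : G, IsPElt p x → x * x = 1 → x = 1 := by
    intro x hx h2
    obtain ⟨k, hk⟩ := hx
    have h3 : orderOf x ∣ 2 := orderOf_dvd_of_pow_eq_one (by rw [pow_two, h2])
    rw [hk] at h3
    have h4 : p ^ k = 1 := by
      rcases (Nat.dvd_prime Nat.prime_two).1 h3 with h | h
      · exact h
      · exfalso
        have h5 : p ∣ 2 := by
          rcases k with _ | k
          · simp at h
          · rw [← h]
            exact dvd_pow_self p (Nat.succ_ne_zero k)
        exact hpodd ((Nat.prime_dvd_prime_iff_eq hp Nat.prime_two).1 h5)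
    rw [← orderOf_eq_one_iff, hk, h4]
  -- some element of `Q` does not commute with `y`
  obtain ⟨s₁, hs₁, hs₁y⟩ : ∃ s₁ ∈ Q, eigCj s₁ y ≠ y := by
    by_contra hcon
    push Not at hcon
    apply hyQ
    rw [Subgroup.mem_centralizer_iff]
    intro s hs
    have h1 := hcon s hs
    unfold eigCj at h1
    exact (mul_inv_eq_iff_eq_mul.1 h1)
  have hyA : InA y := ⟨hy, hyt⟩
  -- the main induction over finite subsets of `Q`
  have key : ∀ L : Finset G, (∀ r ∈ L, r ∈ Q) →
      ∃ b, InA b ∧ b ≠ 1 ∧ eigCj s₁ b = b⁻¹ ∧ ∀ r ∈ L, eigCj r b = b ∨ eigCj r b = b⁻¹ := by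
    intro L
    induction L using Finset.induction_on with
    | empty =>
      intro _
      have hcA := hAcj s₁ hs₁ y hyA
      refine ⟨y * (eigCj s₁ y)⁻¹, (hAmul _ _ hyA (hAinv _ hcA)).1, ?_, ?_, ?_⟩
      · intro h
        apply hs₁y
        rw [mul_inv_eq_one] at h
        exact h.symm
      · rw [eigCj_mul, eigCj_inv, eigCj_self (B.exp2 s₁ hs₁), mul_inv_rev, inv_inv]
      · intro r hr
        simp at hr
    | insert s L hsL ih =>
      intro hL
      have hsQ : s ∈ Q := hL s (Finset.mem_insert_self s L)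
      obtain ⟨b, hbA, hb1, hbs₁, hbL⟩ := ih (fun r hr => hL r (Finset.mem_insert_of_mem hr))
      set d := eigCj s b with hd
      have hdA : InA d := hAcj s hsQ b hbA
      have hbd : Commute b d := (hAmul b d hbA hdA).2
      have hsd : eigCj s d = b := eigCj_self (B.exp2 s hsQ) b
      -- transport of the signs
      have hsame : ∀ r ∈ Q, eigCj r b = b → eigCj r d = d := by
        intro r hr h
        rw [hd, eigCj_comm (hQcomm s hsQ r hr), h]
      have hinv : ∀ r ∈ Q, eigCj r b = b⁻¹ → eigCj r d = d⁻¹ := by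
        intro r hr h
        rw [hd, eigCj_comm (hQcomm s hsQ r hr), h, eigCj_inv]
      have hplusA : InA (b * d) := (hAmul b d hbA hdA).1
      have hminusA : InA (b * d⁻¹) := (hAmul b d⁻¹ hbA (hAinv d hdA)).1
      by_cases hplus : b * d = 1
      · -- use `b * d⁻¹`
        refine ⟨b * d⁻¹, hminusA, ?_, ?_, ?_⟩
        · intro hminus
          apply hb1
          apply hsq b hbA.1
          have : b * b = (b * d) * (b * d⁻¹) := by
            calc b * b = b * (b * (d * d⁻¹)) := by group
              _ = b * ((b * d) * d⁻¹) := by group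
              _ = b * ((d * b) * d⁻¹) := by rw [hbd.eq]
              _ = (b * d) * (b * d⁻¹) := by group
          rw [this, hplus, hminus, one_mul]
        · exact (eig_step_inv hbd hbs₁ (hinv s₁ hs₁ hbs₁)).2
        · intro r hr
          rcases Finset.mem_insert.1 hr with rfl | hrL
          · right
            rw [eigCj_mul, eigCj_inv, hsd, ← hd, mul_inv_rev, inv_inv]
          · have hrQ : r ∈ Q := hL r (Finset.mem_insert_of_mem hrL)
            rcases hbL r hrL with h | h
            · left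
              exact (eig_step_same hbd h (hsame r hrQ h)).2
            · right
              exact (eig_step_inv hbd h (hinv r hrQ h)).2
      · refine ⟨b * d, hplusA, hplus, ?_, ?_⟩
        · exact (eig_step_inv hbd hbs₁ (hinv s₁ hs₁ hbs₁)).1
        · intro r hr
          rcases Finset.mem_insert.1 hr with rfl | hrL
          · left
            rw [eigCj_mul, hsd, ← hd]
            exact hbd.eq.symm
          · have hrQ : r ∈ Q := hL r (Finset.mem_insert_of_mem hrL)
            rcases hbL r hrL with h | h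
            · left
              exact (eig_step_same hbd h (hsame r hrQ h)).1
            · right
              exact (eig_step_inv hbd h (hinv r hrQ h)).1
  have hfin : ((Q : Subgroup G) : Set G).Finite := Set.toFinite _
  obtain ⟨b, hbA, hb1, hbs₁, hbL⟩ := key hfin.toFinset (fun r hr => by
    rw [Set.Finite.mem_toFinset] at hr
    exact hr)
  refine ⟨b, hb1, hbA.1, hbA.2, ?_, ⟨s₁, hs₁, hbs₁⟩⟩
  intro s hs
  have hs' : s ∈ hfin.toFinset := by
    rw [Set.Finite.mem_toFinset]
    exact hs
  rcases hbL s hs' with h | h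
  · left
    unfold eigCj at h
    exact mul_inv_eq_iff_eq_mul.1 h
  · right
    exact h

end Cfsg.Agent.Helper10.Mix
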