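import Mathlib
import Cfsg.Agent.Lib.Helper10.MixDefs

/-!
# S4017 piece USYL (helper2): the unique Sylow `p`-subgroup containing an eigen-element
-/

set_option autoImplicit false
set_option linter.style.haveILetI false
set_option linter.unusedSectionVars false

namespace Cfsg.Agent.Helper10.Mix

variable {G : Type*} [Group G] [Finite G] {p a : ℕ}

theorem usyl_p_ne_two (c : Cfg G p a) : p ≠ 2 := by
  intro h2
  have hpa := c.hpa
  have ha := c.ha
  rw [h2] at hpa
  have h4 : 4 ∣ 2 ^ a := by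
    obtain ⟨k, rfl⟩ := Nat.exists_eq_add_of_le ha
    rw [pow_add]
    exact Dvd.intro _ rfl
  omega

theorem usyl_two_dvd_card (c : Cfg G p a) : 2 ∣ Nat.card G := by
  apply Nat.dvd_of_factorization_pos
  rw [c.card2]
  have := c.ha
  omega

theorem usyl_card_sylow2 (c : Cfg G p a) (Q : Sylow 2 G) : Nat.card Q = 2 ^ a := by
  haveI : Fact (Nat.Prime 2) := ⟨Nat.prime_two⟩
  rw [Q.card_eq_multiplicity, c.card2]

theorem usyl_not_isPGroup (c : Cfg G p a) : ¬ IsPGroup p G := by
  intro h
  haveI : Fact p.Prime := ⟨c.hp⟩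
  obtain ⟨k, hk⟩ := IsPGroup.iff_card.1 h
  have h2 := usyl_two_dvd_card c
  rw [hk] at h2
  have h3 := Nat.Prime.dvd_of_dvd_pow Nat.prime_two h2
  exact usyl_p_ne_two c ((Nat.prime_dvd_prime_iff_eq Nat.prime_two c.hp).1 h3).symm

theorem usyl_normalizer_ne_top (c : Cfg G p a) {H : Subgroup G} (hH1 : H ≠ ⊥)
    (hHp : IsPGroup p H) : Subgroup.normalizer (H : Set G) ≠ ⊤ := by
  intro htop
  have hn : H.Normal := Subgroup.normalizer_eq_top_iff.1 htop
  haveI := c.simple
  rcases hn.eq_bot_or_eq_top with h | h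
  · exact hH1 h
  · apply usyl_not_isPGroup c
    subst h
    intro g
    obtain ⟨k, hk⟩ := hHp ⟨g, Subgroup.mem_top g⟩
    refine ⟨k, ?_⟩
    have := congrArg Subtype.val hk
    simpa using this

/-- a proper subgroup containing a Sylow `p`- and a Sylow 2-subgroup has order `|P| |Q|` -/
theorem usyl_card_eq (c : Cfg G p a) {H : Subgroup G} (hH : H ≠ ⊤) (P : Sylow p G)
    (Q : Sylow 2 G) (hP : (P : Subgroup G) ≤ H) (hQ : (Q : Subgroup G) ≤ H) :
    Nat.card H = Nat.card P * Nat.card Q := by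
  haveI : Fact p.Prime := ⟨c.hp⟩
  haveI : Fact (Nat.Prime 2) := ⟨Nat.prime_two⟩
  have hpodd := usyl_p_ne_two c
  have hcQ := usyl_card_sylow2 c Q
  have hcP : Nat.card P = p ^ (Nat.card G).factorization p := P.card_eq_multiplicity
  have hG0 : Nat.card G ≠ 0 := Nat.card_pos.ne'
  have h2H : 2 ∣ Nat.card H := by
    have h1 : Nat.card Q ∣ Nat.card H := Subgroup.card_dvd_of_le hQ
    rw [hcQ] at h1
    have ha := c.ha
    exact (dvd_pow_self 2 (by omega)).trans h1
  have hcop : (Nat.card P).Coprime (Nat.card Q) := by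
    rw [hcP, hcQ]
    apply Nat.Coprime.pow
    exact (Nat.coprime_primes c.hp Nat.prime_two).2 hpodd
  have hdvd : Nat.card P * Nat.card Q ∣ Nat.card H :=
    Nat.Coprime.mul_dvd_of_dvd_of_dvd hcop (Subgroup.card_dvd_of_le hP) (Subgroup.card_dvd_of_le hQ)
  obtain ⟨k, hk⟩ := hdvd
  have hHG : Nat.card H ∣ Nat.card G := Subgroup.card_subgroup_dvd_card H
  have hk1 : k = 1 := by
    rw [Nat.eq_one_iff_not_exists_prime_dvd]
    intro r hr hrk
    have hrH : r ∣ Nat.card H := by
      rw [hk]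
      exact hrk.mul_left _
    rcases c.even H hH h2H r hr hrH with rfl | rfl
    · -- `2 ^ (a+1)` would divide the order
      apply Nat.pow_succ_factorization_not_dvd hG0 Nat.prime_two
      rw [c.card2]
      refine dvd_trans ?_ hHG
      rw [hk, pow_succ, ← hcQ]
      obtain ⟨k', rfl⟩ := hrk
      exact ⟨Nat.card P * k', by ring⟩
    · apply Nat.pow_succ_factorization_not_dvd hG0 c.hp
      refine dvd_trans ?_ hHG
      rw [hk, pow_succ, ← hcP]
      obtain ⟨k', rfl⟩ := hrk
      exact ⟨Nat.card Q * k', by ring⟩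
  rw [hk, hk1, mul_one]

theorem usyl_card_subgroupOf {H K : Subgroup G} (h : H ≤ K) :
    Nat.card (H.subgroupOf K) = Nat.card H :=
  Nat.card_congr (Subgroup.subgroupOfEquivOfLe h).toEquiv

/-! ### PIECE USYL : unique Sylow containing an eigen-element -/
theorem eig_sylow (c : Cfg G p a) {Q : Sylow 2 G} (hexp : ∀ s ∈ Q, s * s = 1) {b : G}
    (hb1 : b ≠ 1) (hb : IsPElt p b) (hE : Eig Q b) :
    ∃ P : Sylow p G, b ∈ P ∧ (∀ P' : Sylow p G, b ∈ P' → P' = P) ∧
      (Q : Subgroup G) ≤ Subgroup.normalizer ((P : Subgroup G) : Set G) ∧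
      (∀ g ∈ Subgroup.normalizer ((P : Subgroup G) : Set G), IsPElt p g → g ∈ P) ∧
      (∀ g ∈ Subgroup.normalizer ((P : Subgroup G) : Set G), ∃ y ∈ P, ∃ s ∈ Q, g = y * s) := by
  classical
  haveI : Fact p.Prime := ⟨c.hp⟩
  haveI : Fact (Nat.Prime 2) := ⟨Nat.prime_two⟩
  have hpodd := usyl_p_ne_two c
  have hp := c.hp
  obtain ⟨kb, hkb⟩ := hb
  have hZp : IsPGroup p (Subgroup.zpowers b) :=
    IsPGroup.of_card (n := kb) (by rw [Nat.card_zpowers, hkb])
  have hZ1 : Subgroup.zpowers b ≠ ⊥ := by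
    rw [Ne, Subgroup.zpowers_eq_bot]
    exact hb1
  obtain ⟨P, hZP⟩ := hZp.exists_le_sylow
  have hbP : b ∈ P := hZP (Subgroup.mem_zpowers b)
  have hP1 : (P : Subgroup G) ≠ ⊥ := by
    intro h
    have : b ∈ (P : Subgroup G) := hbP
    rw [h, Subgroup.mem_bot] at this
    exact hb1 this
  -- `b` is not an involution
  have hbb : b * b ≠ 1 := by
    intro h2
    apply hb1
    have h3 : orderOf b ∣ 2 := orderOf_dvd_of_pow_eq_one (by rw [pow_two, h2])
    rw [hkb] at h3
    have h4 : p ^ kb = 1 := by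
      rcases (Nat.dvd_prime Nat.prime_two).1 h3 with h | h
      · exact h
      · exfalso
        have h5 : p ∣ 2 := by
          rcases kb with _ | k
          · simp at h
          · rw [← h]
            exact dvd_pow_self p (Nat.succ_ne_zero k)
        exact hpodd ((Nat.prime_dvd_prime_iff_eq hp Nat.prime_two).1 h5)
    rw [← orderOf_eq_one_iff, hkb, h4]
  obtain ⟨hEall, s₀, hs₀Q, hs₀⟩ := hE
  have hsinv : ∀ s ∈ Q, s⁻¹ = s := fun s hs => inv_eq_of_mul_eq_one_right (hexp s hs)
  -- the normalizer of `⟨b⟩`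
  set M := Subgroup.normalizer ((Subgroup.zpowers b : Subgroup G) : Set G) with hM
  have hMtop : M ≠ ⊤ := usyl_normalizer_ne_top c hZ1 hZp
  have hconj_mem : ∀ s ∈ Q, ∀ x ∈ Subgroup.zpowers b, s * x * s⁻¹ ∈ Subgroup.zpowers b := by
    intro s hs x hx
    obtain ⟨k, rfl⟩ := hx
    have h1 : s * b ^ k * s⁻¹ = (s * b * s⁻¹) ^ k := by
      have := map_zpow (MulAut.conj s) b k
      simpa [MulAut.conj_apply] using this
    rw [h1]
    rcases hEall s hs with h | h
    · have h2 : s * b * s⁻¹ = b := by rw [h.eq, mul_inv_cancel_right]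
      rw [h2]
      exact Subgroup.zpow_mem _ (Subgroup.mem_zpowers b) k
    · rw [h]
      exact Subgroup.zpow_mem _ (Subgroup.inv_mem _ (Subgroup.mem_zpowers b)) k
  have hQM : (Q : Subgroup G) ≤ M := by
    intro s hs
    rw [hM, Subgroup.mem_normalizer_iff]
    intro x
    refine ⟨fun hx => hconj_mem s hs x hx, fun hx => ?_⟩
    have h1 := hconj_mem s hs _ hx
    have h2 : s * (s * x * s⁻¹) * s⁻¹ = x := by
      rw [hsinv s hs]
      calc s * (s * x * s) * s = (s * s) * x * (s * s) := by group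
        _ = x := by rw [hexp s hs, one_mul, mul_one]
    rwa [h2] at h1
  -- the centralizer of `b`
  set Cb := Subgroup.centralizer ({b} : Set G) with hCb
  have hmemCb : ∀ g, g ∈ Cb ↔ g * b = b * g := fun g => Subgroup.mem_centralizer_singleton_iff
  have hCbM : Cb ≤ M := by
    intro g hg
    rw [hmemCb] at hg
    rw [hM, Subgroup.mem_normalizer_iff]
    have hgc : ∀ x ∈ Subgroup.zpowers b, g * x * g⁻¹ = x := by
      intro x hx
      obtain ⟨k, rfl⟩ := hx
      have h1 : Commute g b := hg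
      have h2 : Commute g (b ^ k) := h1.zpow_right k
      rw [h2.eq, mul_inv_cancel_right]
    intro x
    refine ⟨fun hx => by rw [hgc x hx]; exact hx, fun hx => ?_⟩
    have h1 := hgc _ hx
    have h2 : x = g⁻¹ * (g * x * g⁻¹) * g := by group
    have h3 : g⁻¹ * (g * x * g⁻¹) * g = g * x * g⁻¹ := by
      conv_lhs => rw [← h1]
      group
    rw [h2, h3]
    exact hx
  have hPabel := c.abel P P.isPGroup'
  have hPCb : (P : Subgroup G) ≤ Cb := by
    intro x hx
    rw [hmemCb]
    exact hPabel x hx b hbP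
  have hPM : (P : Subgroup G) ≤ M := hPCb.trans hCbM
  have hcardM : Nat.card M = Nat.card P * Nat.card Q := usyl_card_eq c hMtop P Q hPM hQM
  have hcQ := usyl_card_sylow2 c Q
  have hs₀Cb : s₀ ∉ Cb := by
    intro h
    rw [hmemCb] at h
    apply hbb
    have h1 : s₀ * b * s₀⁻¹ = b := by rw [h, mul_inv_cancel_right]
    rw [h1] at hs₀
    calc b * b = b * b⁻¹ := by rw [← hs₀]
      _ = 1 := mul_inv_cancel b
  -- index computations
  have h1 : (P : Subgroup G).relIndex Cb * Cb.relIndex M = (P : Subgroup G).relIndex M :=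
    Subgroup.relIndex_mul_relIndex _ _ _ hPCb hCbM
  have h2 : (P : Subgroup G).relIndex M = 2 ^ a := by
    have h3 : Nat.card ((P : Subgroup G).subgroupOf M) * ((P : Subgroup G).subgroupOf M).index =
        Nat.card M := Subgroup.card_mul_index _
    rw [usyl_card_subgroupOf hPM, hcardM, hcQ] at h3
    have hP0 : 0 < Nat.card P := Nat.card_pos
    exact Nat.eq_of_mul_eq_mul_left hP0 h3
  have h3 : Cb.relIndex M ≠ 1 := by
    rw [Ne, Subgroup.relIndex_eq_one]
    intro h
    exact hs₀Cb (h (hQM hs₀Q))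
  have h4 : Nat.card (Sylow p Cb) ∣ (P : Subgroup G).relIndex Cb := by
    have := (P.subtype hPCb).card_dvd_index
    rwa [Sylow.coe_subtype] at this
  have h5 : Nat.card (Sylow p Cb) ≡ 1 [MOD p] := card_sylow_modEq_one p Cb
  have h6 : Nat.card (Sylow p Cb) = 1 := by
    set n := Nat.card (Sylow p Cb)
    set x := (P : Subgroup G).relIndex Cb
    set y := Cb.relIndex M
    rw [h2] at h1
    have hpa := c.hpa
    have ha := c.ha
    obtain ⟨a', rfl⟩ := Nat.exists_eq_add_of_le' (show 1 ≤ a by omega)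
    have hy : y ∣ 2 ^ (a' + 1) := Dvd.intro_left _ h1
    obtain ⟨j, -, hj⟩ := (Nat.dvd_prime_pow Nat.prime_two).1 hy
    have hj0 : j ≠ 0 := by
      rintro rfl
      exact h3 (by rw [hj, pow_zero])
    obtain ⟨j', rfl⟩ := Nat.exists_eq_succ_of_ne_zero hj0
    have hx : x * 2 ^ j' = 2 ^ a' := by
      have : x * (2 ^ j' * 2) = 2 ^ a' * 2 := by
        rw [← pow_succ, ← pow_succ, ← hj]
        exact h1
      have h7 : (x * 2 ^ j') * 2 = 2 ^ a' * 2 := by rw [mul_assoc]; exact this
      exact Nat.eq_of_mul_eq_mul_right (by norm_num) h7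
    have hn : n ∣ 2 ^ a' := h4.trans (Dvd.intro _ hx)
    have hn_le : n ≤ 2 ^ a' := Nat.le_of_dvd (by positivity) hn
    have h2a : 2 ≤ 2 ^ a' := by
      have : 1 ≤ a' := by omega
      calc 2 = 2 ^ 1 := by norm_num
        _ ≤ 2 ^ a' := Nat.pow_le_pow_right (by norm_num) this
    have hnp : n < p := by
      rw [pow_succ] at hpa
      omega
    have h8 : n % p = 1 % p := h5
    rw [Nat.mod_eq_of_lt hnp, Nat.mod_eq_of_lt hp.one_lt] at h8
    exact h8
  -- uniqueness
  have huniq : ∀ P' : Sylow p G, b ∈ P' → P' = P := by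
    intro P' hbP'
    have hP'abel := c.abel P' P'.isPGroup'
    have hP'Cb : (P' : Subgroup G) ≤ Cb := by
      intro x hx
      rw [hmemCb]
      exact hP'abel x hx b hbP'
    haveI : Subsingleton (Sylow p Cb) := (Nat.card_eq_one_iff_unique.1 h6).1
    have h7 : P'.subtype hP'Cb = P.subtype hPCb := Subsingleton.elim _ _
    have h8 : ((P'.subtype hP'Cb : Sylow p Cb) : Subgroup Cb) = (P.subtype hPCb : Sylow p Cb) := by
      rw [h7]
    rw [Sylow.coe_subtype, Sylow.coe_subtype, Subgroup.subgroupOf_inj,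
      inf_eq_left.2 hP'Cb, inf_eq_left.2 hPCb] at h8
    exact Sylow.ext h8
  -- `Q` normalizes `P`
  have hQN : (Q : Subgroup G) ≤ Subgroup.normalizer ((P : Subgroup G) : Set G) := by
    intro s hs
    refine Sylow.smul_eq_iff_mem_normalizer.1 (huniq _ ?_)
    show b ∈ ((s • P : Sylow p G) : Subgroup G)
    rw [Sylow.coe_subgroup_smul, Subgroup.mem_pointwise_smul_iff_inv_smul_mem]
    have h7 : (MulAut.conj s)⁻¹ • b = s⁻¹ * b * s := by
      rw [MulAut.smul_def, ← map_inv, MulAut.conj_apply, inv_inv]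
    rw [h7]
    rcases hEall s hs with h | h
    · have : s⁻¹ * b * s = b := by rw [mul_assoc, ← h.eq, inv_mul_cancel_left]
      rw [this]
      exact hbP
    · have : s⁻¹ * b * s = b⁻¹ := by
        have h8 := hsinv s hs
        rw [← h]
        conv_rhs => rw [h8]
        rw [h8]
      rw [this]
      exact (P : Subgroup G).inv_mem hbP
  have hNtop : Subgroup.normalizer ((P : Subgroup G) : Set G) ≠ ⊤ :=
    usyl_normalizer_ne_top c hP1 P.isPGroup'
  have hcardN : Nat.card (Subgroup.normalizer ((P : Subgroup G) : Set G)) =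
      Nat.card P * Nat.card Q := usyl_card_eq c hNtop P Q Subgroup.le_normalizer hQN
  refine ⟨P, hbP, huniq, hQN, ?_, ?_⟩
  · rintro g hgN ⟨k, hk⟩
    have hgp : IsPGroup p (Subgroup.zpowers g) :=
      IsPGroup.of_card (n := k) (by rw [Nat.card_zpowers, hk])
    have hle : Subgroup.zpowers g ≤ Subgroup.normalizer ((P : Subgroup G) : Set G) := by
      rw [Subgroup.zpowers_le]
      exact hgN
    have hsup := IsPGroup.to_sup_of_normal_right' hgp P.isPGroup' hle
    have h7 := P.is_maximal' hsup le_sup_right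
    have h8 : g ∈ Subgroup.zpowers g ⊔ (P : Subgroup G) :=
      (le_sup_left : Subgroup.zpowers g ≤ _) (Subgroup.mem_zpowers g)
    rw [h7] at h8
    exact h8
  · intro g hgN
    set N := Subgroup.normalizer ((P : Subgroup G) : Set G) with hN
    have hcop : (Nat.card ((P : Subgroup G).subgroupOf N)).Coprime
        (Nat.card ((Q : Subgroup G).subgroupOf N)) := by
      rw [usyl_card_subgroupOf Subgroup.le_normalizer, usyl_card_subgroupOf hQN, hcQ,
        P.card_eq_multiplicity]
      apply Nat.Coprime.pow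
      exact (Nat.coprime_primes c.hp Nat.prime_two).2 hpodd
    have hmul : Nat.card ((P : Subgroup G).subgroupOf N) *
        Nat.card ((Q : Subgroup G).subgroupOf N) = Nat.card N := by
      rw [usyl_card_subgroupOf Subgroup.le_normalizer, usyl_card_subgroupOf hQN, hcardN]
    have hcompl := Subgroup.isComplement'_of_coprime hmul hcop
    obtain ⟨⟨⟨y, hy⟩, ⟨s, hs⟩⟩, hys, -⟩ := hcompl.existsUnique ⟨g, hgN⟩
    refine ⟨(y : G), hy, (s : G), hs, ?_⟩
    have := congrArg Subtype.val hys
    simpa using this.symm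

end Cfsg.Agent.Helper10.Mix
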