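import Mathlib

set_option autoImplicit false

namespace Cfsg.Agent.Helper2

variable {G : Type*} [Group G]

theorem card_conj_fiber [Finite G] (x y c : G) (hc : c * x * c⁻¹ = y) :
    Nat.card {g : G // g * x * g⁻¹ = y} = Nat.card (Subgroup.centralizer ({x} : Set G)) := by
  symm
  apply Nat.card_congr
  refine
    { toFun := fun z => ⟨c * z.1, ?_⟩
      invFun := fun g => ⟨c⁻¹ * g.1, ?_⟩
      left_inv := ?_
      right_inv := ?_ }
  · have hz : z.1 * x = x * z.1 := (Subgroup.mem_centralizer_singleton_iff.mp z.2)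
    calc c * z.1 * x * (c * z.1)⁻¹ = c * (z.1 * x) * z.1⁻¹ * c⁻¹ := by group
      _ = c * (x * z.1) * z.1⁻¹ * c⁻¹ := by rw [hz]
      _ = c * x * c⁻¹ := by group
      _ = y := hc
  · rw [Subgroup.mem_centralizer_singleton_iff]
    have key : ∀ a : G, a * x * a⁻¹ = y → a * x = y * a := by
      intro a ha; rw [← ha]; group
    have h1 : g.1 * x = y * g.1 := key g.1 g.2
    have h3 : c⁻¹ * y = x * c⁻¹ := by
      rw [← hc]; group
    calc c⁻¹ * g.1 * x = c⁻¹ * (g.1 * x) := by group
      _ = c⁻¹ * (y * g.1) := by rw [h1]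
      _ = (c⁻¹ * y) * g.1 := by group
      _ = x * c⁻¹ * g.1 := by rw [h3]
      _ = x * (c⁻¹ * g.1) := by group
  · intro z; ext; simp
  · intro g; ext; simp

/-- class equation for one class: `|x^G| * |C_G(x)| = |G|` -/
theorem card_conj_class_mul_card_centralizer [Finite G] (x : G) :
    Nat.card {y : G // IsConj x y} * Nat.card (Subgroup.centralizer ({x} : Set G)) = Nat.card G := by
  classical
  haveI := Fintype.ofFinite {y : G // IsConj x y}
  let f : G → {y : G // IsConj x y} := fun g => ⟨g * x * g⁻¹, isConj_iff.mpr ⟨g, rfl⟩⟩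
  rw [← Nat.card_congr (Equiv.sigmaFiberEquiv f), Nat.card_sigma]
  have hfib : ∀ y : {y : G // IsConj x y}, Nat.card {g : G // f g = y} =
      Nat.card (Subgroup.centralizer ({x} : Set G)) := by
    intro y
    obtain ⟨c, hc⟩ := isConj_iff.mp y.2
    rw [← card_conj_fiber x y.1 c hc]
    apply Nat.card_congr
    refine Equiv.subtypeEquivRight ?_
    intro g
    simp only [f]
    constructor
    · intro h; exact congrArg Subtype.val h
    · intro h; exact Subtype.ext h
  simp only [hfib, Finset.sum_const, Finset.card_univ, smul_eq_mul]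
  rw [Nat.card_eq_fintype_card]

end Cfsg.Agent.Helper2
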