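import Mathlib
import Cfsg.Agent.Lib.Helper10.MixDefs
import Cfsg.Agent.Lib.Helper10.MixUtil
import Cfsg.Agent.Lib.Helper10.MixGood3
import Cfsg.Agent.Lib.Helper16.MixV12
import Cfsg.Agent.Lib.Helper2.ConjClass

/-!
# S4017 piece V5 (helper2): the final count
-/

set_option autoImplicit false
set_option linter.style.haveILetI false
set_option linter.unusedSectionVars false
set_option linter.unusedVariables false

namespace Cfsg.Agent.Helper10.Mix

variable {G : Type*} [Group G] [Finite G] {p a : ℕ}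

/-- under the hypothesis of V5, `Good` holds trivially -/
theorem v5_good (B : ∀ Q : Sylow 2 G, Base G p a Q)
    (hN : ∀ t y : G, orderOf t = 2 → IsPElt p y → Commute y t → y = 1) : Good G p := by
  intro Q t ht ht1 y hy hyt
  have hto := v12_orderOf_two ((B Q).exp2 t ht) ht1
  rw [hN t y hto hy hyt]
  exact Subgroup.one_mem _

/-- the centralizer of an involution of `Q` is `Q` -/
theorem v5_cent (B : ∀ Q : Sylow 2 G, Base G p a Q)
    (hN : ∀ t y : G, orderOf t = 2 → IsPElt p y → Commute y t → y = 1)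
    {Q : Sylow 2 G} {t : G} (ht : t ∈ Q) (hto : orderOf t = 2) {g : G} (hg : Commute g t) :
    g ∈ Q := by
  have ht1 := v12_ne_one_of_orderOf_two hto
  obtain ⟨y, s, hy, hyt, hs, rfl⟩ := (B Q).split t ht ht1 g hg
  rw [hN t y hto hy hyt, one_mul]
  exact hs

theorem v5_exists_sylow2 {t : G} (hto : orderOf t = 2) : ∃ Q : Sylow 2 G, t ∈ Q := by
  haveI : Fact (Nat.Prime 2) := ⟨Nat.prime_two⟩
  have hsP : IsPGroup 2 (Subgroup.zpowers t) := by
    apply IsPGroup.of_card (n := 1)
    rw [Nat.card_zpowers, hto, pow_one]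
  obtain ⟨Q, hQ⟩ := hsP.exists_le_sylow
  exact ⟨Q, hQ (Subgroup.mem_zpowers _)⟩

theorem v5_centralizer_eq (B : ∀ Q : Sylow 2 G, Base G p a Q)
    (hN : ∀ t y : G, orderOf t = 2 → IsPElt p y → Commute y t → y = 1)
    {Q : Sylow 2 G} {t : G} (ht : t ∈ Q) (hto : orderOf t = 2) :
    Subgroup.centralizer ({t} : Set G) = (Q : Subgroup G) := by
  ext g
  rw [Subgroup.mem_centralizer_singleton_iff]
  constructor
  · intro h
    exact v5_cent B hN ht hto h
  · intro h
    exact (v12_comm_of_exp2 (B Q).exp2 h ht).eq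

theorem v5_conj_mem_smul {q : ℕ} (P : Sylow q G) (g x : G) :
    g * x * g⁻¹ ∈ (g • P : Sylow q G) ↔ x ∈ P := by
  show g * x * g⁻¹ ∈ ((g • P : Sylow q G) : Subgroup G) ↔ _
  rw [Sylow.coe_subgroup_smul]
  have : g * x * g⁻¹ = MulAut.conj g • x := by
    rw [MulAut.smul_def, MulAut.conj_apply]
  rw [this, Subgroup.smul_mem_pointwise_smul_iff]
  rfl

theorem v5_orderOf_conj (g x : G) : orderOf (g * x * g⁻¹) = orderOf x := by
  have : g * x * g⁻¹ = MulAut.conj g x := by simp [MulAut.conj_apply]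
  rw [this, MulEquiv.orderOf_eq]

/-- all involutions are conjugate -/
theorem v5_conj (B : ∀ Q : Sylow 2 G, Base G p a Q)
    {t t' : G} (hto : orderOf t = 2) (hto' : orderOf t' = 2) : IsConj t t' := by
  haveI : Fact (Nat.Prime 2) := ⟨Nat.prime_two⟩
  obtain ⟨Q, hQ⟩ := v5_exists_sylow2 hto
  obtain ⟨Q', hQ'⟩ := v5_exists_sylow2 hto'
  obtain ⟨g, hg⟩ := MulAction.exists_smul_eq G Q' Q
  have hs' : g * t' * g⁻¹ ∈ Q := by
    rw [← hg, v5_conj_mem_smul]
    exact hQ'
  have ht1 := v12_ne_one_of_orderOf_two hto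
  have hs'1 : g * t' * g⁻¹ ≠ 1 := by
    apply v12_ne_one_of_orderOf_two
    rw [v5_orderOf_conj, hto']
  obtain ⟨h, -, -, hh⟩ := (B Q).singer t hQ ht1 _ hs' hs'1
  rw [isConj_iff]
  refine ⟨g⁻¹ * h, ?_⟩
  calc g⁻¹ * h * t * (g⁻¹ * h)⁻¹ = g⁻¹ * (h * t * h⁻¹) * g := by group
    _ = g⁻¹ * (g * t' * g⁻¹) * g := by rw [hh]
    _ = t' := by group

/-- the number of involutions -/
theorem v5_card_inv (c : Cfg G p a) (B : ∀ Q : Sylow 2 G, Base G p a Q)
    (hN : ∀ t y : G, orderOf t = 2 → IsPElt p y → Commute y t → y = 1) :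
    Nat.card {s : G // orderOf s = 2} * 2 ^ a = Nat.card G := by
  haveI : Fact (Nat.Prime 2) := ⟨Nat.prime_two⟩
  obtain ⟨t, hto⟩ := exists_prime_orderOf_dvd_card' (G := G) 2 c.two_dvd_card
  obtain ⟨Q, hQ⟩ := v5_exists_sylow2 hto
  have h1 := Cfsg.Agent.Helper2.card_conj_class_mul_card_centralizer t
  rw [v5_centralizer_eq B hN hQ hto] at h1
  have h2 : Nat.card (Q : Subgroup G) = 2 ^ a := c.card_sylow2 Q
  rw [h2] at h1
  rw [← h1]
  congr 1
  apply Nat.card_congr
  refine Equiv.subtypeEquivRight ?_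
  intro s
  constructor
  · intro hs
    exact v5_conj B hto hs
  · intro hs
    obtain ⟨g, hg⟩ := isConj_iff.1 hs
    rw [← hg, v5_orderOf_conj, hto]

theorem v5_mem_normalizer_zpowers {t g : G} (h : t * g * t⁻¹ = g⁻¹) :
    t ∈ Subgroup.normalizer ((Subgroup.zpowers g : Subgroup G) : Set G) := by
  apply Subgroup.mem_normalizer_fintype
  intro x hx
  obtain ⟨k, rfl⟩ := hx
  have h1 : t * g ^ k * t⁻¹ = (t * g * t⁻¹) ^ k := by
    have := map_zpow (MulAut.conj t) g k
    simpa [MulAut.conj_apply] using this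
  rw [h1, h]
  exact Subgroup.zpow_mem _ (Subgroup.inv_mem _ (Subgroup.mem_zpowers g)) k

/-- an element inverted by an involution `t` lies in the Sylow 2-subgroup of `t`
or is a `p`-element -/
theorem v5_class (c : Cfg G p a) (B : ∀ Q : Sylow 2 G, Base G p a Q)
    (hN : ∀ t y : G, orderOf t = 2 → IsPElt p y → Commute y t → y = 1)
    {t g : G} (hto : orderOf t = 2) (hinv : t * g * t⁻¹ = g⁻¹) (hg1 : g ≠ 1)
    {Q : Sylow 2 G} (htQ : t ∈ Q) : g ∈ Q ∨ IsPElt p g := by
  have hZbot : Subgroup.zpowers g ≠ ⊥ := by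
    rw [Ne, Subgroup.zpowers_eq_bot]
    exact hg1
  have hZtop : Subgroup.zpowers g ≠ ⊤ := by
    intro h
    apply c.not_comm
    intro x y
    have hx : x ∈ Subgroup.zpowers g := by rw [h]; trivial
    have hy : y ∈ Subgroup.zpowers g := by rw [h]; trivial
    obtain ⟨i, rfl⟩ := hx
    obtain ⟨j, rfl⟩ := hy
    exact (Commute.zpow_zpow_self g i j).eq
  have hK := c.normalizer_ne_top hZbot hZtop
  have htN := v5_mem_normalizer_zpowers hinv
  have h2K : 2 ∣ Nat.card
      (Subgroup.normalizer ((Subgroup.zpowers g : Subgroup G) : Set G)) := by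
    rw [← hto]
    exact Subgroup.orderOf_dvd_natCard _ htN
  obtain ⟨i, j, hij⟩ := c.orderOf_of_mem hK h2K
    (Subgroup.le_normalizer (Subgroup.mem_zpowers g))
  rcases Nat.eq_zero_or_pos i with hi | hi
  · right
    exact ⟨j, by rw [hij, hi, pow_zero, one_mul]⟩
  · left
    obtain ⟨i', rfl⟩ := Nat.exists_eq_add_of_le' hi
    have hppos : 0 < p ^ j := Nat.pos_of_ne_zero (pow_ne_zero _ c.hp.ne_zero)
    have hm0 : 2 ^ i' * p ^ j ≠ 0 := by positivity
    have hmd : 2 ^ i' * p ^ j ∣ orderOf g := by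
      rw [hij]
      exact ⟨2, by rw [pow_succ]; ring⟩
    have hu : orderOf (g ^ (2 ^ i' * p ^ j)) = 2 := by
      rw [orderOf_pow_of_dvd hm0 hmd, hij]
      have : 2 ^ (i' + 1) * p ^ j = 2 * (2 ^ i' * p ^ j) := by ring
      rw [this]
      exact Nat.mul_div_cancel _ (Nat.pos_of_ne_zero hm0)
    have hut : Commute t (g ^ (2 ^ i' * p ^ j)) := v12_commute_pow_of_inverts hinv hu
    have huQ : g ^ (2 ^ i' * p ^ j) ∈ Q := v5_cent B hN htQ hto hut.symm
    exact v5_cent B hN huQ hu ((Commute.refl g).pow_right _)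

/-- an involution normalizing a Sylow `p`-subgroup inverts it -/
theorem v5_inverts (c : Cfg G p a)
    (hN : ∀ t y : G, orderOf t = 2 → IsPElt p y → Commute y t → y = 1)
    {t : G} (hto : orderOf t = 2) (P : Sylow p G)
    (htP : t ∈ Subgroup.normalizer ((P : Subgroup G) : Set G)) :
    ∀ y ∈ P, t * y * t⁻¹ = y⁻¹ := by
  intro y hy
  have hy' : t * y * t⁻¹ ∈ (P : Subgroup G) := (Subgroup.mem_normalizer_iff.1 htP y).1 hy
  have hw : y * (t * y * t⁻¹) ∈ (P : Subgroup G) := Subgroup.mul_mem _ hy hy'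
  have hwp : IsPElt p (y * (t * y * t⁻¹)) := isPElt_of_mem c.hp P.2 hw
  have htt : t * t = 1 := v12_sq_of_orderOf_two hto
  have hti : t⁻¹ = t := v12_inv_of_orderOf_two hto
  have hcomm : Commute (y * (t * y * t⁻¹)) t := by
    show y * (t * y * t⁻¹) * t = t * (y * (t * y * t⁻¹))
    have h1 : y * (t * y * t⁻¹) = (t * y * t⁻¹) * y := c.abel P P.2 y hy _ hy'
    have h2 : t * (t * y * t⁻¹) * t⁻¹ = y := by
      rw [hti]
      calc t * (t * y * t) * t = (t * t) * y * (t * t) := by group
        _ = y := by rw [htt, one_mul, mul_one]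
    have h3 : t * (y * (t * y * t⁻¹)) * t⁻¹ = y * (t * y * t⁻¹) := by
      calc t * (y * (t * y * t⁻¹)) * t⁻¹ = (t * y * t⁻¹) * (t * (t * y * t⁻¹) * t⁻¹) := by group
        _ = (t * y * t⁻¹) * y := by rw [h2]
        _ = y * (t * y * t⁻¹) := h1.symm
    calc y * (t * y * t⁻¹) * t = (t * (y * (t * y * t⁻¹)) * t⁻¹) * t := by rw [h3]
      _ = t * (y * (t * y * t⁻¹)) := by group
  have h1 := hN t _ hto hwp hcomm
  exact eq_inv_of_mul_eq_one_right h1

/-- the centralizer of a nontrivial element of a Sylow `p`-subgroup normalized by an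
involution is that Sylow subgroup -/
theorem v5_cent_sylow (c : Cfg G p a) (B : ∀ Q : Sylow 2 G, Base G p a Q)
    (hN : ∀ t y : G, orderOf t = 2 → IsPElt p y → Commute y t → y = 1)
    {t y : G} (hto : orderOf t = 2) (P : Sylow p G)
    (htP : t ∈ Subgroup.normalizer ((P : Subgroup G) : Set G)) (hy : y ∈ P) (hy1 : y ≠ 1) :
    ∀ g : G, Commute g y ↔ g ∈ P := by
  have hinv := v5_inverts c hN hto P htP y hy
  obtain ⟨P', hP', -⟩ := cent_inverted c B (v5_good B hN) hto hy1
    (isPElt_of_mem c.hp P.2 hy) hinv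
  have hle : (P : Subgroup G) ≤ P' := by
    intro x hx
    exact (hP' x).1 (c.abel P P.2 x hx y hy)
  have heq : (P' : Subgroup G) = P := P.is_maximal' P'.2 hle
  have : P' = P := Sylow.ext heq
  rw [← this]
  exact hP'

/-- two Sylow `p`-subgroups normalized by an involution and sharing a nontrivial element are
equal -/
theorem v5_ti (c : Cfg G p a) (B : ∀ Q : Sylow 2 G, Base G p a Q)
    (hN : ∀ t y : G, orderOf t = 2 → IsPElt p y → Commute y t → y = 1)
    {t y : G} (hto : orderOf t = 2) (P P' : Sylow p G)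
    (htP : t ∈ Subgroup.normalizer ((P : Subgroup G) : Set G))
    (htP' : t ∈ Subgroup.normalizer ((P' : Subgroup G) : Set G))
    (hy : y ∈ P) (hy' : y ∈ P') (hy1 : y ≠ 1) : P = P' := by
  apply Sylow.ext
  ext g
  exact ⟨fun h => (v5_cent_sylow c B hN hto P' htP' hy' hy1 g).1
      ((v5_cent_sylow c B hN hto P htP hy hy1 g).2 h),
    fun h => (v5_cent_sylow c B hN hto P htP hy hy1 g).1
      ((v5_cent_sylow c B hN hto P' htP' hy' hy1 g).2 h)⟩

/-- every Sylow `p`-subgroup is nontrivial and normalized by an involution -/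
theorem v5_exists_inv_normalizer (c : Cfg G p a) (B : ∀ Q : Sylow 2 G, Base G p a Q)
    (hN : ∀ t y : G, orderOf t = 2 → IsPElt p y → Commute y t → y = 1) (P : Sylow p G) :
    ∃ t y : G, orderOf t = 2 ∧ t ∈ Subgroup.normalizer ((P : Subgroup G) : Set G) ∧
      y ∈ P ∧ y ≠ 1 := by
  haveI : Fact p.Prime := ⟨c.hp⟩
  have hG := v5_good B hN
  obtain ⟨t₀, z₀, hto, hz1, hz, hinv⟩ := exists_inverted c B hG
  obtain ⟨P₀, hP₀, htP₀⟩ := cent_inverted c B hG hto hz1 hz hinv
  have hz₀ : z₀ ∈ P₀ := (hP₀ z₀).1 (Commute.refl z₀)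
  obtain ⟨g, hg⟩ := MulAction.exists_smul_eq G P₀ P
  refine ⟨g * t₀ * g⁻¹, g * z₀ * g⁻¹, ?_, ?_, ?_, ?_⟩
  · rw [v5_orderOf_conj, hto]
  · have h1 : t₀ • P₀ = P₀ := Sylow.smul_eq_iff_mem_normalizer.2 htP₀
    refine Sylow.smul_eq_iff_mem_normalizer.1 ?_
    rw [← hg, ← mul_smul, inv_mul_cancel_right, mul_smul, h1]
  · rw [← hg, v5_conj_mem_smul]
    exact hz₀
  · intro h
    apply hz1
    have : z₀ = g⁻¹ * (g * z₀ * g⁻¹) * g := by group
    rw [this, h]
    group

/-- the elements inverted by an involution `t` correspond to the solutions of `u * u = 1` -/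
theorem v5_card_inverted {t : G} (hto : orderOf t = 2) :
    Nat.card {g : G // t * g * t⁻¹ = g⁻¹} = Nat.card {s : G // orderOf s = 2} + 1 := by
  classical
  have htt : t * t = 1 := v12_sq_of_orderOf_two hto
  have hti : t⁻¹ = t := v12_inv_of_orderOf_two hto
  have h1 : Nat.card {g : G // t * g * t⁻¹ = g⁻¹} = Nat.card {u : G // u * u = 1} := by
    apply Nat.card_congr
    refine
      { toFun := fun g => ⟨t * g.1, ?_⟩
        invFun := fun u => ⟨t * u.1, ?_⟩
        left_inv := ?_
        right_inv := ?_ }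
    · obtain ⟨g, h⟩ := g
      show t * g * (t * g) = 1
      rw [hti] at h
      calc t * g * (t * g) = (t * g * t) * g := by group
        _ = 1 := by rw [h, inv_mul_cancel]
    · have h := u.2
      have hui : (u.1)⁻¹ = u.1 := inv_eq_of_mul_eq_one_right h
      rw [mul_inv_rev, hui, hti]
      calc t * (t * u.1) * t = (t * t) * u.1 * t := by group
        _ = u.1 * t := by rw [htt, one_mul]
    · intro g
      apply Subtype.ext
      show t * (t * g.1) = g.1
      rw [← mul_assoc, htt, one_mul]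
    · intro u
      apply Subtype.ext
      show t * (t * u.1) = u.1
      rw [← mul_assoc, htt, one_mul]
  rw [h1]
  haveI := Fintype.ofFinite G
  rw [Nat.card_eq_fintype_card, Nat.card_eq_fintype_card, Fintype.card_subtype,
    Fintype.card_subtype]
  have h2 : (Finset.univ.filter fun u : G => u * u = 1) =
      insert 1 (Finset.univ.filter fun s : G => orderOf s = 2) := by
    ext u
    simp only [Finset.mem_filter, Finset.mem_univ, true_and, Finset.mem_insert]
    constructor
    · intro h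
      by_cases hu : u = 1
      · exact Or.inl hu
      · exact Or.inr (v12_orderOf_two h hu)
    · rintro (h | h)
      · rw [h, one_mul]
      · exact v12_sq_of_orderOf_two h
  rw [h2, Finset.card_insert_of_notMem]
  simp

/-- a Sylow `p`-subgroup has exactly `|P|` involutions in its normalizer -/
theorem v5_card_inv_normalizer (c : Cfg G p a) (B : ∀ Q : Sylow 2 G, Base G p a Q)
    (hN : ∀ t y : G, orderOf t = 2 → IsPElt p y → Commute y t → y = 1) (P : Sylow p G) :
    Nat.card {s : {s : G // orderOf s = 2} //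
      s.1 ∈ Subgroup.normalizer ((P : Subgroup G) : Set G)} = Nat.card P := by
  obtain ⟨t, y₀, hto, htP, hy₀, hy₀1⟩ := v5_exists_inv_normalizer c B hN P
  have htt : t * t = 1 := v12_sq_of_orderOf_two hto
  have hti : t⁻¹ = t := v12_inv_of_orderOf_two hto
  have hinv := v5_inverts c hN hto P htP
  symm
  apply Nat.card_congr
  refine
    { toFun := fun y => ⟨⟨t * y.1, ?_⟩, ?_⟩
      invFun := fun s => ⟨t * s.1.1, ?_⟩
      left_inv := ?_
      right_inv := ?_ }
  · have h := hinv y.1 y.2
    rw [hti] at h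
    apply v12_orderOf_two
    · calc t * y.1 * (t * y.1) = (t * y.1 * t) * y.1 := by group
        _ = 1 := by rw [h, inv_mul_cancel]
    · intro h1
      have htP' : t ∈ (P : Subgroup G) := by
        have : t = (y.1 : G)⁻¹ := eq_inv_of_mul_eq_one_left h1
        rw [this]
        exact Subgroup.inv_mem _ y.2
      have := hN t t hto (isPElt_of_mem c.hp P.2 htP') (Commute.refl t)
      exact v12_ne_one_of_orderOf_two hto this
  · exact Subgroup.mul_mem _ htP (Subgroup.le_normalizer y.2)
  · have hs := v5_inverts c hN s.1.2 P s.2 y₀ hy₀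
    have ht := hinv y₀ hy₀
    have h1 : s.1.1 * y₀ = y₀⁻¹ * s.1.1 := by
      rw [← hs]; group
    have h2 : t * y₀⁻¹ = y₀ * t := by
      have : t * y₀⁻¹ * t⁻¹ = y₀ := by
        calc t * y₀⁻¹ * t⁻¹ = (t * y₀ * t⁻¹)⁻¹ := by group
          _ = y₀ := by rw [ht, inv_inv]
      calc t * y₀⁻¹ = (t * y₀⁻¹ * t⁻¹) * t := by group
        _ = y₀ * t := by rw [this]
    have hcomm : Commute (t * s.1.1) y₀ := by
      show t * s.1.1 * y₀ = y₀ * (t * s.1.1)
      calc t * s.1.1 * y₀ = t * (s.1.1 * y₀) := by group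
        _ = t * (y₀⁻¹ * s.1.1) := by rw [h1]
        _ = (t * y₀⁻¹) * s.1.1 := by group
        _ = y₀ * t * s.1.1 := by rw [h2]
        _ = y₀ * (t * s.1.1) := by group
    exact (v5_cent_sylow c B hN hto P htP hy₀ hy₀1 _).1 hcomm
  · intro y
    apply Subtype.ext
    show t * (t * y.1) = y.1
    rw [← mul_assoc, htt, one_mul]
  · intro s
    apply Subtype.ext
    apply Subtype.ext
    show t * (t * s.1.1) = s.1.1
    rw [← mul_assoc, htt, one_mul]

/-- the elements inverted by an involution `t`: the Sylow 2-subgroup of `t` and the nontrivial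
elements of the Sylow `p`-subgroups normalized by `t` -/
theorem v5_count (c : Cfg G p a) (B : ∀ Q : Sylow 2 G, Base G p a Q)
    (hN : ∀ t y : G, orderOf t = 2 → IsPElt p y → Commute y t → y = 1)
    {t : G} (hto : orderOf t = 2) :
    Nat.card {g : G // t * g * t⁻¹ = g⁻¹} = (p + 1) +
      Nat.card {P : Sylow p G // t ∈ Subgroup.normalizer ((P : Subgroup G) : Set G)} *
        (p ^ (Nat.card G).factorization p - 1) := by
  classical
  haveI : Fact p.Prime := ⟨c.hp⟩
  haveI := Fintype.ofFinite G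
  haveI := Fintype.ofFinite (Sylow p G)
  obtain ⟨Q, htQ⟩ := v5_exists_sylow2 hto
  set S : Finset G := Finset.univ.filter (fun g : G => t * g * t⁻¹ = g⁻¹) with hSdef
  set Qf : Finset G := Finset.univ.filter (fun g : G => g ∈ Q) with hQf
  set NP : Finset (Sylow p G) := Finset.univ.filter
    (fun P : Sylow p G => t ∈ Subgroup.normalizer ((P : Subgroup G) : Set G)) with hNP
  let Pf : Sylow p G → Finset G := fun P => (Finset.univ.filter (fun g : G => g ∈ P)).erase 1
  have hS : S = Qf ∪ NP.biUnion Pf := by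
    ext g
    simp only [hSdef, hQf, hNP, Pf, Finset.mem_filter, Finset.mem_univ, true_and,
      Finset.mem_union, Finset.mem_biUnion, Finset.mem_erase]
    constructor
    · intro hg
      by_cases hgQ : g ∈ Q
      · left; exact hgQ
      · right
        have hg1 : g ≠ 1 := fun h => hgQ (h ▸ Subgroup.one_mem _)
        rcases v5_class c B hN hto hg hg1 htQ with h | h
        · exact absurd h hgQ
        · obtain ⟨P, hP, htP⟩ := cent_inverted c B (v5_good B hN) hto hg1 h hg
          exact ⟨P, htP, hg1, (hP g).1 (Commute.refl g)⟩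
    · rintro (hgQ | ⟨P, htP, hg1, hgP⟩)
      · have hcomm : Commute t g := v12_comm_of_exp2 (B Q).exp2 htQ hgQ
        have hgi : g⁻¹ = g := inv_eq_of_mul_eq_one_right ((B Q).exp2 g hgQ)
        rw [hgi, hcomm.eq, mul_inv_cancel_right]
      · exact v5_inverts c hN hto P htP g hgP
  have hd1 : Disjoint Qf (NP.biUnion Pf) := by
    rw [Finset.disjoint_left]
    intro g hgQ hgb
    simp only [hQf, hNP, Pf, Finset.mem_filter, Finset.mem_univ, true_and,
      Finset.mem_biUnion, Finset.mem_erase] at hgQ hgb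
    obtain ⟨P, htP, hg1, hgP⟩ := hgb
    exact hg1 (eq_one_of_mem_of_mem c.hp c.p_ne_two (B Q).exp2 hgP hgQ)
  have hd2 : (NP : Set (Sylow p G)).PairwiseDisjoint Pf := by
    intro P hP P' hP' hne
    rw [Function.onFun, Finset.disjoint_left]
    intro g hg hg'
    simp only [Pf, Finset.mem_filter, Finset.mem_univ, true_and, Finset.mem_erase] at hg hg'
    simp only [hNP, Finset.coe_filter, Finset.mem_univ, true_and, Set.mem_ofPred_eq] at hP hP'
    exact hne (v5_ti c B hN hto P P' hP hP' hg.2 hg'.2 hg.1)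
  have hcQ : Qf.card = p + 1 := by
    rw [hQf, ← Fintype.card_subtype, ← Nat.card_eq_fintype_card]
    show Nat.card (Q : Subgroup G) = _
    rw [c.card_sylow2 Q, c.hpa]
  have hcP : ∀ P : Sylow p G, (Pf P).card = p ^ (Nat.card G).factorization p - 1 := by
    intro P
    have h1 : (1 : G) ∈ Finset.univ.filter (fun g : G => g ∈ P) := by
      simp only [Finset.mem_filter, Finset.mem_univ, true_and]
      exact Subgroup.one_mem _
    show ((Finset.univ.filter (fun g : G => g ∈ P)).erase 1).card = _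
    rw [Finset.card_erase_of_mem h1, ← Fintype.card_subtype, ← Nat.card_eq_fintype_card]
    congr 1
    exact P.card_eq_multiplicity
  have e1 : Nat.card {g : G // t * g * t⁻¹ = g⁻¹} = S.card := by
    rw [Nat.card_eq_fintype_card, Fintype.card_subtype]
  have e2 : Nat.card {P : Sylow p G // t ∈ Subgroup.normalizer ((P : Subgroup G) : Set G)} =
      NP.card := by
    rw [Nat.card_eq_fintype_card, Fintype.card_subtype]
  rw [e1, e2, hS, Finset.card_union_of_disjoint hd1, Finset.card_biUnion hd2, hcQ,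
    Finset.sum_congr rfl (fun P _ => hcP P), Finset.sum_const, smul_eq_mul]

/-! ### PIECE V5 : the count -/
theorem count_false (c : Cfg G p a) (B : ∀ Q : Sylow 2 G, Base G p a Q)
    (hN : ∀ t y : G, orderOf t = 2 → IsPElt p y → Commute y t → y = 1) : False := by
  classical
  haveI : Fact p.Prime := ⟨c.hp⟩
  haveI := Fintype.ofFinite (Sylow p G)
  haveI := Fintype.ofFinite {s : G // orderOf s = 2}
  set n := Nat.card {s : G // orderOf s = 2} with hn
  set r := p ^ (Nat.card G).factorization p with hr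
  set W := Nat.card (Sylow p G) with hW
  -- `p ∣ r`
  obtain ⟨P₀⟩ : Nonempty (Sylow p G) := inferInstance
  obtain ⟨t₀, y₀, -, -, hy₀, hy₀1⟩ := v5_exists_inv_normalizer c B hN P₀
  have hcardP : ∀ P : Sylow p G, Nat.card P = r := fun P => P.card_eq_multiplicity
  have hpr : p ∣ r := by
    have hk : (Nat.card G).factorization p ≠ 0 := by
      intro h0
      have h1 : Nat.card P₀ = 1 := by rw [hcardP, hr, h0, pow_zero]
      have h2 : (⟨y₀, hy₀⟩ : P₀) = 1 := by
        haveI : Subsingleton P₀ := (Nat.card_eq_one_iff_unique.1 h1).1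
        exact Subsingleton.elim _ _
      exact hy₀1 (congrArg Subtype.val h2)
    exact dvd_pow_self p hk
  have hrpos : 0 < r := Nat.pos_of_ne_zero (pow_ne_zero _ c.hp.ne_zero)
  -- `r ∣ n`
  have hcard := v5_card_inv c B hN
  have hrn : r ∣ n := by
    have h1 : r ∣ Nat.card G := by
      rw [← hcardP P₀]
      exact Subgroup.card_subgroup_dvd_card _
    rw [← hcard] at h1
    have hcop : Nat.Coprime r (2 ^ a) := by
      apply Nat.Coprime.pow
      exact (Nat.coprime_primes c.hp Nat.prime_two).2 c.p_ne_two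
    exact hcop.dvd_of_dvd_mul_right h1
  have hpW : ¬ p ∣ W := not_dvd_card_sylow p G
  -- the count for every involution
  have hA : ∀ s : {s : G // orderOf s = 2},
      n + Nat.card {P : Sylow p G // s.1 ∈ Subgroup.normalizer ((P : Subgroup G) : Set G)} =
      p + Nat.card {P : Sylow p G // s.1 ∈ Subgroup.normalizer ((P : Subgroup G) : Set G)} * r := by
    intro s
    have h1 := v5_card_inverted s.2
    have h2 := v5_count c B hN s.2
    rw [h1] at h2
    generalize Nat.card {P : Sylow p G //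
      s.1 ∈ Subgroup.normalizer ((P : Subgroup G) : Set G)} = N at h2 ⊢
    have h2' : n + 1 = p + 1 + N * (r - 1) := h2
    have h3 : N * (r - 1) + N = N * r := by
      obtain ⟨r', hr'⟩ := Nat.exists_eq_add_of_le' hrpos
      rw [hr', Nat.add_sub_cancel]
      ring
    generalize N * (r - 1) = X at h2' h3
    generalize N * r = Y at h3 ⊢
    omega
  -- double counting
  have hB : ∑ s : {s : G // orderOf s = 2},
      Nat.card {P : Sylow p G // s.1 ∈ Subgroup.normalizer ((P : Subgroup G) : Set G)} =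
      W * r := by
    have e : (Σ s : {s : G // orderOf s = 2},
        {P : Sylow p G // s.1 ∈ Subgroup.normalizer ((P : Subgroup G) : Set G)}) ≃
        (Σ P : Sylow p G, {s : {s : G // orderOf s = 2} //
          s.1 ∈ Subgroup.normalizer ((P : Subgroup G) : Set G)}) :=
      { toFun := fun x => ⟨x.2.1, ⟨x.1, x.2.2⟩⟩
        invFun := fun x => ⟨x.2.1, ⟨x.1, x.2.2⟩⟩
        left_inv := fun x => rfl
        right_inv := fun x => rfl }
    have h1 := Nat.card_congr e
    rw [Nat.card_sigma, Nat.card_sigma] at h1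
    rw [h1]
    simp only [v5_card_inv_normalizer c B hN, hcardP, Finset.sum_const, Finset.card_univ,
      smul_eq_mul]
    rw [hW, Nat.card_eq_fintype_card]
  -- summing
  have hsum : n * n + W * r = n * p + W * r * r := by
    have h1 : ∑ s : {s : G // orderOf s = 2},
        (n + Nat.card {P : Sylow p G //
          s.1 ∈ Subgroup.normalizer ((P : Subgroup G) : Set G)}) =
        ∑ s : {s : G // orderOf s = 2},
        (p + Nat.card {P : Sylow p G //
          s.1 ∈ Subgroup.normalizer ((P : Subgroup G) : Set G)} * r) :=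
      Finset.sum_congr rfl (fun s _ => hA s)
    rw [Finset.sum_add_distrib, Finset.sum_add_distrib, ← Finset.sum_mul, hB,
      Finset.sum_const, Finset.sum_const, Finset.card_univ, smul_eq_mul, smul_eq_mul,
      ← Nat.card_eq_fintype_card, ← hn] at h1
    exact h1
  obtain ⟨m, hm⟩ := hrn
  rw [hm] at hsum
  have h2 : r * (m * (r * m) + W) = r * (m * p + W * r) := by
    calc r * (m * (r * m) + W) = r * m * (r * m) + W * r := by ring
      _ = r * m * p + W * r * r := hsum
      _ = r * (m * p + W * r) := by ring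
  have h3 : m * (r * m) + W = m * p + W * r := Nat.eq_of_mul_eq_mul_left hrpos h2
  have h4 : p ∣ m * (r * m) + W := by
    rw [h3]
    exact dvd_add (dvd_mul_left p m) (dvd_mul_of_dvd_right hpr W)
  have h5 : p ∣ m * (r * m) := dvd_mul_of_dvd_right (dvd_mul_of_dvd_left hpr m) m
  exact hpW ((Nat.dvd_add_right h5).1 h4)

end Cfsg.Agent.Helper10.Mix
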