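import Mathlib
import Cfsg.Agent.Lib.Helper10.PCDefs
import Cfsg.Agent.Lib.Helper11.PCNSCERT
import Cfsg.Agent.Lib.Helper17.PCNSPAT

/-!
# S2276 piece NSSIX: the six-point certificate of non-solvability on `ZMod (3 q)`
-/

set_option autoImplicit false
set_option linter.unusedSectionVars false
set_option linter.unusedVariables false

namespace Cfsg.Agent.Helper10.PC

open Equiv Equiv.Perm

theorem nssix_rot_pow (n k : ℕ) (x : ZMod n) : (rot n ^ k) x = x + k := by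
  induction k with
  | zero => simp
  | succ k ih =>
    rw [pow_succ', Perm.mul_apply, ih, rot_apply]
    push_cast
    ring

theorem nssix_d6_eq (q n e' : ℕ) (j : Fin 6) :
    d6 q n (e' : ZMod n) j = ((![0, q, 2 * q, e', q + e', 2 * q + e'] j : ℕ) : ZMod n) := by
  fin_cases j <;> simp [d6]

theorem nssix_d6_inj (q n e' : ℕ) (hn : n = 3 * q) (hq : 3 ≤ q) (he' : e' = 1 ∨ e' = 2) :
    Function.Injective (d6 q n (e' : ZMod n)) := by
  intro i j hij
  rw [nssix_d6_eq, nssix_d6_eq, ZMod.natCast_eq_natCast_iff'] at hij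
  have hlt : ∀ j : Fin 6, (![0, q, 2 * q, e', q + e', 2 * q + e'] j : ℕ) < n := by
    intro j
    fin_cases j <;> simp <;> omega
  rw [Nat.mod_eq_of_lt (hlt i), Nat.mod_eq_of_lt (hlt j)] at hij
  fin_cases i <;> fin_cases j <;> simp at hij ⊢ <;> omega

theorem nssix_pat6a_vals :
    pat6a 0 = 1 ∧ pat6a 1 = 2 ∧ pat6a 2 = 0 ∧ pat6a 3 = 4 ∧ pat6a 4 = 5 ∧ pat6a 5 = 3 := by
  decide

theorem nssix_rot_d6 (q n : ℕ) (hn : n = 3 * q) (e : ZMod n) (j : Fin 6) :
    (rot n ^ q) (d6 q n e j) = d6 q n e (pat6a j) := by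
  have h3q : ((3 * q : ℕ) : ZMod n) = 0 := by rw [← hn]; exact ZMod.natCast_self n
  have h3q' : (3 : ZMod n) * (q : ZMod n) = 0 := by exact_mod_cast h3q
  obtain ⟨h0, h1, h2, h3, h4, h5⟩ := nssix_pat6a_vals
  rw [nssix_rot_pow]
  fin_cases j
  · show d6 q n e 0 + q = d6 q n e (pat6a 0)
    rw [h0]; simp [d6]
  · show d6 q n e 1 + q = d6 q n e (pat6a 1)
    rw [h1]; simp [d6]; ring
  · show d6 q n e 2 + q = d6 q n e (pat6a 2)
    rw [h2]; simp [d6]; linear_combination h3q'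
  · show d6 q n e 3 + q = d6 q n e (pat6a 3)
    rw [h3]; simp [d6]; ring
  · show d6 q n e 4 + q = d6 q n e (pat6a 4)
    rw [h4]; simp [d6]; ring
  · show d6 q n e 5 + q = d6 q n e (pat6a 5)
    rw [h5]; simp [d6]; linear_combination h3q'

theorem nssix_core (q n : ℕ) (hn : n = 3 * q) (hq : 3 ≤ q) [NeZero n]
    (hcert : ∀ (d : Fin 6 → ZMod n) (hd : Function.Injective d) (H : Subgroup (Perm (ZMod n)))
      (k₁ k₂ : Perm (ZMod n)) (hk₁ : k₁ ∈ H) (hk₂ : k₂ ∈ H) (σ₁ σ₂ : Perm (Fin 6))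
      (h₁ : ∀ j, k₁ (d j) = d (σ₁ j)) (h₂ : ∀ j, k₂ (d j) = d (σ₂ j))
      (hns : ¬ Group.IsSolvable ↥(Subgroup.closure ({σ₁, σ₂} : Set (Perm (Fin 6))))),
      ¬ Group.IsSolvable ↥H)
    (hP1 : ¬ Group.IsSolvable ↥(Subgroup.closure ({pat6a, patP1} : Set (Perm (Fin 6)))))
    (hP2 : ¬ Group.IsSolvable ↥(Subgroup.closure ({pat6a, patP2} : Set (Perm (Fin 6)))))
    (hP3 : ¬ Group.IsSolvable ↥(Subgroup.closure ({pat6a, patP3} : Set (Perm (Fin 6)))))
    (w' : Perm (ZMod n)) (m : ℕ) (e : ZMod n) (he : e = 1 ∨ e = 2) (b : Perm (Fin 6))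
    (hb : b = patP1 ∨ b = patP2 ∨ b = patP3)
    (h : ∀ j : Fin 6, (w' ^ m) (d6 q n e j) = d6 q n e (b j)) :
    ¬ Group.IsSolvable ↥(Subgroup.closure ({rot n, w'} : Set (Perm (ZMod n)))) := by
  have hinj : Function.Injective (d6 q n e) := by
    rcases he with rfl | rfl
    · have := nssix_d6_inj q n 1 hn hq (Or.inl rfl)
      simpa using this
    · have := nssix_d6_inj q n 2 hn hq (Or.inr rfl)
      simpa using this
  have hns : ¬ Group.IsSolvable ↥(Subgroup.closure ({pat6a, b} : Set (Perm (Fin 6)))) := by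
    rcases hb with rfl | rfl | rfl
    · exact hP1
    · exact hP2
    · exact hP3
  refine hcert (d6 q n e) hinj _ (rot n ^ q) (w' ^ m) ?_ ?_ pat6a b (nssix_rot_d6 q n hn e) h hns
  · have h1 : rot n ∈ Subgroup.closure ({rot n, w'} : Set (Perm (ZMod n))) :=
      Subgroup.subset_closure (Set.mem_insert _ _)
    exact Subgroup.pow_mem _ h1 q
  · have h1 : w' ∈ Subgroup.closure ({rot n, w'} : Set (Perm (ZMod n))) :=
      Subgroup.subset_closure (Set.mem_insert_of_mem _ (Set.mem_singleton w'))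
    exact Subgroup.pow_mem _ h1 m

/-- PIECE NSSIX -/
theorem not_solvable_of_six (q n : ℕ) (hn : n = 3 * q) (hq : 3 ≤ q) [NeZero n]
    (w' : Perm (ZMod n)) (m : ℕ) (e : ZMod n) (he : e = 1 ∨ e = 2) (b : Perm (Fin 6))
    (hb : b = patP1 ∨ b = patP2 ∨ b = patP3)
    (h : ∀ j : Fin 6, (w' ^ m) (d6 q n e j) = d6 q n e (b j)) :
    ¬ Group.IsSolvable ↥(Subgroup.closure ({rot n, w'} : Set (Perm (ZMod n)))) :=
  nssix_core q n hn hq
    (fun d hd H k₁ k₂ hk₁ hk₂ σ₁ σ₂ h₁ h₂ hns =>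
      not_solvable_of_restrict d hd H k₁ k₂ hk₁ hk₂ σ₁ σ₂ h₁ h₂ hns)
    not_solvable_patP1 not_solvable_patP2 not_solvable_patP3 w' m e he b hb h

end Cfsg.Agent.Helper10.PC
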