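import Mathlib
import Cfsg.Agent.Lib.Helper10.PCDefs

/-!
# S2276 piece GOODSUB: lift `Good` from an invariant finite subset
-/

set_option autoImplicit false
set_option linter.unusedSectionVars false
set_option linter.unusedVariables false

namespace Cfsg.Agent.Helper10.PC

open Equiv Equiv.Perm

universe u

section general
variable {Ω : Type u} [Fintype Ω] [DecidableEq Ω]

/-- the permutations preserving `D` -/
def goodsub_S (D : Finset Ω) : Subgroup (Perm Ω) where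
  carrier := {σ | ∀ x, σ x ∈ D ↔ x ∈ D}
  one_mem' := fun _ => Iff.rfl
  mul_mem' := fun {a b} ha hb x => (ha (b x)).trans (hb x)
  inv_mem' := fun {a} ha x => by
    have h := ha (a⁻¹ x)
    have h1 : a (a⁻¹ x) = x := a.apply_symm_apply x
    rw [h1] at h
    exact h.symm

/-- restriction to `D` -/
def goodsub_r (D : Finset Ω) : ↥(goodsub_S D) →* Perm {x // x ∈ D} where
  toFun σ := (σ : Perm Ω).subtypePerm σ.2
  map_one' := by
    ext x
    rfl
  map_mul' := by
    intro a b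
    ext x
    rfl

theorem goodsub_mem_of_perm (σ : Perm Ω) (D : Finset Ω) (σ' : Perm {x // x ∈ D})
    (h' : ∀ x : {x // x ∈ D}, (σ' x : Ω) = σ x) : σ ∈ goodsub_S D := by
  intro x
  constructor
  · intro hx
    have h1 : σ ((σ'⁻¹ ⟨σ x, hx⟩ : {x // x ∈ D}) : Ω) = σ x := by
      have h3 : σ' (σ'⁻¹ ⟨σ x, hx⟩) = ⟨σ x, hx⟩ := σ'.apply_symm_apply _
      rw [← h', h3]
    have h2 := σ.injective h1
    rw [← h2]
    exact (σ'⁻¹ ⟨σ x, hx⟩).2
  · intro hx
    have := h' ⟨x, hx⟩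
    rw [← this]
    exact (σ' ⟨x, hx⟩).2

theorem goodsub_r_eq (σ : Perm Ω) (D : Finset Ω) (σ' : Perm {x // x ∈ D})
    (h' : ∀ x : {x // x ∈ D}, (σ' x : Ω) = σ x) (hσ : σ ∈ goodsub_S D) :
    goodsub_r D ⟨σ, hσ⟩ = σ' := by
  ext x
  rw [h']
  rfl

theorem good_of_sub (p : ℕ) (u w : Perm Ω) (D : Finset Ω)
    (hu : ∀ x ∈ D, u x ∈ D) (hw : ∀ x ∈ D, w x ∈ D)
    (u' w' : Perm {x // x ∈ D}) (hu' : ∀ x : {x // x ∈ D}, (u' x : Ω) = u x)
    (hw' : ∀ x : {x // x ∈ D}, (w' x : Ω) = w x) (H : Good p u' w') : Good p u w := by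
  obtain ⟨g', hg's, hnp, hns⟩ := H
  have hgS : Perm.ofSubtype g' ∈ goodsub_S D := fun x => Perm.ofSubtype_apply_mem_iff_mem g' x
  have huS : u ∈ goodsub_S D := goodsub_mem_of_perm u D u' hu'
  have hwS : w ∈ goodsub_S D := goodsub_mem_of_perm w D w' hw'
  have hru : goodsub_r D ⟨u, huS⟩ = u' := goodsub_r_eq u D u' hu' huS
  have hrw : goodsub_r D ⟨w, hwS⟩ = w' := goodsub_r_eq w D w' hw' hwS
  have hrg : goodsub_r D ⟨Perm.ofSubtype g', hgS⟩ = g' :=
    goodsub_r_eq _ D g' (fun x => (Perm.ofSubtype_apply_coe g' x).symm) hgS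
  have hcS : Perm.ofSubtype g' * w * (Perm.ofSubtype g')⁻¹ ∈ goodsub_S D :=
    (goodsub_S D).mul_mem ((goodsub_S D).mul_mem hgS hwS) ((goodsub_S D).inv_mem hgS)
  have hrc : goodsub_r D ⟨Perm.ofSubtype g' * w * (Perm.ofSubtype g')⁻¹, hcS⟩ = g' * w' * g'⁻¹ := by
    have : (⟨Perm.ofSubtype g' * w * (Perm.ofSubtype g')⁻¹, hcS⟩ : ↥(goodsub_S D)) =
        ⟨Perm.ofSubtype g', hgS⟩ * ⟨w, hwS⟩ * (⟨Perm.ofSubtype g', hgS⟩ : ↥(goodsub_S D))⁻¹ := rfl
    rw [this, map_mul, map_mul, map_inv, hrg, hrw]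
  refine ⟨Perm.ofSubtype g', ?_, ?_, ?_⟩
  · rw [Perm.sign_ofSubtype]; exact hg's
  · rintro ⟨k, hk⟩
    apply hnp
    refine ⟨k, ?_⟩
    have htS : u * (Perm.ofSubtype g' * w * (Perm.ofSubtype g')⁻¹) ∈ goodsub_S D :=
      (goodsub_S D).mul_mem huS hcS
    have hrt : goodsub_r D ⟨u * (Perm.ofSubtype g' * w * (Perm.ofSubtype g')⁻¹), htS⟩ =
        u' * (g' * w' * g'⁻¹) := by
      have : (⟨u * (Perm.ofSubtype g' * w * (Perm.ofSubtype g')⁻¹), htS⟩ : ↥(goodsub_S D)) =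
          ⟨u, huS⟩ * ⟨Perm.ofSubtype g' * w * (Perm.ofSubtype g')⁻¹, hcS⟩ := rfl
      rw [this, map_mul, hru, hrc]
    rw [← hrt, ← map_pow]
    have : (⟨u * (Perm.ofSubtype g' * w * (Perm.ofSubtype g')⁻¹), htS⟩ : ↥(goodsub_S D)) ^ p ^ k = 1 := by
      apply Subtype.ext
      rw [Subgroup.coe_pow]
      exact hk
    rw [this, map_one]
  · intro hsol
    apply hns
    have hKS : Subgroup.closure ({u, Perm.ofSubtype g' * w * (Perm.ofSubtype g')⁻¹} : Set (Perm Ω)) ≤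
        goodsub_S D := by
      rw [Subgroup.closure_le]
      intro x hx
      rcases hx with rfl | hx
      · exact huS
      · rw [Set.mem_singleton_iff] at hx
        subst hx
        exact hcS
    set f : ↥(Subgroup.closure ({u, Perm.ofSubtype g' * w * (Perm.ofSubtype g')⁻¹} : Set (Perm Ω))) →*
        Perm {x // x ∈ D} := (goodsub_r D).comp (Subgroup.inclusion hKS) with hf
    have hle : Subgroup.closure ({u', g' * w' * g'⁻¹} : Set (Perm {x // x ∈ D})) ≤ f.range := by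
      rw [Subgroup.closure_le]
      intro x hx
      rcases hx with rfl | hx
      · refine ⟨⟨u, Subgroup.subset_closure (Set.mem_insert _ _)⟩, ?_⟩
        exact hru
      · rw [Set.mem_singleton_iff] at hx
        subst hx
        refine ⟨⟨_, Subgroup.subset_closure (Set.mem_insert_of_mem _ rfl)⟩, ?_⟩
        exact hrc
    have h1 : Group.IsSolvable ↥f.range := Group.isSolvable_of_surjective f.rangeRestrict_surjective
    exact Group.isSolvable_of_isSolvable_injective (Subgroup.inclusion_injective hle)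

end general

end Cfsg.Agent.Helper10.PC
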