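import Mathlib
import Cfsg.Agent.Lib.Helper10.PUDefs

/-!
# S2263, piece PU-NUMW (helper2 for helper10): `w(a) w(b) ≤ w(a+b-1)`.
-/

set_option autoImplicit false

namespace Cfsg.Agent.Helper10.PU

open Polynomial Matrix
open Cfsg.Agent.Helper10.EO (star)

/-- `Efun` at a successor, even exponent of the predecessor -/
theorem pu_numw_Efun_succ_even (q A : ℕ) (hA : Even A) : Efun q (A + 1) = q * q ^ A + 1 := by
  unfold Efun
  have h : ¬ Even (A + 1) := by
    rw [Nat.even_add_one]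
    exact not_not.mpr hA
  rw [if_neg h, pow_succ, mul_comm]

/-- `Efun` at a successor, odd exponent of the predecessor -/
theorem pu_numw_Efun_succ_odd (q A : ℕ) (hA : Odd A) : Efun q (A + 1) = q * q ^ A - 1 := by
  unfold Efun
  have h : Even (A + 1) := by
    rw [Nat.even_add_one, Nat.not_even_iff_odd]
    exact hA
  rw [if_pos h, pow_succ, mul_comm]

/-- odd/odd -/
theorem pu_numw_oo (q x y : ℕ) (hx : 1 ≤ x) (hy : 1 ≤ y) :
    (q * x + 1) * (q * y + 1) ≤ (q + 1) * (q * (x * y) + 1) := by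
  obtain ⟨x', rfl⟩ : ∃ x', x = x' + 1 := ⟨x - 1, by omega⟩
  obtain ⟨y', rfl⟩ : ∃ y', y = y' + 1 := ⟨y - 1, by omega⟩
  nlinarith [Nat.zero_le (q * (x' * y'))]

/-- odd/even -/
theorem pu_numw_oe (q x y : ℕ) (hq : 2 ≤ q) (hx : 1 ≤ x) (hy : 1 ≤ y) :
    (q * x + 1) * (q * y - 1) ≤ (q + 1) * (q * (x * y) - 1) := by
  obtain ⟨x', rfl⟩ : ∃ x', x = x' + 1 := ⟨x - 1, by omega⟩
  obtain ⟨y', rfl⟩ : ∃ y', y = y' + 1 := ⟨y - 1, by omega⟩
  obtain ⟨q', rfl⟩ : ∃ q', q = q' + 2 := ⟨q - 2, by omega⟩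
  have e1 : (q' + 2) * (y' + 1) - 1 = (q' + 2) * y' + q' + 1 := by
    have : (q' + 2) * (y' + 1) = (q' + 2) * y' + q' + 1 + 1 := by ring
    omega
  have e2 : (q' + 2) * ((x' + 1) * (y' + 1)) - 1 =
      (q' + 2) * (x' * y' + x' + y') + q' + 1 := by
    have : (q' + 2) * ((x' + 1) * (y' + 1)) = (q' + 2) * (x' * y' + x' + y') + q' + 1 + 1 := by
      ring
    omega
  rw [e1, e2]
  nlinarith [Nat.zero_le (x' * y'), Nat.zero_le (q' * x'), Nat.zero_le (q' * y'),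
    Nat.zero_le (q' * (x' * y')), Nat.zero_le (q' * q' * (x' * y')),
    Nat.zero_le (q' * q' * x'), Nat.zero_le (q' * q' * y')]

/-- even/even -/
theorem pu_numw_ee (q x y : ℕ) :
    (q * x - 1) * (q * y - 1) ≤ (q + 1) * (q * (x * y) + 1) := by
  calc (q * x - 1) * (q * y - 1) ≤ (q * x) * (q * y) :=
        Nat.mul_le_mul (Nat.sub_le _ _) (Nat.sub_le _ _)
    _ ≤ (q + 1) * (q * (x * y) + 1) := by nlinarith [Nat.zero_le (x * y), Nat.zero_le q]

/-- the inequality after clearing denominators -/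
theorem pu_numw_key (q A B : ℕ) (hq : 2 ≤ q) :
    Efun q (A + 1) * Efun q (B + 1) ≤ (q + 1) * Efun q (A + B + 1) := by
  have hx : 1 ≤ q ^ A := Nat.one_le_pow _ _ (by omega)
  have hy : 1 ≤ q ^ B := Nat.one_le_pow _ _ (by omega)
  have hxy : q ^ (A + B) = q ^ A * q ^ B := pow_add q A B
  rcases Nat.even_or_odd A with hA | hA <;> rcases Nat.even_or_odd B with hB | hB
  · rw [pu_numw_Efun_succ_even q A hA, pu_numw_Efun_succ_even q B hB,
      pu_numw_Efun_succ_even q (A + B) (hA.add hB), hxy]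
    exact pu_numw_oo q _ _ hx hy
  · rw [pu_numw_Efun_succ_even q A hA, pu_numw_Efun_succ_odd q B hB,
      pu_numw_Efun_succ_odd q (A + B) (hA.add_odd hB), hxy]
    exact pu_numw_oe q _ _ hq hx hy
  · rw [pu_numw_Efun_succ_odd q A hA, pu_numw_Efun_succ_even q B hB,
      pu_numw_Efun_succ_odd q (A + B) (hA.add_even hB), hxy, mul_comm (q * q ^ A - 1),
      mul_comm (q ^ A)]
    exact pu_numw_oe q _ _ hq hy hx
  · rw [pu_numw_Efun_succ_odd q A hA, pu_numw_Efun_succ_odd q B hB,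
      pu_numw_Efun_succ_even q (A + B) (hA.add_odd hB), hxy]
    exact pu_numw_ee q _ _

/-- PIECE PU-NUMW.  Multiply out with `(q+1) * wfun q n = Efun q n` (`hdvd`): enough
`Efun q a * Efun q b ≤ (q+1) * Efun q (a+b-1)`; with `s = (-1)^(a-1), t = (-1)^(b-1)` this is
`t q^a + s q^b ≤ q^(a+b-1) + q s t`; four parity cases; `a = 1` or `b = 1` is an equality. -/
theorem wfun_mul_le (q a b : ℕ) (hq : 2 ≤ q) (ha : 1 ≤ a) (hb : 1 ≤ b)
    (hdvd : ∀ n, 1 ≤ n → (q + 1) ∣ Efun q n) :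
    wfun q a * wfun q b ≤ wfun q (a + b - 1) := by
  obtain ⟨A, rfl⟩ : ∃ A, a = A + 1 := ⟨a - 1, by omega⟩
  obtain ⟨B, rfl⟩ : ∃ B, b = B + 1 := ⟨b - 1, by omega⟩
  have hc : A + 1 + (B + 1) - 1 = A + B + 1 := by omega
  rw [hc]
  have eA : (q + 1) * wfun q (A + 1) = Efun q (A + 1) := Nat.mul_div_cancel' (hdvd _ (by omega))
  have eB : (q + 1) * wfun q (B + 1) = Efun q (B + 1) := Nat.mul_div_cancel' (hdvd _ (by omega))
  have eC : (q + 1) * wfun q (A + B + 1) = Efun q (A + B + 1) :=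
    Nat.mul_div_cancel' (hdvd _ (by omega))
  have key := pu_numw_key q A B hq
  have h : (q + 1) * (q + 1) * (wfun q (A + 1) * wfun q (B + 1)) ≤
      (q + 1) * (q + 1) * wfun q (A + B + 1) := by
    calc (q + 1) * (q + 1) * (wfun q (A + 1) * wfun q (B + 1))
        = ((q + 1) * wfun q (A + 1)) * ((q + 1) * wfun q (B + 1)) := by ring
      _ = Efun q (A + 1) * Efun q (B + 1) := by rw [eA, eB]
      _ ≤ (q + 1) * Efun q (A + B + 1) := key
      _ = (q + 1) * ((q + 1) * wfun q (A + B + 1)) := by rw [eC]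
      _ = (q + 1) * (q + 1) * wfun q (A + B + 1) := by ring
  exact Nat.le_of_mul_le_mul_left h (by positivity)

end Cfsg.Agent.Helper10.PU
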