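import Mathlib
import Cfsg.Agent.Lib.Helper2.OrthPeel
import Cfsg.Agent.Lib.Helper11.AnisoGroup
import Cfsg.Agent.Lib.Helper13.MatQuad
import Cfsg.Agent.S0306

set_option autoImplicit false
set_option linter.unusedSectionVars false

namespace Cfsg.Agent.Helper2.Orth

open QuadraticMap Matrix

variable {F : Type*} [Field F]

section reindex
variable {ι₁ ι₂ : Type} [Fintype ι₁] [DecidableEq ι₁] [Fintype ι₂] [DecidableEq ι₂]

theorem card_reindex (e : ι₁ ≃ ι₂) (Q : (ι₂ → F) → F) :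
    Nat.card (Cfsg.isometryGroup F (fun v : ι₁ → F => Q (v ∘ e.symm))) =
      Nat.card (Cfsg.isometryGroup F Q) := by
  obtain ⟨φ⟩ := Cfsg.Agent.Helper11.Aniso.nonempty_iso_reindex e Q
  exact Nat.card_congr φ.toEquiv

theorem Nsing_reindex (e : ι₁ ≃ ι₂) (Q : (ι₂ → F) → F) :
    Nsing (fun v : ι₁ → F => Q (v ∘ e.symm)) = Nsing Q := by
  unfold Nsing
  refine Nat.card_congr ?_
  refine
    { toFun := fun v => ⟨v.1 ∘ e.symm, v.2⟩
      invFun := fun w => ⟨w.1 ∘ e, by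
        have : (w.1 ∘ e) ∘ e.symm = w.1 := by ext i; simp
        show Q ((w.1 ∘ e) ∘ e.symm) = 0
        rw [this]; exact w.2⟩
      left_inv := fun v => by
        apply Subtype.ext
        ext i; simp
      right_inv := fun w => by
        apply Subtype.ext
        ext i; simp }

/-- one peeling step transported along a reindexing -/
theorem peel_step [Fintype F] {κ : Type} [Fintype κ] [DecidableEq κ] (e : ι₁ ≃ Fin 2 ⊕ κ)
    (Q₁ : (ι₁ → F) → F) (Q' : QuadraticForm F (κ → F)) (hQ' : (polarBilin Q').Nondegenerate)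
    (h : ∀ v, Q₁ v = hypSum Q' (v ∘ e.symm)) :
    Nsing Q₁ = Fintype.card F ^ Fintype.card κ * (Fintype.card F - 1) +
        Fintype.card F * Nsing (⇑Q') ∧
      Nat.card (Cfsg.isometryGroup F Q₁) =
        Nat.card (Cfsg.isometryGroup F (⇑Q')) * Fintype.card F ^ Fintype.card κ * (Nsing Q₁ - 1) := by
  have hQ₁ : Q₁ = fun v : ι₁ → F => (⇑(hypSum Q')) (v ∘ e.symm) := funext h
  rw [hQ₁, Nsing_reindex, card_reindex, Nsing_hypSum, card_isometryGroup_hypSum Q' hQ', Nsing_hypSum]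
  exact ⟨rfl, rfl⟩

end reindex


section equivs
variable (m : ℕ)

/-- peeling the first hyperbolic pair off `Fin (m+1) ⊕ Fin (m+1)` -/
def eP : Fin (m + 1) ⊕ Fin (m + 1) ≃ Fin 2 ⊕ (Fin m ⊕ Fin m) where
  toFun
    | Sum.inl i => Fin.cases (Sum.inl 0) (fun j => Sum.inr (Sum.inl j)) i
    | Sum.inr i => Fin.cases (Sum.inl 1) (fun j => Sum.inr (Sum.inr j)) i
  invFun
    | Sum.inl a => ![Sum.inl 0, Sum.inr 0] a
    | Sum.inr (Sum.inl j) => Sum.inl j.succ
    | Sum.inr (Sum.inr j) => Sum.inr j.succ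
  left_inv x := by
    rcases x with i | i
    · refine Fin.cases ?_ (fun j => ?_) i <;> simp
    · refine Fin.cases ?_ (fun j => ?_) i <;> simp
  right_inv x := by
    rcases x with a | j | j
    · fin_cases a <;> simp
    · simp
    · simp

/-- the same for the odd-dimensional index type -/
def eO : Unit ⊕ (Fin (m + 1) ⊕ Fin (m + 1)) ≃ Fin 2 ⊕ (Unit ⊕ (Fin m ⊕ Fin m)) where
  toFun
    | Sum.inl u => Sum.inr (Sum.inl u)
    | Sum.inr x => Sum.map id Sum.inr (eP m x)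
  invFun
    | Sum.inl a => Sum.inr ((eP m).symm (Sum.inl a))
    | Sum.inr (Sum.inl u) => Sum.inl u
    | Sum.inr (Sum.inr y) => Sum.inr ((eP m).symm (Sum.inr y))
  left_inv x := by
    rcases x with u | x
    · rfl
    · dsimp only
      rcases h : eP m x with a | y
      · show Sum.inr ((eP m).symm (Sum.inl a)) = Sum.inr x
        rw [← h, Equiv.symm_apply_apply]
      · show Sum.inr ((eP m).symm (Sum.inr y)) = Sum.inr x
        rw [← h, Equiv.symm_apply_apply]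
  right_inv x := by
    rcases x with a | u | y <;> simp

/-- the same for the minus-type index type -/
def eM : (Fin (m + 1) ⊕ Fin (m + 1)) ⊕ Fin 2 ≃ Fin 2 ⊕ ((Fin m ⊕ Fin m) ⊕ Fin 2) where
  toFun
    | Sum.inr u => Sum.inr (Sum.inr u)
    | Sum.inl x => Sum.map id Sum.inl (eP m x)
  invFun
    | Sum.inl a => Sum.inl ((eP m).symm (Sum.inl a))
    | Sum.inr (Sum.inr u) => Sum.inr u
    | Sum.inr (Sum.inl y) => Sum.inl ((eP m).symm (Sum.inr y))
  left_inv x := by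
    rcases x with x | u
    · dsimp only
      rcases h : eP m x with a | y
      · show Sum.inl ((eP m).symm (Sum.inl a)) = Sum.inl x
        rw [← h, Equiv.symm_apply_apply]
      · show Sum.inl ((eP m).symm (Sum.inr y)) = Sum.inl x
        rw [← h, Equiv.symm_apply_apply]
    · rfl
  right_inv x := by
    rcases x with a | y | u <;> simp

end equivs


section forms
open Cfsg.Agent.Helper13
variable (m : ℕ)

/-- upper triangular matrix of `x₀² + Σ x_i y_i` -/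
def oddMat (m : ℕ) (F : Type*) [Field F] :
    Matrix (Unit ⊕ (Fin m ⊕ Fin m)) (Unit ⊕ (Fin m ⊕ Fin m)) F :=
  fromBlocks 1 0 0 (plusMat m F)

theorem matQ_oddMat (v : Unit ⊕ (Fin m ⊕ Fin m) → F) :
    matQ (oddMat m F) v =
      v (Sum.inl ()) ^ 2 + ∑ i : Fin m, v (Sum.inr (Sum.inl i)) * v (Sum.inr (Sum.inr i)) := by
  rw [matQ_apply_sum]
  simp [oddMat, plusMat, Fintype.sum_sum_type, Matrix.one_apply, Finset.sum_ite_eq]
  ring

theorem oddMat_det : (oddMat m F + (oddMat m F)ᵀ).det = 2 * (-1) ^ m := by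
  unfold oddMat
  rw [fromBlocks_transpose, fromBlocks_add, plusMat_add_transpose]
  simp only [transpose_zero, add_zero, transpose_one]
  rw [det_fromBlocks_zero₂₁, hypBlock_det, Matrix.det_unique]
  simp
  norm_num

theorem quadFormPlus_eq : Cfsg.quadFormPlus m F = ⇑(matQ (plusMat m F)) := by
  funext v
  rw [matQ_plusMat]; rfl

theorem quadFormOdd_eq : Cfsg.quadFormOdd m F = ⇑(matQ (oddMat m F)) := by
  funext v
  rw [matQ_oddMat]; rfl

theorem quadFormMinus_eq (a b : F) : Cfsg.quadFormMinus m F a b = ⇑(matQ (minusMat m a b)) := by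
  funext v
  rw [matQ_minusMat]; rfl

theorem nondeg_plus : (polarBilin (matQ (plusMat m F))).Nondegenerate := by
  apply matQ_nondeg
  rw [plusMat_add_transpose, hypBlock_det]
  exact pow_ne_zero _ (neg_ne_zero.2 one_ne_zero)

theorem nondeg_odd (h2 : (2 : F) ≠ 0) : (polarBilin (matQ (oddMat m F))).Nondegenerate := by
  apply matQ_nondeg
  rw [oddMat_det]
  exact mul_ne_zero h2 (pow_ne_zero _ (neg_ne_zero.2 one_ne_zero))

theorem disc_ne_zero [Finite F] (a b : F)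
    (hab : ∀ z₁ z₂ : F, z₁ ^ 2 + a * z₁ * z₂ + b * z₂ ^ 2 = 0 → z₁ = 0 ∧ z₂ = 0) :
    4 * b - a ^ 2 ≠ 0 := by
  intro h0
  by_cases h2 : (2 : F) = 0
  · -- characteristic two: `a = 0` and `b` is a square
    have h4 : (4 : F) = 0 := by
      have : (4 : F) = 2 * 2 := by norm_num
      rw [this, h2, mul_zero]
    have ha : a = 0 := by
      rw [h4, zero_mul, zero_sub, neg_eq_zero] at h0
      exact pow_eq_zero_iff (two_ne_zero) |>.mp h0
    haveI : CharP F 2 := CharTwo.of_one_ne_zero_of_two_eq_zero one_ne_zero h2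
    obtain ⟨c, hc⟩ := FiniteField.isSquare_of_char_two (ringChar.eq F 2) b
    have := hab c 1 (by
      rw [ha, hc]
      linear_combination (c * c) * h2)
    exact one_ne_zero this.2
  · have := hab (-a) 2 (by linear_combination (1 : F) * h0)
    exact h2 this.2

theorem nondeg_minus [Finite F] (a b : F)
    (hab : ∀ z₁ z₂ : F, z₁ ^ 2 + a * z₁ * z₂ + b * z₂ ^ 2 = 0 → z₁ = 0 ∧ z₂ = 0) :
    (polarBilin (matQ (minusMat m a b))).Nondegenerate := by
  apply matQ_nondeg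
  rw [minusMat_det]
  exact mul_ne_zero (pow_ne_zero _ (neg_ne_zero.2 one_ne_zero)) (disc_ne_zero a b hab)

theorem plus_succ_eq (v : Fin (m + 1) ⊕ Fin (m + 1) → F) :
    Cfsg.quadFormPlus (m + 1) F v = hypSum (matQ (plusMat m F)) (v ∘ (eP m).symm) := by
  rw [hypSum_apply, matQ_plusMat]
  unfold Cfsg.quadFormPlus
  rw [Fin.sum_univ_succ]
  rfl

theorem odd_succ_eq (v : Unit ⊕ (Fin (m + 1) ⊕ Fin (m + 1)) → F) :
    Cfsg.quadFormOdd (m + 1) F v = hypSum (matQ (oddMat m F)) (v ∘ (eO m).symm) := by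
  rw [hypSum_apply, matQ_oddMat]
  unfold Cfsg.quadFormOdd
  rw [Fin.sum_univ_succ]
  have h1 : (v ∘ (eO m).symm) (Sum.inl 0) = v (Sum.inr (Sum.inl 0)) := rfl
  have h2 : (v ∘ (eO m).symm) (Sum.inl 1) = v (Sum.inr (Sum.inr 0)) := rfl
  have h3 : ((v ∘ (eO m).symm) ∘ Sum.inr) (Sum.inl ()) = v (Sum.inl ()) := rfl
  have h4 : ∀ i : Fin m, ((v ∘ (eO m).symm) ∘ Sum.inr) (Sum.inr (Sum.inl i)) =
      v (Sum.inr (Sum.inl i.succ)) := fun i => rfl
  have h5 : ∀ i : Fin m, ((v ∘ (eO m).symm) ∘ Sum.inr) (Sum.inr (Sum.inr i)) =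
      v (Sum.inr (Sum.inr i.succ)) := fun i => rfl
  rw [h1, h2, h3]
  simp only [h4, h5]
  ring

theorem minus_succ_eq (a b : F) (v : (Fin (m + 1) ⊕ Fin (m + 1)) ⊕ Fin 2 → F) :
    Cfsg.quadFormMinus (m + 1) F a b v = hypSum (matQ (minusMat m a b)) (v ∘ (eM m).symm) := by
  rw [hypSum_apply, matQ_minusMat]
  unfold Cfsg.quadFormMinus
  rw [Fin.sum_univ_succ]
  have h1 : (v ∘ (eM m).symm) (Sum.inl 0) = v (Sum.inl (Sum.inl 0)) := rfl
  have h2 : (v ∘ (eM m).symm) (Sum.inl 1) = v (Sum.inl (Sum.inr 0)) := rfl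
  have h3 : ∀ u : Fin 2, ((v ∘ (eM m).symm) ∘ Sum.inr) (Sum.inr u) = v (Sum.inr u) := fun u => rfl
  have h4 : ∀ i : Fin m, ((v ∘ (eM m).symm) ∘ Sum.inr) (Sum.inl (Sum.inl i)) =
      v (Sum.inl (Sum.inl i.succ)) := fun i => rfl
  have h5 : ∀ i : Fin m, ((v ∘ (eM m).symm) ∘ Sum.inr) (Sum.inl (Sum.inr i)) =
      v (Sum.inl (Sum.inr i.succ)) := fun i => rfl
  rw [h1, h2]
  simp only [h3, h4, h5]
  ring

end forms


section base
variable [Fintype F]

theorem Nsing_plus_zero : Nsing (Cfsg.quadFormPlus 0 F) = 1 := by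
  unfold Nsing
  haveI : Subsingleton {v : Fin 0 ⊕ Fin 0 → F // Cfsg.quadFormPlus 0 F v = 0} :=
    ⟨fun a b => Subtype.ext (funext fun i => by rcases i with i | i <;> exact i.elim0)⟩
  haveI : Nonempty {v : Fin 0 ⊕ Fin 0 → F // Cfsg.quadFormPlus 0 F v = 0} :=
    ⟨⟨0, by simp [Cfsg.quadFormPlus]⟩⟩
  exact Nat.card_unique

theorem card_plus_zero : Nat.card (Cfsg.isometryGroup F (Cfsg.quadFormPlus 0 F)) = 1 := by
  haveI : Subsingleton (GL (Fin 0 ⊕ Fin 0) F) :=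
    ⟨fun a b => Units.ext (Matrix.ext fun i => by rcases i with i | i <;> exact i.elim0)⟩
  exact Nat.card_unique

theorem Nsing_odd_zero : Nsing (Cfsg.quadFormOdd 0 F) = 1 := by
  unfold Nsing
  haveI : Subsingleton {v : Unit ⊕ (Fin 0 ⊕ Fin 0) → F // Cfsg.quadFormOdd 0 F v = 0} := by
    refine ⟨fun a b => Subtype.ext (funext fun i => ?_)⟩
    rcases i with u | i | i
    · have ha := a.2
      have hb := b.2
      simp only [Cfsg.quadFormOdd, Finset.univ_eq_empty, Finset.sum_empty, add_zero] at ha hb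
      rw [pow_eq_zero_iff (two_ne_zero)] at ha hb
      rw [ha, hb]
    · exact i.elim0
    · exact i.elim0
  haveI : Nonempty {v : Unit ⊕ (Fin 0 ⊕ Fin 0) → F // Cfsg.quadFormOdd 0 F v = 0} :=
    ⟨⟨0, by simp [Cfsg.quadFormOdd]⟩⟩
  exact Nat.card_unique

theorem Nsing_minus_zero (a b : F)
    (hab : ∀ z₁ z₂ : F, z₁ ^ 2 + a * z₁ * z₂ + b * z₂ ^ 2 = 0 → z₁ = 0 ∧ z₂ = 0) :
    Nsing (Cfsg.quadFormMinus 0 F a b) = 1 := by
  unfold Nsing
  haveI : Subsingleton {v : (Fin 0 ⊕ Fin 0) ⊕ Fin 2 → F // Cfsg.quadFormMinus 0 F a b v = 0} := by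
    have key : ∀ v : (Fin 0 ⊕ Fin 0) ⊕ Fin 2 → F, Cfsg.quadFormMinus 0 F a b v = 0 → v = 0 := by
      intro v hv
      simp only [Cfsg.quadFormMinus, Finset.univ_eq_empty, Finset.sum_empty, zero_add] at hv
      obtain ⟨h0, h1⟩ := hab _ _ hv
      funext i
      rcases i with (i | i) | u
      · exact i.elim0
      · exact i.elim0
      · fin_cases u
        · exact h0
        · exact h1
    exact ⟨fun x y => Subtype.ext (by rw [key x.1 x.2, key y.1 y.2])⟩
  haveI : Nonempty {v : (Fin 0 ⊕ Fin 0) ⊕ Fin 2 → F // Cfsg.quadFormMinus 0 F a b v = 0} :=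
    ⟨⟨0, by simp [Cfsg.quadFormMinus]⟩⟩
  exact Nat.card_unique

theorem card_minus_zero (a b : F)
    (hab : ∀ z₁ z₂ : F, z₁ ^ 2 + a * z₁ * z₂ + b * z₂ ^ 2 = 0 → z₁ = 0 ∧ z₂ = 0) :
    Nat.card (Cfsg.isometryGroup F (Cfsg.quadFormMinus 0 F a b)) = 2 * (Fintype.card F + 1) := by
  obtain ⟨φ⟩ := Cfsg.Agent.S0306.result (F := F) rfl a b hab
  rw [Nat.card_congr φ.toEquiv, DihedralGroup.nat_card]

end base


section oddbase
variable [Fintype F]

instance uniqueOddZero : Unique (Unit ⊕ (Fin 0 ⊕ Fin 0)) where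
  default := Sum.inl ()
  uniq := by
    rintro (u | i | i)
    · rfl
    · exact i.elim0
    · exact i.elim0

theorem mem_odd_zero_iff (g : GL (Unit ⊕ (Fin 0 ⊕ Fin 0)) F) :
    g ∈ Cfsg.isometryGroup F (Cfsg.quadFormOdd 0 F) ↔ g.1 default default ^ 2 = 1 := by
  have hQ : ∀ v : Unit ⊕ (Fin 0 ⊕ Fin 0) → F, Cfsg.quadFormOdd 0 F v = v default ^ 2 := by
    intro v
    simp only [Cfsg.quadFormOdd, Finset.univ_eq_empty, Finset.sum_empty, add_zero]
    rfl
  have hmv : ∀ v : Unit ⊕ (Fin 0 ⊕ Fin 0) → F, (g.1 *ᵥ v) default = g.1 default default * v default := by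
    intro v
    simp [Matrix.mulVec, dotProduct]
  constructor
  · intro h
    have := h (fun _ => 1) (fun _ => 1)
    simp only [Units.coeHom_apply] at this
    rw [hQ, hQ, hmv] at this
    simpa using this
  · intro h u _
    show Cfsg.quadFormOdd 0 F (g.1 *ᵥ u) = Cfsg.quadFormOdd 0 F u
    rw [hQ, hQ, hmv, mul_pow, h, one_mul]

theorem card_odd_zero (h2 : (2 : F) ≠ 0) :
    Nat.card (Cfsg.isometryGroup F (Cfsg.quadFormOdd 0 F)) = 2 := by
  classical
  have hne : (1 : F) ≠ -1 := by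
    intro h
    apply h2
    linear_combination h
  have hcard : Nat.card {c : F // c ^ 2 = 1} = 2 := by
    rw [Nat.card_eq_fintype_card, Fintype.card_subtype]
    have : (Finset.univ.filter fun c : F => c ^ 2 = 1) = {1, -1} := by
      ext c
      simp only [Finset.mem_filter, Finset.mem_univ, true_and, Finset.mem_insert,
        Finset.mem_singleton]
      exact sq_eq_one_iff
    rw [this, Finset.card_pair hne]
  rw [← hcard]
  refine Nat.card_congr ?_
  refine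
    { toFun := fun g => ⟨g.1.1 default default, (mem_odd_zero_iff g.1).mp g.2⟩
      invFun := fun c => ⟨⟨Matrix.of fun _ _ => c.1, Matrix.of fun _ _ => c.1, ?_, ?_⟩, ?_⟩
      left_inv := ?_
      right_inv := ?_ }
  · ext i j
    have := c.2
    simp [Matrix.mul_apply, Matrix.one_apply, Subsingleton.elim i j]
    rw [← pow_two]; exact this
  · ext i j
    have := c.2
    simp [Matrix.mul_apply, Matrix.one_apply, Subsingleton.elim i j]
    rw [← pow_two]; exact this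
  · rw [mem_odd_zero_iff]
    exact c.2
  · intro g
    apply Subtype.ext
    apply Units.ext
    ext i j
    rw [Subsingleton.elim i default, Subsingleton.elim j default]
    rfl
  · intro c
    rfl

end oddbase


section recursion
variable [Fintype F]
open Cfsg.Agent.Helper13

theorem plus_step (m : ℕ) :
    Nsing (Cfsg.quadFormPlus (m + 1) F) = Fintype.card F ^ (2 * m) * (Fintype.card F - 1) +
        Fintype.card F * Nsing (Cfsg.quadFormPlus m F) ∧
      Nat.card (Cfsg.isometryGroup F (Cfsg.quadFormPlus (m + 1) F)) =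
        Nat.card (Cfsg.isometryGroup F (Cfsg.quadFormPlus m F)) * Fintype.card F ^ (2 * m) *
          (Nsing (Cfsg.quadFormPlus (m + 1) F) - 1) := by
  have h := peel_step (eP m) (Cfsg.quadFormPlus (m + 1) F) (matQ (plusMat m F)) (nondeg_plus m)
    (plus_succ_eq m)
  rw [← quadFormPlus_eq] at h
  have hc : Fintype.card (Fin m ⊕ Fin m) = 2 * m := by
    rw [Fintype.card_sum, Fintype.card_fin, two_mul]
  rw [hc] at h
  exact h

theorem odd_step (h2 : (2 : F) ≠ 0) (m : ℕ) :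
    Nsing (Cfsg.quadFormOdd (m + 1) F) = Fintype.card F ^ (2 * m + 1) * (Fintype.card F - 1) +
        Fintype.card F * Nsing (Cfsg.quadFormOdd m F) ∧
      Nat.card (Cfsg.isometryGroup F (Cfsg.quadFormOdd (m + 1) F)) =
        Nat.card (Cfsg.isometryGroup F (Cfsg.quadFormOdd m F)) * Fintype.card F ^ (2 * m + 1) *
          (Nsing (Cfsg.quadFormOdd (m + 1) F) - 1) := by
  have h := peel_step (eO m) (Cfsg.quadFormOdd (m + 1) F) (matQ (oddMat m F)) (nondeg_odd m h2)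
    (odd_succ_eq m)
  rw [← quadFormOdd_eq] at h
  have hc : Fintype.card (Unit ⊕ (Fin m ⊕ Fin m)) = 2 * m + 1 := by
    rw [Fintype.card_sum, Fintype.card_sum, Fintype.card_fin, Fintype.card_unit]
    ring
  rw [hc] at h
  exact h

theorem minus_step (a b : F)
    (hab : ∀ z₁ z₂ : F, z₁ ^ 2 + a * z₁ * z₂ + b * z₂ ^ 2 = 0 → z₁ = 0 ∧ z₂ = 0) (m : ℕ) :
    Nsing (Cfsg.quadFormMinus (m + 1) F a b) =
        Fintype.card F ^ (2 * m + 2) * (Fintype.card F - 1) +
        Fintype.card F * Nsing (Cfsg.quadFormMinus m F a b) ∧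
      Nat.card (Cfsg.isometryGroup F (Cfsg.quadFormMinus (m + 1) F a b)) =
        Nat.card (Cfsg.isometryGroup F (Cfsg.quadFormMinus m F a b)) *
          Fintype.card F ^ (2 * m + 2) * (Nsing (Cfsg.quadFormMinus (m + 1) F a b) - 1) := by
  have h := peel_step (eM m) (Cfsg.quadFormMinus (m + 1) F a b) (matQ (minusMat m a b))
    (nondeg_minus m a b hab) (minus_succ_eq m a b)
  rw [← quadFormMinus_eq] at h
  have hc : Fintype.card ((Fin m ⊕ Fin m) ⊕ Fin 2) = 2 * m + 2 := by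
    rw [Fintype.card_sum, Fintype.card_sum, Fintype.card_fin, Fintype.card_fin]
    ring
  rw [hc] at h
  exact h

end recursion


section arithmetic

theorem plus_N (q : ℕ) (hq : 1 ≤ q) (N : ℕ → ℕ) (h0 : N 0 = 1)
    (hN : ∀ m, N (m + 1) = q ^ (2 * m) * (q - 1) + q * N m) (m : ℕ) :
    N m * q + q ^ m = q ^ (2 * m) + q ^ (m + 1) := by
  obtain ⟨r, rfl⟩ : ∃ r, q = r + 1 := ⟨q - 1, by omega⟩
  induction m with
  | zero => rw [h0]; ring
  | succ m ih =>
    rw [hN, Nat.add_sub_cancel]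
    have e1 : (r + 1) ^ (2 * (m + 1)) = (r + 1) ^ (2 * m) * (r + 1) * (r + 1) := by
      rw [show 2 * (m + 1) = 2 * m + 1 + 1 by ring, pow_succ, pow_succ]
    have e2 : (r + 1) ^ (m + 1 + 1) = (r + 1) ^ (m + 1) * (r + 1) := pow_succ _ _
    have e3 : (r + 1) ^ (m + 1) = (r + 1) ^ m * (r + 1) := pow_succ _ _
    rw [e1, e2]
    rw [e3] at ih ⊢
    nlinarith [ih]

theorem plus_N_sub (q : ℕ) (hq : 1 ≤ q) (N : ℕ → ℕ) (h0 : N 0 = 1)
    (hN : ∀ m, N (m + 1) = q ^ (2 * m) * (q - 1) + q * N m) (m : ℕ) :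
    N (m + 1) - 1 = (q ^ (m + 1) - 1) * (q ^ m + 1) := by
  have h := plus_N q hq N h0 hN (m + 1)
  have hqpos : 0 < q := hq
  have e1 : q ^ (2 * (m + 1)) = q ^ (m + 1) * q ^ (m + 1) := by rw [← pow_add]; congr 1; ring
  have e2 : q ^ (m + 1 + 1) = q ^ (m + 1) * q := pow_succ _ _
  have e3 : q ^ (m + 1) = q ^ m * q := pow_succ _ _
  obtain ⟨Y, hY⟩ : ∃ Y, q ^ (m + 1) = Y + 1 := ⟨q ^ (m + 1) - 1, by
    have : 0 < q ^ (m + 1) := pow_pos hqpos _
    omega⟩
  rw [e1, e2] at h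
  -- h : N (m+1) * q + q^(m+1) = q^(m+1) * q^(m+1) + q^(m+1) * q
  have h' : (N (m + 1) + q ^ m) * q = (q ^ m * q ^ (m + 1) + q ^ (m + 1)) * q := by
    rw [e3] at h ⊢
    nlinarith [h]
  have h'' := Nat.eq_of_mul_eq_mul_right hqpos h'
  rw [hY] at h'' ⊢
  rw [Nat.add_sub_cancel]
  have : N (m + 1) = q ^ m * Y + Y + 1 := by nlinarith [h'']
  rw [this, Nat.add_sub_cancel]
  ring


theorem sq_sub_one' (x : ℕ) (hx : 1 ≤ x) : (x - 1) * (x + 1) = x * x - 1 := by
  obtain ⟨y, rfl⟩ : ∃ y, x = y + 1 := ⟨x - 1, by omega⟩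
  rw [Nat.add_sub_cancel]
  have : (y + 1) * (y + 1) = y * (y + 1 + 1) + 1 := by ring
  rw [this, Nat.add_sub_cancel]

theorem plus_P (q : ℕ) (hq : 1 ≤ q) (N P : ℕ → ℕ) (h0 : N 0 = 1) (hP0 : P 0 = 1)
    (hN : ∀ m, N (m + 1) = q ^ (2 * m) * (q - 1) + q * N m)
    (hP : ∀ m, P (m + 1) = P m * q ^ (2 * m) * (N (m + 1) - 1)) (k : ℕ) :
    P (k + 1) = 2 * q ^ ((k + 1) * k) * (q ^ (k + 1) - 1) *
      ∏ i ∈ Finset.range k, (q ^ (2 * (i + 1)) - 1) := by
  have hqpos : 0 < q := hq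
  induction k with
  | zero =>
    rw [hP, hP0, plus_N_sub q hq N h0 hN]
    simp
    ring
  | succ k ih =>
    rw [hP, ih, plus_N_sub q hq N h0 hN, Finset.prod_range_succ]
    have hx : 1 ≤ q ^ (k + 1) := Nat.one_le_pow _ _ hqpos
    have e1 : q ^ (2 * (k + 1)) = q ^ (k + 1) * q ^ (k + 1) := by rw [← pow_add]; congr 1; ring
    have e2 : q ^ (2 * (k + 1)) - 1 = (q ^ (k + 1) - 1) * (q ^ (k + 1) + 1) := by
      rw [e1, sq_sub_one' _ hx]
    have e3 : q ^ ((k + 1 + 1) * (k + 1)) = q ^ ((k + 1) * k) * q ^ (2 * (k + 1)) := by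
      rw [← pow_add]; congr 1; ring
    rw [e2, e3]
    ring


theorem odd_N (q : ℕ) (hq : 1 ≤ q) (N : ℕ → ℕ) (h0 : N 0 = 1)
    (hN : ∀ m, N (m + 1) = q ^ (2 * m + 1) * (q - 1) + q * N m) (m : ℕ) :
    N m = q ^ (2 * m) := by
  obtain ⟨r, rfl⟩ : ∃ r, q = r + 1 := ⟨q - 1, by omega⟩
  induction m with
  | zero => rw [h0]; simp
  | succ m ih =>
    rw [hN, ih, Nat.add_sub_cancel]
    have e1 : (r + 1) ^ (2 * (m + 1)) = (r + 1) ^ (2 * m) * (r + 1) * (r + 1) := by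
      rw [show 2 * (m + 1) = 2 * m + 1 + 1 by ring, pow_succ, pow_succ]
    have e2 : (r + 1) ^ (2 * m + 1) = (r + 1) ^ (2 * m) * (r + 1) := pow_succ _ _
    rw [e1, e2]
    ring

theorem odd_P (q : ℕ) (hq : 1 ≤ q) (N P : ℕ → ℕ) (h0 : N 0 = 1) (hP0 : P 0 = 2)
    (hN : ∀ m, N (m + 1) = q ^ (2 * m + 1) * (q - 1) + q * N m)
    (hP : ∀ m, P (m + 1) = P m * q ^ (2 * m + 1) * (N (m + 1) - 1)) (m : ℕ) :
    P m = 2 * q ^ (m ^ 2) * ∏ i ∈ Finset.range m, (q ^ (2 * (i + 1)) - 1) := by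
  induction m with
  | zero => rw [hP0]; simp
  | succ m ih =>
    rw [hP, ih, odd_N q hq N h0 hN, Finset.prod_range_succ]
    have e3 : q ^ ((m + 1) ^ 2) = q ^ (m ^ 2) * q ^ (2 * m + 1) := by
      rw [← pow_add]; congr 1; ring
    rw [e3]
    ring

theorem minus_N (q : ℕ) (hq : 1 ≤ q) (N : ℕ → ℕ) (h0 : N 0 = 1)
    (hN : ∀ m, N (m + 1) = q ^ (2 * m + 2) * (q - 1) + q * N m) (m : ℕ) :
    N m + q ^ (m + 1) = q ^ (2 * m + 1) + q ^ m := by
  obtain ⟨r, rfl⟩ : ∃ r, q = r + 1 := ⟨q - 1, by omega⟩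
  induction m with
  | zero => rw [h0]; ring
  | succ m ih =>
    rw [hN, Nat.add_sub_cancel]
    have e1 : (r + 1) ^ (2 * (m + 1) + 1) = (r + 1) ^ (2 * m + 1) * (r + 1) * (r + 1) := by
      rw [show 2 * (m + 1) + 1 = 2 * m + 1 + 1 + 1 by ring, pow_succ, pow_succ]
    have e2 : (r + 1) ^ (m + 1 + 1) = (r + 1) ^ (m + 1) * (r + 1) := pow_succ _ _
    have e4 : (r + 1) ^ (2 * m + 2) = (r + 1) ^ (2 * m + 1) * (r + 1) := pow_succ _ _
    have e3 : (r + 1) ^ (m + 1) = (r + 1) ^ m * (r + 1) := pow_succ _ _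
    have ih' : (N m + (r + 1) ^ (m + 1)) * (r + 1) =
        ((r + 1) ^ (2 * m + 1) + (r + 1) ^ m) * (r + 1) := by rw [ih]
    rw [e1, e2, e4]
    rw [e3] at ih' ⊢
    linarith [ih']

theorem minus_N_sub (q : ℕ) (hq : 1 ≤ q) (N : ℕ → ℕ) (h0 : N 0 = 1)
    (hN : ∀ m, N (m + 1) = q ^ (2 * m + 2) * (q - 1) + q * N m) (m : ℕ) :
    N (m + 1) - 1 = (q ^ (m + 2) + 1) * (q ^ (m + 1) - 1) := by
  have h := minus_N q hq N h0 hN (m + 1)
  have hqpos : 0 < q := hq
  have e1 : q ^ (2 * (m + 1) + 1) = q ^ (m + 1) * q ^ (m + 1) * q := by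
    rw [← pow_add, ← pow_succ]; congr 1; ring
  have e2 : q ^ (m + 1 + 1) = q ^ (m + 1) * q := pow_succ _ _
  obtain ⟨Y, hY⟩ : ∃ Y, q ^ (m + 1) = Y + 1 := ⟨q ^ (m + 1) - 1, by
    have : 0 < q ^ (m + 1) := pow_pos hqpos _
    omega⟩
  rw [e1, e2] at h
  rw [show m + 2 = m + 1 + 1 by ring, e2, hY] at ⊢
  rw [hY] at h
  rw [Nat.add_sub_cancel]
  have : N (m + 1) = q * Y * Y + q * Y + Y + 1 := by nlinarith [h]
  rw [this, Nat.add_sub_cancel]
  ring

theorem minus_P (q : ℕ) (hq : 1 ≤ q) (N P : ℕ → ℕ) (h0 : N 0 = 1) (hP0 : P 0 = 2 * (q + 1))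
    (hN : ∀ m, N (m + 1) = q ^ (2 * m + 2) * (q - 1) + q * N m)
    (hP : ∀ m, P (m + 1) = P m * q ^ (2 * m + 2) * (N (m + 1) - 1)) (m : ℕ) :
    P m = 2 * q ^ ((m + 1) * m) * (q ^ (m + 1) + 1) *
      ∏ i ∈ Finset.range m, (q ^ (2 * (i + 1)) - 1) := by
  have hqpos : 0 < q := hq
  induction m with
  | zero => rw [hP0]; simp
  | succ m ih =>
    rw [hP, ih, minus_N_sub q hq N h0 hN, Finset.prod_range_succ]
    have hx : 1 ≤ q ^ (m + 1) := Nat.one_le_pow _ _ hqpos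
    have e1 : q ^ (2 * (m + 1)) = q ^ (m + 1) * q ^ (m + 1) := by rw [← pow_add]; congr 1; ring
    have e2 : q ^ (2 * (m + 1)) - 1 = (q ^ (m + 1) - 1) * (q ^ (m + 1) + 1) := by
      rw [e1, sq_sub_one' _ hx]
    have e3 : q ^ ((m + 1 + 1) * (m + 1)) = q ^ ((m + 1) * m) * q ^ (2 * m + 2) := by
      rw [← pow_add]; congr 1; ring
    rw [e2, e3]
    ring


end arithmetic

section final
variable [Fintype F]

theorem one_le_card : 1 ≤ Fintype.card F := Fintype.card_pos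

/-- the order of `O⁺_{2m}(q)` (index shifted: `m = k + 1`) -/
theorem card_plus_succ (k : ℕ) :
    Nat.card (Cfsg.isometryGroup F (Cfsg.quadFormPlus (k + 1) F)) =
      2 * Fintype.card F ^ ((k + 1) * k) * (Fintype.card F ^ (k + 1) - 1) *
        ∏ i ∈ Finset.range k, (Fintype.card F ^ (2 * (i + 1)) - 1) :=
  plus_P (Fintype.card F) one_le_card (fun m => Nsing (Cfsg.quadFormPlus m F))
    (fun m => Nat.card (Cfsg.isometryGroup F (Cfsg.quadFormPlus m F)))
    Nsing_plus_zero card_plus_zero (fun m => (plus_step m).1) (fun m => (plus_step m).2) k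

/-- the number of singular vectors of the plus-type form -/
theorem Nsing_plus (m : ℕ) :
    Nsing (Cfsg.quadFormPlus m F) * Fintype.card F + Fintype.card F ^ m =
      Fintype.card F ^ (2 * m) + Fintype.card F ^ (m + 1) :=
  plus_N (Fintype.card F) one_le_card (fun m => Nsing (Cfsg.quadFormPlus m F))
    Nsing_plus_zero (fun m => (plus_step m).1) m

/-- the order of `O_{2m+1}(q)`, `q` odd -/
theorem card_odd (h2 : (2 : F) ≠ 0) (m : ℕ) :
    Nat.card (Cfsg.isometryGroup F (Cfsg.quadFormOdd m F)) =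
      2 * Fintype.card F ^ (m ^ 2) * ∏ i ∈ Finset.range m, (Fintype.card F ^ (2 * (i + 1)) - 1) :=
  odd_P (Fintype.card F) one_le_card (fun m => Nsing (Cfsg.quadFormOdd m F))
    (fun m => Nat.card (Cfsg.isometryGroup F (Cfsg.quadFormOdd m F)))
    Nsing_odd_zero (card_odd_zero h2) (fun m => (odd_step h2 m).1) (fun m => (odd_step h2 m).2) m

/-- the number of singular vectors of the odd-dimensional form -/
theorem Nsing_odd (h2 : (2 : F) ≠ 0) (m : ℕ) :
    Nsing (Cfsg.quadFormOdd m F) = Fintype.card F ^ (2 * m) :=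
  odd_N (Fintype.card F) one_le_card (fun m => Nsing (Cfsg.quadFormOdd m F))
    Nsing_odd_zero (fun m => (odd_step h2 m).1) m

/-- the order of `O⁻_{2m+2}(q)` -/
theorem card_minus (a b : F)
    (hab : ∀ z₁ z₂ : F, z₁ ^ 2 + a * z₁ * z₂ + b * z₂ ^ 2 = 0 → z₁ = 0 ∧ z₂ = 0) (m : ℕ) :
    Nat.card (Cfsg.isometryGroup F (Cfsg.quadFormMinus m F a b)) =
      2 * Fintype.card F ^ ((m + 1) * m) * (Fintype.card F ^ (m + 1) + 1) *
        ∏ i ∈ Finset.range m, (Fintype.card F ^ (2 * (i + 1)) - 1) :=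
  minus_P (Fintype.card F) one_le_card (fun m => Nsing (Cfsg.quadFormMinus m F a b))
    (fun m => Nat.card (Cfsg.isometryGroup F (Cfsg.quadFormMinus m F a b)))
    (Nsing_minus_zero a b hab) (card_minus_zero a b hab)
    (fun m => (minus_step a b hab m).1) (fun m => (minus_step a b hab m).2) m

/-- the number of singular vectors of the minus-type form -/
theorem Nsing_minus (a b : F)
    (hab : ∀ z₁ z₂ : F, z₁ ^ 2 + a * z₁ * z₂ + b * z₂ ^ 2 = 0 → z₁ = 0 ∧ z₂ = 0) (m : ℕ) :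
    Nsing (Cfsg.quadFormMinus m F a b) + Fintype.card F ^ (m + 1) =
      Fintype.card F ^ (2 * m + 1) + Fintype.card F ^ m :=
  minus_N (Fintype.card F) one_le_card (fun m => Nsing (Cfsg.quadFormMinus m F a b))
    (Nsing_minus_zero a b hab) (fun m => (minus_step a b hab m).1) m

end final

end Cfsg.Agent.Helper2.Orth
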