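import Mathlib
import Cfsg.Agent.Lib.Helper2.SL2Sylow
import Cfsg.Agent.Lib.Helper2.CardSL

set_option autoImplicit false

namespace Cfsg.Agent.Helper2.P27

open Matrix

abbrev SL27 := Matrix.SpecialLinearGroup (Fin 2) (ZMod 7)
abbrev SL32 := Matrix.SpecialLinearGroup (Fin 3) (ZMod 2)

def Amat : Matrix (Fin 3) (Fin 3) (ZMod 2) := !![0, 0, 1; 0, 1, 1; 1, 1, 0]
def Wmat : Matrix (Fin 3) (Fin 3) (ZMod 2) := !![0, 0, 1; 1, 1, 1; 1, 0, 0]
def H2 : Matrix (Fin 3) (Fin 3) (ZMod 2) := !![1, 0, 1; 0, 1, 1; 1, 0, 0]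
def H3 : Matrix (Fin 3) (Fin 3) (ZMod 2) := !![0, 0, 1; 1, 1, 1; 1, 0, 1]

def Hmat (t : ZMod 7) : Matrix (Fin 3) (Fin 3) (ZMod 2) :=
  if t.val = 2 ∨ t.val = 5 then H2 else if t.val = 3 ∨ t.val = 4 then H3 else 1

/-- the explicit map `SL₂(7) → GL₃(2)` given by a Bruhat normal form -/
def rhoFun (g : SL27) : Matrix (Fin 3) (Fin 3) (ZMod 2) :=
  if g.1 1 0 = 0 then Hmat (g.1 0 0) * Amat ^ (g.1 0 1 * (g.1 0 0)⁻¹).val
  else Amat ^ (g.1 0 0 * (g.1 1 0)⁻¹).val * Wmat * Hmat (g.1 1 0) *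
    Amat ^ (g.1 1 1 * (g.1 1 0)⁻¹).val

def Usl : SL27 := ⟨!![1, 1; 0, 1], by decide⟩
def Wsl : SL27 := ⟨!![0, -1; 1, 0], by decide⟩

set_option maxRecDepth 100000 in
theorem rho_one : rhoFun 1 = 1 := by decide +kernel

set_option maxRecDepth 100000 in
theorem rho_det : ∀ g : SL27, (rhoFun g).det = 1 := by decide +kernel

set_option maxRecDepth 100000 in
theorem rho_mulU : ∀ g : SL27, rhoFun (g * Usl) = rhoFun g * Amat := by decide +kernel

set_option maxRecDepth 100000 in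
theorem rho_mulW : ∀ g : SL27, rhoFun (g * Wsl) = rhoFun g * Wmat := by decide +kernel

set_option maxRecDepth 100000 in
theorem rho_ker : ∀ g : SL27,
    rhoFun g = 1 ↔ (g.1 0 1 = 0 ∧ g.1 1 0 = 0 ∧ g.1 0 0 = g.1 1 1) := by
  decide +kernel

set_option maxRecDepth 100000 in
theorem rho_U : rhoFun Usl = Amat := by decide +kernel

set_option maxRecDepth 100000 in
theorem rho_W : rhoFun Wsl = Wmat := by decide +kernel

set_option maxRecDepth 100000 in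
theorem Usl_pow_coe : ∀ b : ZMod 7, (Usl ^ b.val).1 = !![1, b; 0, 1] := by decide +kernel

theorem Wsl_coe_one_zero : Wsl.1 1 0 = 1 := by decide

end Cfsg.Agent.Helper2.P27
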