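import Mathlib
import Cfsg.Agent.Lib.Helper2.PSL27Data

set_option autoImplicit false

namespace Cfsg.Agent.Helper2.P27

open Matrix

/-- the set of right multipliers along which `rhoFun` is multiplicative -/
def mulSet : Subgroup SL27 where
  carrier := {h | ∀ g, rhoFun (g * h) = rhoFun g * rhoFun h}
  one_mem' := by
    intro g
    rw [mul_one, rho_one, mul_one]
  mul_mem' := by
    intro a b ha hb g
    rw [← mul_assoc, hb, ha, hb a, mul_assoc]
  inv_mem' := by
    intro a ha g
    have h1 : rhoFun a⁻¹ * rhoFun a = 1 := by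
      rw [← ha, inv_mul_cancel, rho_one]
    have h2 : rhoFun a * rhoFun a⁻¹ = 1 := mul_eq_one_comm.mp h1
    have h3 : rhoFun (g * a⁻¹) * rhoFun a = rhoFun g := by
      rw [← ha, inv_mul_cancel_right]
    calc rhoFun (g * a⁻¹) = rhoFun (g * a⁻¹) * (rhoFun a * rhoFun a⁻¹) := by rw [h2, mul_one]
      _ = rhoFun g * rhoFun a⁻¹ := by rw [← mul_assoc, h3]

theorem Usl_mem : Usl ∈ mulSet := fun g => by rw [rho_mulU, rho_U]

theorem Wsl_mem : Wsl ∈ mulSet := fun g => by rw [rho_mulW, rho_W]

instance fact_prime_seven : Fact (Nat.Prime 7) := ⟨by norm_num⟩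

theorem u_eq (b : ZMod 7) : SL2S.u b = Usl ^ b.val := by
  apply Subtype.ext
  rw [SL2S.u_coe, Usl_pow_coe]

theorem mulSet_eq_top : mulSet = ⊤ := by
  refine SL2S.closure_eq_top mulSet Wsl ?_ ?_ ?_
  · rw [Wsl_coe_one_zero]; exact one_ne_zero
  · intro b
    rw [u_eq]
    exact mulSet.pow_mem Usl_mem _
  · intro b
    rw [u_eq]
    exact mulSet.mul_mem (mulSet.mul_mem Wsl_mem (mulSet.pow_mem Usl_mem _)) (mulSet.inv_mem Wsl_mem)

theorem rho_mul (g h : SL27) : rhoFun (g * h) = rhoFun g * rhoFun h := by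
  have : h ∈ mulSet := by rw [mulSet_eq_top]; trivial
  exact this g

/-- the homomorphism `SL₂(7) → SL₃(2)` -/
def rho : SL27 →* SL32 where
  toFun g := ⟨rhoFun g, rho_det g⟩
  map_one' := Subtype.ext rho_one
  map_mul' g h := Subtype.ext (rho_mul g h)

theorem rho_eq_one_iff (g : SL27) : rho g = 1 ↔ g ∈ Subgroup.center SL27 := by
  have h1 : rho g = 1 ↔ rhoFun g = 1 := by
    constructor
    · intro h; exact congrArg Subtype.val h
    · intro h; exact Subtype.ext h
  rw [h1, rho_ker, Matrix.SpecialLinearGroup.mem_center_iff]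
  constructor
  · rintro ⟨h01, h10, h00⟩
    have hdet : g.1 0 0 * g.1 1 1 - g.1 0 1 * g.1 1 0 = 1 := by
      have := g.2
      rwa [Matrix.det_fin_two] at this
    refine ⟨g.1 0 0, ?_, ?_⟩
    · rw [Fintype.card_fin, pow_two]
      rw [h01, ← h00] at hdet
      simpa using hdet
    · ext i j
      fin_cases i <;> fin_cases j <;> simp [h01, h10, h00]
  · rintro ⟨r, -, hr⟩
    have : ∀ i j, (Matrix.scalar (Fin 2) r) i j = g.1 i j := fun i j => by rw [hr]
    refine ⟨?_, ?_, ?_⟩
    · rw [← this]; simp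
    · rw [← this]; simp
    · rw [← this, ← this]; simp

theorem r_eq_one : ∀ r : ZMod 2, r ^ 3 = 1 → r = 1 := by decide

theorem center_SL32 : Subgroup.center SL32 = ⊥ := by
  rw [eq_bot_iff]
  intro A hA
  rw [Matrix.SpecialLinearGroup.mem_center_iff] at hA
  obtain ⟨r, hr, hA⟩ := hA
  have hr1 : r = 1 := by
    rw [Fintype.card_fin] at hr
    exact r_eq_one r hr
  rw [Subgroup.mem_bot]
  apply Subtype.ext
  rw [← hA, hr1]
  simp

instance fact_prime_two : Fact (Nat.Prime 2) := ⟨Nat.prime_two⟩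

theorem card_PSL27 : Nat.card (ProjectiveSpecialLinearGroup (Fin 2) (ZMod 7)) = 168 := by
  have h := card_PSL_mul (F := ZMod 7) 2 (by norm_num)
  rw [ZMod.card, Fin.prod_univ_two] at h
  norm_num at h
  rw [Nat.card_eq_fintype_card]
  omega

theorem card_PSL32 : Nat.card (ProjectiveSpecialLinearGroup (Fin 3) (ZMod 2)) = 168 := by
  have h := card_PSL_mul (F := ZMod 2) 3 (by norm_num)
  rw [ZMod.card, Fin.prod_univ_three] at h
  norm_num at h
  rw [Nat.card_eq_fintype_card]
  omega

/-- the induced homomorphism `PSL₂(7) → PSL₃(2)` -/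
noncomputable def rhoBar : ProjectiveSpecialLinearGroup (Fin 2) (ZMod 7) →*
    ProjectiveSpecialLinearGroup (Fin 3) (ZMod 2) :=
  QuotientGroup.map (Subgroup.center SL27) (Subgroup.center SL32) rho (by
    intro g hg
    rw [Subgroup.mem_comap, (rho_eq_one_iff g).mpr hg]
    exact Subgroup.one_mem _)

theorem rhoBar_injective : Function.Injective rhoBar := by
  rw [injective_iff_map_eq_one]
  intro x hx
  induction x using QuotientGroup.induction_on with
  | H g =>
    rw [rhoBar, QuotientGroup.map_mk, QuotientGroup.eq_one_iff, center_SL32,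
      Subgroup.mem_bot, rho_eq_one_iff] at hx
    exact (QuotientGroup.eq_one_iff g).mpr hx

theorem rhoBar_bijective : Function.Bijective rhoBar := by
  have : Finite (ProjectiveSpecialLinearGroup (Fin 2) (ZMod 7)) :=
    Nat.finite_of_card_ne_zero (by rw [card_PSL27]; norm_num)
  have : Finite (ProjectiveSpecialLinearGroup (Fin 3) (ZMod 2)) :=
    Nat.finite_of_card_ne_zero (by rw [card_PSL32]; norm_num)
  rw [Nat.bijective_iff_injective_and_card]
  exact ⟨rhoBar_injective, by rw [card_PSL27, card_PSL32]⟩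

/-- `PSL₂(7) ≃* PSL₃(2)` over the prime fields -/
noncomputable def psl27Equiv : ProjectiveSpecialLinearGroup (Fin 2) (ZMod 7) ≃*
    ProjectiveSpecialLinearGroup (Fin 3) (ZMod 2) :=
  MulEquiv.ofBijective rhoBar rhoBar_bijective

end Cfsg.Agent.Helper2.P27
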