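import Mathlib
import Cfsg.Agent.Lib.Helper2.SympBasic

set_option autoImplicit false

namespace Cfsg.Agent.Helper2.Symp

open Matrix
open scoped Cfsg.Agent.Helper2.Symp

variable {m : ℕ} {F : Type*} [Field F]

/-- the group generated by the transvections along vectors of `U` -/
def tvGroup (U : Submodule F (Fin m ⊕ Fin m → F)) :
    Subgroup (Matrix.symplecticGroup (Fin m) F) :=
  Subgroup.closure {g | ∃ x ∈ U, ∃ c : F, g = tv x c}

/-- the form restricted to `U` is nondegenerate -/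
def IsND (U : Submodule F (Fin m ⊕ Fin m → F)) : Prop :=
  ∀ u ∈ U, u ≠ 0 → ∃ x ∈ U, Bf u x ≠ 0

variable {U : Submodule F (Fin m ⊕ Fin m → F)}

theorem tv_mem_tvGroup {x : Fin m ⊕ Fin m → F} (hx : x ∈ U) (c : F) : tv x c ∈ tvGroup U :=
  Subgroup.subset_closure ⟨x, hx, c, rfl⟩

theorem tvGroup_mono {U U' : Submodule F (Fin m ⊕ Fin m → F)} (h : U ≤ U') :
    tvGroup U ≤ tvGroup U' := by
  apply Subgroup.closure_mono
  rintro g ⟨x, hx, c, rfl⟩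
  exact ⟨x, h hx, c, rfl⟩

theorem smul_mem_of_mem_tvGroup {g : Matrix.symplecticGroup (Fin m) F} (hg : g ∈ tvGroup U) :
    ∀ y ∈ U, g • y ∈ U ∧ g⁻¹ • y ∈ U := by
  induction hg using Subgroup.closure_induction with
  | mem g hg =>
    obtain ⟨x, hx, c, rfl⟩ := hg
    intro y hy
    constructor
    · rw [tv_smul]
      exact U.add_mem hy (U.smul_mem _ hx)
    · rw [tv_inv, tv_smul]
      exact U.add_mem hy (U.smul_mem _ hx)
  | one =>
    intro y hy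
    simp only [one_smul, inv_one]
    exact ⟨hy, hy⟩
  | mul g h _ _ ihg ihh =>
    intro y hy
    constructor
    · rw [mul_smul]
      exact (ihg _ (ihh y hy).1).1
    · rw [_root_.mul_inv_rev, mul_smul]
      exact (ihh _ (ihg y hy).2).2
  | inv g _ ih =>
    intro y hy
    rw [inv_inv]
    exact ⟨(ih y hy).2, (ih y hy).1⟩

/-- elements of `tvGroup U` fix the vectors orthogonal to `U` -/
theorem smul_eq_of_mem_tvGroup {g : Matrix.symplecticGroup (Fin m) F} (hg : g ∈ tvGroup U)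
    (y : Fin m ⊕ Fin m → F) (hy : ∀ x ∈ U, Bf y x = 0) : g • y = y := by
  induction hg using Subgroup.closure_induction with
  | mem g hg =>
    obtain ⟨x, hx, c, rfl⟩ := hg
    rw [tv_smul, hy x hx, mul_zero, zero_smul, add_zero]
  | one => rw [one_smul]
  | mul g h _ _ ihg ihh => rw [mul_smul, ihh, ihg]
  | inv g _ ih =>
    rw [inv_smul_eq_iff, ih]

theorem exists_avoid (hU : IsND U) {u w : Fin m ⊕ Fin m → F} (hu : u ∈ U) (hw : w ∈ U)
    (hu0 : u ≠ 0) (hw0 : w ≠ 0) : ∃ x ∈ U, Bf u x ≠ 0 ∧ Bf w x ≠ 0 := by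
  obtain ⟨x₁, hx₁, h₁⟩ := hU u hu hu0
  obtain ⟨x₂, hx₂, h₂⟩ := hU w hw hw0
  by_cases h3 : Bf w x₁ = 0
  · by_cases h4 : Bf u x₂ = 0
    · refine ⟨x₁ + x₂, U.add_mem hx₁ hx₂, ?_, ?_⟩
      · rw [Bf_add_right, h4, add_zero]; exact h₁
      · rw [Bf_add_right, h3, zero_add]; exact h₂
    · exact ⟨x₂, hx₂, h4, h₂⟩
  · exact ⟨x₁, hx₁, h₁, h3⟩

theorem trans_vec_aux {u w : Fin m ⊕ Fin m → F} (hu : u ∈ U) (hw : w ∈ U)
    (h : Bf u w ≠ 0) : ∃ g ∈ tvGroup U, g • u = w := by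
  refine ⟨tv (w - u) (Bf u w)⁻¹, tv_mem_tvGroup (U.sub_mem hw hu) _, ?_⟩
  rw [tv_smul, Bf_sub_right, Bf_self, sub_zero, inv_mul_cancel₀ h, one_smul]
  abel

/-- the transvection group of a nondegenerate subspace is transitive on its nonzero vectors -/
theorem trans_vec (hU : IsND U) {u w : Fin m ⊕ Fin m → F} (hu : u ∈ U) (hw : w ∈ U)
    (hu0 : u ≠ 0) (hw0 : w ≠ 0) : ∃ g ∈ tvGroup U, g • u = w := by
  by_cases h : Bf u w = 0
  · obtain ⟨x, hx, h1, h2⟩ := exists_avoid hU hu hw hu0 hw0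
    obtain ⟨g₁, hg₁, e₁⟩ := trans_vec_aux hu hx h1
    have h2' : Bf x w ≠ 0 := by rw [Bf_skew]; exact neg_ne_zero.2 h2
    obtain ⟨g₂, hg₂, e₂⟩ := trans_vec_aux hx hw h2'
    exact ⟨g₂ * g₁, (tvGroup U).mul_mem hg₂ hg₁, by rw [mul_smul, e₁, e₂]⟩
  · exact trans_vec_aux hu hw h

theorem trans_fix_aux {u v v' : Fin m ⊕ Fin m → F} (hv : v ∈ U) (hv' : v' ∈ U)
    (h1 : Bf u v = 1) (h2 : Bf u v' = 1) (h : Bf v v' ≠ 0) :
    ∃ g ∈ tvGroup U, g • u = u ∧ g • v = v' := by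
  refine ⟨tv (v' - v) (Bf v v')⁻¹, tv_mem_tvGroup (U.sub_mem hv' hv) _, ?_, ?_⟩
  · rw [tv_smul, Bf_sub_right, h1, h2, sub_self, mul_zero, zero_smul, add_zero]
  · rw [tv_smul, Bf_sub_right, Bf_self, sub_zero, inv_mul_cancel₀ h, one_smul]
    abel

theorem trans_fix {u v v' : Fin m ⊕ Fin m → F} (hu : u ∈ U) (hv : v ∈ U) (hv' : v' ∈ U)
    (h1 : Bf u v = 1) (h2 : Bf u v' = 1) :
    ∃ g ∈ tvGroup U, g • u = u ∧ g • v = v' := by
  by_cases h : Bf v v' = 0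
  · have hy : u + v ∈ U := U.add_mem hu hv
    have hy1 : Bf u (u + v) = 1 := by rw [Bf_add_right, Bf_self, zero_add, h1]
    have hy2 : Bf v (u + v) ≠ 0 := by
      rw [Bf_add_right, Bf_self, add_zero, Bf_skew, h1]
      exact neg_ne_zero.2 one_ne_zero
    have hy3 : Bf (u + v) v' ≠ 0 := by
      rw [Bf_add_left, h2, h, add_zero]
      exact one_ne_zero
    obtain ⟨g₁, hg₁, a₁, b₁⟩ := trans_fix_aux hv hy h1 hy1 hy2
    obtain ⟨g₂, hg₂, a₂, b₂⟩ := trans_fix_aux hy hv' hy1 h2 hy3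
    exact ⟨g₂ * g₁, (tvGroup U).mul_mem hg₂ hg₁, by rw [mul_smul, a₁, a₂],
      by rw [mul_smul, b₁, b₂]⟩
  · exact trans_fix_aux hv hv' h1 h2 h

/-- the transvection group of a nondegenerate subspace is transitive on its hyperbolic pairs -/
theorem trans_pair (hU : IsND U) {u v u' v' : Fin m ⊕ Fin m → F} (hu : u ∈ U) (hv : v ∈ U)
    (hu' : u' ∈ U) (hv' : v' ∈ U) (h : Bf u v = 1) (h' : Bf u' v' = 1) :
    ∃ g ∈ tvGroup U, g • u = u' ∧ g • v = v' := by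
  have hu0 : u ≠ 0 := by
    rintro rfl
    rw [Bf_zero_left] at h
    exact zero_ne_one h
  have hu0' : u' ≠ 0 := by
    rintro rfl
    rw [Bf_zero_left] at h'
    exact zero_ne_one h'
  obtain ⟨g₁, hg₁, e₁⟩ := trans_vec hU hu hu' hu0 hu0'
  have hv₁ : g₁ • v ∈ U := (smul_mem_of_mem_tvGroup hg₁ v hv).1
  have h₁ : Bf u' (g₁ • v) = 1 := by rw [← e₁, Bf_smul_smul, h]
  obtain ⟨g₂, hg₂, a₂, b₂⟩ := trans_fix hu' hv₁ hv' h₁ h'
  exact ⟨g₂ * g₁, (tvGroup U).mul_mem hg₂ hg₁, by rw [mul_smul, e₁, a₂], by rw [mul_smul, b₂]⟩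

theorem isND_top : IsND (⊤ : Submodule F (Fin m ⊕ Fin m → F)) := by
  intro u _ hu
  obtain ⟨x, hx⟩ := exists_Bf_ne_zero hu
  exact ⟨x, Submodule.mem_top, hx⟩

end Cfsg.Agent.Helper2.Symp
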