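import Mathlib
import Cfsg.Agent.Lib.Helper2.SympTrans

set_option autoImplicit false

namespace Cfsg.Agent.Helper2.Symp

open Matrix
open scoped Cfsg.Agent.Helper2.Symp

variable {m : ℕ} {F : Type*} [Field F]

/-- the vectors vanishing on the first `k` coordinate pairs -/
def stageU (m : ℕ) (F : Type*) [Field F] (k : ℕ) : Submodule F (Fin m ⊕ Fin m → F) where
  carrier := {x | ∀ i : Fin m, i.val < k → x (Sum.inl i) = 0 ∧ x (Sum.inr i) = 0}
  add_mem' := by
    intro x y hx hy i hi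
    simp only [Pi.add_apply, (hx i hi).1, (hx i hi).2, (hy i hi).1, (hy i hi).2, add_zero,
      and_self]
  zero_mem' := by
    intro i _
    simp
  smul_mem' := by
    intro c x hx i hi
    simp only [Pi.smul_apply, (hx i hi).1, (hx i hi).2, smul_zero, and_self]

theorem mem_stageU_iff {k : ℕ} {x : Fin m ⊕ Fin m → F} :
    x ∈ stageU m F k ↔ ∀ i : Fin m, i.val < k → x (Sum.inl i) = 0 ∧ x (Sum.inr i) = 0 := Iff.rfl

theorem mem_stageU_iff_Bf {k : ℕ} {x : Fin m ⊕ Fin m → F} :
    x ∈ stageU m F k ↔ ∀ i : Fin m, i.val < k → Bf x (eV i) = 0 ∧ Bf x (fV i) = 0 := by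
  rw [mem_stageU_iff]
  apply forall_congr'
  intro i
  apply imp_congr_right
  intro _
  rw [Bf_eV_right, Bf_fV_right, neg_eq_zero]
  exact and_comm

theorem eV_mem_stageU {k : ℕ} {i : Fin m} (h : k ≤ i.val) : (eV i : Fin m ⊕ Fin m → F) ∈ stageU m F k := by
  intro j hj
  have hne : j ≠ i := by
    rintro rfl
    omega
  simp [eV, hne]

theorem fV_mem_stageU {k : ℕ} {i : Fin m} (h : k ≤ i.val) : (fV i : Fin m ⊕ Fin m → F) ∈ stageU m F k := by
  intro j hj
  have hne : j ≠ i := by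
    rintro rfl
    omega
  simp [fV, hne]

theorem isND_stageU (k : ℕ) : IsND (stageU m F k) := by
  intro u hu hu0
  have : ∃ j, u j ≠ 0 := by
    by_contra hcon
    push Not at hcon
    exact hu0 (funext hcon)
  obtain ⟨j, hj⟩ := this
  rcases j with i | i
  · have hki : k ≤ i.val := by
      by_contra hlt
      push Not at hlt
      exact hj (hu i hlt).1
    refine ⟨fV i, fV_mem_stageU hki, ?_⟩
    rw [Bf_fV_right]
    exact neg_ne_zero.2 hj
  · have hki : k ≤ i.val := by
      by_contra hlt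
      push Not at hlt
      exact hj (hu i hlt).2
    refine ⟨eV i, eV_mem_stageU hki, ?_⟩
    rw [Bf_eV_right]
    exact hj

/-- the pointwise stabilizer of the first `k` hyperbolic pairs of the standard basis -/
def stageG (m : ℕ) (F : Type*) [Field F] (k : ℕ) : Subgroup (Matrix.symplecticGroup (Fin m) F) where
  carrier := {g | ∀ i : Fin m, i.val < k → g • (eV i : Fin m ⊕ Fin m → F) = eV i ∧
    g • (fV i : Fin m ⊕ Fin m → F) = fV i}
  mul_mem' := by
    intro g h hg hh i hi
    rw [mul_smul, mul_smul, (hh i hi).1, (hh i hi).2]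
    exact hg i hi
  one_mem' := by
    intro i _
    simp
  inv_mem' := by
    intro g hg i hi
    rw [inv_smul_eq_iff, inv_smul_eq_iff, (hg i hi).1, (hg i hi).2]
    exact ⟨rfl, rfl⟩

theorem mem_stageG_iff {k : ℕ} {g : Matrix.symplecticGroup (Fin m) F} :
    g ∈ stageG m F k ↔ ∀ i : Fin m, i.val < k → g • (eV i : Fin m ⊕ Fin m → F) = eV i ∧
      g • (fV i : Fin m ⊕ Fin m → F) = fV i := Iff.rfl

theorem stageG_zero : stageG m F 0 = ⊤ := by
  rw [eq_top_iff]
  intro g _ i hi
  omega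

theorem tvGroup_stageU_le (k : ℕ) : tvGroup (stageU m F k) ≤ stageG m F k := by
  intro g hg i hi
  constructor
  · apply smul_eq_of_mem_tvGroup hg
    intro x hx
    rw [Bf_eV_left, (hx i hi).2, neg_zero]
  · apply smul_eq_of_mem_tvGroup hg
    intro x hx
    rw [Bf_fV_left, (hx i hi).1]

theorem stageG_smul_mem {k : ℕ} {g : Matrix.symplecticGroup (Fin m) F} (hg : g ∈ stageG m F k)
    {x : Fin m ⊕ Fin m → F} (hx : x ∈ stageU m F k) : g • x ∈ stageU m F k := by
  rw [mem_stageU_iff_Bf] at hx ⊢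
  intro i hi
  have h1 := hg i hi
  constructor
  · rw [← h1.1, Bf_smul_smul]; exact (hx i hi).1
  · rw [← h1.2, Bf_smul_smul]; exact (hx i hi).2

theorem stageG_antitone {k l : ℕ} (h : k ≤ l) : stageG m F l ≤ stageG m F k := by
  intro g hg i hi
  exact hg i (lt_of_lt_of_le hi h)

theorem stageG_eq_bot {k : ℕ} (h : m ≤ k) : stageG m F k = ⊥ := by
  rw [eq_bot_iff]
  intro g hg
  rw [Subgroup.mem_bot]
  apply Subtype.ext
  rw [OneMemClass.coe_one]
  ext a b
  have hcol : (g : Matrix (Fin m ⊕ Fin m) (Fin m ⊕ Fin m) F) *ᵥ Pi.single b 1 = Pi.single b 1 := by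
    rcases b with i | i
    · exact (hg i (lt_of_lt_of_le i.2 h)).1
    · exact (hg i (lt_of_lt_of_le i.2 h)).2
  have := congrFun hcol a
  rw [Matrix.mulVec_single_one, Matrix.col_apply] at this
  rw [Matrix.one_apply, this, Pi.single_apply]

/-- the key step: from stage `k` to stage `k + 1` -/
theorem exists_mul_mem_stageG_succ {k : ℕ} (hk : k < m) {g : Matrix.symplecticGroup (Fin m) F}
    (hg : g ∈ stageG m F k) :
    ∃ h ∈ tvGroup (stageU m F k), h * g ∈ stageG m F (k + 1) := by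
  set i : Fin m := ⟨k, hk⟩ with hi
  have hf : (fV i : Fin m ⊕ Fin m → F) ∈ stageU m F k := fV_mem_stageU (le_refl _)
  have he : (eV i : Fin m ⊕ Fin m → F) ∈ stageU m F k := eV_mem_stageU (le_refl _)
  have h1 : Bf (g • (fV i : Fin m ⊕ Fin m → F)) (g • (eV i : Fin m ⊕ Fin m → F)) = 1 := by
    rw [Bf_smul_smul, Bf_fV_eV]
  obtain ⟨h, hh, e1, e2⟩ := trans_pair (isND_stageU k) (stageG_smul_mem hg hf)
    (stageG_smul_mem hg he) hf he h1 (Bf_fV_eV i)
  refine ⟨h, hh, ?_⟩
  intro j hj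
  rcases Nat.lt_succ_iff_lt_or_eq.1 hj with hj' | hj'
  · have h2 := tvGroup_stageU_le k hh j hj'
    have h3 := hg j hj'
    rw [mul_smul, mul_smul, h3.1, h3.2]
    exact h2
  · have hji : j = i := Fin.ext hj'
    rw [hji, mul_smul, mul_smul, e1, e2]
    exact ⟨rfl, rfl⟩

theorem stageG_le_tvGroup_top : ∀ (j k : ℕ), k + j = m →
    stageG m F k ≤ tvGroup (⊤ : Submodule F (Fin m ⊕ Fin m → F)) := by
  intro j
  induction j with
  | zero =>
    intro k hk
    rw [stageG_eq_bot (by omega)]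
    exact bot_le
  | succ j ih =>
    intro k hk g hg
    obtain ⟨h, hh, hhg⟩ := exists_mul_mem_stageG_succ (by omega : k < m) hg
    have h1 : h * g ∈ tvGroup (⊤ : Submodule F (Fin m ⊕ Fin m → F)) :=
      ih (k + 1) (by omega) hhg
    have h2 : h ∈ tvGroup (⊤ : Submodule F (Fin m ⊕ Fin m → F)) := tvGroup_mono le_top hh
    have h3 : g = h⁻¹ * (h * g) := by group
    rw [h3]
    exact Subgroup.mul_mem _ (Subgroup.inv_mem _ h2) h1

/-- the symplectic group is generated by the symplectic transvections -/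
theorem tvGroup_top_eq_top : tvGroup (⊤ : Submodule F (Fin m ⊕ Fin m → F)) = ⊤ := by
  rw [eq_top_iff, ← stageG_zero]
  exact stageG_le_tvGroup_top m 0 (by omega)

end Cfsg.Agent.Helper2.Symp
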