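import Mathlib
import Cfsg.Agent.Lib.Helper2.OrthGen

set_option autoImplicit false
set_option linter.unusedSectionVars false
set_option linter.unusedSimpArgs false

namespace Cfsg.Agent.Helper2.Orth

open QuadraticMap Matrix Cfsg.Agent.Helper28.Siegel Cfsg.Agent.Helper28.WittQuad
  Cfsg.Agent.Helper17.Spinor

variable {F : Type*} [Field F] {ι : Type} [Fintype ι] [DecidableEq ι] {Q : QuadraticForm F (ι → F)}

/-- a subgroup containing the Eichler elements `eichG z s` with `s` singular contains all of
them -/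
theorem eichG_mem_of_singular (hQ : (polarBilin Q).Nondegenerate) {e f : Fin 2 → (ι → F)}
    (fr : HypFrame Q e f) (H : Subgroup (Cfsg.isometryGroup F (⇑Q)))
    (hH : ∀ z s : ι → F, Q z = 0 → Q s = 0 → polar Q z s = 0 → eichG Q z s ∈ H)
    {z b : ι → F} (hz : Q z = 0) (hzb : polar Q z b = 0) : eichG Q z b ∈ H := by
  by_cases hz0 : z = 0
  · rw [hz0, eichG_zero_left]
    exact Subgroup.one_mem _
  have hb := mem_span_singular hQ fr hz0 hzb
  have key : ∀ b ∈ Submodule.span F {s : ι → F | Q s = 0 ∧ polar Q z s = 0},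
      polar Q z b = 0 ∧ ∀ c : F, eichG Q z (c • b) ∈ H := by
    intro b hb
    induction hb using Submodule.span_induction with
    | mem s hs =>
      refine ⟨hs.2, fun c => ?_⟩
      exact hH z (c • s) hz (by rw [QuadraticMap.map_smul, hs.1, smul_zero])
        (by rw [polar_smul_right, hs.2, smul_zero])
    | zero =>
      refine ⟨polar_zero_right _ _, fun c => ?_⟩
      rw [smul_zero, eichG_zero]
      exact Subgroup.one_mem _
    | add x y _ _ hx hy =>
      refine ⟨by rw [polar_add_right, hx.1, hy.1, add_zero], fun c => ?_⟩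
      rw [smul_add, ← eichG_mul hz (by rw [polar_smul_right, hx.1, smul_zero])
        (by rw [polar_smul_right, hy.1, smul_zero])]
      exact Subgroup.mul_mem _ (hx.2 c) (hy.2 c)
    | smul a x _ hx =>
      refine ⟨by rw [polar_smul_right, hx.1, smul_zero], fun c => ?_⟩
      rw [smul_smul]
      exact hx.2 _
  have := (key b hb).2 1
  rwa [one_smul] at this

theorem frame_e_ne_zero {n : ℕ} {e f : Fin n → (ι → F)} (fr : HypFrame Q e f) (i : Fin n) :
    e i ≠ 0 := by
  have := fr.std_ne_zero i 0
  rwa [zero_smul, add_zero] at this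

theorem frame_indep_e {n : ℕ} {e f : Fin n → (ι → F)} (fr : HypFrame Q e f) {i j : Fin n}
    (hij : i ≠ j) : LinearIndependent F ![e i, e j] := by
  rw [LinearIndependent.pair_iff' (frame_e_ne_zero fr i)]
  intro a ha
  have h2 : polar Q (a • e i) (f j) = polar Q (e j) (f j) := by rw [ha]
  rw [polar_smul_left, fr.ef, fr.ef, if_neg hij] at h2
  simp at h2

/-- singular Eichler elements are commutators (three hyperbolic pairs) -/
theorem eichG_singular_mem_commutator (hQ : (polarBilin Q).Nondegenerate)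
    {e f : Fin 3 → (ι → F)} (fr : HypFrame Q e f) (z s : ι → F) (hz : Q z = 0) (hs : Q s = 0)
    (hzs : polar Q z s = 0) : eichG Q z s ∈ ⁅eichGroup Q, eichGroup Q⁆ := by
  by_cases hz0 : z = 0
  · rw [hz0, eichG_zero_left]
    exact Subgroup.one_mem _
  by_cases hdep : ∃ c : F, s = c • z
  · obtain ⟨c, rfl⟩ := hdep
    rw [eichG_self_smul hz]
    exact Subgroup.one_mem _
  push Not at hdep
  have hind : LinearIndependent F ![z, s] := by
    rw [LinearIndependent.pair_iff' hz0]
    intro a ha
    exact hdep a ha.symm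
  obtain ⟨g, hg0, hg1⟩ := exists_smul_pair hQ hind (frame_indep_e fr (i := 0) (j := 1) (by decide))
    (by rw [hz, fr.qe]) (by rw [hs, fr.qe]) (by rw [hzs, fr.ee])
  set p := g⁻¹ • e 2 with hp
  set p' := g⁻¹ • f 2 with hp'
  have hQp : Q p = 0 := by rw [hp, Q_smul Q, fr.qe]
  have hQp' : Q p' = 0 := by rw [hp', Q_smul Q, fr.qf]
  have hzp : polar Q z p = 0 := by
    rw [← polar_smul_smul Q g, hg0, hp, smul_inv_smul, fr.ee]
  have hzp' : polar Q z p' = 0 := by
    rw [← polar_smul_smul Q g, hg0, hp', smul_inv_smul, fr.ef]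
    simp
  have hsp : polar Q s p = 0 := by
    rw [← polar_smul_smul Q g, hg1, hp, smul_inv_smul, fr.ee]
  have hsp' : polar Q s p' = 0 := by
    rw [← polar_smul_smul Q g, hg1, hp', smul_inv_smul, fr.ef]
    simp
  have hpp' : polar Q p p' = 1 := by
    rw [hp, hp', polar_smul_smul Q, fr.ef]
    simp
  have hp's : polar Q p' s = 0 := by rw [polar_comm, hsp']
  have key : eichG Q z s =
      eichG Q z p * eichG Q p' s * (eichG Q z p)⁻¹ * (eichG Q p' s)⁻¹ := by
    rw [eichG_inv hz hzp, eichG_inv hQp' hp's]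
    apply ext_smul
    intro x
    have e1 : ∀ y, eichG Q p' (-s) • y = eich Q p' (-s) y := fun y =>
      eichG_smul hQp' (by rw [polar_neg_right, hp's, neg_zero]) y
    have e2 : ∀ y, eichG Q z (-p) • y = eich Q z (-p) y := fun y =>
      eichG_smul hz (by rw [polar_neg_right, hzp, neg_zero]) y
    have e3 : ∀ y, eichG Q p' s • y = eich Q p' s y := fun y => eichG_smul hQp' hp's y
    have e4 : ∀ y, eichG Q z p • y = eich Q z p y := fun y => eichG_smul hz hzp y
    have e5 : eichG Q z s • x = eich Q z s x := eichG_smul hz hzs x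
    rw [mul_smul, mul_smul, mul_smul, e1, e2, e3, e4, e5,
      eich_comm_rel hz hs hQp hQp' hzs hzp hzp' hsp hsp' hpp']
  rw [key, ← commutatorElement_def]
  exact Subgroup.commutator_mem_commutator (eichG_mem hz hzp) (eichG_mem hQp' hp's)

/-- the Eichler group is perfect (three hyperbolic pairs) -/
theorem eichGroup_perfect (hQ : (polarBilin Q).Nondegenerate) {e f : Fin 3 → (ι → F)}
    (fr : HypFrame Q e f) : ⁅eichGroup Q, eichGroup Q⁆ = eichGroup Q := by
  apply le_antisymm
  · rw [Subgroup.commutator_le]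
    intro g₁ h₁ g₂ h₂
    rw [commutatorElement_def]
    exact Subgroup.mul_mem _ (Subgroup.mul_mem _ (Subgroup.mul_mem _ h₁ h₂)
      (Subgroup.inv_mem _ h₁)) (Subgroup.inv_mem _ h₂)
  · have fr2 : HypFrame Q (e ∘ Fin.castSucc) (f ∘ Fin.castSucc) :=
      fr.comp Fin.castSucc (Fin.castSucc_injective 2)
    conv_lhs => unfold eichGroup
    rw [Subgroup.closure_le]
    rintro g ⟨z, b, hz, hzb, rfl⟩
    exact eichG_mem_of_singular hQ fr2 _ (eichG_singular_mem_commutator hQ fr) hz hzb

theorem commutator_eichGroup_eq_top (hQ : (polarBilin Q).Nondegenerate)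
    {e f : Fin 3 → (ι → F)} (fr : HypFrame Q e f) : commutator (eichGroup Q) = ⊤ := by
  have h1 := Subgroup.map_subtype_commutator (eichGroup Q)
  rw [eichGroup_perfect hQ fr] at h1
  apply Subgroup.map_injective (eichGroup Q).subtype_injective
  rw [h1, ← MonoidHom.range_eq_map, Subgroup.range_subtype]

end Cfsg.Agent.Helper2.Orth
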