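import Mathlib
import Cfsg.Agent.Lib.Helper2.OrthPerfect

set_option autoImplicit false
set_option linter.unusedSectionVars false
set_option linter.unusedSimpArgs false

namespace Cfsg.Agent.Helper2.Orth

open QuadraticMap Matrix MulAction Cfsg.Agent.Helper28.Siegel Cfsg.Agent.Helper28.WittQuad
  Cfsg.Agent.Helper17.Spinor
open scoped LinearAlgebra.Projectivization Pointwise

variable {F : Type*} [Field F] {ι : Type} [Fintype ι] [DecidableEq ι] (Q : QuadraticForm F (ι → F))

theorem Q_rep_eq_zero_iff {v : ι → F} (hv : v ≠ 0) :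
    Q (Projectivization.mk F v hv).rep = 0 ↔ Q v = 0 := by
  have h1 : Projectivization.mk F (Projectivization.mk F v hv).rep
      (Projectivization.rep_nonzero _) = Projectivization.mk F v hv :=
    Projectivization.mk_rep _
  rw [Projectivization.mk_eq_mk_iff'] at h1
  obtain ⟨a, ha⟩ := h1
  have ha0 : a ≠ 0 := by
    rintro rfl
    rw [zero_smul] at ha
    exact Projectivization.rep_nonzero _ ha.symm
  rw [← ha, QuadraticMap.map_smul, smul_eq_mul]
  constructor
  · intro h
    rcases mul_eq_zero.1 h with h | h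
    · exact absurd (mul_self_eq_zero.1 h) ha0
    · exact h
  · intro h
    rw [h, mul_zero]

theorem smul_ne_zero' (g : Cfsg.isometryGroup F (⇑Q)) {v : ι → F} (hv : v ≠ 0) : g • v ≠ 0 :=
  fun h => hv ((smul_eq_zero_iff' Q g v).mp h)

theorem smul_mk_iso (g : Cfsg.isometryGroup F (⇑Q)) {v : ι → F} (hv : v ≠ 0) :
    g • Projectivization.mk F v hv = Projectivization.mk F (g • v) (smul_ne_zero' Q g hv) := rfl

/-- the singular points, as a set with an action of the Eichler group -/
def singSub : SubMulAction (eichGroup Q) (ℙ F (ι → F)) where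
  carrier := {p | Q p.rep = 0}
  smul_mem' := by
    intro t p hp
    induction p using Projectivization.ind with
    | h v hv =>
      rw [Set.mem_ofPred_eq, Q_rep_eq_zero_iff] at hp
      show Q ((t : Cfsg.isometryGroup F (⇑Q)) • Projectivization.mk F v hv).rep = 0
      rw [smul_mk_iso, Q_rep_eq_zero_iff, Q_smul Q, hp]

instance singSubMulAction : MulAction (eichGroup Q) (singSub Q) := (singSub Q).mulAction

variable {Q}

/-- the singular point spanned by a non-zero singular vector -/
def pt (x : ι → F) (hx0 : x ≠ 0) (hx : Q x = 0) : singSub Q :=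
  ⟨Projectivization.mk F x hx0, (Q_rep_eq_zero_iff Q hx0).2 hx⟩

theorem smul_pt (t : eichGroup Q) {x : ι → F} (hx0 : x ≠ 0) (hx : Q x = 0) :
    t • pt x hx0 hx = pt ((t : Cfsg.isometryGroup F (⇑Q)) • x) (smul_ne_zero' Q _ hx0)
      (by rw [Q_smul Q, hx]) := rfl

theorem pt_eq_of_smul {x y : ι → F} (hx0 : x ≠ 0) (hx : Q x = 0) (hy0 : y ≠ 0) (hy : Q y = 0)
    (a : F) (h : y = a • x) : pt y hy0 hy = pt x hx0 hx := by
  apply Subtype.ext
  show Projectivization.mk F y hy0 = Projectivization.mk F x hx0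
  rw [Projectivization.mk_eq_mk_iff']
  exact ⟨a, h.symm⟩

theorem exists_smul_of_pt_eq {x y : ι → F} (hx0 : x ≠ 0) (hx : Q x = 0) (hy0 : y ≠ 0)
    (hy : Q y = 0) (h : pt y hy0 hy = pt x hx0 hx) : ∃ a : F, y = a • x := by
  have h1 : Projectivization.mk F y hy0 = Projectivization.mk F x hx0 := congrArg Subtype.val h
  rw [Projectivization.mk_eq_mk_iff'] at h1
  obtain ⟨a, ha⟩ := h1
  exact ⟨a, ha.symm⟩

theorem exists_pt (p : singSub Q) : ∃ (x : ι → F) (hx0 : x ≠ 0) (hx : Q x = 0), p = pt x hx0 hx := by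
  obtain ⟨p, hp⟩ := p
  induction p using Projectivization.ind with
  | h v hv =>
    exact ⟨v, hv, (Q_rep_eq_zero_iff Q hv).1 hp, rfl⟩

theorem isPretransitive_singSub (hQ : (polarBilin Q).Nondegenerate) {e f : Fin 2 → (ι → F)}
    (fr : HypFrame Q e f) : IsPretransitive (eichGroup Q) (singSub Q) := by
  constructor
  intro p p'
  obtain ⟨x, hx0, hx, rfl⟩ := exists_pt p
  obtain ⟨y, hy0, hy, rfl⟩ := exists_pt p'
  obtain ⟨t, ht, htx⟩ := eich_trans_singular hQ fr hx0 hx hy0 hy
  refine ⟨⟨t, ht⟩, ?_⟩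
  rw [smul_pt]
  simp only [htx]

/-- the Eichler element `E(x, y - z)` fixes `x` and maps `y` to `z` -/
theorem eich_fix_move {x y z : ι → F} (hx : Q x = 0) (hy : Q y = 0) (hz : Q z = 0)
    (hxy : polar Q x y = 1) (hxz : polar Q x z = 1) :
    polar Q x (y - z) = 0 ∧ eich Q x (y - z) x = x ∧ eich Q x (y - z) y = z := by
  have h0 : polar Q x (y - z) = 0 := by rw [polar_sub_right, hxy, hxz, sub_self]
  refine ⟨h0, ?_, ?_⟩
  · rw [eich_apply, polar_comm Q (y - z) x, h0, polar_self_of_singular Q hx]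
    simp
  · have h1 : Q (y - z) = -polar Q y z := by
      have : y - z = y + (-1 : F) • z := by module
      rw [this, Q_add', QuadraticMap.map_smul, hy, hz, polar_smul_right]
      simp
    have h2 : polar Q (y - z) y = -polar Q y z := by
      rw [polar_sub_left, polar_self_of_singular Q hy, polar_comm Q z y]
      ring
    rw [eich_apply, h1, h2, hxy]
    module

/-- within a block: from a non-orthogonal pair to every point non-orthogonal to the first -/
theorem block_step (hQ : (polarBilin Q).Nondegenerate) {B : Set (singSub Q)}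
    (hB : IsBlock (eichGroup Q) B) {x y z : ι → F} (hx0 : x ≠ 0) (hx : Q x = 0) (hy0 : y ≠ 0)
    (hy : Q y = 0) (hz0 : z ≠ 0) (hz : Q z = 0) (hxB : pt x hx0 hx ∈ B) (hyB : pt y hy0 hy ∈ B)
    (hxy : polar Q x y ≠ 0) (hxz : polar Q x z ≠ 0) : pt z hz0 hz ∈ B := by
  set y' := (polar Q x y)⁻¹ • y with hy'
  set z' := (polar Q x z)⁻¹ • z with hz'
  have hQy' : Q y' = 0 := by rw [hy', QuadraticMap.map_smul, hy, smul_zero]
  have hQz' : Q z' = 0 := by rw [hz', QuadraticMap.map_smul, hz, smul_zero]
  have h1 : polar Q x y' = 1 := by rw [hy', polar_smul_right, smul_eq_mul, inv_mul_cancel₀ hxy]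
  have h2 : polar Q x z' = 1 := by rw [hz', polar_smul_right, smul_eq_mul, inv_mul_cancel₀ hxz]
  obtain ⟨h3, h4, h5⟩ := eich_fix_move hx hQy' hQz' h1 h2
  set t : eichGroup Q := ⟨eichG Q x (y' - z'), eichG_mem hx h3⟩ with ht
  have htx : (t : Cfsg.isometryGroup F (⇑Q)) • x = x := by
    rw [ht]
    show eichG Q x (y' - z') • x = x
    rw [eichG_smul hx h3, h4]
  have hty : (t : Cfsg.isometryGroup F (⇑Q)) • y' = z' := by
    rw [ht]
    show eichG Q x (y' - z') • y' = z'
    rw [eichG_smul hx h3, h5]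
  have hgB : t • B = B := by
    apply hB.smul_eq_of_mem hxB
    rw [smul_pt]
    simp only [htx]
    exact hxB
  have h6 : t • pt y hy0 hy ∈ B := by
    rw [← hgB]
    exact Set.smul_mem_smul_set hyB
  have h7 : t • pt y hy0 hy = pt z hz0 hz := by
    rw [smul_pt]
    apply pt_eq_of_smul _ _ _ _ (polar Q x y * (polar Q x z)⁻¹)
    have e1 : y = polar Q x y • y' := by rw [hy', smul_smul, mul_inv_cancel₀ hxy, one_smul]
    calc (t : Cfsg.isometryGroup F (⇑Q)) • y
        = (t : Cfsg.isometryGroup F (⇑Q)) • (polar Q x y • y') := by rw [← e1]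
      _ = polar Q x y • z' := by rw [smul_smul' Q, hty]
      _ = (polar Q x y * (polar Q x z)⁻¹) • z := by rw [hz', smul_smul]
  rw [← h7]
  exact h6

theorem frame_f_ne_zero {n : ℕ} {e f : Fin n → (ι → F)} (fr : HypFrame Q e f) (i : Fin n) :
    f i ≠ 0 := by
  intro h
  have h1 := fr.ef i i
  rw [h, polar_zero_right] at h1
  simp at h1

/-- a block containing two non-orthogonal points is everything -/
theorem block_eq_univ_of_nonorth (hQ : (polarBilin Q).Nondegenerate) {e f : Fin 2 → (ι → F)}
    (fr : HypFrame Q e f) {B : Set (singSub Q)}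
    (hB : IsBlock (eichGroup Q) B) {x y : ι → F} (hx0 : x ≠ 0) (hx : Q x = 0) (hy0 : y ≠ 0)
    (hy : Q y = 0) (hxB : pt x hx0 hx ∈ B) (hyB : pt y hy0 hy ∈ B)
    (hxy : polar Q x y ≠ 0) : B = Set.univ := by
  rw [Set.eq_univ_iff_forall]
  intro p
  obtain ⟨z, hz0, hz, rfl⟩ := exists_pt p
  by_cases hxz : polar Q x z = 0
  · by_cases hdep : ∃ c : F, z = c • x
    · obtain ⟨c, hc⟩ := hdep
      rw [pt_eq_of_smul hx0 hx hz0 hz c hc]
      exact hxB
    push Not at hdep
    have hind : LinearIndependent F ![x, z] := by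
      rw [LinearIndependent.pair_iff' hx0]
      intro a ha
      exact hdep a ha.symm
    obtain ⟨g, hg0, hg1⟩ := exists_smul_pair hQ hind
      (frame_indep_e fr (i := 0) (j := 1) (by decide))
      (by rw [hx, fr.qe]) (by rw [hz, fr.qe]) (by rw [hxz, fr.ee])
    set w := g⁻¹ • (f 0 + f 1) with hw
    have hQw : Q w = 0 := by
      rw [hw, Q_smul Q, Q_add', fr.qf, fr.qf, fr.ff]
      simp
    have hxw : polar Q x w = 1 := by
      rw [← polar_smul_smul Q g, hg0, hw, smul_inv_smul, polar_add_right, fr.ef, fr.ef]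
      simp
    have hzw : polar Q z w = 1 := by
      rw [← polar_smul_smul Q g, hg1, hw, smul_inv_smul, polar_add_right, fr.ef, fr.ef]
      simp
    have hw0 : w ≠ 0 := by
      rintro h
      rw [h, polar_zero_right] at hxw
      exact zero_ne_one hxw
    have hwB := block_step hQ hB hx0 hx hy0 hy hw0 hQw hxB hyB hxy (by rw [hxw]; exact one_ne_zero)
    exact block_step hQ hB hw0 hQw hx0 hx hz0 hz hwB hxB
      (by rw [polar_comm, hxw]; exact one_ne_zero) (by rw [polar_comm, hzw]; exact one_ne_zero)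
  · exact block_step hQ hB hx0 hx hy0 hy hz0 hz hxB hyB hxy hxz

/-- the Eichler group acts primitively on the singular points (three hyperbolic pairs) -/
theorem isPreprimitive_singSub (hQ : (polarBilin Q).Nondegenerate) {e f : Fin 3 → (ι → F)}
    (fr : HypFrame Q e f) : IsPreprimitive (eichGroup Q) (singSub Q) := by
  have fr2 : HypFrame Q (e ∘ Fin.castSucc) (f ∘ Fin.castSucc) :=
    fr.comp Fin.castSucc (Fin.castSucc_injective 2)
  have := isPretransitive_singSub hQ fr2
  constructor
  intro B hB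
  by_cases hs : B.Subsingleton
  · exact Or.inl hs
  right
  rw [Set.not_subsingleton_iff] at hs
  obtain ⟨p, hp, p', hp', hne⟩ := hs
  obtain ⟨x, hx0, hx, rfl⟩ := exists_pt p
  obtain ⟨y, hy0, hy, rfl⟩ := exists_pt p'
  by_cases hxy : polar Q x y = 0
  · have hind : LinearIndependent F ![x, y] := by
      rw [LinearIndependent.pair_iff' hx0]
      intro a ha
      exact hne (pt_eq_of_smul hx0 hx hy0 hy a ha.symm).symm
    obtain ⟨g, hg0, hg1⟩ := exists_smul_pair hQ hind
      (frame_indep_e fr (i := 0) (j := 1) (by decide))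
      (by rw [hx, fr.qe]) (by rw [hy, fr.qe]) (by rw [hxy, fr.ee])
    set z := g⁻¹ • f 1 with hz
    set b := g⁻¹ • (e 2 + f 2) with hb
    have hQz : Q z = 0 := by rw [hz, Q_smul Q, fr.qf]
    have hQb : Q b = 1 := by
      rw [hb, Q_smul Q, Q_add', fr.qe, fr.qf, fr.ef]
      simp
    have hzb : polar Q z b = 0 := by
      rw [hz, hb, polar_smul_smul Q, polar_add_right, fr.fe, fr.ff]
      simp
    have hbx : polar Q b x = 0 := by
      rw [← polar_smul_smul Q g, hg0, hb, smul_inv_smul, polar_add_left, fr.ee, fr.fe]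
      simp
    have hzx : polar Q z x = 0 := by
      rw [← polar_smul_smul Q g, hg0, hz, smul_inv_smul, fr.fe]
      simp
    have hby : polar Q b y = 0 := by
      rw [← polar_smul_smul Q g, hg1, hb, smul_inv_smul, polar_add_left, fr.ee, fr.fe]
      simp
    have hzy : polar Q z y = 1 := by
      rw [← polar_smul_smul Q g, hg1, hz, smul_inv_smul, fr.fe]
      simp
    set t : eichGroup Q := ⟨eichG Q z b, eichG_mem hQz hzb⟩ with ht
    have htx : (t : Cfsg.isometryGroup F (⇑Q)) • x = x := by
      show eichG Q z b • x = x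
      rw [eichG_smul hQz hzb, eich_apply, hbx, hzx]
      simp
    have hty : (t : Cfsg.isometryGroup F (⇑Q)) • y = y - b - z := by
      show eichG Q z b • y = y - b - z
      rw [eichG_smul hQz hzb, eich_apply, hby, hzy, hQb, zero_smul, one_smul, one_smul, one_smul]
      abel
    have hgB : t • B = B := by
      apply hB.smul_eq_of_mem hp
      rw [smul_pt]
      simp only [htx]
      exact hp
    have h6 : t • pt y hy0 hy ∈ B := by
      rw [← hgB]
      exact Set.smul_mem_smul_set hp'
    rw [smul_pt] at h6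
    have h7 : polar Q y ((t : Cfsg.isometryGroup F (⇑Q)) • y) ≠ 0 := by
      rw [hty, polar_sub_right, polar_sub_right, polar_self_of_singular Q hy, polar_comm Q y b,
        hby, polar_comm Q y z, hzy]
      simp
    exact block_eq_univ_of_nonorth hQ fr2 hB hy0 hy _ _ hp' h6 h7
  · exact block_eq_univ_of_nonorth hQ fr2 hB hx0 hx hy0 hy hp hp' hxy

end Cfsg.Agent.Helper2.Orth
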