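import Mathlib
import Cfsg.Agent.Lib.Helper2.OrthPrim

set_option autoImplicit false
set_option linter.unusedSectionVars false
set_option linter.unusedSimpArgs false

namespace Cfsg.Agent.Helper2.Orth

open QuadraticMap Matrix MulAction Cfsg.Agent.Helper28.Siegel Cfsg.Agent.Helper28.WittQuad
  Cfsg.Agent.Helper17.Spinor
open scoped LinearAlgebra.Projectivization Pointwise

variable {F : Type*} [Field F] {ι : Type} [Fintype ι] [DecidableEq ι] {Q : QuadraticForm F (ι → F)}

/-- the root group of a singular vector, inside the Eichler group -/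
def rootGroup (z : ι → F) : Subgroup (eichGroup Q) where
  carrier := {g | ∃ b : ι → F, polar Q z b = 0 ∧ (g : Cfsg.isometryGroup F (⇑Q)) = eichG Q z b}
  mul_mem' := by
    rintro g h ⟨b, hb, hg⟩ ⟨b', hb', hh⟩
    by_cases hz : Q z = 0
    · refine ⟨b + b', by rw [polar_add_right, hb, hb', add_zero], ?_⟩
      rw [Subgroup.coe_mul, hg, hh, eichG_mul hz hb hb']
    · refine ⟨0, polar_zero_right _ _, ?_⟩
      have h1 : ∀ b : ι → F, eichG Q z b = 1 := by
        intro b
        unfold eichG
        rw [dif_neg (fun h => hz h.1)]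
      rw [Subgroup.coe_mul, hg, hh, h1, h1, h1, one_mul]
  one_mem' := ⟨0, polar_zero_right _ _, by rw [eichG_zero]; rfl⟩
  inv_mem' := by
    rintro g ⟨b, hb, hg⟩
    by_cases hz : Q z = 0
    · refine ⟨-b, by rw [polar_neg_right, hb, neg_zero], ?_⟩
      rw [Subgroup.coe_inv, hg, eichG_inv hz hb]
    · refine ⟨0, polar_zero_right _ _, ?_⟩
      have h1 : ∀ b : ι → F, eichG Q z b = 1 := by
        intro b
        unfold eichG
        rw [dif_neg (fun h => hz h.1)]
      rw [Subgroup.coe_inv, hg, h1, h1, inv_one]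

theorem mem_rootGroup {z : ι → F} {g : eichGroup Q} :
    g ∈ rootGroup z ↔ ∃ b : ι → F, polar Q z b = 0 ∧
      (g : Cfsg.isometryGroup F (⇑Q)) = eichG Q z b := Iff.rfl

theorem rootGroup_smul_vec {z : ι → F} (hz : Q z = 0) {a : F} (ha : a ≠ 0) :
    rootGroup (Q := Q) (a • z) = rootGroup z := by
  ext g
  rw [mem_rootGroup, mem_rootGroup]
  constructor
  · rintro ⟨b, hb, hg⟩
    have hb' : polar Q z b = 0 := by
      rw [polar_smul_left, smul_eq_mul] at hb
      rcases mul_eq_zero.1 hb with h | h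
      · exact absurd h ha
      · exact h
    exact ⟨a • b, by rw [polar_smul_right, hb', smul_zero], by rw [hg, eichG_smul_left hz hb']⟩
  · rintro ⟨b, hb, hg⟩
    refine ⟨a⁻¹ • b, by rw [polar_smul_left, polar_smul_right, hb, smul_zero, smul_zero], ?_⟩
    rw [hg, eichG_smul_left hz (by rw [polar_smul_right, hb, smul_zero]), smul_smul,
      mul_inv_cancel₀ ha, one_smul]

theorem rootGroup_conj (g : eichGroup Q) {z : ι → F} (hz : Q z = 0) :
    rootGroup (Q := Q) ((g : Cfsg.isometryGroup F (⇑Q)) • z) =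
      MulAut.conj g • rootGroup (Q := Q) z := by
  ext h
  rw [mem_rootGroup, Subgroup.mem_pointwise_smul_iff_inv_smul_mem, mem_rootGroup]
  constructor
  · rintro ⟨b, hb, hh⟩
    refine ⟨(g : Cfsg.isometryGroup F (⇑Q))⁻¹ • b, ?_, ?_⟩
    · rw [← polar_smul_smul Q (g : Cfsg.isometryGroup F (⇑Q)), smul_inv_smul, hb]
    · have h1 := eichG_conj (g : Cfsg.isometryGroup F (⇑Q))⁻¹ (z := (g : Cfsg.isometryGroup F (⇑Q)) • z)
        (b := b) (by rw [Q_smul Q, hz]) hb
      rw [inv_smul_smul, inv_inv] at h1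
      rw [← h1, ← hh]
      rw [MulAut.smul_def, MulAut.conj_inv_apply]
      simp
  · rintro ⟨b, hb, hh⟩
    refine ⟨(g : Cfsg.isometryGroup F (⇑Q)) • b, by rw [polar_smul_smul Q, hb], ?_⟩
    rw [← eichG_conj _ hz hb, ← hh, MulAut.smul_def, MulAut.conj_inv_apply]
    simp [mul_assoc]

theorem rootGroup_isMulCommutative {z : ι → F} (hz : Q z = 0) :
    IsMulCommutative (rootGroup (Q := Q) z) := by
  refine ⟨⟨?_⟩⟩
  rintro ⟨g, b, hb, hg⟩ ⟨h, b', hb', hh⟩
  apply Subtype.ext
  apply Subtype.ext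
  show (g : Cfsg.isometryGroup F (⇑Q)) * h = h * g
  rw [hg, hh, eichG_mul hz hb hb', eichG_mul hz hb' hb, add_comm]

theorem rootGroup_rep {v : ι → F} (hv0 : v ≠ 0) (hv : Q v = 0) :
    rootGroup (Q := Q) (Projectivization.mk F v hv0).rep = rootGroup v := by
  have h1 : Projectivization.mk F (Projectivization.mk F v hv0).rep
      (Projectivization.rep_nonzero _) = Projectivization.mk F v hv0 :=
    Projectivization.mk_rep _
  rw [Projectivization.mk_eq_mk_iff'] at h1
  obtain ⟨a, ha⟩ := h1
  have ha0 : a ≠ 0 := by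
    rintro rfl
    rw [zero_smul] at ha
    exact Projectivization.rep_nonzero _ ha.symm
  rw [← ha, rootGroup_smul_vec hv ha0]

/-- the Iwasawa structure of the Eichler group on singular points -/
noncomputable def orthIwasawa (Q : QuadraticForm F (ι → F)) :
    IwasawaStructure (eichGroup Q) (singSub Q) where
  T p := rootGroup p.1.rep
  is_comm p := rootGroup_isMulCommutative p.2
  is_conj g p := by
    obtain ⟨x, hx0, hx, rfl⟩ := exists_pt p
    rw [smul_pt]
    show rootGroup (Projectivization.mk F _ _).rep = MulAut.conj g • rootGroup (Projectivization.mk F x hx0).rep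
    rw [rootGroup_rep _ (by rw [Q_smul Q, hx]), rootGroup_rep hx0 hx, rootGroup_conj g hx]
  is_generator := by
    rw [eq_top_iff]
    rintro ⟨g, hg⟩ -
    unfold eichGroup at hg
    induction hg using Subgroup.closure_induction with
    | mem x hx =>
      obtain ⟨z, b, hz, hzb, rfl⟩ := hx
      by_cases hz0 : z = 0
      · have : (⟨eichG Q z b, Subgroup.subset_closure ⟨z, b, hz, hzb, rfl⟩⟩ : eichGroup Q) = 1 := by
          apply Subtype.ext
          show eichG Q z b = 1
          rw [hz0, eichG_zero_left]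
        rw [this]
        exact Subgroup.one_mem _
      · apply Subgroup.mem_iSup_of_mem (pt z hz0 hz)
        show _ ∈ rootGroup (Projectivization.mk F z hz0).rep
        rw [rootGroup_rep hz0 hz]
        exact ⟨b, hzb, rfl⟩
    | one => exact Subgroup.one_mem _
    | mul x y hx hy ihx ihy =>
      have : (⟨x * y, Subgroup.mul_mem _ hx hy⟩ : eichGroup Q) = ⟨x, hx⟩ * ⟨y, hy⟩ := rfl
      rw [this]
      exact Subgroup.mul_mem _ ihx ihy
    | inv x hx ihx =>
      have : (⟨x⁻¹, Subgroup.inv_mem _ hx⟩ : eichGroup Q) = (⟨x, hx⟩ : eichGroup Q)⁻¹ := rfl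
      rw [this]
      exact Subgroup.inv_mem _ ihx

/-! ### The kernel of the action and simplicity -/

/-- the singular vectors span the whole space -/
theorem mem_span_all_singular (hQ : (polarBilin Q).Nondegenerate) {e f : Fin 2 → (ι → F)}
    (fr : HypFrame Q e f) (v : ι → F) : v ∈ Submodule.span F {s : ι → F | Q s = 0} := by
  have h1 : v = (v - polar Q (e 0) v • f 0) + polar Q (e 0) v • f 0 := by abel
  rw [h1]
  apply Submodule.add_mem
  · have h2 : polar Q (e 0) (v - polar Q (e 0) v • f 0) = 0 := by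
      rw [polar_sub_right, polar_smul_right, fr.ef]
      simp
    have h3 := mem_span_singular hQ fr (frame_e_ne_zero fr 0) h2
    refine Submodule.span_mono ?_ h3
    intro s hs
    exact hs.1
  · exact Submodule.smul_mem _ _ (Submodule.subset_span (fr.qf 0))

/-- an element fixing every singular point acts as a scalar -/
theorem exists_scalar_of_fixes (hQ : (polarBilin Q).Nondegenerate) {e f : Fin 2 → (ι → F)}
    (fr : HypFrame Q e f) {g : eichGroup Q} (hg : ∀ p : singSub Q, g • p = p) :
    ∃ a : F, ∀ v : ι → F, (g : Cfsg.isometryGroup F (⇑Q)) • v = a • v := by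
  have hpt : ∀ u : ι → F, u ≠ 0 → Q u = 0 →
      ∃ a : F, (g : Cfsg.isometryGroup F (⇑Q)) • u = a • u := by
    intro u hu0 hu
    have h1 := hg (pt u hu0 hu)
    rw [smul_pt] at h1
    exact exists_smul_of_pt_eq hu0 hu _ _ h1
  have hpair : ∀ u w : ι → F, u ≠ 0 → Q u = 0 → Q w = 0 → polar Q u w = 0 →
      (∀ c : F, w ≠ c • u) → ∀ a b : F, (g : Cfsg.isometryGroup F (⇑Q)) • u = a • u →
      (g : Cfsg.isometryGroup F (⇑Q)) • w = b • w → a = b := by
    intro u w hu0 hu hw huw hind a b ha hb
    have hs : Q (u + w) = 0 := by rw [Q_add', hu, hw, huw]; ring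
    have hs0 : u + w ≠ 0 := by
      intro h
      apply hind (-1)
      rw [neg_smul, one_smul]
      exact eq_neg_of_add_eq_zero_right h
    obtain ⟨c, hc⟩ := hpt (u + w) hs0 hs
    rw [smul_add' Q, ha, hb, smul_add] at hc
    have h1 : (c - b) • w = (a - c) • u := by
      have : (c - b) • w = (c • u + c • w) - (a • u + b • w) + (a - c) • u := by module
      rw [this, ← hc]
      module
    have hcb : c - b = 0 := by
      by_contra hne
      apply hind ((c - b)⁻¹ * (a - c))
      rw [← smul_smul, ← h1, smul_smul, inv_mul_cancel₀ hne, one_smul]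
    rw [hcb, zero_smul] at h1
    have hac : a - c = 0 := by
      rcases smul_eq_zero.1 h1.symm with h | h
      · exact h
      · exact absurd h hu0
    rw [sub_eq_zero.1 hac, sub_eq_zero.1 hcb]
  have hconst : ∀ u u' : ι → F, u ≠ 0 → Q u = 0 → u' ≠ 0 → Q u' = 0 → ∀ a b : F,
      (g : Cfsg.isometryGroup F (⇑Q)) • u = a • u →
      (g : Cfsg.isometryGroup F (⇑Q)) • u' = b • u' → a = b := by
    intro u u' hu0 hu hu'0 hu' a b ha hb
    obtain ⟨w, hw, huw, hu'w, hwu, hwu'⟩ := exists_common_orth hQ fr hu0 hu hu'0 hu'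
    have hw0 : w ≠ 0 := by
      intro h
      exact hwu 0 (by rw [h, zero_smul])
    obtain ⟨c, hc⟩ := hpt w hw0 hw
    rw [hpair u w hu0 hu hw huw hwu a c ha hc, hpair u' w hu'0 hu' hw hu'w hwu' b c hb hc]
  have he0 := frame_e_ne_zero fr 0
  obtain ⟨a, ha⟩ := hpt (e 0) he0 (fr.qe 0)
  refine ⟨a, fun v => ?_⟩
  have hv := mem_span_all_singular hQ fr v
  induction hv using Submodule.span_induction with
  | mem s hs =>
    by_cases hs0 : s = 0
    · rw [hs0, smul_zero, smul_zero]
    · obtain ⟨b, hb⟩ := hpt s hs0 hs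
      rw [hconst (e 0) s he0 (fr.qe 0) hs0 hs a b ha hb]
      exact hb
  | zero => rw [smul_zero, smul_zero]
  | add x y _ _ hx hy => rw [smul_add' Q, hx, hy, smul_add]
  | smul c x _ hx => rw [smul_smul' Q, hx, smul_comm]

theorem mem_center_of_fixes (hQ : (polarBilin Q).Nondegenerate) {e f : Fin 2 → (ι → F)}
    (fr : HypFrame Q e f) {g : eichGroup Q} (hg : ∀ p : singSub Q, g • p = p) :
    g ∈ Subgroup.center (eichGroup Q) := by
  obtain ⟨a, ha⟩ := exists_scalar_of_fixes hQ fr hg
  rw [Subgroup.mem_center_iff]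
  intro h
  apply Subtype.ext
  apply ext_smul
  intro v
  show ((h : Cfsg.isometryGroup F (⇑Q)) * (g : Cfsg.isometryGroup F (⇑Q))) • v =
    ((g : Cfsg.isometryGroup F (⇑Q)) * (h : Cfsg.isometryGroup F (⇑Q))) • v
  rw [mul_smul, mul_smul, ha, ha, smul_smul' Q]

/-- the Eichler group modulo its centre is simple (three hyperbolic pairs) -/
theorem isSimpleGroup_eichGroup_quotient (hQ : (polarBilin Q).Nondegenerate)
    {e f : Fin 3 → (ι → F)} (fr : HypFrame Q e f) :
    IsSimpleGroup (eichGroup Q ⧸ Subgroup.center (eichGroup Q)) := by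
  have fr2 : HypFrame Q (e ∘ Fin.castSucc) (f ∘ Fin.castSucc) :=
    fr.comp Fin.castSucc (Fin.castSucc_injective 2)
  have hprim := isPreprimitive_singSub hQ fr
  have hperf := commutator_eichGroup_eq_top hQ fr
  have hZ : Subgroup.center (eichGroup Q) ≠ ⊤ := by
    intro hZ
    rw [← commutator_eq_bot_iff_center_eq_top, hperf] at hZ
    have h01 : polar Q (e 0) (e 1) = 0 := fr.ee 0 1
    have h1 : (⟨eichG Q (e 0) (e 1), eichG_mem (fr.qe 0) h01⟩ : eichGroup Q) ∈
        (⊤ : Subgroup (eichGroup Q)) := Subgroup.mem_top _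
    rw [hZ, Subgroup.mem_bot] at h1
    have h2 : eichG Q (e 0) (e 1) = 1 := congrArg Subtype.val h1
    have h3 : eichG Q (e 0) (e 1) • f 1 = f 1 := by rw [h2, one_smul]
    rw [eichG_smul (fr.qe 0) h01, eich_apply, fr.ef, fr.ef, fr.qe] at h3
    simp at h3
    exact frame_e_ne_zero fr 0 h3
  have hnt : Nontrivial (eichGroup Q ⧸ Subgroup.center (eichGroup Q)) := by
    obtain ⟨g, hg⟩ : ∃ g, g ∉ Subgroup.center (eichGroup Q) := by
      by_contra hcon
      push Not at hcon
      exact hZ (eq_top_iff.2 fun g _ => hcon g)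
    refine ⟨⟨(g : eichGroup Q ⧸ Subgroup.center (eichGroup Q)), 1, ?_⟩⟩
    intro h
    exact hg ((QuotientGroup.eq_one_iff g).1 h)
  refine { exists_pair_ne := hnt.exists_pair_ne, eq_bot_or_eq_top_of_normal := ?_ }
  intro K hK
  set N := K.comap (QuotientGroup.mk' (Subgroup.center (eichGroup Q))) with hN
  have hNn : N.Normal := hK.comap _
  by_cases hfix : fixedPoints N (singSub Q) = Set.univ
  · left
    rw [eq_bot_iff]
    intro k hk
    obtain ⟨g, rfl⟩ := QuotientGroup.mk'_surjective _ k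
    have hgN : g ∈ N := hk
    have hgZ : g ∈ Subgroup.center (eichGroup Q) := by
      apply mem_center_of_fixes hQ fr2
      intro p
      have hp : p ∈ fixedPoints N (singSub Q) := by rw [hfix]; trivial
      exact hp ⟨g, hgN⟩
    rw [Subgroup.mem_bot]
    exact (QuotientGroup.eq_one_iff g).2 hgZ
  · right
    have h1 := (orthIwasawa Q).commutator_le N hfix
    rw [hperf, top_le_iff] at h1
    rw [eq_top_iff]
    intro k _
    obtain ⟨g, rfl⟩ := QuotientGroup.mk'_surjective _ k
    have hgN : g ∈ N := by rw [h1]; trivial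
    exact hgN

theorem isSimpleGroup_quotient_center_of_eq {G : Type*} [Group G] {H K : Subgroup G} (h : H = K)
    (hs : IsSimpleGroup (K ⧸ Subgroup.center K)) : IsSimpleGroup (H ⧸ Subgroup.center H) := by
  subst h
  exact hs

/-- **`PΩ(Q)` is simple** when `Q` contains three mutually orthogonal hyperbolic pairs -/
theorem isSimpleGroup_POmega [Fintype F] (hQ : (polarBilin Q).Nondegenerate)
    (hex : Fintype.card F ≠ 2 ∨ Fintype.card ι ≠ 4) {e f : Fin 3 → (ι → F)}
    (fr : HypFrame Q e f) : IsSimpleGroup (Cfsg.POmega F (⇑Q)) := by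
  have fr2 : HypFrame Q (e ∘ Fin.castSucc) (f ∘ Fin.castSucc) :=
    fr.comp Fin.castSucc (Fin.castSucc_injective 2)
  exact isSimpleGroup_quotient_center_of_eq (Omega_eq_eichGroup hQ hex fr2)
    (isSimpleGroup_eichGroup_quotient hQ fr)

end Cfsg.Agent.Helper2.Orth
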