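import Mathlib
import Cfsg.Agent.Lib.Helper2.OrthSimple
import Cfsg.Agent.Lib.Helper2.OrthOrders

set_option autoImplicit false
set_option linter.unusedSectionVars false
set_option linter.unusedSimpArgs false

namespace Cfsg.Agent.Helper2.Orth

open QuadraticMap Matrix Cfsg.Agent.Helper13

variable {F : Type*} [Field F] {ι : Type} [Fintype ι] [DecidableEq ι]

/-- coordinate vectors forming a hyperbolic frame for a matrix quadratic form -/
theorem hypFrame_matQ (M : Matrix ι ι F) {n : ℕ} (a b : Fin n → ι)
    (qa : ∀ i, M (a i) (a i) = 0) (qb : ∀ i, M (b i) (b i) = 0)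
    (haa : ∀ i j, M (a i) (a j) + M (a j) (a i) = 0)
    (hbb : ∀ i j, M (b i) (b j) + M (b j) (b i) = 0)
    (hab : ∀ i j, M (a i) (b j) + M (b j) (a i) = if i = j then 1 else 0) :
    HypFrame (matQ M) (fun i => Pi.single (a i) 1) (fun i => Pi.single (b i) 1) where
  qe i := by rw [matQ_single, qa]
  qf i := by rw [matQ_single, qb]
  ee i j := by rw [polar_matQ_single, haa]
  ff i j := by rw [polar_matQ_single, hbb]
  ef i j := by rw [polar_matQ_single, hab]

theorem hypFrame_plus (k : ℕ) :
    HypFrame (matQ (plusMat (k + 3) F))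
      (fun i : Fin 3 => Pi.single (Sum.inl (Fin.castLE (by omega) i)) 1)
      (fun i : Fin 3 => Pi.single (Sum.inr (Fin.castLE (by omega) i)) 1) := by
  apply hypFrame_matQ (plusMat (k + 3) F) (fun i : Fin 3 => Sum.inl (Fin.castLE (by omega) i))
    (fun i : Fin 3 => Sum.inr (Fin.castLE (by omega) i))
  · intro i; simp [plusMat]
  · intro i; simp [plusMat]
  · intro i j; simp [plusMat]
  · intro i j; simp [plusMat]
  · intro i j
    simp [plusMat, Matrix.one_apply]

theorem hypFrame_odd (k : ℕ) :
    HypFrame (matQ (oddMat (k + 3) F))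
      (fun i : Fin 3 => Pi.single (Sum.inr (Sum.inl (Fin.castLE (by omega) i))) 1)
      (fun i : Fin 3 => Pi.single (Sum.inr (Sum.inr (Fin.castLE (by omega) i))) 1) := by
  apply hypFrame_matQ (oddMat (k + 3) F)
    (fun i : Fin 3 => Sum.inr (Sum.inl (Fin.castLE (by omega) i)))
    (fun i : Fin 3 => Sum.inr (Sum.inr (Fin.castLE (by omega) i)))
  · intro i; simp [oddMat, plusMat]
  · intro i; simp [oddMat, plusMat]
  · intro i j; simp [oddMat, plusMat]
  · intro i j; simp [oddMat, plusMat]
  · intro i j
    simp [oddMat, plusMat, Matrix.one_apply]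

theorem hypFrame_minus (k : ℕ) (a b : F) :
    HypFrame (matQ (minusMat (k + 3) a b))
      (fun i : Fin 3 => Pi.single (Sum.inl (Sum.inl (Fin.castLE (by omega) i))) 1)
      (fun i : Fin 3 => Pi.single (Sum.inl (Sum.inr (Fin.castLE (by omega) i))) 1) := by
  apply hypFrame_matQ (minusMat (k + 3) a b)
    (fun i : Fin 3 => Sum.inl (Sum.inl (Fin.castLE (by omega) i)))
    (fun i : Fin 3 => Sum.inl (Sum.inr (Fin.castLE (by omega) i)))
  · intro i; simp [minusMat, plusMat]
  · intro i; simp [minusMat, plusMat]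
  · intro i j; simp [minusMat, plusMat]
  · intro i j; simp [minusMat, plusMat]
  · intro i j
    simp [minusMat, plusMat, Matrix.one_apply]

end Cfsg.Agent.Helper2.Orth
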