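import Mathlib
import Cfsg.Agent.Lib.Helper11.D4IMem
import Cfsg.Agent.Lib.Helper6.SylowConj

/-!
# S2183 piece SURJ: every element of `U ⊓ ³D₄(q)` is a twisted normal form (counting).
-/

set_option autoImplicit false
set_option linter.unusedSectionVars false
set_option linter.unusedSimpArgs false
set_option linter.unusedVariables false

namespace Cfsg.Agent.Helper11.D4I

open Cfsg Cfsg.Lie Cfsg.Agent.Lead.Chev Cfsg.Agent.Lead.Tw

variable {K : Type*} [Field K] [Fintype K] [CharP K 2] {q : ℕ} (hK : Fintype.card K = q ^ 3)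
  (f : K ≃+* K) (hf : ∀ t, f t = t ^ q)
include hK hf

/-- PIECE SURJ: every element of `U¹ = U ⊓ ³D₄(q)` is a twisted normal form (counting: `NFtw_inj`, `NFtw_mem`,
`D4.card_U`, `card_fixed_pow`) -/
theorem exists_NFtw (u : GL chevD4.Idx K) (hu : u ∈ chevD4.posUnipotent K ⊓ twistedD4 K q) :
    ∃ t1 u2 t3 t4 u5 u6 : K, f u2 = u2 ∧ f u5 = u5 ∧ f u6 = u6 ∧ u = NFtw f t1 u2 t3 t4 u5 u6 := by
  classical
  have hq : 1 < q := one_lt_q hK
  have hcardU : Nat.card ↥(chevD4.posUnipotent K ⊓ twistedD4 K q) = q ^ 12 := D4.card_U hq hK f hf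
  have hcardF : Nat.card {t : K // t ^ q = t} = q := card_fixed_pow hq (by norm_num : 0 < 3) hK
  have hcardK : Nat.card K = q ^ 3 := by rw [Nat.card_eq_fintype_card, hK]
  let D := K × {t : K // t ^ q = t} × K × K × {t : K // t ^ q = t} × {t : K // t ^ q = t}
  have hfix : ∀ t : {t : K // t ^ q = t}, f t.1 = t.1 := fun t => by rw [hf, t.2]
  let φ : D → ↥(chevD4.posUnipotent K ⊓ twistedD4 K q) := fun d =>
    ⟨NFtw f d.1 d.2.1.1 d.2.2.1 d.2.2.2.1 d.2.2.2.2.1.1 d.2.2.2.2.2.1,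
      NFtw_mem hK f hf _ _ _ _ _ _ (hfix _) (hfix _) (hfix _)⟩
  have hφinj : Function.Injective φ := by
    rintro ⟨a1, a2, a3, a4, a5, a6⟩ ⟨b1, b2, b3, b4, b5, b6⟩ h
    have h' := congrArg Subtype.val h
    simp only [φ] at h'
    obtain ⟨e1, e2, e3, e4, e5, e6⟩ := NFtw_inj f (hf3 hK f hf) h'
    have e2' : a2 = b2 := Subtype.ext e2
    have e5' : a5 = b5 := Subtype.ext e5
    have e6' : a6 = b6 := Subtype.ext e6
    subst e1 e2' e3 e4 e5' e6'
    rfl
  have hcardD : Nat.card D = q ^ 12 := by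
    simp only [D, Nat.card_prod, hcardF, hcardK]
    ring
  have : Finite D := by
    apply Nat.finite_of_card_ne_zero
    rw [hcardD]
    positivity
  have : Finite ↥(chevD4.posUnipotent K ⊓ twistedD4 K q) := by
    apply Nat.finite_of_card_ne_zero
    rw [hcardU]
    positivity
  have hφbij : Function.Bijective φ :=
    (Nat.bijective_iff_injective_and_card φ).2 ⟨hφinj, by rw [hcardD, hcardU]⟩
  obtain ⟨⟨a1, a2, a3, a4, a5, a6⟩, hd⟩ := hφbij.2 ⟨u, hu⟩
  refine ⟨a1, a2.1, a3, a4, a5.1, a6.1, hfix _, hfix _, hfix _, ?_⟩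
  have := congrArg Subtype.val hd
  simpa [φ] using this.symm

end Cfsg.Agent.Helper11.D4I
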