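import Mathlib

/-!
# S2376 piece FIELD6 (helper2): quadratic extensions of finite fields

`field6_exists`, `field6_fixed`, `exists_orderOf` with the exact signatures of `plans/D4T_Skel1.lean.txt`.
-/

set_option autoImplicit false
set_option linter.style.haveILetI false

namespace Cfsg.Agent.Helper11.D4T

/-- a quadratic extension -/
theorem field6_exists (K : Type*) [Field K] [Fintype K] :
    ∃ (L : Type) (_ : Field L) (_ : Fintype L) (_ : K →+* L), Fintype.card L = Fintype.card K ^ 2 := by
  obtain ⟨p, hp⟩ := CharP.exists K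
  haveI : Fact p.Prime := ⟨CharP.char_is_prime K p⟩
  refine ⟨FiniteField.Extension K p 2, inferInstance, Fintype.ofFinite _,
    algebraMap K (FiniteField.Extension K p 2), ?_⟩
  rw [Fintype.card_eq_nat_card, FiniteField.natCard_extension, Fintype.card_eq_nat_card]

/-- the fixed field of `t ↦ t^Q`, `Q = |K|`, is the image of `K` -/
theorem field6_fixed {K : Type*} [Field K] [Fintype K] {L : Type*} [Field L] [Fintype L] (ι : K →+* L)
    (t : L) : t ^ Fintype.card K = t ↔ t ∈ Set.range ι := by
  classical
  set q := Fintype.card K with hq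
  have hq2 : 2 ≤ q := Fintype.one_lt_card
  constructor
  · intro ht
    have hne : (Polynomial.X ^ q - Polynomial.X : Polynomial L) ≠ 0 :=
      FiniteField.X_pow_card_sub_X_ne_zero L hq2
    have hdeg : (Polynomial.X ^ q - Polynomial.X : Polynomial L).natDegree = q :=
      FiniteField.X_pow_card_sub_X_natDegree_eq L hq2
    set R : Finset L := (Polynomial.X ^ q - Polynomial.X : Polynomial L).roots.toFinset with hR
    have hRcard : R.card ≤ q := by
      calc R.card ≤ Multiset.card (Polynomial.X ^ q - Polynomial.X : Polynomial L).roots :=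
            Multiset.toFinset_card_le _
        _ ≤ (Polynomial.X ^ q - Polynomial.X : Polynomial L).natDegree := Polynomial.card_roots' _
        _ = q := hdeg
    have hmemR : ∀ x : L, x ∈ R ↔ x ^ q = x := by
      intro x
      rw [hR, Multiset.mem_toFinset, Polynomial.mem_roots hne]
      simp [Polynomial.IsRoot, sub_eq_zero]
    set I : Finset L := Finset.univ.image ι with hI
    have hIcard : I.card = q := by
      rw [hI, Finset.card_image_of_injective _ ι.injective, Finset.card_univ]
    have hIR : I ⊆ R := by
      intro x hx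
      rw [hI, Finset.mem_image] at hx
      obtain ⟨a, -, rfl⟩ := hx
      rw [hmemR, ← map_pow, hq, FiniteField.pow_card]
    have hEq : I = R := Finset.eq_of_subset_of_card_le hIR (by rw [hIcard]; exact hRcard)
    have : t ∈ I := by rw [hEq, hmemR]; exact ht
    rw [hI, Finset.mem_image] at this
    obtain ⟨a, -, rfl⟩ := this
    exact ⟨a, rfl⟩
  · rintro ⟨a, rfl⟩
    rw [← map_pow, hq, FiniteField.pow_card]

/-- elements of every order dividing `|L| - 1` -/
theorem exists_orderOf {L : Type*} [Field L] [Fintype L] (d : ℕ) (hd : d ∣ Fintype.card L - 1) :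
    ∃ ω : Lˣ, orderOf ω = d := by
  classical
  obtain ⟨g, hg⟩ := IsCyclic.exists_ofOrder_eq_natCard (α := Lˣ)
  have hcard : Nat.card Lˣ = Fintype.card L - 1 := by
    rw [Nat.card_eq_fintype_card, Fintype.card_units]
  rw [hcard] at hg
  have hNpos : 0 < Fintype.card L - 1 := by
    have : 1 < Fintype.card L := Fintype.one_lt_card
    omega
  obtain ⟨n, hn⟩ := hd
  have hn0 : n ≠ 0 := by
    rintro rfl
    rw [mul_zero] at hn
    omega
  have hd0 : d ≠ 0 := by
    rintro rfl
    rw [zero_mul] at hn
    omega
  refine ⟨g ^ n, ?_⟩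
  rw [orderOf_pow_of_dvd hn0 (by rw [hg, hn]; exact dvd_mul_left n d), hg, hn]
  exact Nat.mul_div_cancel _ (Nat.pos_of_ne_zero hn0)

end Cfsg.Agent.Helper11.D4T
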