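import Mathlib
import Cfsg.Agent.Lib.Helper11.D4TTab

/-!
# S2376 piece LANG2 (helper2): Lang's theorem for the non-split torus of `SL₂`, explicitly

`lang2`, `adiag_eq` with the exact signatures of `plans/D4T_Skel1.lean.txt`.
-/

set_option autoImplicit false
set_option linter.unusedSimpArgs false

namespace Cfsg.Agent.Helper11.D4T

theorem lang2 {L : Type*} [Field L] (f : L ≃+* L) (lam : L) (h0 : lam ≠ 0) (hf : f lam = lam⁻¹)
    (h2 : lam ^ 2 ≠ 1) :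
    ∃ (g₀ : Matrix.SpecialLinearGroup (Fin 2) L) (a : Lˣ),
      Matrix.SpecialLinearGroup.map (f : L →+* L) g₀ = g₀ * adiag a := by
  set δ : L := lam - lam⁻¹ with hδdef
  have hδ : δ ≠ 0 := by
    intro h
    apply h2
    have : lam = lam⁻¹ := sub_eq_zero.mp h
    calc lam ^ 2 = lam * lam := sq lam
      _ = lam * lam⁻¹ := by rw [← this]
      _ = 1 := mul_inv_cancel₀ h0
  have hfδ : f δ = -δ := by
    rw [hδdef, map_sub, map_inv₀, hf, inv_inv]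
    ring
  have hfδi : f δ⁻¹ = -δ⁻¹ := by
    rw [map_inv₀, hfδ, inv_neg]
  have hfli : f lam⁻¹ = lam := by
    rw [map_inv₀, hf, inv_inv]
  have hdet : (!![δ⁻¹, 1; -lam * δ⁻¹, -lam⁻¹] : Matrix (Fin 2) (Fin 2) L).det = 1 := by
    rw [Matrix.det_fin_two_of]
    have : δ⁻¹ * -lam⁻¹ - 1 * (-lam * δ⁻¹) = δ⁻¹ * (lam - lam⁻¹) := by ring
    rw [this, ← hδdef, inv_mul_cancel₀ hδ]
  refine ⟨(⟨!![δ⁻¹, 1; -lam * δ⁻¹, -lam⁻¹], hdet⟩ : Matrix.SpecialLinearGroup (Fin 2) L),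
    Units.mk0 δ hδ, ?_⟩
  apply Subtype.ext
  show (f : L →+* L).mapMatrix !![δ⁻¹, 1; -lam * δ⁻¹, -lam⁻¹] =
    !![δ⁻¹, 1; -lam * δ⁻¹, -lam⁻¹] * !![0, δ; -δ⁻¹, 0]
  ext i j
  fin_cases i <;> fin_cases j
  · simp [Matrix.mul_apply, Fin.sum_univ_two, hfδi]
  · simp [Matrix.mul_apply, Fin.sum_univ_two, hfδi, inv_mul_cancel₀ hδ]
  · simp [Matrix.mul_apply, Fin.sum_univ_two, hfδi, hf]
  · simp [Matrix.mul_apply, Fin.sum_univ_two, hfδi, hfli, hf, mul_assoc, inv_mul_cancel₀ hδ]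

/-- `[[0, a], [-a⁻¹, 0]] = [[1, a], [0, 1]] [[1, 0], [-a⁻¹, 1]] [[1, a], [0, 1]]` -/
theorem adiag_eq {L : Type*} [Field L] (a : Lˣ) :
    (adiag a : Matrix (Fin 2) (Fin 2) L) =
      !![1, (a : L); 0, 1] * !![1, 0; -((a⁻¹ : Lˣ) : L), 1] * !![1, (a : L); 0, 1] := by
  show !![0, (a : L); -((a⁻¹ : Lˣ) : L), 0] = _
  ext i j
  fin_cases i <;> fin_cases j <;> simp [Matrix.mul_apply, Fin.sum_univ_two]

end Cfsg.Agent.Helper11.D4T
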