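import Mathlib
import Cfsg.Agent.Lib.Helper11.D4TTab

/-!
# S2376 piece REL (helper2): the characters of the twisted torus

`corel` with the exact signature of `plans/D4T_Skel1.lean.txt`.
-/

set_option autoImplicit false

namespace Cfsg.Agent.Helper11.D4T

theorem corel {G : Type*} [CommGroup G] (q : ℕ) (hq : 2 ≤ q) (x0 x1 x2 x3 : G)
    (h : ∀ v < 24, chiS x0 x1 x2 x3 (wtil.getD v 0) = chiS x0 x1 x2 x3 v ^ q) :
    x0 ^ Mq q = 1 ∧ ∀ v < 24, chiS x0 x1 x2 x3 v = x0 ^ kq q v := by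
  have e1 : x1 * x2 = x0 ^ q := by
    simpa [chiS, wtil, rcv] using h 18 (by norm_num)
  have e2 : x1 * x3 = x2 ^ q := by
    simpa [chiS, wtil, rcv] using h 13 (by norm_num)
  have e3 : x0 * x1 = x3 ^ q := by
    simpa [chiS, wtil, rcv] using h 12 (by norm_num)
  have e4 : x1⁻¹ = x1 ^ q := by
    simpa [chiS, wtil, rcv] using h 14 (by norm_num)
  -- `x1^(q+1) = 1`
  have h1 : x1 ^ (q + 1) = 1 := by
    rw [pow_succ, ← e4, inv_mul_cancel]
  -- `x2 = x0^q x1⁻¹`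
  have hx2' : x2 = x0 ^ q * x1⁻¹ := by
    rw [← e1, mul_comm x1 x2, mul_inv_cancel_right]
  -- `x3 = x0^(q²)`
  have hx3' : x3 = x0 ^ (q ^ 2) := by
    have : x3 = x2 ^ q * x1⁻¹ := by rw [← e2, mul_comm x1 x3, mul_inv_cancel_right]
    rw [this, hx2', mul_pow, ← pow_mul, inv_pow, ← e4, inv_inv, mul_assoc, mul_inv_cancel, mul_one, sq]
  -- `x1 = x0^(q³) x0⁻¹`
  have hx1' : x1 = x0 ^ (q ^ 3) * x0⁻¹ := by
    have : x1 = x3 ^ q * x0⁻¹ := by rw [← e3, mul_comm x0 x1, mul_inv_cancel_right]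
    rw [this, hx3', ← pow_mul]
    congr 2
  have hx1 : x1 = x0 ^ ((q : ℤ) ^ 3 - 1) := by
    have e : x0 ^ (q ^ 3) = x0 ^ ((q : ℤ) ^ 3) := by
      rw [← zpow_natCast]
      push_cast
      rfl
    rw [hx1', e, sub_eq_add_neg, zpow_add, zpow_neg, zpow_one]
  have hx3 : x3 = x0 ^ ((q : ℤ) ^ 2) := by
    rw [hx3', ← zpow_natCast]
    push_cast
    rfl
  have hx2 : x2 = x0 ^ ((q : ℤ) + 1 - (q : ℤ) ^ 3) := by
    rw [hx2', hx1, ← zpow_natCast, ← zpow_neg, ← zpow_add]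
    congr 1
    ring
  have hq3 : 1 ≤ q ^ 3 := Nat.one_le_pow _ _ (by omega)
  refine ⟨?_, ?_⟩
  · have : x0 ^ Mq q = x1 ^ (q + 1) := by
      rw [hx1, ← zpow_natCast, ← zpow_natCast, ← zpow_mul, Mq]
      congr 1
      push_cast [hq3]
      ring
    rw [this, h1]
  · intro v _
    unfold chiS kq
    rw [hx1, hx2, hx3, ← zpow_mul, ← zpow_mul, ← zpow_mul, ← zpow_add, ← zpow_add, ← zpow_add]
    congr 1
    ring

end Cfsg.Agent.Helper11.D4T
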