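import Mathlib
import Cfsg.Agent.Lib.Helper2.Psln1

set_option autoImplicit false

namespace Cfsg.Agent.Helper2.PN

open Matrix Matrix.SpecialLinearGroup
open scoped MatrixGroups
open Cfsg.Agent.Helper2.PA (desc desc_mk)

variable {ι : Type*} [Fintype ι] [DecidableEq ι] {F : Type*} [Field F]

/-- the transpose as an element of `SL` -/
def trSL (x : Matrix.SpecialLinearGroup ι F) : Matrix.SpecialLinearGroup ι F :=
  ⟨x.1ᵀ, by rw [det_transpose]; exact x.2⟩

theorem trSL_coe (x : Matrix.SpecialLinearGroup ι F) : (trSL x).1 = x.1ᵀ := rfl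

theorem trSL_mul (x y : Matrix.SpecialLinearGroup ι F) : trSL (x * y) = trSL y * trSL x := by
  apply Subtype.ext
  rw [trSL_coe, coe_mul, coe_mul, Matrix.transpose_mul]
  rfl

theorem trSL_one : trSL (1 : Matrix.SpecialLinearGroup ι F) = 1 := by
  apply Subtype.ext
  rw [trSL_coe, coe_one, Matrix.transpose_one]

theorem trSL_trSL (x : Matrix.SpecialLinearGroup ι F) : trSL (trSL x) = x := by
  apply Subtype.ext
  rw [trSL_coe, trSL_coe, Matrix.transpose_transpose]

theorem trSL_inv (x : Matrix.SpecialLinearGroup ι F) : trSL x⁻¹ = (trSL x)⁻¹ := by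
  apply eq_inv_of_mul_eq_one_left
  rw [← trSL_mul, mul_inv_cancel, trSL_one]

/-- the inverse transpose automorphism of `SL` -/
def invTr : MulAut (Matrix.SpecialLinearGroup ι F) where
  toFun x := trSL x⁻¹
  invFun x := trSL x⁻¹
  left_inv x := by
    change trSL (trSL x⁻¹)⁻¹ = x
    rw [← trSL_inv, inv_inv, trSL_trSL]
  right_inv x := by
    change trSL (trSL x⁻¹)⁻¹ = x
    rw [← trSL_inv, inv_inv, trSL_trSL]
  map_mul' x y := by
    change trSL (x * y)⁻¹ = trSL x⁻¹ * trSL y⁻¹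
    rw [_root_.mul_inv_rev, trSL_mul]

theorem invTr_apply (x : Matrix.SpecialLinearGroup ι F) : invTr x = trSL x⁻¹ := rfl

theorem invTr_invTr (x : Matrix.SpecialLinearGroup ι F) : invTr (invTr x) = x := by
  rw [invTr_apply, invTr_apply, ← trSL_inv, inv_inv, trSL_trSL]

/-- the inverse transpose automorphism of `PSL` -/
noncomputable def tauAut : MulAut (Matrix.ProjectiveSpecialLinearGroup ι F) :=
  desc (Matrix.SpecialLinearGroup ι F) invTr

theorem tauAut_mk (x : Matrix.SpecialLinearGroup ι F) : tauAut (mkn x) = mkn (invTr x) := rfl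

theorem tauAut_mul_self : (tauAut : MulAut (Matrix.ProjectiveSpecialLinearGroup ι F)) * tauAut = 1 := by
  refine MulEquiv.ext fun x => ?_
  obtain ⟨x, rfl⟩ := mkn_surjective x
  rw [MulAut.mul_apply, tauAut_mk, tauAut_mk, invTr_invTr, MulAut.one_apply]

/-- equality in `PSL` -/
theorem mkn_eq_iff (x y : Matrix.SpecialLinearGroup ι F) :
    mkn x = mkn y ↔ ∃ z : F, z ^ Fintype.card ι = 1 ∧ y.1 = z • x.1 := by
  rw [QuotientGroup.mk'_eq_mk']
  constructor
  · rintro ⟨c, hc, rfl⟩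
    rw [Matrix.SpecialLinearGroup.mem_center_iff] at hc
    obtain ⟨z, hz, hzc⟩ := hc
    refine ⟨z, hz, ?_⟩
    rw [coe_mul, ← hzc]
    ext i j
    simp [Matrix.mul_apply, Matrix.diagonal_apply, mul_comm]
  · rintro ⟨z, hz, hy⟩
    refine ⟨x⁻¹ * y, ?_, by group⟩
    rw [Matrix.SpecialLinearGroup.mem_center_iff]
    refine ⟨z, hz, ?_⟩
    rw [coe_mul, hy, Matrix.mul_smul, ← coe_mul, inv_mul_cancel, coe_one]
    ext i j
    simp [Matrix.diagonal_apply, Matrix.one_apply]

section charp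

variable [Nonempty ι] (p : ℕ) [Fact p.Prime] [CharP F p]

/-- the quotient map is injective on `p`-elements -/
theorem eq_of_mkn_eq_of_pow (x y : Matrix.SpecialLinearGroup ι F) (k : ℕ) (hx : x ^ p ^ k = 1)
    (hy : y ^ p ^ k = 1) (h : mkn x = mkn y) : x = y := by
  rw [QuotientGroup.mk'_eq_mk'] at h
  obtain ⟨c, hc, rfl⟩ := h
  have hcomm : Commute x c := Subgroup.mem_center_iff.mp hc x
  rw [hcomm.mul_pow, hx, one_mul] at hy
  rw [Matrix.SpecialLinearGroup.mem_center_iff] at hc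
  obtain ⟨z, -, hzc⟩ := hc
  have h1 : scalar ι (z ^ p ^ k) = 1 := by
    rw [map_pow, hzc, ← coe_pow, hy, coe_one]
  have h2 : z ^ p ^ k = 1 := by
    rw [← map_one (scalar ι)] at h1
    exact Matrix.scalar_inj.mp h1
  have h3 : (z - 1) ^ p ^ k = 0 := by
    rw [sub_pow_char_pow, h2, one_pow, sub_self]
  have h4 : z = 1 := sub_eq_zero.mp (pow_eq_zero_iff (pow_ne_zero k (Fact.out : p.Prime).ne_zero) |>.mp h3)
  have h5 : c = 1 := by
    apply Subtype.ext
    rw [← hzc, h4, map_one, coe_one]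
  rw [h5, mul_one]

end charp

end Cfsg.Agent.Helper2.PN
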