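import Mathlib
import Cfsg.Agent.Lib.Helper2.SympGen

set_option autoImplicit false

namespace Cfsg.Agent.Helper2.Symp

open Matrix
open scoped Cfsg.Agent.Helper2.Symp

variable {m : ℕ} {F : Type*} [Field F]

/-- index of a coordinate -/
def idx {m : ℕ} : Fin m ⊕ Fin m → ℕ := Sum.elim Fin.val Fin.val

theorem mem_stageU_iff_idx {k : ℕ} {x : Fin m ⊕ Fin m → F} :
    x ∈ stageU m F k ↔ ∀ j : Fin m ⊕ Fin m, idx j < k → x j = 0 := by
  rw [mem_stageU_iff]
  constructor
  · intro h j hj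
    rcases j with i | i
    · exact (h i hj).1
    · exact (h i hj).2
  · intro h i hi
    exact ⟨h (Sum.inl i) hi, h (Sum.inr i) hi⟩

/-- the stage subspace as a function space -/
noncomputable def stageUEquiv (m : ℕ) (F : Type*) [Field F] (k : ℕ) :
    stageU m F k ≃ ({j : Fin m ⊕ Fin m // ¬ idx j < k} → F) where
  toFun x := fun j => x.1 j.1
  invFun y := ⟨fun j => if h : idx j < k then 0 else y ⟨j, h⟩, by
    rw [mem_stageU_iff_idx]
    intro j hj
    simp [hj]⟩
  left_inv x := by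
    apply Subtype.ext
    funext j
    by_cases h : idx j < k
    · simp only [h, dite_true]
      exact ((mem_stageU_iff_idx.1 x.2) j h).symm
    · simp only [h, dite_false]
  right_inv y := by
    funext j
    simp only [j.2, dite_false]

theorem card_idx_lt (m k : ℕ) (hk : k ≤ m) :
    Fintype.card {j : Fin m ⊕ Fin m // idx j < k} = 2 * k := by
  have e : {j : Fin m ⊕ Fin m // idx j < k} ≃ {i : Fin m // i.val < k} ⊕ {i : Fin m // i.val < k} :=
    Equiv.subtypeSum
  rw [Fintype.card_congr e, Fintype.card_sum, Fintype.card_subtype, Fin.card_filter_val_lt,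
    Nat.min_eq_right hk]
  ring

theorem card_stageU [Fintype F] (k : ℕ) (hk : k ≤ m) :
    Nat.card (stageU m F k) = Fintype.card F ^ (2 * (m - k)) := by
  classical
  rw [Nat.card_congr (stageUEquiv m F k), Nat.card_eq_fintype_card, Fintype.card_fun,
    Fintype.card_subtype_compl, card_idx_lt m k hk, Fintype.card_sum, Fintype.card_fin]
  congr 1
  omega

section pairs

variable {U : Submodule F (Fin m ⊕ Fin m → F)}

theorem exists_partner (hU : IsND U) {u : Fin m ⊕ Fin m → F} (hu : u ∈ U) (hu0 : u ≠ 0) :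
    ∃ x ∈ U, Bf u x = 1 := by
  obtain ⟨x, hx, h⟩ := hU u hu hu0
  refine ⟨(Bf u x)⁻¹ • x, U.smul_mem _ hx, ?_⟩
  rw [Bf_smul_right, inv_mul_cancel₀ h]

/-- a chosen partner -/
noncomputable def partner (hU : IsND U) (u : {u : U // u ≠ 0}) : Fin m ⊕ Fin m → F :=
  Classical.choose (exists_partner hU u.1.2 (fun h => u.2 (Subtype.ext h)))

theorem partner_mem (hU : IsND U) (u : {u : U // u ≠ 0}) : partner hU u ∈ U :=
  (Classical.choose_spec (exists_partner hU u.1.2 (fun h => u.2 (Subtype.ext h)))).1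

theorem Bf_partner (hU : IsND U) (u : {u : U // u ≠ 0}) :
    Bf (u.1.1 : Fin m ⊕ Fin m → F) (partner hU u) = 1 :=
  (Classical.choose_spec (exists_partner hU u.1.2 (fun h => u.2 (Subtype.ext h)))).2

/-- the counting bijection for hyperbolic pairs -/
noncomputable def pairsEquiv (hU : IsND U) :
    {p : (Fin m ⊕ Fin m → F) × (Fin m ⊕ Fin m → F) // p.1 ∈ U ∧ p.2 ∈ U ∧ Bf p.1 p.2 = 1} × F ≃
      {u : U // u ≠ 0} × U where
  toFun pa :=
    let u : {u : U // u ≠ 0} := ⟨⟨pa.1.1.1, pa.1.2.1⟩, by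
      intro h
      have h0 : pa.1.1.1 = 0 := congrArg Subtype.val h
      have h1 := pa.1.2.2.2
      rw [h0, Bf_zero_left] at h1
      exact zero_ne_one h1⟩
    (u, ⟨pa.1.1.2 + (pa.2 - 1) • partner hU u,
      U.add_mem pa.1.2.2.1 (U.smul_mem _ (partner_mem hU u))⟩)
  invFun uw :=
    (⟨(uw.1.1.1, uw.2.1 - (Bf (uw.1.1.1 : Fin m ⊕ Fin m → F) uw.2.1 - 1) • partner hU uw.1),
      uw.1.1.2, U.sub_mem uw.2.2 (U.smul_mem _ (partner_mem hU uw.1)), by
        show Bf (uw.1.1.1 : Fin m ⊕ Fin m → F) _ = 1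
        rw [Bf_sub_right, Bf_smul_right, Bf_partner]
        ring⟩, Bf (uw.1.1.1 : Fin m ⊕ Fin m → F) uw.2.1)
  left_inv := by
    rintro ⟨⟨⟨u, v⟩, hu, hv, h⟩, a⟩
    have hu0 : (⟨u, hu⟩ : U) ≠ 0 := by
      intro h'
      have h0 : u = 0 := congrArg Subtype.val h'
      rw [h0] at h
      exact zero_ne_one ((Bf_zero_left v).symm.trans h)
    have hp : Bf u (partner hU ⟨⟨u, hu⟩, hu0⟩) = 1 := Bf_partner hU ⟨⟨u, hu⟩, hu0⟩
    have hs : Bf u v + (a - 1) * Bf u (partner hU ⟨⟨u, hu⟩, hu0⟩) - 1 = a - 1 := by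
      linear_combination h + (a - 1) * hp
    simp only
    apply Prod.ext
    · apply Subtype.ext
      apply Prod.ext
      · rfl
      · simp only
        rw [Bf_add_right, Bf_smul_right, hs]
        abel
    · simp only
      rw [Bf_add_right, Bf_smul_right]
      linear_combination hs
  right_inv := by
    rintro ⟨⟨⟨u, hu⟩, hu0⟩, ⟨w, hw⟩⟩
    simp only
    apply Prod.ext
    · rfl
    · apply Subtype.ext
      simp only
      abel

theorem card_pairs [Fintype F] (hU : IsND U) :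
    Nat.card {p : (Fin m ⊕ Fin m → F) × (Fin m ⊕ Fin m → F) //
        p.1 ∈ U ∧ p.2 ∈ U ∧ Bf p.1 p.2 = 1} * Fintype.card F =
      (Nat.card U - 1) * Nat.card U := by
  classical
  have h1 := Nat.card_congr (pairsEquiv hU)
  rw [Nat.card_prod, Nat.card_prod, Nat.card_eq_fintype_card (α := F)] at h1
  rw [h1]
  congr 1
  have : Finite U := inferInstance
  have h2 : Nat.card {u : U // u ≠ 0} = Nat.card U - 1 := by
    have := Fintype.ofFinite U
    rw [Nat.card_eq_fintype_card, Nat.card_eq_fintype_card]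
    show Fintype.card {u : U // ¬ (u = 0)} = Fintype.card U - 1
    rw [Fintype.card_subtype_compl, Fintype.card_subtype_eq]
  exact h2

end pairs

section orbit

theorem orbit_stageG {k : ℕ} (hk : k < m) :
    MulAction.orbit (stageG m F k)
      (((fV ⟨k, hk⟩ : Fin m ⊕ Fin m → F), (eV ⟨k, hk⟩ : Fin m ⊕ Fin m → F))) =
    {p : (Fin m ⊕ Fin m → F) × (Fin m ⊕ Fin m → F) |
      p.1 ∈ stageU m F k ∧ p.2 ∈ stageU m F k ∧ Bf p.1 p.2 = 1} := by
  have hf : (fV ⟨k, hk⟩ : Fin m ⊕ Fin m → F) ∈ stageU m F k := fV_mem_stageU (le_refl _)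
  have he : (eV ⟨k, hk⟩ : Fin m ⊕ Fin m → F) ∈ stageU m F k := eV_mem_stageU (le_refl _)
  ext p
  constructor
  · rintro ⟨g, rfl⟩
    refine ⟨stageG_smul_mem g.2 hf, stageG_smul_mem g.2 he, ?_⟩
    show Bf ((g : Matrix.symplecticGroup (Fin m) F) • (fV ⟨k, hk⟩ : Fin m ⊕ Fin m → F))
      ((g : Matrix.symplecticGroup (Fin m) F) • (eV ⟨k, hk⟩ : Fin m ⊕ Fin m → F)) = 1
    rw [Bf_smul_smul, Bf_fV_eV]
  · rintro ⟨h1, h2, h3⟩
    obtain ⟨h, hh, e1, e2⟩ := trans_pair (isND_stageU k) hf he h1 h2 (Bf_fV_eV _) h3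
    refine ⟨⟨h, tvGroup_stageU_le k hh⟩, ?_⟩
    apply Prod.ext
    · exact e1
    · exact e2

theorem stabilizer_stageG {k : ℕ} (hk : k < m) :
    MulAction.stabilizer (stageG m F k)
      (((fV ⟨k, hk⟩ : Fin m ⊕ Fin m → F), (eV ⟨k, hk⟩ : Fin m ⊕ Fin m → F))) =
    (stageG m F (k + 1)).subgroupOf (stageG m F k) := by
  ext g
  rw [MulAction.mem_stabilizer_iff, Subgroup.mem_subgroupOf, mem_stageG_iff]
  constructor
  · intro h j hj
    have h1 : (g : Matrix.symplecticGroup (Fin m) F) • (fV ⟨k, hk⟩ : Fin m ⊕ Fin m → F) =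
        fV ⟨k, hk⟩ := congrArg Prod.fst h
    have h2 : (g : Matrix.symplecticGroup (Fin m) F) • (eV ⟨k, hk⟩ : Fin m ⊕ Fin m → F) =
        eV ⟨k, hk⟩ := congrArg Prod.snd h
    rcases Nat.lt_succ_iff_lt_or_eq.1 hj with hj' | hj'
    · exact g.2 j hj'
    · have hji : j = ⟨k, hk⟩ := Fin.ext hj'
      rw [hji]
      exact ⟨h2, h1⟩
  · intro h
    have h1 := h ⟨k, hk⟩ (Nat.lt_succ_self k)
    apply Prod.ext
    · exact h1.2
    · exact h1.1

theorem card_stageG_succ [Fintype F] {k : ℕ} (hk : k < m) :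
    Nat.card (stageG m F k) = Nat.card (stageG m F (k + 1)) *
      Nat.card {p : (Fin m ⊕ Fin m → F) × (Fin m ⊕ Fin m → F) //
        p.1 ∈ stageU m F k ∧ p.2 ∈ stageU m F k ∧ Bf p.1 p.2 = 1} := by
  have h1 := Subgroup.card_mul_index (MulAction.stabilizer (stageG m F k)
      (((fV ⟨k, hk⟩ : Fin m ⊕ Fin m → F), (eV ⟨k, hk⟩ : Fin m ⊕ Fin m → F))))
  rw [MulAction.index_stabilizer, orbit_stageG hk, stabilizer_stageG hk,
    Nat.card_congr (Subgroup.subgroupOfEquivOfLe (stageG_antitone (Nat.le_succ k))).toEquiv] at h1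
  rw [← h1]
  rfl

theorem card_stageG [Fintype F] (j : ℕ) (hj : j ≤ m) :
    Nat.card (stageG m F (m - j)) =
      ∏ i ∈ Finset.range j, ((Fintype.card F ^ (2 * (i + 1)) - 1) * Fintype.card F ^ (2 * i + 1)) := by
  induction j with
  | zero =>
    rw [Nat.sub_zero, stageG_eq_bot (le_refl m), Finset.prod_range_zero, Subgroup.card_bot]
  | succ j ih =>
    have hk : m - (j + 1) < m := by omega
    have hk1 : m - (j + 1) + 1 = m - j := by omega
    rw [card_stageG_succ hk, hk1, ih (by omega), Finset.prod_range_succ]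
    congr 1
    have hq : 0 < Fintype.card F := Fintype.card_pos
    have h1 := card_pairs (isND_stageU (m := m) (F := F) (m - (j + 1)))
    rw [card_stageU _ (by omega)] at h1
    have h2 : 2 * (m - (m - (j + 1))) = 2 * (j + 1) := by omega
    rw [h2] at h1
    have h3 : Fintype.card F ^ (2 * (j + 1)) = Fintype.card F ^ (2 * j + 1) * Fintype.card F := by
      rw [← pow_succ]
      congr 1
    apply Nat.eq_of_mul_eq_mul_right hq
    rw [h1, mul_assoc, ← h3]

theorem prod_mul_pow_odd (q : ℕ) (a : ℕ → ℕ) (n : ℕ) :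
    ∏ i ∈ Finset.range n, (a i * q ^ (2 * i + 1)) = q ^ (n ^ 2) * ∏ i ∈ Finset.range n, a i := by
  induction n with
  | zero => simp
  | succ n ih =>
    rw [Finset.prod_range_succ, Finset.prod_range_succ, ih]
    have : q ^ ((n + 1) ^ 2) = q ^ (n ^ 2) * q ^ (2 * n + 1) := by
      rw [← pow_add]
      congr 1
      ring
    rw [this]
    ring

/-- the order of the symplectic group -/
theorem card_symplecticGroup [Fintype F] (m : ℕ) :
    Nat.card (Matrix.symplecticGroup (Fin m) F) =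
      Fintype.card F ^ (m ^ 2) * ∏ i ∈ Finset.range m, (Fintype.card F ^ (2 * (i + 1)) - 1) := by
  have h1 := card_stageG (m := m) (F := F) m (le_refl m)
  rw [Nat.sub_self, stageG_zero, Subgroup.card_top, prod_mul_pow_odd] at h1
  exact h1

end orbit

end Cfsg.Agent.Helper2.Symp
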