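import Mathlib

set_option autoImplicit false

namespace Cfsg.Agent.Helper2.Sp

open Matrix

variable {l : Type*} [DecidableEq l] [Fintype l] {R : Type*} [CommRing R]

theorem upper_mem (S : Matrix l l R) (hS : Sᵀ = S) :
    fromBlocks (1 : Matrix l l R) S 0 1 ∈ symplecticGroup l R := by
  rw [SymplecticGroup.fromBlocks_mem_iff]
  simp [hS]

theorem lower_mem (S : Matrix l l R) (hS : Sᵀ = S) :
    fromBlocks (1 : Matrix l l R) 0 S 1 ∈ symplecticGroup l R := by
  rw [SymplecticGroup.fromBlocks_mem_iff]
  simp [hS]

/-- a matrix commuting with the standard unipotent symplectic matrices is block scalar -/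
theorem blocks_of_commute (Z : Matrix (l ⊕ l) (l ⊕ l) R)
    (hX : ∀ S : Matrix l l R, Sᵀ = S → fromBlocks (1 : Matrix l l R) S 0 1 * Z = Z * fromBlocks 1 S 0 1)
    (hY : fromBlocks (1 : Matrix l l R) 0 1 1 * Z = Z * fromBlocks 1 0 1 1) :
    ∃ P : Matrix l l R, Z = fromBlocks P 0 0 P ∧ ∀ S : Matrix l l R, Sᵀ = S → S * P = P * S := by
  obtain ⟨P, Q, R', T, rfl⟩ : ∃ P Q R' T, Z = fromBlocks P Q R' T :=
    ⟨Z.toBlocks₁₁, Z.toBlocks₁₂, Z.toBlocks₂₁, Z.toBlocks₂₂, (fromBlocks_toBlocks Z).symm⟩
  have h1 := hX 1 (by simp)
  simp only [fromBlocks_multiply, one_mul, zero_mul, mul_one, mul_zero, add_zero, zero_add,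
    fromBlocks_inj] at h1
  obtain ⟨h11, h12, -, -⟩ := h1
  have hR : R' = 0 := by simpa using h11
  subst hR
  have hT : T = P := by
    rw [add_comm P Q] at h12
    exact add_left_cancel h12
  subst hT
  simp only [fromBlocks_multiply, one_mul, zero_mul, mul_one, mul_zero, add_zero, zero_add,
    fromBlocks_inj] at hY
  obtain ⟨hy11, -, -, -⟩ := hY
  have hQ : Q = 0 := by simpa using hy11
  subst hQ
  refine ⟨T, rfl, fun S hS => ?_⟩
  have h2 := hX S hS
  simp only [fromBlocks_multiply, one_mul, zero_mul, mul_one, mul_zero, add_zero, zero_add,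
    fromBlocks_inj] at h2
  exact h2.2.1

/-- a matrix commuting with all symmetric matrices is scalar -/
theorem scalar_of_commute_symm [Nonempty l] (P : Matrix l l R)
    (h : ∀ S : Matrix l l R, Sᵀ = S → S * P = P * S) : ∃ c : R, P = c • (1 : Matrix l l R) := by
  obtain ⟨i0⟩ := ‹Nonempty l›
  have hdiag : ∀ i j, i ≠ j → P i j = 0 := by
    intro i j hij
    have := h (single i i 1) (by simp)
    have h2 := congrFun (congrFun this i) j
    simp [Matrix.mul_apply, single_apply, hij] at h2
    exact h2
  have heq : ∀ i j, P i i = P j j := by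
    intro i j
    by_cases hij : i = j
    · rw [hij]
    have := h (single i j 1 + single j i 1) (by simp [transpose_add, add_comm])
    have h2 := congrFun (congrFun this i) j
    simp [Matrix.mul_apply, Matrix.add_apply, single_apply, hij, Ne.symm hij] at h2
    exact h2.symm
  refine ⟨P i0 i0, ?_⟩
  ext i j
  by_cases hij : i = j
  · subst hij
    simp [heq i i0]
  · simp [hdiag i j hij, hij]


/-- `-1` as an element of the symplectic group -/
def negOne (l : Type*) [DecidableEq l] [Fintype l] (R : Type*) [CommRing R] :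
    symplecticGroup l R := ⟨-1, SymplecticGroup.neg_mem (one_mem _)⟩

theorem negOne_coe : ((negOne l R : symplecticGroup l R) : Matrix (l ⊕ l) (l ⊕ l) R) = -1 := rfl

theorem negOne_mem_center : negOne l R ∈ Subgroup.center (symplecticGroup l R) := by
  rw [Subgroup.mem_center_iff]
  intro g
  apply Subtype.ext
  simp [negOne_coe]

theorem mem_center_iff [Nonempty l] [IsDomain R] (Z : symplecticGroup l R) :
    Z ∈ Subgroup.center (symplecticGroup l R) ↔ Z = 1 ∨ Z = negOne l R := by
  constructor
  · intro hZ
    rw [Subgroup.mem_center_iff] at hZ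
    have hX : ∀ S : Matrix l l R, Sᵀ = S →
        fromBlocks (1 : Matrix l l R) S 0 1 * Z.1 = Z.1 * fromBlocks 1 S 0 1 := by
      intro S hS
      have := hZ ⟨_, upper_mem S hS⟩
      exact congrArg Subtype.val this
    have hY : fromBlocks (1 : Matrix l l R) 0 1 1 * Z.1 = Z.1 * fromBlocks 1 0 1 1 := by
      have := hZ ⟨_, lower_mem (1 : Matrix l l R) (by simp)⟩
      exact congrArg Subtype.val this
    obtain ⟨P, hP, hcomm⟩ := blocks_of_commute Z.1 hX hY
    obtain ⟨c, rfl⟩ := scalar_of_commute_symm P hcomm
    have hmem := Z.2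
    rw [hP, SymplecticGroup.fromBlocks_mem_iff] at hmem
    obtain ⟨-, -, h3⟩ := hmem
    obtain ⟨i0⟩ := ‹Nonempty l›
    have hc : c * c = 1 := by
      have := congrFun (congrFun h3 i0) i0
      simpa [Matrix.mul_apply, Matrix.smul_apply, Matrix.one_apply] using this
    have hc' : c = 1 ∨ c = -1 := mul_self_eq_one_iff.mp hc
    rcases hc' with rfl | rfl
    · left
      apply Subtype.ext
      rw [hP]
      simp [fromBlocks_one]
    · right
      apply Subtype.ext
      rw [hP, negOne_coe]
      simp only [neg_smul, one_smul]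
      rw [← fromBlocks_one, fromBlocks_neg]
      simp
  · rintro (rfl | rfl)
    · exact Subgroup.one_mem _
    · exact negOne_mem_center

theorem negOne_eq_one_iff [Nonempty l] : negOne l R = 1 ↔ (-1 : R) = 1 := by
  constructor
  · intro h
    obtain ⟨i0⟩ := ‹Nonempty l›
    have := congrArg Subtype.val h
    rw [negOne_coe] at this
    have h2 := congrFun (congrFun this (Sum.inl i0)) (Sum.inl i0)
    simpa using h2
  · intro h
    apply Subtype.ext
    rw [negOne_coe]
    ext i j
    simp only [Matrix.neg_apply, Submonoid.coe_one]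
    by_cases hij : i = j
    · subst hij; simpa using h
    · simp [hij]

theorem card_center [Nonempty l] {F : Type*} [Field F] [Fintype F] :
    Nat.card (Subgroup.center (symplecticGroup l F)) = Nat.gcd 2 (Fintype.card F - 1) := by
  have hq : 1 < Fintype.card F := Fintype.one_lt_card
  by_cases h2 : (-1 : F) = 1
  · -- characteristic two
    have hbot : Subgroup.center (symplecticGroup l F) = ⊥ := by
      rw [eq_bot_iff]
      intro Z hZ
      rw [mem_center_iff] at hZ
      rw [Subgroup.mem_bot]
      rcases hZ with rfl | rfl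
      · rfl
      · exact negOne_eq_one_iff.mpr h2
    rw [hbot, Subgroup.card_bot]
    have hchar : ringChar F = 2 := by
      have h20 : (2 : F) = 0 := by
        have : (1 : F) + 1 = 0 := by
          calc (1 : F) + 1 = 1 + (-1) := by rw [h2]
            _ = 0 := by ring
        rw [← this]; norm_num
      have hdvd : ringChar F ∣ 2 := by
        apply ringChar.dvd
        exact_mod_cast h20
      rcases (Nat.dvd_prime Nat.prime_two).mp hdvd with h1 | h1
      · exfalso
        have := CharP.ringChar_ne_one (R := F)
        exact this h1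
      · exact h1
    have heven := FiniteField.even_card_iff_char_two.mp hchar
    have hodd : Odd (Fintype.card F - 1) := by
      rw [Nat.odd_iff]; omega
    symm
    exact Nat.coprime_two_left.mpr hodd
  · have hne : negOne l F ≠ 1 := fun h => h2 (negOne_eq_one_iff.mp h)
    have hchar : ringChar F ≠ 2 := by
      intro h
      apply h2
      have : CharP F 2 := by rw [← h]; exact ringChar.charP F
      exact CharTwo.neg_eq (1 : F)
    have hodd : Fintype.card F % 2 = 1 := by
      have := FiniteField.even_card_iff_char_two (F := F)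
      by_contra hcon
      exact hchar (this.mpr (by omega))
    have hgcd : Nat.gcd 2 (Fintype.card F - 1) = 2 :=
      Nat.gcd_eq_left (by omega)
    rw [hgcd, Nat.card_eq_two_iff]
    refine ⟨⟨1, Subgroup.one_mem _⟩, ⟨negOne l F, negOne_mem_center⟩, ?_, ?_⟩
    · intro h
      exact hne (congrArg Subtype.val h).symm
    · ext Z
      simp only [Set.mem_insert_iff, Set.mem_singleton_iff, Set.mem_univ, iff_true]
      rcases (mem_center_iff Z.1).mp Z.2 with h | h
      · left; exact Subtype.ext h
      · right; exact Subtype.ext h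

end Cfsg.Agent.Helper2.Sp
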