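import Mathlib
import Cfsg.Agent.Lib.Helper26.TIDefs2

/-!
# S1786 piece TI-TORUS (G7), core: `N_H(V)` is transitive on `V#`
(`Cfg1.surjU` and `Cfg8.match1` enter as hypotheses).
-/

set_option autoImplicit false

namespace Cfsg.Agent.Helper26.TI

variable {G : Type*} [Group G] {V P A PA U U' : Subgroup G}

/-- the element `n = x y x` maps `a ∈ A` to `[x,a] ∈ V`. -/
theorem titorus_swap (h : Cfg8 V P A PA U U') {x y : G} (hx : x ∈ P) (hy : y ∈ PA)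
    (hm : ∀ v ∈ V, ∀ a ∈ A, (x * a * x⁻¹ = v * a ↔ y * v * y⁻¹ = a * v)) {a : G} (ha : a ∈ A) :
    (x * y * x) * a * (x * y * x)⁻¹ = x * a * x⁻¹ * a⁻¹ := by
  have haP : a ∈ P := h.left.le ha
  have hvV : x * a * x⁻¹ * a⁻¹ ∈ V := h.left.loc.comm x hx a haP
  set v := x * a * x⁻¹ * a⁻¹ with hv
  have e1 : x * a * x⁻¹ = v * a := by rw [hv]; group
  have e2 : y * v * y⁻¹ = a * v := (hm v hvV a ha).mp e1
  have e3 : y * a = a * y := h.left.locA.cent y hy a ha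
  have e3' : y * a * y⁻¹ = a := by rw [e3]; group
  have e4 : a * v = v * a := h.left.loc.cent a haP v hvV
  have e5 : a * a = 1 := h.left.locA.base.sq a ha
  have e6 : x * v = v * x := h.left.loc.cent x hx v hvV
  calc (x * y * x) * a * (x * y * x)⁻¹ = x * (y * (x * a * x⁻¹) * y⁻¹) * x⁻¹ := by group
    _ = x * (y * (v * a) * y⁻¹) * x⁻¹ := by rw [e1]
    _ = x * ((y * v * y⁻¹) * (y * a * y⁻¹)) * x⁻¹ := by group
    _ = x * ((a * v) * a) * x⁻¹ := by rw [e2, e3']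
    _ = x * (v * (a * a)) * x⁻¹ := by rw [e4]; group
    _ = x * v * x⁻¹ := by rw [e5, mul_one]
    _ = v := by rw [e6]; group

/-- `n = x y x` conjugates `A` onto `V`. -/
theorem titorus_cj [Finite G] (h : Cfg8 V P A PA U U') {x y : G} (hx : x ∈ P) (hy : y ∈ PA)
    (hm : ∀ v ∈ V, ∀ a ∈ A, (x * a * x⁻¹ = v * a ↔ y * v * y⁻¹ = a * v)) :
    cj (x * y * x) A = V := by
  have hle : cj (x * y * x) A ≤ V := by
    intro z hz
    obtain ⟨a, ha, rfl⟩ := mem_cj.mp hz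
    rw [titorus_swap h hx hy hm ha]
    exact h.left.loc.comm x hx a (h.left.le ha)
  apply Subgroup.eq_of_le_of_card_ge hle
  obtain ⟨g, hAg, -⟩ := h.left.conj
  rw [card_cj, hAg, card_cj]

/-- TI-TORUS core. -/
theorem titorus_core [Finite G] (h : Cfg8 V P A PA U U')
    (hsurj : ∀ a ∈ A, a ≠ 1 → ∀ v ∈ V, ∃ u ∈ U, u * a * u⁻¹ * a⁻¹ = v)
    (hmatch : ∀ x ∈ P, (∃ a ∈ A, x * a ≠ a * x) →
      ∃ y ∈ PA, ∀ v ∈ V, ∀ a ∈ A, (x * a * x⁻¹ = v * a ↔ y * v * y⁻¹ = a * v))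
    {v v' : G} (hv : v ∈ V) (hv1 : v ≠ 1) (hv' : v' ∈ V) (hv'1 : v' ≠ 1) :
    ∃ t ∈ P ⊔ PA, cj t V = V ∧ t * v * t⁻¹ = v' := by
  -- a nontrivial element of A
  obtain ⟨g, hAg, -⟩ := h.left.conj
  have ha0 : ∃ a0 ∈ A, a0 ≠ 1 := by
    refine ⟨g * v * g⁻¹, ?_, ?_⟩
    · rw [hAg]; exact conj_mem_cj hv
    · intro h1
      apply hv1
      calc v = g⁻¹ * (g * v * g⁻¹) * g := by group
        _ = 1 := by rw [h1]; group
  obtain ⟨a0, ha0, ha01⟩ := ha0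
  -- a general fact: u with [u,a0] = w ≠ 1 does not centralize A
  have key : ∀ w ∈ V, w ≠ 1 → ∃ n ∈ P ⊔ PA, cj n A = V ∧ n * a0 * n⁻¹ = w := by
    intro w hw hw1
    obtain ⟨u, hu, huw⟩ := hsurj a0 ha0 ha01 w hw
    have huP : u ∈ P := h.left.U_le hu
    have hnc : ∃ a ∈ A, u * a ≠ a * u := by
      refine ⟨a0, ha0, ?_⟩
      intro hc
      apply hw1
      rw [← huw, hc]; group
    obtain ⟨y, hy, hm⟩ := hmatch u huP hnc
    refine ⟨u * y * u, ?_, titorus_cj h huP hy hm, ?_⟩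
    · have h1 : u ∈ P ⊔ PA := Subgroup.mem_sup_left huP
      have h2 : y ∈ P ⊔ PA := Subgroup.mem_sup_right hy
      exact Subgroup.mul_mem _ (Subgroup.mul_mem _ h1 h2) h1
    · rw [titorus_swap h huP hy hm ha0, huw]
  obtain ⟨n, hn, hnA, hnv⟩ := key v hv hv1
  obtain ⟨n', hn', hn'A, hn'v⟩ := key v' hv' hv'1
  refine ⟨n' * n⁻¹, Subgroup.mul_mem _ hn' (Subgroup.inv_mem _ hn), ?_, ?_⟩
  · have e1 : cj n⁻¹ V = A := by rw [← hnA, cj_inv_cj]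
    rw [← cj_cj, e1, hn'A]
  · calc n' * n⁻¹ * v * (n' * n⁻¹)⁻¹ = n' * (n⁻¹ * v * n) * n'⁻¹ := by group
      _ = n' * (n⁻¹ * (n * a0 * n⁻¹) * n) * n'⁻¹ := by rw [hnv]
      _ = n' * a0 * n'⁻¹ := by group
      _ = v' := hn'v

end Cfsg.Agent.Helper26.TI
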