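import Mathlib
import Cfsg.Agent.Lib.Helper26.TIDefs2
import Cfsg.Agent.Lib.Helper27.TIPHI2
import Cfsg.Agent.Lib.Helper4.TISYMCore
import Cfsg.Agent.Lib.Helper2.TITORUSCore

/-!
# S1786 piece TI-TORUS (G7): `Cfg8.trans` (exact skeleton name and signature).
-/

set_option autoImplicit false

namespace Cfsg.Agent.Helper26.TI

variable {G : Type*} [Group G] {V P A PA U U' : Subgroup G}

/-- TI-TORUS (G7). -/
theorem Cfg8.trans [Finite G] (h : Cfg8 V P A PA U U') {v v' : G} (hv : v ∈ V) (hv1 : v ≠ 1)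
    (hv' : v' ∈ V) (hv'1 : v' ≠ 1) : ∃ t ∈ P ⊔ PA, cj t V = V ∧ t * v * t⁻¹ = v' :=
  titorus_core h (fun _ ha ha1 _ hv => h.left.surjU ha ha1 hv)
    (fun _ hx hxA => tisym_match_core h
      (fun _ ha _ hv hv1 => h.right.partition ha hv hv1) hx hxA) hv hv1 hv' hv'1

end Cfsg.Agent.Helper26.TI
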