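import Mathlib
import Cfsg.Agent.Lib.Helper2.ExcIso
import Cfsg.Agent.Lib.Helper13.IsomTransfer
import Cfsg.Agent.Lib.Helper17.QuadExt
import Cfsg.Agent.Lib.Helper17.QuadRoot

set_option autoImplicit false
set_option linter.unusedSectionVars false
set_option linter.unusedSimpArgs false

namespace Cfsg.Agent.Helper2.ExcM4

open Matrix Matrix.SpecialLinearGroup
open scoped MatrixGroups

/-- the data of a quadratic extension `K/F` with a generator `t` of norm `b` and trace `a` -/
structure QData (F K : Type*) [Field F] [Field K] (a b : F) where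
  /-- the embedding -/
  emb : F →+* K
  /-- the conjugation -/
  σ : K →+* K
  /-- the generator -/
  t : K
  hσσ : ∀ x, σ (σ x) = x
  hσemb : ∀ x, σ (emb x) = emb x
  hfix : ∀ x, σ x = x → ∃ y, emb y = x
  ht1 : t + σ t = emb a
  ht2 : t * σ t = emb b
  htne : σ t ≠ t

variable {F K : Type*} [Field F] [Field K] {a b : F} (D : QData F K a b)

/-- the index type of the four-dimensional space -/
abbrev K4m : Type := (Fin 1 ⊕ Fin 1) ⊕ Fin 2

namespace QData

theorem emb_injective : Function.Injective D.emb := D.emb.injective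

theorem sub_ne : D.t - D.σ D.t ≠ 0 := sub_ne_zero.2 (Ne.symm D.htne)

/-- the off-diagonal entry -/
def beta (v : K4m → F) : K := D.emb (v (.inr 0)) + D.emb (v (.inr 1)) * D.t

/-- the Hermitian matrix with coordinates `v` -/
def toH (v : K4m → F) : Matrix (Fin 2) (Fin 2) K :=
  !![-D.emb (v (.inl (.inl 0))), D.beta v; D.σ (D.beta v), D.emb (v (.inl (.inr 0)))]

theorem beta_add (u v : K4m → F) : D.beta (u + v) = D.beta u + D.beta v := by
  simp only [beta, Pi.add_apply, map_add]; ring

theorem beta_smul (c : F) (v : K4m → F) : D.beta (c • v) = D.emb c * D.beta v := by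
  simp only [beta, Pi.smul_apply, smul_eq_mul, map_mul]; ring

theorem toH_add (u v : K4m → F) : D.toH (u + v) = D.toH u + D.toH v := by
  ext i j
  fin_cases i <;> fin_cases j <;> simp [toH, beta_add] <;> ring

theorem toH_smul (c : F) (v : K4m → F) : D.toH (c • v) = D.emb c • D.toH v := by
  ext i j
  fin_cases i <;> fin_cases j <;> simp [toH, beta_smul, D.hσemb]

theorem norm_beta (v : K4m → F) :
    D.beta v * D.σ (D.beta v) =
      D.emb (v (.inr 0) ^ 2 + a * v (.inr 0) * v (.inr 1) + b * v (.inr 1) ^ 2) := by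
  simp only [beta, map_add, map_mul, map_pow, D.hσemb, ← D.ht1, ← D.ht2]
  ring

theorem det_toH (v : K4m → F) : (D.toH v).det = -D.emb (Cfsg.quadFormMinus 1 F a b v) := by
  rw [Matrix.det_fin_two]
  simp only [toH, Matrix.of_apply, Matrix.cons_val', Matrix.cons_val_zero, Matrix.cons_val_one,
    Matrix.cons_val_fin_one]
  rw [Cfsg.quadFormMinus, map_add, ← norm_beta]
  simp
  ring

/-- Hermitian matrices -/
def IsHerm (A : Matrix (Fin 2) (Fin 2) K) : Prop := ∀ i j, D.σ (A i j) = A j i

theorem isHerm_toH (v : K4m → F) : D.IsHerm (D.toH v) := by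
  intro i j
  fin_cases i <;> fin_cases j <;> simp [toH, D.hσemb, D.hσσ]

theorem exists_of_isHerm {A : Matrix (Fin 2) (Fin 2) K} (hA : D.IsHerm A) :
    ∃ v, D.toH v = A := by
  obtain ⟨x, hx⟩ := D.hfix (A 0 0) (hA 0 0)
  obtain ⟨y, hy⟩ := D.hfix (A 1 1) (hA 1 1)
  have hne := D.sub_ne
  have hne' : D.σ D.t - D.t ≠ 0 := sub_ne_zero.2 D.htne
  obtain ⟨z₂, hz₂⟩ := D.hfix ((A 0 1 - D.σ (A 0 1)) / (D.t - D.σ D.t)) (by
    rw [map_div₀, map_sub, map_sub, D.hσσ, D.hσσ]
    field_simp
    ring)
  obtain ⟨z₁, hz₁⟩ := D.hfix (A 0 1 - (A 0 1 - D.σ (A 0 1)) / (D.t - D.σ D.t) * D.t) (by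
    rw [map_sub, map_mul, map_div₀, map_sub, map_sub, D.hσσ, D.hσσ]
    field_simp
    ring)
  refine ⟨Sum.elim (Sum.elim (fun _ => -x) (fun _ => y)) ![z₁, z₂], ?_⟩
  have hb : D.beta (Sum.elim (Sum.elim (fun _ => -x) (fun _ => y)) ![z₁, z₂]) = A 0 1 := by
    simp only [beta, Sum.elim_inr, Matrix.cons_val_zero, Matrix.cons_val_one,
      Matrix.cons_val_fin_one, hz₁, hz₂]
    ring
  ext i j
  fin_cases i <;> fin_cases j
  · simp [toH, hx]
  · simpa [toH] using hb
  · simp only [toH, hb]
    simpa using hA 0 1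
  · simp [toH, hy]

theorem toH_injective : Function.Injective D.toH := by
  intro u v huv
  have h00 := congrFun (congrFun huv 0) 0
  have h11 := congrFun (congrFun huv 1) 1
  have h01 := congrFun (congrFun huv 0) 1
  simp only [toH, Matrix.of_apply, Matrix.cons_val', Matrix.cons_val_zero, Matrix.cons_val_one,
    Matrix.cons_val_fin_one, neg_inj] at h00 h11 h01
  have h10 : D.σ (D.beta u) = D.σ (D.beta v) := by rw [h01]
  simp only [beta, map_add, map_mul, D.hσemb] at h01 h10
  have hne := D.sub_ne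
  have e2 : D.emb (u (.inr 1)) = D.emb (v (.inr 1)) := by
    have : (D.emb (u (.inr 1)) - D.emb (v (.inr 1))) * (D.t - D.σ D.t) = 0 := by
      linear_combination h01 - h10
    rcases mul_eq_zero.1 this with h | h
    · exact sub_eq_zero.1 h
    · exact absurd h hne
  have e1 : D.emb (u (.inr 0)) = D.emb (v (.inr 0)) := by
    rw [e2] at h01
    exact add_right_cancel h01
  ext k
  rcases k with (k | k) | k
  · fin_cases k; exact D.emb_injective h00
  · fin_cases k; exact D.emb_injective h11
  · fin_cases k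
    · exact D.emb_injective e1
    · exact D.emb_injective e2

/-- the twisted conjugation action -/
def conj (g : SL(2, K)) (A : Matrix (Fin 2) (Fin 2) K) : Matrix (Fin 2) (Fin 2) K :=
  g.1 * A * (g.1.map D.σ)ᵀ

theorem isHerm_iff (A : Matrix (Fin 2) (Fin 2) K) : D.IsHerm A ↔ A.map D.σ = Aᵀ := by
  constructor
  · intro h; ext i j; exact h i j
  · intro h i j; exact congrFun (congrFun h i) j

theorem map_map_σ (A : Matrix (Fin 2) (Fin 2) K) : (A.map D.σ).map D.σ = A := by
  ext i j; simp [D.hσσ]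

theorem isHerm_conj (g : SL(2, K)) {A : Matrix (Fin 2) (Fin 2) K} (hA : D.IsHerm A) :
    D.IsHerm (D.conj g A) := by
  rw [isHerm_iff] at hA ⊢
  unfold conj
  rw [Matrix.map_mul, Matrix.map_mul, hA, Matrix.transpose_mul, Matrix.transpose_mul,
    Matrix.transpose_transpose, Matrix.transpose_map, D.map_map_σ, Matrix.mul_assoc]

theorem conj_one (A : Matrix (Fin 2) (Fin 2) K) : D.conj 1 A = A := by
  unfold conj
  have : ((1 : SL(2, K)).1.map D.σ) = 1 := by
    ext i j
    fin_cases i <;> fin_cases j <;> simp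
  rw [this]
  simp

theorem conj_mul (g h : SL(2, K)) (A : Matrix (Fin 2) (Fin 2) K) :
    D.conj (g * h) A = D.conj g (D.conj h A) := by
  unfold conj
  rw [coe_mul, Matrix.map_mul, Matrix.transpose_mul]
  simp only [Matrix.mul_assoc]

theorem det_conj (g : SL(2, K)) (A : Matrix (Fin 2) (Fin 2) K) : (D.conj g A).det = A.det := by
  unfold conj
  have h1 : (g.1.map D.σ).det = 1 := by
    have := RingHom.map_det D.σ g.1
    rw [g.2, map_one] at this
    exact this.symm
  rw [Matrix.det_mul, Matrix.det_mul, Matrix.det_transpose, h1, g.2, one_mul, mul_one]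

theorem conj_add (g : SL(2, K)) (A B : Matrix (Fin 2) (Fin 2) K) :
    D.conj g (A + B) = D.conj g A + D.conj g B := by
  unfold conj
  rw [Matrix.mul_add, Matrix.add_mul]

theorem conj_smul (g : SL(2, K)) (c : K) (A : Matrix (Fin 2) (Fin 2) K) :
    D.conj g (c • A) = c • D.conj g A := by
  unfold conj
  rw [Matrix.mul_smul, Matrix.smul_mul]

/-- coordinates of a Hermitian matrix -/
noncomputable def back (A : Matrix (Fin 2) (Fin 2) K) : K4m → F :=
  open Classical in if h : ∃ v, D.toH v = A then h.choose else 0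

theorem toH_back {A : Matrix (Fin 2) (Fin 2) K} (hA : D.IsHerm A) : D.toH (D.back A) = A := by
  have h := D.exists_of_isHerm hA
  unfold back
  rw [dif_pos h]
  exact h.choose_spec

theorem back_toH (v : K4m → F) : D.back (D.toH v) = v :=
  D.toH_injective (D.toH_back (D.isHerm_toH v))

/-- the action on coordinates -/
noncomputable def rho (g : SL(2, K)) : (K4m → F) →ₗ[F] (K4m → F) where
  toFun v := D.back (D.conj g (D.toH v))
  map_add' u v := by
    have key : ∀ w, D.toH (D.back (D.conj g (D.toH w))) = D.conj g (D.toH w) :=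
      fun w => D.toH_back (D.isHerm_conj g (D.isHerm_toH _))
    apply D.toH_injective
    rw [key, D.toH_add (D.back _) (D.back _), key, key, D.toH_add, D.conj_add]
  map_smul' c v := by
    have key : ∀ w, D.toH (D.back (D.conj g (D.toH w))) = D.conj g (D.toH w) :=
      fun w => D.toH_back (D.isHerm_conj g (D.isHerm_toH _))
    apply D.toH_injective
    rw [RingHom.id_apply, key, D.toH_smul c (D.back _), key, D.toH_smul, D.conj_smul]

theorem toH_rho (g : SL(2, K)) (v : K4m → F) : D.toH (D.rho g v) = D.conj g (D.toH v) :=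
  D.toH_back (D.isHerm_conj g (D.isHerm_toH _))

theorem rho_one (v : K4m → F) : D.rho 1 v = v := by
  apply D.toH_injective
  rw [toH_rho, conj_one]

theorem rho_mul (g h : SL(2, K)) (v : K4m → F) : D.rho (g * h) v = D.rho g (D.rho h v) := by
  apply D.toH_injective
  rw [toH_rho, toH_rho, toH_rho, conj_mul]

theorem quadFormMinus_rho (g : SL(2, K)) (v : K4m → F) :
    Cfsg.quadFormMinus 1 F a b (D.rho g v) = Cfsg.quadFormMinus 1 F a b v := by
  apply D.emb_injective
  have h1 := D.det_toH (D.rho g v)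
  rw [toH_rho, det_conj, det_toH] at h1
  exact (neg_injective h1).symm

/-- the homomorphism `SL₂(K) → O⁻₄(F)` -/
theorem exists_hom (q : (K4m → F) → F) (hq : ∀ v, q v = Cfsg.quadFormMinus 1 F a b v) :
    ∃ φ : SL(2, K) →* Cfsg.isometryGroup F q,
    ∀ g w, ((φ g : GL K4m F) : Matrix K4m K4m F) *ᵥ w = D.rho g w := by
  obtain ⟨φ, hφ⟩ := Cfsg.Agent.Helper13.exists_hom_isometry (fun g : SL(2, K) => D.rho g)
    D.rho_one D.rho_mul (LinearEquiv.refl F (K4m → F)) q (fun g v => by
      show q (D.rho g v) = q v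
      rw [hq, hq, quadFormMinus_rho])
  exact ⟨φ, fun g w => hφ g w⟩

end QData

/-- a matrix of `SL₂` commuting with the two elementary nilpotent matrices is `±1` -/
theorem eq_one_or_neg_one_of_comm_single (g : SL(2, K))
    (h1 : g.1 * !![0, 1; 0, 0] = !![0, 1; 0, 0] * g.1)
    (h2 : g.1 * !![0, 0; 1, 0] = !![0, 0; 1, 0] * g.1) : g = 1 ∨ g = -1 := by
  have e10 : g.1 1 0 = 0 := by
    have := congrFun (congrFun h1 1) 1
    simp [Matrix.mul_apply, Fin.sum_univ_two] at this
    exact this
  have e01 : g.1 0 1 = 0 := by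
    have := congrFun (congrFun h2 0) 0
    simp [Matrix.mul_apply, Fin.sum_univ_two] at this
    exact this
  have e00 : g.1 0 0 = g.1 1 1 := by
    have := congrFun (congrFun h1 0) 1
    simp [Matrix.mul_apply, Fin.sum_univ_two] at this
    exact this
  have hdet := g.2
  rw [Matrix.det_fin_two, e10, e01, ← e00] at hdet
  have hsq : (g.1 0 0 - 1) * (g.1 0 0 + 1) = 0 := by linear_combination hdet
  rcases mul_eq_zero.1 hsq with h3 | h3
  · left
    apply Subtype.ext
    ext i j
    fin_cases i <;> fin_cases j <;> simp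
    · linear_combination h3
    · exact e01
    · exact e10
    · rw [← e00]; linear_combination h3
  · right
    apply Subtype.ext
    ext i j
    fin_cases i <;> fin_cases j <;> simp
    · linear_combination h3
    · exact e01
    · exact e10
    · rw [← e00]; linear_combination h3

namespace QData

section hom
variable {q : (K4m → F) → F} (φ : SL(2, K) →* Cfsg.isometryGroup F q)
  (hφ : ∀ g w, ((φ g : GL K4m F) : Matrix K4m K4m F) *ᵥ w = D.rho g w)

include hφ

theorem eq_one_or_neg_one_of_mem_ker {g : SL(2, K)} (hg : φ g = 1) : g = 1 ∨ g = -1 := by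
  have h0 : ∀ v, D.conj g (D.toH v) = D.toH v := by
    intro v
    have h1 := hφ g v
    rw [hg] at h1
    simp only [OneMemClass.coe_one, Units.val_one, Matrix.one_mulVec] at h1
    rw [← toH_rho, ← h1]
  -- the identity matrix is Hermitian
  have hone : D.toH (Sum.elim (Sum.elim (fun _ => -1) (fun _ => 1)) ![0, 0]) = 1 := by
    ext i j
    fin_cases i <;> fin_cases j <;> simp [toH, beta]
  have h1 := h0 (Sum.elim (Sum.elim (fun _ => -1) (fun _ => 1)) ![0, 0])
  rw [hone] at h1
  unfold conj at h1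
  rw [Matrix.mul_one] at h1
  have h1' : (g.1.map D.σ)ᵀ * g.1 = 1 := (_root_.mul_eq_one_comm).1 h1
  have hcomm : ∀ v, g.1 * D.toH v = D.toH v * g.1 := by
    intro v
    have h2 := h0 v
    unfold conj at h2
    calc g.1 * D.toH v = g.1 * D.toH v * ((g.1.map D.σ)ᵀ * g.1) := by rw [h1', Matrix.mul_one]
      _ = (g.1 * D.toH v * (g.1.map D.σ)ᵀ) * g.1 := by simp only [Matrix.mul_assoc]
      _ = D.toH v * g.1 := by rw [h2]
  have hS := hcomm (Sum.elim (Sum.elim (fun _ => 0) (fun _ => 0)) ![1, 0])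
  have hT := hcomm (Sum.elim (Sum.elim (fun _ => 0) (fun _ => 0)) ![0, 1])
  have hSm : D.toH (Sum.elim (Sum.elim (fun _ => 0) (fun _ => 0)) ![1, 0]) = !![0, 1; 1, 0] := by
    ext i j
    fin_cases i <;> fin_cases j <;> simp [toH, beta]
  have hTm : D.toH (Sum.elim (Sum.elim (fun _ => 0) (fun _ => 0)) ![0, 1]) =
      !![0, D.t; D.σ D.t, 0] := by
    ext i j
    fin_cases i <;> fin_cases j <;> simp [toH, beta]
  rw [hSm] at hS
  rw [hTm] at hT
  have hne := D.sub_ne
  have e1 : (!![0, D.t; D.σ D.t, 0] : Matrix (Fin 2) (Fin 2) K) - D.σ D.t • !![0, 1; 1, 0] =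
      (D.t - D.σ D.t) • !![0, 1; 0, 0] := by
    ext i j
    fin_cases i <;> fin_cases j <;> simp
  have e2 : (!![0, D.t; D.σ D.t, 0] : Matrix (Fin 2) (Fin 2) K) - D.t • !![0, 1; 1, 0] =
      (D.σ D.t - D.t) • !![0, 0; 1, 0] := by
    ext i j
    fin_cases i <;> fin_cases j <;> simp
  apply eq_one_or_neg_one_of_comm_single
  · have h3 : g.1 * ((D.t - D.σ D.t) • !![0, 1; 0, 0]) = ((D.t - D.σ D.t) • !![0, 1; 0, 0]) * g.1 := by
      rw [← e1, Matrix.mul_sub, Matrix.sub_mul, Matrix.mul_smul, Matrix.smul_mul, hS, hT]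
    rw [Matrix.mul_smul, Matrix.smul_mul] at h3
    exact smul_right_injective _ hne h3
  · have hne' : D.σ D.t - D.t ≠ 0 := sub_ne_zero.2 D.htne
    have h3 : g.1 * ((D.σ D.t - D.t) • !![0, 0; 1, 0]) = ((D.σ D.t - D.t) • !![0, 0; 1, 0]) * g.1 := by
      rw [← e2, Matrix.mul_sub, Matrix.sub_mul, Matrix.mul_smul, Matrix.smul_mul, hS, hT]
    rw [Matrix.mul_smul, Matrix.smul_mul] at h3
    exact smul_right_injective _ hne' h3

theorem card_ker_le : Nat.card φ.ker ≤ 2 := by
  classical
  have hsub : (φ.ker : Set SL(2, K)) ⊆ ({1, -1} : Finset SL(2, K)) := by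
    intro g hg
    rcases D.eq_one_or_neg_one_of_mem_ker φ hφ (MonoidHom.mem_ker.1 hg) with h | h <;> simp [h]
  calc Nat.card φ.ker = (φ.ker : Set SL(2, K)).ncard := Nat.card_coe_set_eq _
    _ ≤ (({1, -1} : Finset SL(2, K)) : Set SL(2, K)).ncard :=
        Set.ncard_le_ncard hsub (Finset.finite_toSet _)
    _ = ({1, -1} : Finset SL(2, K)).card := Set.ncard_coe_finset _
    _ ≤ 2 := Finset.card_le_two

theorem card_ker_eq_one (h2 : (2 : F) = 0) : Nat.card φ.ker = 1 := by
  rw [Subgroup.card_eq_one, eq_bot_iff]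
  intro g hg
  rw [Subgroup.mem_bot]
  have h2K : (2 : K) = 0 := by
    have h3 := congrArg D.emb h2
    rw [map_ofNat, map_zero] at h3
    exact h3
  have hneg : (-1 : SL(2, K)) = 1 := by
    apply Subtype.ext
    ext i k
    have : (-1 : K) = 1 := by linear_combination (-1 : K) * h2K
    fin_cases i <;> fin_cases k <;> simp [this]
  rcases D.eq_one_or_neg_one_of_mem_ker φ hφ (MonoidHom.mem_ker.1 hg) with h | h
  · exact h
  · rw [h, hneg]

theorem ker_le_center : φ.ker ≤ Subgroup.center SL(2, K) := by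
  intro g hg
  rw [Subgroup.mem_center_iff]
  intro x
  rcases D.eq_one_or_neg_one_of_mem_ker φ hφ (MonoidHom.mem_ker.1 hg) with h | h <;> rw [h] <;>
    simp

theorem mem_center_of_comm (hperf : commutator SL(2, K) = ⊤) {g : SL(2, K)}
    (hg : ∀ x : SL(2, K), φ g * φ x = φ x * φ g) : g ∈ Subgroup.center SL(2, K) := by
  apply Cfsg.Agent.Helper2.Exc.mem_center_of_perfect hperf φ.rangeRestrict
  · rw [MonoidHom.ker_rangeRestrict]
    exact D.ker_le_center φ hφ
  · rw [Subgroup.mem_center_iff]
    rintro ⟨_, x, rfl⟩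
    apply Subtype.ext
    exact (hg x).symm

end hom

end QData

/-- `SL₂(K)` is perfect when `K` has at least four elements -/
theorem commutator_SL2_eq_top [Fintype K] (hK : 4 ≤ Fintype.card K) :
    commutator SL(2, K) = ⊤ := by
  classical
  obtain ⟨x, hx0, hx1, hx2⟩ : ∃ x : K, x ≠ 0 ∧ x ≠ 1 ∧ x ≠ -1 := by
    by_contra hcon0
    have hcon : ∀ x : K, x = 0 ∨ x = 1 ∨ x = -1 := by
      intro x
      by_contra hx
      push Not at hx
      exact hcon0 ⟨x, hx.1, hx.2.1, hx.2.2⟩
    have hsub : (Finset.univ : Finset K) ⊆ {0, 1, -1} := by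
      intro x _
      rcases hcon x with h | h | h <;> simp [h]
    have := Finset.card_le_card hsub
    have h3 : ({0, 1, -1} : Finset K).card ≤ 3 := Finset.card_le_three
    rw [Finset.card_univ] at this
    omega
  have hxsq : x ^ 2 ≠ 1 := by
    intro h
    have : (x - 1) * (x + 1) = 0 := by linear_combination h
    rcases mul_eq_zero.1 this with h' | h'
    · exact hx1 (sub_eq_zero.1 h')
    · exact hx2 (eq_neg_of_add_eq_zero_left h')
  exact SL2.commutator_eq_top hx0 hxsq

/-- the quadratic extension data exist -/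
theorem nonempty_qdata [Fintype F] [Fintype K] {q : ℕ} (hF : Fintype.card F = q)
    (hK : Fintype.card K = q ^ 2) (a b : F)
    (hab : ∀ z₁ z₂ : F, z₁ ^ 2 + a * z₁ * z₂ + b * z₂ ^ 2 = 0 → z₁ = 0 ∧ z₂ = 0) :
    Nonempty (QData F K a b) := by
  obtain ⟨emb, σ, hσ, hσσ, hσemb, hfix, -⟩ := Cfsg.Agent.Helper17.exists_quadExt_data hK hF
  have hab' : ∀ z : F, z ^ 2 + (-a) * z + b ≠ 0 := by
    intro z hz
    have := hab (-z) 1 (by linear_combination hz)
    exact one_ne_zero this.2
  obtain ⟨t, ht⟩ := Cfsg.Agent.Helper17.exists_root_quadratic hK hF emb (-a) b hab'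
  rw [map_neg] at ht
  have htne : σ t ≠ t := by
    intro h
    obtain ⟨c, rfl⟩ := hfix t h
    apply hab' c
    apply emb.injective
    rw [map_add, map_add, map_mul, map_pow, map_neg, map_zero]
    exact ht
  have ht' : σ t ^ 2 + -emb a * σ t + emb b = 0 := by
    have := congrArg σ ht
    rw [map_add, map_add, map_mul, map_pow, map_neg, hσemb, hσemb, map_zero] at this
    exact this
  have hne : t - σ t ≠ 0 := sub_ne_zero.2 (Ne.symm htne)
  have ht1 : t + σ t = emb a := by
    have : (t - σ t) * (t + σ t - emb a) = 0 := by linear_combination ht - ht'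
    rcases mul_eq_zero.1 this with h | h
    · exact absurd h hne
    · exact sub_eq_zero.1 h
  have ht2 : t * σ t = emb b := by
    have : σ t = emb a - t := by linear_combination ht1
    rw [this]
    linear_combination (-1 : K) * ht
  exact ⟨⟨emb, σ, t, hσσ, hσemb, hfix, ht1, ht2, htne⟩⟩

end Cfsg.Agent.Helper2.ExcM4
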