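import Mathlib
import Cfsg.Agent.Lib.Helper13.G2I_BASE1A
import Cfsg.Agent.Lib.Helper18.G2I_BASE2A
import Cfsg.Agent.Lib.Helper19.G2I_BASE2B
import Cfsg.Agent.Lib.Helper13.G2TCHIA
import Cfsg.Agent.Lib.Helper16.G2TCHIB

/-!
# S4278 / S4279, piece TK (designer helper13): `T ∩ K` = elements of `T` whose value at the root `11` is a square
-/

set_option autoImplicit false
set_option linter.style.haveILetI false
set_option linter.unusedVariables false

namespace Cfsg.Agent.Helper13.G2I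

open Cfsg Cfsg.Lie Cfsg.Agent.Lead.Chev Cfsg.Agent.Helper11.G2T Cfsg.Agent.Helper6.SL2Hom
  Cfsg.Agent.Helper6.ChevL Matrix

variable {F : Type*} [Field F]

/-- the diagonal matrix `diag(s, s⁻¹)` of `SL₂(F)` -/
def tkDiag (s : F) (hs : s ≠ 0) : SpecialLinearGroup (Fin 2) F :=
  ⟨!![s, 0; 0, s⁻¹], by rw [Matrix.det_fin_two_of, mul_zero, sub_zero, mul_inv_cancel₀ hs]⟩

theorem tk_phiL_diag (s : F) (hs : s ≠ 0) : phiL F (tkDiag s hs) = hGLt chevG2 (g2F F).xadd 11 s :=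
  phiL_diag s hs (tkDiag s hs) rfl rfl rfl

theorem tk_phiS_diag (s : F) (hs : s ≠ 0) : phiS F (tkDiag s hs) = hGLt chevG2 (g2F F).xadd 7 s :=
  phiS_diag s hs (tkDiag s hs) rfl rfl rfl

/-- if `A x(1) A⁻¹ = x(c)` in `SL₂(F)` then `c` is a square -/
theorem tk_square_of_conj (A : SpecialLinearGroup (Fin 2) F) (c : F) (h : A * xS 1 = xS c * A) :
    IsSquare c := by
  have h11 : (A * xS (1 : F) : SpecialLinearGroup (Fin 2) F) 1 1 = (xS c * A : SpecialLinearGroup (Fin 2) F) 1 1 := by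
    rw [h]
  have h01 : (A * xS (1 : F) : SpecialLinearGroup (Fin 2) F) 0 1 = (xS c * A : SpecialLinearGroup (Fin 2) F) 0 1 := by
    rw [h]
  rw [mul_xS_11] at h11
  rw [mul_xS_01] at h01
  have r11 : (xS c * A : SpecialLinearGroup (Fin 2) F) 1 1 = A 1 1 := by
    simp [xS_coe, Matrix.mul_apply, Fin.sum_univ_two]
  have r01 : (xS c * A : SpecialLinearGroup (Fin 2) F) 0 1 = A 0 1 + c * A 1 1 := by
    simp [xS_coe, Matrix.mul_apply, Fin.sum_univ_two]
  rw [r11] at h11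
  rw [r01] at h01
  have hr : A 1 0 = 0 := by linear_combination h11
  have hd := det_eq A
  rw [hr, mul_zero, sub_zero] at hd
  have hp : A 0 0 = c * A 1 1 := by linear_combination h01
  refine ⟨A 0 0, ?_⟩
  calc c = c * (A 0 0 * A 1 1) := by rw [hd, mul_one]
    _ = A 0 0 * (c * A 1 1) := by ring
    _ = A 0 0 * A 0 0 := by rw [← hp]

/-- `T ∩ K`: the elements whose value at the long root `11` is a square -/
theorem TT_mem_KK_iff (h2 : (2 : F) ≠ 0) (h : GL chevG2.Idx F) (hh : h ∈ TT F) : h ∈ KK F ↔ IsSquare (ev h 11) := by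
  constructor
  · intro hK
    obtain ⟨A, B, rfl⟩ := (mem_KK_iff h).1 hK
    -- conjugate `x_11(1)`
    have e1 : (phiL F A * phiS F B) * X F 11 1 * (phiL F A * phiS F B)⁻¹ =
        X F 11 (ev (phiL F A * phiS F B) 11 * 1) := ev_conj _ hh 11 (by norm_num) 1
    have e2 : (phiL F A * phiS F B) * X F 11 1 * (phiL F A * phiS F B)⁻¹ = phiL F (A * xS 1 * A⁻¹) := by
      have hc : phiS F B * phiL F (xS 1) = phiL F (xS 1) * phiS F B := ((phi_comm (xS 1) B).eq).symm
      rw [← phiL_xS, map_mul, map_mul, map_inv, _root_.mul_inv_rev]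
      calc phiL F A * phiS F B * phiL F (xS 1) * ((phiS F B)⁻¹ * (phiL F A)⁻¹)
          = phiL F A * (phiS F B * phiL F (xS 1)) * (phiS F B)⁻¹ * (phiL F A)⁻¹ := by group
        _ = phiL F A * (phiL F (xS 1) * phiS F B) * (phiS F B)⁻¹ * (phiL F A)⁻¹ := by rw [hc]
        _ = phiL F A * phiL F (xS 1) * (phiL F A)⁻¹ := by group
    rw [e2, mul_one, ← phiL_xS] at e1
    have e3 : A * xS 1 * A⁻¹ = xS (ev (phiL F A * phiS F B) 11) := phiL_injective e1
    apply tk_square_of_conj A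
    rw [← e3]
    group
  · rintro ⟨s, hs⟩
    set ξ := ev h 7 with hξ
    set η := ev h 6 with hη
    have hξ0 : ξ ≠ 0 := ev_ne_zero h hh 7
    have hη0 : η ≠ 0 := ev_ne_zero h hh 6
    have h11 : ξ ^ 3 * η ^ 2 = s * s := by rw [← hs, ev_11 h hh]
    have hs0 : s ≠ 0 := by
      intro h0
      rw [h0, mul_zero] at h11
      exact (mul_ne_zero (pow_ne_zero 3 hξ0) (pow_ne_zero 2 hη0)) h11
    set b : F := s / (η * ξ) with hb
    have hb0 : b ≠ 0 := div_ne_zero hs0 (mul_ne_zero hη0 hξ0)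
    have hb2 : b ^ 2 = ξ := by
      rw [hb]
      field_simp
      linear_combination (-1 : F) * h11
    set a : F := η * b ^ 3 with ha
    have ha0 : a ≠ 0 := mul_ne_zero hη0 (pow_ne_zero 3 hb0)
    set k : GL chevG2.Idx F := hGLt chevG2 (g2F F).xadd 11 a * hGLt chevG2 (g2F F).xadd 7 b with hk
    have hkK : k ∈ KK F := by
      rw [hk, ← tk_phiL_diag a ha0, ← tk_phiS_diag b hb0]
      exact mul_mem (Subgroup.mem_sup_left ⟨_, rfl⟩) (Subgroup.mem_sup_right ⟨_, rfl⟩)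
    have hm11 : hGLt chevG2 (g2F F).xadd 11 a ∈ TT F := hGLt_mem_diagonal chevG2 (g2F F).xadd 11 (by decide) a ha0
    have hm7 : hGLt chevG2 (g2F F).xadd 7 b ∈ TT F := hGLt_mem_diagonal chevG2 (g2F F).xadd 7 (by decide) b hb0
    have hkT : k ∈ TT F := mul_mem hm11 hm7
    have hk7 : ev k 7 = ξ := by
      rw [hk, ev_mul _ _ hm11 hm7, (ev_h11 a ha0).1, (ev_h7 b hb0).1, one_mul, hb2]
    have hk6 : ev k 6 = η := by
      rw [hk, ev_mul _ _ hm11 hm7, (ev_h11 a ha0).2, (ev_h7 b hb0).2, ha]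
      field_simp
    have hone : h * k⁻¹ = 1 := by
      apply eq_one_of_ev _ (mul_mem hh (inv_mem hkT))
      · rw [ev_mul _ _ hh (inv_mem hkT), ev_inv k hkT, hk7]
        exact mul_inv_cancel₀ hξ0
      · rw [ev_mul _ _ hh (inv_mem hkT), ev_inv k hkT, hk6]
        exact mul_inv_cancel₀ hη0
    have : h = k := mul_inv_eq_one.1 hone
    rw [this]
    exact hkK

end Cfsg.Agent.Helper13.G2I
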