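import Mathlib
import Cfsg.Agent.Lib.Helper13.G2I_BASE1A
import Cfsg.Agent.Lib.Helper13.G2TCHIA

/-!
# S4278 / S4279, piece TNORM (designer helper13): `T` normalizes `K`, `C = K T`, action of `z'`
-/

set_option autoImplicit false
set_option linter.style.haveILetI false
set_option linter.unusedVariables false

namespace Cfsg.Agent.Helper13.G2I

open Cfsg Cfsg.Lie Cfsg.Agent.Lead.Chev Cfsg.Agent.Helper11.G2T Cfsg.Agent.Helper6.SL2Hom
  Cfsg.Agent.Helper6.ChevL Matrix

variable {F : Type*} [Field F]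

/-- root elements of the four roots `11, 0, 7, 4` lie in `K` -/
theorem tnorm_X_mem (r : ℕ) (hr : r = 11 ∨ r = 0 ∨ r = 7 ∨ r = 4) (t : F) : X F r t ∈ KK F := by
  rcases hr with rfl | rfl | rfl | rfl
  · exact Subgroup.mem_sup_left ⟨xS t, phiL_xS t⟩
  · exact Subgroup.mem_sup_left ⟨yS t, phiL_yS t⟩
  · exact Subgroup.mem_sup_right ⟨xS t, phiS_xS t⟩
  · exact Subgroup.mem_sup_right ⟨yS t, phiS_yS t⟩

/-- `K` is generated by the root elements of the four roots `11, 0, 7, 4` -/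
theorem tnorm_KK_le (H : Subgroup (GL chevG2.Idx F))
    (h : ∀ r : ℕ, (r = 11 ∨ r = 0 ∨ r = 7 ∨ r = 4) → ∀ t : F, X F r t ∈ H) : KK F ≤ H := by
  unfold KK LL LS phiL phiS
  rw [(rkL F).hom_range, (rkS F).hom_range]
  refine sup_le (sup_le ?_ ?_) (sup_le ?_ ?_)
  · rw [Subgroup.closure_le]
    rintro _ ⟨t, rfl⟩
    exact h 11 (Or.inl rfl) t
  · rw [Subgroup.closure_le]
    rintro _ ⟨t, rfl⟩
    exact h 0 (Or.inr (Or.inl rfl)) t
  · rw [Subgroup.closure_le]
    rintro _ ⟨t, rfl⟩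
    exact h 7 (Or.inr (Or.inr (Or.inl rfl))) t
  · rw [Subgroup.closure_le]
    rintro _ ⟨t, rfl⟩
    exact h 4 (Or.inr (Or.inr (Or.inr rfl))) t

/-- `T` normalizes `K` -/
theorem TT_norm_KK (h : GL chevG2.Idx F) (hh : h ∈ TT F) (x : GL chevG2.Idx F) (hx : x ∈ KK F) :
    h * x * h⁻¹ ∈ KK F := by
  have hle : KK F ≤ (KK F).comap (MulAut.conj h).toMonoidHom := by
    apply tnorm_KK_le
    intro r hr t
    show h * X F r t * h⁻¹ ∈ KK F
    have hr12 : r < 12 := by rcases hr with rfl | rfl | rfl | rfl <;> norm_num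
    have e : h * X F r t * h⁻¹ = X F r (ev h r * t) := ev_conj h hh r hr12 t
    rw [e]
    exact tnorm_X_mem r hr _
  exact hle hx

/-- the set `K T` as a subgroup -/
def tnormProd (F : Type*) [Field F] : Subgroup (GL chevG2.Idx F) where
  carrier := {x | ∃ k ∈ KK F, ∃ h ∈ TT F, x = k * h}
  one_mem' := ⟨1, one_mem _, 1, one_mem _, (mul_one 1).symm⟩
  mul_mem' := by
    rintro _ _ ⟨k, hk, h, hh, rfl⟩ ⟨k', hk', h', hh', rfl⟩
    refine ⟨k * (h * k' * h⁻¹), mul_mem hk (TT_norm_KK h hh k' hk'), h * h', mul_mem hh hh', ?_⟩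
    group
  inv_mem' := by
    rintro _ ⟨k, hk, h, hh, rfl⟩
    refine ⟨h⁻¹ * k⁻¹ * (h⁻¹)⁻¹, TT_norm_KK h⁻¹ (inv_mem hh) k⁻¹ (inv_mem hk), h⁻¹, inv_mem hh, ?_⟩
    group

/-- elements of `C = K T` are products -/
theorem mem_CC_iff (x : GL chevG2.Idx F) : x ∈ CC F ↔ ∃ k ∈ KK F, ∃ h ∈ TT F, x = k * h := by
  constructor
  · intro hx
    have hle : CC F ≤ tnormProd F := by
      unfold CC
      refine sup_le ?_ ?_
      · intro k hk
        exact ⟨k, hk, 1, one_mem _, (mul_one k).symm⟩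
      · intro h hh
        exact ⟨1, one_mem _, h, hh, (one_mul h).symm⟩
    exact hle hx
  · rintro ⟨k, hk, h, hh, rfl⟩
    exact mul_mem (Subgroup.mem_sup_left hk) (Subgroup.mem_sup_right hh)

/-- two homomorphisms from `SL₂(F)` agreeing on the `x(t)` and `y(t)` are equal -/
theorem tnorm_hom_ext {G : Type*} [Group G] (f g : SpecialLinearGroup (Fin 2) F →* G)
    (hx : ∀ t : F, f (xS t) = g (xS t)) (hy : ∀ t : F, f (yS t) = g (yS t)) : f = g := by
  have hn : nS F = xS 1 * yS (-1) * xS 1 := by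
    apply Matrix.SpecialLinearGroup.ext
    intro i j
    fin_cases i <;> fin_cases j <;>
      simp [xS_coe, yS_coe, nS_coe, Matrix.mul_apply, Fin.sum_univ_two]
  have hfn : f (nS F) = g (nS F) := by
    rw [hn, map_mul, map_mul, map_mul, map_mul, hx, hy]
  ext1 A
  have hA := mem_closure A
  induction hA using Submonoid.closure_induction with
  | mem a ha =>
    rcases ha with ha | ⟨t, rfl⟩
    · rw [Set.mem_singleton_iff] at ha
      rw [ha, hfn]
    · exact hx t
  | one => rw [map_one, map_one]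
  | mul a b _ _ iha ihb => rw [map_mul, map_mul, iha, ihb]

theorem tnorm_sconj_coe (A : SpecialLinearGroup (Fin 2) F) :
    ((sconj F A : SpecialLinearGroup (Fin 2) F) : Matrix (Fin 2) (Fin 2) F) =
      !![A 0 0, -A 0 1; -A 1 0, A 1 1] := rfl

theorem tnorm_sconj_mul (A B : SpecialLinearGroup (Fin 2) F) : sconj F (A * B) = sconj F A * sconj F B := by
  apply Matrix.SpecialLinearGroup.ext
  intro i j
  have e1 : ∀ i j : Fin 2, (A * B : SpecialLinearGroup (Fin 2) F) i j = A i 0 * B 0 j + A i 1 * B 1 j := by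
    intro i j
    simp [Matrix.mul_apply, Fin.sum_univ_two]
  have e2 : ∀ i j : Fin 2, (sconj F A * sconj F B : SpecialLinearGroup (Fin 2) F) i j =
      (sconj F A) i 0 * (sconj F B) 0 j + (sconj F A) i 1 * (sconj F B) 1 j := by
    intro i j
    simp [Matrix.mul_apply, Fin.sum_univ_two]
  have c00 : ∀ M : SpecialLinearGroup (Fin 2) F, (sconj F M) 0 0 = M 0 0 := fun M => rfl
  have c01 : ∀ M : SpecialLinearGroup (Fin 2) F, (sconj F M) 0 1 = -M 0 1 := fun M => rfl
  have c10 : ∀ M : SpecialLinearGroup (Fin 2) F, (sconj F M) 1 0 = -M 1 0 := fun M => rfl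
  have c11 : ∀ M : SpecialLinearGroup (Fin 2) F, (sconj F M) 1 1 = M 1 1 := fun M => rfl
  fin_cases i <;> fin_cases j
  · show (sconj F (A * B)) 0 0 = (sconj F A * sconj F B : SpecialLinearGroup (Fin 2) F) 0 0
    rw [e2, c00, c00, c00, c01, c10, e1]; ring
  · show (sconj F (A * B)) 0 1 = (sconj F A * sconj F B : SpecialLinearGroup (Fin 2) F) 0 1
    rw [e2, c01, c00, c01, c01, c11, e1]; ring
  · show (sconj F (A * B)) 1 0 = (sconj F A * sconj F B : SpecialLinearGroup (Fin 2) F) 1 0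
    rw [e2, c10, c10, c00, c11, c10, e1]; ring
  · show (sconj F (A * B)) 1 1 = (sconj F A * sconj F B : SpecialLinearGroup (Fin 2) F) 1 1
    rw [e2, c11, c10, c01, c11, c11, e1]; ring

theorem tnorm_sconj_xS (t : F) : sconj F (xS t) = xS (-t) := by
  apply Matrix.SpecialLinearGroup.ext
  intro i j
  fin_cases i <;> fin_cases j <;> simp [sconj, xS_coe]

theorem tnorm_sconj_yS (t : F) : sconj F (yS t) = yS (-t) := by
  apply Matrix.SpecialLinearGroup.ext
  intro i j
  fin_cases i <;> fin_cases j <;> simp [sconj, yS_coe]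

/-- `sconj` as a homomorphism -/
noncomputable def tnormSconjHom (F : Type*) [Field F] :
    SpecialLinearGroup (Fin 2) F →* SpecialLinearGroup (Fin 2) F :=
  MonoidHom.mk' (sconj F) tnorm_sconj_mul

theorem tnorm_ev_zP : ev (zP F) 7 = -1 ∧ ev (zP F) 6 = 1 ∧ ev (zP F) 11 = -1 ∧ ev (zP F) 0 = -1 ∧
    ev (zP F) 4 = -1 := by
  have h := ev_h6 (-1 : F) (neg_ne_zero.2 one_ne_zero)
  have h7 : ev (zP F) 7 = -1 := by
    have := h.1
    rw [inv_neg, inv_one] at this
    exact this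
  have h6 : ev (zP F) 6 = 1 := by
    have := h.2
    rw [neg_one_sq] at this
    exact this
  have h11 : ev (zP F) 11 = -1 := by
    rw [ev_11 (zP F) zP_mem, h7, h6]
    ring
  have h0 : ev (zP F) 0 = -1 := by
    rw [ev_0 (zP F) zP_mem, h11, inv_neg, inv_one]
  have h4 : ev (zP F) 4 = -1 := by
    rw [ev_4 (zP F) zP_mem, h7, inv_neg, inv_one]
  exact ⟨h7, h6, h11, h0, h4⟩

/-- the action of `z' = h_b(-1)` on the two `SL₂`'s -/
theorem zP_phiL (A : SpecialLinearGroup (Fin 2) F) : zP F * phiL F A * (zP F)⁻¹ = phiL F (sconj F A) := by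
  have key : (MulAut.conj (zP F)).toMonoidHom.comp (phiL F) = (phiL F).comp (tnormSconjHom F) := by
    apply tnorm_hom_ext
    · intro t
      show zP F * phiL F (xS t) * (zP F)⁻¹ = phiL F (sconj F (xS t))
      rw [tnorm_sconj_xS, phiL_xS, phiL_xS]
      have e : zP F * X F 11 t * (zP F)⁻¹ = X F 11 (ev (zP F) 11 * t) :=
        ev_conj (zP F) zP_mem 11 (by norm_num) t
      rw [e, tnorm_ev_zP.2.2.1, neg_one_mul]
    · intro t
      show zP F * phiL F (yS t) * (zP F)⁻¹ = phiL F (sconj F (yS t))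
      rw [tnorm_sconj_yS, phiL_yS, phiL_yS]
      have e : zP F * X F 0 t * (zP F)⁻¹ = X F 0 (ev (zP F) 0 * t) :=
        ev_conj (zP F) zP_mem 0 (by norm_num) t
      rw [e, tnorm_ev_zP.2.2.2.1, neg_one_mul]
  exact DFunLike.congr_fun key A

theorem zP_phiS (A : SpecialLinearGroup (Fin 2) F) : zP F * phiS F A * (zP F)⁻¹ = phiS F (sconj F A) := by
  have key : (MulAut.conj (zP F)).toMonoidHom.comp (phiS F) = (phiS F).comp (tnormSconjHom F) := by
    apply tnorm_hom_ext
    · intro t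
      show zP F * phiS F (xS t) * (zP F)⁻¹ = phiS F (sconj F (xS t))
      rw [tnorm_sconj_xS, phiS_xS, phiS_xS]
      have e : zP F * X F 7 t * (zP F)⁻¹ = X F 7 (ev (zP F) 7 * t) :=
        ev_conj (zP F) zP_mem 7 (by norm_num) t
      rw [e, tnorm_ev_zP.1, neg_one_mul]
    · intro t
      show zP F * phiS F (yS t) * (zP F)⁻¹ = phiS F (sconj F (yS t))
      rw [tnorm_sconj_yS, phiS_yS, phiS_yS]
      have e : zP F * X F 4 t * (zP F)⁻¹ = X F 4 (ev (zP F) 4 * t) :=
        ev_conj (zP F) zP_mem 4 (by norm_num) t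
      rw [e, tnorm_ev_zP.2.2.2.2, neg_one_mul]
  exact DFunLike.congr_fun key A

end Cfsg.Agent.Helper13.G2I
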