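import Mathlib

set_option autoImplicit false

namespace Cfsg.Agent.Helper2.RepWt

open Finset

variable {A V : Type*} [AddCommGroup A] [Fintype A] [AddCommGroup V] [Module ℂ V]
  (T : A → V →ₗ[ℂ] V)

/-- the weight space of a family of operators for an additive character -/
def wt (ψ : AddChar A ℂ) : Submodule ℂ V where
  carrier := {v | ∀ a, T a v = ψ a • v}
  add_mem' := by
    intro v w hv hw a
    rw [map_add, hv a, hw a, smul_add]
  zero_mem' := by
    intro a
    rw [map_zero, smul_zero]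
  smul_mem' := by
    intro c v hv a
    rw [map_smul, hv a, smul_comm]

theorem mem_wt {ψ : AddChar A ℂ} {v : V} : v ∈ wt T ψ ↔ ∀ a, T a v = ψ a • v := Iff.rfl

/-- the projection onto a weight space -/
noncomputable def proj (ψ : AddChar A ℂ) : V →ₗ[ℂ] V :=
  ((Fintype.card A : ℂ)⁻¹) • ∑ a, ψ (-a) • T a

theorem proj_apply (ψ : AddChar A ℂ) (v : V) :
    proj T ψ v = ((Fintype.card A : ℂ)⁻¹) • ∑ a, ψ (-a) • T a v := by
  rw [proj, LinearMap.smul_apply, LinearMap.sum_apply]
  simp only [LinearMap.smul_apply]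

theorem card_ne_zero' : (Fintype.card A : ℂ) ≠ 0 :=
  Nat.cast_ne_zero.2 Fintype.card_ne_zero

variable (hT0 : T 0 = 1) (hTadd : ∀ a b, T (a + b) = T a * T b)

include hTadd in
theorem proj_mem (ψ : AddChar A ℂ) (v : V) : proj T ψ v ∈ wt T ψ := by
  intro b
  rw [proj_apply, map_smul, map_sum, smul_comm]
  congr 1
  rw [Finset.smul_sum]
  have h1 : ∀ a, T b (ψ (-a) • T a v) = ψ (-a) • T (b + a) v := by
    intro a
    rw [map_smul, hTadd, Module.End.mul_apply]
  simp only [h1]
  rw [Fintype.sum_equiv (Equiv.addLeft b) (fun a => ψ (-a) • T (b + a) v)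
    (fun a' => ψ (b - a') • T a' v)]
  · apply Finset.sum_congr rfl
    intro a _
    rw [smul_smul, sub_eq_add_neg, AddChar.map_add_eq_mul]
  · intro a
    show ψ (-a) • T (b + a) v = ψ (b - (b + a)) • T (b + a) v
    rw [sub_add_cancel_left]

include hT0 in
theorem sum_proj (v : V) : ∑ ψ : AddChar A ℂ, proj T ψ v = v := by
  classical
  simp only [proj_apply]
  rw [← Finset.smul_sum, Finset.sum_comm]
  simp only [← Finset.sum_smul, AddChar.sum_apply_eq_ite]
  have h1 : ∀ a : A, (if -a = 0 then (Fintype.card A : ℂ) else 0) • T a v =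
      if a = 0 then (Fintype.card A : ℂ) • T a v else 0 := by
    intro a
    by_cases ha : a = 0
    · subst ha
      simp
    · have : ¬ (-a = 0) := by rwa [neg_eq_zero]
      simp [ha, this]
  simp only [h1]
  rw [Finset.sum_ite_eq' Finset.univ (0 : A), if_pos (Finset.mem_univ _), smul_smul,
    inv_mul_cancel₀ card_ne_zero', one_smul, hT0, Module.End.one_apply]

theorem proj_of_mem {ψ ψ' : AddChar A ℂ} {v : V} (hv : v ∈ wt T ψ) :
    proj T ψ' v = if ψ' = ψ then v else 0 := by
  classical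
  rw [proj_apply]
  have h1 : ∀ a, ψ' (-a) • T a v = ((ψ / ψ') a) • v := by
    intro a
    rw [hv a, smul_smul, AddChar.div_apply, mul_comm]
  simp only [h1]
  rw [← Finset.sum_smul, AddChar.sum_eq_ite]
  by_cases h : ψ' = ψ
  · subst h
    rw [if_pos rfl, if_pos (by rw [div_self']; rfl), smul_smul, inv_mul_cancel₀ card_ne_zero',
      one_smul]
  · rw [if_neg h, if_neg, zero_smul, smul_zero]
    intro h0
    apply h
    have h1 : ψ / ψ' = 1 := h0
    rw [div_eq_one] at h1
    exact h1.symm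

include hT0 hTadd in
/-- the weight spaces of distinct characters are independent -/
theorem sum_finrank_le [FiniteDimensional ℂ V] (s : Finset (AddChar A ℂ)) :
    ∑ ψ ∈ s, Module.finrank ℂ (wt T ψ) ≤ Module.finrank ℂ V := by
  classical
  let Φ : (∀ ψ : {ψ // ψ ∈ s}, wt T ψ.1) →ₗ[ℂ] V :=
    ∑ ψ : {ψ // ψ ∈ s}, (wt T ψ.1).subtype.comp (LinearMap.proj ψ)
  have hΦ : ∀ f, Φ f = ∑ ψ : {ψ // ψ ∈ s}, (f ψ : V) := by
    intro f
    simp only [Φ, LinearMap.sum_apply, LinearMap.comp_apply, LinearMap.proj_apply,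
      Submodule.subtype_apply]
  have hinj : Function.Injective Φ := by
    rw [← LinearMap.ker_eq_bot, LinearMap.ker_eq_bot']
    intro f hf
    funext ψ'
    apply Subtype.ext
    have h1 : proj T ψ'.1 (Φ f) = (f ψ' : V) := by
      rw [hΦ, map_sum]
      have h2 : ∀ ψ : {ψ // ψ ∈ s}, proj T ψ'.1 (f ψ : V) =
          if ψ = ψ' then (f ψ : V) else 0 := by
        intro ψ
        rw [proj_of_mem T (f ψ).2]
        by_cases h : ψ = ψ'
        · subst h
          rw [if_pos rfl, if_pos rfl]
        · rw [if_neg h, if_neg]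
          intro h'
          exact h (Subtype.ext h'.symm)
      simp only [h2]
      rw [Finset.sum_ite_eq' Finset.univ ψ', if_pos (Finset.mem_univ _)]
    rw [← h1, hf, map_zero]
    rfl
  have h1 := LinearMap.finrank_le_finrank_of_injective hinj
  rw [Module.finrank_pi_fintype] at h1
  rw [← Finset.sum_coe_sort s (fun ψ => Module.finrank ℂ (wt T ψ))]
  exact h1

include hT0 hTadd in
/-- a nontrivial operator in the family gives a nonzero weight space of a character which is
nontrivial on it -/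
theorem exists_wt_ne_bot {a₁ : A} (h : T a₁ ≠ 1) :
    ∃ ψ : AddChar A ℂ, ψ a₁ ≠ 1 ∧ wt T ψ ≠ ⊥ := by
  by_contra hcon
  apply h
  apply LinearMap.ext
  intro v
  rw [Module.End.one_apply]
  conv_lhs => rw [← sum_proj T hT0 v]
  conv_rhs => rw [← sum_proj T hT0 v]
  rw [map_sum]
  apply Finset.sum_congr rfl
  intro ψ _
  have hmem := proj_mem T hTadd ψ v
  by_cases hψ : ψ a₁ = 1
  · rw [hmem a₁, hψ, one_smul]
  · have hbot : wt T ψ = ⊥ := by
      by_contra hb
      exact hcon ⟨ψ, hψ, hb⟩
    rw [hbot, Submodule.mem_bot] at hmem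
    rw [hmem, map_zero]

/-- transport of weight spaces by an operator normalizing the family -/
theorem finrank_wt_le [FiniteDimensional ℂ V] (D : V →ₗ[ℂ] V) (hDinj : Function.Injective D)
    (σ : A → A) (hσ : Function.Surjective σ) (hD : ∀ a v, D (T a v) = T (σ a) (D v))
    (ψ ψ' : AddChar A ℂ) (h : ∀ a, ψ a = ψ' (σ a)) :
    Module.finrank ℂ (wt T ψ) ≤ Module.finrank ℂ (wt T ψ') := by
  have hmaps : ∀ v ∈ wt T ψ, D v ∈ wt T ψ' := by
    intro v hv b
    obtain ⟨a, rfl⟩ := hσ b
    rw [← hD, hv a, map_smul, h a]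
  let D' : wt T ψ →ₗ[ℂ] wt T ψ' := D.restrict hmaps
  apply LinearMap.finrank_le_finrank_of_injective (f := D')
  intro v w hvw
  apply Subtype.ext
  apply hDinj
  exact congrArg Subtype.val hvw

end Cfsg.Agent.Helper2.RepWt
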