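import Mathlib
import Cfsg.Agent.Lib.Helper2.AICDefs

/-!
# S2202, PIECE GEN : general facts on the action on Sylow 2-subgroups (helper2)
-/

set_option autoImplicit false
set_option linter.unusedSectionVars false

namespace Cfsg.Agent.Helper2.AIC

variable {G : Type*} [Group G] [Finite G]

omit [Finite G] in
theorem conj_mem_smul (P : Sylow 2 G) (g x : G) : g * x * g⁻¹ ∈ (g • P : Sylow 2 G) ↔ x ∈ P := by
  show g * x * g⁻¹ ∈ ((g • P : Sylow 2 G) : Subgroup G) ↔ _
  rw [Sylow.coe_subgroup_smul]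
  have : g * x * g⁻¹ = MulAut.conj g • x := by
    rw [MulAut.smul_def, MulAut.conj_apply]
  rw [this, Subgroup.smul_mem_pointwise_smul_iff]
  rfl

omit [Finite G] in
theorem gen_mem_smul_iff (P : Sylow 2 G) (g y : G) : y ∈ (g • P : Sylow 2 G) ↔ g⁻¹ * y * g ∈ P := by
  rw [← conj_mem_smul P g (g⁻¹ * y * g)]
  have : g * (g⁻¹ * y * g) * g⁻¹ = y := by group
  rw [this]

omit [Finite G] in
theorem gen_orderOf_conj (g x : G) : orderOf (g * x * g⁻¹) = orderOf x := by
  have : g * x * g⁻¹ = MulAut.conj g x := by simp [MulAut.conj_apply]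
  rw [this, MulEquiv.orderOf_eq]

theorem mem_Mn_iff {P : Sylow 2 G} {m : G} : m ∈ Mn P ↔ m • P = P := by
  rw [Sylow.smul_eq_iff_mem_normalizer]
  rfl

theorem conj_mem_Mn (P : Sylow 2 G) (g m : G) : g * m * g⁻¹ ∈ Mn (g • P) ↔ m ∈ Mn P := by
  rw [mem_Mn_iff, mem_Mn_iff]
  constructor
  · intro h
    have h2 : g⁻¹ • ((g * m * g⁻¹) • (g • P)) = g⁻¹ • (g • P) := by rw [h]
    rw [← mul_smul, ← mul_smul, ← mul_smul] at h2
    have e1 : g⁻¹ * (g * m * g⁻¹) * g = m := by group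
    have e2 : g⁻¹ * g = 1 := by group
    rw [e1, e2, one_smul] at h2
    exact h2
  · intro h
    rw [← mul_smul]
    have e1 : g * m * g⁻¹ * g = g * m := by group
    rw [e1, mul_smul, h]

omit [Finite G] in
theorem conj_mem_Cn (P : Sylow 2 G) (g x : G) : g * x * g⁻¹ ∈ Cn (g • P) ↔ x ∈ Cn P := by
  rw [Subgroup.mem_centralizer_iff, Subgroup.mem_centralizer_iff]
  constructor
  · intro h y hy
    have hy' : g * y * g⁻¹ ∈ (g • P : Sylow 2 G) := (conj_mem_smul P g y).2 hy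
    have := h (g * y * g⁻¹) hy'
    have e : y * x = g⁻¹ * (g * y * g⁻¹ * (g * x * g⁻¹)) * g := by group
    rw [e, this]
    group
  · intro h y hy
    have hy' : g⁻¹ * y * g ∈ P := (gen_mem_smul_iff P g y).1 hy
    have := h (g⁻¹ * y * g) hy'
    have e : y * (g * x * g⁻¹) = g * (g⁻¹ * y * g * x) * g⁻¹ := by group
    rw [e, this]
    group

omit [Finite G] in
theorem gen_conj_gen (P : Sylow 2 G) (g x : G) (hx : x ∈ Cn P ∧ Odd (orderOf x)) :
    g * x * g⁻¹ ∈ Cn (g • P) ∧ Odd (orderOf (g * x * g⁻¹)) := by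
  refine ⟨(conj_mem_Cn P g x).2 hx.1, ?_⟩
  rw [gen_orderOf_conj]
  exact hx.2

omit [Finite G] in
theorem gen_conj_mem_Kn (P : Sylow 2 G) (g x : G) (hx : x ∈ Kn P) : g * x * g⁻¹ ∈ Kn (g • P) := by
  unfold Kn at hx ⊢
  induction hx using Subgroup.closure_induction with
  | mem y hy => exact Subgroup.subset_closure (gen_conj_gen P g y hy)
  | one =>
    have : g * 1 * g⁻¹ = 1 := by group
    rw [this]
    exact Subgroup.one_mem _
  | mul a b _ _ iha ihb =>
    have : g * (a * b) * g⁻¹ = (g * a * g⁻¹) * (g * b * g⁻¹) := by group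
    rw [this]
    exact Subgroup.mul_mem _ iha ihb
  | inv a _ iha =>
    have : g * a⁻¹ * g⁻¹ = (g * a * g⁻¹)⁻¹ := by group
    rw [this]
    exact Subgroup.inv_mem _ iha

omit [Finite G] in
theorem conj_mem_Kn (P : Sylow 2 G) (g x : G) : g * x * g⁻¹ ∈ Kn (g • P) ↔ x ∈ Kn P := by
  constructor
  · intro h
    have := gen_conj_mem_Kn (g • P) g⁻¹ _ h
    rw [← mul_smul] at this
    have e1 : g⁻¹ * g = 1 := by group
    have e2 : g⁻¹ * (g * x * g⁻¹) * g⁻¹⁻¹ = x := by group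
    rw [e1, one_smul, e2] at this
    exact this
  · exact gen_conj_mem_Kn P g x

theorem card_Kn (P Q : Sylow 2 G) : Nat.card (Kn P) = Nat.card (Kn Q) := by
  obtain ⟨g, hg⟩ := MulAction.exists_smul_eq G P Q
  subst hg
  refine Nat.card_congr ⟨fun x => ⟨g * x.1 * g⁻¹, (conj_mem_Kn P g x.1).2 x.2⟩,
    fun y => ⟨g⁻¹ * y.1 * g, ?_⟩, ?_, ?_⟩
  · rw [← conj_mem_Kn P g]
    have : g * (g⁻¹ * y.1 * g) * g⁻¹ = y.1 := by group
    rw [this]
    exact y.2
  · intro x
    apply Subtype.ext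
    show g⁻¹ * (g * x.1 * g⁻¹) * g = x.1
    group
  · intro y
    apply Subtype.ext
    show g * (g⁻¹ * y.1 * g) * g⁻¹ = y.1
    group

theorem nInv_eq (P Q : Sylow 2 G) : nInv P = nInv Q := by
  obtain ⟨g, hg⟩ := MulAction.exists_smul_eq G P Q
  subst hg
  unfold nInv
  refine Nat.card_congr ⟨fun x => ⟨g * x.1 * g⁻¹, (conj_mem_smul P g x.1).2 x.2.1, ?_⟩,
    fun y => ⟨g⁻¹ * y.1 * g, (gen_mem_smul_iff P g y.1).1 y.2.1, ?_⟩, ?_, ?_⟩
  · rw [gen_orderOf_conj]; exact x.2.2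
  · have : g⁻¹ * y.1 * g = g⁻¹ * y.1 * g⁻¹⁻¹ := by group
    rw [this, gen_orderOf_conj]; exact y.2.2
  · intro x
    apply Subtype.ext
    show g⁻¹ * (g * x.1 * g⁻¹) * g = x.1
    group
  · intro y
    apply Subtype.ext
    show g * (g⁻¹ * y.1 * g) * g⁻¹ = y.1
    group

/-- a 2-element normalizing a Sylow 2-subgroup lies in it -/
theorem mem_sylow_of_mem_Mn {P : Sylow 2 G} {x : G} (hx : x ∈ Mn P) {k : ℕ}
    (ho : orderOf x = 2 ^ k) : x ∈ P := by
  -- the subgroup `zpowers x ⊔ P` is a 2-group containing `P`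
  have hz : IsPGroup 2 (Subgroup.zpowers x) := by
    rw [IsPGroup.iff_card, Nat.card_zpowers, ho]
    exact ⟨k, rfl⟩
  have hzN : Subgroup.zpowers x ≤ Subgroup.normalizer ((P : Subgroup G) : Set G) := by
    rw [Subgroup.zpowers_le]; exact hx
  have hsup : IsPGroup 2 (Subgroup.zpowers x ⊔ (P : Subgroup G) : Subgroup G) :=
    IsPGroup.to_sup_of_normal_right' hz P.2 hzN
  have hle : (P : Subgroup G) ≤ Subgroup.zpowers x ⊔ (P : Subgroup G) := le_sup_right
  have heq := P.is_maximal' hsup hle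
  have : x ∈ Subgroup.zpowers x ⊔ (P : Subgroup G) :=
    (le_sup_left : Subgroup.zpowers x ≤ _) (Subgroup.mem_zpowers x)
  rw [heq] at this
  exact this

theorem exists_sylow_of_orderOf_two {v : G} (hv : orderOf v = 2) : ∃ R : Sylow 2 G, v ∈ R := by
  have hz : IsPGroup 2 (Subgroup.zpowers v) := by
    rw [IsPGroup.iff_card, Nat.card_zpowers, hv]
    exact ⟨1, by norm_num⟩
  obtain ⟨R, hR⟩ := hz.exists_le_sylow
  exact ⟨R, hR (Subgroup.mem_zpowers v)⟩

omit [Finite G] in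
theorem swap_symm {u : G} (hu : orderOf u = 2) {P Q : Sylow 2 G} (h : u • P = Q) : u • Q = P := by
  have huu : u * u = 1 := by
    have := pow_orderOf_eq_one u
    rw [hu, pow_two] at this
    exact this
  rw [← h, ← mul_smul, huu, one_smul]

/-- an element of even order has a power of order 2 -/
theorem exists_pow_orderOf_two {x : G} (h : Even (orderOf x)) : ∃ n : ℕ, orderOf (x ^ n) = 2 := by
  obtain ⟨m, hm⟩ := h
  refine ⟨m, ?_⟩
  have hm2 : orderOf x = m * 2 := by omega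
  have hpos : 0 < orderOf x := orderOf_pos x
  have hdvd : m ∣ orderOf x := ⟨2, hm2⟩
  rw [orderOf_pow_of_dvd (by omega) hdvd, hm2]
  have hmpos : 0 < m := by omega
  exact Nat.mul_div_cancel_left 2 hmpos

end Cfsg.Agent.Helper2.AIC
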