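import Mathlib
import Cfsg.Agent.Lib.Helper2.AICDefs
import Cfsg.Agent.Lib.Helper2.AICGEN

/-!
# S2202, PIECE BAS1 : A1, A2 (helper2)
-/

set_option autoImplicit false
set_option linter.unusedSectionVars false
set_option linter.style.haveILetI false
set_option linter.unusedVariables false

namespace Cfsg.Agent.Helper2.AIC

variable {G : Type*} [Group G] [Finite G]

/-- 2-part / odd part of an element -/
theorem bas1_exists_parts (x : G) : ∃ s k : G, x = s * k ∧ (∃ j : ℕ, orderOf s = 2 ^ j) ∧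
    Odd (orderOf k) ∧ s ∈ Subgroup.zpowers x ∧ k ∈ Subgroup.zpowers x := by
  obtain ⟨a, m, hm, hn⟩ := Nat.exists_eq_two_pow_mul_odd (orderOf_pos x).ne'
  have hcop : Nat.Coprime (2 ^ a) m := Nat.Coprime.pow_left a (Nat.coprime_two_left.mpr hm)
  have hb := Nat.gcd_eq_gcd_ab (2 ^ a) m
  rw [hcop] at hb
  set u := Nat.gcdA (2 ^ a) m
  set v := Nat.gcdB (2 ^ a) m
  refine ⟨x ^ ((m : ℤ) * v), x ^ (((2 ^ a : ℕ) : ℤ) * u), ?_, ?_, ?_, ?_, ?_⟩
  · rw [← zpow_add]
    have : (m : ℤ) * v + ((2 ^ a : ℕ) : ℤ) * u = 1 := by push_cast at hb ⊢; linarith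
    rw [this, zpow_one]
  · have h1 : (x ^ ((m : ℤ) * v)) ^ (2 ^ a) = 1 := by
      rw [← zpow_natCast, ← zpow_mul]
      have : (m : ℤ) * v * ((2 ^ a : ℕ) : ℤ) = ((orderOf x : ℕ) : ℤ) * v := by
        rw [hn]; push_cast; ring
      rw [this, zpow_mul, zpow_natCast, pow_orderOf_eq_one, one_zpow]
    have := orderOf_dvd_of_pow_eq_one h1
    exact (Nat.dvd_prime_pow Nat.prime_two).1 this |>.imp fun j hj => hj.2
  · have h1 : (x ^ (((2 ^ a : ℕ) : ℤ) * u)) ^ m = 1 := by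
      rw [← zpow_natCast, ← zpow_mul]
      have : ((2 ^ a : ℕ) : ℤ) * u * (m : ℤ) = ((orderOf x : ℕ) : ℤ) * u := by
        rw [hn]; push_cast; ring
      rw [this, zpow_mul, zpow_natCast, pow_orderOf_eq_one, one_zpow]
    have := orderOf_dvd_of_pow_eq_one h1
    exact Odd.of_dvd_nat hm this
  · exact Subgroup.zpow_mem _ (Subgroup.mem_zpowers x) _
  · exact Subgroup.zpow_mem _ (Subgroup.mem_zpowers x) _

/-- orders: product of two commuting odd-order elements has odd order -/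
theorem bas1_odd_mul {a b : G} (hab : a * b = b * a) (ha : Odd (orderOf a)) (hb : Odd (orderOf b)) :
    Odd (orderOf (a * b)) := by
  have hc : Commute a b := hab
  have h1 := hc.orderOf_mul_dvd_lcm
  have h2 : Odd (Nat.lcm (orderOf a) (orderOf b)) := by
    rcases Nat.even_or_odd (Nat.lcm (orderOf a) (orderOf b)) with h | h
    · exfalso
      have h2 : 2 ∣ Nat.lcm (orderOf a) (orderOf b) := even_iff_two_dvd.1 h
      have h3 : Nat.lcm (orderOf a) (orderOf b) ∣ orderOf a * orderOf b := Nat.lcm_dvd_mul _ _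
      have h4 : 2 ∣ orderOf a * orderOf b := h2.trans h3
      have h5 : Odd (orderOf a * orderOf b) := ha.mul hb
      exact (Nat.not_even_iff_odd.2 h5) (even_iff_two_dvd.2 h4)
    · exact h
  exact Odd.of_dvd_nat h2 h1

/-- a nontrivial 2-group has an element of order two in its centre; formulated for a Sylow subgroup -/
theorem bas1_exists_central_inv (P : Sylow 2 G) (hP : (P : Subgroup G) ≠ ⊥) :
    ∃ t : G, t ∈ P ∧ orderOf t = 2 ∧ ∀ x ∈ P, x * t = t * x := by
  haveI : Nontrivial (P : Subgroup G) := (Subgroup.nontrivial_iff_ne_bot _).2 hP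
  have hpg : IsPGroup 2 (P : Subgroup G) := P.2
  haveI := hpg.center_nontrivial
  obtain ⟨z, hz⟩ := exists_ne (1 : Subgroup.center (P : Subgroup G))
  have hz1 : (z : (P : Subgroup G)) ≠ 1 := fun h => hz (Subtype.ext h)
  have hz2 : ((z : (P : Subgroup G)) : G) ≠ 1 := fun h => hz1 (Subtype.ext h)
  -- order of z in G is 2^k, k ≥ 1
  obtain ⟨k, hk⟩ := (IsPGroup.iff_orderOf.1 hpg) (z : (P : Subgroup G))
  have hk' : orderOf ((z : (P : Subgroup G)) : G) = 2 ^ k := by
    rw [← hk]; exact (Subgroup.orderOf_coe _)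
  have hk1 : k ≠ 0 := by
    intro h
    rw [h, pow_zero, orderOf_eq_one_iff] at hk'
    exact hz2 hk'
  obtain ⟨j, rfl⟩ := Nat.exists_eq_succ_of_ne_zero hk1
  refine ⟨((z : (P : Subgroup G)) : G) ^ (2 ^ j), ?_, ?_, ?_⟩
  · exact Subgroup.pow_mem _ (z : (P : Subgroup G)).2 _
  · rw [orderOf_pow_of_dvd (by positivity) (by rw [hk', pow_succ]; exact Dvd.intro _ rfl), hk',
      pow_succ]
    exact Nat.mul_div_cancel_left 2 (by positivity)
  · intro x hx
    have hc := Subgroup.mem_center_iff.1 z.2 ⟨x, hx⟩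
    have hc' : x * ((z : (P : Subgroup G)) : G) = ((z : (P : Subgroup G)) : G) * x := by
      have := congrArg Subtype.val hc
      simpa using this
    have hcomm : Commute x ((z : (P : Subgroup G)) : G) := hc'
    exact (hcomm.pow_right _)

theorem Hyp.comm_sylow (hh : Hyp G) (P : Sylow 2 G) : ∀ x ∈ P, ∀ y ∈ P, x * y = y * x := by
  intro x hx y hy
  by_cases hP : (P : Subgroup G) = ⊥
  · have hx' : x ∈ (P : Subgroup G) := hx
    have hy' : y ∈ (P : Subgroup G) := hy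
    rw [hP, Subgroup.mem_bot] at hx' hy'
    rw [hx', hy']
  · obtain ⟨t, -, hto, htc⟩ := bas1_exists_central_inv P hP
    refine hh t hto x ?_ y ?_
    · rw [Subgroup.mem_centralizer_singleton_iff]; exact htc x hx
    · rw [Subgroup.mem_centralizer_singleton_iff]; exact htc y hy

theorem Hyp.centralizer_eq (hh : Hyp G) {P : Sylow 2 G} {t : G} (ht : t ∈ P) (hto : orderOf t = 2) :
    Subgroup.centralizer ({t} : Set G) = Cn P := by
  apply le_antisymm
  · intro x hx
    rw [Subgroup.mem_centralizer_iff]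
    intro y hy
    have hy' : y ∈ Subgroup.centralizer ({t} : Set G) := by
      rw [Subgroup.mem_centralizer_singleton_iff]
      exact hh.comm_sylow P y hy t ht
    exact hh t hto y hy' x hx
  · intro x hx
    rw [Subgroup.mem_centralizer_singleton_iff]
    rw [Subgroup.mem_centralizer_iff] at hx
    exact (hx t ht).symm

theorem Cfg.comm_sylow (c : Cfg G) (P : Sylow 2 G) : ∀ x ∈ P, ∀ y ∈ P, x * y = y * x :=
  c.hyp.comm_sylow P

theorem Cfg.centralizer_eq (c : Cfg G) {P : Sylow 2 G} {t : G} (ht : t ∈ P) (hto : orderOf t = 2) :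
    Subgroup.centralizer ({t} : Set G) = Cn P :=
  c.hyp.centralizer_eq ht hto

theorem Cfg.sylow_ne_bot (c : Cfg G) (P : Sylow 2 G) : (P : Subgroup G) ≠ ⊥ := by
  intro h
  apply c.nc P
  have : Subsingleton (P : Subgroup G) := by
    rw [h]; infer_instance
  exact isCyclic_of_subsingleton

theorem Cfg.exists_inv (c : Cfg G) (P : Sylow 2 G) : ∃ t : G, t ∈ P ∧ orderOf t = 2 := by
  obtain ⟨t, ht, hto, -⟩ := bas1_exists_central_inv P (c.sylow_ne_bot P)
  exact ⟨t, ht, hto⟩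

theorem Cfg.comm_Cn (c : Cfg G) (P : Sylow 2 G) : ∀ x ∈ Cn P, ∀ y ∈ Cn P, x * y = y * x := by
  obtain ⟨t, ht, hto⟩ := c.exists_inv P
  rw [← c.centralizer_eq ht hto]
  exact c.hyp t hto

theorem Cfg.sylow_le_Cn (c : Cfg G) (P : Sylow 2 G) : (P : Subgroup G) ≤ Cn P := by
  intro x hx
  rw [Subgroup.mem_centralizer_iff]
  intro y hy
  exact c.comm_sylow P y hy x hx

theorem Cfg.mem_Kn_iff (c : Cfg G) (P : Sylow 2 G) {x : G} :
    x ∈ Kn P ↔ x ∈ Cn P ∧ Odd (orderOf x) := by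
  constructor
  · intro hx
    unfold Kn at hx
    induction hx using Subgroup.closure_induction with
    | mem y hy => exact hy
    | one => exact ⟨Subgroup.one_mem _, by rw [orderOf_one]; exact odd_one⟩
    | mul a b _ _ iha ihb =>
      exact ⟨Subgroup.mul_mem _ iha.1 ihb.1,
        bas1_odd_mul (c.comm_Cn P a iha.1 b ihb.1) iha.2 ihb.2⟩
    | inv a _ iha => exact ⟨Subgroup.inv_mem _ iha.1, by rw [orderOf_inv]; exact iha.2⟩
  · intro hx
    exact Subgroup.subset_closure hx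

theorem Cfg.Kn_le_Cn (c : Cfg G) (P : Sylow 2 G) : Kn P ≤ Cn P := by
  intro x hx
  exact ((c.mem_Kn_iff P).1 hx).1

theorem Cfg.Kn_le_Mn (c : Cfg G) (P : Sylow 2 G) : Kn P ≤ Mn P :=
  (c.Kn_le_Cn P).trans (Subgroup.centralizer_le_normalizer _)

theorem Cfg.odd_card_Kn (c : Cfg G) (P : Sylow 2 G) : Odd (Nat.card (Kn P)) := by
  rcases Nat.even_or_odd (Nat.card (Kn P)) with h | h
  · exfalso
    have h2 : 2 ∣ Nat.card (Kn P) := even_iff_two_dvd.1 h
    obtain ⟨x, hx⟩ := exists_prime_orderOf_dvd_card' 2 h2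
    have hx' : orderOf (x : G) = 2 := by rw [Subgroup.orderOf_coe]; exact hx
    have := ((c.mem_Kn_iff P).1 x.2).2
    rw [hx'] at this
    exact absurd this (by decide)
  · exact h

/-- 2-elements of `C_G(P)` lie in `P` -/
theorem Cfg.mem_sylow_of_mem_Cn (c : Cfg G) {P : Sylow 2 G} {x : G} (hx : x ∈ Cn P) {k : ℕ}
    (ho : orderOf x = 2 ^ k) : x ∈ P :=
  mem_sylow_of_mem_Mn (Subgroup.centralizer_le_normalizer _ hx) ho

theorem Cfg.Cn_eq_mul (c : Cfg G) {P : Sylow 2 G} {x : G} (hx : x ∈ Cn P) :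
    ∃ s ∈ P, ∃ k ∈ Kn P, x = s * k := by
  obtain ⟨s, k, hxsk, ⟨j, hj⟩, hk, hs, hkz⟩ := bas1_exists_parts x
  have hzle : Subgroup.zpowers x ≤ Cn P := by
    rw [Subgroup.zpowers_le]; exact hx
  refine ⟨s, c.mem_sylow_of_mem_Cn (hzle hs) hj, k, (c.mem_Kn_iff P).2 ⟨hzle hkz, hk⟩, hxsk⟩

theorem Cfg.Kn_normal (c : Cfg G) {P : Sylow 2 G} {m : G} (hm : m ∈ Mn P) {x : G} (hx : x ∈ Kn P) :
    m * x * m⁻¹ ∈ Kn P := by
  have h := (conj_mem_Kn P m x).2 hx
  rw [mem_Mn_iff.1 hm] at h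
  exact h

end Cfsg.Agent.Helper2.AIC
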