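import Mathlib

set_option autoImplicit false

namespace Cfsg.Agent.Helper2.PN

open Matrix

section h90

variable {ι : Type*} [Fintype ι] [DecidableEq ι] {F : Type*} [Field F]

/-- partial norms `g σ(g) ⋯ σ^{i-1}(g)` of a matrix -/
def mnorm (σ : F ≃+* F) (g : Matrix ι ι F) : ℕ → Matrix ι ι F
  | 0 => 1
  | (i + 1) => g * (mnorm σ g i).map σ

theorem mnorm_zero (σ : F ≃+* F) (g : Matrix ι ι F) : mnorm σ g 0 = 1 := rfl

theorem mnorm_succ (σ : F ≃+* F) (g : Matrix ι ι F) (i : ℕ) :
    mnorm σ g (i + 1) = g * (mnorm σ g i).map σ := rfl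

theorem ringAut_pow_succ_apply (σ : F ≃+* F) (i : ℕ) (x : F) :
    (σ ^ (i + 1)) x = σ ((σ ^ i) x) := by
  rw [pow_succ']
  rfl

/-- the powers `σ^i`, `i < r`, are linearly independent when they are distinct -/
theorem linearIndependent_ringAut_pow (σ : F ≃+* F) (r : ℕ)
    (hmin : ∀ i, 0 < i → i < r → σ ^ i ≠ 1) :
    LinearIndependent F (fun i : Fin r => (fun c : F => (σ ^ (i : ℕ)) c)) := by
  classical
  set χ : Fin r → (F →* F) := fun i => ((σ ^ (i : ℕ) : F ≃+* F) : F →* F) with hχ
  have hinj : Function.Injective χ := by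
    intro i j hij
    by_contra hne
    have key : ∀ a b : Fin r, (a : ℕ) < b → χ a = χ b → False := by
      intro a b hab hχab
      have h1 : σ ^ ((b : ℕ) - a) = 1 := by
        apply RingEquiv.ext
        intro x
        have h2 : (σ ^ (a : ℕ)) ((σ ^ ((b : ℕ) - a)) x) = (σ ^ (a : ℕ)) x := by
          have h3 : (σ ^ (b : ℕ)) x = (σ ^ (a : ℕ)) x := by
            have := DFunLike.congr_fun hχab x
            exact this.symm
          rw [← h3]
          have h4 : σ ^ (b : ℕ) = σ ^ (a : ℕ) * σ ^ ((b : ℕ) - a) := by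
            rw [← pow_add]
            congr 1
            omega
          rw [h4]
          rfl
        exact (σ ^ (a : ℕ)).injective h2
      exact hmin _ (by omega) (by omega) h1
    rcases lt_trichotomy (i : ℕ) j with h | h | h
    · exact key i j h hij
    · exact hne (Fin.ext h)
    · exact key j i h hij.symm
  exact (linearIndependent_monoidHom F F).comp χ hinj

variable (σ : F ≃+* F) (g : Matrix ι ι F)

/-- the `i`-th term of the averaging operator -/
def hterm (i : ℕ) (x : ι → F) : ι → F := mnorm σ g i *ᵥ (fun k => (σ ^ i) (x k))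

/-- the averaging operator `x ↦ Σ_i a_i σ^i(x)` -/
def havg (r : ℕ) (x : ι → F) : ι → F := ∑ i ∈ Finset.range r, hterm σ g i x

theorem hterm_zero (x : ι → F) : hterm σ g 0 x = x := by
  unfold hterm
  rw [mnorm_zero, pow_zero, Matrix.one_mulVec]
  rfl

theorem hterm_succ (i : ℕ) (x : ι → F) :
    g *ᵥ (fun k => σ (hterm σ g i x k)) = hterm σ g (i + 1) x := by
  unfold hterm
  rw [mnorm_succ, ← Matrix.mulVec_mulVec]
  congr 1
  funext k
  have := RingHom.map_mulVec (σ : F →+* F) (mnorm σ g i) (fun k => (σ ^ i) (x k)) k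
  rw [RingHom.coe_coe] at this
  rw [this]
  congr 1
  funext l
  simp only [Function.comp_apply, ringAut_pow_succ_apply]

theorem hterm_smul (i : ℕ) (c : F) (x : ι → F) :
    hterm σ g i (c • x) = (σ ^ i) c • hterm σ g i x := by
  unfold hterm
  rw [← Matrix.mulVec_smul]
  congr 1
  funext k
  simp only [Pi.smul_apply, smul_eq_mul, map_mul]

/-- the averaging operator lands in the fixed points of `x ↦ g σ(x)` -/
theorem havg_fixed (r : ℕ) (hσr : σ ^ r = 1) (hg : mnorm σ g r = 1) (x : ι → F) :
    g *ᵥ (fun k => σ (havg σ g r x k)) = havg σ g r x := by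
  unfold havg
  have h1 : (fun k => σ ((∑ i ∈ Finset.range r, hterm σ g i x) k)) =
      ∑ i ∈ Finset.range r, (fun k => σ (hterm σ g i x k)) := by
    funext k
    rw [Finset.sum_apply, Finset.sum_apply, map_sum]
  rw [h1, Matrix.mulVec_sum]
  rw [Finset.sum_congr rfl (fun i _ => hterm_succ σ g i x)]
  have h3 := Finset.sum_range_succ' (fun i => hterm σ g i x) r
  have h4 := Finset.sum_range_succ (fun i => hterm σ g i x) r
  rw [h4] at h3
  have h5 : hterm σ g r x = hterm σ g 0 x := by
    rw [hterm_zero]
    unfold hterm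
    rw [hg, hσr, Matrix.one_mulVec]
    rfl
  rw [h5] at h3
  exact (add_right_cancel h3).symm

/-- a linear form vanishing on the image of the averaging operator is zero -/
theorem eq_zero_of_dotProduct_havg (r : ℕ) (hr : 0 < r)
    (hmin : ∀ i, 0 < i → i < r → σ ^ i ≠ 1) (u : ι → F)
    (h : ∀ x, u ⬝ᵥ havg σ g r x = 0) : u = 0 := by
  have hli := linearIndependent_ringAut_pow σ r hmin
  have key : ∀ x : ι → F, u ⬝ᵥ x = 0 := by
    intro x
    have h0 := Fintype.linearIndependent_iff.1 hli (fun i => u ⬝ᵥ hterm σ g i x) (by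
      funext c
      have h1 := h (c • x)
      unfold havg at h1
      rw [dotProduct_sum] at h1
      rw [Finset.sum_apply, Pi.zero_apply, ← h1,
        ← Fin.sum_univ_eq_sum_range (fun i => u ⬝ᵥ hterm σ g i (c • x)) r]
      apply Finset.sum_congr rfl
      intro i _
      rw [hterm_smul, dotProduct_smul, Pi.smul_apply, smul_eq_mul, smul_eq_mul, mul_comm])
      ⟨0, hr⟩
    simp only [] at h0
    rwa [hterm_zero] at h0
  funext i
  have := key (Pi.single i 1)
  rwa [dotProduct_single_one] at this

/-- **Hilbert 90 for `GL_n`** (cyclic case, Galois descent): a matrix whose norm is `1` is of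
the form `h σ(h)⁻¹`. -/
theorem exists_descent (r : ℕ) (hr : 0 < r) (hσr : σ ^ r = 1)
    (hmin : ∀ i, 0 < i → i < r → σ ^ i ≠ 1) (hg : mnorm σ g r = 1) :
    ∃ h : Matrix ι ι F, IsUnit h ∧ g * h.map σ = h := by
  classical
  set S : Set (ι → F) := Set.range (havg σ g r) with hS
  have hspan : Submodule.span F S = ⊤ := by
    by_contra hne
    obtain ⟨f, hf0, hf⟩ := Submodule.exists_le_ker_of_lt_top _ (lt_top_iff_ne_top.mpr hne)
    apply hf0
    have hu : (fun i => f (fun j => if i = j then 1 else 0)) = 0 := by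
      apply eq_zero_of_dotProduct_havg σ g r hr hmin
      intro x
      have h1 : havg σ g r x ∈ LinearMap.ker f := hf (Submodule.subset_span ⟨x, rfl⟩)
      rw [LinearMap.mem_ker, LinearMap.pi_apply_eq_sum_univ] at h1
      refine Eq.trans ?_ h1
      unfold dotProduct
      apply Finset.sum_congr rfl
      intro i _
      rw [smul_eq_mul, mul_comm]
    apply LinearMap.ext
    intro v
    rw [LinearMap.pi_apply_eq_sum_univ, LinearMap.zero_apply]
    apply Finset.sum_eq_zero
    intro i _
    have := congrFun hu i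
    simp only [Pi.zero_apply] at this
    rw [this, smul_zero]
  obtain ⟨f, hfS, -, hfli⟩ := Submodule.exists_fun_fin_finrank_span_eq F S
  have hcard : Fintype.card ι = Fintype.card (Fin (Module.finrank F (Submodule.span F S))) := by
    rw [Fintype.card_fin, hspan, finrank_top, Module.finrank_fintype_fun_eq_card]
  let e : ι ≃ Fin (Module.finrank F (Submodule.span F S)) := Fintype.equivOfCardEq hcard
  set v : ι → (ι → F) := fun j => f (e j) with hv
  have hvli : LinearIndependent F v := hfli.comp e e.injective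
  have hvfix : ∀ j, g *ᵥ (fun k => σ (v j k)) = v j := by
    intro j
    obtain ⟨x, hx⟩ := hfS (e j)
    rw [hv]
    simp only []
    rw [← hx]
    exact havg_fixed σ g r hσr hg x
  refine ⟨Matrix.of (fun i j => v j i), ?_, ?_⟩
  · rw [← Matrix.linearIndependent_cols_iff_isUnit]
    exact hvli
  · ext i j
    have := congrFun (hvfix j) i
    rw [Matrix.of_apply, ← this, Matrix.mul_apply]
    rfl

end h90

end Cfsg.Agent.Helper2.PN
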