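import Mathlib
import Cfsg.Agent.Lib.Helper13.FieldAutFixed

set_option autoImplicit false
set_option linter.unusedSectionVars false

namespace Cfsg.Agent.Helper2.PN

open Cfsg.Agent.Helper13.FAut (pnorm pnorm_zero pnorm_succ hilbert90 fixedField mem_fixedField
  card_fixedField)

section fieldnorm

variable {F : Type*} [Field F]

theorem ringAut_pow_succ_apply' (σ : F ≃+* F) (i : ℕ) (x : F) :
    (σ ^ (i + 1)) x = σ ((σ ^ i) x) := by
  rw [pow_succ']
  rfl

theorem pnorm_eq_prod (σ : F ≃+* F) (c : F) (i : ℕ) :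
    pnorm σ c i = ∏ j ∈ Finset.range i, (σ ^ j) c := by
  induction i with
  | zero => rw [pnorm_zero, Finset.prod_range_zero]
  | succ i ih =>
    rw [pnorm_succ, ih, map_prod, Finset.prod_range_succ', pow_zero, mul_comm]
    congr 1
    apply Finset.prod_congr rfl
    intro j _
    rw [ringAut_pow_succ_apply']

theorem pnorm_mul (σ : F ≃+* F) (c d : F) (i : ℕ) :
    pnorm σ (c * d) i = pnorm σ c i * pnorm σ d i := by
  rw [pnorm_eq_prod, pnorm_eq_prod, pnorm_eq_prod, ← Finset.prod_mul_distrib]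
  apply Finset.prod_congr rfl
  intro j _
  rw [map_mul]

theorem pnorm_one (σ : F ≃+* F) (i : ℕ) : pnorm σ 1 i = 1 := by
  rw [pnorm_eq_prod]
  apply Finset.prod_eq_one
  intro j _
  rw [map_one]

theorem pnorm_ne_zero (σ : F ≃+* F) (c : F) (hc : c ≠ 0) (i : ℕ) : pnorm σ c i ≠ 0 := by
  rw [pnorm_eq_prod]
  apply Finset.prod_ne_zero_iff.mpr
  intro j _
  exact (map_ne_zero _).mpr hc

theorem pnorm_apply (σ : F ≃+* F) (c : F) (i : ℕ) : pnorm σ (σ c) i = σ (pnorm σ c i) := by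
  rw [pnorm_eq_prod, pnorm_eq_prod, map_prod]
  apply Finset.prod_congr rfl
  intro j _
  have : σ ^ j * σ = σ * σ ^ j := by rw [← pow_succ, ← pow_succ']
  change (σ ^ j * σ) c = (σ * σ ^ j) c
  rw [this]

/-- the norm is fixed -/
theorem pnorm_fixed (σ : F ≃+* F) (r : ℕ) (hσr : σ ^ r = 1) (c : F) :
    σ (pnorm σ c r) = pnorm σ c r := by
  rw [pnorm_eq_prod, map_prod]
  rcases Nat.eq_zero_or_pos r with rfl | hr
  · simp only [Finset.prod_range_zero]
  · have h1 : ∀ j ∈ Finset.range r, σ ((σ ^ j) c) = (σ ^ (j + 1)) c := by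
      intro j _
      rw [ringAut_pow_succ_apply']
    rw [Finset.prod_congr rfl h1]
    have h3 := Finset.prod_range_succ' (fun i => (σ ^ i) c) r
    have h4 := Finset.prod_range_succ (fun i => (σ ^ i) c) r
    rw [h4] at h3
    have h5 : (σ ^ r) c = (σ ^ 0) c := by rw [hσr, pow_zero]
    rw [h5] at h3
    have hne : (σ ^ 0) c = c := by rw [pow_zero]; rfl
    by_cases hc : c = 0
    · subst hc
      have e1 : ∏ i ∈ Finset.range r, (σ ^ (i + 1)) (0 : F) = 0 := by
        apply Finset.prod_eq_zero (Finset.mem_range.mpr hr)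
        rw [map_zero]
      have e2 : ∏ i ∈ Finset.range r, (σ ^ i) (0 : F) = 0 := by
        apply Finset.prod_eq_zero (Finset.mem_range.mpr hr)
        rw [map_zero]
      rw [e1, e2]
    · have hc' : (σ ^ 0) c ≠ 0 := by rw [hne]; exact hc
      exact (mul_right_cancel₀ hc' h3).symm

/-- the norm as a homomorphism of the unit group -/
noncomputable def unorm (σ : F ≃+* F) (r : ℕ) : Fˣ →* Fˣ where
  toFun u := Units.mk0 (pnorm σ (u : F) r) (pnorm_ne_zero σ _ u.ne_zero r)
  map_one' := by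
    apply Units.ext
    rw [Units.val_mk0, Units.val_one, pnorm_one]
  map_mul' u v := by
    apply Units.ext
    simp only [Units.val_mk0, Units.val_mul, pnorm_mul]

theorem unorm_coe (σ : F ≃+* F) (r : ℕ) (u : Fˣ) : ((unorm σ r u : Fˣ) : F) = pnorm σ (u : F) r :=
  rfl

/-- the map `d ↦ d / σ(d)` -/
noncomputable def udiv (σ : F ≃+* F) : Fˣ →* Fˣ where
  toFun u := u / Units.map (σ : F →* F) u
  map_one' := by rw [map_one, div_one]
  map_mul' u v := by
    rw [map_mul, mul_div_mul_comm]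

theorem udiv_coe (σ : F ≃+* F) (u : Fˣ) : ((udiv σ u : Fˣ) : F) = (u : F) / σ (u : F) := by
  change ((u / Units.map (σ : F →* F) u : Fˣ) : F) = _
  rw [Units.val_div_eq_div_val]
  rfl

/-- the units fixed by `σ` -/
def ufix (σ : F ≃+* F) : Subgroup Fˣ where
  carrier := {u | σ (u : F) = u}
  one_mem' := by
    change σ ((1 : Fˣ) : F) = _
    rw [Units.val_one, map_one]
  mul_mem' {a b} ha hb := by
    change σ ((a * b : Fˣ) : F) = _
    rw [Units.val_mul, map_mul, ha, hb]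
  inv_mem' {a} ha := by
    change σ ((a⁻¹ : Fˣ) : F) = _
    rw [Units.val_inv_eq_inv_val, map_inv₀, ha]

theorem mem_ufix (σ : F ≃+* F) (u : Fˣ) : u ∈ ufix σ ↔ σ (u : F) = u := Iff.rfl

theorem ker_udiv (σ : F ≃+* F) : (udiv σ).ker = ufix σ := by
  ext u
  rw [MonoidHom.mem_ker, mem_ufix, Units.ext_iff, udiv_coe, Units.val_one,
    div_eq_one_iff_eq ((map_ne_zero σ).mpr u.ne_zero)]
  exact eq_comm

theorem range_unorm_le (σ : F ≃+* F) (r : ℕ) (hσr : σ ^ r = 1) :
    (unorm σ r).range ≤ ufix σ := by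
  rintro _ ⟨u, rfl⟩
  rw [mem_ufix, unorm_coe, pnorm_fixed σ r hσr]

theorem ker_unorm (σ : F ≃+* F) (r : ℕ) (hr : 0 < r) (hσr : σ ^ r = 1)
    (hmin : ∀ i, 0 < i → i < r → σ ^ i ≠ 1) : (unorm σ r).ker = (udiv σ).range := by
  ext u
  rw [MonoidHom.mem_ker, MonoidHom.mem_range]
  constructor
  · intro h
    have h1 : pnorm σ (u : F) r = 1 := by
      rw [← unorm_coe, h, Units.val_one]
    obtain ⟨d, hd0, hd⟩ := hilbert90 σ r hr hσr hmin (u : F) h1
    refine ⟨Units.mk0 d hd0, ?_⟩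
    apply Units.ext
    rw [udiv_coe, Units.val_mk0]
    have : σ d ≠ 0 := (map_ne_zero σ).mpr hd0
    rw [div_eq_iff this, hd]
  · rintro ⟨d, rfl⟩
    apply Units.ext
    rw [unorm_coe, Units.val_one, udiv_coe]
    have hσd : σ (d : F) ≠ 0 := (map_ne_zero σ).mpr d.ne_zero
    have h1 : pnorm σ (σ (d : F)) r = pnorm σ (d : F) r := by
      rw [pnorm_apply, pnorm_fixed σ r hσr]
    have h2 : pnorm σ ((d : F) / σ (d : F)) r * pnorm σ (σ (d : F)) r = pnorm σ (d : F) r := by
      rw [← pnorm_mul, div_mul_cancel₀ _ hσd]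
    rw [h1] at h2
    have h3 : pnorm σ (d : F) r ≠ 0 := pnorm_ne_zero σ _ d.ne_zero r
    exact mul_right_cancel₀ h3 (h2.trans (one_mul _).symm)

variable [Finite F]

/-- the norm is onto the fixed units -/
theorem range_unorm (σ : F ≃+* F) (r : ℕ) (hr : 0 < r) (hσr : σ ^ r = 1)
    (hmin : ∀ i, 0 < i → i < r → σ ^ i ≠ 1) : (unorm σ r).range = ufix σ := by
  apply Subgroup.eq_of_le_of_card_ge (range_unorm_le σ r hσr)
  have h1 := Subgroup.card_eq_card_quotient_mul_card_subgroup (unorm σ r).ker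
  have h2 := Subgroup.card_eq_card_quotient_mul_card_subgroup (udiv σ).ker
  rw [Nat.card_congr (QuotientGroup.quotientKerEquivRange (unorm σ r)).toEquiv] at h1
  rw [Nat.card_congr (QuotientGroup.quotientKerEquivRange (udiv σ)).toEquiv] at h2
  rw [ker_unorm σ r hr hσr hmin] at h1
  rw [ker_udiv] at h2
  rw [h1, mul_comm] at h2
  have hpos : 0 < Nat.card (udiv σ).range := Nat.card_pos
  exact (Nat.eq_of_mul_eq_mul_left hpos h2).ge

theorem exists_pnorm_eq (σ : F ≃+* F) (r : ℕ) (hr : 0 < r) (hσr : σ ^ r = 1)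
    (hmin : ∀ i, 0 < i → i < r → σ ^ i ≠ 1) (c : F) (hc : c ≠ 0) (hfix : σ c = c) :
    ∃ a : F, a ≠ 0 ∧ pnorm σ a r = c := by
  have h1 : Units.mk0 c hc ∈ ufix σ := by
    rw [mem_ufix, Units.val_mk0, hfix]
  rw [← range_unorm σ r hr hσr hmin] at h1
  obtain ⟨a, ha⟩ := h1
  refine ⟨a, a.ne_zero, ?_⟩
  rw [← unorm_coe, ha, Units.val_mk0]

end fieldnorm

section cards

variable {F : Type*} [Field F]

/-- fixed units correspond to the units of the fixed field -/
noncomputable def ufixEquiv (σ : F ≃+* F) : ufix σ ≃ (fixedField σ)ˣ where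
  toFun u := Units.mk0 ⟨((u : Fˣ) : F), (mem_fixedField σ _).mpr u.2⟩
    (fun h => (u : Fˣ).ne_zero (congrArg Subtype.val h))
  invFun w := ⟨Units.mk0 (((w : fixedField σ) : F))
    (fun h => w.ne_zero (Subtype.ext h)), (mem_fixedField σ _).mp (w : fixedField σ).2⟩
  left_inv u := by
    apply Subtype.ext
    apply Units.ext
    rfl
  right_inv w := by
    apply Units.ext
    apply Subtype.ext
    rfl

theorem card_ufix [Finite F] (σ : F ≃+* F) :
    Nat.card (ufix σ) = Nat.card (fixedField σ) - 1 := by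
  rw [Nat.card_congr (ufixEquiv σ), Nat.card_units]

theorem pnorm_two (σ : F ≃+* F) (c : F) : pnorm σ c 2 = c * σ c := by
  rw [pnorm_succ, pnorm_succ, pnorm_zero, map_one, mul_one]

theorem hmin_of_orderOf (σ : F ≃+* F) (r : ℕ) (hσ : orderOf σ = r) :
    ∀ i, 0 < i → i < r → σ ^ i ≠ 1 := by
  intro i hi hir
  exact pow_ne_one_of_lt_orderOf hi.ne' (hσ ▸ hir)

theorem exists_trace_ne_zero (σ : F ≃+* F) (hσ : σ ≠ 1) : ∃ t : F, t + σ t ≠ 0 := by
  by_contra hcon
  apply hσ
  have h : ∀ t : F, t + σ t = 0 := by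
    intro t
    by_contra hne
    exact hcon ⟨t, hne⟩
  have h1 := h 1
  rw [map_one] at h1
  ext t
  have h2 := h t
  rw [RingAut.one_apply]
  have h3 : σ t = -t := by linear_combination h2
  have h4 : (-1 : F) = 1 := by linear_combination -h1
  rw [h3, ← neg_one_mul, h4, one_mul]

end cards

end Cfsg.Agent.Helper2.PN
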