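import Mathlib
import Cfsg.Agent.Lib.Helper2.PslAut7

set_option autoImplicit false

namespace Cfsg.Agent.Helper2.PN

open Matrix Matrix.SpecialLinearGroup
open scoped MatrixGroups
open Cfsg.Agent.Helper2.SL2S
open Cfsg.Agent.Helper2.PA (uvu_coe wm wm_coe wm_conj_u hd hd_coe hd_conj_u psi_mul)

section core

variable {F : Type*} [Field F] {Γ : Type*} [Group Γ] {θ : SL(2, F) →* Γ} {β : Γ →* Γ}
  {ψ ψ' : F → F}

theorem beta_conj (θ : SL(2, F) →* Γ) (β : Γ →* Γ) (x y x' y' : SL(2, F))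
    (hx : β (θ x) = θ x') (hy : β (θ y) = θ y') :
    β (θ (x * y * x⁻¹)) = θ (x' * y' * x'⁻¹) := by
  simp only [map_mul, map_inv]
  rw [hx, hy]

theorem beta_uvu (hψ : ∀ b, β (θ (u b)) = θ (u (ψ b))) (hψ' : ∀ c, β (θ (v c)) = θ (v (ψ' c)))
    (b c : F) : β (θ (u b * v c * u b)) = θ (u (ψ b) * v (ψ' c) * u (ψ b)) := by
  simp only [map_mul]
  rw [hψ, hψ']

theorem u_eq_of_theta (hθ : ∀ x y : SL(2, F), θ x = θ y → y.1 = x.1 ∨ y.1 = -x.1) {a b : F}
    (h : θ (u a) = θ (u b)) : a = b := by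
  rcases hθ _ _ h with h3 | h3
  · rw [u_coe, u_coe] at h3
    have := congrFun (congrFun h3 0) 1
    simpa using this.symm
  · rw [u_coe, u_coe] at h3
    have h00 := congrFun (congrFun h3 0) 0
    have h01 := congrFun (congrFun h3 0) 1
    simp only [Matrix.of_apply, Matrix.cons_val', Matrix.cons_val_zero, Matrix.cons_val_one,
      Matrix.cons_val_fin_one, Matrix.neg_apply] at h00 h01
    linear_combination (-1 : F) * h01 + a * h00

theorem v_eq_of_theta (hθ : ∀ x y : SL(2, F), θ x = θ y → y.1 = x.1 ∨ y.1 = -x.1) {a b : F}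
    (h : θ (v a) = θ (v b)) : a = b := by
  rcases hθ _ _ h with h3 | h3
  · rw [v_coe, v_coe] at h3
    have := congrFun (congrFun h3 1) 0
    simpa using this.symm
  · rw [v_coe, v_coe] at h3
    have h00 := congrFun (congrFun h3 0) 0
    have h10 := congrFun (congrFun h3 1) 0
    simp only [Matrix.of_apply, Matrix.cons_val', Matrix.cons_val_zero, Matrix.cons_val_one,
      Matrix.cons_val_fin_one, Matrix.neg_apply] at h00 h10
    linear_combination (-1 : F) * h10 + a * h00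

/-- the relation linking the action on the two root groups -/
theorem psi'_eq_gen (hθ : ∀ x y : SL(2, F), θ x = θ y → y.1 = x.1 ∨ y.1 = -x.1)
    (hψ : ∀ b, β (θ (u b)) = θ (u (ψ b))) (hψ' : ∀ c, β (θ (v c)) = θ (v (ψ' c)))
    (h1 : ψ 1 ≠ 0) (b : F) (hb : b ≠ 0) : ψ b * ψ' (-b⁻¹) = -1 := by
  have hw : β (θ (wm b)) = θ (u (ψ b) * v (ψ' (-b⁻¹)) * u (ψ b)) := beta_uvu hψ hψ' _ _
  have h2 := beta_conj θ β _ _ _ _ hw (hψ 1)
  rw [wm_conj_u b hb 1, hψ'] at h2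
  have h3 := hθ _ _ h2
  rw [conj_u_coe, v_coe, uvu_coe] at h3
  have h00 : ψ 1 * ((1 + ψ b * ψ' (-b⁻¹)) * (1 + ψ b * ψ' (-b⁻¹))) = 0 := by
    rcases h3 with h3 | h3
    · have := congrFun (congrFun h3 0) 1
      simp only [Matrix.of_apply, Matrix.cons_val', Matrix.cons_val_zero, Matrix.cons_val_one,
        Matrix.cons_val_fin_one] at this
      linear_combination this
    · have := congrFun (congrFun h3 0) 1
      simp only [Matrix.of_apply, Matrix.cons_val', Matrix.cons_val_zero, Matrix.cons_val_one,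
        Matrix.cons_val_fin_one, Matrix.neg_apply] at this
      linear_combination this
  have h3 : 1 + ψ b * ψ' (-b⁻¹) = 0 :=
    mul_self_eq_zero.mp ((mul_eq_zero.mp h00).resolve_left h1)
  linear_combination h3

theorem map_wm_gen (hθ : ∀ x y : SL(2, F), θ x = θ y → y.1 = x.1 ∨ y.1 = -x.1)
    (hψ : ∀ b, β (θ (u b)) = θ (u (ψ b))) (hψ' : ∀ c, β (θ (v c)) = θ (v (ψ' c)))
    (h1 : ψ 1 ≠ 0) (b : F) (hb : b ≠ 0) : β (θ (wm b)) = θ (wm (ψ b)) := by
  have h2 := psi'_eq_gen hθ hψ hψ' h1 b hb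
  have hne : ψ b ≠ 0 := by
    intro h
    rw [h, zero_mul] at h2
    exact one_ne_zero (neg_eq_zero.mp h2.symm)
  have h3 : ψ' (-b⁻¹) = -(ψ b)⁻¹ := by
    have : ψ' (-b⁻¹) = (ψ b)⁻¹ * (ψ b * ψ' (-b⁻¹)) := by
      rw [← mul_assoc, inv_mul_cancel₀ hne, one_mul]
    rw [this, h2]
    ring
  rw [wm, beta_uvu hψ hψ', h3, wm]

theorem wm_mul_wm_inv (a c : F) (ha : a ≠ 0) (hc : c ≠ 0) : wm a * (wm c)⁻¹ = hd (a / c) := by
  apply Subtype.ext
  rw [coe_mul, coe_inv, wm_coe a ha, wm_coe c hc, hd_coe _ (div_ne_zero ha hc),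
    Matrix.adjugate_fin_two]
  ext i j
  fin_cases i <;> fin_cases j <;> simp [Matrix.mul_apply, Fin.sum_univ_two] <;> field_simp

theorem psi_sq_gen (hθ : ∀ x y : SL(2, F), θ x = θ y → y.1 = x.1 ∨ y.1 = -x.1)
    (hψ : ∀ b, β (θ (u b)) = θ (u (ψ b))) (hψ' : ∀ c, β (θ (v c)) = θ (v (ψ' c)))
    (hinj : Function.Injective ψ) (h0 : ψ 0 = 0) (b t : F) :
    ψ (b * t * t) = ψ b * (ψ t / ψ 1) * (ψ t / ψ 1) := by
  by_cases ht : t = 0
  · rw [ht, mul_zero, h0, zero_div, mul_zero]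
  have h1 : ψ 1 ≠ 0 := fun h => one_ne_zero (hinj (h.trans h0.symm))
  have hne : ψ t ≠ 0 := fun h => ht (hinj (h.trans h0.symm))
  have hh : β (θ (hd t)) = θ (hd (ψ t / ψ 1)) := by
    rw [hd, ← wm_mul_wm_inv _ _ hne h1]
    simp only [map_mul, map_inv]
    rw [map_wm_gen hθ hψ hψ' h1 t ht, map_wm_gen hθ hψ hψ' h1 1 one_ne_zero]
  have h2 := beta_conj θ β _ _ _ _ hh (hψ b)
  rw [hd_conj_u t ht, hd_conj_u _ (div_ne_zero hne h1), hψ] at h2
  exact u_eq_of_theta hθ h2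

end core

section fin

variable {F : Type*} [Field F] [Fintype F] {Γ : Type*} [Group Γ] {θ : SL(2, F) →* Γ} {β : Γ →* Γ}
  {ψ ψ' : F → F}

/-- the rank one analysis: an endomorphism acting on the two root groups of an image of `SL₂`
acts through one field automorphism up to a diagonal scalar -/
theorem exists_ringAut_gen (hθ : ∀ x y : SL(2, F), θ x = θ y → y.1 = x.1 ∨ y.1 = -x.1)
    (hψ : ∀ b, β (θ (u b)) = θ (u (ψ b))) (hψ' : ∀ c, β (θ (v c)) = θ (v (ψ' c)))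
    (hadd : ∀ b c, ψ (b + c) = ψ b + ψ c) (hinj : Function.Injective ψ) (h0' : ψ' 0 = 0) :
    ∃ (d : F) (σ : RingAut F), d ≠ 0 ∧ (∀ b, ψ b = d * σ b) ∧ (∀ c, ψ' c = d⁻¹ * σ c) := by
  have h0 : ψ 0 = 0 := by
    have := hadd 0 0
    rw [add_zero] at this
    exact left_eq_add.mp this
  have h1 : ψ 1 ≠ 0 := fun h => one_ne_zero (hinj (h.trans h0.symm))
  have hsq := psi_sq_gen hθ hψ hψ' hinj h0
  set ψ₁ : F → F := fun b => ψ b / ψ 1 with hψ₁
  have hψ₁1 : ψ₁ 1 = 1 := div_self h1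
  have hadd₁ : ∀ b c, ψ₁ (b + c) = ψ₁ b + ψ₁ c := by
    intro b c
    simp only [hψ₁]
    rw [hadd, add_div]
  have hsq₁ : ∀ b t, ψ₁ (b * t * t) = ψ₁ b * ψ₁ t * ψ₁ t := by
    intro b t
    simp only [hψ₁]
    rw [hsq]
    ring
  have hmul := psi_mul hψ₁1 hadd₁ hsq₁
  have hinj₁ : Function.Injective ψ₁ := by
    intro a b hab
    simp only [hψ₁] at hab
    exact hinj ((div_left_inj' h1).mp hab)
  have hbij : Function.Bijective ψ₁ := Finite.injective_iff_bijective.mp hinj₁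
  let f : F →+* F :=
    { toFun := ψ₁, map_one' := hψ₁1, map_mul' := hmul,
      map_zero' := by simp only [hψ₁]; rw [h0, zero_div], map_add' := hadd₁ }
  let σ : RingAut F := RingEquiv.ofBijective f hbij
  have hσ : ∀ b, σ b = ψ b / ψ 1 := fun b => rfl
  have hψσ : ∀ b, ψ b = ψ 1 * σ b := by
    intro b
    rw [hσ]
    field_simp
  refine ⟨ψ 1, σ, h1, hψσ, fun c => ?_⟩
  by_cases hc : c = 0
  · rw [hc, h0', map_zero, mul_zero]
  have hb : -c⁻¹ ≠ 0 := neg_ne_zero.mpr (inv_ne_zero hc)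
  have h2 := psi'_eq_gen hθ hψ hψ' h1 (-c⁻¹) hb
  rw [inv_neg, inv_inv, neg_neg, hψσ (-c⁻¹), map_neg, map_inv₀] at h2
  have hne : σ c ≠ 0 := fun h => hc ((map_eq_zero_iff σ σ.injective).mp h)
  field_simp at h2
  field_simp
  linear_combination -h2

end fin

end Cfsg.Agent.Helper2.PN
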