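import Mathlib
import Cfsg.Agent.Lib.Helper2.Psln2

set_option autoImplicit false

namespace Cfsg.Agent.Helper2.PN

open Matrix Matrix.SpecialLinearGroup
open scoped MatrixGroups

variable {ι : Type*} [Fintype ι] [DecidableEq ι] {F : Type*} [Field F]

/-- the unitriangular condition with respect to a rank function -/
def IsUT (r : ι ↪ ℕ) (M : Matrix ι ι F) : Prop :=
  (∀ i j, r j < r i → M i j = 0) ∧ ∀ i, M i i = 1

theorem isUT_one (r : ι ↪ ℕ) : IsUT r (1 : Matrix ι ι F) := by
  refine ⟨fun i j h => ?_, fun i => by simp⟩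
  rw [one_apply_ne]
  rintro rfl
  exact lt_irrefl _ h

theorem IsUT.mul {r : ι ↪ ℕ} {M N : Matrix ι ι F} (hM : IsUT r M) (hN : IsUT r N) :
    IsUT r (M * N) := by
  refine ⟨fun i j h => ?_, fun i => ?_⟩
  · rw [Matrix.mul_apply]
    apply Finset.sum_eq_zero
    intro k _
    by_cases h1 : r k < r i
    · rw [hM.1 i k h1, zero_mul]
    · have h2 : r j < r k := lt_of_lt_of_le h (not_lt.mp h1)
      rw [hN.1 k j h2, mul_zero]
  · rw [Matrix.mul_apply, Finset.sum_eq_single i]
    · rw [hM.2, hN.2, mul_one]
    · intro k _ hk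
      have hne : r k ≠ r i := fun h => hk (r.injective h)
      rcases lt_or_gt_of_ne hne with h1 | h1
      · rw [hM.1 i k h1, zero_mul]
      · rw [hN.1 k i h1, mul_zero]
    · intro h
      exact absurd (Finset.mem_univ i) h

theorem det_of_isUT {r : ι ↪ ℕ} {M : Matrix ι ι F} (hM : IsUT r M) : M.det = 1 := by
  letI : LinearOrder ι := LinearOrder.lift' r r.injective
  have hbt : M.BlockTriangular id := by
    intro i j hij
    exact hM.1 i j hij
  rw [Matrix.det_of_isUpperTriangular hbt]
  simp [hM.2]

section fin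

variable [Fintype F]

/-- the unitriangular submonoid -/
def UTm (r : ι ↪ ℕ) : Submonoid (Matrix.SpecialLinearGroup ι F) where
  carrier := {x | IsUT r x.1}
  one_mem' := isUT_one r
  mul_mem' := fun {x y} hx hy => by
    change IsUT r (x * y).1
    rw [coe_mul]
    exact hx.mul hy

/-- the unitriangular subgroup with respect to the rank function `r` -/
def UT (r : ι ↪ ℕ) : Subgroup (Matrix.SpecialLinearGroup ι F) :=
  { UTm r with
    inv_mem' := fun {x} hx => by
      have hpos : 0 < orderOf x := orderOf_pos x
      have h1 : x⁻¹ = x ^ (orderOf x - 1) := by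
        apply inv_eq_of_mul_eq_one_right
        rw [← pow_succ', Nat.sub_add_cancel hpos, pow_orderOf_eq_one]
      rw [h1]
      exact (UTm r).pow_mem hx _ }

theorem mem_UT_iff (r : ι ↪ ℕ) (x : Matrix.SpecialLinearGroup ι F) : x ∈ UT r ↔ IsUT r x.1 :=
  Iff.rfl

/-- the strictly upper positions -/
abbrev Pos (r : ι ↪ ℕ) : Type _ := {p : ι × ι // r p.1 < r p.2}

/-- the matrix with prescribed strictly upper entries -/
def utMat (r : ι ↪ ℕ) (t : Pos r → F) : Matrix ι ι F :=
  fun i j => if i = j then 1 else if h : r i < r j then t ⟨(i, j), h⟩ else 0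

theorem isUT_utMat (r : ι ↪ ℕ) (t : Pos r → F) : IsUT r (utMat r t) := by
  refine ⟨fun i j h => ?_, fun i => by simp [utMat]⟩
  have hne : i ≠ j := by
    rintro rfl
    exact lt_irrefl _ h
  simp [utMat, hne, not_lt.mpr h.le]

/-- unitriangular matrices are parametrised by their strictly upper entries -/
def utEquiv (r : ι ↪ ℕ) : UT (F := F) r ≃ (Pos r → F) where
  toFun x p := x.1.1 p.1.1 p.1.2
  invFun t := ⟨⟨utMat r t, det_of_isUT (isUT_utMat r t)⟩, isUT_utMat r t⟩
  left_inv x := by
    apply Subtype.ext
    apply Subtype.ext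
    ext i j
    have hx : IsUT r x.1.1 := x.2
    change utMat r (fun p : Pos r => x.1.1 p.1.1 p.1.2) i j = x.1.1 i j
    by_cases hij : i = j
    · subst hij
      simp [utMat, hx.2]
    · by_cases h : r i < r j
      · simp [utMat, hij, h]
      · have h2 : r j < r i := lt_of_le_of_ne (not_lt.mp h) (fun h' => hij (r.injective h').symm)
        simp [utMat, hij, h, hx.1 i j h2]
  right_inv t := by
    funext p
    have hne : p.1.1 ≠ p.1.2 := by
      intro h
      have := p.2
      rw [h] at this
      exact lt_irrefl _ this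
    change utMat r t p.1.1 p.1.2 = t p
    simp [utMat, hne, p.2]

theorem card_UT (r : ι ↪ ℕ) :
    Nat.card (UT (F := F) r) = Fintype.card F ^ Fintype.card (Pos r) := by
  rw [Nat.card_congr (utEquiv r), Nat.card_eq_fintype_card, Fintype.card_fun]

omit [Fintype F] in
theorem two_mul_card_pos (r : ι ↪ ℕ) :
    2 * Fintype.card (Pos r) + Fintype.card ι = Fintype.card ι * Fintype.card ι := by
  have h1 : Fintype.card (Pos r) = Fintype.card {p : ι × ι // r p.2 < r p.1} :=
    Fintype.card_congr ((Equiv.prodComm ι ι).subtypeEquiv (fun p => Iff.rfl))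
  have h2 : Fintype.card {p : ι × ι // p.1 = p.2} = Fintype.card ι :=
    Fintype.card_congr
      { toFun := fun p => p.1.1
        invFun := fun i => ⟨(i, i), rfl⟩
        left_inv := fun p => by
          apply Subtype.ext
          exact Prod.ext rfl p.2
        right_inv := fun i => rfl }
  have h3 : Fintype.card (ι × ι) = Fintype.card (Pos r) +
      Fintype.card {p : ι × ι // r p.2 < r p.1} + Fintype.card {p : ι × ι // p.1 = p.2} := by
    simp only [Fintype.card_subtype, ← Finset.card_univ (α := ι × ι)]
    rw [Finset.card_filter, Finset.card_filter, Finset.card_filter, ← Finset.sum_add_distrib,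
      ← Finset.sum_add_distrib, Finset.card_eq_sum_ones]
    apply Finset.sum_congr rfl
    intro p _
    rcases lt_trichotomy (r p.1) (r p.2) with h | h | h
    · have hne : p.1 ≠ p.2 := fun h' => by rw [h'] at h; exact lt_irrefl _ h
      simp [h, not_lt.mpr h.le, hne]
    · have : p.1 = p.2 := r.injective h
      simp [this]
    · have hne : p.1 ≠ p.2 := fun h' => by rw [h'] at h; exact lt_irrefl _ h
      simp [h, not_lt.mpr h.le, hne]
  rw [Fintype.card_prod] at h3
  omega

end fin

end Cfsg.Agent.Helper2.PN
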