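import Mathlib
import Cfsg.Agent.Lib.Helper2.Psln3

set_option autoImplicit false

namespace Cfsg.Agent.Helper2.PN

open Matrix Matrix.SpecialLinearGroup
open scoped MatrixGroups

theorem prod_pow_sub_pow (q n : ℕ) (hq : 1 ≤ q) :
    ∏ i : Fin n, (q ^ n - q ^ (i : ℕ)) =
      q ^ (∑ i : Fin n, (i : ℕ)) * ∏ i : Fin n, (q ^ (n - (i : ℕ)) - 1) := by
  rw [← Finset.prod_pow_eq_pow_sum, ← Finset.prod_mul_distrib]
  apply Finset.prod_congr rfl
  intro i _
  have hi : (i : ℕ) ≤ n := i.2.le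
  rw [Nat.mul_sub, mul_one, ← pow_add, Nat.add_sub_cancel' hi]

theorem two_mul_sum_fin (n : ℕ) : 2 * ∑ i : Fin n, (i : ℕ) + n = n * n := by
  rw [Fin.sum_univ_eq_sum_range (fun i => i) n, mul_comm 2, Finset.sum_range_id_mul_two]
  cases n with
  | zero => rfl
  | succ k => simp [Nat.succ_mul]; ring

variable {n : ℕ} {F : Type*} [Field F] [Fintype F] (p : ℕ) [Fact p.Prime] [CharP F p]

omit [Fact p.Prime] in
theorem isPGroup_UT (r : Fin n ↪ ℕ) : IsPGroup p (UT (F := F) r) := by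
  obtain ⟨f, -, hqf⟩ := FiniteField.card F p
  exact IsPGroup.of_card (n := f * Fintype.card (Pos r)) (by rw [card_UT, hqf, pow_mul])

/-- the image of the unitriangular group in `PSL` -/
noncomputable def UTb (r : Fin n ↪ ℕ) :
    Subgroup (Matrix.ProjectiveSpecialLinearGroup (Fin n) F) :=
  (UT (F := F) r).map mkn

omit [Fact p.Prime] in
theorem isPGroup_UTb (r : Fin n ↪ ℕ) : IsPGroup p (UTb (F := F) r) :=
  (isPGroup_UT p r).map mkn

/-- all elements of a unitriangular group are killed by a common power of `p` -/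
theorem exists_pow_eq_one (r : Fin n ↪ ℕ) :
    ∃ k : ℕ, ∀ x ∈ UT (F := F) r, x ^ p ^ k = 1 := by
  obtain ⟨f, -, hqf⟩ := FiniteField.card F p
  refine ⟨f * Fintype.card (Pos r), fun x hx => ?_⟩
  have h1 : (⟨x, hx⟩ : UT (F := F) r) ^ Nat.card (UT (F := F) r) = 1 := pow_card_eq_one'
  rw [card_UT, hqf, ← pow_mul] at h1
  exact congrArg Subtype.val h1

include p in
theorem mkn_injOn_UT [NeZero n] (r : Fin n ↪ ℕ) {x y : Matrix.SpecialLinearGroup (Fin n) F}
    (hx : x ∈ UT r) (hy : y ∈ UT r) (h : mkn x = mkn y) : x = y := by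
  obtain ⟨k, hk⟩ := exists_pow_eq_one (F := F) p r
  haveI : Nonempty (Fin n) := ⟨0⟩
  exact eq_of_mkn_eq_of_pow p x y k (hk x hx) (hk y hy) h

include p in
theorem card_UTb [NeZero n] (r : Fin n ↪ ℕ) :
    Nat.card (UTb (F := F) r) = Fintype.card F ^ Fintype.card (Pos r) := by
  rw [← card_UT (F := F) r]
  symm
  apply Nat.card_congr
  refine Equiv.ofBijective (fun x => ⟨mkn x.1, Subgroup.mem_map_of_mem _ x.2⟩) ⟨?_, ?_⟩
  · intro x y hxy
    apply Subtype.ext
    exact mkn_injOn_UT p r x.2 y.2 (congrArg Subtype.val hxy)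
  · rintro ⟨_, x, hx, rfl⟩
    exact ⟨⟨x, hx⟩, rfl⟩

theorem not_dvd_index_UTb [NeZero n] (r : Fin n ↪ ℕ) : ¬ p ∣ (UTb (F := F) r).index := by
  have hp : p.Prime := Fact.out
  have hn : 1 ≤ n := Nat.one_le_iff_ne_zero.mpr (NeZero.ne n)
  obtain ⟨f, -, hqf⟩ := FiniteField.card F p
  intro hdvd
  have hq1 : 1 < Fintype.card F := Fintype.one_lt_card
  have hcard := Cfsg.Agent.Helper2.card_SL_mul (F := F) n hn
  rw [prod_pow_sub_pow _ _ hq1.le] at hcard
  have h1 := Subgroup.card_eq_card_quotient_mul_card_subgroup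
    (Subgroup.center (Matrix.SpecialLinearGroup (Fin n) F))
  have h2 := (UTb (F := F) r).card_mul_index
  rw [card_UTb p r] at h2
  have hN : Fintype.card (Pos r) = ∑ i : Fin n, (i : ℕ) := by
    have e1 := two_mul_card_pos (ι := Fin n) r
    have e2 := two_mul_sum_fin n
    rw [Fintype.card_fin] at e1
    omega
  have h3 : (UTb (F := F) r).index * (Nat.card (Subgroup.center (Matrix.SpecialLinearGroup (Fin n) F)) *
      (Fintype.card F - 1)) = ∏ i : Fin n, (Fintype.card F ^ (n - (i : ℕ)) - 1) := by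
    apply Nat.eq_of_mul_eq_mul_left (pow_pos (by omega : 0 < Fintype.card F) (∑ i : Fin n, (i : ℕ)))
    rw [← hcard, h1, ← h2, hN]
    ring
  have hd : p ∣ ∏ i : Fin n, (Fintype.card F ^ (n - (i : ℕ)) - 1) := by
    rw [← h3]
    exact Dvd.dvd.mul_right hdvd _
  rw [Prime.dvd_finset_prod_iff (Nat.Prime.prime hp)] at hd
  obtain ⟨i, -, hi⟩ := hd
  have hk : n - (i : ℕ) ≠ 0 := by
    have := i.2
    omega
  have hpq : p ∣ Fintype.card F ^ (n - (i : ℕ)) := by
    rw [hqf, ← pow_mul]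
    exact dvd_pow_self p (Nat.mul_ne_zero f.ne_zero hk)
  have h1' : 1 ≤ Fintype.card F ^ (n - (i : ℕ)) := Nat.one_le_pow _ _ (by omega)
  have := (Nat.dvd_sub_iff_right h1' hpq).mp hi
  exact hp.one_lt.ne' (Nat.dvd_one.mp this)

/-- every `p`-subgroup of `PSL_n` is contained in a conjugate of the unitriangular group -/
theorem exists_conj_of_pgroup [NeZero n] (r : Fin n ↪ ℕ)
    (K : Subgroup (Matrix.ProjectiveSpecialLinearGroup (Fin n) F)) (hK : IsPGroup p K) :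
    ∃ s : Matrix.SpecialLinearGroup (Fin n) F, ∀ x ∈ K, ∃ u ∈ UT (F := F) r,
      x = mkn (s * u * s⁻¹) := by
  set P0 : Sylow p (Matrix.ProjectiveSpecialLinearGroup (Fin n) F) :=
    (isPGroup_UTb (F := F) p r).toSylow (not_dvd_index_UTb p r) with hP0
  obtain ⟨Q, hQ⟩ := hK.exists_le_sylow
  obtain ⟨g, hg⟩ := MulAction.exists_smul_eq (Matrix.ProjectiveSpecialLinearGroup (Fin n) F) P0 Q
  obtain ⟨s, rfl⟩ := mkn_surjective g
  refine ⟨s, fun x hx => ?_⟩
  have h1 : x ∈ Q := hQ hx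
  rw [← hg, Cfsg.Agent.Helper2.mem_sylow_smul_iff] at h1
  have h2 : (mkn s)⁻¹ * x * mkn s ∈ UTb (F := F) r := h1
  obtain ⟨u, hu, hux⟩ := h2
  refine ⟨u, hu, ?_⟩
  rw [map_mul, map_mul, map_inv, hux]
  group

end Cfsg.Agent.Helper2.PN
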