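import Mathlib
import Cfsg.Agent.Lib.Helper2.Psln4

set_option autoImplicit false

namespace Cfsg.Agent.Helper2.PN

open Matrix Matrix.SpecialLinearGroup
open scoped MatrixGroups

section general

variable {ι : Type*} [Fintype ι] [DecidableEq ι] {F : Type*} [Field F] [Fintype F]

theorem transvection_mem_UT (r : ι ↪ ℕ) {k l : ι} (hkl : r k < r l) (c : F) :
    transvection (fun h => by rw [h] at hkl; exact lt_irrefl _ hkl : k ≠ l) c ∈ UT (F := F) r := by
  have hne : k ≠ l := fun h => by rw [h] at hkl; exact lt_irrefl _ hkl
  rw [mem_UT_iff, transvection_coe]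
  refine ⟨fun i j h => ?_, fun i => ?_⟩
  · have hij : i ≠ j := fun h' => by rw [h'] at h; exact lt_irrefl _ h
    have h2 : ¬ (k = i ∧ l = j) := by
      rintro ⟨rfl, rfl⟩
      exact lt_asymm h hkl
    simp [Matrix.add_apply, Matrix.one_apply, Matrix.single_apply, hij, h2]
  · have h2 : ¬ (k = i ∧ l = i) := by
      rintro ⟨rfl, h3⟩
      exact hne h3.symm
    simp [Matrix.add_apply, Matrix.single_apply, h2]

omit [Fintype F] in
theorem mul_single_apply' (M : Matrix ι ι F) (k l s t : ι) (c : F) :
    (M * single k l c) s t = M s k * (if l = t then c else 0) := by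
  rw [Matrix.mul_apply, Finset.sum_eq_single k]
  · simp [Matrix.single_apply]
  · intro j _ hj
    simp [Matrix.single_apply, Ne.symm hj]
  · intro h
    exact absurd (Finset.mem_univ _) h

omit [Fintype F] in
theorem single_mul_apply' (M : Matrix ι ι F) (k l s t : ι) (c : F) :
    (single k l c * M) s t = (if k = s then c else 0) * M l t := by
  rw [Matrix.mul_apply, Finset.sum_eq_single l]
  · simp [Matrix.single_apply]
  · intro j _ hj
    simp [Matrix.single_apply, Ne.symm hj]
  · intro h
    exact absurd (Finset.mem_univ _) h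

/-- the extreme root group is central in the unitriangular group -/
theorem central_of_minmax (r : ι ↪ ℕ) {a b : ι} (hab : a ≠ b) (ha : ∀ k, r a ≤ r k)
    (hb : ∀ k, r k ≤ r b) (c : F) {x : Matrix.SpecialLinearGroup ι F} (hx : x ∈ UT (F := F) r) :
    x * transvection hab c = transvection hab c * x := by
  rw [mem_UT_iff] at hx
  have hcol : ∀ k, x.1 k a = if k = a then 1 else 0 := by
    intro k
    by_cases hk : k = a
    · rw [hk, if_pos rfl, hx.2]
    · rw [if_neg hk]
      apply hx.1
      exact lt_of_le_of_ne (ha k) (fun h => hk (r.injective h).symm)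
  have hrow : ∀ l, x.1 b l = if b = l then 1 else 0 := by
    intro l
    by_cases hl : b = l
    · rw [← hl, if_pos rfl, hx.2]
    · rw [if_neg hl]
      apply hx.1
      exact lt_of_le_of_ne (hb l) (fun h => hl (r.injective h).symm)
  apply Subtype.ext
  rw [coe_mul, coe_mul, transvection_coe, mul_add, add_mul, mul_one, one_mul]
  congr 1
  ext k l
  rw [mul_single_apply', single_mul_apply', hcol, hrow]
  by_cases h1 : k = a
  · by_cases h2 : b = l <;> simp [h1, h2]
  · have h1' : ¬ a = k := fun h => h1 h.symm
    by_cases h2 : b = l <;> simp [h1, h2, h1']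

/-- the centre of the unitriangular group is contained in the extreme root group -/
theorem center_UT_subset (r : ι ↪ ℕ) {a b : ι} (hab : a ≠ b) (ha : ∀ k, r a ≤ r k)
    (hb : ∀ k, r k ≤ r b) {x : Matrix.SpecialLinearGroup ι F} (hx : x ∈ UT (F := F) r)
    (hc : ∀ y ∈ UT (F := F) r, x * y = y * x) : x = transvection hab (x.1 a b) := by
  have key : ∀ k l : ι, r k < r l → ∀ s t : ι,
      x.1 s k * (if l = t then (1 : F) else 0) = (if k = s then (1 : F) else 0) * x.1 l t := by
    intro k l hkl s t
    have h1 := hc _ (transvection_mem_UT r hkl (1 : F))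
    have h2 := congrArg (fun y : Matrix.SpecialLinearGroup ι F => y.1 s t) h1
    simp only [coe_mul, transvection_coe, mul_add, add_mul, mul_one, one_mul,
      Matrix.add_apply] at h2
    have h3 := add_left_cancel h2
    rwa [mul_single_apply', single_mul_apply'] at h3
  rw [mem_UT_iff] at hx
  apply Subtype.ext
  rw [transvection_coe]
  ext s t
  by_cases hst : s = t
  · subst hst
    have : ¬ (a = s ∧ b = s) := by
      rintro ⟨rfl, h⟩
      exact hab h.symm
    simp [Matrix.add_apply, Matrix.single_apply, hx.2, this]
  · by_cases htb : t = b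
    · by_cases hsa : s = a
      · subst hsa htb
        simp [Matrix.add_apply, Matrix.single_apply, hst]
      · -- row s with s ≠ a
        have hlt : r a < r s := lt_of_le_of_ne (ha s) (fun h => hsa (r.injective h).symm)
        have h4 := key a s hlt a t
        rw [if_neg hst, mul_zero, if_pos rfl, one_mul] at h4
        have h2 : ¬ (a = s ∧ b = t) := fun h => hsa h.1.symm
        simp [Matrix.add_apply, Matrix.single_apply, Matrix.one_apply, hst, h2, ← h4]
    · -- column t with t ≠ b
      have hlt : r t < r b := lt_of_le_of_ne (hb t) (fun h => htb (r.injective h))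
      have h4 := key t b hlt s b
      rw [if_pos rfl, mul_one, if_neg (Ne.symm hst), zero_mul] at h4
      have h2 : ¬ (a = s ∧ b = t) := fun h => htb h.2.symm
      simp [Matrix.add_apply, Matrix.single_apply, Matrix.one_apply, hst, h2, h4]

end general

end Cfsg.Agent.Helper2.PN
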