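import Mathlib
import Cfsg.Agent.Lib.Helper2.Psln5

set_option autoImplicit false

namespace Cfsg.Agent.Helper2.PN

open Matrix Matrix.SpecialLinearGroup
open scoped MatrixGroups

variable {m : ℕ} {F : Type*} [Field F] [Fintype F] (p : ℕ) [Fact p.Prime] [CharP F p]

/-- root elements of `PSL_n`: nonidentity elements of centres of Sylow `p`-subgroups -/
def IsRootElt (x : Matrix.ProjectiveSpecialLinearGroup (Fin (m + 2)) F) : Prop :=
  x ≠ 1 ∧ ∃ P : Subgroup (Matrix.ProjectiveSpecialLinearGroup (Fin (m + 2)) F),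
    IsPGroup p P ∧ ¬ p ∣ P.index ∧ x ∈ P ∧ ∀ y ∈ P, x * y = y * x

omit [Fintype F] [Fact p.Prime] [CharP F p] in
theorem IsRootElt.map (α : MulAut (Matrix.ProjectiveSpecialLinearGroup (Fin (m + 2)) F))
    {x : Matrix.ProjectiveSpecialLinearGroup (Fin (m + 2)) F} (h : IsRootElt p x) :
    IsRootElt p (α x) := by
  obtain ⟨hx1, P, hP, hidx, hxP, hc⟩ := h
  refine ⟨fun h1 => hx1 (by rwa [map_eq_one_iff α α.injective] at h1),
    P.map α.toMonoidHom, hP.map _, ?_, Subgroup.mem_map_of_mem _ hxP, ?_⟩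
  · have := Subgroup.index_map_equiv P α
    rw [show ((α : Matrix.ProjectiveSpecialLinearGroup (Fin (m + 2)) F →*
      Matrix.ProjectiveSpecialLinearGroup (Fin (m + 2)) F)) = α.toMonoidHom from rfl] at this
    rwa [this]
  · rintro _ ⟨y, hy, rfl⟩
    change α x * α y = α y * α x
    rw [← map_mul, ← map_mul, hc y hy]

/-- the standard rank function -/
def r0 (m : ℕ) : Fin (m + 2) ↪ ℕ := Fin.valEmbedding

theorem h0 (m : ℕ) : (0 : Fin (m + 2)) ≠ Fin.last (m + 1) := by
  intro h
  have := congrArg Fin.val h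
  simp at this

/-- a rank function with `i` minimal and `j` maximal -/
def rijFun (i j : Fin (m + 2)) (k : Fin (m + 2)) : ℕ :=
  if k = i then 0 else if k = j then m + 3 else (k : ℕ) + 1

theorem rijFun_injective (i j : Fin (m + 2)) : Function.Injective (rijFun i j) := by
  intro k l h
  have hk := k.2
  have hl := l.2
  unfold rijFun at h
  split_ifs at h <;> first
    | omega
    | exact Fin.ext (by omega)
    | simp_all

/-- a rank function with `i` minimal and `j` maximal -/
def rij {i j : Fin (m + 2)} (_hij : i ≠ j) : Fin (m + 2) ↪ ℕ :=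
  ⟨rijFun i j, rijFun_injective i j⟩

theorem rij_apply {i j : Fin (m + 2)} (hij : i ≠ j) (k : Fin (m + 2)) :
    rij hij k = rijFun i j k := rfl

theorem rij_min {i j : Fin (m + 2)} (hij : i ≠ j) (k : Fin (m + 2)) : rij hij i ≤ rij hij k := by
  rw [rij_apply, rij_apply]
  simp [rijFun]

theorem rij_max {i j : Fin (m + 2)} (hij : i ≠ j) (k : Fin (m + 2)) : rij hij k ≤ rij hij j := by
  have := k.2
  rw [rij_apply, rij_apply]
  unfold rijFun
  rw [if_neg hij.symm, if_pos rfl]
  split_ifs <;> omega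

theorem rij_lt {i j : Fin (m + 2)} (hij : i ≠ j) : rij hij i < rij hij j := by
  rw [rij_apply, rij_apply]
  unfold rijFun
  rw [if_pos rfl, if_neg hij.symm, if_pos rfl]
  omega

/-- conjugates of elementary root elements are root elements -/
theorem isRootElt_conj_transvection (s : Matrix.SpecialLinearGroup (Fin (m + 2)) F)
    {i j : Fin (m + 2)} (hij : i ≠ j) {c : F} (hc : c ≠ 0) :
    IsRootElt p (mkn (s * transvection hij c * s⁻¹)) := by
  constructor
  · intro h1
    rw [QuotientGroup.mk'_apply, QuotientGroup.eq_one_iff] at h1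
    have h2 : transvection hij c ∈ Subgroup.center (Matrix.SpecialLinearGroup (Fin (m + 2)) F) := by
      have := (Subgroup.center (Matrix.SpecialLinearGroup (Fin (m + 2)) F)).normal_of_characteristic.conj_mem
        _ h1 s⁻¹
      simpa [mul_assoc] using this
    exact hc ((transvection_mem_center_iff hij c).mp h2)
  · refine ⟨(UTb (F := F) (rij hij)).map (MulAut.conj (mkn s)).toMonoidHom,
      (isPGroup_UTb p _).map _, ?_, ?_, ?_⟩
    · have := Subgroup.index_map_equiv (UTb (F := F) (rij hij)) (MulAut.conj (mkn s))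
      rw [show ((MulAut.conj (mkn s) : MulAut _) : Matrix.ProjectiveSpecialLinearGroup (Fin (m + 2)) F →*
        Matrix.ProjectiveSpecialLinearGroup (Fin (m + 2)) F) = (MulAut.conj (mkn s)).toMonoidHom
        from rfl] at this
      rw [this]
      exact not_dvd_index_UTb p _
    · refine ⟨mkn (transvection hij c), Subgroup.mem_map_of_mem _
        (transvection_mem_UT (rij hij) (rij_lt hij) c), ?_⟩
      rw [MulEquiv.coe_toMonoidHom, MulAut.conj_apply, map_mul, map_mul, map_inv]
    · rintro _ ⟨_, ⟨u, hu, rfl⟩, rfl⟩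
      rw [MulEquiv.coe_toMonoidHom, MulAut.conj_apply, map_mul, map_mul, map_inv]
      have h3 := central_of_minmax (rij hij) hij (rij_min hij) (rij_max hij) c hu
      have h4 : mkn (transvection hij c) * mkn u = mkn u * mkn (transvection hij c) := by
        rw [← map_mul, ← map_mul, h3]
      calc mkn s * mkn (transvection hij c) * (mkn s)⁻¹ * (mkn s * mkn u * (mkn s)⁻¹)
          = mkn s * (mkn (transvection hij c) * mkn u) * (mkn s)⁻¹ := by group
        _ = mkn s * (mkn u * mkn (transvection hij c)) * (mkn s)⁻¹ := by rw [h4]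
        _ = _ := by group

/-- every root element is conjugate to an element of the standard extreme root group -/
theorem IsRootElt.exists_conj {x : Matrix.ProjectiveSpecialLinearGroup (Fin (m + 2)) F}
    (h : IsRootElt p x) :
    ∃ (s : Matrix.SpecialLinearGroup (Fin (m + 2)) F) (c : F), c ≠ 0 ∧
      x = mkn (s * transvection (h0 m) c * s⁻¹) := by
  obtain ⟨hx1, P, hP, hidx, hxP, hc⟩ := h
  set P0 : Sylow p (Matrix.ProjectiveSpecialLinearGroup (Fin (m + 2)) F) :=
    (isPGroup_UTb (F := F) p (r0 m)).toSylow (not_dvd_index_UTb p (r0 m)) with hP0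
  set P1 : Sylow p (Matrix.ProjectiveSpecialLinearGroup (Fin (m + 2)) F) :=
    hP.toSylow hidx with hP1
  obtain ⟨g, hg⟩ := MulAction.exists_smul_eq (Matrix.ProjectiveSpecialLinearGroup (Fin (m + 2)) F) P0 P1
  obtain ⟨s, rfl⟩ := mkn_surjective g
  have hmem : ∀ y, y ∈ P ↔ (mkn s)⁻¹ * y * mkn s ∈ UTb (F := F) (r0 m) := by
    intro y
    have : y ∈ P ↔ y ∈ P1 := Iff.rfl
    rw [this, ← hg, Cfsg.Agent.Helper2.mem_sylow_smul_iff]
    rfl
  obtain ⟨u, hu, hux⟩ := (hmem x).mp hxP
  have hcen : ∀ y ∈ UT (F := F) (r0 m), u * y = y * u := by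
    intro y hy
    have hy' : mkn s * mkn y * (mkn s)⁻¹ ∈ P := by
      rw [hmem]
      have : (mkn s)⁻¹ * (mkn s * mkn y * (mkn s)⁻¹) * mkn s = mkn y := by group
      rw [this]
      exact Subgroup.mem_map_of_mem _ hy
    have h1 := hc _ hy'
    have h2 : mkn u * mkn y = mkn y * mkn u := by
      rw [hux]
      calc (mkn s)⁻¹ * x * mkn s * mkn y
          = (mkn s)⁻¹ * (x * (mkn s * mkn y * (mkn s)⁻¹)) * mkn s := by group
        _ = (mkn s)⁻¹ * ((mkn s * mkn y * (mkn s)⁻¹) * x) * mkn s := by rw [h1]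
        _ = _ := by group
    rw [← map_mul, ← map_mul] at h2
    exact mkn_injOn_UT p (r0 m) ((UT (r0 m)).mul_mem hu hy) ((UT (r0 m)).mul_mem hy hu) h2
  have hform := center_UT_subset (r0 m) (h0 m) (fun k => Nat.zero_le _)
    (fun k => by
      change (k : ℕ) ≤ ((Fin.last (m + 1) : Fin (m + 2)) : ℕ)
      exact Fin.le_last k) hu hcen
  refine ⟨s, u.1 0 (Fin.last (m + 1)), ?_, ?_⟩
  · intro h0'
    apply hx1
    rw [h0', transvection_coeff_zero] at hform
    rw [hform, map_one] at hux
    have : x = mkn s * ((mkn s)⁻¹ * x * mkn s) * (mkn s)⁻¹ := by group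
    rw [this, ← hux]
    group
  · rw [← hform, map_mul, map_mul, map_inv, hux]
    group

end Cfsg.Agent.Helper2.PN
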