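import Mathlib
import Cfsg.Agent.Lib.Helper2.Psln6

set_option autoImplicit false

namespace Cfsg.Agent.Helper2.PN

open Matrix Matrix.SpecialLinearGroup
open scoped MatrixGroups

variable {ι : Type*} [Fintype ι] [DecidableEq ι] {F : Type*} [Field F]

theorem det_one_add_vecMulVec (v f : ι → F) : (1 + vecMulVec v f).det = 1 + f ⬝ᵥ v := by
  rw [vecMulVec_eq Unit, det_one_add_replicateCol_mul_replicateRow]

/-- rank one unipotent elements of `SL` -/
def tv (v f : ι → F) (h : f ⬝ᵥ v = 0) : Matrix.SpecialLinearGroup ι F :=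
  ⟨1 + vecMulVec v f, by rw [det_one_add_vecMulVec, h, add_zero]⟩

theorem tv_coe (v f : ι → F) (h : f ⬝ᵥ v = 0) : (tv v f h).1 = 1 + vecMulVec v f := rfl

theorem one_add_mul_one_add (v w f g : ι → F) :
    (1 + vecMulVec v f) * (1 + vecMulVec w g) =
      1 + vecMulVec v f + vecMulVec w g + (f ⬝ᵥ w) • vecMulVec v g := by
  rw [Matrix.add_mul, Matrix.mul_add, Matrix.mul_add, Matrix.one_mul, Matrix.mul_one,
    Matrix.one_mul, vecMulVec_mul_vecMulVec, vecMulVec_smul]
  abel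

theorem one_add_mul_same_centre (v f g : ι → F) (h : f ⬝ᵥ v = 0) :
    (1 + vecMulVec v f) * (1 + vecMulVec v g) = 1 + vecMulVec v (f + g) := by
  rw [one_add_mul_one_add, h, zero_smul, add_zero, vecMulVec_add, add_assoc]

theorem one_add_mul_same_axis (v w f : ι → F) (h : f ⬝ᵥ w = 0) :
    (1 + vecMulVec v f) * (1 + vecMulVec w f) = 1 + vecMulVec (v + w) f := by
  rw [one_add_mul_one_add, h, zero_smul, add_zero, add_vecMulVec, add_assoc]

/-- the subgroup of rank one unipotents with centre `v` -/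
def Tc (v : ι → F) : Subgroup (Matrix.SpecialLinearGroup ι F) where
  carrier := {x | ∃ f : ι → F, f ⬝ᵥ v = 0 ∧ x.1 = 1 + vecMulVec v f}
  one_mem' := ⟨0, by simp, by simp⟩
  mul_mem' := by
    rintro x y ⟨f, hf, hx⟩ ⟨g, hg, hy⟩
    refine ⟨f + g, by rw [add_dotProduct, hf, hg, add_zero], ?_⟩
    rw [coe_mul, hx, hy, one_add_mul_same_centre _ _ _ hf]
  inv_mem' := by
    rintro x ⟨f, hf, hx⟩
    refine ⟨-f, by rw [neg_dotProduct, hf, neg_zero], ?_⟩
    have h1 : x * tv v (-f) (by rw [neg_dotProduct, hf, neg_zero]) = 1 := by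
      apply Subtype.ext
      rw [coe_mul, hx, tv_coe, one_add_mul_same_centre _ _ _ hf, add_neg_cancel, vecMulVec_zero,
        add_zero, coe_one]
    rw [inv_eq_of_mul_eq_one_right h1, tv_coe]

/-- the subgroup of rank one unipotents with axis `f` -/
def Ta (f : ι → F) : Subgroup (Matrix.SpecialLinearGroup ι F) where
  carrier := {x | ∃ v : ι → F, f ⬝ᵥ v = 0 ∧ x.1 = 1 + vecMulVec v f}
  one_mem' := ⟨0, by simp, by simp⟩
  mul_mem' := by
    rintro x y ⟨v, hv, hx⟩ ⟨w, hw, hy⟩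
    refine ⟨v + w, by rw [dotProduct_add, hv, hw, add_zero], ?_⟩
    rw [coe_mul, hx, hy, one_add_mul_same_axis _ _ _ hw]
  inv_mem' := by
    rintro x ⟨v, hv, hx⟩
    refine ⟨-v, by rw [dotProduct_neg, hv, neg_zero], ?_⟩
    have h1 : x * tv (-v) f (by rw [dotProduct_neg, hv, neg_zero]) = 1 := by
      apply Subtype.ext
      rw [coe_mul, hx, tv_coe, one_add_mul_same_axis _ _ _ (by rw [dotProduct_neg, hv, neg_zero]),
        add_neg_cancel, zero_vecMulVec, add_zero, coe_one]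
    rw [inv_eq_of_mul_eq_one_right h1, tv_coe]

theorem mem_Tc_iff (v : ι → F) (x : Matrix.SpecialLinearGroup ι F) :
    x ∈ Tc v ↔ ∃ f : ι → F, f ⬝ᵥ v = 0 ∧ x.1 = 1 + vecMulVec v f := Iff.rfl

theorem mem_Ta_iff (f : ι → F) (x : Matrix.SpecialLinearGroup ι F) :
    x ∈ Ta f ↔ ∃ v : ι → F, f ⬝ᵥ v = 0 ∧ x.1 = 1 + vecMulVec v f := Iff.rfl

theorem tv_mem_Tc (v f : ι → F) (h : f ⬝ᵥ v = 0) : tv v f h ∈ Tc v := ⟨f, h, rfl⟩

theorem tv_mem_Ta (v f : ι → F) (h : f ⬝ᵥ v = 0) : tv v f h ∈ Ta f := ⟨v, h, rfl⟩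

theorem single_eq_vecMulVec (i j : ι) (c : F) :
    Matrix.single i j c = vecMulVec (Pi.single i c) (Pi.single j 1) := by
  ext k l
  rw [vecMulVec_apply, Matrix.single_apply]
  by_cases hk : i = k
  · subst hk
    by_cases hl : j = l
    · subst hl
      simp
    · simp [hl, Pi.single_apply, Ne.symm hl]
  · simp [hk, Pi.single_apply, Ne.symm hk]

theorem transvection_eq_tv {i j : ι} (hij : i ≠ j) (c : F) :
    transvection hij c = tv (Pi.single i c) (Pi.single j 1)
      (by rw [single_dotProduct, one_mul, Pi.single_eq_of_ne hij.symm]) := by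
  apply Subtype.ext
  rw [transvection_coe, tv_coe, single_eq_vecMulVec]

theorem one_add_pow (v f : ι → F) (h : f ⬝ᵥ v = 0) (k : ℕ) :
    (1 + vecMulVec v f) ^ k = 1 + (k : F) • vecMulVec v f := by
  induction k with
  | zero => simp
  | succ k ih =>
    rw [pow_succ, ih, ← vecMulVec_smul, one_add_mul_same_centre _ _ _ (by rw [smul_dotProduct, h, smul_zero]),
      ← vecMulVec_smul, Nat.cast_succ, add_smul, one_smul]

theorem conj_one_add (A B : Matrix ι ι F) (hAB : A * B = 1) (v f : ι → F) :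
    A * (1 + vecMulVec v f) * B = 1 + vecMulVec (A *ᵥ v) (f ᵥ* B) := by
  rw [Matrix.mul_add, Matrix.add_mul, Matrix.mul_one, hAB, mul_vecMulVec, vecMulVec_mul]

theorem conj_dot (A B : Matrix ι ι F) (hBA : B * A = 1) (v f : ι → F) :
    (f ᵥ* B) ⬝ᵥ (A *ᵥ v) = f ⬝ᵥ v := by
  rw [dotProduct_mulVec, vecMul_vecMul, hBA, vecMul_one]

theorem eq_smul_of_vecMulVec_eq_left {v w f g : ι → F} (hv : v ≠ 0)
    (h : vecMulVec v g = vecMulVec w f) : ∃ c : F, g = c • f := by
  obtain ⟨i, hi⟩ := Function.ne_iff.mp hv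
  rw [Pi.zero_apply] at hi
  refine ⟨w i / v i, funext fun j => ?_⟩
  have := congrFun (congrFun h i) j
  rw [vecMulVec_apply, vecMulVec_apply] at this
  rw [Pi.smul_apply, smul_eq_mul]
  field_simp
  linear_combination this

theorem eq_smul_of_vecMulVec_eq_right {v w f g : ι → F} (hf : f ≠ 0)
    (h : vecMulVec w f = vecMulVec v g) : ∃ c : F, w = c • v := by
  obtain ⟨j, hj⟩ := Function.ne_iff.mp hf
  rw [Pi.zero_apply] at hj
  refine ⟨g j / f j, funext fun i => ?_⟩
  have := congrFun (congrFun h i) j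
  rw [vecMulVec_apply, vecMulVec_apply] at this
  rw [Pi.smul_apply, smul_eq_mul]
  field_simp
  linear_combination this

theorem exists_of_mem_Tc_of_mem_Ta {v f : ι → F} (hv : v ≠ 0)
    {x : Matrix.SpecialLinearGroup ι F} (hx : x ∈ Tc v) (hx' : x ∈ Ta f) :
    ∃ c : F, x.1 = 1 + c • vecMulVec v f := by
  obtain ⟨g, hg, h1⟩ := hx
  obtain ⟨w, hw, h2⟩ := hx'
  have h3 : vecMulVec v g = vecMulVec w f := add_left_cancel (h1.symm.trans h2)
  obtain ⟨c, rfl⟩ := eq_smul_of_vecMulVec_eq_left hv h3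
  exact ⟨c, by rw [h1, vecMulVec_smul]⟩

theorem dot_eq_zero_of_mem_Tc_of_mem_Ta {v f : ι → F} (hv : v ≠ 0)
    {x : Matrix.SpecialLinearGroup ι F} (hx : x ∈ Tc v) (hx' : x ∈ Ta f) (hx1 : x ≠ 1) :
    f ⬝ᵥ v = 0 := by
  obtain ⟨g, hg, h1⟩ := hx
  obtain ⟨w, hw, h2⟩ := hx'
  have h3 : vecMulVec v g = vecMulVec w f := add_left_cancel (h1.symm.trans h2)
  obtain ⟨c, rfl⟩ := eq_smul_of_vecMulVec_eq_left hv h3
  have hc : c ≠ 0 := by
    rintro rfl
    apply hx1
    apply Subtype.ext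
    rw [h1, zero_smul, vecMulVec_zero, add_zero, coe_one]
  rw [smul_dotProduct, smul_eq_mul] at hg
  exact (mul_eq_zero.mp hg).resolve_left hc

theorem Tc_smul (v : ι → F) {c : F} (hc : c ≠ 0) : Tc (c • v) = Tc v := by
  ext x
  rw [mem_Tc_iff, mem_Tc_iff]
  constructor
  · rintro ⟨f, hf, hx⟩
    refine ⟨c • f, by rw [smul_dotProduct, ← dotProduct_smul, hf], ?_⟩
    rw [hx, smul_vecMulVec, vecMulVec_smul]
  · rintro ⟨f, hf, hx⟩
    refine ⟨c⁻¹ • f, by rw [smul_dotProduct, dotProduct_smul, hf, smul_zero, smul_zero], ?_⟩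
    rw [hx, smul_vecMulVec, vecMulVec_smul, smul_smul, mul_inv_cancel₀ hc, one_smul]

theorem Ta_smul (f : ι → F) {c : F} (hc : c ≠ 0) : Ta (c • f) = Ta f := by
  ext x
  rw [mem_Ta_iff, mem_Ta_iff]
  constructor
  · rintro ⟨v, hv, hx⟩
    refine ⟨c • v, by rw [dotProduct_smul, ← smul_dotProduct, hv], ?_⟩
    rw [hx, smul_vecMulVec, vecMulVec_smul]
  · rintro ⟨v, hv, hx⟩
    refine ⟨c⁻¹ • v, by rw [smul_dotProduct, dotProduct_smul, hv, smul_zero, smul_zero], ?_⟩
    rw [hx, smul_vecMulVec, vecMulVec_smul, smul_smul, inv_mul_cancel₀ hc, one_smul]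

theorem exists_smul_of_mem_Tc_of_mem_Tc {v w : ι → F}
    {x : Matrix.SpecialLinearGroup ι F} (hx : x ∈ Tc v) (hx' : x ∈ Tc w) (hx1 : x ≠ 1) :
    ∃ c : F, c ≠ 0 ∧ w = c • v := by
  obtain ⟨f, hf, h1⟩ := hx
  obtain ⟨g, hg, h2⟩ := hx'
  have h3 : vecMulVec w g = vecMulVec v f := add_left_cancel (h2.symm.trans h1)
  have hg0 : g ≠ 0 := by
    rintro rfl
    apply hx1
    apply Subtype.ext
    rw [h2, vecMulVec_zero, add_zero, coe_one]
  obtain ⟨c, rfl⟩ := eq_smul_of_vecMulVec_eq_right hg0 h3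
  refine ⟨c, ?_, rfl⟩
  rintro rfl
  apply hx1
  apply Subtype.ext
  rw [h2, zero_smul, zero_vecMulVec, add_zero, coe_one]

theorem exists_smul_of_mem_Ta_of_mem_Ta {f g : ι → F}
    {x : Matrix.SpecialLinearGroup ι F} (hx : x ∈ Ta f) (hx' : x ∈ Ta g) (hx1 : x ≠ 1) :
    ∃ c : F, c ≠ 0 ∧ g = c • f := by
  obtain ⟨v, hv, h1⟩ := hx
  obtain ⟨w, hw, h2⟩ := hx'
  have h3 : vecMulVec w g = vecMulVec v f := add_left_cancel (h2.symm.trans h1)
  have hw0 : w ≠ 0 := by
    rintro rfl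
    apply hx1
    apply Subtype.ext
    rw [h2, zero_vecMulVec, add_zero, coe_one]
  obtain ⟨c, rfl⟩ := eq_smul_of_vecMulVec_eq_left hw0 h3
  refine ⟨c, ?_, rfl⟩
  rintro rfl
  apply hx1
  apply Subtype.ext
  rw [h2, zero_smul, vecMulVec_zero, add_zero, coe_one]

/-- the minors identity for a product of two rank one unipotents that is again of this form -/
theorem minors_aux {v w f g a b : ι → F}
    (h : (1 + vecMulVec v f) * (1 + vecMulVec w g) = 1 + vecMulVec a b) (i k j l : ι) :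
    (v i * w k - w i * v k) * (f j * g l - f l * g j) = 0 := by
  rw [one_add_mul_one_add] at h
  have E : ∀ s t, v s * f t + w s * g t + (f ⬝ᵥ w) * (v s * g t) = a s * b t := by
    intro s t
    have := congrFun (congrFun h s) t
    simp only [Matrix.add_apply, Matrix.smul_apply, vecMulVec_apply, smul_eq_mul] at this
    linear_combination this
  generalize f ⬝ᵥ w = c at E
  linear_combination (v k * f l + w k * g l + c * (v k * g l)) * E i j + (a i * b j) * E k l
    - (v k * f j + w k * g j + c * (v k * g j)) * E i l - (a i * b l) * E k j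

/-- proportionality of vectors -/
def Par (v w : ι → F) : Prop := ∀ i k, v i * w k = w i * v k

omit [Fintype ι] [DecidableEq ι] in
theorem Par.symm {v w : ι → F} (h : Par v w) : Par w v := fun i k => (h i k).symm

omit [Fintype ι] [DecidableEq ι] in
theorem Par.exists_smul {v w : ι → F} (h : Par v w) (hv : v ≠ 0) : ∃ c : F, w = c • v := by
  obtain ⟨i, hi⟩ := Function.ne_iff.mp hv
  rw [Pi.zero_apply] at hi
  refine ⟨w i / v i, funext fun k => ?_⟩
  rw [Pi.smul_apply, smul_eq_mul]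
  field_simp
  linear_combination h i k

omit [Fintype ι] [DecidableEq ι] in
theorem par_of_smul (u : ι → F) (c c' : F) : Par (c • u) (c' • u) := by
  intro i k
  simp only [Pi.smul_apply, smul_eq_mul]
  ring

theorem par_or_par {K : Subgroup (Matrix.SpecialLinearGroup ι F)}
    (hK : ∀ x ∈ K, x ≠ 1 → ∃ v f : ι → F, f ⬝ᵥ v = 0 ∧ x.1 = 1 + vecMulVec v f)
    {x y : Matrix.SpecialLinearGroup ι F} (hx : x ∈ K) (hy : y ∈ K) {v w f g : ι → F}
    (hxv : x.1 = 1 + vecMulVec v f) (hyw : y.1 = 1 + vecMulVec w g) : Par v w ∨ Par f g := by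
  have hab : ∃ a b : ι → F, (x * y).1 = 1 + vecMulVec a b := by
    by_cases h1 : x * y = 1
    · exact ⟨0, 0, by rw [h1, coe_one, vecMulVec_zero, add_zero]⟩
    · obtain ⟨a, b, -, hab⟩ := hK _ (K.mul_mem hx hy) h1
      exact ⟨a, b, hab⟩
  obtain ⟨a, b, hab⟩ := hab
  rw [coe_mul, hxv, hyw] at hab
  have hm := minors_aux hab
  by_cases hp : Par v w
  · exact Or.inl hp
  · right
    unfold Par at hp
    push Not at hp
    obtain ⟨i, k, hik⟩ := hp
    intro j l
    have := hm i k j l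
    have h2 : v i * w k - w i * v k ≠ 0 := sub_ne_zero.mpr hik
    have h3 := (mul_eq_zero.mp this).resolve_left h2
    linear_combination h3

/-- a subgroup of `SL` consisting of rank one unipotents has a common centre or a common axis -/
theorem classify_tv_subgroup [Nonempty ι] (K : Subgroup (Matrix.SpecialLinearGroup ι F))
    (hK : ∀ x ∈ K, x ≠ 1 → ∃ v f : ι → F, f ⬝ᵥ v = 0 ∧ x.1 = 1 + vecMulVec v f) :
    (∃ v : ι → F, v ≠ 0 ∧ K ≤ Tc v) ∨ (∃ f : ι → F, f ≠ 0 ∧ K ≤ Ta f) := by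
  have hne : ∀ {z : Matrix.SpecialLinearGroup ι F} {u h : ι → F}, z ≠ 1 →
      z.1 = 1 + vecMulVec u h → u ≠ 0 ∧ h ≠ 0 := by
    intro z u h hz hzu
    constructor
    · rintro rfl
      apply hz
      apply Subtype.ext
      rw [hzu, zero_vecMulVec, add_zero, coe_one]
    · rintro rfl
      apply hz
      apply Subtype.ext
      rw [hzu, vecMulVec_zero, add_zero, coe_one]
  by_cases hall : ∀ x ∈ K, x = 1
  · left
    obtain ⟨i₀⟩ := ‹Nonempty ι›
    refine ⟨Pi.single i₀ 1, ?_, fun x hx => ?_⟩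
    · intro h
      have := congrFun h i₀
      simp at this
    · rw [hall x hx]
      exact (Tc _).one_mem
  push Not at hall
  obtain ⟨x₀, hx₀, hx₀1⟩ := hall
  obtain ⟨v₀, f₀, hd₀, hxv₀⟩ := hK x₀ hx₀ hx₀1
  obtain ⟨hv₀, hf₀⟩ := hne hx₀1 hxv₀
  by_cases hc : ∀ y ∈ K, y ≠ 1 → ∀ w g : ι → F, g ⬝ᵥ w = 0 → y.1 = 1 + vecMulVec w g → Par v₀ w
  · left
    refine ⟨v₀, hv₀, fun y hy => ?_⟩
    by_cases hy1 : y = 1
    · rw [hy1]
      exact (Tc _).one_mem
    obtain ⟨w, g, hgw, hyw⟩ := hK y hy hy1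
    obtain ⟨c, rfl⟩ := (hc y hy hy1 w g hgw hyw).exists_smul hv₀
    refine ⟨c • g, by rw [smul_dotProduct, ← dotProduct_smul, hgw], ?_⟩
    rw [hyw, smul_vecMulVec, vecMulVec_smul]
  · right
    push Not at hc
    obtain ⟨y, hy, hy1, w, g, hgw, hyw, hnp⟩ := hc
    obtain ⟨hw, hg⟩ := hne hy1 hyw
    have hfg : Par f₀ g := (par_or_par hK hx₀ hy hxv₀ hyw).resolve_left hnp
    have key : ∀ {z : Matrix.SpecialLinearGroup ι F} {u h : ι → F}, h ⬝ᵥ u = 0 →
        z.1 = 1 + vecMulVec u h → Par f₀ h → z ∈ Ta f₀ := by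
      intro z u h hhu hzu hp
      obtain ⟨c, rfl⟩ := hp.exists_smul hf₀
      refine ⟨c • u, by rw [dotProduct_smul, ← smul_dotProduct, hhu], ?_⟩
      rw [hzu, smul_vecMulVec, vecMulVec_smul]
    refine ⟨f₀, hf₀, fun z hz => ?_⟩
    by_cases hz1 : z = 1
    · rw [hz1]
      exact (Ta _).one_mem
    obtain ⟨u, h, hhu, hzu⟩ := hK z hz hz1
    obtain ⟨hu, hh⟩ := hne hz1 hzu
    rcases par_or_par hK hx₀ hz hxv₀ hzu with h1 | h1
    · rcases par_or_par hK hy hz hyw hzu with h2 | h2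
      · exfalso
        apply hnp
        obtain ⟨c, hc1⟩ := h1.symm.exists_smul hu
        obtain ⟨c', hc2⟩ := h2.symm.exists_smul hu
        rw [hc1, hc2]
        exact par_of_smul u c c'
      · obtain ⟨c, hc1⟩ := hfg.exists_smul hf₀
        obtain ⟨c', hc2⟩ := h2.exists_smul hg
        apply key hhu hzu
        rw [hc2, hc1, smul_smul]
        have := par_of_smul f₀ 1 (c' * c)
        rwa [one_smul] at this
    · exact key hhu hzu h1

/-- the functional `f ↦ f ⬝ᵥ v` -/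
def dotL (v : ι → F) : (ι → F) →ₗ[F] F where
  toFun f := f ⬝ᵥ v
  map_add' f g := add_dotProduct f g v
  map_smul' c f := smul_dotProduct c f v

theorem dotL_apply (v f : ι → F) : dotL v f = f ⬝ᵥ v := rfl

theorem finrank_ker_dotL {v : ι → F} (hv : v ≠ 0) :
    Module.finrank F (LinearMap.ker (dotL v)) = Fintype.card ι - 1 := by
  have h1 := LinearMap.finrank_range_add_finrank_ker (dotL v)
  have h2 : LinearMap.range (dotL v) = ⊤ := by
    rw [LinearMap.range_eq_top]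
    intro c
    obtain ⟨i, hi⟩ := Function.ne_iff.mp hv
    rw [Pi.zero_apply] at hi
    refine ⟨Pi.single i (c / v i), ?_⟩
    rw [dotL_apply, single_dotProduct]
    field_simp
  rw [h2, finrank_top, Module.finrank_self, Module.finrank_pi, ] at h1
  omega

theorem card_ker_dotL [Fintype F] {v : ι → F} (hv : v ≠ 0) :
    Nat.card (LinearMap.ker (dotL v)) = Fintype.card F ^ (Fintype.card ι - 1) := by
  rw [Module.natCard_eq_pow_finrank (K := F), finrank_ker_dotL hv, Nat.card_eq_fintype_card]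

theorem card_Tc [Fintype F] {v : ι → F} (hv : v ≠ 0) :
    Nat.card (Tc v) = Fintype.card F ^ (Fintype.card ι - 1) := by
  rw [← card_ker_dotL hv]
  symm
  apply Nat.card_congr
  refine Equiv.ofBijective (fun f => ⟨tv v f.1 f.2, tv_mem_Tc v f.1 f.2⟩) ⟨?_, ?_⟩
  · intro f g hfg
    have h1 : (tv v f.1 f.2).1 = (tv v g.1 g.2).1 := congrArg (fun x => x.1.1) hfg
    change 1 + vecMulVec v f.1 = 1 + vecMulVec v g.1 at h1
    have h2 : vecMulVec v f.1 = vecMulVec v g.1 := add_left_cancel h1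
    obtain ⟨i, hi⟩ := Function.ne_iff.mp hv
    rw [Pi.zero_apply] at hi
    apply Subtype.ext
    funext j
    have := congrFun (congrFun h2 i) j
    rw [vecMulVec_apply, vecMulVec_apply] at this
    exact mul_left_cancel₀ hi this
  · rintro ⟨x, f, hf, hx⟩
    refine ⟨⟨f, hf⟩, ?_⟩
    apply Subtype.ext
    apply Subtype.ext
    exact hx.symm

theorem card_Ta [Fintype F] {f : ι → F} (hf : f ≠ 0) :
    Nat.card (Ta f) = Fintype.card F ^ (Fintype.card ι - 1) := by
  rw [← card_ker_dotL hf]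
  symm
  apply Nat.card_congr
  have hcomm : ∀ v : LinearMap.ker (dotL f), f ⬝ᵥ v.1 = 0 := by
    intro v
    rw [dotProduct_comm]
    exact v.2
  refine Equiv.ofBijective (fun v => ⟨tv v.1 f (hcomm v), tv_mem_Ta v.1 f (hcomm v)⟩) ⟨?_, ?_⟩
  · intro v w hvw
    have h1 : (tv v.1 f (hcomm v)).1 = (tv w.1 f (hcomm w)).1 := congrArg (fun x => x.1.1) hvw
    change 1 + vecMulVec v.1 f = 1 + vecMulVec w.1 f at h1
    have h2 : vecMulVec v.1 f = vecMulVec w.1 f := add_left_cancel h1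
    obtain ⟨j, hj⟩ := Function.ne_iff.mp hf
    rw [Pi.zero_apply] at hj
    apply Subtype.ext
    funext i
    have := congrFun (congrFun h2 i) j
    rw [vecMulVec_apply, vecMulVec_apply] at this
    exact mul_right_cancel₀ hj this
  · rintro ⟨x, v, hv, hx⟩
    refine ⟨⟨v, by change v ⬝ᵥ f = 0; rw [dotProduct_comm]; exact hv⟩, ?_⟩
    apply Subtype.ext
    apply Subtype.ext
    exact hx.symm

section charp

variable (p : ℕ) [CharP F p]

theorem pow_eq_one_of_mem_Tc {v : ι → F} {x : Matrix.SpecialLinearGroup ι F} (hx : x ∈ Tc v) :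
    x ^ p = 1 := by
  obtain ⟨f, hf, hx⟩ := hx
  apply Subtype.ext
  rw [coe_pow, hx, one_add_pow v f hf, CharP.cast_eq_zero, zero_smul, add_zero, coe_one]

theorem pow_eq_one_of_mem_Ta {f : ι → F} {x : Matrix.SpecialLinearGroup ι F} (hx : x ∈ Ta f) :
    x ^ p = 1 := by
  obtain ⟨v, hv, hx⟩ := hx
  apply Subtype.ext
  rw [coe_pow, hx, one_add_pow v f hv, CharP.cast_eq_zero, zero_smul, add_zero, coe_one]

end charp

end Cfsg.Agent.Helper2.PN
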