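import Mathlib
import Cfsg.Agent.Lib.Helper2.Psln7

set_option autoImplicit false

namespace Cfsg.Agent.Helper2.PN

open Matrix Matrix.SpecialLinearGroup
open scoped MatrixGroups

section general

variable {ι : Type*} [Fintype ι] [DecidableEq ι] {F : Type*} [Field F]

theorem coe_inv_mul_coe (s : Matrix.SpecialLinearGroup ι F) : (s⁻¹).1 * s.1 = 1 := by
  rw [← coe_mul, inv_mul_cancel, coe_one]

theorem coe_mul_coe_inv (s : Matrix.SpecialLinearGroup ι F) : s.1 * (s⁻¹).1 = 1 := by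
  rw [← coe_mul, mul_inv_cancel, coe_one]

theorem conj_tv (s : Matrix.SpecialLinearGroup ι F) (v f : ι → F) (h : f ⬝ᵥ v = 0) :
    s * tv v f h * s⁻¹ = tv (s.1 *ᵥ v) (f ᵥ* (s⁻¹).1)
      (by rw [conj_dot _ _ (coe_inv_mul_coe s)]; exact h) := by
  apply Subtype.ext
  rw [coe_mul, coe_mul, tv_coe, tv_coe, conj_one_add _ _ (coe_mul_coe_inv s)]

variable [Nonempty ι] (p : ℕ) [Fact p.Prime] [CharP F p]

/-- membership in the image of a subgroup of `p`-elements can be tested upstairs -/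
theorem mem_map_mkn_iff (H : Subgroup (Matrix.SpecialLinearGroup ι F)) (k : ℕ)
    (hH : ∀ x ∈ H, x ^ p ^ k = 1) {x : Matrix.SpecialLinearGroup ι F} (hx : x ^ p ^ k = 1) :
    mkn x ∈ H.map mkn ↔ x ∈ H := by
  constructor
  · rintro ⟨y, hy, hyx⟩
    rw [← eq_of_mkn_eq_of_pow p y x k (hH y hy) hx hyx]
    exact hy
  · intro h
    exact Subgroup.mem_map_of_mem _ h

theorem card_map_mkn (H : Subgroup (Matrix.SpecialLinearGroup ι F)) (k : ℕ)
    (hH : ∀ x ∈ H, x ^ p ^ k = 1) : Nat.card (H.map mkn) = Nat.card H := by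
  symm
  apply Nat.card_congr
  refine Equiv.ofBijective (fun x => ⟨mkn x.1, Subgroup.mem_map_of_mem _ x.2⟩) ⟨?_, ?_⟩
  · intro x y hxy
    apply Subtype.ext
    exact eq_of_mkn_eq_of_pow p x.1 y.1 k (hH _ x.2) (hH _ y.2) (congrArg Subtype.val hxy)
  · rintro ⟨_, x, hx, rfl⟩
    exact ⟨⟨x, hx⟩, rfl⟩

theorem map_mkn_le_iff (H₁ H₂ : Subgroup (Matrix.SpecialLinearGroup ι F)) (k : ℕ)
    (hH₁ : ∀ x ∈ H₁, x ^ p ^ k = 1) (hH₂ : ∀ x ∈ H₂, x ^ p ^ k = 1) :
    H₁.map mkn ≤ H₂.map mkn ↔ H₁ ≤ H₂ := by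
  constructor
  · intro h x hx
    exact (mem_map_mkn_iff p H₂ k hH₂ (hH₁ x hx)).mp (h (Subgroup.mem_map_of_mem _ hx))
  · intro h
    exact Subgroup.map_mono h

end general

section fin

variable {m : ℕ} {F : Type*} [Field F] [Fintype F] (p : ℕ) [Fact p.Prime] [CharP F p]

theorem IsRootElt.exists_tv {x : Matrix.ProjectiveSpecialLinearGroup (Fin (m + 2)) F}
    (h : IsRootElt p x) :
    ∃ (v f : Fin (m + 2) → F) (hvf : f ⬝ᵥ v = 0), x = mkn (tv v f hvf) := by
  obtain ⟨s, c, -, rfl⟩ := h.exists_conj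
  rw [transvection_eq_tv, conj_tv]
  exact ⟨_, _, _, rfl⟩

omit [Fintype F] [Fact p.Prime] in
theorem tv_pow_p (v f : Fin (m + 2) → F) (hvf : f ⬝ᵥ v = 0) (k : ℕ) :
    (tv v f hvf) ^ p ^ (k + 1) = 1 := by
  rw [pow_succ', pow_mul, pow_eq_one_of_mem_Tc p (tv_mem_Tc v f hvf), one_pow]

/-- a subgroup of `PSL` consisting of root elements lies in a full centre or axis subgroup -/
theorem root_subgroup_le (K : Subgroup (Matrix.ProjectiveSpecialLinearGroup (Fin (m + 2)) F))
    (hK : ∀ x ∈ K, x ≠ 1 → IsRootElt p x) :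
    (∃ v : Fin (m + 2) → F, v ≠ 0 ∧ K ≤ (Tc v).map mkn) ∨
      (∃ f : Fin (m + 2) → F, f ≠ 0 ∧ K ≤ (Ta f).map mkn) := by
  have hp : IsPGroup p K := by
    rintro ⟨x, hx⟩
    refine ⟨1, ?_⟩
    apply Subtype.ext
    rw [pow_one, Subgroup.coe_pow, Subgroup.coe_one]
    change x ^ p = 1
    by_cases hx1 : x = 1
    · rw [hx1, one_pow]
    · obtain ⟨v, f, hvf, rfl⟩ := (hK x hx hx1).exists_tv
      rw [← map_pow, pow_eq_one_of_mem_Tc p (tv_mem_Tc v f hvf), map_one]
  obtain ⟨s, hs⟩ := exists_conj_of_pgroup p (r0 m) K hp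
  obtain ⟨k, hk⟩ := exists_pow_eq_one (F := F) p (r0 m)
  have hk' : ∀ u ∈ UT (F := F) (r0 m), (s * u * s⁻¹) ^ p ^ (k + 1) = 1 := by
    intro u hu
    rw [conj_pow, pow_succ, pow_mul, hk u hu, one_pow, mul_one, mul_inv_cancel]
  set Kt : Subgroup (Matrix.SpecialLinearGroup (Fin (m + 2)) F) :=
    ((UT (F := F) (r0 m)).map (MulAut.conj s).toMonoidHom) ⊓ K.comap mkn with hKt_def
  have hKt : ∀ y ∈ Kt, y ≠ 1 → ∃ v f : Fin (m + 2) → F, f ⬝ᵥ v = 0 ∧ y.1 = 1 + vecMulVec v f := by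
    rintro y ⟨⟨u, hu, rfl⟩, hyK⟩ hy1
    change mkn (s * u * s⁻¹) ∈ K at hyK
    change s * u * s⁻¹ ≠ 1 at hy1
    have hne : mkn (s * u * s⁻¹) ≠ 1 := by
      intro h
      apply hy1
      exact eq_of_mkn_eq_of_pow p _ 1 (k + 1) (hk' u hu) (one_pow _) (h.trans (map_one _).symm)
    obtain ⟨v, f, hvf, hx⟩ := (hK _ hyK hne).exists_tv
    refine ⟨v, f, hvf, ?_⟩
    change (s * u * s⁻¹).1 = _
    rw [eq_of_mkn_eq_of_pow p _ _ (k + 1) (hk' u hu) (tv_pow_p p v f hvf k) hx, tv_coe]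
  have hle : K ≤ Kt.map mkn := by
    intro x hx
    obtain ⟨u, hu, rfl⟩ := hs x hx
    refine Subgroup.mem_map_of_mem _ ⟨⟨u, hu, rfl⟩, hx⟩
  rcases classify_tv_subgroup Kt hKt with ⟨v, hv, h⟩ | ⟨f, hf, h⟩
  · exact Or.inl ⟨v, hv, hle.trans (Subgroup.map_mono h)⟩
  · exact Or.inr ⟨f, hf, hle.trans (Subgroup.map_mono h)⟩

end fin

section frame

variable {m : ℕ} {F : Type*} [Field F] [Fintype F] (p : ℕ) [Fact p.Prime] [CharP F p]

theorem isRootElt_of_mem_Tc_single {i : Fin (m + 2)} {x : Matrix.SpecialLinearGroup (Fin (m + 2)) F}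
    (hx : x ∈ Tc (Pi.single i (1 : F))) (hx1 : x ≠ 1) : IsRootElt p (mkn x) := by
  obtain ⟨f, hf, hxf⟩ := hx
  rw [dotProduct_single, mul_one] at hf
  have hf0 : f ≠ 0 := by
    rintro rfl
    apply hx1
    apply Subtype.ext
    rw [hxf, vecMulVec_zero, add_zero, coe_one]
  obtain ⟨j, hj⟩ := Function.ne_iff.mp hf0
  rw [Pi.zero_apply] at hj
  have hij : i ≠ j := by
    rintro rfl
    exact hj hf
  set s : Fin (m + 2) → F := (f j)⁻¹ • f - Pi.single j 1 with hs_def
  have hsj : s j = 0 := by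
    rw [hs_def, Pi.sub_apply, Pi.smul_apply, smul_eq_mul, Pi.single_eq_same, inv_mul_cancel₀ hj,
      sub_self]
  have hsi : s i = 0 := by
    rw [hs_def, Pi.sub_apply, Pi.smul_apply, smul_eq_mul, Pi.single_eq_of_ne hij, hf, mul_zero,
      sub_self]
  have hs : s ⬝ᵥ Pi.single j 1 = 0 := by rw [dotProduct_single, mul_one, hsj]
  set h := tv (Pi.single j 1) s hs with hh_def
  have hcl : h * x = transvection hij (f j) * h := by
    apply Subtype.ext
    rw [coe_mul, coe_mul, hh_def, tv_coe, hxf, transvection_coe, single_eq_vecMulVec,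
      one_add_mul_one_add, one_add_mul_one_add, dotProduct_single, mul_one, hsi, zero_smul,
      add_zero, single_dotProduct, one_mul, Pi.single_eq_same, one_smul]
    ext a b
    simp only [Matrix.add_apply, vecMulVec_apply]
    have hsb : f j * s b = f b - f j * (Pi.single j (1 : F) : Fin (m + 2) → F) b := by
      rw [hs_def, Pi.sub_apply, Pi.smul_apply, smul_eq_mul]
      field_simp
    by_cases hai : a = i
    · subst hai
      rw [Pi.single_eq_same, Pi.single_eq_same, Pi.single_eq_of_ne hij, zero_mul, add_zero, hsb]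
      ring
    · rw [Pi.single_eq_of_ne hai, Pi.single_eq_of_ne hai]
      ring
  have hx' : x = h⁻¹ * transvection hij (f j) * h⁻¹⁻¹ := by
    rw [inv_inv, mul_assoc, ← hcl, inv_mul_cancel_left]
  rw [hx']
  exact isRootElt_conj_transvection p h⁻¹ hij hj

theorem isRootElt_of_mem_Ta_single {j : Fin (m + 2)} {x : Matrix.SpecialLinearGroup (Fin (m + 2)) F}
    (hx : x ∈ Ta (Pi.single j (1 : F))) (hx1 : x ≠ 1) : IsRootElt p (mkn x) := by
  obtain ⟨v, hv, hxv⟩ := hx
  rw [single_dotProduct, one_mul] at hv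
  have hv0 : v ≠ 0 := by
    rintro rfl
    apply hx1
    apply Subtype.ext
    rw [hxv, zero_vecMulVec, add_zero, coe_one]
  obtain ⟨i, hi⟩ := Function.ne_iff.mp hv0
  rw [Pi.zero_apply] at hi
  have hij : i ≠ j := by
    rintro rfl
    exact hi hv
  set t : Fin (m + 2) → F := (v i)⁻¹ • v - Pi.single i 1 with ht_def
  have hti : t i = 0 := by
    rw [ht_def, Pi.sub_apply, Pi.smul_apply, smul_eq_mul, Pi.single_eq_same, inv_mul_cancel₀ hi,
      sub_self]
  have htj : t j = 0 := by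
    rw [ht_def, Pi.sub_apply, Pi.smul_apply, smul_eq_mul, Pi.single_eq_of_ne hij.symm, hv, mul_zero,
      sub_self]
  have ht : (Pi.single i (1 : F) : Fin (m + 2) → F) ⬝ᵥ t = 0 := by
    rw [single_dotProduct, one_mul, hti]
  set h := tv t (Pi.single i 1) ht with hh_def
  have hcl : x * h = h * transvection hij (v i) := by
    apply Subtype.ext
    rw [coe_mul, coe_mul, hh_def, tv_coe, hxv, transvection_coe, single_eq_vecMulVec,
      one_add_mul_one_add, one_add_mul_one_add, single_dotProduct, one_mul, htj, zero_smul,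
      add_zero, single_dotProduct, one_mul, Pi.single_eq_same]
    ext a b
    simp only [Matrix.add_apply, Matrix.smul_apply, vecMulVec_apply, smul_eq_mul]
    have hta : v i * t a = v a - v i * (Pi.single i (1 : F) : Fin (m + 2) → F) a := by
      rw [ht_def, Pi.sub_apply, Pi.smul_apply, smul_eq_mul]
      field_simp
    by_cases hbj : b = j
    · subst hbj
      rw [Pi.single_eq_same, Pi.single_eq_of_ne hij.symm, mul_zero, mul_one]
      by_cases hai : a = i
      · subst hai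
        rw [Pi.single_eq_same, hti]
        ring
      · rw [Pi.single_eq_of_ne hai]
        rw [Pi.single_eq_of_ne hai, mul_zero, sub_zero] at hta
        linear_combination -hta
    · rw [Pi.single_eq_of_ne hbj]
      ring
  have hx' : x = h * transvection hij (v i) * h⁻¹ := by
    rw [← hcl, mul_inv_cancel_right]
  rw [hx']
  exact isRootElt_conj_transvection p h hij hi

end frame

end Cfsg.Agent.Helper2.PN
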