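import Mathlib
import Cfsg.Agent.Lib.Helper2.Psln8
import Cfsg.Agent.Lib.Helper2.SLPerfect

set_option autoImplicit false

namespace Cfsg.Agent.Helper2.PN

open Matrix Matrix.SpecialLinearGroup
open scoped MatrixGroups

variable {m : ℕ} {F : Type*} [Field F]

/-- subgroups of `PSL` of centre type -/
noncomputable def Cb (v : Fin (m + 2) → F) :
    Subgroup (Matrix.ProjectiveSpecialLinearGroup (Fin (m + 2)) F) := (Tc v).map mkn

/-- subgroups of `PSL` of axis type -/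
noncomputable def Ab (f : Fin (m + 2) → F) :
    Subgroup (Matrix.ProjectiveSpecialLinearGroup (Fin (m + 2)) F) := (Ta f).map mkn

/-- the standard basis vectors -/
abbrev ee (i : Fin (m + 2)) : Fin (m + 2) → F := Pi.single i 1

section charp

variable (p : ℕ) [Fact p.Prime] [CharP F p]

theorem pow_one_of_mem_Tc {v : Fin (m + 2) → F} :
    ∀ x ∈ Tc v, x ^ p ^ 1 = 1 := fun x hx => by
  rw [pow_one]; exact pow_eq_one_of_mem_Tc p hx

theorem pow_one_of_mem_Ta {f : Fin (m + 2) → F} :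
    ∀ x ∈ Ta f, x ^ p ^ 1 = 1 := fun x hx => by
  rw [pow_one]; exact pow_eq_one_of_mem_Ta p hx

include p in
theorem card_Cb [Fintype F] {v : Fin (m + 2) → F} (hv : v ≠ 0) :
    Nat.card (Cb v) = Fintype.card F ^ (m + 1) := by
  rw [Cb, card_map_mkn p _ 1 (pow_one_of_mem_Tc p), card_Tc hv, Fintype.card_fin]
  rfl

include p in
theorem card_Ab [Fintype F] {f : Fin (m + 2) → F} (hf : f ≠ 0) :
    Nat.card (Ab f) = Fintype.card F ^ (m + 1) := by
  rw [Ab, card_map_mkn p _ 1 (pow_one_of_mem_Ta p), card_Ta hf, Fintype.card_fin]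
  rfl

include p in
/-- common elements of two images of subgroups of `p`-elements lift to common elements -/
theorem exists_lift_inf (H₁ H₂ : Subgroup (Matrix.SpecialLinearGroup (Fin (m + 2)) F))
    (h₁ : ∀ x ∈ H₁, x ^ p ^ 1 = 1) (h₂ : ∀ x ∈ H₂, x ^ p ^ 1 = 1)
    {x : Matrix.ProjectiveSpecialLinearGroup (Fin (m + 2)) F} (hx₁ : x ∈ H₁.map mkn)
    (hx₂ : x ∈ H₂.map mkn) : ∃ y, y ∈ H₁ ∧ y ∈ H₂ ∧ mkn y = x := by
  obtain ⟨y, hy, rfl⟩ := hx₁
  exact ⟨y, hy, (mem_map_mkn_iff p H₂ 1 h₂ (h₁ y hy)).mp hx₂, rfl⟩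

include p in
theorem Cb_eq_of_mem {v w : Fin (m + 2) → F}
    {x : Matrix.ProjectiveSpecialLinearGroup (Fin (m + 2)) F} (hx : x ∈ Cb v) (hx' : x ∈ Cb w)
    (hx1 : x ≠ 1) : Cb v = Cb w := by
  obtain ⟨y, hy, hy', rfl⟩ := exists_lift_inf p _ _ (pow_one_of_mem_Tc p) (pow_one_of_mem_Tc p) hx hx'
  have hy1 : y ≠ 1 := by
    rintro rfl
    exact hx1 (map_one _)
  obtain ⟨c, hc, rfl⟩ := exists_smul_of_mem_Tc_of_mem_Tc hy hy' hy1
  rw [Cb, Cb, Tc_smul v hc]

include p in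
theorem Ab_eq_of_mem {f g : Fin (m + 2) → F}
    {x : Matrix.ProjectiveSpecialLinearGroup (Fin (m + 2)) F} (hx : x ∈ Ab f) (hx' : x ∈ Ab g)
    (hx1 : x ≠ 1) : Ab f = Ab g := by
  obtain ⟨y, hy, hy', rfl⟩ := exists_lift_inf p _ _ (pow_one_of_mem_Ta p) (pow_one_of_mem_Ta p) hx hx'
  have hy1 : y ≠ 1 := by
    rintro rfl
    exact hx1 (map_one _)
  obtain ⟨c, hc, rfl⟩ := exists_smul_of_mem_Ta_of_mem_Ta hy hy' hy1
  rw [Ab, Ab, Ta_smul f hc]

include p in
theorem exists_of_mem_Cb_of_mem_Ab {v f : Fin (m + 2) → F} (hv : v ≠ 0)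
    {x : Matrix.ProjectiveSpecialLinearGroup (Fin (m + 2)) F} (hx : x ∈ Cb v) (hx' : x ∈ Ab f) :
    ∃ (y : Matrix.SpecialLinearGroup (Fin (m + 2)) F) (c : F), mkn y = x ∧
      y.1 = 1 + c • vecMulVec v f ∧ (x ≠ 1 → f ⬝ᵥ v = 0) := by
  obtain ⟨y, hy, hy', rfl⟩ := exists_lift_inf p _ _ (pow_one_of_mem_Tc p) (pow_one_of_mem_Ta p) hx hx'
  obtain ⟨c, hc⟩ := exists_of_mem_Tc_of_mem_Ta hv hy hy'
  refine ⟨y, c, rfl, hc, fun hx1 => ?_⟩
  have hy1 : y ≠ 1 := by
    rintro rfl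
    exact hx1 (map_one _)
  exact dot_eq_zero_of_mem_Tc_of_mem_Ta hv hy hy' hy1

end charp

section image

variable [Fintype F] (p : ℕ) [Fact p.Prime] [CharP F p]

/-- a subgroup of root elements of the right order is a full centre or axis subgroup -/
theorem eq_Cb_or_Ab (K : Subgroup (Matrix.ProjectiveSpecialLinearGroup (Fin (m + 2)) F))
    (hK : ∀ x ∈ K, x ≠ 1 → IsRootElt p x) (hcard : Nat.card K = Fintype.card F ^ (m + 1)) :
    (∃ v : Fin (m + 2) → F, v ≠ 0 ∧ K = Cb v) ∨ (∃ f : Fin (m + 2) → F, f ≠ 0 ∧ K = Ab f) := by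
  rcases root_subgroup_le p K hK with ⟨v, hv, h⟩ | ⟨f, hf, h⟩
  · refine Or.inl ⟨v, hv, Subgroup.eq_of_le_of_card_ge h ?_⟩
    change Nat.card (Cb v) ≤ _
    rw [card_Cb p hv, hcard]
  · refine Or.inr ⟨f, hf, Subgroup.eq_of_le_of_card_ge h ?_⟩
    change Nat.card (Ab f) ≤ _
    rw [card_Ab p hf, hcard]

omit [Fintype F] [Fact p.Prime] [CharP F p] in
theorem ee_ne_zero (i : Fin (m + 2)) : (ee i : Fin (m + 2) → F) ≠ 0 := by
  intro h
  have := congrFun h i
  simp at this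

include p in
theorem map_Cb_ee (α : MulAut (Matrix.ProjectiveSpecialLinearGroup (Fin (m + 2)) F))
    (i : Fin (m + 2)) :
    (∃ v : Fin (m + 2) → F, v ≠ 0 ∧ (Cb (ee i)).map α.toMonoidHom = Cb v) ∨
      (∃ f : Fin (m + 2) → F, f ≠ 0 ∧ (Cb (ee i)).map α.toMonoidHom = Ab f) := by
  apply eq_Cb_or_Ab p
  · rintro _ ⟨_, ⟨z, hz, rfl⟩, rfl⟩ hx1
    apply IsRootElt.map
    apply isRootElt_of_mem_Tc_single p hz
    rintro rfl
    apply hx1
    rw [map_one, map_one]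
  · rw [Subgroup.card_map_of_injective α.injective, card_Cb p (ee_ne_zero i)]

include p in
theorem map_Ab_ee (α : MulAut (Matrix.ProjectiveSpecialLinearGroup (Fin (m + 2)) F))
    (j : Fin (m + 2)) :
    (∃ v : Fin (m + 2) → F, v ≠ 0 ∧ (Ab (ee j)).map α.toMonoidHom = Cb v) ∨
      (∃ f : Fin (m + 2) → F, f ≠ 0 ∧ (Ab (ee j)).map α.toMonoidHom = Ab f) := by
  apply eq_Cb_or_Ab p
  · rintro _ ⟨_, ⟨z, hz, rfl⟩, rfl⟩ hx1
    apply IsRootElt.map
    apply isRootElt_of_mem_Ta_single p hz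
    rintro rfl
    apply hx1
    rw [map_one, map_one]
  · rw [Subgroup.card_map_of_injective α.injective, card_Ab p (ee_ne_zero j)]

end image

section framefacts

/-- elementary root elements of `PSL` -/
noncomputable abbrev xb {i j : Fin (m + 2)} (hij : i ≠ j) (c : F) :
    Matrix.ProjectiveSpecialLinearGroup (Fin (m + 2)) F := mkn (transvection hij c)

theorem ee_same (i : Fin (m + 2)) : (ee i : Fin (m + 2) → F) i = 1 := Pi.single_eq_same i 1

theorem ee_ne {j k : Fin (m + 2)} (h : k ≠ j) : (ee j : Fin (m + 2) → F) k = 0 :=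
  Pi.single_eq_of_ne h 1

theorem xb_ne_one {i j : Fin (m + 2)} (hij : i ≠ j) {c : F} (hc : c ≠ 0) : xb hij c ≠ 1 := by
  intro h1
  change mkn (transvection hij c) = 1 at h1
  rw [QuotientGroup.mk'_apply, QuotientGroup.eq_one_iff] at h1
  exact hc ((transvection_mem_center_iff hij c).mp h1)

theorem transvection_mem_Tc {i j : Fin (m + 2)} (hij : i ≠ j) (c : F) :
    transvection hij c ∈ Tc (ee i : Fin (m + 2) → F) := by
  refine ⟨Pi.single j c, ?_, ?_⟩
  · rw [dotProduct_single, mul_one, Pi.single_eq_of_ne hij]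
  · rw [transvection_coe, single_eq_vecMulVec]
    congr 1
    ext a b
    rw [vecMulVec_apply, vecMulVec_apply]
    by_cases ha : a = i
    · subst ha
      by_cases hb : b = j
      · subst hb
        simp
      · simp [Pi.single_eq_of_ne hb]
    · simp [Pi.single_eq_of_ne ha]

theorem transvection_mem_Ta {i j : Fin (m + 2)} (hij : i ≠ j) (c : F) :
    transvection hij c ∈ Ta (ee j : Fin (m + 2) → F) := by
  refine ⟨Pi.single i c, ?_, ?_⟩
  · rw [single_dotProduct, one_mul, Pi.single_eq_of_ne hij.symm]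
  · rw [transvection_coe, single_eq_vecMulVec]

theorem xb_mem_Cb {i j : Fin (m + 2)} (hij : i ≠ j) (c : F) : xb hij c ∈ Cb (ee i : Fin (m + 2) → F) :=
  Subgroup.mem_map_of_mem _ (transvection_mem_Tc hij c)

theorem xb_mem_Ab {i j : Fin (m + 2)} (hij : i ≠ j) (c : F) : xb hij c ∈ Ab (ee j : Fin (m + 2) → F) :=
  Subgroup.mem_map_of_mem _ (transvection_mem_Ta hij c)

variable (p : ℕ) [Fact p.Prime] [CharP F p]

include p in
theorem Cb_ee_ne_Ab_ee (hm : 1 ≤ m) (i j : Fin (m + 2)) :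
    Cb (ee i : Fin (m + 2) → F) ≠ Ab (ee j) := by
  intro h
  obtain ⟨k, hik, hkj⟩ := Cfsg.Agent.Helper2.exists_third (ι := Fin (m + 2))
    (by rw [Fintype.card_fin]; omega) i j
  have h1 : xb hik (1 : F) ∈ Ab (ee j : Fin (m + 2) → F) := by
    rw [← h]
    exact xb_mem_Cb hik 1
  have h2 : transvection hik (1 : F) ∈ Ta (ee j : Fin (m + 2) → F) := by
    refine (mem_map_mkn_iff p _ 1 (pow_one_of_mem_Ta p) ?_).mp h1
    exact pow_one_of_mem_Tc p _ (transvection_mem_Tc hik 1)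
  obtain ⟨w, -, hw⟩ := h2
  have h3 := congrFun (congrFun hw i) k
  rw [transvection_coe, Matrix.add_apply, Matrix.add_apply, Matrix.one_apply_ne hik,
    Matrix.single_apply_same, vecMulVec_apply, ee_ne hkj, mul_zero, add_zero] at h3
  rw [zero_add] at h3
  exact one_ne_zero (α := F) h3

include p in
theorem eq_one_of_mem_Cb_ee_of_mem_Ab_ee {i : Fin (m + 2)}
    {x : Matrix.ProjectiveSpecialLinearGroup (Fin (m + 2)) F} (hx : x ∈ Cb (ee i : Fin (m + 2) → F))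
    (hx' : x ∈ Ab (ee i : Fin (m + 2) → F)) : x = 1 := by
  by_contra hx1
  obtain ⟨y, c, -, -, h⟩ := exists_of_mem_Cb_of_mem_Ab p (ee_ne_zero i) hx hx'
  have := h hx1
  rw [single_dotProduct, one_mul, ee_same] at this
  exact one_ne_zero this

end framefacts

section types

variable [Fintype F] (p : ℕ) [Fact p.Prime] [CharP F p]

include p in
theorem not_Cb_Cb (hm : 1 ≤ m) (α : MulAut (Matrix.ProjectiveSpecialLinearGroup (Fin (m + 2)) F))
    {i j : Fin (m + 2)} (hij : i ≠ j) {v w : Fin (m + 2) → F}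
    (h1 : (Cb (ee i)).map α.toMonoidHom = Cb v) (h2 : (Ab (ee j)).map α.toMonoidHom = Cb w) :
    False := by
  have hx1 : α (xb hij (1 : F)) ∈ Cb v := by
    rw [← h1]; exact Subgroup.mem_map_of_mem _ (xb_mem_Cb hij 1)
  have hx2 : α (xb hij (1 : F)) ∈ Cb w := by
    rw [← h2]; exact Subgroup.mem_map_of_mem _ (xb_mem_Ab hij 1)
  have hne : α (xb hij (1 : F)) ≠ 1 := fun h =>
    xb_ne_one hij one_ne_zero ((map_eq_one_iff α α.injective).mp h)
  have := Cb_eq_of_mem p hx1 hx2 hne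
  rw [← h1, ← h2] at this
  exact Cb_ee_ne_Ab_ee p hm i j (Subgroup.map_injective α.injective this)

include p in
theorem not_Ab_Ab (hm : 1 ≤ m) (α : MulAut (Matrix.ProjectiveSpecialLinearGroup (Fin (m + 2)) F))
    {i j : Fin (m + 2)} (hij : i ≠ j) {f g : Fin (m + 2) → F}
    (h1 : (Cb (ee i)).map α.toMonoidHom = Ab f) (h2 : (Ab (ee j)).map α.toMonoidHom = Ab g) :
    False := by
  have hx1 : α (xb hij (1 : F)) ∈ Ab f := by
    rw [← h1]; exact Subgroup.mem_map_of_mem _ (xb_mem_Cb hij 1)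
  have hx2 : α (xb hij (1 : F)) ∈ Ab g := by
    rw [← h2]; exact Subgroup.mem_map_of_mem _ (xb_mem_Ab hij 1)
  have hne : α (xb hij (1 : F)) ≠ 1 := fun h =>
    xb_ne_one hij one_ne_zero ((map_eq_one_iff α α.injective).mp h)
  have := Ab_eq_of_mem p hx1 hx2 hne
  rw [← h1, ← h2] at this
  exact Cb_ee_ne_Ab_ee p hm i j (Subgroup.map_injective α.injective this)

include p in
/-- if one standard centre subgroup goes to a centre subgroup, then all types are preserved -/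
theorem types_of_zero (hm : 1 ≤ m)
    (α : MulAut (Matrix.ProjectiveSpecialLinearGroup (Fin (m + 2)) F))
    (h0 : ∃ v : Fin (m + 2) → F, v ≠ 0 ∧ (Cb (ee 0)).map α.toMonoidHom = Cb v) :
    (∀ i, ∃ v : Fin (m + 2) → F, v ≠ 0 ∧ (Cb (ee i)).map α.toMonoidHom = Cb v) ∧
    (∀ j, ∃ f : Fin (m + 2) → F, f ≠ 0 ∧ (Ab (ee j)).map α.toMonoidHom = Ab f) := by
  obtain ⟨v0, hv0, h0⟩ := h0
  have hA : ∀ j : Fin (m + 2), j ≠ 0 →
      ∃ f : Fin (m + 2) → F, f ≠ 0 ∧ (Ab (ee j)).map α.toMonoidHom = Ab f := by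
    intro j hj
    rcases map_Ab_ee p α j with ⟨w, hw, h⟩ | h
    · exact (not_Cb_Cb p hm α (Ne.symm hj) h0 h).elim
    · exact h
  have hC : ∀ i : Fin (m + 2),
      ∃ v : Fin (m + 2) → F, v ≠ 0 ∧ (Cb (ee i)).map α.toMonoidHom = Cb v := by
    intro i
    by_cases hi : i = 0
    · subst hi; exact ⟨v0, hv0, h0⟩
    obtain ⟨j, hij, hj0⟩ := Cfsg.Agent.Helper2.exists_third (ι := Fin (m + 2))
      (by rw [Fintype.card_fin]; omega) i 0
    obtain ⟨g, hg, hAg⟩ := hA j hj0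
    rcases map_Cb_ee p α i with h | ⟨f, hf, h⟩
    · exact h
    · exact (not_Ab_Ab p hm α hij h hAg).elim
  refine ⟨hC, fun j => ?_⟩
  by_cases hj : j = 0
  · subst hj
    obtain ⟨v1, hv1, h1⟩ := hC 1
    rcases map_Ab_ee p α 0 with ⟨w, hw, h⟩ | h
    · exact (not_Cb_Cb p hm α (Fin.zero_ne_one (n := m)).symm h1 h).elim
    · exact h
  · exact hA j hj

end types

section normalize

variable [Fintype F] (p : ℕ) [Fact p.Prime] [CharP F p]

include p in
/-- after composing with a linear automorphism, all elementary root subgroups are preserved -/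
theorem exists_frame_normalize (hm : 1 ≤ m)
    (α : MulAut (Matrix.ProjectiveSpecialLinearGroup (Fin (m + 2)) F))
    (h0 : ∃ v : Fin (m + 2) → F, v ≠ 0 ∧ (Cb (ee 0)).map α.toMonoidHom = Cb v) :
    ∃ G : GL (Fin (m + 2)) F, ∀ {i j : Fin (m + 2)} (hij : i ≠ j) (c : F),
      ∃ c' : F, α (xb hij c) = Phi ⟨G, 1⟩ (xb hij c') := by
  obtain ⟨hC, hA⟩ := types_of_zero p hm α h0
  choose v hv hCv using hC
  choose ψ hψ hAψ using hA
  have hmem1 : ∀ {i j : Fin (m + 2)} (hij : i ≠ j) (c : F), α (xb hij c) ∈ Cb (v i) := by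
    intro i j hij c
    rw [← hCv i]; exact Subgroup.mem_map_of_mem _ (xb_mem_Cb hij c)
  have hmem2 : ∀ {i j : Fin (m + 2)} (hij : i ≠ j) (c : F), α (xb hij c) ∈ Ab (ψ j) := by
    intro i j hij c
    rw [← hAψ j]; exact Subgroup.mem_map_of_mem _ (xb_mem_Ab hij c)
  have horth : ∀ i j, i ≠ j → ψ j ⬝ᵥ v i = 0 := by
    intro i j hij
    have hne : α (xb hij (1 : F)) ≠ 1 := fun h =>
      xb_ne_one hij one_ne_zero ((map_eq_one_iff α α.injective).mp h)
    obtain ⟨y, c, -, -, h⟩ := exists_of_mem_Cb_of_mem_Ab p (hv i) (hmem1 hij 1) (hmem2 hij 1)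
    exact h hne
  have hdiag : ∀ i, ψ i ⬝ᵥ v i ≠ 0 := by
    intro i hd
    have hy1 : mkn (tv (v i) (ψ i) hd) ∈ Cb (v i) :=
      Subgroup.mem_map_of_mem _ (tv_mem_Tc _ _ _)
    have hy2 : mkn (tv (v i) (ψ i) hd) ∈ Ab (ψ i) :=
      Subgroup.mem_map_of_mem _ (tv_mem_Ta _ _ _)
    rw [← hCv i] at hy1
    rw [← hAψ i] at hy2
    obtain ⟨a, ha, haeq⟩ := hy1
    obtain ⟨b, hb, hbeq⟩ := hy2
    have hab : a = b := α.injective (haeq.trans hbeq.symm)
    subst hab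
    have ha1 := eq_one_of_mem_Cb_ee_of_mem_Ab_ee p ha hb
    rw [ha1, map_one] at haeq
    have hy : tv (v i) (ψ i) hd = 1 :=
      eq_of_mkn_eq_of_pow p _ 1 1 (pow_one_of_mem_Tc p _ (tv_mem_Tc _ _ _)) (one_pow _)
        (haeq.symm.trans (map_one _).symm)
    have h2 : (tv (v i) (ψ i) hd).1 = 1 := by rw [hy, coe_one]
    rw [tv_coe, add_eq_left, vecMulVec_eq_zero] at h2
    rcases h2 with h2 | h2
    · exact hv i h2
    · exact hψ i h2
  set g : Matrix (Fin (m + 2)) (Fin (m + 2)) F := Matrix.of (fun k i => v i k) with hg_def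
  set Ψ : Matrix (Fin (m + 2)) (Fin (m + 2)) F := Matrix.of (fun j k => ψ j k) with hΨ_def
  have hΨg : Ψ * g = diagonal (fun i => ψ i ⬝ᵥ v i) := by
    ext j i
    rw [Matrix.mul_apply, diagonal_apply]
    by_cases hji : j = i
    · subst hji
      rw [if_pos rfl]
      rfl
    · rw [if_neg hji]
      exact horth i j (Ne.symm hji)
  have hdet : g.det ≠ 0 := by
    intro h
    have := congrArg det hΨg
    rw [det_mul, h, mul_zero, det_diagonal] at this
    exact Finset.prod_ne_zero_iff.mpr (fun i _ => hdiag i) this.symm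
  obtain ⟨G, hG⟩ : ∃ G : GL (Fin (m + 2)) F, (G : Matrix (Fin (m + 2)) (Fin (m + 2)) F) = g :=
    ⟨Matrix.GeneralLinearGroup.mkOfDetNeZero g hdet, rfl⟩
  refine ⟨G, fun {i j} hij c => ?_⟩
  obtain ⟨y, c1, hy, hyc, -⟩ := exists_of_mem_Cb_of_mem_Ab p (hv i) (hmem1 hij c) (hmem2 hij c)
  refine ⟨c1 * (ψ j ⬝ᵥ v j), ?_⟩
  rw [← hy]
  change mkn y = mkn (conjSL G (fieldSLHom 1 (transvection hij _)))
  congr 1
  apply Subtype.ext
  rw [conjSL_coe, map_one, MulAut.one_apply, transvection_coe]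
  have key : g * (1 + single i j (c1 * (ψ j ⬝ᵥ v j))) = y.1 * g := by
    rw [hyc, Matrix.mul_add, Matrix.add_mul, Matrix.mul_one, Matrix.one_mul, single_eq_vecMulVec,
      mul_vecMulVec, Matrix.smul_mul, vecMulVec_mul, ← vecMulVec_smul]
    congr 1
    ext a b
    rw [vecMulVec_apply, vecMulVec_apply, mulVec_single, Pi.smul_apply, Pi.smul_apply,
      MulOpposite.smul_eq_mul_unop, MulOpposite.unop_op, smul_eq_mul]
    have h1 : (ψ j ᵥ* g) b = ψ j ⬝ᵥ v b := rfl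
    rw [h1]
    change v i a * (c1 * (ψ j ⬝ᵥ v j)) * (Pi.single j (1 : F) : Fin (m + 2) → F) b = _
    by_cases hb : b = j
    · subst hb
      rw [Pi.single_eq_same]
      ring
    · rw [Pi.single_eq_of_ne hb, horth b j hb]
      ring
  have hGi : g * ((G⁻¹ : GL (Fin (m + 2)) F) : Matrix (Fin (m + 2)) (Fin (m + 2)) F) = 1 := by
    rw [← hG]
    exact Units.mul_inv G
  rw [hG, key, Matrix.mul_assoc, hGi, Matrix.mul_one]

end normalize

end Cfsg.Agent.Helper2.PN
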