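import Mathlib
import Cfsg.Agent.Lib.Helper2.Psln10
import Cfsg.Agent.Lib.Helper2.Psln9

set_option autoImplicit false

namespace Cfsg.Agent.Helper2.PN

open Matrix Matrix.SpecialLinearGroup
open scoped MatrixGroups
open Cfsg.Agent.Helper2.SL2S

section emb

variable {ι : Type*} [Fintype ι] [DecidableEq ι] {F : Type*} [Field F]

/-- the `0/1` matrix of the map `0 ↦ i`, `1 ↦ j` -/
def Pm (F : Type*) [Field F] (i j : ι) : Matrix ι (Fin 2) F :=
  Matrix.of fun k a => if k = (![i, j] : Fin 2 → ι) a then 1 else 0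

theorem Pm_apply_zero (i j k : ι) : Pm F i j k 0 = if k = i then 1 else 0 := rfl

theorem Pm_apply_one (i j k : ι) : Pm F i j k 1 = if k = j then 1 else 0 := rfl

theorem Pm_transpose_mul {i j : ι} (hij : i ≠ j) :
    (Pm F i j)ᵀ * Pm F i j = 1 := by
  ext a b
  rw [Matrix.mul_apply]
  fin_cases a <;> fin_cases b <;>
    simp [Pm_apply_zero, Pm_apply_one, Matrix.transpose_apply, hij, hij.symm]

/-- the embedding of `2 × 2` matrices at positions `i, j` -/
def embM (i j : ι) (M : Matrix (Fin 2) (Fin 2) F) : Matrix ι ι F :=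
  1 + Pm F i j * (M - 1) * (Pm F i j)ᵀ

theorem embM_one (i j : ι) : embM i j (1 : Matrix (Fin 2) (Fin 2) F) = 1 := by
  rw [embM, sub_self, Matrix.mul_zero, Matrix.zero_mul, add_zero]

theorem embM_mul {i j : ι} (hij : i ≠ j) (M N : Matrix (Fin 2) (Fin 2) F) :
    embM i j (M * N) = embM i j M * embM i j N := by
  have hPP := Pm_transpose_mul (F := F) hij
  have h : Pm F i j * (M - 1) * (Pm F i j)ᵀ * (Pm F i j * (N - 1) * (Pm F i j)ᵀ) =
      Pm F i j * ((M - 1) * (N - 1)) * (Pm F i j)ᵀ := by
    calc Pm F i j * (M - 1) * (Pm F i j)ᵀ * (Pm F i j * (N - 1) * (Pm F i j)ᵀ)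
        = Pm F i j * (M - 1) * ((Pm F i j)ᵀ * Pm F i j) * (N - 1) * (Pm F i j)ᵀ := by
          simp only [Matrix.mul_assoc]
      _ = _ := by rw [hPP, Matrix.mul_one, Matrix.mul_assoc (Pm F i j) (M - 1) (N - 1)]
  have h2 : M * N - 1 = (M - 1) + (N - 1) + (M - 1) * (N - 1) := by noncomm_ring
  rw [embM, embM, embM, Matrix.add_mul, Matrix.mul_add, Matrix.mul_add, Matrix.one_mul,
    Matrix.mul_one, Matrix.one_mul, h, h2, Matrix.mul_add, Matrix.mul_add, Matrix.add_mul,
    Matrix.add_mul]
  abel

theorem det_embM {i j : ι} (hij : i ≠ j) (M : Matrix (Fin 2) (Fin 2) F) :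
    (embM i j M).det = M.det := by
  rw [embM, det_one_add_mul_comm, ← Matrix.mul_assoc, Pm_transpose_mul hij, Matrix.one_mul,
    add_sub_cancel]

theorem transpose_mul_embM_mul {i j : ι} (hij : i ≠ j) (M : Matrix (Fin 2) (Fin 2) F) :
    (Pm F i j)ᵀ * embM i j M * Pm F i j = M := by
  have hPP := Pm_transpose_mul (F := F) hij
  rw [embM, Matrix.mul_add, Matrix.add_mul, Matrix.mul_one, hPP]
  have : (Pm F i j)ᵀ * (Pm F i j * (M - 1) * (Pm F i j)ᵀ) * Pm F i j =
      ((Pm F i j)ᵀ * Pm F i j) * (M - 1) * ((Pm F i j)ᵀ * Pm F i j) := by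
    simp only [Matrix.mul_assoc]
  rw [this, hPP, Matrix.one_mul, Matrix.mul_one, add_sub_cancel]

theorem embM_apply_of_ne {i j : ι} (M : Matrix (Fin 2) (Fin 2) F) {k : ι} (hki : k ≠ i)
    (hkj : k ≠ j) (l : ι) : embM i j M k l = (1 : Matrix ι ι F) k l := by
  rw [embM, Matrix.add_apply, Matrix.mul_apply]
  have : ∀ a : Fin 2, (Pm F i j * (M - 1) : Matrix ι (Fin 2) F) k a = 0 := by
    intro a
    rw [Matrix.mul_apply, Fin.sum_univ_two, Pm_apply_zero, Pm_apply_one, if_neg hki, if_neg hkj,
      zero_mul, zero_mul, add_zero]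
  simp [this]

theorem embM_single {i j : ι} (b : F) :
    embM i j (1 + single (0 : Fin 2) 1 b) = 1 + single i j b := by
  rw [embM, add_sub_cancel_left]
  congr 1
  ext k l
  rw [Matrix.mul_apply, Fin.sum_univ_two]
  simp only [Matrix.mul_apply, Fin.sum_univ_two, Matrix.transpose_apply, Pm_apply_zero,
    Pm_apply_one, Matrix.single_apply]
  by_cases hk : k = i
  · subst hk
    by_cases hl : l = j
    · subst hl; simp
    · simp [hl, Ne.symm hl]
  · simp [hk, Ne.symm hk]

theorem embM_single' {i j : ι} (b : F) :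
    embM i j (1 + single (1 : Fin 2) 0 b) = 1 + single j i b := by
  rw [embM, add_sub_cancel_left]
  congr 1
  ext k l
  rw [Matrix.mul_apply, Fin.sum_univ_two]
  simp only [Matrix.mul_apply, Fin.sum_univ_two, Matrix.transpose_apply, Pm_apply_zero,
    Pm_apply_one, Matrix.single_apply]
  by_cases hk : k = j
  · subst hk
    by_cases hl : l = i
    · subst hl; simp
    · simp [hl, Ne.symm hl]
  · simp [hk, Ne.symm hk]

/-- the embedding of `SL₂` at positions `i, j` -/
def emb {i j : ι} (hij : i ≠ j) : SL(2, F) →* Matrix.SpecialLinearGroup ι F where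
  toFun x := ⟨embM i j x.1, by rw [det_embM hij]; exact x.2⟩
  map_one' := by
    apply Subtype.ext
    exact embM_one i j
  map_mul' x y := by
    apply Subtype.ext
    exact embM_mul hij x.1 y.1

theorem emb_coe {i j : ι} (hij : i ≠ j) (x : SL(2, F)) : (emb hij x).1 = embM i j x.1 := rfl

theorem emb_u {i j : ι} (hij : i ≠ j) (b : F) : emb hij (u b) = transvection hij b := by
  apply Subtype.ext
  rw [emb_coe, transvection_coe, transvection_coe, embM_single]

theorem emb_v {i j : ι} (hij : i ≠ j) (b : F) : emb hij (v b) = transvection hij.symm b := by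
  apply Subtype.ext
  rw [emb_coe, transvection_coe, transvection_coe, embM_single']

theorem emb_injective {i j : ι} (hij : i ≠ j) : Function.Injective (emb (F := F) hij) := by
  intro x y h
  apply Subtype.ext
  have := congrArg (fun z : Matrix.SpecialLinearGroup ι F => (Pm F i j)ᵀ * z.1 * Pm F i j) h
  simp only [emb_coe, transpose_mul_embM_mul hij] at this
  exact this

/-- the composite `SL₂ → PSL_n` is injective as soon as there is a third index -/
theorem emb_theta {i j k : ι} (hij : i ≠ j) (hki : k ≠ i) (hkj : k ≠ j) (x y : SL(2, F))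
    (h : mkn (emb hij x) = mkn (emb hij y)) : y.1 = x.1 ∨ y.1 = -x.1 := by
  left
  rw [mkn_eq_iff] at h
  obtain ⟨z, -, hz⟩ := h
  have h1 := congrFun (congrFun hz k) k
  rw [emb_coe, emb_coe, Matrix.smul_apply, embM_apply_of_ne _ hki hkj, embM_apply_of_ne _ hki hkj,
    Matrix.one_apply_eq, smul_eq_mul, mul_one] at h1
  rw [← h1, one_smul] at hz
  have := emb_injective hij (Subtype.ext hz)
  rw [this]

end emb

section comm

open scoped commutatorElement

variable {ι : Type*} [Fintype ι] [DecidableEq ι] {F : Type*} [Field F]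

/-- the Steinberg commutator relation -/
theorem comm_transvection_gen {i j k : ι} (hij : i ≠ j) (hjk : j ≠ k) (hik : i ≠ k) (s t : F) :
    ⁅transvection hij s, transvection hjk t⁆ = transvection hik (s * t) := by
  rw [commutatorElement_def, transvection_inv, transvection_inv]
  apply Subtype.ext
  simp [transvection_coe, mul_add, add_mul, single_mul_single_of_ne, hij.symm, hik.symm, hjk.symm,
    hij, hik, hjk]
  simp only [← single_neg]
  abel

/-- two automorphisms of `PSL` agreeing on all elementary root elements are equal -/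
theorem eq_of_agree_n [Nontrivial ι] (α β : MulAut (Matrix.ProjectiveSpecialLinearGroup ι F))
    (h : ∀ {i j : ι} (hij : i ≠ j) (c : F),
      α (mkn (transvection hij c)) = β (mkn (transvection hij c))) : α = β := by
  refine MulEquiv.ext fun x => ?_
  obtain ⟨x, rfl⟩ := mkn_surjective x
  refine diagonal_transvection_induction' (fun M => α (mkn M) = β (mkn M)) x ?_ ?_ ?_
  · intro i j hij c hc
    rw [Cfsg.Agent.Helper2.diag2n_eq_transvections hij c hc]
    simp only [map_mul]
    rw [h hij c, h hij.symm (-c⁻¹), h hij (-1), h hij.symm 1]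
  · intro i j hij a
    exact h hij a
  · intro A B hA hB
    rw [map_mul, map_mul, map_mul, hA, hB]

end comm

end Cfsg.Agent.Helper2.PN
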