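import Mathlib
import Cfsg.Agent.Lib.Helper2.Psln11

set_option autoImplicit false

namespace Cfsg.Agent.Helper2.PN

open Matrix Matrix.SpecialLinearGroup
open scoped MatrixGroups
open Cfsg.Agent.Helper2.SL2S

section diag

variable {ι : Type*} [Fintype ι] [DecidableEq ι] {F : Type*} [Field F]

/-- diagonal matrices in `GL` -/
def diagGL : (ι → Fˣ) →* GL ι F where
  toFun e := ⟨diagonal (fun i => (e i : F)), diagonal (fun i => (((e i)⁻¹ : Fˣ) : F)),
    by rw [diagonal_mul_diagonal]; simp, by rw [diagonal_mul_diagonal]; simp⟩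
  map_one' := by
    apply Units.ext
    simp
  map_mul' e e' := by
    apply Units.ext
    simp [diagonal_mul_diagonal]

theorem diagGL_coe (e : ι → Fˣ) : ((diagGL e : GL ι F) : Matrix ι ι F) = diagonal (fun i => (e i : F)) :=
  rfl

theorem diagGL_inv_coe (e : ι → Fˣ) :
    (((diagGL e)⁻¹ : GL ι F) : Matrix ι ι F) = diagonal (fun i => (((e i)⁻¹ : Fˣ) : F)) := rfl

theorem fieldSLHom_transvection (σ : RingAut F) {i j : ι} (hij : i ≠ j) (c : F) :
    fieldSLHom σ (transvection hij c) = transvection hij (σ c) := by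
  apply Subtype.ext
  rw [fieldSLHom_coe', transvection_coe, transvection_coe]
  ext k l
  rw [Matrix.map_apply, Matrix.add_apply, Matrix.add_apply, map_add]
  congr 1
  · by_cases hkl : k = l
    · subst hkl; simp
    · simp [Matrix.one_apply_ne hkl]
  · by_cases h : i = k ∧ j = l
    · obtain ⟨rfl, rfl⟩ := h; simp
    · rw [Matrix.single_apply, Matrix.single_apply, if_neg h, if_neg h, map_zero]

theorem conjSL_diag_transvection (e : ι → Fˣ) {i j : ι} (hij : i ≠ j) (c : F) :
    conjSL (diagGL e) (transvection hij c) =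
      transvection hij ((e i : F) * c * ((e j)⁻¹ : Fˣ)) := by
  apply Subtype.ext
  rw [conjSL_coe, diagGL_coe, diagGL_inv_coe, transvection_coe, transvection_coe, Matrix.mul_add,
    Matrix.add_mul, Matrix.mul_one, diagonal_mul_diagonal]
  congr 1
  · rw [← diagonal_one]
    congr 1
    funext k
    simp
  · ext k l
    rw [Matrix.mul_diagonal, Matrix.diagonal_mul]
    by_cases h : i = k ∧ j = l
    · obtain ⟨rfl, rfl⟩ := h; simp
    · rw [Matrix.single_apply, Matrix.single_apply, if_neg h, if_neg h, mul_zero, zero_mul]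

theorem Phi_diag_transvection (e : ι → Fˣ) (σ : RingAut F) {i j : ι} (hij : i ≠ j) (c : F) :
    Phi ⟨diagGL e, σ⟩ (mkn (transvection hij c)) =
      mkn (transvection hij ((e i : F) * σ c * ((e j)⁻¹ : Fˣ))) := by
  rw [Phi_mk, fieldSLHom_transvection, conjSL_diag_transvection]

end diag

section assembly

variable {m : ℕ} {F : Type*} [Field F]

theorem xb_add {i j : Fin (m + 2)} (hij : i ≠ j) (a b : F) :
    xb hij (a + b) = xb hij a * xb hij b := by
  change mkn _ = mkn _ * mkn _
  rw [← map_mul, transvection_add]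

theorem xb_injective {i j : Fin (m + 2)} (hij : i ≠ j) : Function.Injective (xb (F := F) hij) := by
  intro a b h
  have h1 : xb hij (b - a) = 1 := by
    have := xb_add hij a (b - a)
    rw [add_sub_cancel, ← h] at this
    exact (mul_eq_left.mp this.symm)
  by_contra hab
  exact xb_ne_one hij (sub_ne_zero.mpr (Ne.symm hab)) h1

open scoped commutatorElement in
theorem xb_comm {i j k : Fin (m + 2)} (hij : i ≠ j) (hjk : j ≠ k) (hik : i ≠ k) (s t : F) :
    ⁅xb hij s, xb hjk t⁆ = xb hik (s * t) := by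
  change ⁅mkn _, mkn _⁆ = mkn _
  rw [← map_commutatorElement, comm_transvection_gen hij hjk hik]

variable [Fintype F]

/-- an automorphism preserving all elementary root subgroups is diagonal times field -/
theorem eq_Phi_of_preserves (hm : 1 ≤ m)
    (β : MulAut (Matrix.ProjectiveSpecialLinearGroup (Fin (m + 2)) F))
    (hβ : ∀ (i j : Fin (m + 2)) (hij : i ≠ j) (c : F), ∃ c' : F, β (xb hij c) = xb hij c') :
    ∃ (e : Fin (m + 2) → Fˣ) (σ : RingAut F), β = Phi ⟨diagGL e, σ⟩ := by
  have h3 : 3 ≤ Fintype.card (Fin (m + 2)) := by rw [Fintype.card_fin]; omega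
  choose ψ hψ using hβ
  have hadd : ∀ i j hij a b, ψ i j hij (a + b) = ψ i j hij a + ψ i j hij b := by
    intro i j hij a b
    apply xb_injective hij
    rw [← hψ, xb_add, map_mul, hψ, hψ, ← xb_add]
  have hinj : ∀ i j hij, Function.Injective (ψ i j hij) := by
    intro i j hij a b hab
    apply xb_injective hij
    apply β.injective
    rw [hψ, hψ, hab]
  have h0 : ∀ i j hij, ψ i j hij 0 = 0 := by
    intro i j hij
    have := hadd i j hij 0 0
    rw [add_zero] at this
    exact left_eq_add.mp this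
  have hrank : ∀ i j hij, ∃ (d : F) (σ : RingAut F), d ≠ 0 ∧ (∀ b, ψ i j hij b = d * σ b) ∧
      (∀ c, ψ j i (Ne.symm hij) c = d⁻¹ * σ c) := by
    intro i j hij
    obtain ⟨k, hik, hkj⟩ := Cfsg.Agent.Helper2.exists_third h3 i j
    refine exists_ringAut_gen (θ := (mkn (ι := Fin (m + 2)) (F := F)).comp (emb hij))
      (β := β.toMonoidHom) (fun x y h => emb_theta hij hik.symm hkj x y h) ?_ ?_
      (hadd i j hij) (hinj i j hij) (h0 j i _)
    · intro b
      change β (mkn (emb hij (u b))) = mkn (emb hij (u _))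
      rw [emb_u, emb_u]
      exact hψ i j hij b
    · intro c
      change β (mkn (emb hij (v c))) = mkn (emb hij (v _))
      rw [emb_v, emb_v]
      exact hψ j i _ c
  choose d σ hd hψd hψd' using hrank
  have hcomm : ∀ i j k (hij : i ≠ j) (hjk : j ≠ k) (hik : i ≠ k) (s t : F),
      ψ i k hik (s * t) = ψ i j hij s * ψ j k hjk t := by
    intro i j k hij hjk hik s t
    apply xb_injective hik
    rw [← hψ, ← xb_comm hij hjk hik, map_commutatorElement, hψ, hψ, xb_comm hij hjk hik]
  have hd1 : ∀ i j k (hij : i ≠ j) (hjk : j ≠ k) (hik : i ≠ k),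
      d i k hik = d i j hij * d j k hjk := by
    intro i j k hij hjk hik
    have := hcomm i j k hij hjk hik 1 1
    rw [hψd, hψd, hψd, mul_one, map_one, map_one, map_one, mul_one, mul_one, mul_one] at this
    exact this
  have hσ1 : ∀ i j k (hij : i ≠ j) (hjk : j ≠ k) (hik : i ≠ k), σ i k hik = σ i j hij := by
    intro i j k hij hjk hik
    refine RingEquiv.ext fun s => ?_
    have := hcomm i j k hij hjk hik s 1
    rw [hψd, hψd, hψd, mul_one, map_one, mul_one, hd1 i j k hij hjk hik] at this
    have hne : d i j hij * d j k hjk ≠ 0 := mul_ne_zero (hd _ _ _) (hd _ _ _)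
    apply mul_left_cancel₀ hne
    linear_combination this
  have hσ2 : ∀ i j k (hij : i ≠ j) (hjk : j ≠ k) (hik : i ≠ k), σ i k hik = σ j k hjk := by
    intro i j k hij hjk hik
    refine RingEquiv.ext fun t => ?_
    have := hcomm i j k hij hjk hik 1 t
    rw [hψd, hψd, hψd, one_mul, map_one, mul_one, hd1 i j k hij hjk hik] at this
    have hne : d i j hij * d j k hjk ≠ 0 := mul_ne_zero (hd _ _ _) (hd _ _ _)
    apply mul_left_cancel₀ hne
    linear_combination this
  have hdinv : ∀ i j hij, d j i (Ne.symm hij) = (d i j hij)⁻¹ := by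
    intro i j hij
    have h1 := hψd j i (Ne.symm hij) 1
    have h2 := hψd' i j hij 1
    rw [map_one, mul_one] at h1 h2
    rw [← h1, h2]
  have hσsymm : ∀ i j hij, σ j i (Ne.symm hij) = σ i j hij := by
    intro i j hij
    refine RingEquiv.ext fun c => ?_
    have h1 := hψd j i (Ne.symm hij) c
    have h2 := hψd' i j hij c
    rw [h1, hdinv i j hij] at h2
    exact mul_left_cancel₀ (inv_ne_zero (hd i j hij)) h2
  have h01 : (0 : Fin (m + 2)) ≠ 1 := Fin.zero_ne_one
  have hA : ∀ j (hj : (0 : Fin (m + 2)) ≠ j), σ 0 j hj = σ 0 1 h01 := by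
    intro j hj
    by_cases hj1 : j = 1
    · subst hj1; rfl
    · exact hσ1 0 1 j h01 (Ne.symm hj1) hj
  have hB : ∀ i j hij, σ i j hij = σ 0 1 h01 := by
    intro i j hij
    by_cases hi : i = 0
    · subst hi; exact hA j hij
    by_cases hj : j = 0
    · subst hj
      exact (hσsymm 0 i (Ne.symm hij)).trans (hA i _)
    · rw [hσ2 i 0 j hi (Ne.symm hj) hij]
      exact hA j _
  set e : Fin (m + 2) → Fˣ := fun i =>
    if h : i = 0 then 1 else Units.mk0 (d i 0 h) (hd i 0 h) with he_def
  have he0 : e 0 = 1 := by rw [he_def]; simp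
  have hei : ∀ i (h : i ≠ 0), ((e i : Fˣ) : F) = d i 0 h := by
    intro i h
    rw [he_def]
    simp [h]
  have hD : ∀ i j hij, d i j hij = (e i : F) * ((e j)⁻¹ : Fˣ) := by
    intro i j hij
    by_cases hj : j = 0
    · subst hj
      rw [he0, inv_one, Units.val_one, mul_one, hei i hij]
    by_cases hi : i = 0
    · subst hi
      rw [he0, Units.val_one, one_mul, Units.val_inv_eq_inv_val, hei j hj]
      exact hdinv j 0 hj
    · rw [hd1 i 0 j hi (Ne.symm hj) hij, hdinv j 0 hj, Units.val_inv_eq_inv_val, hei i hi, hei j hj]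
  refine ⟨e, σ 0 1 h01, ?_⟩
  have : Nontrivial (Fin (m + 2)) := Fin.nontrivial_iff_two_le.mpr (by omega)
  apply eq_of_agree_n
  intro i j hij c
  rw [Phi_diag_transvection]
  change β (xb hij c) = xb hij _
  rw [hψ, hψd, hB i j hij, hD i j hij]
  congr 1
  ring

end assembly

end Cfsg.Agent.Helper2.PN
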