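import Mathlib
import Cfsg.Agent.Lib.Helper2.Psln12

set_option autoImplicit false

namespace Cfsg.Agent.Helper2.PN

open Matrix Matrix.SpecialLinearGroup
open scoped MatrixGroups

section tau

variable {ι : Type*} [Fintype ι] [DecidableEq ι] {F : Type*} [Field F]

theorem tv_inv (v f : ι → F) (h : f ⬝ᵥ v = 0) :
    (tv v f h)⁻¹ = tv (-v) f (by rw [dotProduct_neg, h, neg_zero]) := by
  apply inv_eq_of_mul_eq_one_right
  apply Subtype.ext
  rw [coe_mul, tv_coe, tv_coe, one_add_mul_same_axis _ _ _ (by rw [dotProduct_neg, h, neg_zero]),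
    add_neg_cancel, zero_vecMulVec, add_zero, coe_one]

theorem invTr_tv (v f : ι → F) (h : f ⬝ᵥ v = 0) :
    invTr (tv v f h) = tv f (-v) (by rw [neg_dotProduct, dotProduct_comm, h, neg_zero]) := by
  apply Subtype.ext
  rw [invTr_apply, tv_inv, trSL_coe, tv_coe, tv_coe, Matrix.transpose_add, Matrix.transpose_one,
    transpose_vecMulVec]

end tau

section core

variable {m : ℕ} {F : Type*} [Field F] [Fintype F] (p : ℕ) [Fact p.Prime] [CharP F p]

include p in
theorem map_tauAut_Ab {f : Fin (m + 2) → F} (hf : f ≠ 0) :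
    (Ab f).map (tauAut (ι := Fin (m + 2)) (F := F)).toMonoidHom = Cb f := by
  apply Subgroup.eq_of_le_of_card_ge
  · rintro _ ⟨_, ⟨y, ⟨v, hv, hy⟩, rfl⟩, rfl⟩
    have hy' : y = tv v f hv := Subtype.ext hy
    change tauAut (mkn y) ∈ Cb f
    rw [tauAut_mk, hy', invTr_tv]
    exact Subgroup.mem_map_of_mem _ (tv_mem_Tc _ _ _)
  · have h1 : Nat.card ((Ab f).map (tauAut (ι := Fin (m + 2)) (F := F)).toMonoidHom) =
        Nat.card (Ab f) :=
      Subgroup.card_map_of_injective (f := (tauAut (ι := Fin (m + 2)) (F := F)).toMonoidHom)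
        (tauAut (ι := Fin (m + 2)) (F := F)).injective
    rw [h1, card_Ab p hf, card_Cb p hf]

include p in
/-- the case where the first standard centre subgroup goes to a centre subgroup -/
theorem mem_range_Phi_of_Cb (hm : 1 ≤ m)
    (α : MulAut (Matrix.ProjectiveSpecialLinearGroup (Fin (m + 2)) F))
    (h0 : ∃ v : Fin (m + 2) → F, v ≠ 0 ∧ (Cb (ee 0)).map α.toMonoidHom = Cb v) :
    α ∈ (Phi (ι := Fin (m + 2)) (F := F)).range := by
  obtain ⟨G, hG⟩ := exists_frame_normalize p hm α h0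
  have hβ : ∀ (i j : Fin (m + 2)) (hij : i ≠ j) (c : F), ∃ c' : F,
      ((Phi ⟨G, 1⟩)⁻¹ * α) (xb hij c) = xb hij c' := by
    intro i j hij c
    obtain ⟨c', hc'⟩ := hG hij c
    refine ⟨c', ?_⟩
    rw [MulAut.mul_apply, hc', ← MulAut.mul_apply, inv_mul_cancel, MulAut.one_apply]
  obtain ⟨e, σ, hβe⟩ := eq_Phi_of_preserves hm _ hβ
  refine ⟨⟨G, 1⟩ * ⟨diagGL e, σ⟩, ?_⟩
  rw [map_mul, ← hβe, mul_inv_cancel_left]

include p in
/-- every automorphism of `PSL_n`, `n ≥ 3`, is induced by a semilinear map, possibly after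
composing with the inverse transpose -/
theorem core (hm : 1 ≤ m) (α : MulAut (Matrix.ProjectiveSpecialLinearGroup (Fin (m + 2)) F)) :
    α ∈ (Phi (ι := Fin (m + 2)) (F := F)).range ∨
      tauAut * α ∈ (Phi (ι := Fin (m + 2)) (F := F)).range := by
  rcases map_Cb_ee p α 0 with h | ⟨f, hf, h⟩
  · exact Or.inl (mem_range_Phi_of_Cb p hm α h)
  · right
    apply mem_range_Phi_of_Cb p hm
    refine ⟨f, hf, ?_⟩
    have : (tauAut * α).toMonoidHom = (tauAut (ι := Fin (m + 2)) (F := F)).toMonoidHom.comp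
        α.toMonoidHom := rfl
    rw [this, ← Subgroup.map_map, h, map_tauAut_Ab p hf]

end core

end Cfsg.Agent.Helper2.PN
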