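import Mathlib
import Cfsg.Prelude.Def_LieTypeDatum
import Cfsg.Agent.Lib.Helper2.Psln13

set_option autoImplicit false

namespace Cfsg.Agent.Helper2.PN

open Matrix Matrix.SpecialLinearGroup
open scoped MatrixGroups

section preds

variable {n : ℕ} {F : Type*} [Field F]

theorem isInducedBySemilinear_Phi (g : GL (Fin n) F) (σ : RingAut F) :
    Cfsg.IsInducedBySemilinearPSL g σ (Phi ⟨g, σ⟩) := by
  intro s s' h
  change Phi ⟨g, σ⟩ (mkn s) = mkn s'
  rw [Phi_mk]
  congr 1
  apply Subtype.ext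
  rw [conjSL_coe, fieldSLHom_coe', h]

theorem isInnerDiagonal_Phi (g : GL (Fin n) F) :
    Cfsg.IsInnerDiagonalAutPSL (Phi ⟨g, (1 : RingAut F)⟩) := by
  refine ⟨g, fun s s' h => ?_⟩
  change Phi ⟨g, 1⟩ (mkn s) = mkn s'
  rw [Phi_mk]
  congr 1
  apply Subtype.ext
  rw [conjSL_coe, map_one, MulAut.one_apply, h]

theorem isStdField_Phi (σ : RingAut F) :
    Cfsg.IsStdFieldAutPSL σ (Phi (ι := Fin n) ⟨1, σ⟩) := by
  intro s s' h
  change Phi ⟨1, σ⟩ (mkn s) = mkn s'
  rw [Phi_mk]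
  congr 1
  apply Subtype.ext
  rw [conjSL_coe, fieldSLHom_coe', h]
  simp

theorem isInverseTranspose_tauAut :
    Cfsg.IsInverseTransposeAutPSL (tauAut (ι := Fin n) (F := F)) := by
  intro s s' h
  change tauAut (mkn s) = mkn s'
  rw [tauAut_mk]
  congr 1
  apply Subtype.ext
  rw [invTr_apply, trSL_coe, h]

end preds

section form

variable {F : Type*} [Field F] [Fintype F] (p : ℕ) [Fact p.Prime] [CharP F p]

include p in
/-- the form of the automorphisms of `PSL_n`, all `n ≥ 2` -/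
theorem aut_form {n : ℕ} (hn : 2 ≤ n)
    (α : MulAut (Matrix.ProjectiveSpecialLinearGroup (Fin n) F)) :
    α ∈ (Phi (ι := Fin n) (F := F)).range ∨
      (3 ≤ n ∧ tauAut * α ∈ (Phi (ι := Fin n) (F := F)).range) := by
  obtain ⟨m, rfl⟩ := Nat.exists_eq_add_of_le' hn
  rcases Nat.eq_zero_or_pos m with rfl | hm
  · left
    exact Cfsg.Agent.Helper2.PA.Phi_surjective p α
  · rcases core p hm α with h | h
    · exact Or.inl h
    · exact Or.inr ⟨by omega, h⟩

end form

end Cfsg.Agent.Helper2.PN
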