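import Mathlib
import Cfsg.Agent.Lib.Helper2.Psln14

set_option autoImplicit false

namespace Cfsg.Agent.Helper2.PN

open Matrix Matrix.SpecialLinearGroup
open scoped MatrixGroups

section kernel

variable {ι : Type*} [Fintype ι] [DecidableEq ι] {F : Type*} [Field F]

theorem conjSL_mul_eq (g : GL ι F) (x : Matrix.SpecialLinearGroup ι F) :
    (conjSL g x).1 * g.1 = g.1 * x.1 := by
  rw [conjSL_coe, Matrix.mul_assoc, Units.inv_mul, Matrix.mul_one]

theorem conjSL_toGL (s x : Matrix.SpecialLinearGroup ι F) : conjSL (toGL s) x = s * x * s⁻¹ := by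
  apply Subtype.ext
  rw [conjSL_coe, ← map_inv, coe_GL_coe_matrix, coe_GL_coe_matrix, coe_mul, coe_mul]

/-- inner automorphisms lie in the image of `Phi` -/
theorem Phi_toGL (s : Matrix.SpecialLinearGroup ι F) :
    Phi ⟨toGL s, 1⟩ = MulAut.conj (mkn s) := by
  refine MulEquiv.ext fun x => ?_
  obtain ⟨x, rfl⟩ := mkn_surjective x
  rw [Phi_mk, map_one, MulAut.one_apply, conjSL_toGL, MulAut.conj_apply, map_mul, map_mul, map_inv]

theorem conjSL_of_mem_center {g : GL ι F} (hg : g ∈ Subgroup.center (GL ι F))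
    (x : Matrix.SpecialLinearGroup ι F) : conjSL g x = x := by
  apply Subtype.ext
  have h1 := Subgroup.mem_center_iff.mp hg (toGL x)
  have h2 : x.1 * g.1 = g.1 * x.1 := by
    have := congrArg Units.val h1
    rwa [Units.val_mul, Units.val_mul, coe_GL_coe_matrix] at this
  rw [conjSL_coe, ← h2, Matrix.mul_assoc, Units.mul_inv, Matrix.mul_one]

theorem Phi_of_mem_center {g : GL ι F} (hg : g ∈ Subgroup.center (GL ι F)) :
    Phi (⟨g, 1⟩ : GamL ι F) = 1 := by
  refine MulEquiv.ext fun x => ?_
  obtain ⟨x, rfl⟩ := mkn_surjective x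
  rw [Phi_mk, map_one, MulAut.one_apply, conjSL_of_mem_center hg, MulAut.one_apply]

variable (p : ℕ) [CharP F p]

theorem transvection_pow_p {i j : ι} (hij : i ≠ j) (c : F) : (transvection hij c) ^ p = 1 := by
  rw [transvection_eq_tv]
  exact pow_eq_one_of_mem_Tc p (tv_mem_Tc _ _ _)

variable [Fact p.Prime] [Nontrivial ι]

include p in
/-- the kernel of the action consists of scalar matrices with trivial field automorphism -/
theorem of_Phi_eq_one_n (g : GL ι F) (σ : RingAut F) (h : Phi (⟨g, σ⟩ : GamL ι F) = 1) :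
    σ = 1 ∧ g ∈ Subgroup.center (GL ι F) := by
  have : Nonempty ι := inferInstance
  have key : ∀ {i j : ι} (hij : i ≠ j) (c : F),
      g.1 * (transvection hij (σ c)).1 = (transvection hij c).1 * g.1 := by
    intro i j hij c
    have h1 := DFunLike.congr_fun h (mkn (transvection hij c))
    rw [MulAut.one_apply, Phi_mk, fieldSLHom_transvection] at h1
    have h2 : conjSL g (transvection hij (σ c)) = transvection hij c := by
      apply eq_of_mkn_eq_of_pow p _ _ 1 ?_ ?_ h1
      · rw [pow_one, ← map_pow, transvection_pow_p, map_one]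
      · rw [pow_one, transvection_pow_p]
    rw [← h2, conjSL_mul_eq]
  have hsc : g.1 ∈ Set.range (Matrix.scalar ι) := by
    apply mem_range_scalar_of_commute_single
    intro i j hij
    have := key hij 1
    rw [map_one, transvection_coe, Matrix.mul_add, Matrix.add_mul, Matrix.mul_one,
      Matrix.one_mul] at this
    exact (add_left_cancel this).symm
  refine ⟨?_, Matrix.GeneralLinearGroup.mem_center_iff_val_mem_range_scalar.mpr hsc⟩
  obtain ⟨r, hr⟩ := hsc
  have hr0 : r ≠ 0 := by
    rintro rfl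
    rw [map_zero] at hr
    have h1 : g.1 * (g⁻¹).1 = 1 := Units.mul_inv g
    rw [← hr, Matrix.zero_mul] at h1
    obtain ⟨i⟩ := ‹Nonempty ι›
    have := congrFun (congrFun h1 i) i
    simp at this
  obtain ⟨i, j, hij⟩ := exists_pair_ne ι
  ext c
  have := key hij c
  rw [← hr, transvection_coe, transvection_coe, Matrix.mul_add, Matrix.add_mul, Matrix.mul_one,
    Matrix.one_mul] at this
  have h4 : (Matrix.scalar ι r) * single i j (σ c) = single i j c * (Matrix.scalar ι r) :=
    add_left_cancel this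
  have h3 := congrFun (congrFun h4 i) j
  rw [Matrix.scalar_apply, Matrix.diagonal_mul, Matrix.mul_diagonal, Matrix.single_apply_same,
    Matrix.single_apply_same] at h3
  rw [RingAut.one_apply]
  have : r * (σ c - c) = 0 := by linear_combination h3
  exact sub_eq_zero.mp ((mul_eq_zero.mp this).resolve_left hr0)

include p in
theorem ker_Phi_eq :
    (Phi (ι := ι) (F := F)).ker = (Subgroup.center (GL ι F)).map SemidirectProduct.inl := by
  ext x
  rw [MonoidHom.mem_ker, Subgroup.mem_map]
  constructor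
  · intro h
    obtain ⟨g, σ⟩ := x
    obtain ⟨rfl, hg⟩ := of_Phi_eq_one_n p g σ h
    exact ⟨g, hg, rfl⟩
  · rintro ⟨g, hg, rfl⟩
    exact Phi_of_mem_center hg

end kernel

section tau

variable {m : ℕ} {F : Type*} [Field F] (p : ℕ) [Fact p.Prime] [CharP F p]

include p in
/-- the image of the first basis vector under a semilinear map inducing the inverse transpose
would be supported on every single index other than `0` -/
theorem tau_aux (g : GL (Fin (m + 2)) F) (σ : RingAut F)
    (h : Phi (⟨g, σ⟩ : GamL (Fin (m + 2)) F) = tauAut) {j : Fin (m + 2)} (hj : (0 : Fin (m + 2)) ≠ j)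
    {a : Fin (m + 2)} (ha : a ≠ j) : (g.1 *ᵥ (ee 0 : Fin (m + 2) → F)) a = 0 := by
  have h1 := DFunLike.congr_fun h (mkn (transvection hj 1))
  rw [Phi_mk, fieldSLHom_transvection, map_one, tauAut_mk] at h1
  have h2 : conjSL g (transvection hj (1 : F)) = invTr (transvection hj 1) := by
    apply eq_of_mkn_eq_of_pow p _ _ 1 ?_ ?_ h1
    · rw [pow_one, ← map_pow, transvection_pow_p, map_one]
    · rw [pow_one, ← map_pow, transvection_pow_p, map_one]
  have h3 : (conjSL g (transvection hj (1 : F))).1 = (invTr (transvection hj (1 : F))).1 := by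
    rw [h2]
  rw [transvection_eq_tv, invTr_tv, conjSL_coe, tv_coe, tv_coe,
    conj_one_add _ _ (Units.mul_inv g)] at h3
  have h4 := add_left_cancel h3
  have e1 := congrFun (congrFun h4 j) 0
  have e2 := congrFun (congrFun h4 a) 0
  rw [vecMulVec_apply, vecMulVec_apply] at e1 e2
  rw [Pi.single_eq_same, Pi.neg_apply, Pi.single_eq_same] at e1
  rw [Pi.single_eq_of_ne ha, zero_mul] at e2
  have hne : ((Pi.single j (1 : F) : Fin (m + 2) → F) ᵥ* ((g⁻¹ : GL (Fin (m + 2)) F) :
      Matrix (Fin (m + 2)) (Fin (m + 2)) F)) 0 ≠ 0 := by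
    intro h0
    rw [h0, mul_zero] at e1
    have : (1 : F) = 0 := by linear_combination e1
    exact one_ne_zero this
  exact (mul_eq_zero.mp e2).resolve_right hne

include p in
/-- the inverse transpose automorphism is not induced by a semilinear map when `n ≥ 3` -/
theorem tauAut_not_mem_range (hm : 1 ≤ m) :
    (tauAut : MulAut (Matrix.ProjectiveSpecialLinearGroup (Fin (m + 2)) F)) ∉
      (Phi (ι := Fin (m + 2)) (F := F)).range := by
  rintro ⟨⟨g, σ⟩, h⟩
  obtain ⟨k, h0k, hk1⟩ := Cfsg.Agent.Helper2.exists_third (ι := Fin (m + 2))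
    (by rw [Fintype.card_fin]; omega) 0 1
  have h01 : (0 : Fin (m + 2)) ≠ 1 := Fin.zero_ne_one
  have hz : g.1 *ᵥ (ee 0 : Fin (m + 2) → F) = 0 := by
    funext a
    by_cases ha : a = 1
    · subst ha
      exact tau_aux p g σ h h0k hk1.symm
    · exact tau_aux p g σ h h01 ha
  have h2 : (ee 0 : Fin (m + 2) → F) = 0 := by
    have : ((g⁻¹ : GL (Fin (m + 2)) F) : Matrix (Fin (m + 2)) (Fin (m + 2)) F) *ᵥ
        (g.1 *ᵥ (ee 0 : Fin (m + 2) → F)) = ((g⁻¹ : GL (Fin (m + 2)) F) :
        Matrix (Fin (m + 2)) (Fin (m + 2)) F) *ᵥ 0 := by rw [hz]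
    rwa [mulVec_mulVec, Units.inv_mul, one_mulVec, mulVec_zero] at this
  exact ee_ne_zero 0 h2

end tau

section card

variable {F : Type*} [Field F] [Fintype F] (p : ℕ) [Fact p.Prime] [CharP F p]

theorem tauAut_inv {ι : Type*} [Fintype ι] [DecidableEq ι] :
    (tauAut : MulAut (Matrix.ProjectiveSpecialLinearGroup ι F))⁻¹ = tauAut :=
  inv_eq_of_mul_eq_one_left tauAut_mul_self

include p in
theorem index_range_Phi {m : ℕ} (hm : 1 ≤ m) :
    (Phi (ι := Fin (m + 2)) (F := F)).range.index = 2 := by
  rw [Subgroup.index_eq_two_iff]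
  refine ⟨tauAut, fun b => ?_⟩
  by_cases hb : b ∈ (Phi (ι := Fin (m + 2)) (F := F)).range
  · refine Or.inr ⟨hb, fun h => ?_⟩
    apply tauAut_not_mem_range (F := F) p hm
    have := Subgroup.mul_mem _ (Subgroup.inv_mem _ hb) h
    rwa [inv_mul_cancel_left] at this
  · refine Or.inl ⟨?_, hb⟩
    rcases core p hm b⁻¹ with h | h
    · exact absurd (by simpa using Subgroup.inv_mem _ h) hb
    · have := Subgroup.inv_mem _ h
      rwa [_root_.mul_inv_rev, inv_inv, tauAut_inv] at this

include p in
theorem card_range_Phi {n : ℕ} (hn : 2 ≤ n) :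
    Nat.card (Phi (ι := Fin n) (F := F)).range =
      Nat.card (RingAut F) * Nat.card (Matrix.ProjGenLinGroup (Fin n) F) := by
  have : Nontrivial (Fin n) := Fin.nontrivial_iff_two_le.mpr hn
  have h1 := Subgroup.card_mul_index (Phi (ι := Fin n) (F := F)).ker
  rw [Subgroup.index_ker, SemidirectProduct.card, ker_Phi_eq p,
    Subgroup.card_map_of_injective SemidirectProduct.inl_injective] at h1
  have h2 : Nat.card (GL (Fin n) F) =
      Nat.card (Matrix.ProjGenLinGroup (Fin n) F) * Nat.card (Subgroup.center (GL (Fin n) F)) :=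
    Subgroup.card_eq_card_quotient_mul_card_subgroup _
  have hpos : 0 < Nat.card (Subgroup.center (GL (Fin n) F)) := Nat.card_pos
  apply Nat.eq_of_mul_eq_mul_left hpos
  rw [h1, h2]
  ring

end card

end Cfsg.Agent.Helper2.PN
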