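import Mathlib
import Cfsg.Agent.Lib.Helper2.Psln15

set_option autoImplicit false

namespace Cfsg.Agent.Helper2.PN

open Matrix Matrix.SpecialLinearGroup
open scoped MatrixGroups

section commutation

variable {ι : Type*} [Fintype ι] [DecidableEq ι] {F : Type*} [Field F]

/-- inverse transpose on `GL` -/
def gT (g : GL ι F) : GL ι F :=
  ⟨((g⁻¹ : GL ι F) : Matrix ι ι F)ᵀ, (g : Matrix ι ι F)ᵀ,
    by rw [← Matrix.transpose_mul, Units.mul_inv, Matrix.transpose_one],
    by rw [← Matrix.transpose_mul, Units.inv_mul, Matrix.transpose_one]⟩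

theorem gT_coe (g : GL ι F) : ((gT g : GL ι F) : Matrix ι ι F) = ((g⁻¹ : GL ι F) : Matrix ι ι F)ᵀ :=
  rfl

theorem gT_inv_coe (g : GL ι F) :
    (((gT g)⁻¹ : GL ι F) : Matrix ι ι F) = (g : Matrix ι ι F)ᵀ := rfl

theorem invTr_coe (x : Matrix.SpecialLinearGroup ι F) : (invTr x).1 = (x⁻¹).1ᵀ := rfl

theorem invTr_conjSL (g : GL ι F) (z : Matrix.SpecialLinearGroup ι F) :
    invTr (conjSL g z) = conjSL (gT g) (invTr z) := by
  apply Subtype.ext
  rw [invTr_coe, ← map_inv, conjSL_coe, conjSL_coe, gT_coe, gT_inv_coe, invTr_coe,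
    Matrix.transpose_mul, Matrix.transpose_mul, Matrix.mul_assoc]

theorem invTr_fieldSLHom (σ : RingAut F) (w : Matrix.SpecialLinearGroup ι F) :
    invTr (fieldSLHom σ w) = fieldSLHom σ (invTr w) := by
  apply Subtype.ext
  rw [invTr_coe, ← map_inv, fieldSLHom_coe', fieldSLHom_coe', invTr_coe, Matrix.transpose_map]

/-- conjugating a semilinear automorphism by the inverse transpose -/
theorem tauAut_mul_Phi_mul_tauAut (g : GL ι F) (σ : RingAut F) :
    tauAut * Phi (⟨g, σ⟩ : GamL ι F) * tauAut = Phi ⟨gT g, σ⟩ := by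
  refine MulEquiv.ext fun x => ?_
  obtain ⟨x, rfl⟩ := mkn_surjective x
  rw [MulAut.mul_apply, MulAut.mul_apply, tauAut_mk, Phi_mk, tauAut_mk, Phi_mk, invTr_conjSL,
    invTr_fieldSLHom, invTr_invTr]

end commutation

section extend

variable {A B : Type*} [Group A] [Group B] (R : Subgroup A) (hR : R.index = 2) (τ : A)
  (hτ : τ ∉ R)

include hR hτ in
theorem mul_tau_mem {a : A} (ha : a ∉ R) : a * τ ∈ R := by
  rw [Subgroup.mul_mem_iff_of_index_two hR]
  exact ⟨fun h => absurd h ha, fun h => absurd h hτ⟩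

include hR hτ in
theorem mul_not_mem_of_mem_of_not_mem {a b : A} (ha : a ∈ R) (hb : b ∉ R) : a * b ∉ R := by
  rw [Subgroup.mul_mem_iff_of_index_two hR]
  exact fun h => hb (h.mp ha)

include hR hτ in
theorem mul_not_mem_of_not_mem_of_mem {a b : A} (ha : a ∉ R) (hb : b ∈ R) : a * b ∉ R := by
  rw [Subgroup.mul_mem_iff_of_index_two hR]
  exact fun h => ha (h.mpr hb)

include hR hτ in
theorem mul_mem_of_not_mem_of_not_mem {a b : A} (ha : a ∉ R) (hb : b ∉ R) : a * b ∈ R := by
  rw [Subgroup.mul_mem_iff_of_index_two hR]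
  exact ⟨fun h => absurd h ha, fun h => absurd h hb⟩

open Classical in
/-- the component in the index two subgroup -/
noncomputable def sec (a : A) : R :=
  if h : a ∈ R then ⟨a, h⟩ else ⟨a * τ, mul_tau_mem R hR τ hτ h⟩

theorem sec_of_mem {a : A} (h : a ∈ R) : sec R hR τ hτ a = ⟨a, h⟩ := by
  rw [sec, dif_pos h]

theorem sec_of_not_mem {a : A} (h : a ∉ R) :
    sec R hR τ hτ a = ⟨a * τ, mul_tau_mem R hR τ hτ h⟩ := by
  rw [sec, dif_neg h]

variable (hτ2 : τ * τ = 1) (ρ : R →* B)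
  (hρ : ∀ (r : R) (h : τ * r * τ ∈ R), ρ ⟨τ * r * τ, h⟩ = ρ r)

include hτ2 hρ in
theorem rho_sec_mul (a b : A) :
    ρ (sec R hR τ hτ (a * b)) = ρ (sec R hR τ hτ a) * ρ (sec R hR τ hτ b) := by
  have hN : R.Normal := Subgroup.normal_of_index_eq_two hR
  have hτinv : τ⁻¹ = τ := inv_eq_of_mul_eq_one_left hτ2
  have hconj : ∀ r : A, r ∈ R → τ * r * τ ∈ R := by
    intro r hr
    have := hN.conj_mem r hr τ
    rwa [hτinv] at this
  by_cases ha : a ∈ R
  · by_cases hb : b ∈ R
    · rw [sec_of_mem R hR τ hτ ha, sec_of_mem R hR τ hτ hb,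
        sec_of_mem R hR τ hτ (R.mul_mem ha hb), ← map_mul]
      rfl
    · rw [sec_of_mem R hR τ hτ ha, sec_of_not_mem R hR τ hτ hb,
        sec_of_not_mem R hR τ hτ (mul_not_mem_of_mem_of_not_mem R hR τ hτ ha hb), ← map_mul]
      congr 1
      apply Subtype.ext
      exact mul_assoc a b τ
  · by_cases hb : b ∈ R
    · rw [sec_of_not_mem R hR τ hτ ha, sec_of_mem R hR τ hτ hb,
        sec_of_not_mem R hR τ hτ (mul_not_mem_of_not_mem_of_mem R hR τ hτ ha hb),
        ← hρ ⟨b, hb⟩ (hconj b hb), ← map_mul]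
      congr 1
      apply Subtype.ext
      change a * b * τ = a * τ * (τ * b * τ)
      calc a * b * τ = a * (τ * τ) * b * τ := by rw [hτ2, mul_one]
        _ = a * τ * (τ * b * τ) := by simp only [mul_assoc]
    · have hbτ := mul_tau_mem R hR τ hτ hb
      rw [sec_of_not_mem R hR τ hτ ha, sec_of_not_mem R hR τ hτ hb,
        sec_of_mem R hR τ hτ (mul_mem_of_not_mem_of_not_mem R hR τ hτ ha hb),
        ← hρ ⟨b * τ, hbτ⟩ (hconj _ hbτ), ← map_mul]
      congr 1
      apply Subtype.ext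
      change a * b = a * τ * (τ * (b * τ) * τ)
      calc a * b = a * (τ * τ) * b * (τ * τ) := by rw [hτ2, mul_one, mul_one]
        _ = a * τ * (τ * (b * τ) * τ) := by simp only [mul_assoc]

open Classical in
/-- extension of a homomorphism from an index two subgroup with an involutory complement -/
noncomputable def extend : A →* B × Multiplicative (ZMod 2) where
  toFun a := (ρ (sec R hR τ hτ a), if a ∈ R then 1 else Multiplicative.ofAdd 1)
  map_one' := by
    rw [sec_of_mem R hR τ hτ R.one_mem, if_pos R.one_mem]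
    exact Prod.ext (map_one ρ) rfl
  map_mul' a b := by
    apply Prod.ext
    · exact rho_sec_mul R hR τ hτ hτ2 ρ hρ a b
    · change (if a * b ∈ R then (1 : Multiplicative (ZMod 2)) else Multiplicative.ofAdd 1) =
        (if a ∈ R then 1 else Multiplicative.ofAdd 1) *
          (if b ∈ R then 1 else Multiplicative.ofAdd 1)
      by_cases ha : a ∈ R
      · by_cases hb : b ∈ R
        · rw [if_pos ha, if_pos hb, if_pos (R.mul_mem ha hb), mul_one]
        · rw [if_pos ha, if_neg hb, if_neg (mul_not_mem_of_mem_of_not_mem R hR τ hτ ha hb),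
            one_mul]
      · by_cases hb : b ∈ R
        · rw [if_neg ha, if_pos hb, if_neg (mul_not_mem_of_not_mem_of_mem R hR τ hτ ha hb),
            mul_one]
        · rw [if_neg ha, if_neg hb, if_pos (mul_mem_of_not_mem_of_not_mem R hR τ hτ ha hb)]
          rfl

theorem extend_of_mem {a : A} (h : a ∈ R) :
    extend R hR τ hτ hτ2 ρ hρ a = (ρ ⟨a, h⟩, 1) := by
  change (ρ (sec R hR τ hτ a), _) = _
  rw [sec_of_mem R hR τ hτ h, if_pos h]

theorem extend_of_not_mem {a : A} (h : a ∉ R) :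
    extend R hR τ hτ hτ2 ρ hρ a =
      (ρ ⟨a * τ, mul_tau_mem R hR τ hτ h⟩, Multiplicative.ofAdd 1) := by
  change (ρ (sec R hR τ hτ a), _) = _
  rw [sec_of_not_mem R hR τ hτ h, if_neg h]

end extend

section out

variable {m : ℕ} {F : Type*} [Field F] [Fintype F] (p : ℕ) [Fact p.Prime] [CharP F p]

include p in
theorem ker_rangeRestrict_le :
    (Phi (ι := Fin (m + 2)) (F := F)).rangeRestrict.ker ≤
      (SemidirectProduct.rightHom : GamL (Fin (m + 2)) F →* RingAut F).ker := by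
  have : Nontrivial (Fin (m + 2)) := Fin.nontrivial_iff_two_le.mpr (by omega)
  rw [MonoidHom.ker_rangeRestrict]
  rintro ⟨g, σ⟩ h
  rw [MonoidHom.mem_ker] at h ⊢
  exact (of_Phi_eq_one_n p g σ h).1

/-- the field automorphism part on the image of the semilinear group -/
noncomputable def rhoR : (Phi (ι := Fin (m + 2)) (F := F)).range →* RingAut F :=
  (Phi (ι := Fin (m + 2)) (F := F)).rangeRestrict.liftOfSurjective
    (MonoidHom.rangeRestrict_surjective _) ⟨SemidirectProduct.rightHom, ker_rangeRestrict_le p⟩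

theorem rhoR_Phi (x : GamL (Fin (m + 2)) F) (h : Phi x ∈ (Phi (ι := Fin (m + 2)) (F := F)).range) :
    rhoR p ⟨Phi x, h⟩ = x.right :=
  MonoidHom.liftOfRightInverse_comp_apply _ _ _ _ x

theorem rhoR_conj (r : (Phi (ι := Fin (m + 2)) (F := F)).range)
    (h : tauAut * (r : MulAut (Matrix.ProjectiveSpecialLinearGroup (Fin (m + 2)) F)) * tauAut ∈
      (Phi (ι := Fin (m + 2)) (F := F)).range) :
    rhoR p ⟨tauAut * (r : MulAut (Matrix.ProjectiveSpecialLinearGroup (Fin (m + 2)) F)) * tauAut, h⟩ =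
      rhoR p r := by
  obtain ⟨_, ⟨g, σ⟩, rfl⟩ := r
  have h1 : (⟨tauAut * Phi (⟨g, σ⟩ : GamL (Fin (m + 2)) F) * tauAut, h⟩ :
      (Phi (ι := Fin (m + 2)) (F := F)).range) = ⟨Phi ⟨gT g, σ⟩, ⟨_, rfl⟩⟩ :=
    Subtype.ext (tauAut_mul_Phi_mul_tauAut g σ)
  rw [h1]
  exact (rhoR_Phi p ⟨gT g, σ⟩ _).trans (rhoR_Phi p ⟨g, σ⟩ _).symm

variable (hm : 1 ≤ m)

/-- the field and graph parts of an automorphism of `PSL_n`, `n ≥ 3` -/
noncomputable def piAut2 :
    MulAut (Matrix.ProjectiveSpecialLinearGroup (Fin (m + 2)) F) →*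
      RingAut F × Multiplicative (ZMod 2) :=
  extend (Phi (ι := Fin (m + 2)) (F := F)).range (index_range_Phi p hm) tauAut
    (tauAut_not_mem_range p hm) tauAut_mul_self (rhoR p) (rhoR_conj p)

theorem piAut2_Phi (x : GamL (Fin (m + 2)) F) : piAut2 p hm (Phi x) = (x.right, 1) := by
  have hx : Phi x ∈ (Phi (ι := Fin (m + 2)) (F := F)).range := ⟨x, rfl⟩
  rw [piAut2, extend_of_mem _ _ _ _ _ _ _ hx, rhoR_Phi]

theorem piAut2_tauAut : piAut2 (F := F) p hm tauAut = (1, Multiplicative.ofAdd 1) := by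
  rw [piAut2, extend_of_not_mem _ _ _ _ _ _ _ (tauAut_not_mem_range p hm)]
  congr 1
  have : (⟨tauAut * tauAut, mul_tau_mem _ (index_range_Phi p hm) tauAut
      (tauAut_not_mem_range p hm) (tauAut_not_mem_range p hm)⟩ :
      (Phi (ι := Fin (m + 2)) (F := F)).range) = 1 := Subtype.ext tauAut_mul_self
  rw [this, map_one]

theorem piAut2_eq_one_iff (α : MulAut (Matrix.ProjectiveSpecialLinearGroup (Fin (m + 2)) F)) :
    piAut2 p hm α = 1 ↔ ∃ g : GL (Fin (m + 2)) F, α = Phi ⟨g, 1⟩ := by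
  constructor
  · intro h
    by_cases hα : α ∈ (Phi (ι := Fin (m + 2)) (F := F)).range
    · obtain ⟨⟨g, σ⟩, rfl⟩ := hα
      rw [piAut2_Phi] at h
      have : σ = 1 := congrArg Prod.fst h
      subst this
      exact ⟨g, rfl⟩
    · rw [piAut2, extend_of_not_mem _ _ _ _ _ _ _ hα] at h
      have : Multiplicative.ofAdd (1 : ZMod 2) = 1 := congrArg Prod.snd h
      exact absurd this (by decide)
  · rintro ⟨g, rfl⟩
    rw [piAut2_Phi]
    rfl

theorem piAut2_conj (g : Matrix.ProjectiveSpecialLinearGroup (Fin (m + 2)) F) :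
    piAut2 p hm (MulAut.conj g) = 1 := by
  obtain ⟨s, rfl⟩ := mkn_surjective g
  rw [← Phi_toGL, piAut2_Phi]
  rfl

/-- the induced map on the outer automorphism group -/
noncomputable def piOut2 : Cfsg.Out (Matrix.ProjectiveSpecialLinearGroup (Fin (m + 2)) F) →*
    RingAut F × Multiplicative (ZMod 2) :=
  QuotientGroup.lift (Cfsg.Inn (Matrix.ProjectiveSpecialLinearGroup (Fin (m + 2)) F))
    (piAut2 p hm) (by
      rintro _ ⟨g, rfl⟩
      exact piAut2_conj p hm g)

theorem piOut2_mk (α : MulAut (Matrix.ProjectiveSpecialLinearGroup (Fin (m + 2)) F)) :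
    piOut2 p hm (QuotientGroup.mk α) = piAut2 p hm α := rfl

theorem piOut2_surjective : Function.Surjective (piOut2 (F := F) p hm) := by
  rintro ⟨σ, e⟩
  have he : e = 1 ∨ e = Multiplicative.ofAdd 1 := by
    revert e
    decide
  rcases he with rfl | rfl
  · refine ⟨QuotientGroup.mk (Phi ⟨1, σ⟩), ?_⟩
    rw [piOut2_mk, piAut2_Phi]
  · refine ⟨QuotientGroup.mk (Phi ⟨1, σ⟩ * tauAut), ?_⟩
    rw [piOut2_mk, map_mul, piAut2_Phi, piAut2_tauAut]
    apply Prod.ext
    · exact mul_one σ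
    · exact one_mul _

end out

end Cfsg.Agent.Helper2.PN
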