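import Mathlib
import Cfsg.Agent.Lib.Helper2.Psln16

set_option autoImplicit false

namespace Cfsg.Agent.Helper2.PN

open Matrix Matrix.SpecialLinearGroup
open scoped MatrixGroups

section dets

variable {ι : Type*} [Fintype ι] [DecidableEq ι] {F : Type*} [Field F]

theorem det_toGL (s : Matrix.SpecialLinearGroup ι F) :
    Matrix.GeneralLinearGroup.det (toGL s) = 1 := by
  apply Units.ext
  change (s : Matrix ι ι F).det = 1
  exact s.2

/-- two invertible matrices with the same determinant differ by an element of `SL` -/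
theorem exists_SL_of_det (g d : GL ι F)
    (h : Matrix.GeneralLinearGroup.det g = Matrix.GeneralLinearGroup.det d) :
    ∃ s : Matrix.SpecialLinearGroup ι F, g = d * toGL s := by
  have hdet : ((d⁻¹ * g : GL ι F) : Matrix ι ι F).det = 1 := by
    have h1 : Matrix.GeneralLinearGroup.det (d⁻¹ * g) = 1 := by
      rw [map_mul, map_inv, h, inv_mul_cancel]
    exact congrArg Units.val h1
  refine ⟨(⟨_, hdet⟩ : Matrix.SpecialLinearGroup ι F), ?_⟩
  apply Units.ext
  rw [Units.val_mul]
  change _ = _ * ((d⁻¹ * g : GL ι F) : Matrix ι ι F)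
  rw [← Units.val_mul, mul_inv_cancel_left]

theorem Phi_inl_mul (g h : GL ι F) :
    Phi (⟨g * h, 1⟩ : GamL ι F) = Phi ⟨g, 1⟩ * Phi ⟨h, 1⟩ := by
  rw [← map_mul]
  congr 1

end dets

section dg

variable {m : ℕ} {F : Type*} [Field F]

/-- the diagonal matrices `diag(t, 1, …, 1)` -/
def dgHom : Fˣ →* GL (Fin (m + 2)) F :=
  diagGL.comp (MonoidHom.mulSingle (fun _ : Fin (m + 2) => Fˣ) 0)

theorem det_dgHom (t : Fˣ) : Matrix.GeneralLinearGroup.det (dgHom (m := m) t) = t := by
  apply Units.ext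
  change ((dgHom (m := m) t : GL (Fin (m + 2)) F) : Matrix (Fin (m + 2)) (Fin (m + 2)) F).det = t
  change (diagonal (fun i => ((Pi.mulSingle (0 : Fin (m + 2)) t : Fin (m + 2) → Fˣ) i : F))).det = _
  rw [det_diagonal, Finset.prod_eq_single (0 : Fin (m + 2))]
  · rw [Pi.mulSingle_eq_same]
  · intro i _ hi
    rw [Pi.mulSingle_eq_of_ne hi, Units.val_one]
  · intro h
    exact absurd (Finset.mem_univ _) h

end dg

section theta

variable {m : ℕ} {F : Type*} [Field F] [Fintype F] (p : ℕ) [Fact p.Prime] [CharP F p]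

/-- the diagonal automorphisms in the outer automorphism group -/
noncomputable def theta :
    Fˣ →* Cfsg.Out (Matrix.ProjectiveSpecialLinearGroup (Fin (m + 2)) F) :=
  (QuotientGroup.mk' (Cfsg.Inn (Matrix.ProjectiveSpecialLinearGroup (Fin (m + 2)) F))).comp
    ((Phi (ι := Fin (m + 2)) (F := F)).comp ((SemidirectProduct.inl).comp dgHom))

omit [Fintype F] in
theorem theta_apply (d : Fˣ) :
    theta (m := m) d = QuotientGroup.mk (Phi (⟨dgHom d, 1⟩ : GamL (Fin (m + 2)) F)) := rfl

variable (hm : 1 ≤ m)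

theorem range_theta : (theta (m := m) (F := F)).range = (piOut2 p hm).ker := by
  ext x
  rw [MonoidHom.mem_range, MonoidHom.mem_ker]
  constructor
  · rintro ⟨d, rfl⟩
    rw [theta_apply, piOut2_mk, piAut2_Phi]
    rfl
  · intro hx
    obtain ⟨α, rfl⟩ := QuotientGroup.mk_surjective x
    rw [piOut2_mk, piAut2_eq_one_iff] at hx
    obtain ⟨g, rfl⟩ := hx
    set d : Fˣ := Matrix.GeneralLinearGroup.det g with hd
    refine ⟨d, ?_⟩
    obtain ⟨s, hs⟩ := exists_SL_of_det g (dgHom (m := m) d) (by rw [det_dgHom])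
    rw [theta_apply, hs, Phi_inl_mul, Phi_toGL, QuotientGroup.mk_mul]
    have : ((MulAut.conj (mkn s) :
        MulAut (Matrix.ProjectiveSpecialLinearGroup (Fin (m + 2)) F)) :
        Cfsg.Out (Matrix.ProjectiveSpecialLinearGroup (Fin (m + 2)) F)) = 1 :=
      (QuotientGroup.eq_one_iff _).mpr ⟨_, rfl⟩
    rw [this, mul_one]

include p in
theorem ker_theta :
    (theta (m := m) (F := F)).ker = (powMonoidHom (m + 2) : Fˣ →* Fˣ).range := by
  have : Nontrivial (Fin (m + 2)) := Fin.nontrivial_iff_two_le.mpr (by omega)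
  ext d
  rw [MonoidHom.mem_ker, MonoidHom.mem_range, theta_apply, QuotientGroup.eq_one_iff]
  constructor
  · rintro ⟨x, hx⟩
    obtain ⟨s, rfl⟩ := mkn_surjective x
    rw [← Phi_toGL] at hx
    have h1 : Phi (⟨(toGL s)⁻¹ * dgHom d, 1⟩ : GamL (Fin (m + 2)) F) = 1 := by
      rw [Phi_inl_mul, ← hx, ← Phi_inl_mul, inv_mul_cancel]
      exact map_one _
    obtain ⟨-, hc⟩ := of_Phi_eq_one_n p _ _ h1
    rw [Matrix.GeneralLinearGroup.center_eq_range_scalar] at hc
    obtain ⟨z, hz⟩ := hc
    refine ⟨z, ?_⟩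
    have h2 := congrArg Matrix.GeneralLinearGroup.det hz
    rw [Matrix.GeneralLinearGroup.det_scalar, map_mul, map_inv, det_toGL, inv_one, one_mul,
      det_dgHom, Fintype.card_fin] at h2
    rw [powMonoidHom_apply, h2]
  · rintro ⟨z, rfl⟩
    rw [powMonoidHom_apply]
    obtain ⟨s, hs⟩ := exists_SL_of_det (dgHom (m := m) (z ^ (m + 2)))
      (Matrix.GeneralLinearGroup.scalar (Fin (m + 2)) z)
      (by rw [det_dgHom, Matrix.GeneralLinearGroup.det_scalar, Fintype.card_fin])
    refine ⟨mkn s, ?_⟩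
    rw [hs, Phi_inl_mul, Phi_toGL]
    have hsc : Phi (⟨Matrix.GeneralLinearGroup.scalar (Fin (m + 2)) z, 1⟩ :
        GamL (Fin (m + 2)) F) = 1 := by
      apply Phi_of_mem_center
      rw [Matrix.GeneralLinearGroup.center_eq_range_scalar]
      exact ⟨z, rfl⟩
    rw [hsc, one_mul]

end theta

section final

/-- the structure of the outer automorphism group of `PSL_n(q)`, `n ≥ 3` -/
theorem out_psln {F : Type*} [Field F] [Fintype F] {p f n : ℕ} [Fact p.Prime]
    (hF : Fintype.card F = p ^ f) (hn : 3 ≤ n) :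
    ∃ φ : Cfsg.Out (Matrix.ProjectiveSpecialLinearGroup (Fin n) F) →*
        Multiplicative (ZMod f × ZMod 2),
      Function.Surjective φ ∧ IsCyclic φ.ker ∧ Nat.card φ.ker = Nat.gcd n (p ^ f - 1) := by
  have : CharP F p := charP_of_card_eq_prime_pow hF
  obtain ⟨m, rfl⟩ := Nat.exists_eq_add_of_le' (show 2 ≤ n by omega)
  have hm : 1 ≤ m := by omega
  have hcard : Nat.card (RingAut F) = f := Cfsg.Agent.Helper2.OutCongr.card_ringEquiv hF
  subst hcard
  have hcyc : IsCyclic (RingAut F) := Cfsg.Agent.Helper2.PA.isCyclic_ringAut p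
  let ε : RingAut F ≃* Multiplicative (ZMod (Nat.card (RingAut F))) :=
    (zmodCyclicMulEquiv hcyc).symm
  let ε2 : RingAut F × Multiplicative (ZMod 2) ≃*
      Multiplicative (ZMod (Nat.card (RingAut F)) × ZMod 2) :=
    (MulEquiv.prodCongr ε (MulEquiv.refl _)).trans (MulEquiv.prodMultiplicative _ _).symm
  have hker : (ε2.toMonoidHom.comp (piOut2 p hm)).ker = (piOut2 (F := F) p hm).ker := by
    ext x
    simp [MonoidHom.mem_ker]
  refine ⟨ε2.toMonoidHom.comp (piOut2 p hm), ?_, ?_, ?_⟩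
  · exact ε2.surjective.comp (piOut2_surjective p hm)
  · rw [hker, ← range_theta p hm]
    exact isCyclic_of_surjective _ (MonoidHom.rangeRestrict_surjective (theta (m := m) (F := F)))
  · rw [hker, ← range_theta p hm]
    have h1 := Subgroup.card_mul_index (theta (m := m) (F := F)).ker
    rw [Subgroup.index_ker, ker_theta p] at h1
    have h2 := Subgroup.card_mul_index (powMonoidHom (m + 2) : Fˣ →* Fˣ).ker
    rw [Subgroup.index_ker] at h2
    have h3 : Nat.card (powMonoidHom (m + 2) : Fˣ →* Fˣ).ker =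
        Nat.gcd (m + 2) (Fintype.card F - 1) := by
      rw [← Cfsg.Agent.Helper2.card_rootsOfUnity_field (m + 2)]
      congr 1
    have hpos : 0 < Nat.card (powMonoidHom (m + 2) : Fˣ →* Fˣ).range := Nat.card_pos
    rw [← hF, ← h3]
    apply Nat.eq_of_mul_eq_mul_left hpos
    rw [h1, mul_comm, h2]

end final

end Cfsg.Agent.Helper2.PN
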