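import Mathlib
import Cfsg.Agent.Lib.Helper2.Psln17

set_option autoImplicit false

namespace Cfsg.Agent.Helper2.PN

open Matrix Matrix.SpecialLinearGroup
open scoped MatrixGroups

section psi

variable {ι : Type*} [Fintype ι] [DecidableEq ι] {F : Type*} [Field F]

/-- the inner-diagonal automorphisms -/
noncomputable def Psi : GL ι F →* MulAut (Matrix.ProjectiveSpecialLinearGroup ι F) :=
  Phi.comp SemidirectProduct.inl

/-- the standard field automorphisms -/
noncomputable def phiF : RingAut F →* MulAut (Matrix.ProjectiveSpecialLinearGroup ι F) :=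
  Phi.comp SemidirectProduct.inr

theorem Psi_apply (g : GL ι F) : Psi g = Phi (⟨g, 1⟩ : GamL ι F) := rfl

theorem phiF_apply (σ : RingAut F) : phiF (ι := ι) σ = Phi (⟨1, σ⟩ : GamL ι F) := rfl

theorem Phi_eq (g : GL ι F) (σ : RingAut F) : Phi (⟨g, σ⟩ : GamL ι F) = Psi g * phiF σ := by
  rw [Psi_apply, phiF_apply, ← map_mul]
  congr 1
  apply SemidirectProduct.ext
  · simp
  · simp

theorem phiF_mul_Psi (σ : RingAut F) (g : GL ι F) :
    phiF σ * Psi g = Psi (fieldGLHom σ g) * phiF σ := by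
  rw [Psi_apply, phiF_apply, Psi_apply, ← map_mul, ← map_mul]
  congr 1
  apply SemidirectProduct.ext
  · simp
  · simp

theorem tau_mul_Psi (g : GL ι F) : tauAut * Psi g = Psi (gT g) * tauAut := by
  have h := tauAut_mul_Phi_mul_tauAut g (1 : RingAut F)
  rw [← Psi_apply, ← Psi_apply] at h
  rw [← h, mul_assoc, tauAut_mul_self, mul_one]

theorem gT_one : gT (1 : GL ι F) = 1 := by
  apply Units.ext
  rw [gT_coe, inv_one, Units.val_one, Matrix.transpose_one]

theorem tau_mul_phiF (σ : RingAut F) :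
    tauAut * phiF (ι := ι) σ = phiF σ * tauAut := by
  have h := tauAut_mul_Phi_mul_tauAut (1 : GL ι F) σ
  rw [gT_one, ← phiF_apply] at h
  nth_rewrite 2 [← h]
  rw [mul_assoc, tauAut_mul_self, mul_one]

theorem Psi_mk (g : GL ι F) (x : Matrix.SpecialLinearGroup ι F) :
    Psi g (mkn x) = mkn (conjSL g x) := by
  rw [Psi_apply, Phi_mk, map_one, MulAut.one_apply]

theorem phiF_mk (σ : RingAut F) (x : Matrix.SpecialLinearGroup ι F) :
    phiF σ (mkn x) = mkn (fieldSLHom σ x) := by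
  rw [phiF_apply, Phi_mk]
  congr 1
  apply Subtype.ext
  rw [conjSL_coe]
  simp

theorem Psi_toGL (s : Matrix.SpecialLinearGroup ι F) : Psi (toGL s) = MulAut.conj (mkn s) :=
  Phi_toGL s

theorem Psi_of_mem_center {g : GL ι F} (hg : g ∈ Subgroup.center (GL ι F)) : Psi g = 1 :=
  Phi_of_mem_center hg

variable (p : ℕ) [CharP F p] [Fact p.Prime] [Nontrivial ι]

include p in
theorem eq_of_Psi_mul_phiF_eq {g g' : GL ι F} {σ σ' : RingAut F}
    (h : Psi g * phiF σ = Psi g' * phiF σ') : σ = σ' ∧ g'⁻¹ * g ∈ Subgroup.center (GL ι F) := by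
  have h1 : Psi (g'⁻¹ * g) * phiF (ι := ι) (σ * σ'⁻¹) = 1 := by
    rw [map_mul, map_mul, map_inv, map_inv]
    calc (Psi g')⁻¹ * Psi g * (phiF σ * (phiF σ')⁻¹)
        = (Psi g')⁻¹ * (Psi g * phiF σ) * (phiF σ')⁻¹ := by group
      _ = 1 := by rw [h]; group
  rw [← Phi_eq] at h1
  obtain ⟨h2, h3⟩ := of_Phi_eq_one_n p _ _ h1
  exact ⟨mul_inv_eq_one.mp h2, h3⟩

include p in
theorem Psi_eq_one_iff (g : GL ι F) : Psi g = 1 ↔ g ∈ Subgroup.center (GL ι F) := by
  constructor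
  · intro h
    exact (of_Phi_eq_one_n p g 1 h).2
  · exact Psi_of_mem_center

include p in
theorem ker_Psi : (Psi (ι := ι) (F := F)).ker = Subgroup.center (GL ι F) := by
  ext g
  rw [MonoidHom.mem_ker, Psi_eq_one_iff p]

include p in
theorem phiF_injective : Function.Injective (phiF (ι := ι) (F := F)) := by
  intro σ σ' h
  have h1 : Psi (1 : GL ι F) * phiF σ = Psi 1 * phiF σ' := by
    rw [map_one, one_mul, one_mul, h]
  exact (eq_of_Psi_mul_phiF_eq p h1).1

end psi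

section preds

variable {n : ℕ} {F : Type*} [Field F]

theorem eq_phiF_of_isStdField {σ : F ≃+* F}
    {β : MulAut (Matrix.ProjectiveSpecialLinearGroup (Fin n) F)}
    (h : Cfsg.IsStdFieldAutPSL σ β) : β = phiF σ := by
  refine MulEquiv.ext fun x => ?_
  obtain ⟨x, rfl⟩ := mkn_surjective x
  rw [phiF_mk]
  exact h x (fieldSLHom σ x) (fieldSLHom_coe' σ x)

theorem eq_tauAut_of_isInverseTranspose
    {γ : MulAut (Matrix.ProjectiveSpecialLinearGroup (Fin n) F)}
    (h : Cfsg.IsInverseTransposeAutPSL γ) : γ = tauAut := by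
  refine MulEquiv.ext fun x => ?_
  obtain ⟨x, rfl⟩ := mkn_surjective x
  rw [tauAut_mk]
  exact h x (invTr x) rfl

theorem exists_eq_Psi_of_isInnerDiagonal
    {δ : MulAut (Matrix.ProjectiveSpecialLinearGroup (Fin n) F)}
    (h : Cfsg.IsInnerDiagonalAutPSL δ) : ∃ g : GL (Fin n) F, δ = Psi g := by
  obtain ⟨g, hg⟩ := h
  refine ⟨g, MulEquiv.ext fun x => ?_⟩
  obtain ⟨x, rfl⟩ := mkn_surjective x
  rw [Psi_mk]
  exact hg x (conjSL g x) (conjSL_coe g x)

theorem isInnerDiagonal_Psi (g : GL (Fin n) F) : Cfsg.IsInnerDiagonalAutPSL (Psi g) :=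
  isInnerDiagonal_Phi g

theorem inndiag_eq : Cfsg.inndiagPSL n F = (Psi (ι := Fin n) (F := F)).range := by
  unfold Cfsg.inndiagPSL Cfsg.autSubgroupOf
  have : {β : MulAut (Matrix.ProjectiveSpecialLinearGroup (Fin n) F) |
      Cfsg.IsInnerDiagonalAutPSL β} = ((Psi (ι := Fin n) (F := F)).range : Set _) := by
    ext β
    constructor
    · intro h
      obtain ⟨g, rfl⟩ := exists_eq_Psi_of_isInnerDiagonal h
      exact ⟨g, rfl⟩
    · rintro ⟨g, rfl⟩
      exact isInnerDiagonal_Psi g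
  rw [this, Subgroup.closure_eq]

theorem inn_eq {ι : Type*} [Fintype ι] [DecidableEq ι] :
    Cfsg.Inn (Matrix.ProjectiveSpecialLinearGroup ι F) =
      (Psi.comp (toGL : Matrix.SpecialLinearGroup ι F →* GL ι F)).range := by
  ext α
  constructor
  · rintro ⟨x, rfl⟩
    obtain ⟨s, rfl⟩ := mkn_surjective x
    exact ⟨s, Psi_toGL s⟩
  · rintro ⟨s, rfl⟩
    exact ⟨mkn s, (Psi_toGL s).symm⟩

end preds

section cases

variable {F : Type*} [Field F] [Fintype F] (p : ℕ) [Fact p.Prime] [CharP F p]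

include p in
theorem aut_cases {n : ℕ} (hn : 2 ≤ n)
    (α : MulAut (Matrix.ProjectiveSpecialLinearGroup (Fin n) F)) :
    (∃ (g : GL (Fin n) F) (σ : RingAut F), α = Psi g * phiF σ) ∨
      (3 ≤ n ∧ ∃ (g : GL (Fin n) F) (σ : RingAut F), α = Psi g * phiF σ * tauAut) := by
  rcases aut_form p hn α with ⟨⟨g, σ⟩, hx⟩ | ⟨h3, ⟨g, σ⟩, hx⟩
  · left
    exact ⟨g, σ, by rw [← hx, Phi_eq]⟩
  · right
    refine ⟨h3, gT g, σ, ?_⟩
    have h1 : α = tauAut * Phi (⟨g, σ⟩ : GamL (Fin n) F) := by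
      rw [hx, ← mul_assoc, tauAut_mul_self, one_mul]
    rw [h1, Phi_eq, ← mul_assoc, tau_mul_Psi, mul_assoc, tau_mul_phiF, mul_assoc]

include p in
theorem normal_range_Psi {n : ℕ} (hn : 2 ≤ n) :
    ((Psi (ι := Fin n) (F := F)).range).Normal := by
  constructor
  rintro _ ⟨h, rfl⟩ α
  have key : ∀ (g : GL (Fin n) F) (σ : RingAut F) (h : GL (Fin n) F),
      (Psi g * phiF σ) * Psi h * (Psi g * phiF σ)⁻¹ ∈ (Psi (ι := Fin n) (F := F)).range := by
    intro g σ h
    refine ⟨g * fieldGLHom σ h * g⁻¹, ?_⟩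
    rw [map_mul, map_mul, map_inv]
    have h1 := phiF_mul_Psi σ h
    calc Psi g * Psi (fieldGLHom σ h) * (Psi g)⁻¹
        = Psi g * (Psi (fieldGLHom σ h) * phiF σ) * (phiF σ)⁻¹ * (Psi g)⁻¹ := by group
      _ = Psi g * phiF σ * Psi h * (Psi g * phiF σ)⁻¹ := by rw [← h1]; group
  rcases aut_cases p hn α with ⟨g, σ, rfl⟩ | ⟨-, g, σ, rfl⟩
  · exact key g σ h
  · have h1 : Psi g * phiF σ * tauAut * Psi h * (Psi g * phiF σ * tauAut)⁻¹ =
        (Psi g * phiF σ) * Psi (gT h) * (Psi g * phiF σ)⁻¹ := by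
      rw [mul_assoc (Psi g * phiF σ) tauAut, tau_mul_Psi]
      group
    rw [h1]
    exact key g σ (gT h)

end cases

end Cfsg.Agent.Helper2.PN
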