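import Mathlib
import Cfsg.Prelude.Def_LieTypeDatum

set_option autoImplicit false

namespace Cfsg.Agent.Helper2.PN

section split

variable {X Γ : Type*} [Group X] [Group Γ]

theorem isConjUnder_refl (K : Subgroup X) (y : X) : Cfsg.IsConjUnder K y y :=
  ⟨1, K.one_mem, by rw [one_mul, inv_one, mul_one]⟩

theorem isConjUnder_symm (K : Subgroup X) {y z : X} (h : Cfsg.IsConjUnder K y z) :
    Cfsg.IsConjUnder K z y := by
  obtain ⟨k, hk, rfl⟩ := h
  exact ⟨k⁻¹, K.inv_mem hk, by group⟩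

theorem isConjUnder_trans (K : Subgroup X) {y z w : X} (h : Cfsg.IsConjUnder K y z)
    (h' : Cfsg.IsConjUnder K z w) : Cfsg.IsConjUnder K y w := by
  obtain ⟨k, hk, rfl⟩ := h
  obtain ⟨k', hk', rfl⟩ := h'
  exact ⟨k' * k, K.mul_mem hk' hk, by group⟩

/-- the number of `K`-classes in the `π(Γ)`-class of `x` is the index of `π⁻¹(K) π⁻¹(C(x))` -/
theorem splitClassCount_eq_index (π : Γ →* X) (K : Subgroup X) [hKn : K.Normal]
    (hK : K ≤ π.range) (x : X) :
    Cfsg.splitClassCount π.range K x =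
      (K.comap π ⊔ (Subgroup.centralizer {x}).comap π).index := by
  classical
  set L := K.comap π ⊔ (Subgroup.centralizer {x}).comap π with hL
  have hLmem : ∀ a : Γ, a ∈ L ↔ ∃ κ ∈ K.comap π, ∃ c ∈ (Subgroup.centralizer {x}).comap π,
      κ * c = a := by
    intro a
    rw [← SetLike.mem_coe, hL, Subgroup.normal_mul, Set.mem_mul]
    rfl
  unfold Cfsg.splitClassCount
  rw [Subgroup.index_eq_card]
  symm
  set r : {y : X // Cfsg.IsConjUnder π.range x y} → {y : X // Cfsg.IsConjUnder π.range x y} → Prop :=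
    fun y z => Cfsg.IsConjUnder K y.1 z.1 with hr
  have hre : Equivalence r :=
    ⟨fun y => isConjUnder_refl K y.1, fun h => isConjUnder_symm K h,
      fun h h' => isConjUnder_trans K h h'⟩
  let f : Γ → Quot r := fun γ => Quot.mk r ⟨π γ * x * (π γ)⁻¹, ⟨π γ, ⟨γ, rfl⟩, rfl⟩⟩
  have hf : ∀ a b : Γ, a⁻¹ * b ∈ L ↔ f a = f b := by
    intro a b
    constructor
    · intro h
      obtain ⟨κ, hκ, c, hc, hκc⟩ := (hLmem _).mp h
      apply Quot.sound
      refine ⟨π a * π κ * (π a)⁻¹, hKn.conj_mem _ hκ _, ?_⟩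
      have hb : b = a * κ * c := by rw [mul_assoc, hκc, mul_inv_cancel_left]
      have hcx : π c * x * (π c)⁻¹ = x := by
        have := Subgroup.mem_centralizer_singleton_iff.mp (Subgroup.mem_comap.mp hc)
        rw [this, mul_inv_cancel_right]
      change π b * x * (π b)⁻¹ = _
      rw [hb, map_mul, map_mul]
      calc π a * π κ * π c * x * (π a * π κ * π c)⁻¹
          = π a * π κ * (π c * x * (π c)⁻¹) * (π κ)⁻¹ * (π a)⁻¹ := by group
        _ = π a * π κ * (π a)⁻¹ * (π a * x * (π a)⁻¹) * (π a * π κ * (π a)⁻¹)⁻¹ := by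
          rw [hcx]; group
    · intro h
      have h1 : r ⟨π a * x * (π a)⁻¹, ⟨π a, ⟨a, rfl⟩, rfl⟩⟩ ⟨π b * x * (π b)⁻¹, ⟨π b, ⟨b, rfl⟩, rfl⟩⟩ :=
        hre.eqvGen_iff.mp (Quot.eqvGen_exact h)
      obtain ⟨k, hk, hkeq⟩ := h1
      obtain ⟨κ, rfl⟩ := hK hk
      change π b * x * (π b)⁻¹ = π κ * (π a * x * (π a)⁻¹) * (π κ)⁻¹ at hkeq
      have hc : b⁻¹ * κ * a ∈ (Subgroup.centralizer {x}).comap π := by
        rw [Subgroup.mem_comap, Subgroup.mem_centralizer_singleton_iff, map_mul, map_mul, map_inv]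
        calc (π b)⁻¹ * π κ * π a * x
            = (π b)⁻¹ * (π κ * (π a * x * (π a)⁻¹) * (π κ)⁻¹) * (π κ * π a) := by group
          _ = x * ((π b)⁻¹ * π κ * π a) := by rw [← hkeq]; group
      rw [hLmem]
      refine ⟨a⁻¹ * κ * a, ?_, (b⁻¹ * κ * a)⁻¹, Subgroup.inv_mem _ hc, by group⟩
      rw [Subgroup.mem_comap, map_mul, map_mul, map_inv]
      have := hKn.conj_mem _ hk (π a)⁻¹
      rwa [inv_inv] at this
  let Ff : Γ ⧸ L → Quot r := Quotient.lift f (fun a b hab => by
    have : a⁻¹ * b ∈ L := QuotientGroup.leftRel_apply.mp hab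
    exact (hf a b).mp this)
  apply Nat.card_eq_of_bijective Ff
  constructor
  · intro u v huv
    induction u using QuotientGroup.induction_on with
    | H a =>
      induction v using QuotientGroup.induction_on with
      | H b =>
        exact QuotientGroup.eq.mpr ((hf a b).mpr huv)
  · intro y
    induction y using Quot.ind with
    | mk y =>
      obtain ⟨y, h, ⟨γ, rfl⟩, rfl⟩ := y
      exact ⟨(γ : Γ ⧸ L), rfl⟩

end split

section transfer

variable {X : Type*} [Group X]

theorem isConjUnder_conj_iff (K : Subgroup X) [hK : K.Normal] (α y z : X) :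
    Cfsg.IsConjUnder K (α * y * α⁻¹) (α * z * α⁻¹) ↔ Cfsg.IsConjUnder K y z := by
  constructor
  · rintro ⟨k, hk, h⟩
    refine ⟨α⁻¹ * k * α, ?_, ?_⟩
    · have := hK.conj_mem k hk α⁻¹
      rwa [inv_inv] at this
    · have : z = α⁻¹ * (α * z * α⁻¹) * α := by group
      rw [this, h]
      group
  · rintro ⟨k, hk, rfl⟩
    exact ⟨α * k * α⁻¹, hK.conj_mem k hk α, by group⟩

/-- conjugation invariance of the class splitting count -/
theorem splitClassCount_conj (H K : Subgroup X) [hH : H.Normal] [hK : K.Normal] (α x : X) :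
    Cfsg.splitClassCount H K (α * x * α⁻¹) = Cfsg.splitClassCount H K x := by
  unfold Cfsg.splitClassCount
  symm
  let e : {y : X // Cfsg.IsConjUnder H x y} ≃ {y : X // Cfsg.IsConjUnder H (α * x * α⁻¹) y} :=
    { toFun := fun y => ⟨α * y.1 * α⁻¹, (isConjUnder_conj_iff H α x y.1).mpr y.2⟩
      invFun := fun y => ⟨α⁻¹ * y.1 * α, by
        have h1 : y.1 = α * (α⁻¹ * y.1 * α) * α⁻¹ := by group
        have h2 := y.2
        rw [h1] at h2
        exact (isConjUnder_conj_iff H α x _).mp h2⟩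
      left_inv := fun y => by
        apply Subtype.ext
        change α⁻¹ * (α * y.1 * α⁻¹) * α = y.1
        group
      right_inv := fun y => by
        apply Subtype.ext
        change α * (α⁻¹ * y.1 * α) * α⁻¹ = y.1
        group }
  apply Nat.card_congr
  exact Quot.congr e (fun a b => (isConjUnder_conj_iff K α a.1 b.1).symm)

/-- conjugation of the centralizer inside a normal subgroup -/
noncomputable def centralizerInfEquiv (G : Subgroup X) [hG : G.Normal] (α x : X) :
    ↥(G ⊓ Subgroup.centralizer {x}) ≃* ↥(G ⊓ Subgroup.centralizer {α * x * α⁻¹}) :=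
  ((G ⊓ Subgroup.centralizer {x}).equivMapOfInjective ((MulAut.conj α : X ≃* X) : X →* X)
    (MulAut.conj α).injective).trans (MulEquiv.subgroupCongr (by
      ext y
      rw [Subgroup.mem_map, Subgroup.mem_inf, Subgroup.mem_centralizer_singleton_iff]
      constructor
      · rintro ⟨z, hz, rfl⟩
        rw [Subgroup.mem_inf, Subgroup.mem_centralizer_singleton_iff] at hz
        refine ⟨hG.conj_mem z hz.1 α, ?_⟩
        change α * z * α⁻¹ * (α * x * α⁻¹) = α * x * α⁻¹ * (α * z * α⁻¹)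
        calc α * z * α⁻¹ * (α * x * α⁻¹) = α * (z * x) * α⁻¹ := by group
          _ = α * x * α⁻¹ * (α * z * α⁻¹) := by rw [hz.2]; group
      · rintro ⟨h1, h2⟩
        refine ⟨α⁻¹ * y * α, ?_, ?_⟩
        · rw [Subgroup.mem_inf, Subgroup.mem_centralizer_singleton_iff]
          refine ⟨?_, ?_⟩
          · have := hG.conj_mem y h1 α⁻¹
            rwa [inv_inv] at this
          · calc α⁻¹ * y * α * x = α⁻¹ * (y * (α * x * α⁻¹)) * α := by group
              _ = x * (α⁻¹ * y * α) := by rw [h2]; group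
        · change α * (α⁻¹ * y * α) * α⁻¹ = y
          group))

/-- reduction of the coset conjugacy statement to a conjugate -/
theorem isConjUnder_of_core (G : Subgroup X) [hG : G.Normal] (α x δ : X) (r : ℕ)
    (hδ : δ ∈ G)
    (core : ∀ δ₀ ∈ G, orderOf (δ₀ * (α * x * α⁻¹)) = r →
      ∃ k ∈ G, δ₀ * (α * x * α⁻¹) = k * (α * x * α⁻¹) * k⁻¹)
    (h : orderOf (δ * x) = r) : Cfsg.IsConjUnder G x (δ * x) := by
  have h1 : α * δ * α⁻¹ * (α * x * α⁻¹) = α * (δ * x) * α⁻¹ := by group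
  have h2 : orderOf (α * δ * α⁻¹ * (α * x * α⁻¹)) = r := by
    rw [h1, ← h]
    exact (MulAut.conj α).orderOf_eq (δ * x)
  obtain ⟨k, hk, hk'⟩ := core _ (hG.conj_mem δ hδ α) h2
  rw [h1] at hk'
  refine ⟨α⁻¹ * k * α, ?_, ?_⟩
  · have := hG.conj_mem k hk α⁻¹
    rwa [inv_inv] at this
  · calc δ * x = α⁻¹ * (α * (δ * x) * α⁻¹) * α := by group
      _ = α⁻¹ * k * α * x * (α⁻¹ * k * α)⁻¹ := by rw [hk']; group

end transfer

end Cfsg.Agent.Helper2.PN
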