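import Mathlib
import Cfsg.Agent.Lib.Helper2.Psln22
import Cfsg.Agent.Lib.Helper2.Psln23

set_option autoImplicit false

namespace Cfsg.Agent.Helper2.PN

open Matrix Matrix.SpecialLinearGroup
open scoped MatrixGroups

section general

variable {ι : Type*} [Fintype ι] [DecidableEq ι] {F : Type*} [Field F]

theorem det_fieldGLHom (σ : RingAut F) (g : GL ι F) :
    Matrix.GeneralLinearGroup.det (fieldGLHom σ g) =
      Units.map (σ : F →* F) (Matrix.GeneralLinearGroup.det g) := by
  apply Units.ext
  change ((fieldGLHom σ g : GL ι F) : Matrix ι ι F).det = σ ((g : Matrix ι ι F).det)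
  rw [fieldGLHom_coe']
  exact (RingHom.map_det (σ : F →+* F) _).symm

theorem map_det_center :
    (Subgroup.center (GL ι F)).map Matrix.GeneralLinearGroup.det =
      (powMonoidHom (Fintype.card ι) : Fˣ →* Fˣ).range := by
  rw [Matrix.GeneralLinearGroup.center_eq_range_scalar]
  ext t
  constructor
  · rintro ⟨_, ⟨z, rfl⟩, rfl⟩
    exact ⟨z, by rw [powMonoidHom_apply, Matrix.GeneralLinearGroup.det_scalar]⟩
  · rintro ⟨z, rfl⟩
    exact ⟨_, ⟨z, rfl⟩, by rw [powMonoidHom_apply, Matrix.GeneralLinearGroup.det_scalar]⟩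

variable (p : ℕ) [CharP F p] [Fact p.Prime] [Nontrivial ι]

include p in
/-- the preimage of the inner automorphisms: matrices whose determinant is an `n`-th power -/
theorem comap_Psi_inn :
    (Cfsg.Inn (Matrix.ProjectiveSpecialLinearGroup ι F)).comap Psi =
      ((powMonoidHom (Fintype.card ι) : Fˣ →* Fˣ).range).comap Matrix.GeneralLinearGroup.det := by
  ext g
  rw [Subgroup.mem_comap, Subgroup.mem_comap, inn_eq]
  constructor
  · rintro ⟨s, hs⟩
    rw [MonoidHom.comp_apply] at hs
    have h1 : Psi ((toGL s)⁻¹ * g) = 1 := by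
      rw [map_mul, map_inv, hs, inv_mul_cancel]
    have h2 := (Psi_eq_one_iff p _).mp h1
    rw [Matrix.GeneralLinearGroup.center_eq_range_scalar] at h2
    obtain ⟨z, hz⟩ := h2
    refine ⟨z, ?_⟩
    have h3 : g = toGL s * Matrix.GeneralLinearGroup.scalar ι z := by
      rw [hz, mul_inv_cancel_left]
    rw [powMonoidHom_apply, h3, map_mul, det_toGL, one_mul, Matrix.GeneralLinearGroup.det_scalar]
  · rintro ⟨z, hz⟩
    rw [powMonoidHom_apply, ← Matrix.GeneralLinearGroup.det_scalar] at hz
    obtain ⟨s, hs⟩ := exists_SL_of_det g _ hz.symm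
    refine ⟨s, ?_⟩
    have hc : Matrix.GeneralLinearGroup.scalar ι z ∈ Subgroup.center (GL ι F) := by
      rw [Matrix.GeneralLinearGroup.center_eq_range_scalar]
      exact ⟨z, rfl⟩
    rw [MonoidHom.comp_apply, hs, map_mul, Psi_of_mem_center hc, one_mul]

end general

section count

variable {m : ℕ} {F : Type*} [Field F]

theorem det_surjective :
    Function.Surjective (Matrix.GeneralLinearGroup.det : GL (Fin (m + 2)) F →* Fˣ) :=
  fun t => ⟨dgHom t, det_dgHom t⟩

variable (p : ℕ) [CharP F p] [Fact p.Prime]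

include p in
/-- the class-splitting count in terms of determinants -/
theorem splitClassCount_eq (x : MulAut (Matrix.ProjectiveSpecialLinearGroup (Fin (m + 2)) F))
    (C : Subgroup (GL (Fin (m + 2)) F))
    (hC : (Subgroup.centralizer {x}).comap Psi = C) :
    Cfsg.splitClassCount (Cfsg.inndiagPSL (m + 2) F)
      (Cfsg.Inn (Matrix.ProjectiveSpecialLinearGroup (Fin (m + 2)) F)) x =
      ((powMonoidHom (m + 2) : Fˣ →* Fˣ).range ⊔ C.map Matrix.GeneralLinearGroup.det).index := by
  have hK : Cfsg.Inn (Matrix.ProjectiveSpecialLinearGroup (Fin (m + 2)) F) ≤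
      (Psi (ι := Fin (m + 2)) (F := F)).range := by
    rw [inn_eq]
    rintro _ ⟨s, rfl⟩
    exact ⟨toGL s, rfl⟩
  rw [inndiag_eq, splitClassCount_eq_index Psi _ hK x, hC, comap_Psi_inn p, Fintype.card_fin]
  set R := (powMonoidHom (m + 2) : Fˣ →* Fˣ).range with hR
  have hker : (Matrix.GeneralLinearGroup.det : GL (Fin (m + 2)) F →* Fˣ).ker ≤
      R.comap Matrix.GeneralLinearGroup.det ⊔ C := by
    refine le_trans ?_ le_sup_left
    intro g hg
    rw [Subgroup.mem_comap, MonoidHom.mem_ker.mp hg]
    exact R.one_mem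
  rw [← Subgroup.index_map_eq _ det_surjective hker, Subgroup.map_sup,
    Subgroup.map_comap_eq_self_of_surjective det_surjective]

end count

end Cfsg.Agent.Helper2.PN
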