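import Mathlib
import Cfsg.Agent.Lib.Helper2.Psln18
import Cfsg.Agent.Lib.Helper2.Psln20
import Cfsg.Agent.Lib.Helper2.Psln24

set_option autoImplicit false

namespace Cfsg.Agent.Helper2.PN

open Matrix Matrix.SpecialLinearGroup
open scoped MatrixGroups
open Cfsg.Agent.Helper13.FAut (pnorm pnorm_zero pnorm_succ hilbert90 fixedField mem_fixedField
  card_fixedField)

section fieldcase

variable {ι : Type*} [Fintype ι] [DecidableEq ι] {F : Type*} [Field F]

/-- the matrices fixed by a field automorphism -/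
def GLfix (σ : RingAut F) : Subgroup (GL ι F) :=
  MonoidHom.eqLocus ((fieldGLHom σ : MulAut (GL ι F)).toMonoidHom) (MonoidHom.id _)

theorem mem_GLfix (σ : RingAut F) (g : GL ι F) : g ∈ GLfix σ ↔ fieldGLHom σ g = g := Iff.rfl

theorem fieldGLHom_scalar (σ : RingAut F) (u : Fˣ) :
    fieldGLHom σ (Matrix.GeneralLinearGroup.scalar ι u) =
      Matrix.GeneralLinearGroup.scalar ι (Units.map (σ : F →* F) u) := by
  apply Units.ext
  rw [fieldGLHom_coe', Matrix.GeneralLinearGroup.coe_scalar, Matrix.GeneralLinearGroup.coe_scalar]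
  ext i j
  rw [Matrix.map_apply, Matrix.scalar_apply, Matrix.scalar_apply, Matrix.diagonal_apply,
    Matrix.diagonal_apply]
  split_ifs
  · rfl
  · exact map_zero σ

theorem scalar_injective [Nonempty ι] :
    Function.Injective (Matrix.GeneralLinearGroup.scalar ι : Fˣ →* GL ι F) := by
  intro u v h
  obtain ⟨i⟩ := ‹Nonempty ι›
  have h1 := congrArg (fun g : GL ι F => (g : Matrix ι ι F) i i) h
  simp only [Matrix.GeneralLinearGroup.coe_scalar, Matrix.scalar_apply,
    Matrix.diagonal_apply_eq] at h1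
  exact Units.ext h1

theorem scalar_comm' (u : Fˣ) (g : GL ι F) :
    Matrix.GeneralLinearGroup.scalar ι u * g = g * Matrix.GeneralLinearGroup.scalar ι u :=
  Matrix.GeneralLinearGroup.scalar_commute u g

theorem unorm_succ (σ : RingAut F) (i : ℕ) (u : Fˣ) :
    unorm σ (i + 1) u = u * Units.map (σ : F →* F) (unorm σ i u) := by
  apply Units.ext
  rw [unorm_coe, pnorm_succ, Units.val_mul]
  rfl

theorem unorm_zero (σ : RingAut F) (u : Fˣ) : unorm σ 0 u = 1 := by
  apply Units.ext
  rw [unorm_coe, pnorm_zero, Units.val_one]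

/-- iterating a twisted fixed point relation -/
theorem fieldGLHom_pow_of_twist (σ : RingAut F) (g : GL ι F) (μ : Fˣ)
    (h : fieldGLHom σ g = g * Matrix.GeneralLinearGroup.scalar ι μ) (i : ℕ) :
    fieldGLHom (σ ^ i) g = g * Matrix.GeneralLinearGroup.scalar ι (unorm σ i μ) := by
  induction i with
  | zero => rw [pow_zero, map_one, MulAut.one_apply, unorm_zero, map_one, mul_one]
  | succ i ih =>
    rw [pow_succ', map_mul, MulAut.mul_apply, ih, map_mul, h, fieldGLHom_scalar, mul_assoc,
      ← map_mul, unorm_succ]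

/-- partial norms in `GL` -/
def gnorm (σ : RingAut F) (g : GL ι F) : ℕ → GL ι F
  | 0 => 1
  | (i + 1) => g * fieldGLHom σ (gnorm σ g i)

theorem gnorm_zero (σ : RingAut F) (g : GL ι F) : gnorm σ g 0 = 1 := rfl

theorem gnorm_succ (σ : RingAut F) (g : GL ι F) (i : ℕ) :
    gnorm σ g (i + 1) = g * fieldGLHom σ (gnorm σ g i) := rfl

theorem gnorm_coe (σ : RingAut F) (g : GL ι F) (i : ℕ) :
    ((gnorm σ g i : GL ι F) : Matrix ι ι F) = mnorm σ (g : Matrix ι ι F) i := by
  induction i with
  | zero => rfl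
  | succ i ih => rw [gnorm_succ, mnorm_succ, Units.val_mul, fieldGLHom_coe', ih]

theorem gnorm_succ' (σ : RingAut F) (g : GL ι F) (i : ℕ) :
    gnorm σ g (i + 1) = gnorm σ g i * fieldGLHom (σ ^ i) g := by
  induction i with
  | zero => rw [gnorm_succ, gnorm_zero, map_one, mul_one, one_mul, pow_zero, map_one,
      MulAut.one_apply]
  | succ i ih =>
    calc gnorm σ g (i + 1 + 1) = g * fieldGLHom σ (gnorm σ g (i + 1)) := rfl
      _ = g * fieldGLHom σ (gnorm σ g i * fieldGLHom (σ ^ i) g) := by rw [ih]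
      _ = (g * fieldGLHom σ (gnorm σ g i)) * fieldGLHom σ (fieldGLHom (σ ^ i) g) := by
        rw [map_mul, mul_assoc]
      _ = gnorm σ g (i + 1) * fieldGLHom (σ ^ (i + 1)) g := by
        rw [pow_succ', map_mul, MulAut.mul_apply]
        rfl

theorem gnorm_mul_scalar (σ : RingAut F) (g : GL ι F) (u : Fˣ) (i : ℕ) :
    gnorm σ (g * Matrix.GeneralLinearGroup.scalar ι u) i =
      gnorm σ g i * Matrix.GeneralLinearGroup.scalar ι (unorm σ i u) := by
  induction i with
  | zero => rw [gnorm_zero, gnorm_zero, unorm_zero, map_one, mul_one]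
  | succ i ih =>
    rw [gnorm_succ, ih, map_mul, fieldGLHom_scalar, gnorm_succ, unorm_succ, map_mul]
    have h1 := scalar_comm' u (fieldGLHom σ (gnorm σ g i))
    calc g * Matrix.GeneralLinearGroup.scalar ι u * (fieldGLHom σ (gnorm σ g i) *
          Matrix.GeneralLinearGroup.scalar ι (Units.map (σ : F →* F) (unorm σ i u)))
        = g * (Matrix.GeneralLinearGroup.scalar ι u * fieldGLHom σ (gnorm σ g i)) *
          Matrix.GeneralLinearGroup.scalar ι (Units.map (σ : F →* F) (unorm σ i u)) := by group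
      _ = g * fieldGLHom σ (gnorm σ g i) * (Matrix.GeneralLinearGroup.scalar ι u *
          Matrix.GeneralLinearGroup.scalar ι (Units.map (σ : F →* F) (unorm σ i u))) := by
        rw [h1]; group

theorem pow_Psi_mul_phiF (σ : RingAut F) (g : GL ι F) (k : ℕ) :
    (Psi g * phiF σ) ^ k = Psi (gnorm σ g k) * phiF (σ ^ k) := by
  induction k with
  | zero => rw [pow_zero, gnorm_zero, pow_zero, map_one, map_one, one_mul]
  | succ k ih =>
    rw [pow_succ', ih, gnorm_succ, map_mul, pow_succ', map_mul]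
    have h1 := phiF_mul_Psi σ (gnorm σ g k)
    calc Psi g * phiF σ * (Psi (gnorm σ g k) * phiF (σ ^ k))
        = Psi g * (phiF σ * Psi (gnorm σ g k)) * phiF (σ ^ k) := by group
      _ = Psi g * Psi (fieldGLHom σ (gnorm σ g k)) * (phiF σ * phiF (σ ^ k)) := by
        rw [h1]; group

variable (p : ℕ) [CharP F p] [Fact p.Prime] [Nontrivial ι]

include p in
/-- the preimage of the centralizer of a standard field automorphism -/
theorem comap_centralizer_phiF (σ : RingAut F) (r : ℕ) (hr : 0 < r) (hσ : orderOf σ = r) :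
    (Subgroup.centralizer {phiF (ι := ι) σ}).comap Psi =
      Subgroup.center (GL ι F) ⊔ GLfix σ := by
  have hσr : σ ^ r = 1 := hσ ▸ pow_orderOf_eq_one σ
  have hmin := hmin_of_orderOf σ r hσ
  apply le_antisymm
  · intro g hg
    rw [Subgroup.mem_comap, Subgroup.mem_centralizer_singleton_iff, phiF_mul_Psi] at hg
    obtain ⟨-, h1⟩ := eq_of_Psi_mul_phiF_eq p hg
    rw [Matrix.GeneralLinearGroup.center_eq_range_scalar] at h1
    obtain ⟨l, hl⟩ := h1
    -- σ g = g * scalar l⁻¹
    have h2 : fieldGLHom σ g = g * Matrix.GeneralLinearGroup.scalar ι l⁻¹ := by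
      rw [map_inv, hl]; group
    have h3 := fieldGLHom_pow_of_twist σ g l⁻¹ h2 r
    rw [hσr, map_one, MulAut.one_apply] at h3
    have h4 : Matrix.GeneralLinearGroup.scalar ι (unorm σ r l⁻¹) = 1 := by
      have : g * 1 = g * Matrix.GeneralLinearGroup.scalar ι (unorm σ r l⁻¹) := by
        rw [mul_one]; exact h3
      exact (mul_left_cancel this).symm
    have h5 : unorm σ r l⁻¹ = 1 := by
      apply scalar_injective (ι := ι)
      rw [h4, map_one]
    have h6 : l⁻¹ ∈ (unorm σ r).ker := h5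
    rw [ker_unorm σ r hr hσr hmin] at h6
    obtain ⟨d, hd⟩ := h6
    have h7 : g * Matrix.GeneralLinearGroup.scalar ι d ∈ GLfix σ := by
      rw [mem_GLfix, map_mul, h2, fieldGLHom_scalar, mul_assoc, ← map_mul]
      congr 2
      rw [← hd]
      change d / Units.map (σ : F →* F) d * Units.map (σ : F →* F) d = d
      rw [div_mul_cancel]
    have h8 : g = Matrix.GeneralLinearGroup.scalar ι d⁻¹ *
        (g * Matrix.GeneralLinearGroup.scalar ι d) := by
      rw [scalar_comm', mul_assoc, ← map_mul, mul_inv_cancel, map_one, mul_one]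
    rw [h8]
    apply Subgroup.mul_mem_sup _ h7
    rw [Matrix.GeneralLinearGroup.center_eq_range_scalar]
    exact ⟨_, rfl⟩
  · apply sup_le
    · intro g hg
      rw [Subgroup.mem_comap, Psi_of_mem_center hg]
      exact Subgroup.one_mem _
    · intro g hg
      rw [mem_GLfix] at hg
      rw [Subgroup.mem_comap, Subgroup.mem_centralizer_singleton_iff, phiF_mul_Psi, hg]

end fieldcase

section fieldcase2

variable {ι : Type*} [Fintype ι] [DecidableEq ι] {F : Type*} [Field F]

theorem fieldGLHom_diagGL (σ : RingAut F) (e : ι → Fˣ) :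
    fieldGLHom σ (diagGL e) = diagGL (fun i => Units.map (σ : F →* F) (e i)) := by
  apply Units.ext
  rw [fieldGLHom_coe', diagGL_coe, diagGL_coe]
  ext i j
  rw [Matrix.map_apply, Matrix.diagonal_apply, Matrix.diagonal_apply]
  split_ifs
  · rfl
  · exact map_zero σ

theorem fieldGLHom_dgHom {m : ℕ} (σ : RingAut F) (t : Fˣ) :
    fieldGLHom σ (dgHom (m := m) t) = dgHom (Units.map (σ : F →* F) t) := by
  change fieldGLHom σ (diagGL _) = diagGL _
  rw [fieldGLHom_diagGL]
  congr 1
  funext i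
  change Units.map (σ : F →* F) ((Pi.mulSingle (0 : Fin (m + 2)) t : Fin (m + 2) → Fˣ) i) =
    (Pi.mulSingle (0 : Fin (m + 2)) (Units.map (σ : F →* F) t) : Fin (m + 2) → Fˣ) i
  by_cases hi : i = 0
  · subst hi
    rw [Pi.mulSingle_eq_same, Pi.mulSingle_eq_same]
  · rw [Pi.mulSingle_eq_of_ne hi, Pi.mulSingle_eq_of_ne hi, map_one]

theorem map_det_GLfix {m : ℕ} (σ : RingAut F) :
    (GLfix (ι := Fin (m + 2)) σ).map Matrix.GeneralLinearGroup.det = ufix σ := by
  ext t
  constructor
  · rintro ⟨g, hg, rfl⟩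
    have hg' : fieldGLHom σ g = g := hg
    rw [mem_ufix]
    have := det_fieldGLHom σ g
    rw [hg'] at this
    exact (congrArg Units.val this).symm
  · intro ht
    rw [mem_ufix] at ht
    refine ⟨dgHom t, ?_, det_dgHom t⟩
    change fieldGLHom σ (dgHom t) = dgHom t
    rw [fieldGLHom_dgHom]
    congr 1
    exact Units.ext ht

variable (p : ℕ) [CharP F p] [Fact p.Prime] [Nontrivial ι] [Finite F]

include p in
/-- **conjugacy in the coset of a standard field automorphism**: an element of the coset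
`Inndiag · φ_σ` whose `r`-th power is trivial (`r` the order of `σ`) is conjugate to `φ_σ` under
the inner-diagonal group. -/
theorem exists_conj_phiF (σ : RingAut F) (r : ℕ) (hr : 0 < r) (hσ : orderOf σ = r) (g : GL ι F)
    (hg : (Psi g * phiF σ) ^ r = 1) :
    ∃ h : GL ι F, Psi g * phiF σ = Psi h * phiF σ * (Psi h)⁻¹ := by
  have hσr : σ ^ r = 1 := hσ ▸ pow_orderOf_eq_one σ
  have hmin := hmin_of_orderOf σ r hσ
  rw [pow_Psi_mul_phiF, hσr, map_one, mul_one] at hg
  have h1 := (Psi_eq_one_iff p _).mp hg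
  rw [Matrix.GeneralLinearGroup.center_eq_range_scalar] at h1
  obtain ⟨l, hl⟩ := h1
  -- l is fixed
  have h2 : l ∈ ufix σ := by
    have h3 : gnorm σ g (r + 1) = g * fieldGLHom σ (gnorm σ g r) := rfl
    rw [gnorm_succ', hσr, map_one, MulAut.one_apply, ← hl, fieldGLHom_scalar,
      ← scalar_comm'] at h3
    have h4 := mul_right_cancel h3
    have h5 := scalar_injective (ι := ι) h4
    rw [mem_ufix]
    exact (congrArg Units.val h5).symm
  rw [← range_unorm σ r hr hσr hmin] at h2
  obtain ⟨μ, hμ⟩ := h2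
  set g' := g * Matrix.GeneralLinearGroup.scalar ι μ⁻¹ with hg'
  have h6 : gnorm σ g' r = 1 := by
    rw [hg', gnorm_mul_scalar, ← hl, ← map_mul, map_inv, hμ, mul_inv_cancel, map_one]
  have h7 : mnorm σ (g' : Matrix ι ι F) r = 1 := by
    rw [← gnorm_coe, h6, Units.val_one]
  obtain ⟨h, hu, hh⟩ := exists_descent σ (g' : Matrix ι ι F) r hr hσr hmin h7
  obtain ⟨H, rfl⟩ := hu
  have h8 : g' * fieldGLHom σ H = H := by
    apply Units.ext
    rw [Units.val_mul, fieldGLHom_coe']
    exact hh
  refine ⟨H, ?_⟩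
  have hc : Matrix.GeneralLinearGroup.scalar ι μ⁻¹ ∈ Subgroup.center (GL ι F) := by
    rw [Matrix.GeneralLinearGroup.center_eq_range_scalar]
    exact ⟨_, rfl⟩
  have h9 : Psi g = Psi g' := by
    rw [hg', map_mul, Psi_of_mem_center hc, mul_one]
  have h10 : g' = H * (fieldGLHom σ H)⁻¹ := eq_mul_inv_of_mul_eq h8
  have h11 := phiF_mul_Psi σ H⁻¹
  rw [h9, h10, map_mul, ← map_inv (fieldGLHom σ)]
  calc Psi H * Psi (fieldGLHom σ H⁻¹) * phiF σ
      = Psi H * (Psi (fieldGLHom σ H⁻¹) * phiF σ) := by group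
    _ = Psi H * phiF σ * (Psi H)⁻¹ := by rw [← h11, map_inv]; group

end fieldcase2

end Cfsg.Agent.Helper2.PN
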