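import Mathlib
import Cfsg.Agent.Lib.Helper18.G2I_ARITH
import Cfsg.Agent.Lib.Helper16.G2TCHIB
import Cfsg.Agent.Lib.Helper2.G2I_TNORM
import Cfsg.Agent.Lib.Helper2.G2I_TK

/-!
# S4278 / S4279, piece IDX2 (designer helper13): `[C : K] = 2`
-/

set_option autoImplicit false
set_option linter.style.haveILetI false
set_option linter.unusedVariables false

namespace Cfsg.Agent.Helper13.G2I

open Cfsg Cfsg.Lie Cfsg.Agent.Lead.Chev Cfsg.Agent.Helper11.G2T Cfsg.Agent.Helper6.SL2Hom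
  Cfsg.Agent.Helper6.ChevL Matrix

variable {F : Type*} [Field F]

/-- `k h ∈ K` iff the value of `h` at the root `11` is a square -/
theorem idx2_mem_iff (h2 : (2 : F) ≠ 0) (k h : GL chevG2.Idx F) (hk : k ∈ KK F) (hh : h ∈ TT F) :
    k * h ∈ KK F ↔ IsSquare (ev h 11) := by
  rw [← TT_mem_KK_iff h2 h hh]
  constructor
  · intro hx
    have : h = k⁻¹ * (k * h) := by group
    rw [this]
    exact mul_mem (inv_mem hk) hx
  · intro hx
    exact mul_mem hk hx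

/-- a square times a nonsquare is a nonsquare -/
theorem idx2_sq_mul_nonsq (c n : F) (hc0 : c ≠ 0) (hc : IsSquare c) (hn : ¬ IsSquare n) : ¬ IsSquare (c * n) := by
  rintro ⟨d, hd⟩
  obtain ⟨e, he⟩ := hc
  apply hn
  have he0 : e ≠ 0 := by
    rintro rfl
    rw [mul_zero] at he
    exact hc0 he
  refine ⟨d / e, ?_⟩
  field_simp
  rw [he] at hd
  linear_combination hd

/-- an element of `T` whose value at the root `11` is a nonsquare -/
theorem idx2_exists_nonsq [Fintype F] (h2 : (2 : F) ≠ 0) : ∃ h0 ∈ TT F, ¬ IsSquare (ev h0 11) := by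
  have hchar : ringChar F ≠ 2 := by
    intro h
    apply h2
    have : ((2 : ℕ) : F) = 0 := by
      rw [← h]
      exact ringChar.Nat.cast_ringChar
    exact_mod_cast this
  obtain ⟨c, hc⟩ := FiniteField.exists_nonsquare hchar
  have hc0 : c ≠ 0 := by
    rintro rfl
    exact hc ⟨0, (mul_zero 0).symm⟩
  obtain ⟨h0, hh0, e7, e6⟩ := exists_ev c 1 hc0 one_ne_zero
  refine ⟨h0, hh0, ?_⟩
  rw [ev_11 h0 hh0, e7, e6, one_pow, mul_one]
  have : c ^ 3 = (c * c) * c := by ring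
  rw [this]
  exact idx2_sq_mul_nonsq (c * c) c (mul_ne_zero hc0 hc0) ⟨c, rfl⟩ hc

theorem relIndex_KK_CC [Fintype F] (h2 : (2 : F) ≠ 0) : (KK F).relIndex (CC F) = 2 := by
  obtain ⟨h0, hh0, hn0⟩ := idx2_exists_nonsq (F := F) h2
  have hh0C : h0 ∈ CC F := Subgroup.mem_sup_right hh0
  unfold Subgroup.relIndex
  rw [Subgroup.index_eq_two_iff]
  refine ⟨⟨h0, hh0C⟩, ?_⟩
  rintro ⟨b, hb⟩
  obtain ⟨k, hk, h, hh, rfl⟩ := (mem_CC_iff b).1 hb
  show Xor (k * h * h0 ∈ KK F) (k * h ∈ KK F)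
  rw [mul_assoc, idx2_mem_iff h2 k (h * h0) hk (mul_mem hh hh0), idx2_mem_iff h2 k h hk hh,
    ev_mul h h0 hh hh0]
  by_cases hsq : IsSquare (ev h 11)
  · right
    exact ⟨hsq, idx2_sq_mul_nonsq _ _ (ev_ne_zero h hh 11) hsq hn0⟩
  · left
    exact ⟨nonsq_mul_nonsq _ _ hsq hn0, hsq⟩

/-- two elements of `C` outside `K` have their product in `K` -/
theorem mul_mem_KK_of_not_mem [Fintype F] (h2 : (2 : F) ≠ 0) (x y : GL chevG2.Idx F) (hx : x ∈ CC F) (hy : y ∈ CC F)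
    (hxK : x ∉ KK F) (hyK : y ∉ KK F) : x * y ∈ KK F := by
  obtain ⟨k, hk, h, hh, rfl⟩ := (mem_CC_iff x).1 hx
  obtain ⟨k', hk', h', hh', rfl⟩ := (mem_CC_iff y).1 hy
  rw [idx2_mem_iff h2 k h hk hh] at hxK
  rw [idx2_mem_iff h2 k' h' hk' hh'] at hyK
  have e : k * h * (k' * h') = (k * (h * k' * h⁻¹)) * (h * h') := by group
  rw [e, idx2_mem_iff h2 _ _ (mul_mem hk (TT_norm_KK h hh k' hk')) (mul_mem hh hh'), ev_mul h h' hh hh']
  exact nonsq_mul_nonsq _ _ hxK hyK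

end Cfsg.Agent.Helper13.G2I
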