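import Mathlib
import Cfsg.Agent.Lib.Helper13.SpBN3

/-!
# Injectivity of the permutations of the simple reflections of the symplectic group
-/

set_option autoImplicit false

namespace Cfsg.Agent.Helper2.SpBNInj

open Cfsg.Agent.Helper6.SpN Cfsg.Agent.Helper13.SpBN

variable {m : ℕ}

/-- `pr j` fixes `inl k` for `k < j`. -/
theorem pr_inl_of_lt {j k : Fin m} (hkj : k.val < j.val) :
    pr j (Sum.inl k) = (Sum.inl k : Fin m ⊕ Fin m) := by
  by_cases h : j.val + 1 < m
  · rw [pr_short h]
    apply piS_of_ne
    · intro e
      have := Sum.inl.inj e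
      rw [this] at hkj
      omega
    · intro e
      have := congrArg Fin.val (Sum.inl.inj e)
      simp only at this
      omega
    · intro e
      cases e
    · intro e
      cases e
  · rw [pr_long h]
    unfold piL
    apply Equiv.swap_apply_of_ne_of_ne
    · intro e
      have := Sum.inl.inj e
      rw [this] at hkj
      omega
    · intro e
      cases e

/-- `pr i` moves `inl i`. -/
theorem pr_inl_self_ne (i : Fin m) : pr i (Sum.inl i) ≠ (Sum.inl i : Fin m ⊕ Fin m) := by
  intro e
  have h1 : pr i (ra i) = rb i := pr_ra i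
  have h2 : rb i = ra i := by
    rw [← h1]
    exact e
  have h3 := congrArg key h2
  rw [key_rb, key_ra] at h3
  omega

theorem pr_injective : Function.Injective (pr : Fin m → Equiv.Perm (Fin m ⊕ Fin m)) := by
  intro i j hij
  by_contra hne
  have hne' : i.val ≠ j.val := fun e => hne (Fin.ext e)
  rcases Nat.lt_or_gt_of_ne hne' with hlt | hlt
  · apply pr_inl_self_ne i
    rw [hij]
    exact pr_inl_of_lt hlt
  · apply pr_inl_self_ne j
    rw [← hij]
    exact pr_inl_of_lt hlt

end Cfsg.Agent.Helper2.SpBNInj
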