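import Mathlib
import Cfsg.Agent.Lib.Helper13.SuBN2

/-!
# `⟨B, N⟩` is transitive on isotropic lines of the Witt form (piece GENA of S2546)
-/

set_option autoImplicit false

namespace Cfsg.Agent.Helper13.SuP

open Matrix Cfsg.Agent.Helper13.SuBN

variable {n : ℕ} {F : Type*} [Field F] {φ : F →+* F}

/-- the Witt form on vectors -/
def gaForm (φ : F →+* F) (x : Fin n → F) : F := ∑ a, x a * φ (x (Fin.rev a))

theorem ga_Kmat_mulVec (y : Fin n → F) (a : Fin n) : (Kmat n F *ᵥ y) a = y (Fin.rev a) := by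
  rw [Matrix.mulVec, dotProduct, Finset.sum_eq_single (Fin.rev a)]
  · rw [Kmat_apply, if_pos rfl, one_mul]
  · intro c _ hc
    rw [Kmat_apply, if_neg hc, zero_mul]
  · intro h; exact absurd (Finset.mem_univ _) h

theorem ga_form_eq (x : Fin n → F) : gaForm φ x = x ⬝ᵥ (Kmat n F *ᵥ (φ ∘ x)) := by
  unfold gaForm dotProduct
  apply Finset.sum_congr rfl
  intro a _
  rw [ga_Kmat_mulVec]
  rfl

/-- elements of `WSU` preserve the form -/
theorem ga_form_mulVec (g : WSU n φ) (x : Fin n → F) : gaForm φ (mt g *ᵥ x) = gaForm φ x := by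
  have h1 : (mt g)ᵀ * Kmat n F * (mt g).map φ = Kmat n F := g.2.1
  have h2 : φ ∘ (mt g *ᵥ x) = (mt g).map φ *ᵥ (φ ∘ x) := by
    funext i
    exact RingHom.map_mulVec φ (mt g) x i
  rw [ga_form_eq, ga_form_eq, h2]
  calc (mt g *ᵥ x) ⬝ᵥ (Kmat n F *ᵥ ((mt g).map φ *ᵥ (φ ∘ x)))
      = (x ᵥ* (mt g)ᵀ) ⬝ᵥ (Kmat n F *ᵥ ((mt g).map φ *ᵥ (φ ∘ x))) := by
        rw [Matrix.vecMul_transpose]
    _ = x ⬝ᵥ ((mt g)ᵀ *ᵥ (Kmat n F *ᵥ ((mt g).map φ *ᵥ (φ ∘ x)))) :=
        (Matrix.dotProduct_mulVec _ _ _).symm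
    _ = x ⬝ᵥ (Kmat n F *ᵥ (φ ∘ x)) := by
        rw [Matrix.mulVec_mulVec, Matrix.mulVec_mulVec, h1]

theorem ga_mon_mulVec {N : Matrix (Fin n) (Fin n) F} {π : Equiv.Perm (Fin n)} (hN : IsMon N π)
    (x : Fin n → F) (a : Fin n) : (N *ᵥ x) a = N a (π⁻¹ a) * x (π⁻¹ a) := by
  rw [Matrix.mulVec, dotProduct, Finset.sum_eq_single (π⁻¹ a)]
  · intro q _ hq
    rw [hN a q (fun e => hq (by rw [e]; simp)), zero_mul]
  · intro h; exact absurd (Finset.mem_univ _) h

theorem ga_rev_fix_unique {a c : Fin n} (ha : a = Fin.rev a) (hc : c = Fin.rev c) : a = c := by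
  have h1 := congrArg Fin.val ha
  have h2 := congrArg Fin.val hc
  rw [Fin.val_rev] at h1 h2
  apply Fin.ext
  omega

theorem ga_phi_ne_zero (hφφ : ∀ x, φ (φ x) = x) {x : F} (hx : x ≠ 0) : φ x ≠ 0 := by
  intro h
  apply hx
  rw [← hφφ x, h, map_zero]

/-! ### phase 1: make the last entry nonzero -/

theorem ga_phase1 (hφφ : ∀ x, φ (φ x) = x) (z : Fin n) (hz : z ≠ Fin.rev z)
    (hl : ∃ l : F, l ≠ 0 ∧ l + φ l = 0) (v : Fin n → F) (hv : v ≠ 0) (hiso : gaForm φ v = 0) :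
    ∃ g ∈ mon n φ, (mt g *ᵥ v) (Fin.rev z) ≠ 0 := by
  by_cases h0 : v (Fin.rev z) ≠ 0
  · exact ⟨1, (mon n φ).one_mem, by rw [mt_one, Matrix.one_mulVec]; exact h0⟩
  push Not at h0
  by_cases hex : ∃ b, v b ≠ 0 ∧ b ≠ Fin.rev b
  · obtain ⟨b, hb0, hbr⟩ := hex
    by_cases hbz : b = z
    · obtain ⟨l, hl0, hl'⟩ := hl
      have hmon := wL_isMon (φ := φ) hz hl0 hl'
      refine ⟨wL φ z l, ⟨_, hmon⟩, ?_⟩
      rw [ga_mon_mulVec hmon, piL_inv]
      have e1 : piL z (Fin.rev z) = z := Equiv.swap_apply_right _ _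
      have e2 : piL z z = Fin.rev z := Equiv.swap_apply_left _ _
      rw [e1]
      apply mul_ne_zero
      · have := hmon.apply_ne_zero z
        rwa [e2] at this
      · rw [← hbz]; exact hb0
    · have hlast : b ≠ Fin.rev z := by
        intro e
        rw [e] at hb0
        exact hb0 h0
      have hab' : b ≠ Fin.rev (Fin.rev z) := by rw [Fin.rev_rev]; exact hbz
      have hb' : Fin.rev z ≠ Fin.rev (Fin.rev z) := by rw [Fin.rev_rev]; exact hz.symm
      have hmon := wS_isMon (φ := φ) hφφ hlast hab' hbr hb' (c := 1) one_ne_zero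
      refine ⟨wS φ b (Fin.rev z) 1, ⟨_, hmon⟩, ?_⟩
      rw [ga_mon_mulVec hmon, piS_inv hlast hab' hbr hb', piS_b hlast hab' hbr hb']
      apply mul_ne_zero _ hb0
      have := hmon.apply_ne_zero b
      rwa [piS_a hlast hab' hbr hb'] at this
  · exfalso
    push Not at hex
    obtain ⟨c, hc⟩ : ∃ c, v c ≠ 0 := by
      by_contra h
      push Not at h
      exact hv (funext h)
    have hcr : c = Fin.rev c := hex c hc
    have hsum : gaForm φ v = v c * φ (v c) := by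
      unfold gaForm
      rw [Finset.sum_eq_single c]
      · rw [← hcr]
      · intro a _ hac
        by_cases ha0 : v a = 0
        · rw [ha0, zero_mul]
        · exact absurd (ga_rev_fix_unique (hex a ha0) hcr) hac
      · intro h; exact absurd (Finset.mem_univ _) h
    rw [hsum] at hiso
    rcases mul_eq_zero.1 hiso with h | h
    · exact hc h
    · exact ga_phi_ne_zero hφφ hc h

/-! ### phase 2: clear the middle entries -/

theorem ga_MmM_apply_of_ne {a c : Fin n} (u v : F) {p q : Fin n} (h1 : p ≠ q)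
    (h2 : ¬ (p = a ∧ q = c)) (h3 : ¬ (p = c ∧ q = Fin.rev a)) (h4 : ¬ (p = a ∧ q = Fin.rev a)) :
    MmM φ a c u v p q = 0 := by
  unfold MmM
  rw [Matrix.add_apply, Matrix.sub_apply, Matrix.add_apply, Matrix.one_apply_ne h1,
    Matrix.single_apply, Matrix.single_apply, Matrix.single_apply,
    if_neg (fun h => h2 ⟨h.1.symm, h.2.symm⟩), if_neg (fun h => h3 ⟨h.1.symm, h.2.symm⟩),
    if_neg (fun h => h4 ⟨h.1.symm, h.2.symm⟩)]
  ring

/-- one clearing step -/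
theorem ga_clear_one (hφφ : ∀ x, φ (φ x) = x) (z : Fin n) (hz : z ≠ Fin.rev z)
    (hz0 : ∀ a : Fin n, z ≤ a) (htr : ∀ r : F, φ r = r → ∃ s : F, s + φ s = r)
    (v : Fin n → F) (hlast : v (Fin.rev z) ≠ 0) (b : Fin n) (hbz : b ≠ z)
    (hbl : b ≠ Fin.rev z) :
    ∃ g ∈ bor n φ, (mt g *ᵥ v) b = 0 ∧ ∀ q, q ≠ b → q ≠ z → (mt g *ᵥ v) q = v q := by
  have hlt : b < Fin.rev z := by
    have h1 : Fin.rev b ≠ z := fun e => hbl (by rw [← e, Fin.rev_rev])
    have h2 : z < Fin.rev b := lt_of_le_of_ne (hz0 _) h1.symm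
    have := Fin.rev_lt_rev.2 h2
    rwa [Fin.rev_rev] at this
  have hzlt : z < b := lt_of_le_of_ne (hz0 _) hbz.symm
  by_cases hbr : b = Fin.rev b
  · -- the middle index
    obtain ⟨u, hu⟩ : ∃ u : F, u = φ (v b / v (Fin.rev z)) := ⟨_, rfl⟩
    obtain ⟨s, hs⟩ := htr (-(u * φ u)) (by rw [map_neg, map_mul, hφφ]; ring)
    have huv : s + φ s + u * φ u = 0 := by rw [hs]; ring
    have hcoe := Mm_coe (φ := φ) hφφ hbz.symm hz hbr huv
    refine ⟨Mm φ z b u s, ?_, ?_, ?_⟩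
    · intro p q hpq
      rw [hcoe]
      apply ga_MmM_apply_of_ne
      · intro e; rw [e] at hpq; exact lt_irrefl _ hpq
      · rintro ⟨rfl, rfl⟩; exact lt_asymm hzlt hpq
      · rintro ⟨rfl, rfl⟩; exact lt_asymm hlt hpq
      · rintro ⟨rfl, rfl⟩; exact lt_asymm (lt_trans hzlt hlt) hpq
    · rw [hcoe, MmM_mulVec]
      simp only [Pi.add_apply, Pi.sub_apply, Pi.smul_apply, smul_eq_mul, ev_self, ev_ne hbz.symm]
      rw [hu, hφφ]
      field_simp
      ring
    · intro q hqb hqz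
      rw [hcoe, MmM_mulVec]
      simp only [Pi.add_apply, Pi.sub_apply, Pi.smul_apply, smul_eq_mul, ev_ne hqb.symm,
        ev_ne hqz.symm]
      ring
  · have hb' : Fin.rev z ≠ Fin.rev (Fin.rev z) := by rw [Fin.rev_rev]; exact hz.symm
    obtain ⟨t, ht⟩ : ∃ t : F, t = -(v b / v (Fin.rev z)) := ⟨_, rfl⟩
    refine ⟨Tm φ b (Fin.rev z) t, Tm_mem_bor hφφ hbl hbr hb' hlt t, ?_, ?_⟩
    · rw [Tm_mulVec hφφ hbl hbr hb', Fin.rev_rev]
      simp only [Pi.add_apply, Pi.sub_apply, Pi.smul_apply, smul_eq_mul, ev_self, ev_ne hbz.symm]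
      rw [ht]
      field_simp
      ring
    · intro q hqb hqz
      rw [Tm_mulVec hφφ hbl hbr hb', Fin.rev_rev]
      simp only [Pi.add_apply, Pi.sub_apply, Pi.smul_apply, smul_eq_mul, ev_ne hqb.symm,
        ev_ne hqz.symm]
      ring

theorem ga_phase2 (hφφ : ∀ x, φ (φ x) = x) (z : Fin n) (hz : z ≠ Fin.rev z)
    (hz0 : ∀ a : Fin n, z ≤ a) (htr : ∀ r : F, φ r = r → ∃ s : F, s + φ s = r) :
    ∀ S : Finset (Fin n), ∀ v : Fin n → F, v (Fin.rev z) ≠ 0 →
      (∀ b, b ∉ S → b ≠ z → b ≠ Fin.rev z → v b = 0) →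
      ∃ g ∈ bor n φ, (∀ b, b ≠ z → b ≠ Fin.rev z → (mt g *ᵥ v) b = 0) ∧
        (mt g *ᵥ v) (Fin.rev z) ≠ 0 := by
  intro S
  induction S using Finset.induction_on with
  | empty =>
    intro v hlast hS
    refine ⟨1, (bor n φ).one_mem, ?_, by rw [mt_one, Matrix.one_mulVec]; exact hlast⟩
    intro b hbz hbl
    rw [mt_one, Matrix.one_mulVec]
    exact hS b (Finset.notMem_empty _) hbz hbl
  | insert b S' hbS ih =>
    intro v hlast hS
    by_cases hb : b = z ∨ b = Fin.rev z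
    · apply ih v hlast
      intro q hq hqz hql
      apply hS q _ hqz hql
      intro hmem
      rcases Finset.mem_insert.1 hmem with e | e
      · rcases hb with h | h
        · exact hqz (by rw [e, h])
        · exact hql (by rw [e, h])
      · exact hq e
    · push Not at hb
      obtain ⟨hbz, hbl⟩ := hb
      obtain ⟨g1, hg1, hgb, hgq⟩ := ga_clear_one hφφ z hz hz0 htr v hlast b hbz hbl
      have hlast' : (mt g1 *ᵥ v) (Fin.rev z) ≠ 0 := by
        rw [hgq _ hbl.symm hz.symm]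
        exact hlast
      have hS' : ∀ q, q ∉ S' → q ≠ z → q ≠ Fin.rev z → (mt g1 *ᵥ v) q = 0 := by
        intro q hq hqz hql
        by_cases hqb : q = b
        · rw [hqb]; exact hgb
        · rw [hgq q hqb hqz]
          apply hS q _ hqz hql
          intro hmem
          rcases Finset.mem_insert.1 hmem with e | e
          · exact hqb e
          · exact hq e
      obtain ⟨g2, hg2, h2a, h2b⟩ := ih (mt g1 *ᵥ v) hlast' hS'
      refine ⟨g2 * g1, (bor n φ).mul_mem hg2 hg1, ?_, ?_⟩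
      · intro q hqz hql
        rw [mt_mul, ← Matrix.mulVec_mulVec]
        exact h2a q hqz hql
      · rw [mt_mul, ← Matrix.mulVec_mulVec]
        exact h2b

/-! ### phase 3 and the assembly -/

theorem ga_phase3 (z : Fin n) (hz : z ≠ Fin.rev z) (hz0 : ∀ a : Fin n, z ≤ a)
    (hφφ : ∀ x, φ (φ x) = x)
    (hl : ∃ l : F, l ≠ 0 ∧ l + φ l = 0) (w : Fin n → F)
    (hw : ∀ b, b ≠ z → b ≠ Fin.rev z → w b = 0) (hlast : w (Fin.rev z) ≠ 0)
    (hiso : gaForm φ w = 0) :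
    ∃ g ∈ bor n φ ⊔ mon n φ, ∃ c : F, mt g *ᵥ w = c • (ev z : Fin n → F) := by
  obtain ⟨l, hl0, hl'⟩ := hl
  -- the isotropy condition
  have hsum : gaForm φ w = w z * φ (w (Fin.rev z)) + w (Fin.rev z) * φ (w z) := by
    unfold gaForm
    rw [Finset.sum_eq_add z (Fin.rev z) hz]
    · rw [Fin.rev_rev]
    · intro q _ hq
      rw [hw q hq.1 hq.2, zero_mul]
    · intro h; exact absurd (Finset.mem_univ _) h
    · intro h; exact absurd (Finset.mem_univ _) h
  obtain ⟨t, ht⟩ : ∃ t : F, t = -(w z / w (Fin.rev z)) := ⟨_, rfl⟩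
  have hφlast : φ (w (Fin.rev z)) ≠ 0 := ga_phi_ne_zero hφφ hlast
  have htt : t + φ t = 0 := by
    rw [ht, map_neg, map_div₀]
    rw [hsum] at hiso
    field_simp
    linear_combination -hiso
  have hzlt : z < Fin.rev z := lt_of_le_of_ne (hz0 _) hz
  have hLm := Lm_mem_bor (φ := φ) hz hzlt htt
  have hmon := wL_isMon (φ := φ) hz hl0 hl'
  refine ⟨wL φ z l * Lm φ z t, ?_, w (Fin.rev z) * mt (wL φ z l) z (Fin.rev z), ?_⟩
  · exact Subgroup.mul_mem _ (Subgroup.mem_sup_right ⟨_, hmon⟩) (Subgroup.mem_sup_left hLm)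
  · have h1 : mt (Lm φ z t) *ᵥ w = w (Fin.rev z) • (ev (Fin.rev z) : Fin n → F) := by
      rw [Lm_mulVec hz htt]
      funext q
      simp only [Pi.add_apply, Pi.smul_apply, smul_eq_mul]
      by_cases hqz : q = z
      · rw [hqz, ev_self, ev_ne hz.symm, ht]
        field_simp
        ring
      by_cases hql : q = Fin.rev z
      · rw [hql, ev_self, ev_ne hz]
        ring
      · rw [hw q hqz hql, ev_ne (fun e => hqz e.symm), ev_ne (fun e => hql e.symm)]
        ring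
    rw [mt_mul, ← Matrix.mulVec_mulVec, h1, Matrix.mulVec_smul]
    funext q
    rw [Pi.smul_apply, Pi.smul_apply, mulVec_ev, smul_eq_mul, smul_eq_mul]
    by_cases hqz : q = z
    · rw [hqz, ev_self, mul_one]
    · rw [ev_ne (fun e => hqz e.symm), mul_zero]
      have : mt (wL φ z l) q (Fin.rev z) = 0 := by
        apply hmon
        intro e
        apply hqz
        rw [e]
        exact Equiv.swap_apply_right _ _
      rw [this, mul_zero]

/-- **GENA** -/
theorem exists_mulVec_eq_smul_ev (hφφ : ∀ x, φ (φ x) = x) (hn : 2 ≤ n)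
    (hl : ∃ l : F, l ≠ 0 ∧ l + φ l = 0) (htr : ∀ r : F, φ r = r → ∃ s : F, s + φ s = r)
    (v : Fin n → F) (hv : v ≠ 0) (hiso : ∑ a, v a * φ (v (Fin.rev a)) = 0) :
    ∃ h ∈ bor n φ ⊔ mon n φ, ∃ c : F, mt h *ᵥ v = c • (ev ⟨0, by omega⟩ : Fin n → F) := by
  obtain ⟨z, hzdef⟩ : ∃ z : Fin n, z = ⟨0, by omega⟩ := ⟨_, rfl⟩
  rw [← hzdef]
  have hz : z ≠ Fin.rev z := by
    intro e
    have := congrArg Fin.val e
    rw [Fin.val_rev, hzdef] at this
    simp only at this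
    omega
  have hz0 : ∀ a : Fin n, z ≤ a := by
    intro a
    rw [hzdef, Fin.le_def]
    exact Nat.zero_le _
  obtain ⟨g0, hg0, h0⟩ := ga_phase1 hφφ z hz hl v hv hiso
  obtain ⟨g1, hg1, h1a, h1b⟩ := ga_phase2 hφφ z hz hz0 htr Finset.univ (mt g0 *ᵥ v) h0
    (fun b hb => absurd (Finset.mem_univ b) hb)
  have hiso' : gaForm φ (mt g1 *ᵥ (mt g0 *ᵥ v)) = 0 := by
    rw [ga_form_mulVec, ga_form_mulVec]
    exact hiso
  obtain ⟨g2, hg2, c, hc⟩ := ga_phase3 z hz hz0 hφφ hl _ h1a h1b hiso'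
  refine ⟨g2 * (g1 * g0), ?_, c, ?_⟩
  · exact Subgroup.mul_mem _ hg2
      (Subgroup.mul_mem _ (Subgroup.mem_sup_left hg1) (Subgroup.mem_sup_right hg0))
  · rw [mt_mul, mt_mul, ← Matrix.mulVec_mulVec, ← Matrix.mulVec_mulVec]
    exact hc

end Cfsg.Agent.Helper13.SuP
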