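import Mathlib
import Cfsg.Agent.Lib.Helper13.SuBN2
import Cfsg.Agent.Lib.Helper2.SuGenA

/-!
# The rank one identity for the non-reduced simple root of `SU_n`, `n` odd
(sub-piece BCRANK1 of S2546)
-/

set_option autoImplicit false
set_option linter.unusedSectionVars false
set_option linter.unusedSimpArgs false

namespace Cfsg.Agent.Helper13.SuP

open Matrix Cfsg.Agent.Helper13.SuBN

variable {n : ℕ} {F : Type*} [Field F] {φ : F →+* F}

section

variable (hφφ : ∀ x, φ (φ x) = x) {a c : Fin n} (hac : a ≠ c) (ha : a ≠ Fin.rev a)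
  (hc : c = Fin.rev c)

include hφφ hac ha hc

theorem bc1_c_ne_rev : c ≠ Fin.rev a := by
  intro e
  apply hac
  rw [hc] at e
  exact (Fin.rev_inj.1 e).symm

theorem bc1_Mm_mulVec {u v : F} (huv : v + φ v + u * φ u = 0) (x : Fin n → F) :
    mt (Mm φ a c u v) *ᵥ x = x + (u * x c) • (ev a : Fin n → F) -
      (φ u * x (Fin.rev a)) • (ev c : Fin n → F) + (v * x (Fin.rev a)) • (ev a : Fin n → F) := by
  rw [Mm_coe hφφ hac ha hc huv, MmM_mulVec]

theorem bc1_Mm_ev_of_ne {u v : F} (huv : v + φ v + u * φ u = 0) {q : Fin n} (h1 : q ≠ c)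
    (h2 : q ≠ Fin.rev a) : mt (Mm φ a c u v) *ᵥ (ev q : Fin n → F) = ev q := by
  rw [bc1_Mm_mulVec hφφ hac ha hc huv, ev_ne h1, ev_ne h2]
  simp

theorem bc1_Mm_ev_c {u v : F} (huv : v + φ v + u * φ u = 0) :
    mt (Mm φ a c u v) *ᵥ (ev c : Fin n → F) = ev c + u • ev a := by
  rw [bc1_Mm_mulVec hφφ hac ha hc huv, ev_self, ev_ne (bc1_c_ne_rev hφφ hac ha hc)]
  simp

theorem bc1_Mm_ev_ra {u v : F} (huv : v + φ v + u * φ u = 0) :
    mt (Mm φ a c u v) *ᵥ (ev (Fin.rev a) : Fin n → F) =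
      ev (Fin.rev a) - φ u • ev c + v • ev a := by
  rw [bc1_Mm_mulVec hφφ hac ha hc huv, ev_self, ev_ne (bc1_c_ne_rev hφφ hac ha hc).symm]
  simp

theorem bc1_huv_inv {u v : F} (huv : v + φ v + u * φ u = 0) :
    φ v + φ (φ v) + (-u) * φ (-u) = 0 := by
  rw [hφφ, map_neg]
  linear_combination huv

theorem bc1_Mm_inv {u v : F} (huv : v + φ v + u * φ u = 0) :
    (Mm φ a c u v)⁻¹ = Mm φ a c (-u) (φ v) := by
  have huv' := bc1_huv_inv hφφ hac ha hc huv
  apply inv_eq_of_mul_eq_one_right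
  apply ext_mulVec
  intro q
  rw [mt_mul, ← Matrix.mulVec_mulVec, mt_one, Matrix.one_mulVec]
  by_cases h1 : q = c
  · rw [h1, bc1_Mm_ev_c hφφ hac ha hc huv', Matrix.mulVec_add, Matrix.mulVec_smul,
      bc1_Mm_ev_c hφφ hac ha hc huv, bc1_Mm_ev_of_ne hφφ hac ha hc huv hac ha]
    ext p
    simp only [Pi.add_apply, Pi.smul_apply, smul_eq_mul]
    ring
  by_cases h2 : q = Fin.rev a
  · rw [h2, bc1_Mm_ev_ra hφφ hac ha hc huv', Matrix.mulVec_add, Matrix.mulVec_sub,
      Matrix.mulVec_smul, Matrix.mulVec_smul, bc1_Mm_ev_ra hφφ hac ha hc huv,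
      bc1_Mm_ev_c hφφ hac ha hc huv, bc1_Mm_ev_of_ne hφφ hac ha hc huv hac ha]
    ext p
    simp only [Pi.add_apply, Pi.sub_apply, Pi.smul_apply, smul_eq_mul, map_neg]
    linear_combination (ev a : Fin n → F) p * huv
  · rw [bc1_Mm_ev_of_ne hφφ hac ha hc huv' h1 h2, bc1_Mm_ev_of_ne hφφ hac ha hc huv h1 h2]

theorem bc1_v_ne_zero {u v : F} (huv : v + φ v + u * φ u = 0) (hne : Mm φ a c u v ≠ 1) :
    v ≠ 0 := by
  intro hv
  apply hne
  rw [hv, map_zero, zero_add, zero_add] at huv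
  have hu : u = 0 := by
    rcases mul_eq_zero.1 huv with h | h
    · exact h
    · rw [← hφφ u, h, map_zero]
  apply mt_injective
  rw [Mm_coe hφφ hac ha hc (by rw [hv, hu]; simp), mt_one, hv, hu]
  unfold MmM
  simp

end

/-- the rank one identity `s x ∈ B y` -/
theorem rank1_bc (hφφ : ∀ x, φ (φ x) = x) {a c : Fin n} (hac : a ≠ c) (ha : a ≠ Fin.rev a)
    (hc : c = Fin.rev c) (hac1 : c.val = a.val + 1) {l : F} (hl0 : l ≠ 0) (hl : l + φ l = 0)
    {u v : F} (huv : v + φ v + u * φ u = 0) (hne : Mm φ a c u v ≠ 1) :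
    ∃ b ∈ bor n φ, ∃ u' v' : F, v' + φ v' + u' * φ u' = 0 ∧
      wL φ a l * Mm φ a c u v = b * Mm φ (Fin.rev a) c u' v' := by
  have hv : v ≠ 0 := bc1_v_ne_zero hφφ hac ha hc huv hne
  have hφv : φ v ≠ 0 := ga_phi_ne_zero hφφ hv
  -- the opposite root
  have hrc : Fin.rev a ≠ c := (bc1_c_ne_rev hφφ hac ha hc).symm
  have hra : Fin.rev a ≠ Fin.rev (Fin.rev a) := by rw [Fin.rev_rev]; exact ha.symm
  have hrr : Fin.rev (Fin.rev a) = a := Fin.rev_rev a
  -- positions
  have hcv : c.val = n - 1 - c.val := by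
    have := congrArg Fin.val hc
    rw [Fin.val_rev] at this
    omega
  have hac_lt : a < c := by rw [Fin.lt_def]; omega
  have hcr_lt : c < Fin.rev a := by
    rw [Fin.lt_def, Fin.val_rev]
    have := c.2
    omega
  have har_lt : a < Fin.rev a := lt_trans hac_lt hcr_lt
  -- the parameters
  obtain ⟨u1, hu1⟩ : ∃ u1 : F, u1 = -(u / φ v) := ⟨_, rfl⟩
  obtain ⟨u2, hu2⟩ : ∃ u2 : F, u2 = -(u / v) := ⟨_, rfl⟩
  obtain ⟨w, hw⟩ : ∃ w : F, w = (φ v)⁻¹ := ⟨_, rfl⟩
  have hφw : φ w = v⁻¹ := by rw [hw, map_inv₀, hφφ]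
  have hφu1 : φ u1 = -(φ u / v) := by rw [hu1, map_neg, map_div₀, hφφ]
  have hφu2 : φ u2 = -(φ u / φ v) := by rw [hu2, map_neg, map_div₀]
  have h1 : w + φ w + u1 * φ u1 = 0 := by
    rw [hφw, hφu1, hu1, hw]
    field_simp
    linear_combination huv
  have h2 : w + φ w + u2 * φ u2 = 0 := by
    rw [hφw, hφu2, hu2, hw]
    field_simp
    linear_combination huv
  -- the three elements
  obtain ⟨x, hx⟩ : ∃ x : WSU n φ, x = Mm φ a c u v := ⟨_, rfl⟩
  obtain ⟨y1, hy1⟩ : ∃ y1 : WSU n φ, y1 = Mm φ (Fin.rev a) c u1 w := ⟨_, rfl⟩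
  obtain ⟨y2, hy2⟩ : ∃ y2 : WSU n φ, y2 = Mm φ (Fin.rev a) c u2 w := ⟨_, rfl⟩
  -- actions on the basis vectors
  have Xa : mt x *ᵥ (ev a : Fin n → F) = ev a := by
    rw [hx]; exact bc1_Mm_ev_of_ne hφφ hac ha hc huv hac ha
  have Xc : mt x *ᵥ (ev c : Fin n → F) = ev c + u • ev a := by
    rw [hx]; exact bc1_Mm_ev_c hφφ hac ha hc huv
  have Xr : mt x *ᵥ (ev (Fin.rev a) : Fin n → F) = ev (Fin.rev a) - φ u • ev c + v • ev a := by
    rw [hx]; exact bc1_Mm_ev_ra hφφ hac ha hc huv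
  have Y1r : mt y1 *ᵥ (ev (Fin.rev a) : Fin n → F) = ev (Fin.rev a) := by
    rw [hy1]
    apply bc1_Mm_ev_of_ne hφφ hrc hra hc h1 hrc
    rw [hrr]; exact ha.symm
  have Y1c : mt y1 *ᵥ (ev c : Fin n → F) = ev c + u1 • ev (Fin.rev a) := by
    rw [hy1]; exact bc1_Mm_ev_c hφφ hrc hra hc h1
  have Y1a : mt y1 *ᵥ (ev a : Fin n → F) = ev a - φ u1 • ev c + w • ev (Fin.rev a) := by
    have := bc1_Mm_ev_ra hφφ hrc hra hc h1
    rw [hrr] at this
    rw [hy1]; exact this
  have Y2r : mt y2 *ᵥ (ev (Fin.rev a) : Fin n → F) = ev (Fin.rev a) := by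
    rw [hy2]
    apply bc1_Mm_ev_of_ne hφφ hrc hra hc h2 hrc
    rw [hrr]; exact ha.symm
  have Y2c : mt y2 *ᵥ (ev c : Fin n → F) = ev c + u2 • ev (Fin.rev a) := by
    rw [hy2]; exact bc1_Mm_ev_c hφφ hrc hra hc h2
  have Y2a : mt y2 *ᵥ (ev a : Fin n → F) = ev a - φ u2 • ev c + w • ev (Fin.rev a) := by
    have := bc1_Mm_ev_ra hφφ hrc hra hc h2
    rw [hrr] at this
    rw [hy2]; exact this
  -- the scalar identities
  have K1 : 1 - u * φ u2 + w * v = 0 := by
    rw [hφu2, hw]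
    field_simp
    linear_combination huv
  have K2 : -φ u2 - w * φ u = 0 := by
    rw [hφu2, hw]
    field_simp
    ring
  have K3 : u + u2 * v = 0 := by
    rw [hu2]
    field_simp
    ring
  have K4 : 1 - u2 * φ u + φ v / v = 0 := by
    rw [hu2]
    field_simp
    linear_combination huv
  have K5 : (1 - u2 * φ u) * u1 + u2 = 0 := by
    have e : 1 - u2 * φ u = -(φ v / v) := by linear_combination K4
    rw [e, hu1, hu2]
    field_simp
    ring
  have K6 : -φ u - v * φ u1 = 0 := by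
    rw [hφu1]
    field_simp
    ring
  have K7 : 1 - φ u * u1 + v * w = 0 := by
    rw [hu1, hw]
    field_simp
    linear_combination huv
  -- `m = y1 x y2` is monomial
  have hm : IsMon (mt (y1 * x * y2)) (piL a) := by
    rw [mt_mul, mt_mul]
    unfold piL
    apply isMon_of_mulVec (fun q => if q = a then w else if q = c then -(φ v / v) else
      if q = Fin.rev a then v else 1)
    intro q
    rw [← Matrix.mulVec_mulVec, ← Matrix.mulVec_mulVec]
    by_cases q1 : q = a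
    · rw [q1, Equiv.swap_apply_left, if_pos rfl]
      simp only [Matrix.mulVec_add, Matrix.mulVec_sub, Matrix.mulVec_smul, Xa, Xc, Xr, Y1a, Y1c,
        Y1r, Y2a, Y2c, Y2r]
      ext p
      simp only [Pi.add_apply, Pi.sub_apply, Pi.smul_apply, smul_eq_mul]
      linear_combination ((ev a : Fin n → F) p - φ u1 * (ev c : Fin n → F) p
        + w * (ev (Fin.rev a) : Fin n → F) p) * K1
        + ((ev c : Fin n → F) p + u1 * (ev (Fin.rev a) : Fin n → F) p) * K2
    by_cases q2 : q = c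
    · rw [q2, Equiv.swap_apply_of_ne_of_ne hac.symm hrc.symm, if_neg hac.symm, if_pos rfl]
      simp only [Matrix.mulVec_add, Matrix.mulVec_sub, Matrix.mulVec_smul, Xa, Xc, Xr, Y1a, Y1c,
        Y1r, Y2a, Y2c, Y2r]
      ext p
      simp only [Pi.add_apply, Pi.sub_apply, Pi.smul_apply, smul_eq_mul]
      linear_combination ((ev a : Fin n → F) p - φ u1 * (ev c : Fin n → F) p
        + w * (ev (Fin.rev a) : Fin n → F) p) * K3
        + (ev c : Fin n → F) p * K4 + (ev (Fin.rev a) : Fin n → F) p * K5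
    by_cases q3 : q = Fin.rev a
    · rw [q3, Equiv.swap_apply_right, if_neg ha.symm, if_neg hrc, if_pos rfl]
      simp only [Matrix.mulVec_add, Matrix.mulVec_sub, Matrix.mulVec_smul, Xa, Xc, Xr, Y1a, Y1c,
        Y1r, Y2a, Y2c, Y2r]
      ext p
      simp only [Pi.add_apply, Pi.sub_apply, Pi.smul_apply, smul_eq_mul]
      linear_combination (ev c : Fin n → F) p * K6 + (ev (Fin.rev a) : Fin n → F) p * K7
    · have e1 : mt y2 *ᵥ (ev q : Fin n → F) = ev q := by
        rw [hy2]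
        apply bc1_Mm_ev_of_ne hφφ hrc hra hc h2 q2
        rw [hrr]; exact q1
      have e2 : mt x *ᵥ (ev q : Fin n → F) = ev q := by
        rw [hx]; exact bc1_Mm_ev_of_ne hφφ hac ha hc huv q2 q3
      have e3 : mt y1 *ᵥ (ev q : Fin n → F) = ev q := by
        rw [hy1]
        apply bc1_Mm_ev_of_ne hφφ hrc hra hc h1 q2
        rw [hrr]; exact q1
      rw [Equiv.swap_apply_of_ne_of_ne q1 q3, if_neg q1, if_neg q2, if_neg q3, e1, e2, e3,
        one_smul]
  -- the monomial element `s`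
  obtain ⟨s, hs⟩ : ∃ s : WSU n φ, s = wL φ a l := ⟨_, rfl⟩
  have hsmon : IsMon (mt s) (piL a) := by rw [hs]; exact wL_isMon ha hl0 hl
  have hsm : s * (y1 * x * y2) ∈ bor n φ := by
    apply mem_bor_of_isMon_one
    have := hsmon.mul hm
    rwa [piL_mul_self] at this
  -- `s y1 s⁻¹` is upper triangular
  have hsy : s * y1 * s⁻¹ ∈ bor n φ := by
    have hmon' : IsMon (mt s⁻¹) (piL a) := by
      have := hsmon.inv'
      rwa [piL_inv] at this
    have key := conj_inv_mem_bor (g := y1) hmon' ?_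
    · rwa [inv_inv] at key
    intro p q hpq
    rw [hy1, Mm_coe hφφ hrc hra hc h1]
    have hne : piL a p ≠ piL a q := by
      intro e
      have := (piL a).injective e
      rw [this] at hpq
      exact lt_irrefl _ hpq
    have pa : piL a a = Fin.rev a := Equiv.swap_apply_left _ _
    have pr : piL a (Fin.rev a) = a := Equiv.swap_apply_right _ _
    have pc : piL a c = c := Equiv.swap_apply_of_ne_of_ne hac.symm hrc.symm
    apply ga_MmM_apply_of_ne _ _ hne
    · rintro ⟨e1, e2⟩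
      have hp : p = a := (piL a).injective (by rw [e1, pa])
      have hq : q = c := (piL a).injective (by rw [e2, pc])
      rw [hp, hq] at hpq
      exact lt_asymm hac_lt hpq
    · rintro ⟨e1, e2⟩
      rw [hrr] at e2
      have hp : p = c := (piL a).injective (by rw [e1, pc])
      have hq : q = Fin.rev a := (piL a).injective (by rw [e2, pr])
      rw [hp, hq] at hpq
      exact lt_asymm hcr_lt hpq
    · rintro ⟨e1, e2⟩
      rw [hrr] at e2
      have hp : p = a := (piL a).injective (by rw [e1, pa])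
      have hq : q = Fin.rev a := (piL a).injective (by rw [e2, pr])
      rw [hp, hq] at hpq
      exact lt_asymm har_lt hpq
  -- assembly
  have hinv : y2⁻¹ = Mm φ (Fin.rev a) c (-u2) (φ w) := by
    rw [hy2]; exact bc1_Mm_inv hφφ hrc hra hc h2
  refine ⟨(s * y1 * s⁻¹)⁻¹ * (s * (y1 * x * y2)),
    (bor n φ).mul_mem ((bor n φ).inv_mem hsy) hsm, -u2, φ w,
    bc1_huv_inv hφφ hrc hra hc h2, ?_⟩
  rw [← hs, ← hx, ← hinv]
  group

end Cfsg.Agent.Helper13.SuP
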