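import Mathlib
import Cfsg.Agent.Lib.Helper13.SuBNPerm

/-!
# Permutations of `Fin n` commuting with `Fin.rev` are words in the simple reflections `pr n i`
(piece WGEN of S2546; adaptation of helper16's `SpBNWGen`)
-/

set_option autoImplicit false

namespace Cfsg.Agent.Helper13.SuP

open Cfsg.Agent.Helper13.SuBN

variable {n : ℕ}

theorem wg_val_rev (a : Fin n) : ((Fin.rev a : Fin n) : ℕ) = n - 1 - a.val := by
  rw [Fin.val_rev]; omega

theorem wg_rev_rev (a : Fin n) : Fin.rev (Fin.rev a) = a := Fin.rev_rev a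

theorem wg_rev_inj {a b : Fin n} (h : Fin.rev a = Fin.rev b) : a = b := Fin.rev_injective h

section piS

variable {a b : Fin n}

theorem wg_piS_a (hab' : a ≠ Fin.rev b) (ha : a ≠ Fin.rev a) : piS a b a = b := by
  unfold piS
  rw [Equiv.Perm.mul_apply, Equiv.swap_apply_of_ne_of_ne ha hab', Equiv.swap_apply_left]

theorem wg_piS_b (hab' : a ≠ Fin.rev b) (hb : b ≠ Fin.rev b) : piS a b b = a := by
  unfold piS
  have h2 : b ≠ Fin.rev a := fun e => hab' (by rw [e, wg_rev_rev])
  rw [Equiv.Perm.mul_apply, Equiv.swap_apply_of_ne_of_ne h2 hb, Equiv.swap_apply_right]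

theorem wg_piS_reva (hab' : a ≠ Fin.rev b) (hb : b ≠ Fin.rev b) :
    piS a b (Fin.rev a) = Fin.rev b := by
  unfold piS
  rw [Equiv.Perm.mul_apply, Equiv.swap_apply_left,
    Equiv.swap_apply_of_ne_of_ne (fun e => hab' e.symm) (fun e => hb e.symm)]

theorem wg_piS_revb (hab' : a ≠ Fin.rev b) (ha : a ≠ Fin.rev a) :
    piS a b (Fin.rev b) = Fin.rev a := by
  unfold piS
  have h2 : Fin.rev a ≠ b := fun e => hab' (by rw [← e, wg_rev_rev])
  rw [Equiv.Perm.mul_apply, Equiv.swap_apply_right,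
    Equiv.swap_apply_of_ne_of_ne (fun e => ha e.symm) h2]

theorem wg_piS_of_ne {x : Fin n} (h1 : x ≠ a) (h2 : x ≠ b) (h3 : x ≠ Fin.rev a)
    (h4 : x ≠ Fin.rev b) : piS a b x = x := by
  unfold piS
  rw [Equiv.Perm.mul_apply, Equiv.swap_apply_of_ne_of_ne h3 h4, Equiv.swap_apply_of_ne_of_ne h1 h2]

theorem wg_piS_cases (x : Fin n) :
    x = a ∨ x = b ∨ x = Fin.rev a ∨ x = Fin.rev b ∨ piS a b x = x := by
  by_cases h1 : x = a
  · exact Or.inl h1
  by_cases h2 : x = b
  · exact Or.inr (Or.inl h2)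
  by_cases h3 : x = Fin.rev a
  · exact Or.inr (Or.inr (Or.inl h3))
  by_cases h4 : x = Fin.rev b
  · exact Or.inr (Or.inr (Or.inr (Or.inl h4)))
  exact Or.inr (Or.inr (Or.inr (Or.inr (wg_piS_of_ne h1 h2 h3 h4))))

theorem wg_piS_comm_rev (hab' : a ≠ Fin.rev b) (ha : a ≠ Fin.rev a) (hb : b ≠ Fin.rev b)
    (x : Fin n) : piS a b (Fin.rev x) = Fin.rev (piS a b x) := by
  by_cases h1 : x = a
  · rw [h1, wg_piS_reva hab' hb, wg_piS_a hab' ha]
  by_cases h2 : x = b
  · rw [h2, wg_piS_revb hab' ha, wg_piS_b hab' hb]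
  by_cases h3 : x = Fin.rev a
  · rw [h3, wg_rev_rev, wg_piS_reva hab' hb, wg_piS_a hab' ha, wg_rev_rev]
  by_cases h4 : x = Fin.rev b
  · rw [h4, wg_rev_rev, wg_piS_revb hab' ha, wg_piS_b hab' hb, wg_rev_rev]
  rw [wg_piS_of_ne h1 h2 h3 h4]
  apply wg_piS_of_ne
  · intro e; exact h3 (by rw [← e, wg_rev_rev])
  · intro e; exact h4 (by rw [← e, wg_rev_rev])
  · intro e; exact h1 (wg_rev_inj e)
  · intro e; exact h2 (wg_rev_inj e)

theorem wg_piS_piS (hab' : a ≠ Fin.rev b) (ha : a ≠ Fin.rev a) (hb : b ≠ Fin.rev b)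
    (x : Fin n) : piS a b (piS a b x) = x := by
  rcases wg_piS_cases (a := a) (b := b) x with h | h | h | h | h
  · rw [h, wg_piS_a hab' ha, wg_piS_b hab' hb]
  · rw [h, wg_piS_b hab' hb, wg_piS_a hab' ha]
  · rw [h, wg_piS_reva hab' hb, wg_piS_revb hab' ha]
  · rw [h, wg_piS_revb hab' ha, wg_piS_reva hab' hb]
  · rw [h, h]

end piS

theorem wg_piL_comm_rev (a x : Fin n) : piL a (Fin.rev x) = Fin.rev (piL a x) := by
  unfold piL
  by_cases h1 : x = a
  · rw [h1, Equiv.swap_apply_right, Equiv.swap_apply_left, wg_rev_rev]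
  by_cases h2 : x = Fin.rev a
  · rw [h2, wg_rev_rev, Equiv.swap_apply_left, Equiv.swap_apply_right]
  rw [Equiv.swap_apply_of_ne_of_ne h1 h2]
  apply Equiv.swap_apply_of_ne_of_ne
  · intro e; exact h2 (by rw [← e, wg_rev_rev])
  · intro e; exact h1 (wg_rev_inj e)

/-! ### the simple reflections -/

/-- the partner index of the simple reflection `i` -/
def wgRb (n : ℕ) (i : Fin (n / 2)) : Fin n :=
  if h : i.val + 1 < n / 2 then ix' n i h else Fin.rev (ix n i)

theorem wg_ix_val (i : Fin (n / 2)) : (ix n i).val = i.val := rfl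

theorem wg_ix'_val (i : Fin (n / 2)) (h : i.val + 1 < n / 2) : (ix' n i h).val = i.val + 1 := rfl

theorem wg_ix_ne_rev (i : Fin (n / 2)) : ix n i ≠ Fin.rev (ix n i) := by
  intro e
  have h := congrArg Fin.val e
  rw [wg_val_rev, wg_ix_val] at h
  have := i.2
  omega

theorem wg_ix'_ne_rev (i : Fin (n / 2)) (h : i.val + 1 < n / 2) :
    ix' n i h ≠ Fin.rev (ix' n i h) := by
  intro e
  have h1 := congrArg Fin.val e
  rw [wg_val_rev, wg_ix'_val] at h1
  omega

theorem wg_ix_ne_rev' (i : Fin (n / 2)) (h : i.val + 1 < n / 2) :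
    ix n i ≠ Fin.rev (ix' n i h) := by
  intro e
  have h1 := congrArg Fin.val e
  rw [wg_val_rev, wg_ix'_val, wg_ix_val] at h1
  omega

theorem wg_val_rb (i : Fin (n / 2)) :
    (wgRb n i).val = if i.val + 1 < n / 2 then i.val + 1 else n - 1 - i.val := by
  unfold wgRb
  by_cases h : i.val + 1 < n / 2
  · rw [dif_pos h, if_pos h]; rfl
  · rw [dif_neg h, if_neg h, wg_val_rev]; rfl

theorem wg_ra_lt_rb (i : Fin (n / 2)) : (ix n i).val < (wgRb n i).val := by
  rw [wg_val_rb, wg_ix_val]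
  have := i.2
  split_ifs <;> omega

theorem wg_pr_comm_rev (i : Fin (n / 2)) (x : Fin n) :
    pr n i (Fin.rev x) = Fin.rev (pr n i x) := by
  by_cases h : i.val + 1 < n / 2
  · rw [pr_short h]
    exact wg_piS_comm_rev (wg_ix_ne_rev' i h) (wg_ix_ne_rev i) (wg_ix'_ne_rev i h) x
  · rw [pr_long h]
    exact wg_piL_comm_rev _ x

theorem wg_pr_pr (i : Fin (n / 2)) (x : Fin n) : pr n i (pr n i x) = x := by
  by_cases h : i.val + 1 < n / 2
  · rw [pr_short h]
    exact wg_piS_piS (wg_ix_ne_rev' i h) (wg_ix_ne_rev i) (wg_ix'_ne_rev i h) x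
  · rw [pr_long h]
    unfold piL
    exact Equiv.swap_apply_self _ _ x

theorem wg_pr_mul_self (i : Fin (n / 2)) : pr n i * pr n i = 1 := by
  ext x
  rw [Equiv.Perm.mul_apply, wg_pr_pr, Equiv.Perm.one_apply]

theorem wg_pr_ra (i : Fin (n / 2)) : pr n i (ix n i) = wgRb n i := by
  unfold wgRb
  by_cases h : i.val + 1 < n / 2
  · rw [pr_short h, dif_pos h]
    exact wg_piS_a (wg_ix_ne_rev' i h) (wg_ix_ne_rev i)
  · rw [pr_long h, dif_neg h]
    exact Equiv.swap_apply_left _ _

theorem wg_pr_rb (i : Fin (n / 2)) : pr n i (wgRb n i) = ix n i := by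
  rw [← wg_pr_ra, wg_pr_pr]

theorem wg_pr_fix_or (i : Fin (n / 2)) (x : Fin n) :
    pr n i x = x ∨ x = ix n i ∨ x = wgRb n i ∨ x = Fin.rev (ix n i) ∨ x = Fin.rev (wgRb n i) := by
  by_cases h : i.val + 1 < n / 2
  · have hrb : wgRb n i = ix' n i h := by unfold wgRb; rw [dif_pos h]
    rw [pr_short h, hrb]
    rcases wg_piS_cases (a := ix n i) (b := ix' n i h) x with h1 | h1 | h1 | h1 | h1
    · exact Or.inr (Or.inl h1)
    · exact Or.inr (Or.inr (Or.inl h1))
    · exact Or.inr (Or.inr (Or.inr (Or.inl h1)))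
    · exact Or.inr (Or.inr (Or.inr (Or.inr h1)))
    · exact Or.inl h1
  · by_cases h1 : x = ix n i
    · exact Or.inr (Or.inl h1)
    by_cases h3 : x = Fin.rev (ix n i)
    · exact Or.inr (Or.inr (Or.inr (Or.inl h3)))
    left
    rw [pr_long h]
    exact Equiv.swap_apply_of_ne_of_ne h1 h3

/-! ### no descent implies identity -/

theorem wg_perm_eq_one_of_val_le (π : Equiv.Perm (Fin n)) (h : ∀ b, (π b).val ≤ b.val) :
    π = 1 := by
  have hsum : ∑ b, (π b).val = ∑ b : Fin n, b.val := Equiv.sum_comp π (fun b : Fin n => b.val)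
  have h2 := (Finset.sum_eq_sum_iff_of_le (fun b _ => h b)).1 hsum
  ext b
  rw [Equiv.Perm.one_apply]
  exact congrArg Fin.val (Fin.ext (h2 b (Finset.mem_univ b)))

/-- a fixed point of `rev` is fixed by every permutation commuting with `rev` -/
theorem wg_fix_mid (π : Equiv.Perm (Fin n)) (hπ : ∀ a, π (Fin.rev a) = Fin.rev (π a))
    (c : Fin n) (hc : Fin.rev c = c) : π c = c := by
  have h1 : Fin.rev (π c) = π c := by rw [← hπ, hc]
  have h2 := congrArg Fin.val h1
  have h3 := congrArg Fin.val hc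
  rw [wg_val_rev] at h2 h3
  apply Fin.ext
  have := c.2
  have := (π c).2
  omega

theorem wg_val_lt_of_adjacent (π : Equiv.Perm (Fin n)) (hπ : ∀ a, π (Fin.rev a) = Fin.rev (π a))
    (h : ∀ i : Fin (n / 2), (π (ix n i)).val < (π (wgRb n i)).val) {a a' : Fin n}
    (haa : a'.val = a.val + 1) : (π a).val < (π a').val := by
  have ha' := a'.2
  by_cases c1 : a.val + 1 < n / 2
  · -- short root `i = a`
    have hi := h ⟨a.val, by omega⟩
    have e1 : ix n ⟨a.val, by omega⟩ = a := Fin.ext rfl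
    have e2 : wgRb n ⟨a.val, by omega⟩ = a' := by
      apply Fin.ext
      rw [wg_val_rb, if_pos (by exact c1), haa]
    rwa [e1, e2] at hi
  by_cases c2 : a.val + 1 = n / 2
  · have hi := h ⟨a.val, by omega⟩
    have e1 : ix n ⟨a.val, by omega⟩ = a := Fin.ext rfl
    rw [e1] at hi
    have e2 : wgRb n ⟨a.val, by omega⟩ = Fin.rev a := by
      apply Fin.ext
      rw [wg_val_rb, if_neg (by show ¬ a.val + 1 < n / 2; omega), wg_val_rev]
    rw [e2, hπ, wg_val_rev] at hi
    by_cases ev : n % 2 = 0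
    · -- `a' = rev a`
      have e3 : a' = Fin.rev a := by
        apply Fin.ext
        rw [wg_val_rev, haa]
        omega
      rw [e3, hπ, wg_val_rev]
      exact hi
    · -- `a'` is the middle
      have e3 : Fin.rev a' = a' := by
        apply Fin.ext
        rw [wg_val_rev, haa]
        omega
      rw [wg_fix_mid π hπ a' e3, haa]
      have := (π a).2
      omega
  by_cases c3 : a.val = n / 2 ∧ n % 2 = 1
  · -- `a` is the middle, `a' = rev (a - 1)`
    obtain ⟨c3, c4⟩ := c3
    have e3 : Fin.rev a = a := by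
      apply Fin.ext
      rw [wg_val_rev]
      omega
    rw [wg_fix_mid π hπ a e3]
    have hpos : 0 < n / 2 := by omega
    have hi := h ⟨a.val - 1, by omega⟩
    have e2 : wgRb n ⟨a.val - 1, by omega⟩ = a' := by
      apply Fin.ext
      rw [wg_val_rb, if_neg (by show ¬ a.val - 1 + 1 < n / 2; omega), haa]
      show n - 1 - (a.val - 1) = a.val + 1
      omega
    have e4 : ix n ⟨a.val - 1, by omega⟩ = Fin.rev a' := by
      apply Fin.ext
      rw [wg_val_rev, haa]
      show a.val - 1 = n - 1 - (a.val + 1)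
      omega
    rw [e2, e4, hπ, wg_val_rev] at hi
    have := (π a').2
    omega
  · -- both in the upper half: `a = rev (j+1)`, `a' = rev j`
    have hj : n - 1 - a'.val + 1 < n / 2 := by
      push Not at c3
      omega
    have hi := h ⟨n - 1 - a'.val, by omega⟩
    have e1 : ix n ⟨n - 1 - a'.val, by omega⟩ = Fin.rev a' := by
      apply Fin.ext
      rw [wg_val_rev]
      rfl
    have e2 : wgRb n ⟨n - 1 - a'.val, by omega⟩ = Fin.rev a := by
      apply Fin.ext
      rw [wg_val_rb, if_pos (by exact hj), wg_val_rev]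
      show n - 1 - a'.val + 1 = n - 1 - a.val
      omega
    rw [e1, e2, hπ, hπ, wg_val_rev, wg_val_rev] at hi
    have := (π a).2
    have := (π a').2
    omega

theorem wg_eq_one_of_no_descent (π : Equiv.Perm (Fin n))
    (hπ : ∀ a, π (Fin.rev a) = Fin.rev (π a))
    (h : ∀ i : Fin (n / 2), (π (ix n i)).val < (π (wgRb n i)).val) : π = 1 := by
  have hge : ∀ k : ℕ, ∀ a : Fin n, a.val = k → k ≤ (π a).val := by
    intro k
    induction k with
    | zero => intro a _; exact Nat.zero_le _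
    | succ k ih =>
      intro a ha
      have hk : k < n := by have := a.2; omega
      have h1 := ih ⟨k, hk⟩ rfl
      have h2 := wg_val_lt_of_adjacent π hπ h (a := ⟨k, hk⟩) (a' := a) (by rw [ha])
      omega
  have hinv : π⁻¹ = 1 := by
    apply wg_perm_eq_one_of_val_le
    intro b
    have := hge (π⁻¹ b).val (π⁻¹ b) rfl
    simpa using this
  rw [← inv_inv π, hinv, inv_one]

/-! ### the potential -/

/-- the potential -/
def wgPhi (π : Equiv.Perm (Fin n)) : ℤ := ∑ a : Fin n, (a.val : ℤ) * ((π a).val : ℤ)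

theorem wgPhi_le (π : Equiv.Perm (Fin n)) :
    wgPhi π ≤ ∑ a : Fin n, (a.val : ℤ) * (n : ℤ) := by
  apply Finset.sum_le_sum
  intro a _
  apply mul_le_mul_of_nonneg_left _ (by positivity)
  exact_mod_cast (π a).2.le

/-- the contribution of `a` to twice the increase of the potential -/
def wgT (π : Equiv.Perm (Fin n)) (i : Fin (n / 2)) (a : Fin n) : ℤ :=
  (((pr n i a).val : ℤ) - a.val) * (((π a).val : ℤ) - (π (pr n i a)).val)

theorem wg_two_mul_diff (π : Equiv.Perm (Fin n)) (i : Fin (n / 2)) :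
    ∑ a, wgT π i a = 2 * (wgPhi (π * pr n i) - wgPhi π) := by
  have e1 : ∑ a, ((pr n i a).val : ℤ) * (π a).val = wgPhi (π * pr n i) := by
    unfold wgPhi
    rw [← Equiv.sum_comp (pr n i) (fun b => (b.val : ℤ) * (((π * pr n i) b).val : ℤ))]
    apply Finset.sum_congr rfl
    intro a _
    rw [Equiv.Perm.mul_apply, wg_pr_pr]
  have e2 : ∑ a, ((pr n i a).val : ℤ) * (π (pr n i a)).val = wgPhi π :=
    Equiv.sum_comp (pr n i) (fun b => (b.val : ℤ) * ((π b).val : ℤ))
  have e3 : ∑ a : Fin n, (a.val : ℤ) * (π (pr n i a)).val = wgPhi (π * pr n i) := rfl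
  have e4 : ∑ a : Fin n, (a.val : ℤ) * (π a).val = wgPhi π := rfl
  calc ∑ a, wgT π i a
      = ∑ a, (((pr n i a).val : ℤ) * (π a).val - ((pr n i a).val : ℤ) * (π (pr n i a)).val
          - ((a.val : ℤ) * (π a).val - (a.val : ℤ) * (π (pr n i a)).val)) := by
        apply Finset.sum_congr rfl
        intro a _
        unfold wgT
        ring
    _ = 2 * (wgPhi (π * pr n i) - wgPhi π) := by
        rw [Finset.sum_sub_distrib, Finset.sum_sub_distrib, Finset.sum_sub_distrib, e1, e2, e3, e4]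
        ring

theorem wg_val_rev_int (a : Fin n) :
    (((Fin.rev a : Fin n) : ℕ) : ℤ) = (n : ℤ) - 1 - (a.val : ℤ) := by
  have h1 := wg_val_rev a
  have h2 := a.2
  omega

theorem wgT_rev (π : Equiv.Perm (Fin n)) (hπ : ∀ a, π (Fin.rev a) = Fin.rev (π a))
    (i : Fin (n / 2)) (x : Fin n) : wgT π i (Fin.rev x) = wgT π i x := by
  unfold wgT
  rw [wg_pr_comm_rev, hπ, hπ, wg_val_rev_int, wg_val_rev_int, wg_val_rev_int, wg_val_rev_int]
  ring

theorem wgT_ra (π : Equiv.Perm (Fin n)) (i : Fin (n / 2)) :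
    wgT π i (ix n i) = (((wgRb n i).val : ℤ) - (ix n i).val) *
      (((π (ix n i)).val : ℤ) - (π (wgRb n i)).val) := by
  unfold wgT
  rw [wg_pr_ra]

theorem wgT_rb (π : Equiv.Perm (Fin n)) (i : Fin (n / 2)) :
    wgT π i (wgRb n i) = (((wgRb n i).val : ℤ) - (ix n i).val) *
      (((π (ix n i)).val : ℤ) - (π (wgRb n i)).val) := by
  unfold wgT
  rw [wg_pr_rb]
  ring

theorem wgT_fix (π : Equiv.Perm (Fin n)) (i : Fin (n / 2)) {a : Fin n}
    (h : pr n i a = a) : wgT π i a = 0 := by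
  unfold wgT
  rw [h]
  ring

theorem wgPhi_lt_of_descent (π : Equiv.Perm (Fin n)) (hπ : ∀ a, π (Fin.rev a) = Fin.rev (π a))
    (i : Fin (n / 2)) (h : (π (wgRb n i)).val < (π (ix n i)).val) :
    wgPhi π < wgPhi (π * pr n i) := by
  have hδ : (0 : ℤ) < (((wgRb n i).val : ℤ) - (ix n i).val) *
      (((π (ix n i)).val : ℤ) - (π (wgRb n i)).val) := by
    apply mul_pos
    · have := wg_ra_lt_rb i
      omega
    · omega
  have hpos : 0 < ∑ a, wgT π i a := by
    apply Finset.sum_pos'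
    · intro a _
      rcases wg_pr_fix_or i a with h1 | rfl | rfl | rfl | rfl
      · rw [wgT_fix π i h1]
      · rw [wgT_ra]; exact hδ.le
      · rw [wgT_rb]; exact hδ.le
      · rw [wgT_rev π hπ, wgT_ra]; exact hδ.le
      · rw [wgT_rev π hπ, wgT_rb]; exact hδ.le
    · exact ⟨ix n i, Finset.mem_univ _, by rw [wgT_ra]; exact hδ⟩
  rw [wg_two_mul_diff] at hpos
  linarith

theorem exists_word {n : ℕ} (π : Equiv.Perm (Fin n)) (hπ : ∀ a, π (Fin.rev a) = Fin.rev (π a)) :
    ∃ l : List (Fin (n / 2)), π = (l.map (pr n)).prod := by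
  obtain ⟨B, hB⟩ : ∃ B : ℤ, B = ∑ a : Fin n, (a.val : ℤ) * (n : ℤ) := ⟨_, rfl⟩
  have key_ind : ∀ k : ℕ, ∀ π : Equiv.Perm (Fin n), (∀ a, π (Fin.rev a) = Fin.rev (π a)) →
      B - wgPhi π ≤ k → ∃ l : List (Fin (n / 2)), π = (l.map (pr n)).prod := by
    intro k
    induction k with
    | zero =>
      intro π hπ hn
      by_cases hd : ∀ i : Fin (n / 2), (π (ix n i)).val < (π (wgRb n i)).val
      · exact ⟨[], by rw [wg_eq_one_of_no_descent π hπ hd]; rfl⟩
      · exfalso
        push Not at hd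
        obtain ⟨i, hi⟩ := hd
        have hne : (π (wgRb n i)).val ≠ (π (ix n i)).val := by
          intro e
          have e2 := π.injective (Fin.ext e)
          have h1 := wg_ra_lt_rb i
          rw [e2] at h1
          omega
        have hlt := wgPhi_lt_of_descent π hπ i (lt_of_le_of_ne hi hne)
        have hle := wgPhi_le (π * pr n i)
        rw [← hB] at hle
        push_cast at hn
        linarith
    | succ k ih =>
      intro π hπ hn
      by_cases hd : ∀ i : Fin (n / 2), (π (ix n i)).val < (π (wgRb n i)).val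
      · exact ⟨[], by rw [wg_eq_one_of_no_descent π hπ hd]; rfl⟩
      · push Not at hd
        obtain ⟨i, hi⟩ := hd
        have hne : (π (wgRb n i)).val ≠ (π (ix n i)).val := by
          intro e
          have e2 := π.injective (Fin.ext e)
          have h1 := wg_ra_lt_rb i
          rw [e2] at h1
          omega
        have hlt := wgPhi_lt_of_descent π hπ i (lt_of_le_of_ne hi hne)
        have hπ' : ∀ a, (π * pr n i) (Fin.rev a) = Fin.rev ((π * pr n i) a) := by
          intro a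
          rw [Equiv.Perm.mul_apply, Equiv.Perm.mul_apply, wg_pr_comm_rev, hπ]
        obtain ⟨l, hl⟩ := ih (π * pr n i) hπ' (by push_cast at hn ⊢; linarith)
        refine ⟨l ++ [i], ?_⟩
        rw [List.map_append, List.prod_append, ← hl, List.map_singleton, List.prod_singleton,
          mul_assoc, wg_pr_mul_self, mul_one]
  have hle := wgPhi_le π
  rw [← hB] at hle
  exact key_ind (B - wgPhi π).toNat π hπ (by rw [Int.toNat_of_nonneg (by linarith)])

end Cfsg.Agent.Helper13.SuP
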