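import Mathlib
import Cfsg.Agent.Lib.Helper13.SuBN2

/-!
# The stabiliser of the first basis line in `WSU n φ`, `n ≤ 3`, is `bor` (piece GENB of S2546)
-/

set_option autoImplicit false

namespace Cfsg.Agent.Helper13.SuP

open Matrix Cfsg.Agent.Helper13.SuBN

variable {n : ℕ} {F : Type*} [Field F] {φ : F →+* F}

/-- if `g e_z = c e_z` then the column `z` and the row `rev z` of `g` are trivial -/
theorem gb_col_row (z : Fin n) (g : WSU n φ) (c : F)
    (hg : mt g *ᵥ (ev z : Fin n → F) = c • ev z) :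
    (∀ a, a ≠ z → mt g a z = 0) ∧ (∀ q, q ≠ Fin.rev z → mt g (Fin.rev z) q = 0) := by
  have hcol : ∀ a, a ≠ z → mt g a z = 0 := by
    intro a ha
    rw [← mulVec_ev (mt g) z a, hg, Pi.smul_apply, ev_ne (fun e => ha e.symm), smul_zero]
  refine ⟨hcol, ?_⟩
  have h1 : mt g⁻¹ *ᵥ (mt g *ᵥ (ev z : Fin n → F)) = ev z := by
    rw [Matrix.mulVec_mulVec, mt_inv_mul, Matrix.one_mulVec]
  rw [hg, Matrix.mulVec_smul] at h1
  have hc : c ≠ 0 := by
    intro h0
    have h2 := congrFun h1 z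
    rw [h0, zero_smul, Pi.zero_apply, ev_self] at h2
    exact zero_ne_one h2
  intro q hq
  have hq' : Fin.rev q ≠ z := by
    intro e
    apply hq
    rw [← e, Fin.rev_rev]
  have h2 := congrFun h1 (Fin.rev q)
  rw [Pi.smul_apply, mulVec_ev, ev_ne (fun e => hq' e.symm), smul_eq_mul] at h2
  have h3 : mt g⁻¹ (Fin.rev q) z = 0 := by
    rcases mul_eq_zero.1 h2 with h | h
    · exact absurd h hc
    · exact h
  rw [inv_apply, Fin.rev_rev, map_eq_zero] at h3
  exact h3

/-- **GENB** -/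
theorem mem_bor_of_mulVec_ev (hn : 2 ≤ n) (hn3 : n ≤ 3) (g : WSU n φ) (c : F)
    (hg : mt g *ᵥ (ev ⟨0, by omega⟩ : Fin n → F) = c • ev ⟨0, by omega⟩) : g ∈ bor n φ := by
  obtain ⟨hcol, hrow⟩ := gb_col_row ⟨0, by omega⟩ g c hg
  intro a b hab
  by_cases hb : b = ⟨0, by omega⟩
  · rw [hb]
    apply hcol
    intro e
    rw [e, hb] at hab
    exact lt_irrefl _ hab
  · have hb1 : 1 ≤ b.val := by
      rcases Nat.eq_zero_or_pos b.val with h | h
      · exact absurd (Fin.ext h) hb
      · exact h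
    have hab' : b.val < a.val := hab
    have ha2 := a.2
    have ha : a = Fin.rev (⟨0, by omega⟩ : Fin n) := by
      apply Fin.ext
      rw [Fin.val_rev]
      simp only
      omega
    rw [ha]
    apply hrow
    intro e
    rw [← ha] at e
    rw [e] at hab
    exact lt_irrefl _ hab

end Cfsg.Agent.Helper13.SuP
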