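import Mathlib
import Cfsg.Agent.Lib.Helper2.OrthOmega
import Cfsg.Agent.Lib.Helper2.OrthOrders
import Cfsg.Agent.Lib.Helper13.MatQuad

set_option autoImplicit false
set_option linter.unusedSectionVars false

namespace Cfsg.Agent.Helper2.Orth

open QuadraticMap Matrix Cfsg.Agent.Helper28.Siegel Cfsg.Agent.Helper17.Spinor Module
open Cfsg.Agent.Helper13

variable {F : Type*} [Field F] {ι : Type} [Fintype ι] [DecidableEq ι]

section general
variable {Q : QuadraticForm F (ι → F)}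

/-- odd characteristic: `|PΩ| · |Z| · 4 = |O|` with `|Z| = 2` or `1` according to `-1 ∈ Ω` -/
theorem card_POmega_of_odd [Fintype F] [Nonempty ι] {i₁ j₁ i₂ j₂ : ι}
    (hQ : (polarBilin Q).Nondegenerate) (h : TwoHyp Q i₁ j₁ i₂ j₂) (h2 : (2 : F) ≠ 0)
    (hn : 2 ≤ Fintype.card ι) (P : Prop) [Decidable P]
    (hP : (∃ g : Cfsg.isometryGroup F (⇑Q), g ∈ Cfsg.Omega F (⇑Q) ∧ g.1.1 = -1) ↔ P) :
    Nat.card (Cfsg.POmega F (⇑Q)) * (if P then 2 else 1) * 4 =
      Nat.card (Cfsg.isometryGroup F (⇑Q)) := by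
  have hS := fun (u v : ι → F) (hu : Q u = 0) (hv : Q v = 0) (huv : polar Q u v = 0) (c : F) =>
    siegG_mem_Omega_odd Q h2 hQ hu hv huv c
  rw [← card_POmega_mul, index_Omega Q h2 hQ hn]
  congr 2
  split_ifs with hp
  · exact (card_center_Omega_eq_two hQ h hS h2 (hP.mpr hp)).symm
  · exact (card_center_Omega_eq_one hQ h hS (Or.inr (fun hh => hp (hP.mp hh)))).symm

/-- characteristic two: `|PΩ| · 2 = |O|` -/
theorem card_POmega_of_two [Fintype F] {i₁ j₁ i₂ j₂ : ι}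
    (hQ : (polarBilin Q).Nondegenerate) (h : TwoHyp Q i₁ j₁ i₂ j₂) (h2 : (2 : F) = 0)
    (hex : Fintype.card F ≠ 2 ∨ Fintype.card ι ≠ 4) :
    Nat.card (Cfsg.POmega F (⇑Q)) * 2 = Nat.card (Cfsg.isometryGroup F (⇑Q)) := by
  have : CharP F 2 := CharTwo.of_one_ne_zero_of_two_eq_zero one_ne_zero h2
  have hS := fun (u v : ι → F) (hu : Q u = 0) (hv : Q v = 0) (huv : polar Q u v = 0) (c : F) =>
    siegG_mem_Omega_two Q hQ hex hu hv huv c
  have hu : Q (Pi.single i₁ 1 + Pi.single j₁ 1) ≠ 0 := by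
    have h3 : Q (Pi.single i₁ 1 + Pi.single j₁ 1) =
        Q (Pi.single i₁ 1) + Q (Pi.single j₁ 1) + polar Q (Pi.single i₁ 1) (Pi.single j₁ 1) := by
      unfold polar; ring
    rw [h3, h.s1, h.s2, h.p1]
    simp
  rw [← card_POmega_mul, index_Omega_char_two Q hQ hex hu,
    card_center_Omega_eq_one hQ h hS (Or.inl h2), mul_one]

end general

section matq

theorem polar_matQ_single_left (M : Matrix ι ι F) (k : ι) (v : ι → F) :
    polar (matQ M) (Pi.single k 1) v = ∑ l, (M k l + M l k) * v l := by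
  rw [polar_matQ, single_one_dotProduct]
  simp only [Matrix.mulVec, dotProduct, Matrix.add_apply, Matrix.transpose_apply]

theorem polar_matQ_single_left' (M : Matrix ι ι F) (k j : ι)
    (h : ∀ l, M k l + M l k = if l = j then 1 else 0) (v : ι → F) :
    polar (matQ M) (Pi.single k 1) v = v j := by
  rw [polar_matQ_single_left]
  simp only [h, ite_mul, one_mul, zero_mul, Finset.sum_ite_eq', Finset.mem_univ, if_true]

theorem twoHyp_matQ (M : Matrix ι ι F) {i₁ j₁ i₂ j₂ : ι}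
    (ne1 : i₁ ≠ j₁) (ne2 : i₁ ≠ i₂) (ne3 : i₁ ≠ j₂) (ne4 : j₁ ≠ i₂) (ne5 : j₁ ≠ j₂) (ne6 : i₂ ≠ j₂)
    (s1 : M i₁ i₁ = 0) (s2 : M j₁ j₁ = 0) (s3 : M i₂ i₂ = 0) (s4 : M j₂ j₂ = 0)
    (p1 : ∀ l, M i₁ l + M l i₁ = if l = j₁ then 1 else 0)
    (p2 : ∀ l, M j₁ l + M l j₁ = if l = i₁ then 1 else 0)
    (p3 : ∀ l, M i₂ l + M l i₂ = if l = j₂ then 1 else 0)
    (p4 : ∀ l, M j₂ l + M l j₂ = if l = i₂ then 1 else 0) :
    TwoHyp (matQ M) i₁ j₁ i₂ j₂ where
  ne1 := ne1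
  ne2 := ne2
  ne3 := ne3
  ne4 := ne4
  ne5 := ne5
  ne6 := ne6
  s1 := by rw [matQ_single, s1]
  s2 := by rw [matQ_single, s2]
  s3 := by rw [matQ_single, s3]
  s4 := by rw [matQ_single, s4]
  p1 := polar_matQ_single_left' M _ _ p1
  p2 := polar_matQ_single_left' M _ _ p2
  p3 := polar_matQ_single_left' M _ _ p3
  p4 := polar_matQ_single_left' M _ _ p4

end matq

section concrete

theorem twoHyp_plus (k : ℕ) :
    TwoHyp (matQ (plusMat (k + 2) F)) (Sum.inl 0) (Sum.inr 0) (Sum.inl 1) (Sum.inr 1) := by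
  apply twoHyp_matQ
  all_goals first
    | (intro l; rcases l with l | l <;> simp [plusMat, Matrix.one_apply, eq_comm])
    | simp [plusMat]

theorem twoHyp_odd (k : ℕ) :
    TwoHyp (matQ (oddMat (k + 2) F)) (Sum.inr (Sum.inl 0)) (Sum.inr (Sum.inr 0))
      (Sum.inr (Sum.inl 1)) (Sum.inr (Sum.inr 1)) := by
  apply twoHyp_matQ
  all_goals first
    | (intro l; rcases l with l | l | l <;> simp [oddMat, plusMat, Matrix.one_apply, eq_comm])
    | simp [oddMat, plusMat]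

theorem twoHyp_minus (k : ℕ) (a b : F) :
    TwoHyp (matQ (minusMat (k + 2) a b)) (Sum.inl (Sum.inl 0)) (Sum.inl (Sum.inr 0))
      (Sum.inl (Sum.inl 1)) (Sum.inl (Sum.inr 1)) := by
  apply twoHyp_matQ
  all_goals first
    | (intro l; rcases l with (l | l) | l <;> simp [minusMat, plusMat, Matrix.one_apply, eq_comm])
    | simp [minusMat, plusMat]

end concrete

end Cfsg.Agent.Helper2.Orth
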