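import Mathlib
import Cfsg.Agent.Lib.Helper2.SympGen

set_option autoImplicit false
set_option linter.unusedSimpArgs false

namespace Cfsg.Agent.Helper2.Symp

open Matrix
open scoped Cfsg.Agent.Helper2.Symp

variable {m : ℕ} {F : Type*} [Field F]

theorem tv_smul_of_orth {x x' : Fin m ⊕ Fin m → F} (h : Bf x x' = 0) (c : F) :
    tv x' c • x = x := by
  rw [tv_smul, h, mul_zero, zero_smul, add_zero]

theorem tv_mul_smul {h : Matrix.symplecticGroup (Fin m) F} {x : Fin m ⊕ Fin m → F}
    (hx : h • x = x) (c : F) (y : Fin m ⊕ Fin m → F) :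
    (tv x c * h) • y = h • y + (c * Bf y x) • x := by
  rw [mul_smul, tv_smul]
  congr 3
  rw [← Bf_smul_smul h y x, hx]

/-- relation between transvections along orthogonal vectors -/
theorem rel_two (u w : Fin m ⊕ Fin m → F) (h : Bf u w = 0) (s : F) :
    tv (u + w) s * tv (u - w) s = tv u (2 * s) * tv w (2 * s) := by
  have h' : Bf w u = 0 := by rw [Bf_skew, h, neg_zero]
  have h1 : Bf (u + w) (u - w) = 0 := by
    rw [Bf_add_left, Bf_sub_right, Bf_sub_right, Bf_self, Bf_self, h, h']
    ring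
  apply ext_smul
  intro y
  rw [tv_mul_tv_orth _ _ _ _ h1, tv_mul_tv_orth _ _ _ _ h, Bf_add_right, Bf_sub_right]
  module

/-- relation between transvections along three mutually orthogonal vectors in characteristic 2 -/
theorem rel_three (u v w : Fin m ⊕ Fin m → F) (huv : Bf u v = 0) (huw : Bf u w = 0)
    (hvw : Bf v w = 0) (h2 : (2 : F) = 0) (s : F) :
    tv (u + v + w) s * (tv (u + v) s * (tv (v + w) s * tv (u + w) s)) =
      tv u s * (tv v s * tv w s) := by
  have hvu : Bf v u = 0 := by rw [Bf_skew, huv, neg_zero]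
  have hwu : Bf w u = 0 := by rw [Bf_skew, huw, neg_zero]
  have hwv : Bf w v = 0 := by rw [Bf_skew, hvw, neg_zero]
  have o1 : Bf (v + w) (u + w) = 0 := by
    simp only [Bf_add_left, Bf_add_right, Bf_self, huv, huw, hvw, hvu, hwu, hwv, add_zero]
  have o2 : Bf (u + v) (v + w) = 0 := by
    simp only [Bf_add_left, Bf_add_right, Bf_self, huv, huw, hvw, hvu, hwu, hwv, add_zero]
  have o3 : Bf (u + v) (u + w) = 0 := by
    simp only [Bf_add_left, Bf_add_right, Bf_self, huv, huw, hvw, hvu, hwu, hwv, add_zero]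
  have o4 : Bf (u + v + w) (v + w) = 0 := by
    simp only [Bf_add_left, Bf_add_right, Bf_self, huv, huw, hvw, hvu, hwu, hwv, add_zero]
  have o5 : Bf (u + v + w) (u + w) = 0 := by
    simp only [Bf_add_left, Bf_add_right, Bf_self, huv, huw, hvw, hvu, hwu, hwv, add_zero]
  have o6 : Bf (u + v + w) (u + v) = 0 := by
    simp only [Bf_add_left, Bf_add_right, Bf_self, huv, huw, hvw, hvu, hwu, hwv, add_zero]
  have f1 : (tv (v + w) s * tv (u + w) s) • (u + v) = u + v := by
    rw [mul_smul, tv_smul_of_orth o3, tv_smul_of_orth o2]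
  have f2 : (tv (u + v) s * (tv (v + w) s * tv (u + w) s)) • (u + v + w) = u + v + w := by
    rw [mul_smul, mul_smul, tv_smul_of_orth o5, tv_smul_of_orth o4, tv_smul_of_orth o6]
  have f3 : (tv v s * tv w s) • u = u := by
    rw [mul_smul, tv_smul_of_orth huw, tv_smul_of_orth huv]
  apply ext_smul
  intro y
  rw [tv_mul_smul f2, tv_mul_smul f1, tv_mul_tv_orth _ _ _ _ o1, tv_mul_smul f3,
    tv_mul_tv_orth _ _ _ _ hvw]
  simp only [Bf_add_right]
  linear_combination (norm := module) (s * (Bf y u + Bf y v + Bf y w)) • (h2 • (u + v + w))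

/-! ### The abelianization -/

/-- the image of a transvection in the abelianization -/
noncomputable def tau (x : Fin m ⊕ Fin m → F) (s : F) :
    Abelianization (Matrix.symplecticGroup (Fin m) F) := Abelianization.of (tv x s)

theorem tau_conj (g : Matrix.symplecticGroup (Fin m) F) (x : Fin m ⊕ Fin m → F) (s : F) :
    tau (g • x) s = tau x s := by
  unfold tau
  rw [← conj_tv, map_mul, map_mul, map_inv, mul_comm, inv_mul_cancel_left]

theorem tau_add (x : Fin m ⊕ Fin m → F) (s s' : F) : tau x (s + s') = tau x s * tau x s' := by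
  unfold tau
  rw [← tv_mul_tv, map_mul]

theorem tau_zero_left (s : F) : tau (0 : Fin m ⊕ Fin m → F) s = 1 := by
  unfold tau
  rw [tv_zero_left, map_one]

theorem tau_eq_of_ne_zero {x x' : Fin m ⊕ Fin m → F} (hx : x ≠ 0) (hx' : x' ≠ 0) (s : F) :
    tau x s = tau x' s := by
  obtain ⟨g, -, hg⟩ := trans_vec (U := ⊤) isND_top (Submodule.mem_top : x ∈ ⊤)
    (Submodule.mem_top : x' ∈ ⊤) hx hx'
  rw [← hg, tau_conj]

theorem commutator_eq_top_of_tau
    (h : ∀ (x : Fin m ⊕ Fin m → F) (s : F), x ≠ 0 → tau x s = 1) :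
    commutator (Matrix.symplecticGroup (Fin m) F) = ⊤ := by
  rw [eq_top_iff, ← tvGroup_top_eq_top (m := m) (F := F)]
  unfold tvGroup
  rw [Subgroup.closure_le]
  rintro g ⟨x, -, c, rfl⟩
  rw [SetLike.mem_coe, ← Abelianization.ker_of, MonoidHom.mem_ker]
  by_cases hx : x = 0
  · rw [hx]; exact tau_zero_left c
  · exact h x c hx

theorem tau_eq_one_of_four_le [Fintype F] (hq : 4 ≤ Fintype.card F)
    (x : Fin m ⊕ Fin m → F) (s : F) (hx : x ≠ 0) : tau x s = 1 := by
  classical
  obtain ⟨a, ha0, ha1⟩ : ∃ a : F, a ≠ 0 ∧ a * a ≠ 1 := by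
    by_contra hcon
    push Not at hcon
    have hsub : (Finset.univ : Finset F) ⊆ {0, 1, -1} := by
      intro a _
      by_cases ha : a = 0
      · simp [ha]
      · have h1 : (a - 1) * (a + 1) = 0 := by linear_combination hcon a ha
        rcases mul_eq_zero.1 h1 with h2 | h2
        · have : a = 1 := sub_eq_zero.1 h2
          simp [this]
        · have : a = -1 := eq_neg_of_add_eq_zero_left h2
          simp [this]
    have h3 := Finset.card_le_card hsub
    have h4 : ({0, 1, -1} : Finset F).card ≤ 3 := Finset.card_le_three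
    rw [Finset.card_univ] at h3
    omega
  have hne : a * a - 1 ≠ 0 := sub_ne_zero.2 ha1
  have hax : a • x ≠ 0 := smul_ne_zero ha0 hx
  have key : ∀ s' : F, tau x ((a * a - 1) * s') = 1 := by
    intro s'
    have h1 : tau (a • x) s' = tau x (a * a * s') := by
      unfold tau; rw [tv_smul_vec]
    have h2 : tau (a • x) s' = tau x s' := tau_eq_of_ne_zero hax hx s'
    have h3 : a * a * s' = s' + (a * a - 1) * s' := by ring
    rw [h2, h3, tau_add] at h1
    exact left_eq_mul.1 h1
  have := key (s / (a * a - 1))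
  rwa [mul_div_cancel₀ _ hne] at this


theorem eV_apply_inl (i j : Fin m) : (eV i : Fin m ⊕ Fin m → F) (Sum.inl j) = if j = i then 1 else 0 := by
  simp [eV, Pi.single_apply]

theorem Bf_eV_eV (i j : Fin m) : Bf (eV i : Fin m ⊕ Fin m → F) (eV j) = 0 := by
  rw [Bf_eV_right]
  simp [eV]

theorem tau_eq_one_of_two_ne_zero (h2 : (2 : F) ≠ 0) (hm : 2 ≤ m)
    (x : Fin m ⊕ Fin m → F) (s : F) (hx : x ≠ 0) : tau x s = 1 := by
  set i₀ : Fin m := ⟨0, by omega⟩ with hi₀
  set i₁ : Fin m := ⟨1, by omega⟩ with hi₁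
  have hne : i₁ ≠ i₀ := by
    intro h
    have := congrArg Fin.val h
    simp [hi₀, hi₁] at this
  set u : Fin m ⊕ Fin m → F := eV i₁ with hu
  set w : Fin m ⊕ Fin m → F := eV i₀ with hw
  have huw : Bf u w = 0 := Bf_eV_eV _ _
  have hu0 : u ≠ 0 := eV_ne_zero _
  have hw0 : w ≠ 0 := eV_ne_zero _
  have h1 : u + w ≠ 0 := by
    intro h
    have := congrFun h (Sum.inl i₁)
    simp [hu, hw, eV_apply_inl, hne] at this
  have h3 : u - w ≠ 0 := by
    intro h
    have := congrFun h (Sum.inl i₁)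
    simp [hu, hw, eV_apply_inl, hne] at this
  have key : ∀ s' : F, tau x (2 * s') = 1 := by
    intro s'
    have hrel := congrArg Abelianization.of (rel_two u w huw s')
    rw [map_mul, map_mul] at hrel
    change tau (u + w) s' * tau (u - w) s' = tau u (2 * s') * tau w (2 * s') at hrel
    rw [tau_eq_of_ne_zero h1 hx, tau_eq_of_ne_zero h3 hx, tau_eq_of_ne_zero hu0 hx,
      tau_eq_of_ne_zero hw0 hx, ← tau_add, ← two_mul] at hrel
    exact left_eq_mul.1 hrel
  have := key (s / 2)
  rwa [mul_div_cancel₀ _ h2] at this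

theorem tau_eq_one_of_two_eq_zero (h2 : (2 : F) = 0) (hm : 3 ≤ m)
    (x : Fin m ⊕ Fin m → F) (s : F) (hx : x ≠ 0) : tau x s = 1 := by
  set i₀ : Fin m := ⟨0, by omega⟩ with hi₀
  set i₁ : Fin m := ⟨1, by omega⟩ with hi₁
  set i₂ : Fin m := ⟨2, by omega⟩ with hi₂
  have h01 : i₀ ≠ i₁ := by
    intro h
    have := congrArg Fin.val h
    simp [hi₀, hi₁] at this
  have h02 : i₀ ≠ i₂ := by
    intro h
    have := congrArg Fin.val h
    simp [hi₀, hi₂] at this
  have h12 : i₁ ≠ i₂ := by
    intro h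
    have := congrArg Fin.val h
    simp [hi₁, hi₂] at this
  set u : Fin m ⊕ Fin m → F := eV i₀ with hu
  set v : Fin m ⊕ Fin m → F := eV i₁ with hv
  set w : Fin m ⊕ Fin m → F := eV i₂ with hw
  have hu0 : u ≠ 0 := eV_ne_zero _
  have hv0 : v ≠ 0 := eV_ne_zero _
  have hw0 : w ≠ 0 := eV_ne_zero _
  have n1 : u + v + w ≠ 0 := by
    intro h
    have := congrFun h (Sum.inl i₀)
    simp [hu, hv, hw, eV_apply_inl, h01, h02] at this
  have n2 : u + v ≠ 0 := by
    intro h
    have := congrFun h (Sum.inl i₀)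
    simp [hu, hv, eV_apply_inl, h01] at this
  have n3 : v + w ≠ 0 := by
    intro h
    have := congrFun h (Sum.inl i₁)
    simp [hv, hw, eV_apply_inl, h12] at this
  have n4 : u + w ≠ 0 := by
    intro h
    have := congrFun h (Sum.inl i₀)
    simp [hu, hw, eV_apply_inl, h02] at this
  have hrel := congrArg Abelianization.of
    (rel_three u v w (Bf_eV_eV _ _) (Bf_eV_eV _ _) (Bf_eV_eV _ _) h2 s)
  rw [map_mul, map_mul, map_mul, map_mul, map_mul] at hrel
  change tau (u + v + w) s * (tau (u + v) s * (tau (v + w) s * tau (u + w) s)) =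
    tau u s * (tau v s * tau w s) at hrel
  rw [tau_eq_of_ne_zero n1 hx, tau_eq_of_ne_zero n2 hx, tau_eq_of_ne_zero n3 hx,
    tau_eq_of_ne_zero n4 hx, tau_eq_of_ne_zero hu0 hx, tau_eq_of_ne_zero hv0 hx,
    tau_eq_of_ne_zero hw0 hx] at hrel
  exact mul_eq_right.1 hrel

/-- `Sp_{2m}(q)` is perfect, except for `Sp_2(2)`, `Sp_2(3)`, `Sp_4(2)` -/
theorem commutator_symplecticGroup_eq_top [Fintype F] (m : ℕ)
    (h : 3 ≤ m ∨ (m = 2 ∧ 3 ≤ Fintype.card F) ∨ 4 ≤ Fintype.card F) :
    commutator (Matrix.symplecticGroup (Fin m) F) = ⊤ := by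
  apply commutator_eq_top_of_tau
  by_cases h4 : 4 ≤ Fintype.card F
  · exact fun x s hx => tau_eq_one_of_four_le h4 x s hx
  · have hm : 2 ≤ m := by omega
    by_cases h2 : (2 : F) = 0
    · have h3 : ¬ 3 ≤ Fintype.card F := by
        intro h3
        have hc : Fintype.card F = 3 := by omega
        have h5 : ((Fintype.card F : ℕ) : F) = 0 := FiniteField.cast_card_eq_zero F
        rw [hc] at h5
        have h6 : (1 : F) = 0 := by
          have : ((3 : ℕ) : F) = 2 + 1 := by norm_num
          rw [this, h2, zero_add] at h5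
          exact h5
        exact one_ne_zero h6
      have hm3 : 3 ≤ m := by omega
      exact fun x s hx => tau_eq_one_of_two_eq_zero h2 hm3 x s hx
    · exact fun x s hx => tau_eq_one_of_two_ne_zero h2 hm x s hx


end Cfsg.Agent.Helper2.Symp
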