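import Mathlib
import Cfsg.Agent.Lib.Helper2.SympPerfect
import Cfsg.Agent.Lib.Helper2.SympCard

set_option autoImplicit false

namespace Cfsg.Agent.Helper2.Symp

open Matrix MulAction
open scoped Cfsg.Agent.Helper2.Symp LinearAlgebra.Projectivization Pointwise

variable {m : ℕ} {F : Type*} [Field F]

theorem smul_ne_zero_vec (g : Matrix.symplecticGroup (Fin m) F) {v : Fin m ⊕ Fin m → F}
    (hv : v ≠ 0) : g • v ≠ 0 := (smul_ne_zero_iff_ne g).mpr hv

theorem smul_mk' (g : Matrix.symplecticGroup (Fin m) F) {v : Fin m ⊕ Fin m → F} (hv : v ≠ 0) :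
    g • Projectivization.mk F v hv = Projectivization.mk F (g • v) (smul_ne_zero_vec g hv) := rfl

theorem mk_smul_eq {v : Fin m ⊕ Fin m → F} (hv : v ≠ 0) {a : F} (ha : a ≠ 0) :
    Projectivization.mk F (a • v) (smul_ne_zero ha hv) = Projectivization.mk F v hv := by
  rw [Projectivization.mk_eq_mk_iff']
  exact ⟨a, rfl⟩

/-- within a block: from a non-orthogonal pair to all points non-orthogonal to the first -/
theorem block_step {B : Set (ℙ F (Fin m ⊕ Fin m → F))}
    (hB : IsBlock (Matrix.symplecticGroup (Fin m) F) B)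
    {v w x : Fin m ⊕ Fin m → F} (hv : v ≠ 0) (hw : w ≠ 0) (hx : x ≠ 0)
    (hvB : Projectivization.mk F v hv ∈ B) (hwB : Projectivization.mk F w hw ∈ B)
    (hvw : Bf v w ≠ 0) (hvx : Bf v x ≠ 0) : Projectivization.mk F x hx ∈ B := by
  have h1 : Bf v ((Bf v w)⁻¹ • w) = 1 := by rw [Bf_smul_right, inv_mul_cancel₀ hvw]
  have h2 : Bf v ((Bf v x)⁻¹ • x) = 1 := by rw [Bf_smul_right, inv_mul_cancel₀ hvx]
  obtain ⟨g, -, e1, e2⟩ := trans_fix (U := ⊤) (Submodule.mem_top : v ∈ ⊤)
    (Submodule.mem_top : (Bf v w)⁻¹ • w ∈ ⊤) (Submodule.mem_top : (Bf v x)⁻¹ • x ∈ ⊤) h1 h2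
  have hgB : g • B = B := by
    apply hB.smul_eq_of_mem hvB
    rw [smul_mk']
    simp only [e1]
    exact hvB
  have h3 : g • Projectivization.mk F w hw ∈ B := by
    rw [← hgB]
    exact Set.smul_mem_smul_set hwB
  have h4 : g • Projectivization.mk F w hw = Projectivization.mk F x hx := by
    rw [← mk_smul_eq hw (inv_ne_zero hvw), ← mk_smul_eq hx (inv_ne_zero hvx), smul_mk']
    simp only [e2]
  rw [← h4]
  exact h3

/-- a block containing two non-orthogonal points is everything -/
theorem block_eq_univ_of_nonorth {B : Set (ℙ F (Fin m ⊕ Fin m → F))}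
    (hB : IsBlock (Matrix.symplecticGroup (Fin m) F) B)
    {v w : Fin m ⊕ Fin m → F} (hv : v ≠ 0) (hw : w ≠ 0)
    (hvB : Projectivization.mk F v hv ∈ B) (hwB : Projectivization.mk F w hw ∈ B)
    (hvw : Bf v w ≠ 0) : B = Set.univ := by
  rw [Set.eq_univ_iff_forall]
  intro p
  induction p using Projectivization.ind with
  | h x hx =>
    by_cases hvx : Bf v x = 0
    · obtain ⟨y, -, hy1, hy2⟩ := exists_avoid (U := ⊤) isND_top (Submodule.mem_top : v ∈ ⊤)
        (Submodule.mem_top : x ∈ ⊤) hv hx
      have hy : y ≠ 0 := by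
        rintro rfl
        exact hy1 (Bf_zero_right v)
      have hyB := block_step hB hv hw hy hvB hwB hvw hy1
      have hyv : Bf y v ≠ 0 := by rw [Bf_skew]; exact neg_ne_zero.2 hy1
      have hyx : Bf y x ≠ 0 := by rw [Bf_skew]; exact neg_ne_zero.2 hy2
      exact block_step hB hy hv hx hyB hvB hyv hyx
    · exact block_step hB hv hw hx hvB hwB hvw hvx

/-- two distinct orthogonal points: a vector orthogonal to the first but not the second -/
theorem exists_orth_not_orth {v w : Fin m ⊕ Fin m → F} (hv : v ≠ 0) (hw : w ≠ 0)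
    (hne : Projectivization.mk F v hv ≠ Projectivization.mk F w hw) :
    ∃ y, Bf v y = 0 ∧ Bf w y ≠ 0 := by
  by_contra hcon
  push Not at hcon
  apply hne
  obtain ⟨z, -, hz⟩ := exists_partner (U := ⊤) isND_top (Submodule.mem_top : v ∈ ⊤) hv
  have h1 : ∀ y, Bf (w - Bf w z • v) y = 0 := by
    intro y
    have h2 : Bf v (y - Bf v y • z) = 0 := by
      rw [Bf_sub_right, Bf_smul_right, hz, mul_one, sub_self]
    have h3 := hcon _ h2
    rw [Bf_sub_right, Bf_smul_right] at h3
    rw [Bf_sub_left, Bf_smul_left]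
    linear_combination h3
  have h4 : w - Bf w z • v = 0 := by
    by_contra h5
    obtain ⟨y, hy⟩ := exists_Bf_ne_zero h5
    exact hy (h1 y)
  rw [Projectivization.mk_eq_mk_iff']
  have h6 : w = Bf w z • v := sub_eq_zero.1 h4
  have h7 : Bf w z ≠ 0 := by
    intro h8
    rw [h8, zero_smul] at h6
    exact hw h6
  refine ⟨(Bf w z)⁻¹, ?_⟩
  generalize Bf w z = c at h6 h7 ⊢
  rw [h6, smul_smul, inv_mul_cancel₀ h7, one_smul]

theorem isPretransitive_proj :
    IsPretransitive (Matrix.symplecticGroup (Fin m) F) (ℙ F (Fin m ⊕ Fin m → F)) := by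
  constructor
  intro p p'
  induction p using Projectivization.ind with
  | h v hv =>
    induction p' using Projectivization.ind with
    | h w hw =>
      obtain ⟨g, -, hg⟩ := trans_vec (U := ⊤) isND_top (Submodule.mem_top : v ∈ ⊤)
        (Submodule.mem_top : w ∈ ⊤) hv hw
      refine ⟨g, ?_⟩
      rw [smul_mk']
      simp only [hg]

/-- the symplectic group acts primitively on the points of projective space -/
theorem isPreprimitive_proj :
    IsPreprimitive (Matrix.symplecticGroup (Fin m) F) (ℙ F (Fin m ⊕ Fin m → F)) := by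
  have := isPretransitive_proj (m := m) (F := F)
  constructor
  intro B hB
  by_cases hs : B.Subsingleton
  · exact Or.inl hs
  · right
    rw [Set.not_subsingleton_iff] at hs
    obtain ⟨p, hp, p', hp', hne⟩ := hs
    induction p using Projectivization.ind with
    | h v hv =>
      induction p' using Projectivization.ind with
      | h w hw =>
        by_cases hvw : Bf v w = 0
        · obtain ⟨y, hy1, hy2⟩ := exists_orth_not_orth hv hw hne
          have hgB : tv y (1 : F) • B = B := by
            apply hB.smul_eq_of_mem hp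
            rw [smul_mk']
            simp only [tv_smul_of_orth hy1]
            exact hp
          have h3 : tv y (1 : F) • Projectivization.mk F w hw ∈ B := by
            rw [← hgB]
            exact Set.smul_mem_smul_set hp'
          rw [smul_mk'] at h3
          have h4 : Bf w (tv y (1 : F) • w) ≠ 0 := by
            rw [tv_smul, Bf_add_right, Bf_self, zero_add, Bf_smul_right, one_mul]
            exact mul_ne_zero hy2 hy2
          exact block_eq_univ_of_nonorth hB hw _ hp' h3 h4
        · exact block_eq_univ_of_nonorth hB hv hw hp hp' hvw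

/-! ### The Iwasawa structure -/

/-- the root group of a vector -/
def rootGroup (v : Fin m ⊕ Fin m → F) : Subgroup (Matrix.symplecticGroup (Fin m) F) where
  carrier := {g | ∃ c : F, g = tv v c}
  mul_mem' := by
    rintro _ _ ⟨c, rfl⟩ ⟨d, rfl⟩
    exact ⟨c + d, tv_mul_tv v c d⟩
  one_mem' := ⟨0, (tv_zero_right v).symm⟩
  inv_mem' := by
    rintro _ ⟨c, rfl⟩
    exact ⟨-c, tv_inv v c⟩

theorem mem_rootGroup {v : Fin m ⊕ Fin m → F} {g : Matrix.symplecticGroup (Fin m) F} :
    g ∈ rootGroup v ↔ ∃ c : F, g = tv v c := Iff.rfl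

theorem rootGroup_smul_vec (v : Fin m ⊕ Fin m → F) {a : F} (ha : a ≠ 0) :
    rootGroup (a • v) = rootGroup v := by
  ext g
  rw [mem_rootGroup, mem_rootGroup]
  constructor
  · rintro ⟨c, rfl⟩
    exact ⟨a * a * c, tv_smul_vec a v c⟩
  · rintro ⟨c, rfl⟩
    refine ⟨c / (a * a), ?_⟩
    rw [tv_smul_vec, mul_div_cancel₀ _ (mul_ne_zero ha ha)]

theorem rootGroup_conj (g : Matrix.symplecticGroup (Fin m) F) (v : Fin m ⊕ Fin m → F) :
    rootGroup (g • v) = MulAut.conj g • rootGroup v := by
  ext h
  rw [mem_rootGroup, Subgroup.mem_pointwise_smul_iff_inv_smul_mem, mem_rootGroup]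
  constructor
  · rintro ⟨c, rfl⟩
    refine ⟨c, ?_⟩
    rw [← conj_tv, MulAut.smul_def, MulAut.conj_inv_apply]
    group
  · rintro ⟨c, hc⟩
    refine ⟨c, ?_⟩
    rw [← conj_tv, ← hc, MulAut.smul_def, MulAut.conj_inv_apply]
    group

theorem rootGroup_isMulCommutative (v : Fin m ⊕ Fin m → F) : IsMulCommutative (rootGroup v) := by
  refine ⟨⟨?_⟩⟩
  rintro ⟨_, c, rfl⟩ ⟨_, d, rfl⟩
  apply Subtype.ext
  show tv v c * tv v d = tv v d * tv v c
  rw [tv_mul_tv, tv_mul_tv, add_comm]

theorem rootGroup_rep {v : Fin m ⊕ Fin m → F} (hv : v ≠ 0) :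
    rootGroup (Projectivization.mk F v hv).rep = rootGroup v := by
  have h1 : Projectivization.mk F (Projectivization.mk F v hv).rep
      (Projectivization.rep_nonzero _) = Projectivization.mk F v hv :=
    Projectivization.mk_rep _
  rw [Projectivization.mk_eq_mk_iff'] at h1
  obtain ⟨a, ha⟩ := h1
  have ha0 : a ≠ 0 := by
    rintro rfl
    rw [zero_smul] at ha
    exact Projectivization.rep_nonzero _ ha.symm
  rw [← ha, rootGroup_smul_vec v ha0]

/-- the Iwasawa structure of the symplectic group acting on projective points -/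
noncomputable def spIwasawa (m : ℕ) (F : Type*) [Field F] :
    IwasawaStructure (Matrix.symplecticGroup (Fin m) F) (ℙ F (Fin m ⊕ Fin m → F)) where
  T p := rootGroup p.rep
  is_comm p := rootGroup_isMulCommutative _
  is_conj g p := by
    have h1 : g • p = Projectivization.mk F (g • p.rep) (smul_ne_zero_vec g p.rep_nonzero) := by
      conv_lhs => rw [← Projectivization.mk_rep p]
      rfl
    rw [h1, rootGroup_rep, rootGroup_conj]
  is_generator := by
    rw [eq_top_iff, ← tvGroup_top_eq_top (m := m) (F := F)]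
    unfold tvGroup
    rw [Subgroup.closure_le]
    rintro g ⟨x, -, c, rfl⟩
    by_cases hx : x = 0
    · rw [hx, tv_zero_left]
      exact Subgroup.one_mem _
    · have h1 : tv x c ∈ rootGroup (Projectivization.mk F x hx).rep := by
        rw [rootGroup_rep]
        exact ⟨c, rfl⟩
      exact Subgroup.mem_iSup_of_mem (Projectivization.mk F x hx) h1


/-! ### The kernel of the action and simplicity -/

/-- an element fixing every projective point acts as a scalar -/
theorem exists_scalar_of_fixes {g : Matrix.symplecticGroup (Fin m) F}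
    (hg : ∀ p : ℙ F (Fin m ⊕ Fin m → F), g • p = p) :
    ∃ a : F, ∀ v : Fin m ⊕ Fin m → F, g • v = a • v := by
  have hpt : ∀ v : Fin m ⊕ Fin m → F, v ≠ 0 → ∃ a : F, g • v = a • v := by
    intro v hv
    have h1 := hg (Projectivization.mk F v hv)
    rw [smul_mk', Projectivization.mk_eq_mk_iff'] at h1
    obtain ⟨a, ha⟩ := h1
    exact ⟨a, ha.symm⟩
  have hconst : ∀ (v w : Fin m ⊕ Fin m → F), v ≠ 0 → w ≠ 0 → ∀ a b : F,
      g • v = a • v → g • w = b • w → a = b := by
    intro v w hv hw a b ha hb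
    obtain ⟨x, -, hx1, hx2⟩ := exists_avoid (U := ⊤) isND_top (Submodule.mem_top : v ∈ ⊤)
      (Submodule.mem_top : w ∈ ⊤) hv hw
    have hx : x ≠ 0 := by
      rintro rfl
      exact hx1 (Bf_zero_right v)
    obtain ⟨c, hc⟩ := hpt x hx
    have h1 : a * c = 1 := by
      have h2 := Bf_smul_smul g v x
      rw [ha, hc, Bf_smul_left, Bf_smul_right] at h2
      have h3 : (a * c - 1) * Bf v x = 0 := by linear_combination h2
      rcases mul_eq_zero.1 h3 with h4 | h4
      · exact sub_eq_zero.1 h4
      · exact absurd h4 hx1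
    have h2 : b * c = 1 := by
      have h2 := Bf_smul_smul g w x
      rw [hb, hc, Bf_smul_left, Bf_smul_right] at h2
      have h3 : (b * c - 1) * Bf w x = 0 := by linear_combination h2
      rcases mul_eq_zero.1 h3 with h4 | h4
      · exact sub_eq_zero.1 h4
      · exact absurd h4 hx2
    have hc0 : c ≠ 0 := by
      rintro rfl
      rw [mul_zero] at h1
      exact zero_ne_one h1
    exact mul_right_cancel₀ hc0 (h1.trans h2.symm)
  by_cases h : ∃ v₀ : Fin m ⊕ Fin m → F, v₀ ≠ 0
  · obtain ⟨v₀, hv₀⟩ := h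
    obtain ⟨a, ha⟩ := hpt v₀ hv₀
    refine ⟨a, fun v => ?_⟩
    by_cases hv : v = 0
    · rw [hv, smul_zero, smul_zero]
    · obtain ⟨b, hb⟩ := hpt v hv
      rw [hconst v₀ v hv₀ hv a b ha hb]
      exact hb
  · push Not at h
    refine ⟨1, fun v => ?_⟩
    rw [h v, smul_zero, smul_zero]

theorem mem_center_of_fixes {g : Matrix.symplecticGroup (Fin m) F}
    (hg : ∀ p : ℙ F (Fin m ⊕ Fin m → F), g • p = p) :
    g ∈ Subgroup.center (Matrix.symplecticGroup (Fin m) F) := by
  obtain ⟨a, ha⟩ := exists_scalar_of_fixes hg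
  rw [Subgroup.mem_center_iff]
  intro h
  apply ext_smul
  intro v
  rw [mul_smul, mul_smul, ha, ha, smul_comm]

/-- `PSp_{2m}(F)` is simple as soon as `Sp_{2m}(F)` is perfect (`m ≥ 1`) -/
theorem isSimpleGroup_quotient_center (hm : 1 ≤ m)
    (hperf : commutator (Matrix.symplecticGroup (Fin m) F) = ⊤) :
    IsSimpleGroup (Matrix.symplecticGroup (Fin m) F ⧸
      Subgroup.center (Matrix.symplecticGroup (Fin m) F)) := by
  have hprim := isPreprimitive_proj (m := m) (F := F)
  have hZ : Subgroup.center (Matrix.symplecticGroup (Fin m) F) ≠ ⊤ := by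
    intro hZ
    rw [← commutator_eq_bot_iff_center_eq_top, hperf] at hZ
    set i₀ : Fin m := ⟨0, by omega⟩
    have h1 : tv (eV i₀ : Fin m ⊕ Fin m → F) 1 ∈ (⊤ : Subgroup (Matrix.symplecticGroup (Fin m) F)) :=
      Subgroup.mem_top _
    rw [hZ, Subgroup.mem_bot] at h1
    have h2 : tv (eV i₀ : Fin m ⊕ Fin m → F) 1 • (fV i₀ : Fin m ⊕ Fin m → F) = fV i₀ := by
      rw [h1, one_smul]
    rw [tv_smul, Bf_fV_eV, mul_one, one_smul, add_eq_left] at h2
    exact eV_ne_zero i₀ h2
  have hnt : Nontrivial (Matrix.symplecticGroup (Fin m) F ⧸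
      Subgroup.center (Matrix.symplecticGroup (Fin m) F)) := by
    obtain ⟨g, hg⟩ : ∃ g, g ∉ Subgroup.center (Matrix.symplecticGroup (Fin m) F) := by
      by_contra hcon
      push Not at hcon
      exact hZ (eq_top_iff.2 fun g _ => hcon g)
    refine ⟨⟨(g : Matrix.symplecticGroup (Fin m) F ⧸
      Subgroup.center (Matrix.symplecticGroup (Fin m) F)), 1, ?_⟩⟩
    intro h
    exact hg ((QuotientGroup.eq_one_iff g).1 h)
  refine { exists_pair_ne := hnt.exists_pair_ne, eq_bot_or_eq_top_of_normal := ?_ }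
  · intro K hK
    set N := K.comap (QuotientGroup.mk' (Subgroup.center (Matrix.symplecticGroup (Fin m) F)))
      with hN
    have hNn : N.Normal := hK.comap _
    by_cases hfix : fixedPoints N (ℙ F (Fin m ⊕ Fin m → F)) = Set.univ
    · left
      rw [eq_bot_iff]
      intro k hk
      obtain ⟨g, rfl⟩ := QuotientGroup.mk'_surjective _ k
      have hgN : g ∈ N := hk
      have hgZ : g ∈ Subgroup.center (Matrix.symplecticGroup (Fin m) F) := by
        apply mem_center_of_fixes
        intro p
        have hp : p ∈ fixedPoints N (ℙ F (Fin m ⊕ Fin m → F)) := by rw [hfix]; trivial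
        exact hp ⟨g, hgN⟩
      rw [Subgroup.mem_bot]
      exact (QuotientGroup.eq_one_iff g).2 hgZ
    · right
      have h1 := (spIwasawa m F).commutator_le N hfix
      rw [hperf, top_le_iff] at h1
      rw [eq_top_iff]
      intro k _
      obtain ⟨g, rfl⟩ := QuotientGroup.mk'_surjective _ k
      have hgN : g ∈ N := by rw [h1]; trivial
      exact hgN


end Cfsg.Agent.Helper2.Symp
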