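import Mathlib
import Cfsg.Agent.Lib.Helper20.A3Defs

set_option autoImplicit false
set_option linter.unusedSectionVars false
set_option linter.unusedVariables false

namespace Cfsg.Agent.Helper20.A3

/-- exponent two implies commutative -/
theorem quadlib_comm {W : Type*} [Group W] (hW : ∀ w : W, w * w = 1) (a b : W) : a * b = b * a := by
  have h1 : a⁻¹ = a := inv_eq_of_mul_eq_one_left (hW a)
  have h2 : b⁻¹ = b := inv_eq_of_mul_eq_one_left (hW b)
  have h3 : (a * b)⁻¹ = a * b := inv_eq_of_mul_eq_one_left (hW (a * b))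
  rw [mul_inv_rev, h1, h2] at h3
  exact h3.symm

/-- coordinates on a group of exponent two and order `2 ^ k` -/
theorem quadlib_exists_equiv {W : Type*} [Group W] [Finite W] (hW : ∀ w : W, w * w = 1) (k : ℕ)
    (hcard : Nat.card W = 2 ^ k) :
    ∃ e : (Fin k → ZMod 2) ≃ W, ∀ x y, e (x + y) = e x * e y := by
  classical
  let _ : CommGroup W := { (inferInstance : Group W) with mul_comm := quadlib_comm hW }
  have h2 : ∀ x : Additive W, 2 • x = 0 := by
    intro x
    rw [two_nsmul]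
    exact congrArg Additive.ofMul (hW (Additive.toMul x))
  let _ : Module (ZMod 2) (Additive W) := AddCommGroup.zmodModule h2
  have : Fact (Nat.Prime 2) := ⟨Nat.prime_two⟩
  have : Finite (Additive W) := inferInstanceAs (Finite W)
  have hrank : Module.finrank (ZMod 2) (Additive W) = k := by
    have h := Module.natCard_eq_pow_finrank (K := ZMod 2) (V := Additive W)
    rw [Nat.card_zmod] at h
    have h3 : Nat.card (Additive W) = Nat.card W := rfl
    rw [h3, hcard] at h
    exact (Nat.pow_right_injective (le_refl 2) h).symm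
  let b := Module.finBasisOfFinrankEq (ZMod 2) (Additive W) hrank
  let L := b.equivFun
  refine ⟨L.symm.toEquiv.trans Additive.toMul, ?_⟩
  intro x y
  show Additive.toMul (L.symm (x + y)) = Additive.toMul (L.symm x) * Additive.toMul (L.symm y)
  rw [map_add]
  rfl



section Add

variable {V : Type*} [AddCommGroup V] [Module (ZMod 2) V]

/-- the additive 7-term identity -/
def quadlib_QuadAdd (Q : V → ZMod 2) : Prop :=
  ∀ x y z : V, Q (x + y + z) + Q (x + y) + Q (x + z) + Q (y + z) + Q x + Q y + Q z = 0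

/-- the polar form -/
def quadlib_polar (Q : V → ZMod 2) (x y : V) : ZMod 2 := Q (x + y) + Q x + Q y

theorem quadlib_zmod_cases (c : ZMod 2) : c = 0 ∨ c = 1 := by
  revert c
  decide

variable {Q : V → ZMod 2} (hQ : quadlib_QuadAdd Q)
include hQ

theorem quadlib_zero : Q 0 = 0 := by
  have h := hQ 0 0 0
  simp only [add_zero] at h
  have : ∀ a : ZMod 2, a + a + a + a + a + a + a = 0 → a = 0 := by decide
  exact this _ h

theorem quadlib_add (x y : V) : Q (x + y) = Q x + Q y + quadlib_polar Q x y := by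
  unfold quadlib_polar
  have : ∀ a b c : ZMod 2, a = b + c + (a + b + c) := by decide
  exact this _ _ _

theorem quadlib_polar_add_left (x y z : V) :
    quadlib_polar Q (x + y) z = quadlib_polar Q x z + quadlib_polar Q y z := by
  unfold quadlib_polar
  have h := hQ x y z
  have : ∀ a1 a2 a3 a4 a5 a6 a7 : ZMod 2, a1 + a2 + a3 + a4 + a5 + a6 + a7 = 0 →
      a1 + a2 + a7 = (a3 + a5 + a7) + (a4 + a6 + a7) := by decide
  exact this _ _ _ _ _ _ _ h

theorem quadlib_polar_comm (x y : V) : quadlib_polar Q x y = quadlib_polar Q y x := by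
  unfold quadlib_polar
  rw [add_comm x y, add_right_comm]

theorem quadlib_polar_add_right (x y z : V) :
    quadlib_polar Q x (y + z) = quadlib_polar Q x y + quadlib_polar Q x z := by
  rw [quadlib_polar_comm hQ, quadlib_polar_add_left hQ, quadlib_polar_comm hQ y,
    quadlib_polar_comm hQ z]

theorem quadlib_polar_zero_left (y : V) : quadlib_polar Q 0 y = 0 := by
  unfold quadlib_polar
  rw [zero_add, quadlib_zero hQ]
  have : ∀ a : ZMod 2, a + 0 + a = 0 := by decide
  exact this _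

theorem quadlib_smul (c : ZMod 2) (x : V) : Q (c • x) = c * Q x := by
  rcases quadlib_zmod_cases c with rfl | rfl
  · rw [zero_smul, quadlib_zero hQ, zero_mul]
  · rw [one_smul, one_mul]

theorem quadlib_polar_smul_left (c : ZMod 2) (x y : V) : quadlib_polar Q (c • x) y = c * quadlib_polar Q x y := by
  rcases quadlib_zmod_cases c with rfl | rfl
  · rw [zero_smul, quadlib_polar_zero_left hQ, zero_mul]
  · rw [one_smul, one_mul]

theorem quadlib_polar_smul_right (c : ZMod 2) (x y : V) : quadlib_polar Q x (c • y) = c * quadlib_polar Q x y := by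
  rw [quadlib_polar_comm hQ, quadlib_polar_smul_left hQ, quadlib_polar_comm hQ]

end Add

/-- the generic quadratic polynomial in four variables over `ZMod 2` -/
def quadlib_P4 (q0 q1 q2 q3 b01 b02 b03 b12 b13 b23 : ZMod 2) (v : Fin 4 → ZMod 2) : ZMod 2 :=
  v 0 * q0 + v 1 * q1 + v 2 * q2 + v 3 * q3 + v 0 * v 1 * b01 + v 0 * v 2 * b02 + v 0 * v 3 * b03 +
    v 1 * v 2 * b12 + v 1 * v 3 * b13 + v 2 * v 3 * b23

/-- the generic quadratic polynomial in three variables over `ZMod 2` -/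
def quadlib_P3 (q0 q1 q2 b01 b02 b12 : ZMod 2) (v : Fin 3 → ZMod 2) : ZMod 2 :=
  v 0 * q0 + v 1 * q1 + v 2 * q2 + v 0 * v 1 * b01 + v 0 * v 2 * b02 + v 1 * v 2 * b12

theorem quadlib_param4 {Q : (Fin 4 → ZMod 2) → ZMod 2} (hQ : quadlib_QuadAdd Q) :
    ∃ q0 q1 q2 q3 b01 b02 b03 b12 b13 b23 : ZMod 2, ∀ v, Q v = quadlib_P4 q0 q1 q2 q3 b01 b02 b03 b12 b13 b23 v := by
  let e : Fin 4 → (Fin 4 → ZMod 2) := fun i => Pi.single i 1
  refine ⟨Q (e 0), Q (e 1), Q (e 2), Q (e 3), quadlib_polar Q (e 0) (e 1), quadlib_polar Q (e 0) (e 2),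
    quadlib_polar Q (e 0) (e 3), quadlib_polar Q (e 1) (e 2), quadlib_polar Q (e 1) (e 3), quadlib_polar Q (e 2) (e 3), ?_⟩
  intro v
  have hv : v = v 0 • e 0 + (v 1 • e 1 + (v 2 • e 2 + v 3 • e 3)) := by
    ext i
    fin_cases i <;> simp [e]
  conv_lhs => rw [hv]
  simp only [quadlib_add hQ, quadlib_smul hQ, quadlib_polar_add_right hQ, quadlib_polar_smul_left hQ,
    quadlib_polar_smul_right hQ]
  unfold quadlib_P4
  ring

theorem quadlib_param3 {Q : (Fin 3 → ZMod 2) → ZMod 2} (hQ : quadlib_QuadAdd Q) :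
    ∃ q0 q1 q2 b01 b02 b12 : ZMod 2, ∀ v, Q v = quadlib_P3 q0 q1 q2 b01 b02 b12 v := by
  let e : Fin 3 → (Fin 3 → ZMod 2) := fun i => Pi.single i 1
  refine ⟨Q (e 0), Q (e 1), Q (e 2), quadlib_polar Q (e 0) (e 1), quadlib_polar Q (e 0) (e 2),
    quadlib_polar Q (e 1) (e 2), ?_⟩
  intro v
  have hv : v = v 0 • e 0 + (v 1 • e 1 + v 2 • e 2) := by
    ext i
    fin_cases i <;> simp [e]
  conv_lhs => rw [hv]
  simp only [quadlib_add hQ, quadlib_smul hQ, quadlib_polar_add_right hQ, quadlib_polar_smul_left hQ,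
    quadlib_polar_smul_right hQ]
  unfold quadlib_P3
  ring


/-! ### transport from an abstract group of exponent two -/

theorem quadlib_transport {W : Type*} [Group W] [Finite W] (hW : ∀ w : W, w * w = 1)
    (Q : W → ZMod 2) (hQ : IsQuad Q) (k : ℕ) (hcard : Nat.card W = 2 ^ k) :
    ∃ e : (Fin k → ZMod 2) ≃ W, (∀ x y, e (x + y) = e x * e y) ∧
      quadlib_QuadAdd (fun v => Q (e v)) := by
  obtain ⟨e, he⟩ := quadlib_exists_equiv hW k hcard
  refine ⟨e, he, ?_⟩
  intro x y z
  show Q (e (x + y + z)) + Q (e (x + y)) + Q (e (x + z)) + Q (e (y + z)) + Q (e x) + Q (e y) +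
    Q (e z) = 0
  rw [he, he, he, he]
  exact hQ (e x) (e y) (e z)

theorem quadlib_card_zer {W : Type*} [Group W] [Finite W] (Q : W → ZMod 2) {k : ℕ}
    (e : (Fin k → ZMod 2) ≃ W) :
    Nat.card (zer Q) = (Finset.univ.filter (fun v : Fin k → ZMod 2 => Q (e v) = 0)).card := by
  have h1 : Nat.card (zer Q) = Nat.card {v : Fin k → ZMod 2 // Q (e v) = 0} := by
    apply Nat.card_congr
    exact (e.subtypeEquiv (p := fun v => Q (e v) = 0) (q := fun w => w ∈ zer Q)
      (fun v => Iff.rfl)).symm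
  rw [h1, Nat.card_eq_fintype_card, Fintype.card_subtype]

/-! ### the finite checks -/

set_option maxRecDepth 100000 in
theorem quadlib_p8_dec : ∀ q0 q1 q2 b01 b02 b12 : ZMod 2,
    (Finset.univ.filter
      (fun v : Fin 3 → ZMod 2 => quadlib_P3 q0 q1 q2 b01 b02 b12 v = 0)).card % 2 = 0 := by
  decide +kernel

set_option maxRecDepth 100000 in
theorem quadlib_f2_dec : ∀ q0 q1 q2 q3 b01 b02 b03 b12 b13 b23 : ZMod 2,
    (Finset.univ.filter (fun v : Fin 4 → ZMod 2 =>
      quadlib_P4 q0 q1 q2 q3 b01 b02 b03 b12 b13 b23 v = 0)).card = 4 →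
    ∀ v w : Fin 4 → ZMod 2, quadlib_P4 q0 q1 q2 q3 b01 b02 b03 b12 b13 b23 v = 0 →
      quadlib_P4 q0 q1 q2 q3 b01 b02 b03 b12 b13 b23 w = 0 →
      quadlib_P4 q0 q1 q2 q3 b01 b02 b03 b12 b13 b23 (v + w) = 0 := by
  decide +kernel

set_option maxRecDepth 100000 in
/-- the possible numbers of zeros of a quadratic form on `2^4` -/
theorem quadlib_f1_dec : ∀ q0 q1 q2 q3 b01 b02 b03 b12 b13 b23 : ZMod 2,
    (Finset.univ.filter (fun v : Fin 4 → ZMod 2 =>
      quadlib_P4 q0 q1 q2 q3 b01 b02 b03 b12 b13 b23 v = 0)).card ∈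
      ({4, 6, 8, 10, 12, 16} : Finset ℕ) := by
  decide +kernel

end Cfsg.Agent.Helper20.A3
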