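import Mathlib
import Cfsg.Agent.Lib.Helper20.A3Defs
import Cfsg.Agent.Lib.Helper2.A3QuadLib

/-! S3117 piece P8 (for helper20): a quadratic form on `2^3` has an even number of zeros. -/

set_option autoImplicit false
set_option linter.unusedSectionVars false
set_option linter.unusedVariables false

namespace Cfsg.Agent.Helper20.A3

section Forms

variable {W : Type*} [Group W] [Finite W]

/-- **A3-P8.** Parity of the number of zeros, order `8`. -/
theorem zer_even_of_card_eight (hW : ∀ w : W, w * w = 1) (Q : W → ZMod 2) (hQ : IsQuad Q)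
    (hcard : Nat.card W = 8) : Even (Nat.card (zer Q)) := by
  obtain ⟨e, he, hQA⟩ := quadlib_transport hW Q hQ 3 (by rw [hcard]; norm_num)
  obtain ⟨q0, q1, q2, b01, b02, b12, hP⟩ := quadlib_param3 hQA
  rw [quadlib_card_zer Q e]
  have h1 : (Finset.univ.filter (fun v : Fin 3 → ZMod 2 => Q (e v) = 0)) =
      (Finset.univ.filter (fun v : Fin 3 → ZMod 2 => quadlib_P3 q0 q1 q2 b01 b02 b12 v = 0)) := by
    apply Finset.filter_congr
    intro v _
    rw [← hP v]
  rw [h1, Nat.even_iff]
  exact quadlib_p8_dec q0 q1 q2 b01 b02 b12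

end Forms

end Cfsg.Agent.Helper20.A3
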