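import Mathlib
import Cfsg.Agent.S0985
import Cfsg.Agent.Lib.Helper14.TC27Defs

set_option autoImplicit false
set_option linter.unusedSectionVars false
set_option linter.unusedVariables false
set_option linter.style.haveILetI false

namespace Cfsg.Agent.Helper14.TC27

open Cfsg

universe u v

section Grp

variable {G : Type u} [Group G] [Finite G] {T : Sylow 3 G}

/-- a `3`-subgroup of the normalizer of a Sylow `3`-subgroup lies in it -/
theorem sylcong_le_of_le_normalizer (Q : Subgroup G) (hQ : IsPGroup 3 Q)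
    (hQN : Q ≤ Subgroup.normalizer ((T : Subgroup G) : Set G)) : Q ≤ (T : Subgroup G) := by
  have hp : IsPGroup 3 (Q ⊔ (T : Subgroup G) : Subgroup G) :=
    IsPGroup.to_sup_of_normal_right' hQ T.2 hQN
  have := T.is_maximal' hp le_sup_right
  rw [← this]
  exact le_sup_left

/-- `T` is a TI-subgroup: a Sylow 3-subgroup meeting `T` nontrivially equals `T`. -/
theorem sylcong_ti (h : Hyp T) (R : Sylow 3 G) {x : G} (hxT : x ∈ (T : Subgroup G))
    (hxR : x ∈ (R : Subgroup G)) (hx1 : x ≠ 1) : R = T := by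
  obtain ⟨g, hg⟩ := MulAction.exists_smul_eq G T R
  -- R is commutative
  have hRcomm : ∀ y ∈ (R : Subgroup G), y * x = x * y := by
    intro y hy
    rw [← hg] at hy hxR
    rw [Sylow.coe_subgroup_smul, Subgroup.mem_pointwise_smul_iff_inv_smul_mem] at hy hxR
    have hc := h.comm _ hy _ hxR
    simp only [MulAut.smul_def, MulAut.conj_inv_apply] at hc
    -- g⁻¹ y g * (g⁻¹ x g) = g⁻¹ x g * (g⁻¹ y g)
    have : g⁻¹ * (y * x) * g = g⁻¹ * (x * y) * g := by
      calc g⁻¹ * (y * x) * g = (g⁻¹ * y * g) * (g⁻¹ * x * g) := by group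
        _ = (g⁻¹ * x * g) * (g⁻¹ * y * g) := hc
        _ = g⁻¹ * (x * y) * g := by group
    exact mul_left_cancel (mul_right_cancel this)
  have hRN : (R : Subgroup G) ≤ Subgroup.normalizer ((T : Subgroup G) : Set G) := by
    intro y hy
    apply h.loc x hxT hx1
    rw [Subgroup.mem_centralizer_iff]
    intro z hz
    rw [Set.mem_singleton_iff] at hz
    subst hz
    exact (hRcomm y hy).symm
  have hle := sylcong_le_of_le_normalizer (T := T) (R : Subgroup G) R.2 hRN
  exact Sylow.ext (R.is_maximal' T.2 hle).symm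

/-- PIECE SYLCONG -/
theorem index_normalizer_modEq (h : Hyp T) :
    (Subgroup.normalizer ((T : Subgroup G) : Set G)).index ≡ 1 [MOD 27] := by
  haveI : Fact (Nat.Prime 3) := ⟨by norm_num⟩
  by_contra hcon
  have hcard := Sylow.card_eq_index_normalizer T
  obtain ⟨P, R, hPR, hidx⟩ := Cfsg.Agent.S0985.result (G := G) 3 3 (by
    rw [hcard]; simpa using hcon)
  have hPcard : Nat.card (P : Subgroup G) = 27 := by
    rw [Sylow.card_eq_multiplicity, ← Sylow.card_eq_multiplicity T, h.card]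
  -- a nontrivial element of P ⊓ R
  have hne : ((R : Subgroup G).subgroupOf (P : Subgroup G)) ≠ ⊥ := by
    intro hbot
    rw [hbot, Subgroup.index_bot, hPcard] at hidx
    norm_num at hidx
  obtain ⟨a, haR, ha1⟩ := (Subgroup.ne_bot_iff_exists_ne_one).mp hne |> fun ⟨a, ha⟩ =>
    (⟨a.1, a.2, fun h => ha (Subtype.ext h)⟩ : ∃ a : ↥(P : Subgroup G),
      a ∈ (R : Subgroup G).subgroupOf (P : Subgroup G) ∧ a ≠ 1)
  have hxP : (a : G) ∈ (P : Subgroup G) := a.2
  have hxR : (a : G) ∈ (R : Subgroup G) := Subgroup.mem_subgroupOf.mp haR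
  have hx1 : (a : G) ≠ 1 := fun h => ha1 (Subtype.ext h)
  -- conjugate into T
  obtain ⟨g, hg⟩ := MulAction.exists_smul_eq G P T
  have hmem : ∀ (Q : Sylow 3 G) (y : G), y ∈ (Q : Subgroup G) →
      g * y * g⁻¹ ∈ ((g • Q : Sylow 3 G) : Subgroup G) := by
    intro Q y hy
    rw [Sylow.coe_subgroup_smul, Subgroup.mem_pointwise_smul_iff_inv_smul_mem]
    simp only [MulAut.smul_def, MulAut.conj_inv_apply]
    have : g⁻¹ * (g * y * g⁻¹) * g = y := by group
    rw [this]; exact hy
  have h1 : g * (a : G) * g⁻¹ ∈ (T : Subgroup G) := hg ▸ hmem P _ hxP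
  have h2 : g * (a : G) * g⁻¹ ∈ ((g • R : Sylow 3 G) : Subgroup G) := hmem R _ hxR
  have h3 : g * (a : G) * g⁻¹ ≠ 1 := by
    intro h0
    apply hx1
    have : (a : G) = g⁻¹ * (g * (a : G) * g⁻¹) * g := by group
    rw [this, h0]; group
  have h4 := sylcong_ti h (g • R) h1 h2 h3
  apply hPR
  have h5 : g • R = g • P := h4.trans hg.symm
  have := congrArg (fun Q : Sylow 3 G => g⁻¹ • Q) h5
  simpa using this.symm

end Grp

end Cfsg.Agent.Helper14.TC27
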