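import Mathlib
import Cfsg.Agent.Lib.Helper14.TC27Defs

set_option autoImplicit false
set_option linter.unusedSectionVars false
set_option linter.unusedVariables false
set_option linter.style.haveILetI false

namespace Cfsg.Agent.Helper14.TC27

open Cfsg

universe u v

section Unpack

variable {G : Type u} [Group G] [Finite G]

/-- a presented group has at most `108` elements -/
theorem unpack2_card_le {K : Type v} [Group K] (P : Pres K) : Nat.card K ≤ 108 := by
  classical
  let w : Fin 3 × Fin 3 × Fin 3 × Fin 2 × Fin 2 → K := fun q =>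
    P.t1 ^ (q.1 : ℕ) * P.t2 ^ (q.2.1 : ℕ) * P.t3 ^ (q.2.2.1 : ℕ) * P.a ^ (q.2.2.2.1 : ℕ) *
      P.b ^ (q.2.2.2.2 : ℕ)
  have hsurj : Function.Surjective w := by
    intro x
    obtain ⟨i, j, k, e, f, hx⟩ := P.form x
    exact ⟨(i, j, k, e, f), hx.symm⟩
  have h1 := Nat.card_le_card_of_surjective w hsurj
  have h2 : Nat.card (Fin 3 × Fin 3 × Fin 3 × Fin 2 × Fin 2) = 108 := by
    simp [Nat.card_eq_fintype_card]
  omega

/-- the element `a` of a presented group has order `2` -/
theorem unpack2_orderOf_a {K : Type v} [Group K] (P : Pres K) : orderOf P.a = 2 := by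
  have ha2 : P.a ^ 2 = 1 := by rw [pow_two]; exact P.rel.aa
  have hne : P.a ≠ 1 := by
    intro h1
    have h := P.rel.a1
    rw [h1] at h
    simp only [one_mul, inv_one, mul_one] at h
    -- t1 = t1⁻¹ and t1^3 = 1 give t1 = 1
    have ht2 : P.t1 ^ 2 = 1 := by
      rw [pow_two]
      nth_rewrite 1 [h]
      exact inv_mul_cancel _
    have ht1 : P.t1 = 1 := by
      have h3 := P.rel.o1
      rw [pow_succ, ht2, one_mul] at h3
      exact h3
    have hinj := P.rel.inj 1 0 0 0 0 0 (by simp [ht1])
    exact absurd hinj.1 (by decide)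
  exact orderOf_eq_prime ha2 hne

/-- PIECE UNPACK2 -/
theorem exists_sylow {K : Type v} [Group K] (P : Pres K) (H : Subgroup G) (e : ↥H ≃* K)
    (T : Subgroup G) (hTH : T ≤ H) (hT : Nat.card T = 27)
    (hN : Subgroup.normalizer (T : Set G) = H) :
    ∃ T' : Sylow 3 G, (T' : Subgroup G) = T := by
  haveI : Fact (Nat.Prime 3) := ⟨by norm_num⟩
  have hHK : Nat.card H = Nat.card K := Nat.card_congr e.toEquiv
  have hle : Nat.card H ≤ 108 := hHK ▸ unpack2_card_le P
  have h27 : 27 ∣ Nat.card H := hT ▸ Subgroup.card_dvd_of_le hTH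
  have h2 : 2 ∣ Nat.card H := by
    rw [hHK, ← unpack2_orderOf_a P]
    exact orderOf_dvd_natCard _
  have h81 : ¬ 81 ∣ Nat.card H := by
    intro h
    have hpos : 0 < Nat.card H := Nat.card_pos
    obtain ⟨c, hc⟩ := h
    omega
  have hmod := Sylow.card_normalizer_modEq_card (G := G) (p := 3) (n := 3) (H := T)
    (by rw [hT]; norm_num)
  rw [hN] at hmod
  have h81G : ¬ 81 ∣ Nat.card G := by
    intro h
    apply h81
    have : (81 : ℕ) = 3 ^ (3 + 1) := by norm_num
    rw [this]
    rw [this] at h
    exact (Nat.modEq_zero_iff_dvd.mp ((hmod.trans (Nat.modEq_zero_iff_dvd.mpr h))))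
  have h27G : 27 ∣ Nat.card G := hT ▸ Subgroup.card_subgroup_dvd_card T
  have hGpos : Nat.card G ≠ 0 := Nat.card_pos.ne'
  have hfac : (Nat.card G).factorization 3 = 3 := by
    have hp : Nat.Prime 3 := by norm_num
    have h3 : 3 ≤ (Nat.card G).factorization 3 :=
      (hp.pow_dvd_iff_le_factorization hGpos).mp (by norm_num; exact h27G)
    have h4 : ¬ 4 ≤ (Nat.card G).factorization 3 := by
      intro h
      exact h81G (by
        have := (hp.pow_dvd_iff_le_factorization hGpos).mpr h
        norm_num at this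
        exact this)
    omega
  refine ⟨Sylow.ofCard T (by rw [hT, hfac]; norm_num), ?_⟩
  simp

end Unpack

end Cfsg.Agent.Helper14.TC27
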