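import Mathlib
import Cfsg.Prelude.Def_Solvable
import Cfsg.Prelude.Def_OddOrderLocal

/-!
# S4118 (TI Hall subgroup of a pi-separable group): definitions (helper2)

`piCore H`: the largest normal subgroup of `G` of order coprime to `|H|` (as the supremum in the statement).
`SolvMod K`: some term of the derived series of the ambient group lies in `K` ("the group is solvable modulo `K`").
-/

set_option autoImplicit false

namespace Cfsg.Agent.Helper2.TIH

/-- the supremum of the normal subgroups of order coprime to `|H|` -/
def piCore {G : Type*} [Group G] (H : Subgroup G) : Subgroup G :=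
  sSup {K : Subgroup G | K.Normal ∧ (Nat.card K).Coprime (Nat.card H)}

/-- some term of the derived series lies in `K` -/
def SolvMod {N : Type*} [Group N] (K : Subgroup N) : Prop :=
  ∃ n : ℕ, derivedSeries N n ≤ K

/-- `H` is isomorphic to a Frobenius complement of some finite group in universe `u` -/
def HasFrobModel.{u, v} (H : Type v) [Group H] : Prop :=
  ∃ (F : Type u) (_ : Group F) (_ : Finite F) (C : Subgroup F),
    Cfsg.IsFrobeniusComplement C ∧ Nonempty (H ≃* C)

end Cfsg.Agent.Helper2.TIH
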