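import Mathlib
import Cfsg.Prelude.Def_Solvable

/-!
# S3999 (groups with the order type of a Frobenius group): definitions (helper2)

`SameOT F G`: for every `m` the groups `F` and `G` have the same number of elements of order `m`.
-/

set_option autoImplicit false

namespace Cfsg.Agent.Helper2.OT

/-- `F` and `G` have the same order type -/
def SameOT (F G : Type*) [Group F] [Group G] : Prop :=
  ∀ m : ℕ, Nat.card {g : F // orderOf g = m} = Nat.card {h : G // orderOf h = m}

theorem SameOT.symm {F G : Type*} [Group F] [Group G] (h : SameOT F G) : SameOT G F :=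
  fun m => (h m).symm

/-- the same element orders occur -/
theorem SameOT.exists_orderOf {F G : Type*} [Group F] [Finite F] [Group G] [Finite G] (h : SameOT F G)
    (m : ℕ) (x : F) (hx : orderOf x = m) : ∃ y : G, orderOf y = m := by
  have h1 : 0 < Nat.card {g : F // orderOf g = m} := by
    have : Nonempty {g : F // orderOf g = m} := ⟨⟨x, hx⟩⟩
    exact Nat.card_pos
  rw [h m] at h1
  obtain ⟨y⟩ := (Nat.card_pos_iff.mp h1).1
  exact ⟨y.1, y.2⟩

end Cfsg.Agent.Helper2.OT
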