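import Mathlib
import Cfsg.Agent.Lib.Helper2.OTDefs
import Cfsg.Agent.S0034
import Cfsg.Agent.S0035
import Cfsg.Agent.S0042

/-!
# S3999 pieces FROBORD + FROBSYL + SOLV (helper2)

`frob_orderOf_dvd`, `frob_coprime`, `frob_sylow_normal`, `solvable_of_complement` with the exact signatures of
`plans/OT_Skel.lean.txt`.
-/

set_option autoImplicit false
set_option linter.style.haveILetI false
set_option linter.unusedVariables false

namespace Cfsg.Agent.Helper2.OT

open Cfsg
open scoped Pointwise

/-- the Frobenius kernel as a subgroup: normal, nilpotent, complemented by `C`, of order `[F : C]` -/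
theorem FROB.exists_kernel {F : Type*} [Group F] [Finite F] (C : Subgroup F) (hC : IsFrobeniusComplement C) :
    ∃ N : Subgroup F, (N : Set F) = frobeniusKernel C ∧ N.Normal ∧ Subgroup.IsComplement' N C ∧
      Group.IsNilpotent N ∧ Nat.card N = C.index := by
  obtain ⟨N, hNset, hNn, hNc⟩ := Cfsg.Agent.S0035.result C hC
  obtain ⟨N', hNset', -, hNnil⟩ := Cfsg.Agent.S0042.result C hC
  have hEq : N' = N := SetLike.coe_injective (hNset'.trans hNset.symm)
  rw [hEq] at hNnil
  refine ⟨N, hNset, hNn, hNc, hNnil, ?_⟩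
  have h1 := (Cfsg.Agent.S0034.result C hC).1
  rw [← hNset] at h1
  exact h1

/-- `gcd([F : C], |C|) = 1` and `1 < [F : C]`, `1 < |C|` -/
theorem frob_coprime {F : Type*} [Group F] [Finite F] (C : Subgroup F) (hC : IsFrobeniusComplement C) :
    Nat.Coprime C.index (Nat.card C) ∧ 1 < C.index ∧ 1 < Nat.card C := by
  have h2 := (Cfsg.Agent.S0034.result C hC).2
  have hc1 : 1 < Nat.card C := C.one_lt_card_iff_ne_bot.mpr hC.1
  have hi0 : C.index ≠ 0 := Subgroup.index_ne_zero_of_finite
  have hi1 : C.index ≠ 1 := fun h => hC.2.1 (Subgroup.index_eq_one.mp h)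
  refine ⟨?_, by omega, hc1⟩
  have hmod : C.index ≡ 1 [MOD Nat.card C] := h2
  have := Nat.ModEq.gcd_eq hmod
  rw [Nat.gcd_one_left] at this
  exact this

theorem frob_orderOf_dvd {F : Type*} [Group F] [Finite F] (C : Subgroup F) (hC : IsFrobeniusComplement C)
    (x : F) : orderOf x ∣ C.index ∨ orderOf x ∣ Nat.card C := by
  obtain ⟨N, hNset, hNn, hNc, -, hNk⟩ := FROB.exists_kernel C hC
  by_cases hx : x ∈ N
  · left
    rw [← hNk]
    exact Subgroup.orderOf_dvd_natCard N hx
  · right
    have hx' : x ∉ frobeniusKernel C := by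
      rw [← hNset]
      exact hx
    have hex : ∃ g : F, x ∈ MulAut.conj g • C := by
      by_contra hcon
      push Not at hcon
      exact hx' (Or.inr hcon)
    obtain ⟨g, hg⟩ := hex
    have hmem : g⁻¹ * x * g ∈ C := Cfsg.Agent.S0034.mem_conj_smul.mp hg
    have hord : orderOf (g⁻¹ * x * g) = orderOf x := by
      have := MulEquiv.orderOf_eq (MulAut.conj g⁻¹) x
      rw [MulAut.conj_apply, inv_inv] at this
      exact this
    rw [← hord]
    exact Subgroup.orderOf_dvd_natCard C hmem

theorem frob_sylow_normal {F : Type*} [Group F] [Finite F] (C : Subgroup F) (hC : IsFrobeniusComplement C)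
    (p : ℕ) [Fact p.Prime] (hp : p ∣ C.index) (P : Sylow p F) : (P : Subgroup F).Normal := by
  have hpp : p.Prime := Fact.out
  obtain ⟨N, hNset, hNn, hNc, hNnil, hNk⟩ := FROB.exists_kernel C hC
  obtain ⟨hcop, hk1, hc1⟩ := frob_coprime C hC
  haveI := hNn
  haveI := hNnil
  -- the Sylow `p`-subgroup of `N`
  obtain ⟨P0⟩ : Nonempty (Sylow p N) := inferInstance
  haveI hP0n : (P0 : Subgroup N).Normal := inferInstance
  haveI hP0c : (P0 : Subgroup N).Characteristic := Sylow.characteristic_of_normal P0 hP0n
  have hP1n : ((P0 : Subgroup N).map N.subtype).Normal := ConjAct.normal_of_characteristic_of_normal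
  -- its order
  have hpC : ¬ p ∣ Nat.card C := by
    intro h
    exact hpp.one_lt.ne' (Nat.eq_one_of_dvd_coprimes hcop hp h)
  have hmul : Nat.card C * C.index = Nat.card F := Subgroup.card_mul_index C
  have hfac : (Nat.card F).factorization p = (Nat.card N).factorization p := by
    rw [← hmul, Nat.factorization_mul Nat.card_pos.ne' (by omega), Finsupp.add_apply,
      Nat.factorization_eq_zero_of_not_dvd hpC, zero_add, hNk]
  have hcard : Nat.card ((P0 : Subgroup N).map N.subtype) = p ^ (Nat.card F).factorization p := by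
    rw [Subgroup.card_map_of_injective N.subtype_injective, Sylow.card_eq_multiplicity, hfac]
  set P1 : Sylow p F := Sylow.ofCard ((P0 : Subgroup N).map N.subtype) hcard with hP1
  have hP1n' : (P1 : Subgroup F).Normal := hP1n
  haveI := Sylow.unique_of_normal P1 hP1n'
  have : P = P1 := Subsingleton.elim _ _
  rw [this]
  exact hP1n'

theorem solvable_of_complement {F : Type*} [Group F] [Finite F] (C : Subgroup F) (hC : IsFrobeniusComplement C)
    (hs : Group.IsSolvable C) : Group.IsSolvable F := by
  obtain ⟨N, hNset, hNn, hNc, hNnil, hNk⟩ := FROB.exists_kernel C hC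
  haveI := hNn
  haveI := hNnil
  haveI := hs
  haveI : Group.IsSolvable N := inferInstance
  -- `F ⧸ N` is an image of `C`
  have hsurj : Function.Surjective ((QuotientGroup.mk' N).comp C.subtype) := by
    intro q
    obtain ⟨x, rfl⟩ := QuotientGroup.mk'_surjective N q
    have hx : x ∈ N ⊔ C := by
      rw [hNc.sup_eq_top]
      exact Subgroup.mem_top x
    have hx' : x ∈ ((N ⊔ C : Subgroup F) : Set F) := hx
    rw [Subgroup.normal_mul] at hx'
    obtain ⟨n, hn, c, hc, rfl⟩ := Set.mem_mul.mp hx'
    refine ⟨⟨c, hc⟩, ?_⟩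
    show (QuotientGroup.mk' N) c = (QuotientGroup.mk' N) (n * c)
    rw [map_mul]
    have : (QuotientGroup.mk' N) n = 1 := by
      rw [QuotientGroup.mk'_apply, QuotientGroup.eq_one_iff]
      exact hn
    rw [this, one_mul]
  haveI : Group.IsSolvable (F ⧸ N) := Group.isSolvable_of_surjective hsurj
  apply Group.isSolvable_of_ker_le_range N.subtype (QuotientGroup.mk' N)
  rw [QuotientGroup.ker_mk', Subgroup.range_subtype]

end Cfsg.Agent.Helper2.OT
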