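import Mathlib
import Cfsg.Agent.Lib.Helper2.SympSimple

set_option autoImplicit false
set_option linter.unusedSimpArgs false
set_option linter.unusedVariables false
set_option linter.unusedSectionVars false

/-! Automorphisms of the projective symplectic groups, part 1: Siegel elements and the
unipotent radical `Qg e` of a point stabiliser. -/

namespace Cfsg.Agent.Helper2.SpA

open Matrix Cfsg.Agent.Helper2.Symp

variable {m : ℕ} {F : Type*} [Field F]

/-- a matrix preserving the alternating form is symplectic -/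
theorem mem_symplecticGroup_of_Bf {A : Matrix (Fin m ⊕ Fin m) (Fin m ⊕ Fin m) F}
    (h : ∀ u v : Fin m ⊕ Fin m → F, Bf (A *ᵥ u) (A *ᵥ v) = Bf u v) :
    A ∈ Matrix.symplecticGroup (Fin m) F := by
  rw [SymplecticGroup.mem_iff']
  ext i j
  have h1 := h (Pi.single i 1) (Pi.single j 1)
  simp only [Bf_def] at h1
  rw [← Matrix.vecMul_transpose A (Pi.single i 1), ← Matrix.dotProduct_mulVec,
    Matrix.mulVec_mulVec, Matrix.mulVec_mulVec] at h1
  simpa [Matrix.mulVec_single_one, dotProduct_comm] using h1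

theorem smul_add' (g : Matrix.symplecticGroup (Fin m) F) (x y : Fin m ⊕ Fin m → F) :
    g • (x + y) = g • x + g • y := smul_add g x y

theorem smul_sub' (g : Matrix.symplecticGroup (Fin m) F) (x y : Fin m ⊕ Fin m → F) :
    g • (x - y) = g • x - g • y := smul_sub g x y

theorem smul_smul' (g : Matrix.symplecticGroup (Fin m) F) (c : F) (x : Fin m ⊕ Fin m → F) :
    g • (c • x) = c • (g • x) := smul_comm g c x

theorem smul_zero' (g : Matrix.symplecticGroup (Fin m) F) :
    g • (0 : Fin m ⊕ Fin m → F) = 0 := smul_zero g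

theorem smul_neg' (g : Matrix.symplecticGroup (Fin m) F) (x : Fin m ⊕ Fin m → F) :
    g • (-x) = -(g • x) := smul_neg g x

theorem smul_eq_zero_iff' (g : Matrix.symplecticGroup (Fin m) F) (x : Fin m ⊕ Fin m → F) :
    g • x = 0 ↔ x = 0 := by
  constructor
  · intro h
    have := congrArg (fun y => g⁻¹ • y) h
    simpa using this
  · rintro rfl
    exact smul_zero' g

/-- the Siegel element `x ↦ x + B(x,e) w + (B(x,w) + s B(x,e)) e` -/
noncomputable def sgG (e w : Fin m ⊕ Fin m → F) (s : F) : Matrix.symplecticGroup (Fin m) F :=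
  tv (e + w) 1 * tv w (-1) * tv e (s - 1)

theorem sgG_smul {e w : Fin m ⊕ Fin m → F} (hew : Bf e w = 0) (s : F)
    (x : Fin m ⊕ Fin m → F) :
    sgG e w s • x = x + Bf x e • w + (Bf x w + s * Bf x e) • e := by
  have hwe : Bf w e = 0 := by rw [Bf_skew, hew, neg_zero]
  unfold sgG
  rw [mul_smul, mul_smul, tv_smul, tv_smul, tv_smul]
  simp only [Bf_add_left, Bf_add_right, Bf_smul_left, Bf_self, hew, hwe, mul_zero, add_zero,
    zero_add, one_mul, mul_one]
  module

theorem tv_eq_sgG (e : Fin m ⊕ Fin m → F) (s : F) : tv e s = sgG e 0 s := by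
  apply ext_smul
  intro x
  rw [sgG_smul (Bf_zero_right e), tv_smul, Bf_zero_right, smul_zero, add_zero, zero_add]

theorem sgG_mul {e w w' : Fin m ⊕ Fin m → F} (hew : Bf e w = 0) (hew' : Bf e w' = 0)
    (s s' : F) : sgG e w s * sgG e w' s' = sgG e (w + w') (s + s' + Bf w' w) := by
  have hwe : Bf w e = 0 := by rw [Bf_skew, hew, neg_zero]
  have hwe' : Bf w' e = 0 := by rw [Bf_skew, hew', neg_zero]
  apply ext_smul
  intro x
  rw [mul_smul, sgG_smul hew', sgG_smul hew, sgG_smul (by rw [Bf_add_right, hew, hew', add_zero])]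
  simp only [Bf_add_left, Bf_add_right, Bf_smul_left, Bf_self, hew, hwe, hew', hwe', mul_zero,
    add_zero, zero_add]
  module

theorem sgG_zero (e : Fin m ⊕ Fin m → F) : sgG e 0 0 = 1 := by
  rw [← tv_eq_sgG, tv_zero_right]

theorem sgG_inv {e w : Fin m ⊕ Fin m → F} (hew : Bf e w = 0) (s : F) :
    (sgG e w s)⁻¹ = sgG e (-w) (-s) := by
  rw [inv_eq_iff_mul_eq_one, sgG_mul hew (by rw [Bf_neg_right, hew, neg_zero]), Bf_neg_left,
    Bf_self, add_neg_cancel, add_neg_cancel, neg_zero, add_zero, sgG_zero]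

theorem conj_sgG (g : Matrix.symplecticGroup (Fin m) F) (e w : Fin m ⊕ Fin m → F) (s : F) :
    g * sgG e w s * g⁻¹ = sgG (g • e) (g • w) s := by
  unfold sgG
  rw [← smul_add', ← conj_tv, ← conj_tv, ← conj_tv]
  group

theorem sgG_smul_left {e w : Fin m ⊕ Fin m → F} (hew : Bf e w = 0) (c s : F) :
    sgG (c • e) w s = sgG e (c • w) (c * c * s) := by
  apply ext_smul
  intro x
  rw [sgG_smul (by rw [Bf_smul_left, hew, mul_zero]), sgG_smul (by rw [Bf_smul_right, hew, mul_zero])]
  simp only [Bf_smul_right]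
  module

theorem sgG_add_smul {e w : Fin m ⊕ Fin m → F} (hew : Bf e w = 0) (c s : F) :
    sgG e (w + c • e) s = sgG e w (s + 2 * c) := by
  apply ext_smul
  intro x
  rw [sgG_smul (by rw [Bf_add_right, Bf_smul_right, hew, Bf_self, mul_zero, add_zero]),
    sgG_smul hew]
  simp only [Bf_add_right, Bf_smul_right]
  module

theorem sgG_pow {e w : Fin m ⊕ Fin m → F} (hew : Bf e w = 0) (s : F) (k : ℕ) :
    sgG e w s ^ k = sgG e ((k : F) • w) ((k : F) * s) := by
  induction k with
  | zero => simp [sgG_zero]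
  | succ k ih =>
    rw [pow_succ, ih, sgG_mul (by rw [Bf_smul_right, hew, mul_zero]) hew, Bf_smul_right, Bf_self,
      mul_zero, add_zero]
    congr 1
    · push_cast
      module
    · push_cast
      ring

/-- the unipotent radical of the stabiliser of the point spanned by `v` -/
def Qg (v : Fin m ⊕ Fin m → F) : Subgroup (Matrix.symplecticGroup (Fin m) F) where
  carrier := {g | g • v = v ∧ ∀ x, Bf x v = 0 → ∃ c : F, g • x = x + c • v}
  one_mem' := ⟨one_smul _ _, fun x _ => ⟨0, by rw [one_smul, zero_smul, add_zero]⟩⟩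
  mul_mem' := by
    rintro g h ⟨hg1, hg2⟩ ⟨hh1, hh2⟩
    refine ⟨by rw [mul_smul, hh1, hg1], fun x hx => ?_⟩
    obtain ⟨c, hc⟩ := hh2 x hx
    obtain ⟨d, hd⟩ := hg2 x hx
    refine ⟨d + c, ?_⟩
    rw [mul_smul, hc, smul_add', smul_smul', hg1, hd]
    module
  inv_mem' := by
    rintro g ⟨hg1, hg2⟩
    have h1 : g⁻¹ • v = v := by rw [inv_smul_eq_iff, hg1]
    refine ⟨h1, fun x hx => ?_⟩
    obtain ⟨c, hc⟩ := hg2 x hx
    refine ⟨-c, ?_⟩
    rw [inv_smul_eq_iff, smul_add', smul_smul', hg1, hc]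
    module

theorem mem_Qg_iff (v : Fin m ⊕ Fin m → F) (g : Matrix.symplecticGroup (Fin m) F) :
    g ∈ Qg v ↔ g • v = v ∧ ∀ x, Bf x v = 0 → ∃ c : F, g • x = x + c • v := Iff.rfl

theorem sgG_mem_Qg {e w : Fin m ⊕ Fin m → F} (hew : Bf e w = 0) (s : F) :
    sgG e w s ∈ Qg e := by
  refine ⟨?_, fun x hx => ⟨Bf x w, ?_⟩⟩
  · rw [sgG_smul hew, Bf_self, hew]
    simp
  · rw [sgG_smul hew, hx]
    simp

theorem tv_mem_Qg (e : Fin m ⊕ Fin m → F) (s : F) : tv e s ∈ Qg e := by
  rw [tv_eq_sgG]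
  exact sgG_mem_Qg (Bf_zero_right e) s

theorem rootGroup_le_Qg (e : Fin m ⊕ Fin m → F) : rootGroup e ≤ Qg e := by
  intro g hg
  obtain ⟨c, rfl⟩ := mem_rootGroup.1 hg
  exact tv_mem_Qg e c

end Cfsg.Agent.Helper2.SpA
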