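import Mathlib
import Cfsg.Agent.Lib.Helper3.Basic

/-!
# S2945 piece IND (helper2): induction over the distinct `W`'s
-/

set_option autoImplicit false
set_option linter.unusedSectionVars false
set_option linter.unusedVariables false

namespace Cfsg.Agent.Helper15.JC45

universe u

variable {G : Type u} [Group G] [Finite G]

/-- elementwise commuting subgroups: every element of the join is a product -/
theorem ind_exists_mul {H K : Subgroup G} (hc : ∀ h ∈ H, ∀ k ∈ K, h * k = k * h) :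
    ∀ x ∈ H ⊔ K, ∃ h ∈ H, ∃ k ∈ K, x = h * k := by
  let S : Subgroup G :=
    { carrier := {x | ∃ h ∈ H, ∃ k ∈ K, x = h * k}
      mul_mem' := by
        rintro a b ⟨h1, hh1, k1, hk1, rfl⟩ ⟨h2, hh2, k2, hk2, rfl⟩
        refine ⟨h1 * h2, H.mul_mem hh1 hh2, k1 * k2, K.mul_mem hk1 hk2, ?_⟩
        have := hc h2 hh2 k1 hk1
        calc h1 * k1 * (h2 * k2) = h1 * (k1 * h2) * k2 := by group
          _ = h1 * (h2 * k1) * k2 := by rw [this]
          _ = _ := by group
      one_mem' := ⟨1, H.one_mem, 1, K.one_mem, by simp⟩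
      inv_mem' := by
        rintro a ⟨h, hh, k, hk, rfl⟩
        refine ⟨h⁻¹, H.inv_mem hh, k⁻¹, K.inv_mem hk, ?_⟩
        have := hc h hh k hk
        rw [mul_inv_rev]
        have h2 : h⁻¹ * k⁻¹ = k⁻¹ * h⁻¹ := by
          rw [← mul_inv_rev, ← mul_inv_rev, this]
        exact h2.symm }
  have hle : H ⊔ K ≤ S :=
    sup_le (fun h hh => ⟨h, hh, 1, K.one_mem, by simp⟩)
      (fun k hk => ⟨1, H.one_mem, k, hk, by simp⟩)
  intro x hx
  exact hle hx

/-- the join of the values in `S` is centralized by `Kf j` if `Wf j ∉ S` -/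
theorem ind_sup_le_centralizer {ι : Type*} (Kf Wf : ι → Subgroup G)
    (hcent : ∀ i j, Wf i ≠ Wf j → ∀ k ∈ Kf i, ∀ w ∈ Wf j, k * w = w * k)
    (S : Finset (Subgroup G)) (hS : ∀ ω ∈ S, ∃ i, Wf i = ω) (j : ι) (hj : Wf j ∉ S) :
    S.sup id ≤ Subgroup.centralizer (Kf j : Set G) := by
  apply Finset.sup_le
  intro ω hω
  obtain ⟨i, rfl⟩ := hS ω hω
  have hne : Wf j ≠ Wf i := fun h => hj (h ▸ hω)
  intro w hw
  rw [Subgroup.mem_centralizer_iff]
  intro k hk
  exact hcent j i hne k hk w hw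

theorem ind_card_aux {ι : Type*} (Kf Wf : ι → Subgroup G)
    (hW4 : ∀ i, Nat.card (Wf i) = 4)
    (hfpf : ∀ i, ∀ w ∈ Wf i, (∀ k ∈ Kf i, k * w = w * k) → w = 1)
    (hcent : ∀ i j, Wf i ≠ Wf j → ∀ k ∈ Kf i, ∀ w ∈ Wf j, k * w = w * k)
    (S : Finset (Subgroup G)) (hS : ∀ ω ∈ S, ∃ i, Wf i = ω) :
    4 ^ S.card ≤ Nat.card ↥(S.sup id) := by
  classical
  induction S using Finset.induction_on with
  | empty => simp
  | insert ω S hω ih =>
    obtain ⟨j, rfl⟩ := hS _ (Finset.mem_insert_self _ _)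
    have hS' : ∀ ω ∈ S, ∃ i, Wf i = ω := fun ω' h => hS ω' (Finset.mem_insert_of_mem h)
    have ih' := ih hS'
    rw [Finset.card_insert_of_notMem hω, Finset.sup_insert, pow_succ]
    have hcen := ind_sup_le_centralizer Kf Wf hcent S hS' j hω
    have hinf : Wf j ⊓ S.sup id = ⊥ := by
      rw [eq_bot_iff]
      intro w hw
      rw [Subgroup.mem_bot]
      apply hfpf j w hw.1
      intro k hk
      exact (Subgroup.mem_centralizer_iff.mp (hcen hw.2)) k hk
    have h := Cfsg.Agent.Helper3.card_mul_card_le_card_sup_mul_card_inf (Wf j) (S.sup id)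
    rw [hinf, Subgroup.card_bot, mul_one, hW4] at h
    simp only [id] at h ⊢
    calc 4 ^ S.card * 4 ≤ Nat.card ↥(S.sup id) * 4 := Nat.mul_le_mul_right _ ih'
      _ = 4 * Nat.card ↥(S.sup id) := Nat.mul_comm _ _
      _ ≤ _ := h

theorem ind_range_finite {ι : Type*} [Finite ι] (Wf : ι → Subgroup G) :
    (Set.range Wf).Finite := Set.finite_range Wf

theorem ind_sup_eq {ι : Type*} [Finite ι] (Wf : ι → Subgroup G) :
    (ind_range_finite Wf).toFinset.sup id = ⨆ i, Wf i := by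
  apply le_antisymm
  · apply Finset.sup_le
    intro ω hω
    rw [Set.Finite.mem_toFinset] at hω
    obtain ⟨i, rfl⟩ := hω
    exact le_iSup Wf i
  · apply iSup_le
    intro i
    have : Wf i ∈ (ind_range_finite Wf).toFinset := by
      rw [Set.Finite.mem_toFinset]
      exact ⟨i, rfl⟩
    exact Finset.le_sup (f := id) this

theorem ind_card {ι : Type*} [Finite ι] (Kf Wf : ι → Subgroup G)
    (hW4 : ∀ i, Nat.card (Wf i) = 4)
    (hfpf : ∀ i, ∀ w ∈ Wf i, (∀ k ∈ Kf i, k * w = w * k) → w = 1)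
    (hcent : ∀ i j, Wf i ≠ Wf j → ∀ k ∈ Kf i, ∀ w ∈ Wf j, k * w = w * k) :
    4 ^ (Set.range Wf).ncard ≤ Nat.card ↥(⨆ i, Wf i) := by
  have h := ind_card_aux Kf Wf hW4 hfpf hcent (ind_range_finite Wf).toFinset (by
    intro ω hω
    rw [Set.Finite.mem_toFinset] at hω
    exact hω)
  rw [ind_sup_eq, ← Set.ncard_eq_toFinset_card _ (ind_range_finite Wf)] at h
  exact h

theorem ind_fix_aux {ι : Type*} (Kf Wf : ι → Subgroup G)
    (hfpf : ∀ i, ∀ w ∈ Wf i, (∀ k ∈ Kf i, k * w = w * k) → w = 1)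
    (hcent : ∀ i j, Wf i ≠ Wf j → ∀ k ∈ Kf i, ∀ w ∈ Wf j, k * w = w * k)
    (hWK : ∀ i, Wf i ≤ Kf i)
    (S : Finset (Subgroup G)) (hS : ∀ ω ∈ S, ∃ i, Wf i = ω) :
    ∀ σ ∈ S.sup id, (∀ i, ∀ k ∈ Kf i, k * σ = σ * k) → σ = 1 := by
  classical
  induction S using Finset.induction_on with
  | empty =>
    intro σ hσ _
    simpa using hσ
  | insert ω S hω ih =>
    obtain ⟨j, rfl⟩ := hS _ (Finset.mem_insert_self _ _)
    have hS' : ∀ ω ∈ S, ∃ i, Wf i = ω := fun ω' h => hS ω' (Finset.mem_insert_of_mem h)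
    have ih' := ih hS'
    have hcen := ind_sup_le_centralizer Kf Wf hcent S hS' j hω
    intro σ hσ hfix
    rw [Finset.sup_insert] at hσ
    simp only [id] at hσ
    have hcomm : ∀ h ∈ Wf j, ∀ k ∈ S.sup id, h * k = k * h := fun h hh k hk =>
      (Subgroup.mem_centralizer_iff.mp (hcen hk)) h (hWK j hh)
    obtain ⟨w, hw, s, hs, rfl⟩ := ind_exists_mul hcomm σ hσ
    have hw1 : w = 1 := by
      apply hfpf j w hw
      intro k hk
      have h1 := hfix j k hk
      have h2 := (Subgroup.mem_centralizer_iff.mp (hcen hs)) k hk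
      -- k (w s) = (w s) k, k s = s k
      have : k * w * s = w * k * s := by
        calc k * w * s = k * (w * s) := by group
          _ = w * s * k := h1
          _ = w * (s * k) := by group
          _ = w * (k * s) := by rw [h2]
          _ = w * k * s := by group
      exact mul_right_cancel this
    subst hw1
    rw [one_mul] at hfix ⊢
    exact ih' s hs hfix

theorem ind_fix {ι : Type*} [Finite ι] (Kf Wf : ι → Subgroup G)
    (hfpf : ∀ i, ∀ w ∈ Wf i, (∀ k ∈ Kf i, k * w = w * k) → w = 1)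
    (hcent : ∀ i j, Wf i ≠ Wf j → ∀ k ∈ Kf i, ∀ w ∈ Wf j, k * w = w * k)
    (hWK : ∀ i, Wf i ≤ Kf i) :
    ∀ σ ∈ ⨆ i, Wf i, (∀ i, ∀ k ∈ Kf i, k * σ = σ * k) → σ = 1 := by
  intro σ hσ hfix
  rw [← ind_sup_eq] at hσ
  exact ind_fix_aux Kf Wf hfpf hcent hWK (ind_range_finite Wf).toFinset (by
    intro ω hω
    rw [Set.Finite.mem_toFinset] at hω
    exact hω) σ hσ hfix

end Cfsg.Agent.Helper15.JC45
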