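import Mathlib
import Cfsg.Agent.Lib.Helper27.GWBDefs

/-!
# S0508, piece ZB (designer helper27): `|G : N(Q)| = q + 1` and `Q` is regular on the other cosets
-/

set_option autoImplicit false
set_option linter.unusedVariables false
set_option linter.unusedSectionVars false

namespace Cfsg.Agent.Helper27.GWB

universe u

variable {G : Type u} [Group G] [Finite G]

/-- order of an internal semidirect product -/
theorem zb_card_sup {N K : Subgroup G} (hK : K ≤ Subgroup.normalizer (N : Set G)) (h : N ⊓ K = ⊥) :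
    Nat.card ↥(N ⊔ K) = Nat.card ↥N * Nat.card ↥K := by
  rw [← Nat.card_prod]
  symm
  apply Nat.card_congr
  refine Equiv.ofBijective (fun x : ↥N × ↥K => (⟨(x.1 : G) * (x.2 : G),
      Subgroup.mul_mem _ (Subgroup.mem_sup_left x.1.2) (Subgroup.mem_sup_right x.2.2)⟩ : ↥(N ⊔ K)))
    ⟨?_, ?_⟩
  · rintro ⟨r, k⟩ ⟨r', k'⟩ hxy
    have h1 : (r : G) * (k : G) = (r' : G) * (k' : G) := congrArg Subtype.val hxy
    have h2 : (r' : G)⁻¹ * (r : G) = (k' : G) * (k : G)⁻¹ := by
      calc (r' : G)⁻¹ * (r : G) = (r' : G)⁻¹ * ((r : G) * (k : G)) * (k : G)⁻¹ := by group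
        _ = (k' : G) * (k : G)⁻¹ := by rw [h1]; group
    have h3 : (r' : G)⁻¹ * (r : G) ∈ N ⊓ K :=
      ⟨N.mul_mem (N.inv_mem r'.2) r.2, by rw [h2]; exact K.mul_mem k'.2 (K.inv_mem k.2)⟩
    rw [h, Subgroup.mem_bot] at h3
    have h4 : (r : G) = r' := by
      have := congrArg (fun z => (r' : G) * z) h3
      simpa using this
    have h5 : (k : G) = k' := by
      rw [h4] at h1
      exact mul_left_cancel h1
    exact Prod.ext (Subtype.ext h4) (Subtype.ext h5)
  · rintro ⟨y, hy⟩
    have hy' : y ∈ ((N ⊔ K : Subgroup G) : Set G) := hy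
    rw [Subgroup.coe_mul_of_right_le_normalizer_left N K hK, Set.mem_mul] at hy'
    obtain ⟨n, hn, k, hk, rfl⟩ := hy'
    exact ⟨(⟨n, hn⟩, ⟨k, hk⟩), rfl⟩

/-- `|N(Q)| = |Q| |D|` -/
theorem zb_card_normalizer {Q D : Subgroup G} (h : BSWData G Q D) :
    Nat.card ↥(Subgroup.normalizer (Q : Set G)) = Nat.card Q * Nat.card D := by
  have hD : D ≤ Subgroup.normalizer (Q : Set G) := by rw [h.norm]; exact le_sup_right
  rw [h.norm]
  exact zb_card_sup hD h.inf

/-- PIECE ZB. -/
theorem BSWData.card_quotient {Q D : Subgroup G} (h : BSWData G Q D) :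
    Nat.card (G ⧸ Subgroup.normalizer (Q : Set G)) = Nat.card Q + 1 := by
  have h1 := Subgroup.card_eq_card_quotient_mul_card_subgroup (Subgroup.normalizer (Q : Set G))
  rw [zb_card_normalizer h] at h1
  have h2 := h.card
  have h3 := h.cardD
  have hq : 0 < Nat.card Q := Nat.card_pos
  have hd : 0 < Nat.card D := Nat.card_pos
  set q := Nat.card Q
  set d := Nat.card D
  set i := Nat.card (G ⧸ Subgroup.normalizer (Q : Set G))
  have h4 : q - 1 = 2 * d := by omega
  rw [h1, h4] at h2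
  have h5 : i * (2 * (q * d)) = (q + 1) * (2 * (q * d)) := by
    calc i * (2 * (q * d)) = 2 * (i * (q * d)) := by ring
      _ = q * (q + 1) * (2 * d) := h2
      _ = (q + 1) * (2 * (q * d)) := by ring
  exact Nat.eq_of_mul_eq_mul_right (by positivity) h5

/-- the stabilizer in `Q` of a coset other than `N(Q)` is trivial -/
theorem zb_stab {Q D : Subgroup G} (h : BSWData G Q D)
    (hinf : ∀ g : G, g ∉ Subgroup.normalizer (Q : Set G) →
      Q ⊓ (Subgroup.normalizer (Q : Set G)).map (MulAut.conj g).toMonoidHom = ⊥)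
    (y : G ⧸ Subgroup.normalizer (Q : Set G))
    (hy : y ≠ ((1 : G) : G ⧸ Subgroup.normalizer (Q : Set G)))
    (v : G) (hv : v ∈ Q) (hvy : v • y = y) : v = 1 := by
  obtain ⟨g, rfl⟩ := QuotientGroup.mk_surjective y
  have hg : g ∉ Subgroup.normalizer (Q : Set G) := by
    intro hg
    apply hy
    rw [QuotientGroup.eq]
    simpa using hg
  have h1 : v ∈ Q ⊓ (Subgroup.normalizer (Q : Set G)).map (MulAut.conj g).toMonoidHom := by
    refine Subgroup.mem_inf.mpr ⟨hv, ?_⟩
    rw [Subgroup.mem_map]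
    refine ⟨g⁻¹ * v * g, ?_, ?_⟩
    · have h2 : ((v * g : G) : G ⧸ Subgroup.normalizer (Q : Set G)) =
          ((g : G) : G ⧸ Subgroup.normalizer (Q : Set G)) := hvy
      rw [QuotientGroup.eq] at h2
      have h3 := (Subgroup.normalizer (Q : Set G)).inv_mem h2
      have e : ((v * g)⁻¹ * g)⁻¹ = g⁻¹ * v * g := by group
      rwa [e] at h3
    · simp [MulAut.conj_apply]
      group
  rw [hinf g hg, Subgroup.mem_bot] at h1
  exact h1

/-- PIECE ZB (second half). -/
theorem BSWData.regular {Q D : Subgroup G} (h : BSWData G Q D)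
    (hinf : ∀ g : G, g ∉ Subgroup.normalizer (Q : Set G) →
      Q ⊓ (Subgroup.normalizer (Q : Set G)).map (MulAut.conj g).toMonoidHom = ⊥)
    (hcard : Nat.card (G ⧸ Subgroup.normalizer (Q : Set G)) = Nat.card Q + 1) :
    ∀ y z : G ⧸ Subgroup.normalizer (Q : Set G),
      y ≠ ((1 : G) : G ⧸ Subgroup.normalizer (Q : Set G)) →
      z ≠ ((1 : G) : G ⧸ Subgroup.normalizer (Q : Set G)) → ∃! v : Q, (v : G) • y = z := by
  intro y z hy hz
  set ω0 : G ⧸ Subgroup.normalizer (Q : Set G) := ((1 : G) : G ⧸ Subgroup.normalizer (Q : Set G))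
    with hω0
  have hfix : ∀ v : G, v ∈ Q → v • ω0 = ω0 := by
    intro v hv
    have hvN : v ∈ Subgroup.normalizer (Q : Set G) := Subgroup.le_normalizer hv
    rw [hω0]
    change ((v * 1 : G) : G ⧸ Subgroup.normalizer (Q : Set G)) = _
    rw [QuotientGroup.eq]
    simpa using hvN
  let f : Q → {w : G ⧸ Subgroup.normalizer (Q : Set G) // w ≠ ω0} := fun v =>
    ⟨(v : G) • y, by
      intro hvy
      apply hy
      have := congrArg (fun w => (v : G)⁻¹ • w) hvy
      simp only [inv_smul_smul] at this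
      rw [this, hfix _ (Q.inv_mem v.2)]⟩
  have hinj : Function.Injective f := by
    intro v v' hvv'
    have h1 : (v : G) • y = (v' : G) • y := congrArg Subtype.val hvv'
    have h2 : ((v' : G)⁻¹ * (v : G)) • y = y := by
      rw [mul_smul, h1, inv_smul_smul]
    have h3 := zb_stab h hinf y hy _ (Q.mul_mem (Q.inv_mem v'.2) v.2) h2
    apply Subtype.ext
    have := congrArg (fun w => (v' : G) * w) h3
    simpa using this
  have hc : Nat.card {w : G ⧸ Subgroup.normalizer (Q : Set G) // w ≠ ω0} = Nat.card Q := by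
    have e1 : Nat.card {w : G ⧸ Subgroup.normalizer (Q : Set G) // w ≠ ω0} =
        ({ω0}ᶜ : Set (G ⧸ Subgroup.normalizer (Q : Set G))).ncard := by
      rw [← Nat.card_coe_set_eq]
      rfl
    rw [e1, Set.ncard_compl, Set.ncard_singleton, hcard]
    simp
  have hbij : Function.Bijective f :=
    hinj.bijective_of_nat_card_le (le_of_eq hc)
  obtain ⟨v, hv⟩ := hbij.2 ⟨z, hz⟩
  refine ⟨v, congrArg Subtype.val hv, ?_⟩
  intro v' hv'
  apply hinj
  rw [hv]
  exact Subtype.ext hv'

end Cfsg.Agent.Helper27.GWB
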