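import Mathlib
import Cfsg.Agent.Lib.Helper17.SLkDefs

/-!
PIECE SLK-NORM1 (S2479 farm-out, helper17): the determinant of multiplication by `r` on `F[X]/(p^e)` is the
`e`-th power of the determinant of multiplication by `r` on `F[X]/(p)`.
-/

set_option autoImplicit false
set_option linter.unusedSectionVars false
set_option linter.unusedVariables false

open Polynomial

namespace Cfsg.Agent.Helper17.SLk

open Cfsg.Agent.Helper17.GLk

universe u

variable {F : Type u} [Field F]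

theorem slk_norm1_finite (g : F[X]) (hg : g ≠ 0) : FiniteDimensional F (F[X] ⧸ Ideal.span {g}) :=
  (AdjoinRoot.powerBasis hg).finite

theorem slk_norm1_det_intertwine {M N : Type*} [AddCommGroup M] [Module F M] [AddCommGroup N]
    [Module F N] (f : M →ₗ[F] M) (g : N →ₗ[F] N) (φ : M ≃ₗ[F] N) (h : ∀ x, φ (f x) = g (φ x)) :
    LinearMap.det f = LinearMap.det g := by
  have hg : g = (φ : M →ₗ[F] N) ∘ₗ f ∘ₗ (φ.symm : N →ₗ[F] M) := by
    ext y
    simp [h]
  rw [hg, LinearMap.det_conj]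

theorem slk_norm1_mulQ_mk (g r x : F[X]) :
    mulQ g r (Ideal.Quotient.mk (Ideal.span {g}) x) = Ideal.Quotient.mk (Ideal.span {g}) (r * x) := by
  unfold mulQ
  simp [LinearMap.mulLeft_apply]

/-- the `F`-linear projection `F[X]/(p^(e+1)) → F[X]/(p^e)`. -/
noncomputable def slk_norm1_pi (p : F[X]) (e : ℕ) :
    (F[X] ⧸ Ideal.span {p ^ (e + 1)}) →ₗ[F] (F[X] ⧸ Ideal.span {p ^ e}) :=
  (Ideal.Quotient.factorₐ F (Ideal.span_singleton_le_span_singleton.2
    (pow_dvd_pow p (Nat.le_succ e)))).toLinearMap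

theorem slk_norm1_pi_mk (p : F[X]) (e : ℕ) (x : F[X]) :
    slk_norm1_pi p e (Ideal.Quotient.mk _ x) = Ideal.Quotient.mk _ x := rfl

/-- the `F`-linear injection `F[X]/(p) → F[X]/(p^(e+1))`, multiplication by `p^e`. -/
noncomputable def slk_norm1_iota (p : F[X]) (e : ℕ) :
    (F[X] ⧸ Ideal.span {p}) →ₗ[F] (F[X] ⧸ Ideal.span {p ^ (e + 1)}) :=
  (Submodule.liftQ (Ideal.span {p})
    ((Submodule.mkQ (Ideal.span {p ^ (e + 1)})) ∘ₗ LinearMap.mulLeft F[X] (p ^ e)) (by
      intro x hx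
      rw [Ideal.mem_span_singleton] at hx
      obtain ⟨y, rfl⟩ := hx
      rw [LinearMap.mem_ker, LinearMap.comp_apply, LinearMap.mulLeft_apply, Submodule.mkQ_apply,
        Submodule.Quotient.mk_eq_zero, Ideal.mem_span_singleton]
      exact ⟨y, by ring⟩)).restrictScalars F

theorem slk_norm1_iota_mk (p : F[X]) (e : ℕ) (x : F[X]) :
    slk_norm1_iota p e (Ideal.Quotient.mk _ x) = Ideal.Quotient.mk _ (p ^ e * x) := rfl

theorem slk_norm1_iota_injective (p : F[X]) (hp : p ≠ 0) (e : ℕ) :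
    Function.Injective (slk_norm1_iota p e) := by
  rw [← LinearMap.ker_eq_bot, LinearMap.ker_eq_bot']
  intro a ha
  obtain ⟨x, rfl⟩ := Ideal.Quotient.mk_surjective a
  rw [slk_norm1_iota_mk, Ideal.Quotient.eq_zero_iff_mem, Ideal.mem_span_singleton, pow_succ] at ha
  rw [Ideal.Quotient.eq_zero_iff_mem, Ideal.mem_span_singleton]
  exact (mul_dvd_mul_iff_left (pow_ne_zero e hp)).1 ha

theorem slk_norm1_range_iota (p : F[X]) (e : ℕ) :
    LinearMap.range (slk_norm1_iota p e) = LinearMap.ker (slk_norm1_pi p e) := by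
  ext v
  rw [LinearMap.mem_range, LinearMap.mem_ker]
  constructor
  · rintro ⟨a, rfl⟩
    obtain ⟨x, rfl⟩ := Ideal.Quotient.mk_surjective a
    rw [slk_norm1_iota_mk, slk_norm1_pi_mk, Ideal.Quotient.eq_zero_iff_mem, Ideal.mem_span_singleton]
    exact ⟨x, rfl⟩
  · intro hv
    obtain ⟨y, rfl⟩ := Ideal.Quotient.mk_surjective v
    rw [slk_norm1_pi_mk, Ideal.Quotient.eq_zero_iff_mem, Ideal.mem_span_singleton] at hv
    obtain ⟨x, rfl⟩ := hv
    exact ⟨Ideal.Quotient.mk _ x, slk_norm1_iota_mk p e x⟩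

theorem slk_norm1_pi_surjective (p : F[X]) (e : ℕ) : Function.Surjective (slk_norm1_pi p e) := by
  intro b
  obtain ⟨x, rfl⟩ := Ideal.Quotient.mk_surjective b
  exact ⟨Ideal.Quotient.mk _ x, rfl⟩

theorem slk_norm1_step (p r : F[X]) (hp : p ≠ 0) (e : ℕ) :
    LinearMap.det (mulQ (p ^ (e + 1)) r) =
      LinearMap.det (mulQ p r) * LinearMap.det (mulQ (p ^ e) r) := by
  have : FiniteDimensional F (F[X] ⧸ Ideal.span {p ^ (e + 1)}) :=
    slk_norm1_finite _ (pow_ne_zero _ hp)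
  set f := mulQ (p ^ (e + 1)) r with hf
  set W := LinearMap.ker (slk_norm1_pi p e) with hW
  have he : W ≤ W.comap f := by
    intro v hv
    rw [Submodule.mem_comap, hW, LinearMap.mem_ker]
    rw [hW, LinearMap.mem_ker] at hv
    obtain ⟨y, rfl⟩ := Ideal.Quotient.mk_surjective v
    rw [slk_norm1_pi_mk, Ideal.Quotient.eq_zero_iff_mem, Ideal.mem_span_singleton] at hv
    rw [hf, slk_norm1_mulQ_mk, slk_norm1_pi_mk, Ideal.Quotient.eq_zero_iff_mem,
      Ideal.mem_span_singleton]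
    exact Dvd.dvd.mul_left hv r
  rw [LinearMap.det_eq_det_mul_det W f he]
  congr 1
  · -- the restriction to `W` is multiplication by `r` on `F[X]/(p)`
    symm
    let φ : (F[X] ⧸ Ideal.span {p}) ≃ₗ[F] W :=
      (LinearEquiv.ofInjective (slk_norm1_iota p e) (slk_norm1_iota_injective p hp e)).trans
        (LinearEquiv.ofEq _ _ (slk_norm1_range_iota p e))
    apply slk_norm1_det_intertwine (mulQ p r) (f.restrict he) φ
    intro a
    obtain ⟨x, rfl⟩ := Ideal.Quotient.mk_surjective a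
    apply Subtype.ext
    show slk_norm1_iota p e (mulQ p r (Ideal.Quotient.mk _ x)) =
      f (slk_norm1_iota p e (Ideal.Quotient.mk _ x))
    rw [slk_norm1_mulQ_mk, slk_norm1_iota_mk, slk_norm1_iota_mk, hf, slk_norm1_mulQ_mk]
    congr 1
    ring
  · -- the quotient by `W` is multiplication by `r` on `F[X]/(p^e)`
    let ψ : ((F[X] ⧸ Ideal.span {p ^ (e + 1)}) ⧸ W) ≃ₗ[F] (F[X] ⧸ Ideal.span {p ^ e}) :=
      (slk_norm1_pi p e).quotKerEquivOfSurjective (slk_norm1_pi_surjective p e)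
    apply slk_norm1_det_intertwine (W.mapQ W f he) (mulQ (p ^ e) r) ψ
    intro q
    obtain ⟨v, rfl⟩ := Submodule.Quotient.mk_surjective W q
    obtain ⟨y, rfl⟩ := Ideal.Quotient.mk_surjective v
    show slk_norm1_pi p e (f (Ideal.Quotient.mk _ y)) =
      mulQ (p ^ e) r (slk_norm1_pi p e (Ideal.Quotient.mk _ y))
    rw [hf, slk_norm1_mulQ_mk, slk_norm1_pi_mk, slk_norm1_pi_mk, slk_norm1_mulQ_mk]

/-- PIECE SLK-NORM1: norm on `F[X]/(p^e)` is the `e`-th power of the norm on `F[X]/(p)`. -/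
theorem det_mulQ_pow (p r : F[X]) (hp : p ≠ 0) (e : ℕ) :
    LinearMap.det (mulQ (p ^ e) r) = LinearMap.det (mulQ p r) ^ e := by
  induction e with
  | zero =>
    have : Subsingleton (F[X] ⧸ Ideal.span {p ^ 0}) := by
      rw [Ideal.Quotient.subsingleton_iff, pow_zero, Ideal.span_singleton_one]
    rw [pow_zero (LinearMap.det (mulQ p r))]
    exact LinearMap.det_eq_one_of_subsingleton _
  | succ e ih =>
    rw [slk_norm1_step p r hp e, ih, pow_succ']

end Cfsg.Agent.Helper17.SLk
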