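import Mathlib
import Cfsg.Agent.Lib.Helper15.S52Defs
import Cfsg.Agent.Lib.Helper12.SL2Pow

/-!
# S3452 piece S52-GLSPLIT (helper2): a `2 × 2` matrix over a finite field with two distinct
eigenvalues in the field has `M ^ (q - 1) = 1`.
-/

set_option autoImplicit false
set_option linter.unusedVariables false

namespace Cfsg.Agent.Helper15.S52

open Cfsg.Agent.Helper2

/-- PIECE S52-GLSPLIT -/
theorem gl_pow_split {F : Type*} [Field F] [Fintype F] (M : Matrix (Fin 2) (Fin 2) F) (l : F)
    (hdet : M.det ≠ 0) (hl : l ^ 2 - M.trace * l + M.det = 0) (hl' : l ^ 2 ≠ M.det) :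
    M ^ (Fintype.card F - 1) = 1 := by
  have hl0 : l ≠ 0 := by
    rintro rfl
    apply hdet
    simpa using hl
  set μ := M.det / l with hμ
  have hlμ : l * μ = M.det := by
    rw [hμ]; field_simp
  have hμ0 : μ ≠ 0 := by
    rw [hμ]; exact div_ne_zero hdet hl0
  have ht : M.trace = l + μ := by
    have : l * (M.trace - (l + μ)) = 0 := by linear_combination (-1 : F) * hl - hlμ
    rcases mul_eq_zero.1 this with h | h
    · exact absurd h hl0
    · exact sub_eq_zero.1 h
  have hδ : l - μ ≠ 0 := by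
    intro h
    apply hl'
    have : l = μ := sub_eq_zero.1 h
    rw [pow_two]
    nth_rewrite 2 [this]
    exact hlμ
  have hsq : M * M = M.trace • M - M.det • (1 : Matrix (Fin 2) (Fin 2) F) :=
    Cfsg.Agent.Helper12.sq_eq2 M
  have h1 : M * (M - μ • (1 : Matrix (Fin 2) (Fin 2) F)) =
      l • (M - μ • (1 : Matrix (Fin 2) (Fin 2) F)) := by
    rw [mul_sub, hsq, ht, smul_sub, smul_smul, hlμ, add_smul]
    simp only [mul_smul_comm, mul_one]
    abel
  have h2 : M * (l • (1 : Matrix (Fin 2) (Fin 2) F) - M) =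
      μ • (l • (1 : Matrix (Fin 2) (Fin 2) F) - M) := by
    rw [mul_sub, hsq, ht, smul_sub, smul_smul, mul_comm μ l, hlμ, add_smul]
    simp only [mul_smul_comm, mul_one]
    abel
  have h1k : ∀ k : ℕ, M ^ k * (M - μ • (1 : Matrix (Fin 2) (Fin 2) F)) =
      (l ^ k) • (M - μ • (1 : Matrix (Fin 2) (Fin 2) F)) := by
    intro k
    induction k with
    | zero => simp
    | succ k ih => rw [pow_succ, mul_assoc, h1, mul_smul_comm, ih, smul_smul, pow_succ, mul_comm]
  have h2k : ∀ k : ℕ, M ^ k * (l • (1 : Matrix (Fin 2) (Fin 2) F) - M) =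
      (μ ^ k) • (l • (1 : Matrix (Fin 2) (Fin 2) F) - M) := by
    intro k
    induction k with
    | zero => simp
    | succ k ih => rw [pow_succ, mul_assoc, h2, mul_smul_comm, ih, smul_smul, pow_succ, mul_comm]
  have hlq : l ^ (Fintype.card F - 1) = 1 := FiniteField.pow_card_sub_one_eq_one l hl0
  have hμq : μ ^ (Fintype.card F - 1) = 1 := FiniteField.pow_card_sub_one_eq_one μ hμ0
  have hone : M - μ • (1 : Matrix (Fin 2) (Fin 2) F) + (l • (1 : Matrix (Fin 2) (Fin 2) F) - M) =
      (l - μ) • (1 : Matrix (Fin 2) (Fin 2) F) := by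
    rw [sub_smul]; abel
  have hsum : (l - μ) • M ^ (Fintype.card F - 1) =
      (l - μ) • (1 : Matrix (Fin 2) (Fin 2) F) := by
    have : (l - μ) • M ^ (Fintype.card F - 1) =
        M ^ (Fintype.card F - 1) * (M - μ • (1 : Matrix (Fin 2) (Fin 2) F)) +
        M ^ (Fintype.card F - 1) * (l • (1 : Matrix (Fin 2) (Fin 2) F) - M) := by
      rw [← mul_add, hone, mul_smul_comm, mul_one]
    rw [this, h1k, h2k, hlq, hμq, one_smul, one_smul, hone]
  exact smul_right_injective _ hδ hsum

end Cfsg.Agent.Helper15.S52
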