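import Mathlib
import Cfsg.Prelude.Def_Classical
import Cfsg.Agent.Lib.Helper15.S74Defs

/-!
# S2474, piece S74-NXCSP (helper2 for helper15): core of `nxC_symp`, with the statements of
`wpart_small` (S74-WSMALL) and `nxC_core` (S74-NXCCORE) as hypotheses.
-/

set_option autoImplicit false

open Cfsg.Agent.Helper15.S62

namespace Cfsg.Agent.Helper15.S74

universe u

variable {F : Type u} [Field F]

/-- powers of an isometry are isometries -/
theorem s74_nxcsp_isom_pow {V : Type u} [AddCommGroup V] [Module F V]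
    (B : LinearMap.BilinForm F V) (A : Module.End F V) (hA : Isom B A) (j : ℕ) :
    Isom B (A ^ j) := by
  induction j with
  | zero =>
    intro x y
    rw [pow_zero, Module.End.one_apply, Module.End.one_apply]
  | succ j ih =>
    intro x y
    rw [pow_succ, Module.End.mul_apply, Module.End.mul_apply, ih, hA]

/-- the core of `nxC_symp`: the statements of `wpart_small` and `nxC_core` (for this `B`, `t`, `n`)
are hypotheses -/
theorem s74_nxcsp_core [Fintype F] {V : Type u} [AddCommGroup V] [Module F V]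
    [FiniteDimensional F V]
    (B : LinearMap.BilinForm F V) (A : Module.End F V)
    (hA : Isom B A) (t : ℕ) (ht : t.Prime) (ht2 : t ≠ 2)
    (hA2t : A ^ (2 * t) = 1 ∨ A ^ (2 * t) = -1)
    (hAj : ∀ j : ℕ, 0 < j → j < 2 * t → A ^ j ≠ 1 ∧ A ^ j ≠ -1) (n : ℕ)
    (hdim : Module.finrank F V = 2 * n)
    (hW : ∀ y : Module.End F V, Isom B y → y ^ t = 1 → y ≠ 1 →
      ∃ d : ℕ, 1 ≤ d ∧ 2 * d ≤ Module.finrank F (Wpart y t) ∧
        t ∣ Fintype.card F ^ (2 * d) - 1)
    (hC : ∀ y : Module.End F V, Isom B y → ∑ i ∈ Finset.range t, y ^ i = 0 →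
      ¬ Small (Fintype.card F) t (n - 1) →
      ∃ E : ℕ, (E = Fintype.card F ^ n - 1 ∨ E = Fintype.card F ^ n + 1) ∧ t ∣ E ∧
        (∀ z : Module.End F V, Commute z y → Isom B z → z ^ 4 = 1 →
          (z ^ 2 = 1 → z = 1 ∨ z = -1) ∧ (z ^ 2 ≠ 1 → 4 ∣ E))) :
    PhiC (Fintype.card F) n t := by
  by_cases hns : Small (Fintype.card F) t (n - 1)
  · exact Or.inl hns
  right
  have ht3 : 3 ≤ t := by
    have := ht.two_le
    omega
  have h4t : A ^ (4 * t) = 1 := by
    have e : 4 * t = 2 * t * 2 := by ring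
    rw [e, pow_mul]
    rcases hA2t with h | h
    · rw [h, one_pow]
    · rw [h, neg_one_sq]
  -- `y = A ^ 4`
  have hyt : (A ^ 4) ^ t = 1 := by rw [← pow_mul]; exact h4t
  have hy1 : A ^ 4 ≠ 1 := (hAj 4 (by omega) (by omega)).1
  have hy : Isom B (A ^ 4) := s74_nxcsp_isom_pow B A hA 4
  obtain ⟨d, hd1, hdW, hdt⟩ := hW (A ^ 4) hy hyt hy1
  have hdn : n ≤ d := by
    by_contra hlt
    exact hns ⟨d, hd1, by omega, hdt⟩
  have hWle : Module.finrank F (Wpart (A ^ 4) t) ≤ Module.finrank F V :=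
    Submodule.finrank_le _
  have hWtop : Wpart (A ^ 4) t = ⊤ := by
    apply Submodule.eq_top_of_finrank_eq
    omega
  have hsum : ∑ i ∈ Finset.range t, (A ^ 4) ^ i = 0 := by
    apply LinearMap.ext
    intro v
    have hv : v ∈ Wpart (A ^ 4) t := by rw [hWtop]; exact Submodule.mem_top
    rw [mem_Wpart] at hv
    rw [LinearMap.sum_apply, hv, LinearMap.zero_apply]
  obtain ⟨E, hE, htE, hz⟩ := hC (A ^ 4) hy hsum hns
  -- `z = A ^ t`
  have hzc : Commute (A ^ t) (A ^ 4) := (Commute.refl A).pow_pow t 4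
  have hz4 : (A ^ t) ^ 4 = 1 := by rw [← pow_mul, mul_comm]; exact h4t
  obtain ⟨hz2, hz2'⟩ := hz (A ^ t) hzc (s74_nxcsp_isom_pow B A hA t) hz4
  have hzne := hAj t (by omega) (by omega)
  have h4E : 4 ∣ E := by
    apply hz2'
    intro h
    rcases hz2 h with h1 | h1
    · exact hzne.1 h1
    · exact hzne.2 h1
  rcases hE with hE | hE
  · left
    rw [← hE]
    exact ⟨htE, h4E⟩
  · right
    rw [← hE]
    exact ⟨htE, h4E⟩

end Cfsg.Agent.Helper15.S74
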