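import Mathlib
import Cfsg.Prelude.Def_Classical
import Cfsg.Agent.Lib.Helper15.S74Defs
import Cfsg.Agent.Lib.Helper2.S74NXCSPCore
import Cfsg.Agent.Lib.Helper12.S74WSMALL
import Cfsg.Agent.Lib.Helper15.S74NXCCORE

/-!
# S2474, piece S74-NXCSP (helper2 for helper15): `nxC_symp`.
-/

set_option autoImplicit false

open Cfsg.Agent.Helper15.S62

namespace Cfsg.Agent.Helper15.S74

universe u

variable {F : Type u} [Field F]

/-- S74-NXCSP (uses WSMALL, NXCCORE): the symplectic `{2, t}` case: `A` represents an element of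
order `2t` of `PSp`.  `y = A^4` has order `t`, `z = A^t` satisfies `z^4 = 1`, `z ≠ ±1`;
`¬ Small` forces `Wpart y t = ⊤` (WSMALL: `2d ≤ dim Wpart`, `d ≥ n`), then NXCCORE. -/
theorem nxC_symp [Fintype F] {V : Type u} [AddCommGroup V] [Module F V] [FiniteDimensional F V]
    (h2 : (2 : F) ≠ 0) (B : LinearMap.BilinForm F V) (hnd : LND B) (A : Module.End F V)
    (hA : Isom B A) (t : ℕ) (ht : t.Prime) (ht2 : t ≠ 2) (htF : (t : F) ≠ 0)
    (hA2t : A ^ (2 * t) = 1 ∨ A ^ (2 * t) = -1)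
    (hAj : ∀ j : ℕ, 0 < j → j < 2 * t → A ^ j ≠ 1 ∧ A ^ j ≠ -1) (n : ℕ) (hn : 1 ≤ n)
    (hdim : Module.finrank F V = 2 * n) : PhiC (Fintype.card F) n t := by
  refine s74_nxcsp_core B A hA t ht ht2 hA2t hAj n hdim ?_ ?_
  · intro y hy hyt hy1
    exact wpart_small B hnd y hy t ht ht2 htF hyt hy1
  · intro y hy hsum hns
    obtain ⟨E, hE, htE, hz, -⟩ := nxC_core h2 B hnd y hy t ht ht2 htF hsum n hn hdim hns
    exact ⟨E, hE, htE, hz⟩

end Cfsg.Agent.Helper15.S74
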