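import Mathlib
import Cfsg.Prelude.Def_Classical
import Cfsg.Agent.Lib.Helper15.S74Defs
import Cfsg.Agent.Lib.Helper5.S74XDefs

/-!
# S2474 T4, piece S74X-PAD (helper2 for helper5): the standard symplectic space with `g = 1`.
-/

set_option autoImplicit false
set_option linter.style.haveILetI false

namespace Cfsg.Agent.Helper15.S74

universe v v₁ v₂ u

/-- the standard alternating form on `(Fin k → F) × (Fin k → F)` -/
noncomputable def s74x_pad_form (F : Type u) [Field F] (k : ℕ) :
    LinearMap.BilinForm F ((Fin k → F) × (Fin k → F)) :=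
  LinearMap.mk₂ F (fun x y => x.1 ⬝ᵥ y.2 - y.1 ⬝ᵥ x.2)
    (by intro x x' y; simp [add_dotProduct, dotProduct_add]; ring)
    (by intro c x y; simp [smul_dotProduct, dotProduct_smul]; ring)
    (by intro x y y'; simp [add_dotProduct, dotProduct_add]; ring)
    (by intro c x y; simp [smul_dotProduct, dotProduct_smul]; ring)

theorem s74x_pad_form_apply (F : Type u) [Field F] (k : ℕ)
    (x y : (Fin k → F) × (Fin k → F)) :
    s74x_pad_form F k x y = x.1 ⬝ᵥ y.2 - y.1 ⬝ᵥ x.2 := rfl

/-- PIECE S74X-PAD: the standard symplectic space `(Fin k → F) × (Fin k → F)`,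
`ω x y = x.1 ⬝ᵥ y.2 - y.1 ⬝ᵥ x.2`, with `g = 1` (`orderOf_one`); `k = 0` allowed. -/
theorem mod_pad {F : Type u} [Field F] (k : ℕ) : Mod.{u, u} F k 1 := by
  refine ⟨(Fin k → F) × (Fin k → F), inferInstance, inferInstance, s74x_pad_form F k, 1,
    ⟨inferInstance, ?_, ?_, ?_, ?_⟩, orderOf_one⟩
  · rw [Module.finrank_prod, Module.finrank_fin_fun]
    omega
  · intro x
    rw [s74x_pad_form_apply, sub_self]
  · intro x hx
    have h1 : x.1 = 0 := by
      funext i
      have := hx (0, Pi.single i 1)
      rw [s74x_pad_form_apply] at this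
      simpa using this
    have h2 : x.2 = 0 := by
      funext i
      have := hx (Pi.single i 1, 0)
      rw [s74x_pad_form_apply] at this
      simpa using this
    exact Prod.ext h1 h2
  · intro x y
    rfl

end Cfsg.Agent.Helper15.S74
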