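import Mathlib
import Cfsg.Agent.Lib.Helper15.S64Defs

/-!
# S3664, piece S64-K13 (helper2 for helper15): the characteristic polynomial of an irreducible
element of order 13 of `GL_4(8)` does not have all its coefficients in the prime field.
-/

set_option autoImplicit false
set_option linter.unusedSectionVars false
set_option linter.unusedVariables false

namespace Cfsg.Agent.Helper15.S64

open Matrix Cfsg.Agent.Helper2 Cfsg.Agent.Helper2.Sz

variable {F : Type*} [Field F] [Fintype F] (S : SzData F 1)
  (hF : Fintype.card F = 2 ^ (2 * 1 + 1))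

/-- a polynomial over a field of characteristic 2 with idempotent coefficients: `P ^ 2 = P (X ^ 2)` -/
theorem s64_k13_sq_eq_expand {K : Type*} [Field K] [CharP K 2] (P : Polynomial K)
    (hP : ∀ i : ℕ, (P.coeff i) ^ 2 = P.coeff i) : P ^ 2 = Polynomial.expand K 2 P := by
  have : Fact (Nat.Prime 2) := ⟨Nat.prime_two⟩
  have hmap : P.map (frobenius K 2) = P := by
    ext i
    rw [Polynomial.coeff_map, frobenius_def, hP i]
  have h := Polynomial.map_frobenius_expand (R := K) (p := 2) P
  rw [Polynomial.map_expand, hmap] at h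
  exact h.symm

/-- squaring a root -/
theorem s64_k13_root_sq {K : Type*} [Field K] [CharP K 2] (P : Polynomial K)
    (hP : ∀ i : ℕ, (P.coeff i) ^ 2 = P.coeff i) {A : Type*} [Ring A] [Algebra K A] (x : A)
    (hx : Polynomial.aeval x P = 0) : Polynomial.aeval (x ^ 2) P = 0 := by
  have h1 : Polynomial.aeval x (P ^ 2) = 0 := by rw [map_pow, hx]; exact zero_pow two_ne_zero
  rw [s64_k13_sq_eq_expand P hP, Polynomial.expand_aeval] at h1
  exact h1

theorem s64_k13_root_pow {K : Type*} [Field K] [CharP K 2] (P : Polynomial K)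
    (hP : ∀ i : ℕ, (P.coeff i) ^ 2 = P.coeff i) {A : Type*} [Ring A] [Algebra K A] (x : A)
    (hx : Polynomial.aeval x P = 0) (j : ℕ) : Polynomial.aeval (x ^ (2 ^ j)) P = 0 := by
  induction j with
  | zero => simpa using hx
  | succ j ih =>
    have := s64_k13_root_sq P hP _ ih
    rwa [← pow_mul, ← pow_succ] at this

/-- five distinct powers -/
theorem s64_k13_pow_ne {M : Matrix (Fin 4) (Fin 4) F} (h : IrrMat.IrrData M 13) {a b : ℕ}
    (hab : ¬ a ≡ b [MOD 13]) : M ^ a ≠ M ^ b := by
  have hord : orderOf M = 13 := by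
    have : Fact (Nat.Prime 13) := ⟨by norm_num⟩
    exact orderOf_eq_prime h.pow h.ne_one
  intro heq
  apply hab
  have h1 : M ^ (12 * a + b) = 1 := by
    rw [pow_add, ← heq, ← pow_add]
    have : 12 * a + a = 13 * a := by ring
    rw [this, pow_mul, h.pow, one_pow]
  have h2 : 13 ∣ 12 * a + b := by
    rw [← hord]
    exact orderOf_dvd_of_pow_eq_one h1
  unfold Nat.ModEq
  omega

/-- a polynomial of degree 4 over a commutative domain has at most 4 roots -/
theorem s64_k13_five_roots {K : Type*} [CommRing K] [IsDomain K] (Q : Polynomial K)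
    (hQ : Q ≠ 0) (hdeg : Q.natDegree = 4) (x : Fin 5 → K) (hinj : Function.Injective x)
    (hroot : ∀ j, Q.IsRoot (x j)) : False := by
  classical
  have hsub : (Finset.univ.image x).val ⊆ Q.roots := by
    intro y hy
    rw [Finset.mem_val, Finset.mem_image] at hy
    obtain ⟨j, -, rfl⟩ := hy
    exact (Polynomial.mem_roots hQ).2 (hroot j)
  have := Polynomial.card_le_degree_of_subset_roots hsub
  rw [Finset.card_image_of_injective _ hinj, hdeg] at this
  simp at this

include S hF in
/-- PIECE S64-K13 -/
theorem charpoly_not_prime_field {M : Matrix (Fin 4) (Fin 4) F} (h : IrrMat.IrrData M 13) :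
    ¬ ∀ i : ℕ, (M.charpoly.coeff i) ^ 2 = M.charpoly.coeff i := by
  intro hco
  have : Fact (Nat.Prime 2) := ⟨Nat.prime_two⟩
  have hchar : CharP F 2 := charP_of_card_eq_prime_pow hF
  set P := M.charpoly with hPdef
  have hmonic : P.Monic := Matrix.charpoly_monic M
  have hdeg : P.natDegree = 4 := by
    rw [hPdef, Matrix.charpoly_natDegree_eq_dim, Fintype.card_fin]
  have hroot : Polynomial.aeval M P = 0 := Matrix.aeval_self_charpoly M
  have hrootj : ∀ j : ℕ, Polynomial.aeval (M ^ (2 ^ j)) P = 0 :=
    fun j => s64_k13_root_pow P hco M hroot j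
  have hmem : ∀ k : ℕ, M ^ k ∈ IrrMat.Cent M := fun k =>
    IrrMat.mem_Cent.2 (by rw [← pow_succ', ← pow_succ])
  let m : ℕ → IrrMat.Cent M := fun j => ⟨M ^ (2 ^ j), hmem _⟩
  have hmroot : ∀ j : ℕ, Polynomial.aeval (m j) P = 0 := by
    intro j
    apply Subtype.ext
    have := Polynomial.aeval_algHom_apply (IrrMat.Cent M).val (m j) P
    exact this.symm.trans (hrootj j)
  -- the centralizer is a commutative domain
  have hfield := IrrMat.isField_Cent h
  have hnzd := IrrMat.noZeroDivisors h
  let cr : CommRing (IrrMat.Cent M) :=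
    { (IrrMat.Cent M).toRing with mul_comm := hfield.mul_comm }
  have hnt : Nontrivial (IrrMat.Cent M) := hfield.nontrivial
  have hdom : IsDomain (IrrMat.Cent M) := NoZeroDivisors.to_isDomain _
  refine s64_k13_five_roots (P.map (algebraMap F (IrrMat.Cent M))) ?_ ?_
    (fun j : Fin 5 => m j.1) ?_ ?_
  · exact (hmonic.map _).ne_zero
  · rw [hmonic.natDegree_map, hdeg]
  · intro a b hab
    have hab' : M ^ (2 ^ a.1) = M ^ (2 ^ b.1) := congrArg Subtype.val hab
    by_contra hne
    revert hab'
    apply s64_k13_pow_ne h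
    unfold Nat.ModEq
    fin_cases a <;> fin_cases b <;> first | exact absurd rfl hne | norm_num
  · intro j
    rw [Polynomial.IsRoot.def, Polynomial.eval_map_algebraMap]
    exact hmroot j.1

end Cfsg.Agent.Helper15.S64
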