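import Mathlib
import Cfsg.Prelude.Def_Involutions

set_option autoImplicit false

namespace Cfsg.Agent.Helper2

variable {G : Type*} [Group G]

theorem mem_conj_map_iff (H : Subgroup G) (g x : G) :
    x ∈ H.map (MulAut.conj g).toMonoidHom ↔ g⁻¹ * x * g ∈ H := by
  constructor
  · rintro ⟨y, hy, rfl⟩
    simp only [MulEquiv.coe_toMonoidHom, MulAut.conj_apply]
    have : g⁻¹ * (g * y * g⁻¹) * g = y := by group
    rw [this]; exact hy
  · intro h
    refine ⟨g⁻¹ * x * g, h, ?_⟩
    simp only [MulEquiv.coe_toMonoidHom, MulAut.conj_apply]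
    group

theorem odd_card_iff_no_involution [Finite G] (K : Subgroup G) :
    Odd (Nat.card K) ↔ ∀ s ∈ K, orderOf s ≠ 2 := by
  haveI : Fact (Nat.Prime 2) := ⟨Nat.prime_two⟩
  constructor
  · intro hodd s hs h2
    have := Subgroup.orderOf_dvd_natCard K hs
    rw [h2] at this
    exact (Nat.not_even_iff_odd.mpr hodd) (even_iff_two_dvd.mpr this)
  · intro h
    by_contra hodd
    rw [Nat.not_odd_iff_even, even_iff_two_dvd] at hodd
    obtain ⟨s, hs⟩ := exists_prime_orderOf_dvd_card' 2 hodd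
    apply h s.1 s.2
    rw [← hs, Subgroup.orderOf_coe]

/-- reformulation of strong embedding in terms of involutions -/
theorem stronglyEmbedded_iff [Finite G] (H : Subgroup G) :
    Cfsg.IsStronglyEmbedded H ↔ H ≠ ⊤ ∧ Even (Nat.card H) ∧
      ∀ g : G, g ∉ H → ∀ s : G, orderOf s = 2 → s ∈ H → g⁻¹ * s * g ∉ H := by
  unfold Cfsg.IsStronglyEmbedded
  constructor
  · rintro ⟨h1, h2, h3⟩
    refine ⟨h1, h2, ?_⟩
    intro g hg s hs hsH hsg
    have := (odd_card_iff_no_involution _).mp (h3 g hg) s ⟨hsH, (mem_conj_map_iff H g s).mpr hsg⟩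
    exact this hs
  · rintro ⟨h1, h2, h3⟩
    refine ⟨h1, h2, ?_⟩
    intro g hg
    rw [odd_card_iff_no_involution]
    rintro s ⟨hsH, hsg⟩ hs
    exact h3 g hg s hs hsH ((mem_conj_map_iff H g s).mp hsg)

end Cfsg.Agent.Helper2
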