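import Mathlib

set_option autoImplicit false

namespace Cfsg.Agent.Helper2.P29

/-- the field with nine elements, `𝔽₃[i]` -/
structure F9 where
  re : Fin 3
  im : Fin 3
deriving DecidableEq, Fintype

namespace F9

instance instZeroF9 : Zero F9 := ⟨⟨0, 0⟩⟩
instance instOneF9 : One F9 := ⟨⟨1, 0⟩⟩
instance instAddF9 : Add F9 := ⟨fun x y => ⟨x.re + y.re, x.im + y.im⟩⟩
instance instNegF9 : Neg F9 := ⟨fun x => ⟨-x.re, -x.im⟩⟩
instance instMulF9 : Mul F9 := ⟨fun x y => ⟨x.re * y.re - x.im * y.im, x.re * y.im + x.im * y.re⟩⟩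
/-- inverse: conj / norm, and norm is ±1 for nonzero elements, so `1/n = n` -/
instance instInvF9 : Inv F9 :=
  ⟨fun x => ⟨x.re * (x.re * x.re + x.im * x.im), -x.im * (x.re * x.re + x.im * x.im)⟩⟩

instance instFieldF9 : Field F9 where
  add := (· + ·)
  zero := 0
  neg := Neg.neg
  mul := (· * ·)
  one := 1
  inv := Inv.inv
  add_assoc := by decide
  zero_add := by decide
  add_zero := by decide
  add_comm := by decide
  neg_add_cancel := by decide
  mul_assoc := by decide
  one_mul := by decide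
  mul_one := by decide
  left_distrib := by decide
  right_distrib := by decide
  mul_comm := by decide
  zero_mul := by decide
  mul_zero := by decide
  exists_pair_ne := ⟨0, 1, by decide⟩
  mul_inv_cancel := by decide
  inv_zero := by decide
  nsmul := nsmulRec
  zsmul := zsmulRec
  nnqsmul := _
  qsmul := _

theorem card_F9 : Fintype.card F9 = 9 := by decide

end F9


open Matrix Equiv

abbrev SL29 := Matrix.SpecialLinearGroup (Fin 2) F9

def A1 : Perm (Fin 6) := c[0, 4, 2]
def A2 : Perm (Fin 6) := c[1, 5, 3]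
def Wp : Perm (Fin 6) := c[0, 2] * c[1, 4]
def Ha : Perm (Fin 6) := c[0, 2] * c[3, 5]
def Hb : Perm (Fin 6) := c[0, 5, 2, 3] * c[1, 4]
def Hc : Perm (Fin 6) := c[0, 3, 2, 5] * c[1, 4]

def Up (x : F9) : Perm (Fin 6) := A1 ^ x.re.val * A2 ^ x.im.val

def Hp (t : F9) : Perm (Fin 6) :=
  if t.re = 0 then Ha
  else if t.im = 0 then 1
  else if t.re = t.im then Hb else Hc

/-- the explicit map `SL₂(9) → S₆` given by a Bruhat normal form -/
def rhoFun (g : SL29) : Perm (Fin 6) :=
  if g.1 1 0 = 0 then Hp (g.1 0 0) * Up (g.1 0 1 * (g.1 0 0)⁻¹)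
  else Up (g.1 0 0 * (g.1 1 0)⁻¹) * Wp * Hp (g.1 1 0) * Up (g.1 1 1 * (g.1 1 0)⁻¹)

def U1 : SL29 := ⟨!![1, 1; 0, 1], by decide⟩
def U2 : SL29 := ⟨!![1, ⟨0, 1⟩; 0, 1], by decide⟩
def Wsl : SL29 := ⟨!![0, -1; 1, 0], by decide⟩

set_option maxRecDepth 100000 in
theorem rho_one : rhoFun 1 = 1 := by decide +kernel

set_option maxRecDepth 100000 in
theorem rho_mulU1 : ∀ g : SL29, rhoFun (g * U1) = rhoFun g * A1 := by decide +kernel

set_option maxRecDepth 100000 in
theorem rho_mulU2 : ∀ g : SL29, rhoFun (g * U2) = rhoFun g * A2 := by decide +kernel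

set_option maxRecDepth 100000 in
theorem rho_mulW : ∀ g : SL29, rhoFun (g * Wsl) = rhoFun g * Wp := by decide +kernel

set_option maxRecDepth 100000 in
theorem rho_ker : ∀ g : SL29,
    rhoFun g = 1 ↔ (g.1 0 1 = 0 ∧ g.1 1 0 = 0 ∧ g.1 0 0 = g.1 1 1) := by
  decide +kernel

set_option maxRecDepth 100000 in
theorem rho_U1 : rhoFun U1 = A1 := by decide +kernel

set_option maxRecDepth 100000 in
theorem rho_U2 : rhoFun U2 = A2 := by decide +kernel

set_option maxRecDepth 100000 in
theorem rho_W : rhoFun Wsl = Wp := by decide +kernel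

set_option maxRecDepth 100000 in
theorem U_pow_coe : ∀ b : F9, (U1 ^ b.re.val * U2 ^ b.im.val).1 = !![1, b; 0, 1] := by
  decide +kernel

theorem Wsl_coe_one_zero : Wsl.1 1 0 = 1 := by decide

end Cfsg.Agent.Helper2.P29
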