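import Mathlib
import Cfsg.Agent.Lib.Helper2.PSL29Data
import Cfsg.Agent.Lib.Helper2.SL2Sylow
import Cfsg.Agent.Lib.Helper2.CardSL

set_option autoImplicit false

namespace Cfsg.Agent.Helper2.P29

open Matrix Equiv

/-- the set of right multipliers along which `rhoFun` is multiplicative -/
def mulSet : Subgroup SL29 where
  carrier := {h | ∀ g, rhoFun (g * h) = rhoFun g * rhoFun h}
  one_mem' := by
    intro g
    rw [mul_one, rho_one, mul_one]
  mul_mem' := by
    intro a b ha hb g
    rw [← mul_assoc, hb, ha, hb a, mul_assoc]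
  inv_mem' := by
    intro a ha g
    have h1 : rhoFun a⁻¹ * rhoFun a = 1 := by
      rw [← ha, inv_mul_cancel, rho_one]
    have h2 : rhoFun a * rhoFun a⁻¹ = 1 := by
      rw [← inv_eq_of_mul_eq_one_left h1, mul_inv_cancel]
    have h3 : rhoFun (g * a⁻¹) * rhoFun a = rhoFun g := by
      rw [← ha, inv_mul_cancel_right]
    calc rhoFun (g * a⁻¹) = rhoFun (g * a⁻¹) * (rhoFun a * rhoFun a⁻¹) := by rw [h2, mul_one]
      _ = rhoFun g * rhoFun a⁻¹ := by rw [← mul_assoc, h3]

theorem U1_mem : U1 ∈ mulSet := fun g => by rw [rho_mulU1, rho_U1]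

theorem U2_mem : U2 ∈ mulSet := fun g => by rw [rho_mulU2, rho_U2]

theorem Wsl_mem : Wsl ∈ mulSet := fun g => by rw [rho_mulW, rho_W]

theorem u_eq (b : F9) : SL2S.u b = U1 ^ b.re.val * U2 ^ b.im.val := by
  apply Subtype.ext
  rw [SL2S.u_coe, U_pow_coe]

theorem u_mem (b : F9) : SL2S.u b ∈ mulSet := by
  rw [u_eq]
  exact mulSet.mul_mem (mulSet.pow_mem U1_mem _) (mulSet.pow_mem U2_mem _)

theorem mulSet_eq_top : mulSet = ⊤ := by
  refine SL2S.closure_eq_top mulSet Wsl ?_ ?_ ?_
  · rw [Wsl_coe_one_zero]; exact one_ne_zero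
  · exact u_mem
  · intro b
    exact mulSet.mul_mem (mulSet.mul_mem Wsl_mem (u_mem b)) (mulSet.inv_mem Wsl_mem)

theorem rho_mul (g h : SL29) : rhoFun (g * h) = rhoFun g * rhoFun h := by
  have : h ∈ mulSet := by rw [mulSet_eq_top]; trivial
  exact this g

/-- the homomorphism `SL₂(9) → S₆` -/
def rho : SL29 →* Perm (Fin 6) where
  toFun g := rhoFun g
  map_one' := rho_one
  map_mul' g h := rho_mul g h

theorem rho_eq_one_iff (g : SL29) : rho g = 1 ↔ g ∈ Subgroup.center SL29 := by
  change rhoFun g = 1 ↔ _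
  rw [rho_ker, Matrix.SpecialLinearGroup.mem_center_iff]
  constructor
  · rintro ⟨h01, h10, h00⟩
    have hdet : g.1 0 0 * g.1 1 1 - g.1 0 1 * g.1 1 0 = 1 := by
      have := g.2
      rwa [Matrix.det_fin_two] at this
    refine ⟨g.1 0 0, ?_, ?_⟩
    · rw [Fintype.card_fin, pow_two]
      rw [h01, ← h00] at hdet
      simpa using hdet
    · ext i j
      fin_cases i <;> fin_cases j <;> simp [h01, h10, h00]
  · rintro ⟨r, -, hr⟩
    have : ∀ i j, (Matrix.scalar (Fin 2) r) i j = g.1 i j := fun i j => by rw [hr]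
    refine ⟨?_, ?_, ?_⟩
    · rw [← this]; simp
    · rw [← this]; simp
    · rw [← this, ← this]; simp

theorem card_PSL29 : Nat.card (ProjectiveSpecialLinearGroup (Fin 2) F9) = 360 := by
  have h := card_PSL_mul (F := F9) 2 (by norm_num)
  rw [F9.card_F9, Fin.prod_univ_two] at h
  norm_num at h
  rw [Nat.card_eq_fintype_card]
  omega

/-- the induced homomorphism `PSL₂(9) → S₆` -/
noncomputable def rhoBar : ProjectiveSpecialLinearGroup (Fin 2) F9 →* Perm (Fin 6) :=
  QuotientGroup.lift (Subgroup.center SL29) rho (by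
    intro g hg
    rw [MonoidHom.mem_ker]
    exact (rho_eq_one_iff g).mpr hg)

theorem rhoBar_injective : Function.Injective rhoBar := by
  rw [injective_iff_map_eq_one]
  intro x hx
  induction x using QuotientGroup.induction_on with
  | H g =>
    have hx' : rho g = 1 := hx
    rw [rho_eq_one_iff] at hx'
    exact (QuotientGroup.eq_one_iff g).mpr hx'

end Cfsg.Agent.Helper2.P29
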