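import Mathlib
import Cfsg.Prelude.Def_Blocks
import Cfsg.Agent.Lib.Helper24.CharLinear
import Cfsg.Agent.Lib.Helper24.CharComplete
import Cfsg.Agent.Lib.Helper16.ITODefs

/-!
# S4707 piece LAM2, core: `Λ²ζ = ∑_{η ∈ Y, η ≠ ζ'} η` and the functional equation,
with LAM2NAT and GALY as hypotheses
-/

set_option autoImplicit false
set_option linter.unusedSectionVars false
set_option linter.unusedVariables false
set_option linter.style.haveILetI false

namespace Cfsg.Agent.Helper16.ITO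

open scoped ComplexConjugate
open Cfsg Cfsg.Agent.Helper24

universe u

namespace LAM2

variable {G : Type u} [Group G] [Fintype G]

/-- `lam2 ζ` is a class function -/
theorem lam2_isClassFunction {ζ : G → ℂ} (hζ : IsClassFunction G ζ) :
    IsClassFunction G (lam2 ζ) := by
  intro g h
  have e : h * g * h⁻¹ * (h * g * h⁻¹) = h * (g * g) * h⁻¹ := by group
  simp only [lam2]
  rw [e, hζ g h, hζ (g * g) h]

variable {p : ℕ} [Fact p.Prime] {P : Subgroup G}

/-- The core of LAM2: natural multiplicities + a member `ζ'` of `Y` with `ζ'(a) = ζ(a²)` on `P`. -/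
theorem core (D : B0Data p P) (hp : 3 < p) {ζ : IrrCharacter G} (hζ : ζ ∈ D.Y)
    (hnat : ∀ χ : IrrCharacter G, ∃ s : ℕ, classInner (lam2 (ζ : G → ℂ)) (χ : G → ℂ) = (s : ℂ))
    (ζ' : IrrCharacter G) (hζ' : ζ' ∈ D.Y)
    (hsq : ∀ a ∈ P, (ζ' : G → ℂ) a = (ζ : G → ℂ) (a * a))
    {g : G} (hg : ¬ p ∣ orderOf g) :
    (ζ : G → ℂ) (g * g) = (ζ : G → ℂ) g ^ 2 - ((p : ℂ) - 3) * (ζ : G → ℂ) g := by
  classical
  letI : Fintype (IrrCharacter G) := irrFintype
  choose s hs using hnat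
  have hcf : IsClassFunction G (lam2 (ζ : G → ℂ)) :=
    lam2_isClassFunction (isClassFunction_of_isIrrCharacter ζ.2)
  -- expansion
  have hexp : ∀ x : G, lam2 (ζ : G → ℂ) x = ∑ χ : IrrCharacter G, (s χ : ℂ) * (χ : G → ℂ) x := by
    intro x
    have := congrFun (classFunction_expansion hcf) x
    rw [this]
    simp only [Finset.sum_apply, Pi.smul_apply, smul_eq_mul]
    exact Finset.sum_congr rfl fun χ _ => by rw [hs χ]
  -- split the sum into `Y` and the rest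
  have hsplit : ∀ x : G, ∑ χ : IrrCharacter G, (s χ : ℂ) * (χ : G → ℂ) x =
      ∑ χ ∈ D.Y, (s χ : ℂ) * (χ : G → ℂ) x + ∑ χ ∈ D.Yᶜ, (s χ : ℂ) * (χ : G → ℂ) x := by
    intro x
    rw [← Finset.sum_add_sum_compl D.Y]
  -- the rest is constant on `P ∖ 1`
  have hrest : ∀ a ∈ P, a ≠ 1 → ∑ χ ∈ D.Yᶜ, (s χ : ℂ) * (χ : G → ℂ) a =
      (s (principalChar G) : ℂ) - (s D.χa : ℂ) := by
    intro a ha ha1
    rw [Finset.sum_eq_add (principalChar G) D.χa D.χa_ne_one.symm]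
    · rw [D.valχa a ha ha1]
      have : ((principalChar G : IrrCharacter G) : G → ℂ) a = 1 := rfl
      rw [this]; ring
    · intro χ hχ hne
      rw [Finset.mem_compl] at hχ
      rw [D.valD χ hne.1 hne.2 hχ a ha ha1, mul_zero]
    · intro h; exact absurd (Finset.mem_compl.2 D.one_notMem) h
    · intro h; exact absurd (Finset.mem_compl.2 D.χa_notMem) h
  -- the value of `lam2 ζ` on `P ∖ 1`
  have hval : ∀ a ∈ P, a ≠ 1 → lam2 (ζ : G → ℂ) a = 1 - (ζ' : G → ℂ) a := by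
    intro a ha ha1
    simp only [lam2]
    rw [D.sq_rel ζ hζ a ha ha1, hsq a ha]
    ring
  -- apply `indep`
  set K : ℂ := (s (principalChar G) : ℂ) - (s D.χa : ℂ) with hK
  have hind : ∀ η ∈ D.Y, ((s η : ℂ) + if η = ζ' then 1 else 0) = 1 - K := by
    apply D.indep (fun η => (s η : ℂ) + if η = ζ' then 1 else 0) (1 - K)
    intro a ha ha1
    have h1 := hexp a
    rw [hsplit a, hrest a ha ha1, hval a ha ha1] at h1
    have h2 : ∑ η ∈ D.Y, ((s η : ℂ) + if η = ζ' then 1 else 0) * (η : G → ℂ) a =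
        ∑ η ∈ D.Y, (s η : ℂ) * (η : G → ℂ) a + (ζ' : G → ℂ) a := by
      simp only [add_mul, Finset.sum_add_distrib]
      congr 1
      rw [Finset.sum_eq_single_of_mem ζ' hζ']
      · simp
      · intro b _ hb; simp [hb]
    rw [h2]
    linear_combination -h1
  -- the constant is the natural number `c = s ζ' + 1`
  have hc : (1 : ℂ) - K = ((s ζ' + 1 : ℕ) : ℂ) := by
    rw [← hind ζ' hζ', if_pos rfl]; push_cast; ring
  have hsη : ∀ η ∈ D.Y, s η + (if η = ζ' then 1 else 0) = s ζ' + 1 := by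
    intro η hη
    have := hind η hη
    rw [hc] at this
    have h3 : (((s η + (if η = ζ' then 1 else 0) : ℕ)) : ℂ) = ((s ζ' + 1 : ℕ) : ℂ) := by
      rw [← this]; push_cast; split_ifs <;> simp
    exact_mod_cast h3
  -- degrees
  have hdeg : ∀ χ : IrrCharacter G, (χ : G → ℂ) 1 = (charDegree (χ : G → ℂ) : ℂ) :=
    fun χ => irr_one_eq_charDegree χ.2
  have hdegY : ∀ η ∈ D.Y, charDegree (η : G → ℂ) = p - 2 := by
    intro η hη
    have h1 := D.degY η hη
    rw [hdeg η] at h1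
    have h2 : ((charDegree (η : G → ℂ) : ℕ) : ℂ) = ((p - 2 : ℕ) : ℂ) := by
      rw [h1, Nat.cast_sub (by omega)]; norm_num
    exact_mod_cast h2
  have hone : lam2 (ζ : G → ℂ) 1 = ((p : ℂ) - 2) * ((p : ℂ) - 3) / 2 := by
    simp only [lam2, mul_one]
    rw [D.degY ζ hζ]; ring
  -- `2 * ∑ s χ deg χ = (p-2)(p-3)` in ℕ
  have hT : 2 * ∑ χ : IrrCharacter G, s χ * charDegree (χ : G → ℂ) = (p - 2) * (p - 3) := by
    have h1 := hexp 1
    rw [hone] at h1
    have h2 : ((2 * ∑ χ : IrrCharacter G, s χ * charDegree (χ : G → ℂ) : ℕ) : ℂ) =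
        (((p - 2) * (p - 3) : ℕ) : ℂ) := by
      push_cast
      rw [Nat.cast_sub (by omega), Nat.cast_sub (by omega)]
      have h3 : ∑ χ : IrrCharacter G, (s χ : ℂ) * (charDegree (χ : G → ℂ) : ℂ) =
          ∑ χ : IrrCharacter G, (s χ : ℂ) * (χ : G → ℂ) 1 :=
        Finset.sum_congr rfl fun χ _ => by rw [hdeg χ]
      rw [h3, ← h1]; push_cast; ring
    exact_mod_cast h2
  have hTsplit : ∑ χ : IrrCharacter G, s χ * charDegree (χ : G → ℂ) =
      (∑ χ ∈ D.Y, s χ) * (p - 2) + ∑ χ ∈ D.Yᶜ, s χ * charDegree (χ : G → ℂ) := by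
    rw [← Finset.sum_add_sum_compl D.Y, Finset.sum_mul]
    congr 1
    exact Finset.sum_congr rfl fun χ hχ => by rw [hdegY χ hχ]
  -- `∑_Y s η + 1 = c t`
  have hsumY : ∑ η ∈ D.Y, s η + 1 = (s ζ' + 1) * D.Y.card := by
    have h1 : ∑ η ∈ D.Y, (s η + (if η = ζ' then 1 else 0)) = ∑ η ∈ D.Y, (s ζ' + 1) :=
      Finset.sum_congr rfl hsη
    rw [Finset.sum_add_distrib, Finset.sum_const, smul_eq_mul] at h1
    have h2 : ∑ η ∈ D.Y, (if η = ζ' then 1 else 0) = 1 := by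
      rw [Finset.sum_eq_single_of_mem ζ' hζ']
      · simp
      · intro b _ hb; simp [hb]
    rw [h2] at h1
    rw [h1]; ring
  have hcard := D.cardY
  -- `c = 1`
  have hc1 : s ζ' = 0 := by
    by_contra hne
    have h2 : 2 ≤ s ζ' + 1 := by omega
    -- `∑_Y s + 1 ≥ 2 t`
    have h3 : 2 * D.Y.card ≤ ∑ η ∈ D.Y, s η + 1 := by
      rw [hsumY]; exact Nat.mul_le_mul_right _ h2
    have h4 : (p - 2) * (p - 3) ≥ 2 * ((∑ χ ∈ D.Y, s χ) * (p - 2)) := by
      rw [← hT, hTsplit]; omega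
    -- `∑_Y s ≥ p - 2`
    have h5 : p - 2 ≤ ∑ η ∈ D.Y, s η := by omega
    have h6 : (p - 2) * (p - 2) ≤ (∑ χ ∈ D.Y, s χ) * (p - 2) := Nat.mul_le_mul_right _ h5
    have h7 : (p - 2) * (p - 3) < 2 * ((p - 2) * (p - 2)) := by
      have : p - 3 < 2 * (p - 2) := by omega
      calc (p - 2) * (p - 3) < (p - 2) * (2 * (p - 2)) :=
            Nat.mul_lt_mul_of_pos_left this (by omega)
        _ = 2 * ((p - 2) * (p - 2)) := by ring
    omega
  have hsY : ∀ η ∈ D.Y, s η = if η = ζ' then 0 else 1 := by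
    intro η hη
    have := hsη η hη
    rw [hc1] at this
    split_ifs at this ⊢ <;> omega
  have hsumY' : ∑ η ∈ D.Y, s η + 1 = D.Y.card := by rw [hsumY, hc1]; ring
  have hrest0 : ∑ χ ∈ D.Yᶜ, s χ * charDegree (χ : G → ℂ) = 0 := by
    have h1 : 2 * ((∑ χ ∈ D.Y, s χ) * (p - 2)) = (p - 2) * (p - 3) := by
      have : 2 * ∑ χ ∈ D.Y, s χ = p - 3 := by omega
      calc 2 * ((∑ χ ∈ D.Y, s χ) * (p - 2)) = (2 * ∑ χ ∈ D.Y, s χ) * (p - 2) := by ring
        _ = (p - 3) * (p - 2) := by rw [this]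
        _ = _ := by ring
    have h2 := hT
    rw [hTsplit] at h2
    omega
  have hs0 : ∀ χ ∈ D.Yᶜ, s χ = 0 := by
    intro χ hχ
    have := (Finset.sum_eq_zero_iff.1 hrest0) χ hχ
    rcases Nat.mul_eq_zero.1 this with h | h
    · exact h
    · exact absurd h (charDegree_pos χ.2).ne'
  -- evaluate at the `p`-regular element `g`
  have h1 := hexp g
  rw [hsplit g] at h1
  have h2 : ∑ χ ∈ D.Yᶜ, (s χ : ℂ) * (χ : G → ℂ) g = 0 :=
    Finset.sum_eq_zero fun χ hχ => by rw [hs0 χ hχ]; simp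
  have h3 : ∑ χ ∈ D.Y, (s χ : ℂ) * (χ : G → ℂ) g =
      ((∑ χ ∈ D.Y, s χ : ℕ) : ℂ) * (ζ : G → ℂ) g := by
    push_cast
    rw [Finset.sum_mul]
    exact Finset.sum_congr rfl fun χ hχ => by rw [D.regY χ hχ ζ hζ g hg]
  rw [h2, h3, add_zero] at h1
  have h4 : ((2 * ∑ χ ∈ D.Y, s χ : ℕ) : ℂ) = (p : ℂ) - 3 := by
    have : 2 * ∑ χ ∈ D.Y, s χ = p - 3 := by omega
    rw [this, Nat.cast_sub (by omega)]; norm_num
  simp only [lam2] at h1
  push_cast at h1 h4
  linear_combination (-2 : ℂ) * h1 - (ζ : G → ℂ) g * h4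

end LAM2

end Cfsg.Agent.Helper16.ITO
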