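import Mathlib
import Cfsg.Prelude.Def_Blocks
import Cfsg.Agent.Lib.Helper24.CharLinear
import Cfsg.Agent.Lib.Helper24.CharComplete
import Cfsg.Agent.Lib.Helper18.GaloisConj
import Cfsg.Agent.Lib.Helper16.ITODefs
import Cfsg.Agent.Lib.Helper2.ITOLAM2Core
import Cfsg.Agent.Lib.Helper24.ITOLAM2NAT
import Cfsg.Agent.Lib.Helper12.ITOGALY

/-!
# S4707 piece LAM2: the functional equation `ζ(g²) = ζ(g)² - (p-3) ζ(g)` on `p`-regular elements
-/

set_option autoImplicit false
set_option linter.unusedSectionVars false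
set_option linter.unusedVariables false
set_option linter.style.haveILetI false

namespace Cfsg.Agent.Helper16.ITO

open scoped ComplexConjugate
open Cfsg Cfsg.Agent.Helper24

universe u

namespace LAM2

/-- a multiplier `k ≡ 2 (mod p)` prime to `n`, when `p ∥ n` and `p` is odd -/
theorem exists_mult {p n : ℕ} (hp : p.Prime) (hp2 : p ≠ 2) (hn : p ∣ n) (hn2 : ¬ p ^ 2 ∣ n) :
    ∃ k : ℕ, Nat.Coprime n k ∧ k % p = 2 := by
  obtain ⟨m, rfl⟩ := hn
  have hpm : ¬ p ∣ m := fun h => hn2 (by rw [sq]; exact Nat.mul_dvd_mul_left p h)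
  have hcop : Nat.Coprime p m := (Nat.Prime.coprime_iff_not_dvd hp).2 hpm
  obtain ⟨k, hk1, hk2⟩ := Nat.chineseRemainder hcop 2 1
  refine ⟨k, ?_, ?_⟩
  · apply Nat.Coprime.mul_left
    · -- gcd (p, k) = gcd (p, 2) = 1
      have h1 : Nat.gcd k p = Nat.gcd 2 p := Nat.ModEq.gcd_eq hk1
      have h2 : Nat.gcd 2 p = 1 := by
        have : Nat.Coprime 2 p := (Nat.coprime_primes Nat.prime_two hp).2 (Ne.symm hp2)
        exact this
      rw [Nat.coprime_comm]
      exact h1.trans h2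
    · have h1 : Nat.gcd k m = Nat.gcd 1 m := Nat.ModEq.gcd_eq hk2
      rw [Nat.coprime_comm]
      exact h1.trans (Nat.gcd_one_left m)
  · have h2 : 2 < p := lt_of_le_of_ne hp.two_le (Ne.symm hp2)
    rw [hk1, Nat.mod_eq_of_lt h2]

end LAM2

section Chars

variable {G : Type u} [Group G] [Fintype G]
variable (p : ℕ) [Fact p.Prime] (P : Subgroup G)
variable {p} {P}

/-- PIECE LAM2 (the key step). -/
theorem func_eq (D : B0Data p P) (hp : 3 < p) (hcard : Nat.card P = p)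
    (hG : ¬ p ^ 2 ∣ Nat.card G) {ζ : IrrCharacter G} (hζ : ζ ∈ D.Y) {g : G}
    (hg : ¬ p ∣ orderOf g) :
    (ζ : G → ℂ) (g * g) = (ζ : G → ℂ) g ^ 2 - ((p : ℂ) - 3) * (ζ : G → ℂ) g := by
  have hpp : p.Prime := Fact.out
  have hpG : p ∣ Nat.card G := by
    rw [← hcard]; exact Subgroup.card_subgroup_dvd_card P
  obtain ⟨k, hk, hk2⟩ := LAM2.exists_mult hpp (by omega) hpG hG
  have hpow : ∀ a ∈ P, a ^ k = a * a := by
    intro a ha
    have hap : a ^ p = 1 := by
      have h1 : (⟨a, ha⟩ : P) ^ Nat.card P = 1 := pow_card_eq_one'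
      rw [hcard] at h1
      exact congrArg Subtype.val h1
    rw [← Nat.div_add_mod k p, hk2, pow_add, pow_mul, hap, one_pow, one_mul, pow_two]
  exact LAM2.core D hp hζ
    (fun χ => lam2_inner_nat (isCharacter_of_isIrrCharacter ζ.2) χ.2)
    ⟨fun g => (ζ : G → ℂ) (g ^ k), Cfsg.Agent.Helper18.isIrrCharacter_comp_pow ζ.2 hk⟩
    (galois_mem D hp hcard hk hζ)
    (fun a ha => by show (ζ : G → ℂ) (a ^ k) = _; rw [hpow a ha]) hg

end Chars

end Cfsg.Agent.Helper16.ITO
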