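import Mathlib
import Cfsg.Agent.Lib.Helper22.W2PDefs
import Cfsg.Agent.Lib.Helper20.W2PKER
import Cfsg.Agent.Lib.Helper23.W2PKSUM
import Cfsg.Agent.Lib.Helper23.W2PKTRACE
import Cfsg.Agent.Lib.Helper24.W2PMULT
import Cfsg.Agent.Lib.Helper3.W2PEIGEN
import Cfsg.Agent.Lib.Helper24.CharComplete

/-!
# S0720, PIECE FIXV: the `±1`-vector of the two orbits of a conjugate of `π` lies in the
`χ₁`-component (helper2)
-/

set_option autoImplicit false
set_option linter.unusedSectionVars false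
set_option linter.unusedVariables false
set_option linter.style.haveILetI false

namespace Cfsg.Agent.Helper22.W2P

open Cfsg Cfsg.Agent.Helper22.PermCent

open scoped ComplexConjugate

universe u v

variable {G : Type u} [Group G] [Fintype G] {Ω : Type v} [Fintype Ω] [DecidableEq Ω]
  [MulAction G Ω]

namespace FIXV

/-- shift invariance of a sum over a full period -/
theorem sum_shift (u : ℕ → ℂ) (f : ℕ) (hper : ∀ j, u (j + f) = u j) (c : ℕ) :
    ∑ j ∈ Finset.range f, u (j + c) = ∑ j ∈ Finset.range f, u j := by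
  induction c with
  | zero => simp
  | succ c ih =>
    have h1 : ∑ j ∈ Finset.range f, u (j + (c + 1)) = ∑ j ∈ Finset.range f, u ((j + 1) + c) := by
      apply Finset.sum_congr rfl
      intro j _
      congr 1
      omega
    have h2 := Finset.sum_range_succ' (fun j => u (j + c)) f
    have h3 := Finset.sum_range_succ (fun j => u (j + c)) f
    have h4 : u (f + c) = u (0 + c) := by
      rw [add_comm f c, hper, zero_add]
    rw [h1]
    rw [h3] at h2
    rw [h4] at h2
    rw [← ih]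
    exact (add_right_cancel h2).symm

/-- an idempotent complex matrix of trace zero vanishes -/
theorem matrix_eq_zero {ι : Type*} [Fintype ι] [DecidableEq ι] (M : Matrix ι ι ℂ)
    (h1 : M * M = M) (h2 : M.trace = 0) : M = 0 := by
  have he : IsIdempotentElem (Matrix.toLin' M) := by
    unfold IsIdempotentElem
    rw [Module.End.mul_eq_comp, ← Matrix.toLin'_mul, h1]
  have h3 := LinearMap.IsIdempotentElem.eq_zero_of_trace_eq_zero he
    (by rw [Matrix.trace_toLin'_eq]; exact h2)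
  have h4 : Matrix.toLin' M = Matrix.toLin' (0 : Matrix ι ι ℂ) := by rw [h3, map_zero]
  exact Matrix.toLin'.injective h4

open scoped Classical in
/-- the `±1`-vector of the two orbits of `τ` -/
noncomputable def wv (τ : G) (a₀ : Ω) : Ω → ℂ :=
  fun y => if ∃ s : ℕ, τ ^ s • a₀ = y then (1 : ℂ) else -1

theorem wv_smul {p : ℕ} (hp : 0 < p) (τ : G) (hτ : τ ^ p = 1) (a₀ : Ω) (k : ℕ) (y : Ω) :
    wv τ a₀ (τ ^ k • y) = wv τ a₀ y := by
  have hiff : (∃ s : ℕ, τ ^ s • a₀ = τ ^ k • y) ↔ (∃ s : ℕ, τ ^ s • a₀ = y) := by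
    constructor
    · rintro ⟨s, hs⟩
      refine ⟨k * (p - 1) + s, ?_⟩
      rw [pow_add, mul_smul, hs, ← mul_smul, ← pow_add]
      have : k * (p - 1) + k = p * k := by
        have : p - 1 + 1 = p := Nat.sub_add_cancel hp
        calc k * (p - 1) + k = k * (p - 1 + 1) := by ring
          _ = p * k := by rw [this, mul_comm]
      rw [this, pow_mul, hτ, one_pow, one_smul]
    · rintro ⟨s, hs⟩
      exact ⟨k + s, by rw [pow_add, mul_smul, hs]⟩
  unfold wv
  by_cases h : ∃ s : ℕ, τ ^ s • a₀ = y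
  · rw [if_pos h, if_pos (hiff.mpr h)]
  · rw [if_neg h, if_neg (fun h' => h (hiff.mp h'))]

/-- reindexing a sum over `Ω` by a group element -/
theorem sum_smul (h : G) (f : Ω → ℂ) : ∑ y, f (h • y) = ∑ y, f y :=
  Equiv.sum_comp (MulAction.toPerm h) f

/-- KEY: the isotypic projection of `wv` for a constituent of multiplicity one whose values sum to
zero over `⟨τ⟩` vanishes. -/
theorem key_zero {p : ℕ} (hp0 : 0 < p) {φ : G → ℂ} (hφ : IsIrrCharacter G φ)
    (h1 : classInner (theta G Ω) φ = 1) (τ : G) (hτ : τ ^ p = 1)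
    (hsum : ∑ k ∈ Finset.range p, φ (τ ^ k) = 0) (a₀ x : Ω) :
    ∑ y, K φ x y * wv τ a₀ y = 0 := by
  have hcf : IsClassFunction G φ := Cfsg.Agent.Helper24.isClassFunction_of_isIrrCharacter hφ
  have hpc : (p : ℂ) ≠ 0 := by exact_mod_cast hp0.ne'
  -- the matrix of `p • E_φ P_τ`
  set B : Ω → Ω → ℂ := fun x y => ∑ k ∈ Finset.range p, K φ x (τ ^ k • y) with hB
  -- shift invariance
  have hshift : ∀ (x y : Ω) (k : ℕ), ∑ l ∈ Finset.range p, K φ x (τ ^ (k + l) • y) =
      ∑ l ∈ Finset.range p, K φ x (τ ^ l • y) := by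
    intro x y k
    have := sum_shift (fun l => K φ x (τ ^ l • y)) p (fun j => by
      show K φ x (τ ^ (j + p) • y) = K φ x (τ ^ j • y)
      rw [pow_add, hτ, mul_one]) k
    rw [← this]
    apply Finset.sum_congr rfl
    intro l _
    show K φ x (τ ^ (k + l) • y) = K φ x (τ ^ (l + k) • y)
    rw [add_comm]
  have hBB : ∀ x y, ∑ z, B x z * B z y = (p : ℂ) * B x y := by
    intro x y
    have h2 : ∀ z, B x z * B z y = ∑ k ∈ Finset.range p, ∑ l ∈ Finset.range p,
          K φ x (τ ^ k • z) * K φ (τ ^ k • z) (τ ^ (k + l) • y) := by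
      intro z
      simp only [hB]
      rw [Finset.sum_mul_sum]
      apply Finset.sum_congr rfl
      intro k _
      apply Finset.sum_congr rfl
      intro l _
      rw [pow_add, mul_smul, K_smul hcf]
    calc ∑ z, B x z * B z y
        = ∑ z, ∑ k ∈ Finset.range p, ∑ l ∈ Finset.range p,
          K φ x (τ ^ k • z) * K φ (τ ^ k • z) (τ ^ (k + l) • y) :=
          Finset.sum_congr rfl (fun z _ => h2 z)
      _ = ∑ k ∈ Finset.range p, ∑ l ∈ Finset.range p,
          ∑ z, K φ x (τ ^ k • z) * K φ (τ ^ k • z) (τ ^ (k + l) • y) := by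
          rw [Finset.sum_comm]
          apply Finset.sum_congr rfl
          intro k _
          rw [Finset.sum_comm]
      _ = ∑ k ∈ Finset.range p, ∑ l ∈ Finset.range p, K φ x (τ ^ (k + l) • y) := by
          apply Finset.sum_congr rfl
          intro k _
          apply Finset.sum_congr rfl
          intro l _
          rw [sum_smul (τ ^ k) (fun z => K φ x z * K φ z (τ ^ (k + l) • y)), K_mul hφ hφ,
            if_pos rfl]
      _ = ∑ k ∈ Finset.range p, ∑ l ∈ Finset.range p, K φ x (τ ^ l • y) := by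
          apply Finset.sum_congr rfl
          intro k _
          exact hshift x y k
      _ = (p : ℂ) * B x y := by
          rw [Finset.sum_const, Finset.card_range, nsmul_eq_mul]
  -- idempotent
  have hidem : Matrix.of (fun x y => (p : ℂ)⁻¹ * B x y) * Matrix.of (fun x y => (p : ℂ)⁻¹ * B x y)
      = Matrix.of (fun x y => (p : ℂ)⁻¹ * B x y) := by
    ext x y
    rw [Matrix.mul_apply]
    simp only [Matrix.of_apply]
    have : ∀ z, (p : ℂ)⁻¹ * B x z * ((p : ℂ)⁻¹ * B z y) =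
        (p : ℂ)⁻¹ * (p : ℂ)⁻¹ * (B x z * B z y) := fun z => by ring
    rw [Finset.sum_congr rfl (fun z _ => this z), ← Finset.mul_sum, hBB]
    field_simp
  -- trace zero
  have htr : (Matrix.of (fun x y => (p : ℂ)⁻¹ * B x y)).trace = 0 := by
    rw [Matrix.trace]
    simp only [Matrix.diag_apply, Matrix.of_apply, hB]
    rw [← Finset.mul_sum, Finset.sum_comm]
    have : ∀ k ∈ Finset.range p, ∑ x, K φ x (τ ^ k • x) = φ (τ ^ k) :=
      fun k _ => K_trace hφ h1 (τ ^ k)
    rw [Finset.sum_congr rfl this, hsum, mul_zero]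
  have hzero := matrix_eq_zero _ hidem htr
  have hBz : ∀ x y, B x y = 0 := by
    intro x y
    have h3 : (p : ℂ)⁻¹ * B x y = 0 := by
      have := congrFun (congrFun hzero x) y
      simpa using this
    rcases mul_eq_zero.mp h3 with h | h
    · exact absurd (inv_eq_zero.mp h) hpc
    · exact h
  -- `p • E_φ w = (p • E_φ P_τ) w`
  have hfin : (p : ℂ) * ∑ y, K φ x y * wv τ a₀ y = ∑ y, B x y * wv τ a₀ y := by
    symm
    simp only [hB]
    calc ∑ y, (∑ k ∈ Finset.range p, K φ x (τ ^ k • y)) * wv τ a₀ y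
        = ∑ k ∈ Finset.range p, ∑ y, K φ x (τ ^ k • y) * wv τ a₀ (τ ^ k • y) := by
          rw [Finset.sum_comm]
          apply Finset.sum_congr rfl
          intro y _
          rw [Finset.sum_mul]
          apply Finset.sum_congr rfl
          intro k _
          rw [wv_smul hp0 τ hτ]
      _ = ∑ k ∈ Finset.range p, ∑ y, K φ x y * wv τ a₀ y := by
          apply Finset.sum_congr rfl
          intro k _
          exact sum_smul (τ ^ k) (fun y => K φ x y * wv τ a₀ y)
      _ = (p : ℂ) * ∑ y, K φ x y * wv τ a₀ y := by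
          rw [Finset.sum_const, Finset.card_range, nsmul_eq_mul]
  have h5 : (p : ℂ) * ∑ y, K φ x y * wv τ a₀ y = 0 := by
    rw [hfin]
    apply Finset.sum_eq_zero
    intro y _
    rw [hBz, zero_mul]
  rcases mul_eq_zero.mp h5 with h | h
  · exact absurd h hpc
  · exact h

/-- a fixed point free element of prime order: its nontrivial powers are fixed point free -/
theorem pow_smul_ne {p : ℕ} [Fact p.Prime] (τ : G) (hord : orderOf τ = p)
    (hfpf : ∀ x : Ω, τ • x ≠ x) (d : ℕ) (hd0 : 0 < d) (hdp : d < p) (a : Ω) : τ ^ d • a ≠ a := by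
  have hpp : p.Prime := Fact.out
  intro h
  have hcop : d.Coprime (orderOf τ) := by
    rw [hord]
    exact ((Nat.Prime.coprime_iff_not_dvd hpp).2 (Nat.not_dvd_of_pos_of_lt hd0 hdp)).symm
  obtain ⟨m, hm⟩ := exists_pow_eq_self_of_coprime hcop
  have h2 : ∀ m : ℕ, (τ ^ d) ^ m • a = a := by
    intro m
    induction m with
    | zero => simp
    | succ m ih => rw [pow_succ, mul_smul, h, ih]
  have h3 := h2 m
  rw [hm] at h3
  exact hfpf a h3

/-- `s ↦ τ ^ s • a₀` is injective on `range p` -/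
theorem pow_smul_injOn {p : ℕ} [Fact p.Prime] (τ : G) (hord : orderOf τ = p)
    (hfpf : ∀ x : Ω, τ • x ≠ x) (a₀ : Ω) :
    Set.InjOn (fun s : ℕ => τ ^ s • a₀) (Finset.range p : Set ℕ) := by
  have key : ∀ s s' : ℕ, s < s' → s' < p → τ ^ s • a₀ ≠ τ ^ s' • a₀ := by
    intro s s' hss' hs'p h
    have h1 : s' = s + (s' - s) := by omega
    rw [h1, pow_add, mul_smul] at h
    have h2 : τ ^ (s' - s) • a₀ = a₀ := by
      have := congrArg (fun z => (τ ^ s)⁻¹ • z) h
      simpa using this.symm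
    exact pow_smul_ne τ hord hfpf (s' - s) (by omega) (by omega) a₀ h2
  intro s hs s' hs' h
  simp only [Finset.coe_range, Set.mem_Iio] at hs hs'
  rcases lt_trichotomy s s' with hlt | heq | hgt
  · exact absurd h (key s s' hlt hs')
  · exact heq
  · exact absurd h.symm (key s' s hgt hs)

/-- the orbit of `a₀` under `⟨τ⟩`, as a finset -/
noncomputable def orb (p : ℕ) (τ : G) (a₀ : Ω) : Finset Ω :=
  (Finset.range p).image (fun s : ℕ => τ ^ s • a₀)

theorem card_orb {p : ℕ} [Fact p.Prime] (τ : G) (hord : orderOf τ = p)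
    (hfpf : ∀ x : Ω, τ • x ≠ x) (a₀ : Ω) : (orb p τ a₀).card = p := by
  unfold orb
  rw [Finset.card_image_of_injOn (pow_smul_injOn τ hord hfpf a₀), Finset.card_range]

theorem mem_orb {p : ℕ} (hp0 : 0 < p) (τ : G) (hτ : τ ^ p = 1) (a₀ y : Ω) :
    y ∈ orb p τ a₀ ↔ ∃ s : ℕ, τ ^ s • a₀ = y := by
  unfold orb
  rw [Finset.mem_image]
  constructor
  · rintro ⟨s, _, hs⟩
    exact ⟨s, hs⟩
  · rintro ⟨s, hs⟩
    refine ⟨s % p, Finset.mem_range.mpr (Nat.mod_lt s hp0), ?_⟩
    show τ ^ (s % p) • a₀ = y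
    rw [← pow_eq_pow_mod s hτ, hs]

theorem wv_eq {p : ℕ} (hp0 : 0 < p) (τ : G) (hτ : τ ^ p = 1) (a₀ y : Ω) :
    wv τ a₀ y = 2 * (if y ∈ orb p τ a₀ then (1 : ℂ) else 0) - 1 := by
  unfold wv
  by_cases h : ∃ s : ℕ, τ ^ s • a₀ = y
  · rw [if_pos h, if_pos ((mem_orb hp0 τ hτ a₀ y).mpr h)]; norm_num
  · rw [if_neg h, if_neg (fun h' => h ((mem_orb hp0 τ hτ a₀ y).mp h'))]; norm_num

/-- the values of `wv` sum to zero -/
theorem sum_wv {p : ℕ} [Fact p.Prime] (hΩ : Fintype.card Ω = 2 * p) (τ : G)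
    (hord : orderOf τ = p) (hfpf : ∀ x : Ω, τ • x ≠ x) (a₀ : Ω) : ∑ y, wv τ a₀ y = 0 := by
  have hpp : p.Prime := Fact.out
  have hτ : τ ^ p = 1 := hord ▸ pow_orderOf_eq_one τ
  rw [Finset.sum_congr rfl (fun y _ => wv_eq hpp.pos τ hτ a₀ y)]
  rw [Finset.sum_sub_distrib, ← Finset.mul_sum, Finset.sum_ite_mem, Finset.univ_inter,
    Finset.sum_const, Finset.sum_const, card_orb τ hord hfpf a₀, Finset.card_univ, hΩ]
  simp only [nsmul_eq_mul, mul_one]
  push_cast
  ring

/-- the abstract form of FIXV -/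
theorem fix_vector' {p : ℕ} [Fact p.Prime] {π : G} {χ₁ ψ ψ' : G → ℂ}
    (C : Ctx2 Ω p π χ₁ ψ ψ') (hΩ : Fintype.card Ω = 2 * p) (a₀ : Ω) (g : G) (x : Ω) :
    ∑ y, K χ₁ x y * wv (g * π * g⁻¹) a₀ y = wv (g * π * g⁻¹) a₀ x := by
  classical
  have hpp : p.Prime := Fact.out
  set τ := g * π * g⁻¹ with hτdef
  have hord : orderOf τ = p := by
    rw [hτdef, ← C.ord]
    exact (MulAut.conj g).orderOf_eq π
  have hτ : τ ^ p = 1 := hord ▸ pow_orderOf_eq_one τ
  have hfpf : ∀ x : Ω, τ • x ≠ x := by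
    intro x h
    apply C.fpf (g⁻¹ • x)
    have := congrArg (fun z => g⁻¹ • z) h
    simpa [hτdef, mul_smul] using this
  obtain ⟨m₁, mψ, mψ', m1, hmf⟩ := ctx_mult C hΩ
  haveI : MulAction.IsPretransitive G Ω := C.prim.toIsPretransitive
  have hconj : ∀ {φ : G → ℂ}, IsIrrCharacter G φ → ∀ k : ℕ, φ (τ ^ k) = φ (π ^ k) := by
    intro φ hφ k
    have hcf : IsClassFunction G φ := Cfsg.Agent.Helper24.isClassFunction_of_isIrrCharacter hφ
    rw [hτdef, conj_pow]
    exact hcf (π ^ k) g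
  have hsψ : ∑ k ∈ Finset.range p, ψ (τ ^ k) = 0 := by
    rw [Finset.sum_congr rfl (fun k _ => hconj C.irrψ k)]; exact C.c0ψ
  have hsψ' : ∑ k ∈ Finset.range p, ψ' (τ ^ k) = 0 := by
    rw [Finset.sum_congr rfl (fun k _ => hconj C.irrψ' k)]; exact C.c0ψ'
  have hEψ := key_zero hpp.pos C.irrψ mψ τ hτ hsψ a₀ x
  have hEψ' := key_zero hpp.pos C.irrψ' mψ' τ hτ hsψ' a₀ x
  have hE1 : ∑ y, K (fun _ : G => (1 : ℂ)) x y * wv τ a₀ y = 0 := by
    have : ∀ y, K (fun _ : G => (1 : ℂ)) x y * wv τ a₀ y =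
        1 / (Fintype.card Ω : ℂ) * wv τ a₀ y := fun y => by rw [K_one]
    rw [Finset.sum_congr rfl (fun y _ => this y), ← Finset.mul_sum,
      sum_wv hΩ τ hord hfpf a₀, mul_zero]
  -- the decomposition of the identity
  have hirr1 : IsIrrCharacter G (fun _ : G => (1 : ℂ)) :=
    (Cfsg.Agent.Helper24.principalChar G).2
  have hne1 : (fun _ : G => (1 : ℂ)) ≠ χ₁ := fun h => C.ne₁ h.symm
  have hne2 : (fun _ : G => (1 : ℂ)) ≠ ψ := fun h => C.neψ h.symm
  have hne3 : (fun _ : G => (1 : ℂ)) ≠ ψ' := fun h => C.neψ' h.symm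
  have hX : ∀ (f : (G → ℂ) → ℂ),
      ∑ χ ∈ ({fun _ => 1, χ₁, ψ, ψ'} : Finset (G → ℂ)), f χ =
        f (fun _ => 1) + (f χ₁ + (f ψ + f ψ')) := by
    intro f
    rw [Finset.sum_insert, Finset.sum_insert, Finset.sum_insert, Finset.sum_singleton]
    · simp only [Finset.mem_singleton]; exact C.neψψ'
    · simp only [Finset.mem_insert, Finset.mem_singleton, not_or]; exact ⟨C.ne₁ψ, C.ne₁ψ'⟩
    · simp only [Finset.mem_insert, Finset.mem_singleton, not_or]; exact ⟨hne1, hne2, hne3⟩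
  have hKsum := fun y => K_sum (Ω := Ω) ({fun _ => 1, χ₁, ψ, ψ'} : Finset (G → ℂ))
    (by
      intro χ hχ
      simp only [Finset.mem_insert, Finset.mem_singleton] at hχ
      rcases hχ with rfl | rfl | rfl | rfl
      · exact hirr1
      · exact C.irr₁
      · exact C.irrψ
      · exact C.irrψ')
    (by
      rw [C.theta_eq]
      funext h
      rw [hX (fun χ => χ h)]
      ring) x y
  have h6 : ∑ y, (∑ χ ∈ ({fun _ => 1, χ₁, ψ, ψ'} : Finset (G → ℂ)), K χ x y) * wv τ a₀ y =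
      wv τ a₀ x := by
    rw [Finset.sum_congr rfl (fun y _ => by rw [hKsum y])]
    simp
  rw [← h6]
  have h7 : ∀ y, (∑ χ ∈ ({fun _ => 1, χ₁, ψ, ψ'} : Finset (G → ℂ)), K χ x y) * wv τ a₀ y =
      K (fun _ : G => (1 : ℂ)) x y * wv τ a₀ y + (K χ₁ x y * wv τ a₀ y +
        (K ψ x y * wv τ a₀ y + K ψ' x y * wv τ a₀ y)) := by
    intro y
    rw [hX (fun χ => K χ x y)]
    ring
  rw [Finset.sum_congr rfl (fun y _ => h7 y), Finset.sum_add_distrib, Finset.sum_add_distrib,
    Finset.sum_add_distrib, hE1, hEψ, hEψ']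
  ring

end FIXV

section TwoMembers

variable {p : ℕ} [Fact p.Prime] {π : G} {χ₁ ψ ψ' : G → ℂ}

open scoped Classical in
/-- PIECE FIXV: the `±1`-vector of the two orbits of a conjugate `τ` of `π` lies in the
`χ₁`-component. -/
theorem fix_vector (C : Ctx2 Ω p π χ₁ ψ ψ') (hΩ : Fintype.card Ω = 2 * p) (a₀ : Ω) (g : G) :
    ∀ x : Ω, ∑ y, K χ₁ x y *
        (if ∃ s : ℕ, (g * π * g⁻¹) ^ s • a₀ = y then (1 : ℂ) else -1) =
      if ∃ s : ℕ, (g * π * g⁻¹) ^ s • a₀ = x then (1 : ℂ) else -1 :=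
  fun x => FIXV.fix_vector' C hΩ a₀ g x

end TwoMembers

end Cfsg.Agent.Helper22.W2P
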