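import Mathlib
import Cfsg.Agent.Lib.Helper22.W2PDefs
import Cfsg.Agent.Lib.Helper20.W2PKER
import Cfsg.Agent.Lib.Helper23.W2PKSUM
import Cfsg.Agent.Lib.Helper23.W2PKTRACE
import Cfsg.Agent.Lib.Helper24.W2PMULT
import Cfsg.Agent.Lib.Helper3.W2PEIGEN
import Cfsg.Agent.Lib.Helper2.W2PFIXV

/-!
# S0720, PIECE VFORM: `2 n_b K₁(a₀,b) = 2 k_b(τ) - n_b` (helper2)
-/

set_option autoImplicit false
set_option linter.unusedSectionVars false
set_option linter.unusedVariables false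
set_option linter.style.haveILetI false

namespace Cfsg.Agent.Helper22.W2P

open Cfsg Cfsg.Agent.Helper22.PermCent

open scoped ComplexConjugate

universe u v

variable {G : Type u} [Group G] [Fintype G] {Ω : Type v} [Fintype Ω] [DecidableEq Ω]
  [MulAction G Ω]

namespace VFORM

open FIXV

/-- the base point is not in the suborbit of another point -/
theorem base_notMem_sub (a₀ b : Ω) (hb : b ≠ a₀) : a₀ ∉ sub G a₀ b := by
  rintro ⟨h, hh⟩
  apply hb
  have h1 : (h : G) • b = a₀ := hh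
  have h2 : (h : G) • a₀ = a₀ := h.2
  have : (h : G) • b = (h : G) • a₀ := by rw [h1, h2]
  exact MulAction.injective (h : G) this

open scoped Classical in
/-- the count `kk` as the number of points of the `⟨τ⟩`-orbit of `a₀` in the suborbit of `b` -/
theorem kk_eq {p : ℕ} [Fact p.Prime] (τ : G) (hord : orderOf τ = p)
    (hfpf : ∀ x : Ω, τ • x ≠ x) (a₀ b : Ω) (hb : b ≠ a₀) :
    kk p τ a₀ b = ((Finset.univ.filter (fun y => y ∈ sub G a₀ b)) ∩ orb p τ a₀).card := by
  have hpp : p.Prime := Fact.out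
  unfold kk
  have hinj : Set.InjOn (fun s : ℕ => τ ^ s • a₀)
      (((Finset.Icc 1 (p - 1)).filter fun s => τ ^ s • a₀ ∈ sub G a₀ b : Finset ℕ) : Set ℕ) := by
    refine (pow_smul_injOn τ hord hfpf a₀).mono ?_
    intro s hs
    have hs' : s ∈ (Finset.Icc 1 (p - 1)).filter fun s => τ ^ s • a₀ ∈ sub G a₀ b := hs
    simp only [Finset.mem_filter, Finset.mem_Icc] at hs'
    simp only [Finset.coe_range, Set.mem_Iio]
    have := hpp.pos
    omega
  have himg : ((Finset.Icc 1 (p - 1)).filter fun s => τ ^ s • a₀ ∈ sub G a₀ b).image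
      (fun s : ℕ => τ ^ s • a₀) =
      (Finset.univ.filter (fun y => y ∈ sub G a₀ b)) ∩ orb p τ a₀ := by
    ext y
    simp only [Finset.mem_image, Finset.mem_filter, Finset.mem_Icc, Finset.mem_inter,
      Finset.mem_univ, true_and, orb, Finset.mem_range]
    constructor
    · rintro ⟨s, ⟨⟨hs1, hs2⟩, hsub⟩, rfl⟩
      refine ⟨hsub, s, ?_, rfl⟩
      have := hpp.pos
      omega
    · rintro ⟨hsub, s, hsp, rfl⟩
      refine ⟨s, ⟨⟨?_, by omega⟩, hsub⟩, rfl⟩
      rcases Nat.eq_zero_or_pos s with h0 | h0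
      · exfalso
        rw [h0, pow_zero, one_smul] at hsub
        exact base_notMem_sub a₀ b hb hsub
      · exact h0
  rw [← himg, Finset.card_image_of_injOn hinj]

open scoped Classical in
/-- sum of `wv` over a finset -/
theorem sum_wv_finset {p : ℕ} (hp0 : 0 < p) (τ : G) (hτ : τ ^ p = 1) (a₀ : Ω) (F : Finset Ω) :
    ∑ y ∈ F, wv τ a₀ y = 2 * ((F ∩ orb p τ a₀).card : ℂ) - (F.card : ℂ) := by
  rw [Finset.sum_congr rfl (fun y _ => wv_eq hp0 τ hτ a₀ y)]
  rw [Finset.sum_sub_distrib, ← Finset.mul_sum, Finset.sum_ite_mem, Finset.sum_const,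
    Finset.sum_const]
  simp only [nsmul_eq_mul, mul_one]

open scoped Classical in
theorem card_filter_sub (a₀ b : Ω) :
    (Finset.univ.filter (fun y => y ∈ sub G a₀ b)).card = Nat.card (sub G a₀ b) := by
  rw [Nat.card_eq_fintype_card, Fintype.card_subtype]

end VFORM

section TwoMembers

variable {p : ℕ} [Fact p.Prime] {π : G} {χ₁ ψ ψ' : G → ℂ}

open VFORM FIXV in
/-- PIECE VFORM. -/
theorem v_formula (C : Ctx2 Ω p π χ₁ ψ ψ') (hΩ : Fintype.card Ω = 2 * p) (a₀ b : Ω) (hb : b ≠ a₀)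
    (g : G) :
    2 * (Nat.card (sub G a₀ b) : ℂ) * K χ₁ a₀ b =
      2 * (kk p (g * π * g⁻¹) a₀ b : ℂ) - (Nat.card (sub G a₀ b) : ℂ) := by
  classical
  have hpp : p.Prime := Fact.out
  have hpc : (p : ℂ) ≠ 0 := by exact_mod_cast hpp.ne_zero
  set τ := g * π * g⁻¹ with hτdef
  have hord : orderOf τ = p := by
    rw [hτdef, ← C.ord]
    exact (MulAut.conj g).orderOf_eq π
  have hτ : τ ^ p = 1 := hord ▸ pow_orderOf_eq_one τ
  have hfpf : ∀ x : Ω, τ • x ≠ x := by
    intro x h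
    apply C.fpf (g⁻¹ • x)
    have := congrArg (fun z => g⁻¹ • z) h
    simpa [hτdef, mul_smul] using this
  obtain ⟨m₁, mψ, mψ', m1, hmf⟩ := ctx_mult C hΩ
  haveI : MulAction.IsPretransitive G Ω := C.prim.toIsPretransitive
  have hE := (eigen_integral hmf C.irr₁ m₁ a₀ b).2 (wv τ a₀)
    (fun x => fix_vector' C hΩ a₀ g x)
  have hw0 : wv τ a₀ a₀ = 1 := by
    unfold wv
    rw [if_pos ⟨0, by simp⟩]
  rw [hw0, mul_one, C.deg₁, hΩ] at hE
  have hL : ∑ y ∈ Finset.univ.filter (fun y => y ∈ sub G a₀ b), wv τ a₀ y =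
      2 * (kk p τ a₀ b : ℂ) - (Nat.card (sub G a₀ b) : ℂ) := by
    rw [sum_wv_finset hpp.pos τ hτ a₀, kk_eq τ hord hfpf a₀ b hb, card_filter_sub]
  have hE' : ∑ y ∈ Finset.univ.filter (fun y => y ∈ sub G a₀ b), wv τ a₀ y =
      2 * (Nat.card (sub G a₀ b) : ℂ) * conj (K χ₁ a₀ b) := by
    convert hE using 2
    push_cast
    field_simp
  rw [hL] at hE'
  have h2 := congrArg (starRingEnd ℂ) hE'
  simp only [map_sub, map_mul, map_natCast, map_ofNat, Complex.conj_conj] at h2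
  exact h2.symm

end TwoMembers

end Cfsg.Agent.Helper22.W2P
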