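import Mathlib

/-!
# S3341, PIECES CUBE + VALARITH (helper2)
-/

set_option autoImplicit false
set_option linter.unusedVariables false

namespace Cfsg.Agent.Helper16.SSC

open scoped ComplexConjugate

/-- PIECE CUBE -/
theorem cube_root_sum (z : ℂ) (hz : z ^ 3 = 1) : z + z⁻¹ = 2 ∨ z + z⁻¹ = -1 := by
  have hz0 : z ≠ 0 := by
    intro h
    rw [h] at hz
    norm_num at hz
  have hinv : z⁻¹ = z ^ 2 := by
    field_simp
    rw [← hz]
  rw [hinv]
  have hfac : (z - 1) * (z ^ 2 + z + 1) = 0 := by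
    have : (z - 1) * (z ^ 2 + z + 1) = z ^ 3 - 1 := by ring
    rw [this, hz, sub_self]
  rcases mul_eq_zero.mp hfac with h | h
  · left
    have : z = 1 := by linear_combination h
    rw [this]
    norm_num
  · right
    linear_combination h

/-- PIECE VALARITH -/
theorem val_arith (dd δ : ℤ) (hδ : δ = 1 ∨ δ = -1) (hdd : dd = 0 ∨ dd = δ) (p q : ℂ)
    (hp : conj p = p) (hq : conj q = q) (hsq : p * conj p + q * conj q = 5)
    (hsum : p + q = 2 * (dd : ℂ) - (δ : ℂ)) :
    (p = (dd : ℂ) + δ ∧ q = (dd : ℂ) - 2 * δ) ∨ (p = (dd : ℂ) - 2 * δ ∧ q = (dd : ℂ) + δ) := by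
  rw [hp, hq] at hsq
  have hq' : q = 2 * (dd : ℂ) - (δ : ℂ) - p := by linear_combination hsum
  have hδ2 : ((δ : ℂ)) ^ 2 = 1 := by
    rcases hδ with h | h <;> rw [h] <;> norm_num
  have hddc : (dd : ℂ) * ((dd : ℂ) - δ) = 0 := by
    rcases hdd with h | h
    · rw [h]; simp
    · rw [h]; simp
  -- quadratic in p: (p - (dd+δ)) (p - (dd-2δ)) = 0
  have hquad : (p - ((dd : ℂ) + δ)) * (p - ((dd : ℂ) - 2 * δ)) = 0 := by
    rw [hq'] at hsq
    linear_combination (1 / 2 : ℂ) * hsq - hddc - (5 / 2 : ℂ) * hδ2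
  rcases mul_eq_zero.mp hquad with h | h
  · left
    have hp' : p = (dd : ℂ) + δ := by linear_combination h
    refine ⟨hp', ?_⟩
    rw [hq', hp']
    ring
  · right
    have hp' : p = (dd : ℂ) - 2 * δ := by linear_combination h
    refine ⟨hp', ?_⟩
    rw [hq', hp']
    ring

end Cfsg.Agent.Helper16.SSC
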