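import Mathlib
import Cfsg.Agent.Lib.Helper13.FieldAutFixed

/-!
# S2262, piece AO-ART (helper2 for helper17): the fixed field of a field automorphism `σ` of a
finite field `F` has `card ^ orderOf σ = card F`.
-/

set_option autoImplicit false
set_option linter.style.haveILetI false

namespace Cfsg.Agent.Helper17.AO

open Polynomial Matrix
open Cfsg.Agent.Helper13.FAut (fixedField mem_fixedField)

section field
variable {F : Type*} [Field F] [Fintype F]

/-- AO-ART -/
theorem card_fixed_pow (σ : RingAut F) :
    2 ≤ Nat.card (fixedField σ) ∧ Nat.card (fixedField σ) ^ orderOf σ = Fintype.card F := by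
  classical
  haveI : Finite (RingAut F) :=
    Finite.of_injective (fun f : F ≃+* F => (f : F → F)) DFunLike.coe_injective
  haveI : Fintype (Subgroup.zpowers (σ : RingAut F)) := Fintype.ofFinite _
  have h1 : Module.finrank (fixedField σ) F = orderOf σ := by
    unfold fixedField
    rw [FixedPoints.finrank_eq_card, ← Nat.card_eq_fintype_card, Nat.card_zpowers]
  haveI : Fintype (fixedField σ) := Fintype.ofFinite _
  have h2 := Module.card_eq_pow_finrank (K := fixedField σ) (V := F)
  rw [h1] at h2
  constructor
  · rw [Nat.card_eq_fintype_card]
    exact Fintype.one_lt_card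
  · rw [Nat.card_eq_fintype_card]
    exact h2.symm

end field

end Cfsg.Agent.Helper17.AO
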