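import Mathlib
import Cfsg.Agent.Lib.Helper26.CG3Defs
import Cfsg.Agent.Lib.Helper26.CG3Tbl

/-!
S3412 piece T0A (helper2): the table interface.
-/

set_option autoImplicit false

namespace Cfsg.Agent.Helper26.CG3

theorem t0a_lookup_mem {α β : Type*} [BEq α] [LawfulBEq α] (l : List (α × β)) (a : α) (b : β)
    (h : l.lookup a = some b) : (a, b) ∈ l := by
  induction l with
  | nil => simp at h
  | cons x xs ih =>
    obtain ⟨k, v⟩ := x
    by_cases hk : a == k
    · rw [List.lookup_cons, hk] at h
      simp only [Option.some.injEq] at h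
      have : a = k := by simpa using hk
      subst this
      subst h
      exact List.mem_cons_self
    · rw [List.lookup_cons] at h
      simp only [hk] at h
      exact List.mem_cons_of_mem _ (ih h)

theorem t0a_isSome : ∀ n ∈ LT ++ [X0], n ≠ I0 → (tbl.lookup n).isSome = true := by
  decide +kernel

/-- T0a -/
theorem look_ok (n : ℕ) (hn : n ∈ LT ∨ n = X0) (h1 : n ≠ I0) :
    (List.range 19683).filter (commB n) = look n := by
  have hmem : n ∈ LT ++ [X0] := by
    rw [List.mem_append, List.mem_singleton]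
    exact hn
  have hs := t0a_isSome n hmem h1
  obtain ⟨l, hl⟩ := Option.isSome_iff_exists.mp hs
  have hlook : look n = l := by
    unfold look
    rw [hl]
    rfl
  rw [hlook]
  exact tbl_ok (n, l) (t0a_lookup_mem tbl n l hl)

/-- T0c -/
theorem Rc_iff_look (g h : Code) (hg : g.1 ∈ LT ∨ g.1 = X0) (h1 : g.1 ≠ I0) :
    Rc g h ↔ h.1 ∈ look g.1 := by
  rw [← look_ok g.1 hg h1, List.mem_filter, List.mem_range]
  unfold Rc commB
  constructor
  · intro hc
    refine ⟨h.2.1, ?_⟩
    rw [Bool.and_eq_true]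
    exact ⟨by rw [beq_iff_eq]; exact h.2.2, hc⟩
  · rintro ⟨-, hc⟩
    rw [Bool.and_eq_true] at hc
    exact hc.2

theorem t0a_look_T0 : look T0 = LT := by decide +kernel

theorem t0a_T0_mem : T0 ∈ LT := by decide +kernel

/-- T0c' -/
theorem Rc_t0_iff (h : Code) : Rc t0 h ↔ h.1 ∈ LT := by
  have := Rc_iff_look t0 h (Or.inl t0a_T0_mem) (by decide)
  rw [this]
  show h.1 ∈ look T0 ↔ _
  rw [t0a_look_T0]

end Cfsg.Agent.Helper26.CG3
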