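import Mathlib
import Cfsg.Agent.Lib.Helper26.CG3Defs
import Cfsg.Agent.Lib.Helper26.CG3Tbl
import Cfsg.Agent.Lib.Helper2.CG3T0A

/-!
S3412 piece T0B (helper2): counting codes.
-/

set_option autoImplicit false

namespace Cfsg.Agent.Helper26.CG3

theorem t0b_card_mem (l : List ℕ) (hl : l.Nodup) : Nat.card {n : ℕ // n ∈ l} = l.length := by
  classical
  rw [Nat.card_eq_fintype_card, Fintype.card_of_subtype l.toFinset (fun x => List.mem_toFinset),
    List.toFinset_card_of_nodup hl]

/-- T0b -/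
theorem card_code_pred (p : ℕ → Bool) :
    Nat.card {h : Code // p h.1 = true} =
      ((List.range 19683).filter (fun n => cdet n == 1 && p n)).length := by
  rw [← t0b_card_mem _ ((List.nodup_range).filter _)]
  refine Nat.card_congr ⟨fun h => ⟨h.1.1, ?_⟩, fun n => ⟨⟨n.1, ?_⟩, ?_⟩, ?_, ?_⟩
  · rw [List.mem_filter, List.mem_range, Bool.and_eq_true, beq_iff_eq]
    exact ⟨h.1.2.1, h.1.2.2, h.2⟩
  · have := n.2
    rw [List.mem_filter, List.mem_range, Bool.and_eq_true, beq_iff_eq] at this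
    exact ⟨this.1, this.2.1⟩
  · have := n.2
    rw [List.mem_filter, List.mem_range, Bool.and_eq_true, beq_iff_eq] at this
    exact this.2.2
  · intro h; rfl
  · intro n; rfl

/-- T0d -/
theorem cR_look (g : Code) (hg : g.1 ∈ LT ∨ g.1 = X0) (h1 : g.1 ≠ I0) :
    cR Rc g = (look g.1).length := by
  rw [← look_ok g.1 hg h1]
  exact card_code_pred (cb g.1)

/-- T0e -/
theorem cR_e0 : cR Rc e0 = 5616 := by
  rw [← scan_one]
  exact card_code_pred (cb I0)

/-- T0f : counting codes in an explicit list -/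
theorem card_code_mem (l : List ℕ) (hl : l.Nodup) (hv : ∀ n ∈ l, n < 19683 ∧ cdet n = 1)
    (p : ℕ → Prop) [DecidablePred p] :
    Nat.card {h : Code // h.1 ∈ l ∧ p h.1} = (l.filter (fun n => decide (p n))).length := by
  rw [← t0b_card_mem _ (hl.filter _)]
  refine Nat.card_congr ⟨fun h => ⟨h.1.1, ?_⟩, fun n => ⟨⟨n.1, ?_⟩, ?_⟩, ?_, ?_⟩
  · rw [List.mem_filter, decide_eq_true_eq]
    exact h.2
  · have := n.2
    rw [List.mem_filter, decide_eq_true_eq] at this
    exact hv n.1 this.1
  · have := n.2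
    rw [List.mem_filter, decide_eq_true_eq] at this
    exact this
  · intro h; rfl
  · intro n; rfl

end Cfsg.Agent.Helper26.CG3
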