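import Mathlib

set_option autoImplicit false
set_option linter.unusedSimpArgs false
set_option linter.unusedVariables false
set_option linter.unusedSectionVars false

/-! Polar geometry in odd characteristic, part 1: reflexive sesquilinear forms
`B y x = ε * σ (B x y)` (`ε = ± 1`, `σ` of order at most two), hyperbolic partners, and the basic
connecting lemmas between singular vectors. -/

namespace Cfsg.Agent.Helper2.PGeo

variable {F : Type*} [Field F] {V : Type*} [AddCommGroup V] [Module F V] {σ : F →+* F}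

/-- a non-degenerate `(ε, σ)`-hermitian form in characteristic different from two -/
structure IsEpsForm (B : V →ₛₗ[σ] V →ₗ[F] F) (ε : F) : Prop where
  two : (2 : F) ≠ 0
  sig : ∀ a, σ (σ a) = a
  eps : ε = 1 ∨ ε = -1
  symm : ∀ x y, B y x = ε * σ (B x y)
  nondeg : ∀ x, (∀ y, B x y = 0) → x = 0

namespace IsEpsForm

variable {B : V →ₛₗ[σ] V →ₗ[F] F} {ε : F}

theorem eps_mul_self (h : IsEpsForm B ε) : ε * ε = 1 := by
  rcases h.eps with rfl | rfl <;> ring

theorem sig_eps (h : IsEpsForm B ε) : σ ε = ε := by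
  rcases h.eps with rfl | rfl
  · exact map_one σ
  · rw [map_neg, map_one]

theorem smul_left (c : F) (x y : V) : B (c • x) y = σ c * B x y := by
  rw [LinearMap.map_smulₛₗ₂, smul_eq_mul]

theorem smul_right (c : F) (x y : V) : B x (c • y) = c * B x y := by
  rw [map_smul, smul_eq_mul]

theorem add_left (x x' y : V) : B (x + x') y = B x y + B x' y := by
  rw [map_add, LinearMap.add_apply]

theorem sub_left (x x' y : V) : B (x - x') y = B x y - B x' y := by
  rw [map_sub, LinearMap.sub_apply]

theorem neg_left (x y : V) : B (-x) y = -B x y := by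
  rw [map_neg, LinearMap.neg_apply]

theorem zero_left (y : V) : B 0 y = 0 := by
  rw [map_zero, LinearMap.zero_apply]

theorem sig_self (h : IsEpsForm B ε) (x : V) : σ (B x x) = ε * B x x := by
  have h1 := h.symm x x
  have h2 := h.eps_mul_self
  calc σ (B x x) = ε * (ε * σ (B x x)) := by rw [← mul_assoc, h2, one_mul]
    _ = ε * B x x := by rw [← h1]

theorem perp_symm (h : IsEpsForm B ε) {x y : V} (hxy : B x y = 0) : B y x = 0 := by
  rw [h.symm x y, hxy, map_zero, mul_zero]

theorem ne_symm (h : IsEpsForm B ε) {x y : V} (hxy : B x y ≠ 0) : B y x ≠ 0 :=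
  fun h0 => hxy (h.perp_symm h0)

theorem eq_zero_of_forall_left (h : IsEpsForm B ε) (y : V) (hy : ∀ x, B x y = 0) : y = 0 :=
  h.nondeg y fun x => h.perp_symm (hy x)

theorem sig_two : σ (2 : F) = 2 := map_ofNat σ 2

/-- the value of the form on `w + a x` for `x` singular -/
theorem self_add_smul (h : IsEpsForm B ε) {x : V} (hx : B x x = 0) (w : V) (a : F) :
    B (w + a • x) (w + a • x) = B w w + a * (ε * σ (B x w)) + σ a * B x w := by
  rw [add_left, map_add, map_add, smul_left, smul_left, smul_right, smul_right, hx, h.symm x w]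
  ring

/-- **hyperbolic partner** of a singular vector -/
theorem exists_partner (h : IsEpsForm B ε) {x : V} (hx0 : x ≠ 0) (hx : B x x = 0) :
    ∃ y, B y y = 0 ∧ B x y = 1 := by
  obtain ⟨w, hw⟩ : ∃ w, B x w ≠ 0 := by
    by_contra hcon
    push Not at hcon
    exact hx0 (h.nondeg x hcon)
  obtain ⟨w', hw'⟩ : ∃ w', w' = (B x w)⁻¹ • w := ⟨_, rfl⟩
  have h1 : B x w' = 1 := by rw [hw', smul_right, inv_mul_cancel₀ hw]
  refine ⟨w' + (-(ε * B w' w') / 2) • x, ?_, ?_⟩
  · rw [h.self_add_smul hx, h1, map_one, map_div₀, map_neg, map_mul, h.sig_eps, h.sig_self, sig_two]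
    have h2 := h.eps_mul_self
    have h3 := h.two
    field_simp
    linear_combination (-2 * (B w' w')) * h2
  · rw [map_add, smul_right, hx, mul_zero, add_zero, h1]

/-- two non-zero vectors are simultaneously non-orthogonal to some vector -/
theorem exists_both_ne (h : IsEpsForm B ε) {x y : V} (hx0 : x ≠ 0) (hy0 : y ≠ 0) :
    ∃ w, B x w ≠ 0 ∧ B y w ≠ 0 := by
  obtain ⟨w₁, hw₁⟩ : ∃ w, B x w ≠ 0 := by
    by_contra hcon
    push Not at hcon
    exact hx0 (h.nondeg x hcon)
  obtain ⟨w₂, hw₂⟩ : ∃ w, B y w ≠ 0 := by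
    by_contra hcon
    push Not at hcon
    exact hy0 (h.nondeg y hcon)
  by_cases h1 : B y w₁ = 0
  · by_cases h2 : B x w₂ = 0
    · refine ⟨w₁ + w₂, ?_, ?_⟩
      · rw [map_add, h2, add_zero]; exact hw₁
      · rw [map_add, h1, zero_add]; exact hw₂
    · exact ⟨w₂, h2, hw₂⟩
  · exact ⟨w₁, hw₁, h1⟩

/-- two orthogonal singular vectors are simultaneously non-orthogonal to a singular vector -/
theorem exists_sing_both_ne (h : IsEpsForm B ε) {x y : V} (hx0 : x ≠ 0) (hx : B x x = 0)
    (hy0 : y ≠ 0) (hxy : B x y = 0) :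
    ∃ z, B z z = 0 ∧ B x z = 1 ∧ B y z ≠ 0 := by
  obtain ⟨w, hw1, hw2⟩ := h.exists_both_ne hx0 hy0
  obtain ⟨w', hw'⟩ : ∃ w', w' = (B x w)⁻¹ • w := ⟨_, rfl⟩
  have h1 : B x w' = 1 := by rw [hw', smul_right, inv_mul_cancel₀ hw1]
  have h1' : B y w' ≠ 0 := by
    rw [hw', smul_right]
    exact mul_ne_zero (inv_ne_zero hw1) hw2
  refine ⟨w' + (-(ε * B w' w') / 2) • x, ?_, ?_, ?_⟩
  · rw [h.self_add_smul hx, h1, map_one, map_div₀, map_neg, map_mul, h.sig_eps, h.sig_self, sig_two]
    have h2 := h.eps_mul_self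
    have h3 := h.two
    field_simp
    linear_combination (-2 * (B w' w')) * h2
  · rw [map_add, smul_right, hx, mul_zero, add_zero, h1]
  · rw [map_add, smul_right, h.perp_symm hxy, mul_zero, add_zero]
    exact h1'

/-- the first connecting lemma: a singular vector orthogonal to `x` can be moved along `x` to
become orthogonal to `z` as well -/
theorem connect_perp (h : IsEpsForm B ε) {x y z : V} (hx : B x x = 0) (hy : B y y = 0)
    (hxy : B x y = 0) (hzx : B z x ≠ 0) :
    B (y - (B z y / B z x) • x) (y - (B z y / B z x) • x) = 0 ∧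
      B x (y - (B z y / B z x) • x) = 0 ∧ B z (y - (B z y / B z x) • x) = 0 := by
  have hyx : B y x = 0 := h.perp_symm hxy
  refine ⟨?_, ?_, ?_⟩
  · rw [sub_left, map_sub, map_sub, smul_left, smul_left, smul_right, smul_right, hy, hx, hxy, hyx]
    ring
  · rw [map_sub, smul_right, hx, hxy]
    ring
  · rw [map_sub, smul_right, div_mul_cancel₀ _ hzx, sub_self]

/-- the component of `v` orthogonal to a hyperbolic pair `x`, `y` -/
def perpPart (B : V →ₛₗ[σ] V →ₗ[F] F) (ε : F) (x y v : V) : V :=
  v - B x v • y - (ε * B y v) • x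

theorem perpPart_left (h : IsEpsForm B ε) {x y : V} (hx : B x x = 0) (hxy : B x y = 1) (v : V) :
    B x (perpPart B ε x y v) = 0 := by
  unfold perpPart
  rw [map_sub, map_sub, smul_right, smul_right, hx, hxy]
  ring

theorem perpPart_right (h : IsEpsForm B ε) {x y : V} (hy : B y y = 0) (hxy : B x y = 1) (v : V) :
    B y (perpPart B ε x y v) = 0 := by
  unfold perpPart
  rw [map_sub, map_sub, smul_right, smul_right, hy, h.symm x y, hxy, map_one]
  have h2 := h.eps_mul_self
  linear_combination (-(B y v)) * h2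

theorem perpPart_of_perp (h : IsEpsForm B ε) {x y w : V} (hwx : B x w = 0) (hwy : B y w = 0)
    (v : V) : B w (perpPart B ε x y v) = B w v := by
  unfold perpPart
  rw [map_sub, map_sub, smul_right, smul_right, h.perp_symm hwx, h.perp_symm hwy]
  ring

theorem perpPart_add (x y v : V) :
    v = perpPart B ε x y v + B x v • y + (ε * B y v) • x := by
  unfold perpPart
  abel

/-- the standard singular combination attached to a vector orthogonal to a hyperbolic pair -/
theorem sing_combo (h : IsEpsForm B ε) {x y w : V} (hx : B x x = 0) (hy : B y y = 0)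
    (hxy : B x y = 1) (hwx : B x w = 0) (hwy : B y w = 0) (c : F) :
    B (x + (-(σ c * c * B w w) / 2) • y + c • w) (x + (-(σ c * c * B w w) / 2) • y + c • w) = 0 := by
  have hyx : B y x = ε := by rw [h.symm x y, hxy, map_one, mul_one]
  have hxw' : B w x = 0 := h.perp_symm hwx
  have hyw' : B w y = 0 := h.perp_symm hwy
  simp only [map_add, LinearMap.add_apply, LinearMap.map_smulₛₗ₂, map_smul, smul_eq_mul,
    LinearMap.smul_apply, hx, hy, hxy, hyx, hwx, hwy, hxw', hyw',
    map_div₀, map_neg, map_mul, h.sig, h.sig_self, sig_two]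
  have h2 := h.eps_mul_self
  have h3 := h.two
  field_simp
  linear_combination (-(2 * c * σ c * B w w)) * h2

/-- **dichotomy**: either the orthogonal complement of a hyperbolic pair has a non-singular
vector, or the form is alternating bilinear -/
theorem nonsing_or_alt (h : IsEpsForm B ε)
    (hdim3 : ∀ x y : V, ∃ w, w ≠ 0 ∧ B x w = 0 ∧ B y w = 0) {x y : V} (hx : B x x = 0)
    (hy : B y y = 0) (hxy : B x y = 1) :
    (∃ w, B x w = 0 ∧ B y w = 0 ∧ B w w ≠ 0) ∨
      ((∀ v, B v v = 0) ∧ (∀ c, σ c = c) ∧ ε = -1) := by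
  by_cases hex : ∃ w, B x w = 0 ∧ B y w = 0 ∧ B w w ≠ 0
  · exact Or.inl hex
  right
  have hall : ∀ w, B x w = 0 → B y w = 0 → B w w = 0 := by
    intro w h1 h2
    by_contra h3
    exact hex ⟨w, h1, h2, h3⟩
  obtain ⟨w₀, hw₀, hw₀x, hw₀y⟩ := hdim3 x y
  obtain ⟨v, hv⟩ : ∃ v, B w₀ v ≠ 0 := by
    by_contra hcon
    push Not at hcon
    exact hw₀ (h.nondeg w₀ hcon)
  obtain ⟨w', hw'⟩ : ∃ w', w' = perpPart B ε x y v := ⟨_, rfl⟩
  have hw'x : B x w' = 0 := by rw [hw']; exact h.perpPart_left hx hxy v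
  have hw'y : B y w' = 0 := by rw [hw']; exact h.perpPart_right hy hxy v
  have hb : B w₀ w' ≠ 0 := by rw [hw', h.perpPart_of_perp hw₀x hw₀y]; exact hv
  have key : ∀ c : F, c * B w₀ w' + σ c * (ε * σ (B w₀ w')) = 0 := by
    intro c
    have h1 : B x (w₀ + c • w') = 0 := by rw [map_add, smul_right, hw₀x, hw'x]; ring
    have h2 : B y (w₀ + c • w') = 0 := by rw [map_add, smul_right, hw₀y, hw'y]; ring
    have h3 := hall _ h1 h2
    rw [add_left, map_add, map_add, smul_left, smul_left, smul_right, smul_right,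
      hall w₀ hw₀x hw₀y, hall w' hw'x hw'y, h.symm w₀ w'] at h3
    linear_combination h3
  have k1 := key 1
  rw [map_one, one_mul, one_mul] at k1
  have hσ : ∀ c, σ c = c := by
    intro c
    have k2 := key c
    have h4 : (c - σ c) * B w₀ w' = 0 := by linear_combination k2 - σ c * k1
    rcases mul_eq_zero.1 h4 with h5 | h5
    · exact (sub_eq_zero.1 h5).symm
    · exact absurd h5 hb
  have hε : ε = -1 := by
    rw [hσ] at k1
    have h4 : (1 + ε) * B w₀ w' = 0 := by linear_combination k1
    rcases mul_eq_zero.1 h4 with h5 | h5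
    · linear_combination h5
    · exact absurd h5 hb
  refine ⟨?_, hσ, hε⟩
  intro u
  have h1 := h.symm u u
  rw [hσ, hε] at h1
  have h2 : (2 : F) * B u u = 0 := by linear_combination h1
  rcases mul_eq_zero.1 h2 with h3 | h3
  · exact absurd h3 h.two
  · exact h3

end IsEpsForm

end Cfsg.Agent.Helper2.PGeo
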