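import Mathlib
import Cfsg.Agent.Lib.Helper2.Pgeo1

set_option autoImplicit false
set_option linter.unusedSimpArgs false
set_option linter.unusedVariables false
set_option linter.unusedSectionVars false

/-! Polar geometry in odd characteristic, part 2: rigidity of semilinear maps (over an extension
field) which fix all singular points. -/

namespace Cfsg.Agent.Helper2.PGeo

open IsEpsForm

section rigid

variable {F : Type*} [Field F] {V : Type*} [AddCommGroup V] [Module F V] {σ : F →+* F}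
  {B : V →ₛₗ[σ] V →ₗ[F] F} {ε : F}
  {F' : Type*} [Field F'] {V' : Type*} [AddCommGroup V'] [Module F' V']
  {j : F →+* F'} {ι : V →+ V'} {τ : F' →+* F'} {J : V' →+ V'}

/-- a semilinear embedding `ι` of `V` into a space over an extension field, together with a
semilinear injective map `J` of the big space -/
structure SemiData (j : F →+* F') (ι : V →+ V') (τ : F' →+* F') (J : V' →+ V') : Prop where
  hι : ∀ (c : F) (v : V), ι (c • v) = j c • ι v
  hext : ∀ φ : V →ₗ[F] F, ∃ φ' : V' →ₗ[F'] F', ∀ v, φ' (ι v) = j (φ v)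
  hJ : ∀ (c : F') (v : V'), J (c • v) = τ c • J v
  hJinj : Function.Injective J

theorem SemiData.ι_ne_zero (D : SemiData j ι τ J) (h : IsEpsForm B ε) {v : V} (hv : v ≠ 0) :
    ι v ≠ 0 := by
  obtain ⟨u, hu⟩ : ∃ u, B u v ≠ 0 := by
    by_contra hcon
    push Not at hcon
    exact hv (h.eq_zero_of_forall_left v hcon)
  obtain ⟨φ', hφ'⟩ := D.hext (B u)
  intro h0
  have h1 := hφ' v
  rw [h0, map_zero] at h1
  exact hu ((map_eq_zero j).1 h1.symm)

theorem SemiData.two_ne_zero (D : SemiData j ι τ J) (h : IsEpsForm B ε) : (2 : F') ≠ 0 := by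
  have h1 : j (2 : F) = 2 := map_ofNat j 2
  rw [← h1]
  exact (map_ne_zero j).2 h.two

/-- **rigidity on a hyperbolic pair** -/
theorem hyp_pair_rigid (h : IsEpsForm B ε)
    (hdim3 : ∀ x y : V, ∃ w, w ≠ 0 ∧ B x w = 0 ∧ B y w = 0) (D : SemiData j ι τ J)
    (hfix : ∀ x, B x x = 0 → ∃ l : F', J (ι x) = l • ι x)
    {x y : V} (hx : B x x = 0) (hy : B y y = 0) (hxy : B x y = 1) {lx ly : F'}
    (hlx : J (ι x) = lx • ι x) (hly : J (ι y) = ly • ι y) :
    lx = ly ∧ ∀ c, τ (j c) = j c := by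
  have hx0 : x ≠ 0 := by
    rintro rfl
    rw [zero_left] at hxy
    exact zero_ne_one hxy
  have hιx : ι x ≠ 0 := D.ι_ne_zero h hx0
  have hlx0 : lx ≠ 0 := by
    rintro rfl
    rw [zero_smul] at hlx
    have h1 : J (ι x) = J 0 := by rw [hlx, map_zero]
    exact hιx (D.hJinj h1)
  have hyx : B y x = ε := by rw [h.symm x y, hxy, map_one, mul_one]
  have h2e := h.eps_mul_self
  -- the coordinate functionals
  obtain ⟨φ₁, hφ₁⟩ := D.hext (ε • B y)
  obtain ⟨φ₂, hφ₂⟩ := D.hext (B x)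
  have hφ₁x : φ₁ (ι x) = 1 := by
    rw [hφ₁, LinearMap.smul_apply, hyx, smul_eq_mul, h2e, map_one]
  have hφ₁y : φ₁ (ι y) = 0 := by
    rw [hφ₁, LinearMap.smul_apply, hy, smul_zero, map_zero]
  have hφ₂x : φ₂ (ι x) = 0 := by rw [hφ₂, hx, map_zero]
  have hφ₂y : φ₂ (ι y) = 1 := by rw [hφ₂, hxy, map_one]
  rcases h.nonsing_or_alt hdim3 hx hy hxy with ⟨w, hwx, hwy, hN⟩ | ⟨halt, -, -⟩
  · -- a non-singular vector orthogonal to the pair
    obtain ⟨φ₃, hφ₃⟩ := D.hext ((B w w)⁻¹ • B w)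
    have hφ₃x : φ₃ (ι x) = 0 := by
      rw [hφ₃, LinearMap.smul_apply, h.perp_symm hwx, smul_zero, map_zero]
    have hφ₃y : φ₃ (ι y) = 0 := by
      rw [hφ₃, LinearMap.smul_apply, h.perp_symm hwy, smul_zero, map_zero]
    have hφ₃w : φ₃ (ι w) = 1 := by
      rw [hφ₃, LinearMap.smul_apply, smul_eq_mul, inv_mul_cancel₀ hN, map_one]
    have hφ₁w : φ₁ (ι w) = 0 := by
      rw [hφ₁, LinearMap.smul_apply, hwy, smul_zero, map_zero]
    have hφ₂w : φ₂ (ι w) = 0 := by rw [hφ₂, hwx, map_zero]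
    obtain ⟨u, hu⟩ : ∃ u, u = J (ι w) := ⟨_, rfl⟩
    -- the three coordinate equations
    have key : ∀ c : F, ∃ l : F',
        lx + τ (j c) * φ₁ u = l ∧
        τ (j (-(σ c * c * B w w) / 2)) * ly + τ (j c) * φ₂ u = l * j (-(σ c * c * B w w) / 2) ∧
        τ (j c) * φ₃ u = l * j c := by
      intro c
      obtain ⟨l, hl⟩ := hfix _ (h.sing_combo hx hy hxy hwx hwy c)
      refine ⟨l, ?_, ?_, ?_⟩
      · have h1 := congrArg φ₁ hl
        simp only [map_add, D.hι, D.hJ, hlx, hly, ← hu, map_smul, smul_eq_mul, hφ₁x, hφ₁y,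
          hφ₁w] at h1
        linear_combination h1
      · have h1 := congrArg φ₂ hl
        simp only [map_add, D.hι, D.hJ, hlx, hly, ← hu, map_smul, smul_eq_mul, hφ₂x, hφ₂y,
          hφ₂w] at h1
        linear_combination h1
      · have h1 := congrArg φ₃ hl
        simp only [map_add, D.hι, D.hJ, hlx, hly, ← hu, map_smul, smul_eq_mul, hφ₃x, hφ₃y,
          hφ₃w] at h1
        linear_combination h1
    have h2' := D.two_ne_zero h
    obtain ⟨l₁, a1, a2, a3⟩ := key 1
    obtain ⟨l₂, b1, b2, b3⟩ := key (-1)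
    simp only [map_one, map_neg, one_mul, mul_one, neg_mul, mul_neg, neg_neg] at a1 a2 a3 b1 b2 b3
    have e1 : l₁ = l₂ := by
      have : φ₃ u = l₂ := by linear_combination -b3
      rw [← a3, this]
    have e2 : φ₁ u = 0 := by
      have h3 : (2 : F') * φ₁ u = 0 := by linear_combination a1 - b1 + e1
      rcases mul_eq_zero.1 h3 with h4 | h4
      · exact absurd h4 h2'
      · exact h4
    have e3 : lx = l₁ := by rw [← a1, e2, add_zero]
    have hτ : ∀ c, τ (j c) = j c := by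
      intro c
      obtain ⟨l, c1, c2, c3⟩ := key c
      rw [e2, mul_zero, add_zero] at c1
      have h3 : φ₃ u = lx := by rw [a3, e3]
      rw [h3, ← c1] at c3
      have h4 : (τ (j c) - j c) * lx = 0 := by linear_combination c3
      rcases mul_eq_zero.1 h4 with h5 | h5
      · exact sub_eq_zero.1 h5
      · exact absurd h5 hlx0
    refine ⟨?_, hτ⟩
    have e4 : φ₂ u = 0 := by
      have h3 : (2 : F') * φ₂ u = 0 := by
        rw [e1] at a2
        linear_combination a2 - b2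
      rcases mul_eq_zero.1 h3 with h4 | h4
      · exact absurd h4 h2'
      · exact h4
    rw [e4, add_zero, hτ, ← e3] at a2
    have ha : j (-(B w w) / 2) ≠ 0 := by
      rw [Ne, map_eq_zero]
      exact div_ne_zero (neg_ne_zero.2 hN) h.two
    have h5 : (ly - lx) * j (-(B w w) / 2) = 0 := by linear_combination a2
    rcases mul_eq_zero.1 h5 with h6 | h6
    · exact (sub_eq_zero.1 h6).symm
    · exact absurd h6 ha
  · -- the alternating case
    have key : ∀ c : F, ∃ l : F', lx = l ∧ τ (j c) * ly = l * j c := by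
      intro c
      obtain ⟨l, hl⟩ := hfix (x + c • y) (halt _)
      refine ⟨l, ?_, ?_⟩
      · have h1 := congrArg φ₁ hl
        simp only [map_add, D.hι, D.hJ, hlx, hly, map_smul, smul_eq_mul, hφ₁x, hφ₁y] at h1
        linear_combination h1
      · have h1 := congrArg φ₂ hl
        simp only [map_add, D.hι, D.hJ, hlx, hly, map_smul, smul_eq_mul, hφ₂x, hφ₂y] at h1
        linear_combination h1
    obtain ⟨l₁, a1, a2⟩ := key 1
    simp only [map_one, one_mul, mul_one] at a2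
    have e1 : lx = ly := by rw [a2, a1]
    refine ⟨e1, ?_⟩
    intro c
    obtain ⟨l, c1, c2⟩ := key c
    rw [← c1, ← e1] at c2
    have h4 : (τ (j c) - j c) * lx = 0 := by linear_combination c2
    rcases mul_eq_zero.1 h4 with h5 | h5
    · exact sub_eq_zero.1 h5
    · exact absurd h5 hlx0

/-- **rigidity**: a semilinear injective map (over an extension field) which fixes every
singular point of a non-degenerate polar space of dimension at least three is a scalar, and its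
field automorphism is trivial on the small field -/
theorem semilinear_rigid (h : IsEpsForm B ε)
    (hdim3 : ∀ x y : V, ∃ w, w ≠ 0 ∧ B x w = 0 ∧ B y w = 0) (D : SemiData j ι τ J)
    (hsing : ∃ x, x ≠ 0 ∧ B x x = 0)
    (hfix : ∀ x, B x x = 0 → ∃ l : F', J (ι x) = l • ι x) :
    (∀ c, τ (j c) = j c) ∧ ∃ l : F', ∀ v, J (ι v) = l • ι v := by
  obtain ⟨x₀, hx₀0, hx₀⟩ := hsing
  obtain ⟨y₀, hy₀, hxy₀⟩ := h.exists_partner hx₀0 hx₀
  obtain ⟨l₀, hl₀⟩ := hfix x₀ hx₀
  obtain ⟨l₀', hl₀'⟩ := hfix y₀ hy₀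
  obtain ⟨e0, hτ⟩ := hyp_pair_rigid h hdim3 D hfix hx₀ hy₀ hxy₀ hl₀ hl₀'
  rw [← e0] at hl₀'
  refine ⟨hτ, l₀, ?_⟩
  -- closure properties
  have hadd : ∀ v₁ v₂, J (ι v₁) = l₀ • ι v₁ → J (ι v₂) = l₀ • ι v₂ →
      J (ι (v₁ + v₂)) = l₀ • ι (v₁ + v₂) := by
    intro v₁ v₂ h1 h2
    rw [map_add, map_add, h1, h2, smul_add]
  have hsmul : ∀ (c : F) v, J (ι v) = l₀ • ι v → J (ι (c • v)) = l₀ • ι (c • v) := by
    intro c v h1
    rw [D.hι, D.hJ, hτ, h1, smul_comm]
  -- propagation along non-orthogonal singular pairs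
  have step : ∀ u z, B u u = 0 → B z z = 0 → B u z ≠ 0 → J (ι u) = l₀ • ι u →
      J (ι z) = l₀ • ι z := by
    intro u z hu hz huz hgu
    obtain ⟨z', hz'⟩ : ∃ z', z' = (B u z)⁻¹ • z := ⟨_, rfl⟩
    have hz's : B z' z' = 0 := by rw [hz', smul_left, smul_right, hz, mul_zero, mul_zero]
    have huz' : B u z' = 1 := by rw [hz', smul_right, inv_mul_cancel₀ huz]
    obtain ⟨l', hl'⟩ := hfix z' hz's
    obtain ⟨e1, -⟩ := hyp_pair_rigid h hdim3 D hfix hu hz's huz' hgu hl'
    rw [← e1] at hl'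
    have h3 : z = (B u z) • z' := by rw [hz', smul_smul, mul_inv_cancel₀ huz, one_smul]
    rw [h3]
    exact hsmul _ _ hl'
  -- all singular vectors
  have hsingall : ∀ z, B z z = 0 → J (ι z) = l₀ • ι z := by
    intro z hz
    by_cases hz0 : z = 0
    · rw [hz0, map_zero, map_zero, smul_zero]
    by_cases hxz : B x₀ z = 0
    · obtain ⟨u, hu, hxu, hzu⟩ := h.exists_sing_both_ne hx₀0 hx₀ hz0 hxz
      have hgu := step x₀ u hx₀ hu (by rw [hxu]; exact one_ne_zero) hl₀
      exact step u z hu hz (h.ne_symm hzu) hgu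
    · exact step x₀ z hx₀ hz hxz hl₀
  -- all vectors
  intro v
  obtain ⟨w, hw⟩ : ∃ w, w = perpPart B ε x₀ y₀ v := ⟨_, rfl⟩
  have hwx : B x₀ w = 0 := by rw [hw]; exact h.perpPart_left hx₀ hxy₀ v
  have hwy : B y₀ w = 0 := by rw [hw]; exact h.perpPart_right hy₀ hxy₀ v
  have hgw : J (ι w) = l₀ • ι w := by
    by_cases hww : B w w = 0
    · exact hsingall w hww
    · have hz := h.sing_combo hx₀ hy₀ hxy₀ hwx hwy 1
      have hgz := hsingall _ hz
      obtain ⟨a, ha⟩ : ∃ a : F, a = -(σ 1 * 1 * B w w) / 2 := ⟨_, rfl⟩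
      rw [← ha] at hgz
      have h4 : w = (x₀ + a • y₀ + (1 : F) • w) + (-1 : F) • x₀ + (-a) • y₀ := by
        module
      rw [h4]
      exact hadd _ _ (hadd _ _ hgz (hsmul _ _ hl₀)) (hsmul _ _ hl₀')
  have h5 := perpPart_add (B := B) (ε := ε) x₀ y₀ v
  rw [← hw] at h5
  rw [h5]
  exact hadd _ _ (hadd _ _ hgw (hsmul _ _ hl₀')) (hsmul _ _ hl₀)

end rigid

end Cfsg.Agent.Helper2.PGeo
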