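import Mathlib

set_option autoImplicit false
set_option linter.unusedSimpArgs false
set_option linter.unusedVariables false
set_option linter.unusedSectionVars false

/-! Polar geometry in odd characteristic, part 3: two lemmas on group actions.  A criterion for
primitivity of a rank three action, and the triviality of the action of normal subgroups of odd
order of a primitive group of even degree. -/

namespace Cfsg.Agent.Helper2.PGeo

open MulAction
open scoped Pointwise

section rank3

variable {G Ω : Type*} [Group G] [MulAction G Ω]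

/-- **primitivity of a rank three action** -/
theorem isPreprimitive_of_rank3 [IsPretransitive G Ω] (r : Ω → Ω → Prop)
    (hsymm : ∀ x y, r x y → r y x)
    (hT2 : ∀ x y y', y ≠ x → y' ≠ x → r x y → r x y' → ∃ g : G, g • x = x ∧ g • y = y')
    (hT3 : ∀ x y y', ¬ r x y → ¬ r x y' → ∃ g : G, g • x = x ∧ g • y = y')
    (hc1 : ∀ x y z, y ≠ x → r x y → ¬ r x z → ∃ y', y' ≠ x ∧ r x y' ∧ y' ≠ z ∧ r y' z)
    (hc2 : ∀ x y, y ≠ x → r x y → ∃ z, ¬ r x z ∧ ¬ r z y) :
    IsPreprimitive G Ω := by
  constructor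
  intro B hB
  by_cases hs : B.Subsingleton
  · exact Or.inl hs
  right
  rw [Set.not_subsingleton_iff] at hs
  obtain ⟨x, hxB, y, hyB, hne⟩ := hs
  -- moving inside a block by an element fixing a point of the block
  have move : ∀ (g : G) (a b : Ω), a ∈ B → b ∈ B → g • a = a → g • b ∈ B := by
    intro g a b ha hb hga
    have hgB : g • B = B := by
      apply hB.smul_eq_of_mem ha
      rw [hga]
      exact ha
    rw [← hgB]
    exact Set.smul_mem_smul_set hb
  have stepA : ∀ a b, a ∈ B → b ∈ B → ¬ r a b → ∀ z, ¬ r a z → z ∈ B := by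
    intro a b ha hb hab z haz
    obtain ⟨g, hga, hgb⟩ := hT3 a b z hab haz
    rw [← hgb]
    exact move g a b ha hb hga
  have stepB : ∀ a b, a ∈ B → b ∈ B → b ≠ a → r a b → ∀ z, z ≠ a → r a z → z ∈ B := by
    intro a b ha hb hba hab z hza haz
    obtain ⟨g, hga, hgb⟩ := hT2 a b z hba hza hab haz
    rw [← hgb]
    exact move g a b ha hb hga
  rw [Set.eq_univ_iff_forall]
  intro p
  by_cases hxy : r x y
  · by_cases hxp : r x p
    · by_cases hpx : p = x
      · rw [hpx]; exact hxB
      · exact stepB x y hxB hyB (Ne.symm hne) hxy p hpx hxp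
    · obtain ⟨y', hy'x, hxy', hy'p, hy'p'⟩ := hc1 x y p (Ne.symm hne) hxy hxp
      have hy'B : y' ∈ B := stepB x y hxB hyB (Ne.symm hne) hxy y' hy'x hxy'
      by_cases hpy' : p = y'
      · rw [hpy']; exact hy'B
      · exact stepB y' x hy'B hxB (Ne.symm hy'x) (hsymm _ _ hxy') p hpy' hy'p'
  · by_cases hxp : r x p
    · by_cases hpx : p = x
      · rw [hpx]; exact hxB
      · obtain ⟨z, hxz, hzp⟩ := hc2 x p hpx hxp
        have hzB : z ∈ B := stepA x y hxB hyB hxy z hxz
        have hzx : ¬ r z x := fun h => hxz (hsymm _ _ h)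
        exact stepA z x hzB hxB hzx p hzp
    · exact stepA x y hxB hyB hxy p hxp

end rank3

section odd

variable {G Ω : Type*} [Group G] [MulAction G Ω]

/-- a finite group all of whose elements have odd order has odd order -/
theorem odd_card_of_forall_odd {P : Type*} [Group P] [Finite P]
    (h : ∀ x : P, Odd (orderOf x)) : Odd (Nat.card P) := by
  rw [← Nat.not_even_iff_odd]
  intro he
  have : Fact (Nat.Prime 2) := ⟨Nat.prime_two⟩
  obtain ⟨x, hx⟩ := exists_prime_orderOf_dvd_card' (G := P) 2 (even_iff_two_dvd.1 he)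
  have := h x
  rw [hx] at this
  exact absurd this (by decide)

/-- in a primitive group of even degree, a normal subgroup all of whose elements act with odd
order acts trivially -/
theorem fixes_of_odd_normal [Finite Ω] [IsPreprimitive G Ω] (hΩ : Even (Nat.card Ω))
    (M : Subgroup G) [M.Normal]
    (hM : ∀ m ∈ M, ∃ k : ℕ, Odd k ∧ ∀ x : Ω, (m ^ k) • x = x) :
    ∀ m ∈ M, ∀ x : Ω, m • x = x := by
  by_contra hcon
  push Not at hcon
  obtain ⟨m₀, hm₀, x₀, hx₀⟩ := hcon
  have hfix : fixedPoints M Ω ≠ Set.univ := by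
    intro h
    apply hx₀
    have h1 : x₀ ∈ fixedPoints M Ω := by rw [h]; trivial
    exact h1 ⟨m₀, hm₀⟩
  have htr : IsPretransitive M Ω := IsQuasiPreprimitive.isPretransitive_of_normal hfix
  -- the image in the symmetric group
  obtain ⟨P, hP⟩ : ∃ P : Subgroup (Equiv.Perm Ω), P = (MulAction.toPermHom M Ω).range :=
    ⟨_, rfl⟩
  have hPodd : ∀ π : P, Odd (orderOf π) := by
    rintro ⟨π, hπ⟩
    rw [hP] at hπ
    obtain ⟨⟨m, hm⟩, rfl⟩ := hπ
    obtain ⟨k, hk, hfixk⟩ := hM m hm
    have h1 : (MulAction.toPermHom M Ω ⟨m, hm⟩) ^ k = 1 := by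
      ext x
      rw [← map_pow]
      exact hfixk x
    have h2 : orderOf (⟨MulAction.toPermHom M Ω ⟨m, hm⟩, hπ⟩ : P) ∣ k := by
      apply orderOf_dvd_of_pow_eq_one
      apply Subtype.ext
      exact h1
    exact Odd.of_dvd_nat hk h2
  have hcardP : Odd (Nat.card P) := odd_card_of_forall_odd hPodd
  -- transitivity of the image
  have hPtr : ∀ y : Ω, ∃ π : P, π • x₀ = y := by
    intro y
    obtain ⟨m, hm⟩ := htr.exists_smul_eq x₀ y
    refine ⟨⟨MulAction.toPermHom M Ω m, by rw [hP]; exact ⟨m, rfl⟩⟩, ?_⟩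
    exact hm
  have horb : orbit P x₀ = Set.univ := by
    rw [Set.eq_univ_iff_forall]
    intro y
    obtain ⟨π, hπ⟩ := hPtr y
    exact ⟨π, hπ⟩
  have hdvd : Nat.card Ω ∣ Nat.card P := by
    have h1 := MulAction.index_stabilizer P x₀
    rw [horb, Set.ncard_univ] at h1
    rw [← h1]
    exact Subgroup.index_dvd_card _
  have : Even (Nat.card P) := by
    obtain ⟨c, hc⟩ := hdvd
    rw [hc]
    exact hΩ.mul_right c
  exact (Nat.not_even_iff_odd.2 hcardP) this

end odd

section overgroup

variable {G Ω : Type*} [Group G] [MulAction G Ω]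

/-- primitivity passes to overgroups -/
theorem isPreprimitive_of_subgroup (H : Subgroup G) [hH : IsPreprimitive H Ω] :
    IsPreprimitive G Ω := by
  have : IsPretransitive G Ω := by
    constructor
    intro x y
    obtain ⟨g, hg⟩ := hH.toIsPretransitive.exists_smul_eq x y
    exact ⟨g, hg⟩
  constructor
  intro B hB
  have hB' : IsBlock H B := by
    rw [isBlock_iff_smul_eq_of_mem]
    intro g a ha hga
    have h1 := hB.smul_eq_of_mem (g := (g : G)) ha hga
    exact h1
  exact hH.isTrivialBlock_of_isBlock hB'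

end overgroup

end Cfsg.Agent.Helper2.PGeo
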