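import Mathlib
import Cfsg.Agent.Lib.Helper2.Pgeo2
import Cfsg.Agent.Lib.Helper2.Pgeo3

set_option autoImplicit false
set_option linter.unusedSimpArgs false
set_option linter.unusedVariables false
set_option linter.unusedSectionVars false

/-! Polar geometry in odd characteristic, part 4: the group of similitudes, its primitive action
on the singular points (from Witt's lemma), and the triviality of its normal subgroups of odd
order modulo scalars. -/

namespace Cfsg.Agent.Helper2.PGeo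

open IsEpsForm MulAction
open scoped LinearAlgebra.Projectivization

variable {F : Type*} [Field F] {V : Type*} [AddCommGroup V] [Module F V] {σ : F →+* F}

section defs

variable (B : V →ₛₗ[σ] V →ₗ[F] F)

/-- the group of similitudes of a form -/
def sim : Subgroup (V ≃ₗ[F] V) where
  carrier := {g | ∃ c : F, c ≠ 0 ∧ ∀ u v, B (g u) (g v) = c * B u v}
  mul_mem' := by
    rintro g g' ⟨c, hc, hg⟩ ⟨c', hc', hg'⟩
    refine ⟨c * c', mul_ne_zero hc hc', fun u v => ?_⟩
    rw [LinearEquiv.mul_apply, LinearEquiv.mul_apply, hg, hg', mul_assoc]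
  one_mem' := ⟨1, one_ne_zero, fun u v => by rw [one_mul]; rfl⟩
  inv_mem' := by
    rintro g ⟨c, hc, hg⟩
    refine ⟨c⁻¹, inv_ne_zero hc, fun u v => ?_⟩
    have h1 := hg (g⁻¹ u) (g⁻¹ v)
    have e : ∀ z, g (g⁻¹ z) = z := fun z => by
      rw [← LinearEquiv.mul_apply, mul_inv_cancel]; rfl
    rw [e, e] at h1
    rw [h1, ← mul_assoc, inv_mul_cancel₀ hc, one_mul]

theorem mem_sim {g : V ≃ₗ[F] V} :
    g ∈ sim B ↔ ∃ c : F, c ≠ 0 ∧ ∀ u v, B (g u) (g v) = c * B u v := Iff.rfl

theorem iso_mem_sim {g : V ≃ₗ[F] V} (hg : ∀ u v, B (g u) (g v) = B u v) : g ∈ sim B :=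
  ⟨1, one_ne_zero, fun u v => by rw [hg, one_mul]⟩

/-- Witt's lemma for singular vectors -/
def Witt1 : Prop :=
  ∀ x y : V, x ≠ 0 → y ≠ 0 → B x x = 0 → B y y = 0 →
    ∃ g : V ≃ₗ[F] V, (∀ u v, B (g u) (g v) = B u v) ∧ g x = y

/-- Witt's lemma for pairs of singular vectors with a common first member -/
def Witt2 : Prop :=
  ∀ x y y' : V, B x x = 0 → B y y = 0 → B y' y' = 0 → LinearIndependent F ![x, y] →
    LinearIndependent F ![x, y'] → B x y = B x y' →
    ∃ g : V ≃ₗ[F] V, (∀ u v, B (g u) (g v) = B u v) ∧ g x = x ∧ g y = y'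

/-- singular points -/
def singP (p : ℙ F V) : Prop := B p.rep p.rep = 0

theorem singP_mk (v : V) (hv : v ≠ 0) : singP B (Projectivization.mk F v hv) ↔ B v v = 0 := by
  unfold singP
  obtain ⟨a, ha⟩ := Projectivization.exists_smul_eq_mk_rep F v hv
  rw [← ha, Units.smul_def, smul_left, smul_right]
  have h1 : (a : F) ≠ 0 := a.ne_zero
  have h2 : σ (a : F) ≠ 0 := (map_ne_zero σ).2 h1
  constructor
  · intro h
    rcases mul_eq_zero.1 h with h3 | h3
    · exact absurd h3 h2
    · rcases mul_eq_zero.1 h3 with h4 | h4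
      · exact absurd h4 h1
      · exact h4
  · intro h
    rw [h, mul_zero, mul_zero]

/-- the singular points, with the action of the similitudes -/
def singPts : SubMulAction (sim B) (ℙ F V) where
  carrier := {p | singP B p}
  smul_mem' := by
    intro g p hp
    induction p using Projectivization.ind with
    | h v hv =>
      have hp' : B v v = 0 := (singP_mk B v hv).1 hp
      obtain ⟨c, hc, hg⟩ := g.2
      have h1 : (g : V ≃ₗ[F] V) v ≠ 0 := by
        intro h
        apply hv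
        exact (g : V ≃ₗ[F] V).injective (h.trans (map_zero _).symm)
      have h2 : g • Projectivization.mk F v hv =
          Projectivization.mk F ((g : V ≃ₗ[F] V) v) h1 := rfl
      show singP B (g • Projectivization.mk F v hv)
      rw [h2, singP_mk, hg, hp', mul_zero]

instance singPtsMulAction : MulAction (sim B) (singPts B) := (singPts B).mulAction

variable {B}

/-- the singular point spanned by a non-zero singular vector -/
def pt (x : V) (hx0 : x ≠ 0) (hx : B x x = 0) : singPts B :=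
  ⟨Projectivization.mk F x hx0, (singP_mk B x hx0).2 hx⟩

theorem exists_pt (p : singPts B) : ∃ x hx0 hx, p = pt (B := B) x hx0 hx := by
  obtain ⟨p, hp⟩ := p
  refine ⟨p.rep, p.rep_nonzero, hp, ?_⟩
  apply Subtype.ext
  show p = Projectivization.mk F p.rep _
  rw [Projectivization.mk_rep]

theorem smul_pt (g : sim B) {x : V} (hx0 : x ≠ 0) (hx : B x x = 0) :
    ∃ h1 h2, g • pt (B := B) x hx0 hx = pt ((g : V ≃ₗ[F] V) x) h1 h2 := by
  have h1 : (g : V ≃ₗ[F] V) x ≠ 0 := by
    intro h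
    apply hx0
    have := (g : V ≃ₗ[F] V).injective (h.trans (map_zero _).symm)
    exact this
  obtain ⟨c, hc, hg⟩ := g.2
  have h2 : B ((g : V ≃ₗ[F] V) x) ((g : V ≃ₗ[F] V) x) = 0 := by rw [hg, hx, mul_zero]
  exact ⟨h1, h2, rfl⟩

theorem pt_eq_of_smul {x y : V} (hx0 : x ≠ 0) (hx : B x x = 0) (hy0 : y ≠ 0) (hy : B y y = 0)
    (a : F) (h : y = a • x) : pt (B := B) y hy0 hy = pt x hx0 hx := by
  apply Subtype.ext
  show Projectivization.mk F y hy0 = Projectivization.mk F x hx0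
  rw [Projectivization.mk_eq_mk_iff']
  exact ⟨a, h.symm⟩

theorem exists_smul_of_pt_eq {x y : V} (hx0 : x ≠ 0) (hx : B x x = 0) (hy0 : y ≠ 0)
    (hy : B y y = 0) (h : pt (B := B) y hy0 hy = pt x hx0 hx) : ∃ a : F, a ≠ 0 ∧ y = a • x := by
  have h1 : Projectivization.mk F y hy0 = Projectivization.mk F x hx0 := congrArg Subtype.val h
  rw [Projectivization.mk_eq_mk_iff'] at h1
  obtain ⟨a, ha⟩ := h1
  refine ⟨a, ?_, ha.symm⟩
  rintro rfl
  rw [zero_smul] at ha
  exact hy0 ha.symm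

/-- orthogonality of singular points -/
def perpP (p q : singPts B) : Prop := B p.1.rep q.1.rep = 0

theorem perpP_pt {x y : V} (hx0 : x ≠ 0) (hx : B x x = 0) (hy0 : y ≠ 0) (hy : B y y = 0) :
    perpP (pt (B := B) x hx0 hx) (pt y hy0 hy) ↔ B x y = 0 := by
  unfold perpP
  show B (Projectivization.mk F x hx0).rep (Projectivization.mk F y hy0).rep = 0 ↔ _
  obtain ⟨a, ha⟩ := Projectivization.exists_smul_eq_mk_rep F x hx0
  obtain ⟨b, hb⟩ := Projectivization.exists_smul_eq_mk_rep F y hy0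
  rw [← ha, ← hb, Units.smul_def, Units.smul_def, smul_left, smul_right]
  have h1 : σ (a : F) ≠ 0 := (map_ne_zero σ).2 a.ne_zero
  have h2 : (b : F) ≠ 0 := b.ne_zero
  constructor
  · intro h
    rcases mul_eq_zero.1 h with h3 | h3
    · exact absurd h3 h1
    · rcases mul_eq_zero.1 h3 with h4 | h4
      · exact absurd h4 h2
      · exact h4
  · intro h
    rw [h, mul_zero, mul_zero]

end defs

section prim

variable {B : V →ₛₗ[σ] V →ₗ[F] F} {ε : F}

theorem indep_of_pt_ne {x y : V} (hx0 : x ≠ 0) (hx : B x x = 0) (hy0 : y ≠ 0) (hy : B y y = 0)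
    (hne : pt (B := B) y hy0 hy ≠ pt x hx0 hx) : LinearIndependent F ![x, y] := by
  rw [LinearIndependent.pair_iff' hx0]
  intro a ha
  exact hne (pt_eq_of_smul hx0 hx hy0 hy a ha.symm)

theorem indep_of_ne_zero {x y : V} (hx : B x x = 0) (hxy : B x y ≠ 0) :
    LinearIndependent F ![x, y] := by
  have hx0 : x ≠ 0 := by
    rintro rfl
    rw [zero_left] at hxy
    exact hxy rfl
  rw [LinearIndependent.pair_iff' hx0]
  intro a ha
  rw [← ha, smul_right, hx, mul_zero] at hxy
  exact hxy rfl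

/-- **the similitudes act primitively on the singular points** -/
theorem isPreprimitive_singPts (h : IsEpsForm B ε) (hW1 : Witt1 B) (hW2 : Witt2 B) :
    IsPreprimitive (sim B) (singPts B) := by
  have htr : IsPretransitive (sim B) (singPts B) := by
    constructor
    intro p q
    obtain ⟨x, hx0, hx, rfl⟩ := exists_pt p
    obtain ⟨y, hy0, hy, rfl⟩ := exists_pt q
    obtain ⟨g, hg, hgx⟩ := hW1 x y hx0 hy0 hx hy
    refine ⟨⟨g, iso_mem_sim B hg⟩, ?_⟩
    obtain ⟨h1, h2, h3⟩ := smul_pt (⟨g, iso_mem_sim B hg⟩ : sim B) hx0 hx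
    rw [h3]
    apply pt_eq_of_smul _ _ _ _ 1
    rw [one_smul]
    exact hgx
  apply isPreprimitive_of_rank3 (perpP (B := B))
  · -- symmetry
    intro p q hpq
    obtain ⟨x, hx0, hx, rfl⟩ := exists_pt p
    obtain ⟨y, hy0, hy, rfl⟩ := exists_pt q
    rw [perpP_pt] at hpq ⊢
    exact h.perp_symm hpq
  · -- orthogonal neighbours
    intro p q q' hqp hq'p hpq hpq'
    obtain ⟨x, hx0, hx, rfl⟩ := exists_pt p
    obtain ⟨y, hy0, hy, rfl⟩ := exists_pt q
    obtain ⟨y', hy'0, hy', rfl⟩ := exists_pt q'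
    rw [perpP_pt] at hpq hpq'
    obtain ⟨g, hg, hgx, hgy⟩ := hW2 x y y' hx hy hy' (indep_of_pt_ne hx0 hx hy0 hy hqp)
      (indep_of_pt_ne hx0 hx hy'0 hy' hq'p) (by rw [hpq, hpq'])
    refine ⟨⟨g, iso_mem_sim B hg⟩, ?_, ?_⟩
    · obtain ⟨h1, h2, h3⟩ := smul_pt (⟨g, iso_mem_sim B hg⟩ : sim B) hx0 hx
      rw [h3]
      apply pt_eq_of_smul _ _ _ _ 1
      rw [one_smul]
      exact hgx
    · obtain ⟨h1, h2, h3⟩ := smul_pt (⟨g, iso_mem_sim B hg⟩ : sim B) hy0 hy
      rw [h3]
      apply pt_eq_of_smul _ _ _ _ 1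
      rw [one_smul]
      exact hgy
  · -- non-orthogonal neighbours
    intro p q q' hpq hpq'
    obtain ⟨x, hx0, hx, rfl⟩ := exists_pt p
    obtain ⟨y, hy0, hy, rfl⟩ := exists_pt q
    obtain ⟨y', hy'0, hy', rfl⟩ := exists_pt q'
    rw [perpP_pt] at hpq hpq'
    obtain ⟨y'', hy''⟩ : ∃ y'', y'' = (B x y / B x y') • y' := ⟨_, rfl⟩
    have hs'' : B y'' y'' = 0 := by rw [hy'', smul_left, smul_right, hy', mul_zero, mul_zero]
    have hxy'' : B x y'' = B x y := by rw [hy'', smul_right, div_mul_cancel₀ _ hpq']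
    obtain ⟨g, hg, hgx, hgy⟩ := hW2 x y y'' hx hy hs'' (indep_of_ne_zero hx hpq)
      (indep_of_ne_zero hx (by rw [hxy'']; exact hpq)) hxy''.symm
    refine ⟨⟨g, iso_mem_sim B hg⟩, ?_, ?_⟩
    · obtain ⟨h1, h2, h3⟩ := smul_pt (⟨g, iso_mem_sim B hg⟩ : sim B) hx0 hx
      rw [h3]
      apply pt_eq_of_smul _ _ _ _ 1
      rw [one_smul]
      exact hgx
    · obtain ⟨h1, h2, h3⟩ := smul_pt (⟨g, iso_mem_sim B hg⟩ : sim B) hy0 hy
      rw [h3]
      apply pt_eq_of_smul _ _ _ _ (B x y / B x y')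
      rw [← hy'']
      exact hgy
  · -- first connecting lemma
    intro p q t hqp hpq hpt
    obtain ⟨x, hx0, hx, rfl⟩ := exists_pt p
    obtain ⟨y, hy0, hy, rfl⟩ := exists_pt q
    obtain ⟨z, hz0, hz, rfl⟩ := exists_pt t
    rw [perpP_pt] at hpq hpt
    have hzx : B z x ≠ 0 := h.ne_symm hpt
    obtain ⟨c, hc⟩ : ∃ c, c = B z y / B z x := ⟨_, rfl⟩
    obtain ⟨h1, h2, h3⟩ := h.connect_perp hx hy hpq hzx
    rw [← hc] at h1 h2 h3
    have hy'0 : y - c • x ≠ 0 := by
      intro h0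
      apply hqp
      apply pt_eq_of_smul _ _ _ _ c
      exact sub_eq_zero.1 h0
    refine ⟨pt (y - c • x) hy'0 h1, ?_, ?_, ?_, ?_⟩
    · intro h4
      obtain ⟨a, -, ha⟩ := exists_smul_of_pt_eq hx0 hx hy'0 h1 h4
      apply hqp
      apply pt_eq_of_smul _ _ _ _ (a + c)
      rw [add_smul, ← ha]
      abel
    · rw [perpP_pt]
      exact h2
    · intro h4
      obtain ⟨a, -, ha⟩ := exists_smul_of_pt_eq hz0 hz hy'0 h1 h4
      have h5 : B x (y - c • x) = a * B x z := by rw [ha, smul_right]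
      rw [h2] at h5
      rcases mul_eq_zero.1 h5.symm with h6 | h6
      · rw [h6, zero_smul] at ha
        exact hy'0 ha
      · exact hpt h6
    · rw [perpP_pt]
      exact h.perp_symm h3
  · -- second connecting lemma
    intro p q hqp hpq
    obtain ⟨x, hx0, hx, rfl⟩ := exists_pt p
    obtain ⟨y, hy0, hy, rfl⟩ := exists_pt q
    rw [perpP_pt] at hpq
    obtain ⟨z, hz, hxz, hyz⟩ := h.exists_sing_both_ne hx0 hx hy0 hpq
    have hz0 : z ≠ 0 := by
      rintro rfl
      rw [map_zero] at hxz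
      exact zero_ne_one hxz
    refine ⟨pt z hz0 hz, ?_, ?_⟩
    · rw [perpP_pt, hxz]
      exact one_ne_zero
    · rw [perpP_pt]
      exact h.ne_symm hyz

end prim

end Cfsg.Agent.Helper2.PGeo
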