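import Mathlib
import Cfsg.Agent.Lib.Helper2.Pgeo4

set_option autoImplicit false
set_option linter.unusedSimpArgs false
set_option linter.unusedVariables false
set_option linter.unusedSectionVars false

/-! Polar geometry in odd characteristic, part 5: normal subgroups of the group of similitudes
which have odd order modulo scalars consist of scalars. -/

namespace Cfsg.Agent.Helper2.PGeo

open IsEpsForm MulAction
open scoped LinearAlgebra.Projectivization

variable {F : Type*} [Field F] {V : Type*} [AddCommGroup V] [Module F V] {σ : F →+* F}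
  {B : V →ₛₗ[σ] V →ₗ[F] F} {ε : F}

/-- a linear map fixing all singular points is a scalar -/
theorem scalar_of_fixes (h : IsEpsForm B ε)
    (hdim3 : ∀ x y : V, ∃ w, w ≠ 0 ∧ B x w = 0 ∧ B y w = 0)
    (hsing : ∃ x, x ≠ 0 ∧ B x x = 0) (m : V ≃ₗ[F] V)
    (hfix : ∀ x, B x x = 0 → ∃ l : F, m x = l • x) : ∃ c : F, ∀ v, m v = c • v := by
  have D : SemiData (RingHom.id F) (AddMonoidHom.id V) (RingHom.id F)
      (m : V →ₗ[F] V).toAddMonoidHom := by
    refine ⟨fun c v => rfl, fun φ => ⟨φ, fun v => rfl⟩, fun c v => ?_, m.injective⟩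
    exact map_smul m c v
  obtain ⟨-, l, hl⟩ := semilinear_rigid h hdim3 D hsing hfix
  exact ⟨l, hl⟩

theorem scalar_of_odd_normal [Finite F] [FiniteDimensional F V] (h : IsEpsForm B ε)
    (hdim3 : ∀ x y : V, ∃ w, w ≠ 0 ∧ B x w = 0 ∧ B y w = 0)
    (hsing : ∃ x, x ≠ 0 ∧ B x x = 0) (hW1 : Witt1 B) (hW2 : Witt2 B)
    (hpar : Even (Nat.card (singPts B)))
    (M : Subgroup (V ≃ₗ[F] V)) (hM : M ≤ sim B)
    (hnorm : ∀ g ∈ sim B, ∀ m ∈ M, g * m * g⁻¹ ∈ M)
    (hodd : ∀ m ∈ M, ∃ k : ℕ, Odd k ∧ ∃ c : F, ∀ v, (m ^ k) v = c • v) :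
    ∀ m ∈ M, ∃ c : F, ∀ v, m v = c • v := by
  have hfinV : Finite V := Module.finite_of_finite F
  have hfinΩ : Finite (singPts B) := Subtype.finite
  have hprim : IsPreprimitive (sim B) (singPts B) := isPreprimitive_singPts h hW1 hW2
  obtain ⟨M', hM'⟩ : ∃ M' : Subgroup (sim B), M' = M.subgroupOf (sim B) := ⟨_, rfl⟩
  have hM'n : M'.Normal := by
    constructor
    intro n hn g
    rw [hM', Subgroup.mem_subgroupOf] at hn ⊢
    exact hnorm g g.2 n hn
  have hM'odd : ∀ m ∈ M', ∃ k : ℕ, Odd k ∧ ∀ p : singPts B, (m ^ k) • p = p := by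
    intro m hm
    rw [hM', Subgroup.mem_subgroupOf] at hm
    obtain ⟨k, hk, c, hc⟩ := hodd m hm
    refine ⟨k, hk, fun p => ?_⟩
    obtain ⟨x, hx0, hx, rfl⟩ := exists_pt p
    obtain ⟨h1, h2, h3⟩ := smul_pt (m ^ k) hx0 hx
    rw [h3]
    apply pt_eq_of_smul _ _ _ _ c
    have h4 : ((m ^ k : sim B) : V ≃ₗ[F] V) = (m : V ≃ₗ[F] V) ^ k := by
      rw [SubgroupClass.coe_pow]
    rw [h4]
    exact hc x
  have hfix := fixes_of_odd_normal hpar M' hM'odd
  intro m hm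
  apply scalar_of_fixes h hdim3 hsing m
  intro x hx
  by_cases hx0 : x = 0
  · exact ⟨0, by rw [hx0, map_zero, smul_zero]⟩
  have hmM' : (⟨m, hM hm⟩ : sim B) ∈ M' := by
    rw [hM', Subgroup.mem_subgroupOf]
    exact hm
  have h1 := hfix _ hmM' (pt x hx0 hx)
  obtain ⟨h2, h3, h4⟩ := smul_pt (⟨m, hM hm⟩ : sim B) hx0 hx
  rw [h4] at h1
  obtain ⟨a, -, ha⟩ := exists_smul_of_pt_eq hx0 hx h2 h3 h1
  exact ⟨a, ha⟩

end Cfsg.Agent.Helper2.PGeo
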