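import Mathlib
import Cfsg.Agent.Lib.Helper2.Pgeo5

set_option autoImplicit false
set_option linter.unusedSimpArgs false
set_option linter.unusedVariables false
set_option linter.unusedSectionVars false

/-! Polar geometry in odd characteristic, part 6: the number of singular points is even. -/

namespace Cfsg.Agent.Helper2.PGeo

open IsEpsForm MulAction
open scoped LinearAlgebra.Projectivization

universe u v

section refl

variable {F : Type v} [Field F] {σ : F →+* F} {ε : F} {V : Type u} [AddCommGroup V] [Module F V]
  {B : V →ₛₗ[σ] V →ₗ[F] F}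

/-- unless the form is alternating bilinear, a non-zero space has a non-singular vector -/
theorem exists_nonsing (h : IsEpsForm B ε) (hεσ : ¬ ((∀ c, σ c = c) ∧ ε = -1))
    (hV : ∃ v : V, v ≠ 0) : ∃ e, B e e ≠ 0 := by
  by_contra hcon
  push Not at hcon
  obtain ⟨v, hv⟩ := hV
  obtain ⟨v', hb⟩ : ∃ v', B v v' ≠ 0 := by
    by_contra hc
    push Not at hc
    exact hv (h.nondeg v hc)
  have key : ∀ c : F, c * B v v' + σ c * (ε * σ (B v v')) = 0 := by
    intro c
    have h3 := hcon (v + c • v')
    rw [add_left, map_add, map_add, smul_left, smul_left, smul_right, smul_right,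
      hcon v, hcon v', h.symm v v'] at h3
    linear_combination h3
  have k1 := key 1
  rw [map_one, one_mul, one_mul] at k1
  have hσ : ∀ c, σ c = c := by
    intro c
    have k2 := key c
    have h4 : (c - σ c) * B v v' = 0 := by linear_combination k2 - σ c * k1
    rcases mul_eq_zero.1 h4 with h5 | h5
    · exact (sub_eq_zero.1 h5).symm
    · exact absurd h5 hb
  have hε : ε = -1 := by
    rw [hσ] at k1
    have h4 : (1 + ε) * B v v' = 0 := by linear_combination k1
    rcases mul_eq_zero.1 h4 with h5 | h5
    · linear_combination h5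
    · exact absurd h5 hb
  exact hεσ ⟨hσ, hε⟩

/-- the reflection in a non-singular vector -/
noncomputable def reflMap (B : V →ₛₗ[σ] V →ₗ[F] F) (e : V) : V →ₗ[F] V :=
  LinearMap.id - (2 / B e e) • (B e).smulRight e

theorem reflMap_apply (e v : V) : reflMap B e v = v - (2 / B e e * B e v) • e := by
  unfold reflMap
  rw [LinearMap.sub_apply, LinearMap.id_apply, LinearMap.smul_apply, LinearMap.smulRight_apply,
    smul_smul]

theorem reflMap_involutive {e : V} (he : B e e ≠ 0) : Function.Involutive (reflMap B e) := by
  intro v
  rw [reflMap_apply, reflMap_apply, map_sub, smul_right]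
  have h1 : (2 / B e e * (B e v - 2 / B e e * B e v * B e e)) = -(2 / B e e * B e v) := by
    field_simp
    ring
  rw [h1]
  module

theorem reflMap_isom (h : IsEpsForm B ε) {e : V} (he : B e e ≠ 0) (u v : V) :
    B (reflMap B e u) (reflMap B e v) = B u v := by
  rw [reflMap_apply, reflMap_apply, sub_left, map_sub, map_sub, smul_left, smul_left, smul_right,
    smul_right, h.symm e u, map_mul, map_div₀, sig_two, h.sig_self]
  have h2 := h.eps_mul_self
  have hε0 : ε ≠ 0 := by
    intro h0
    rw [h0, mul_zero] at h2
    exact zero_ne_one h2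
  field_simp
  linear_combination (-(2 * σ (B e u) * B e v)) * h2

/-- the reflection, as a linear equivalence -/
noncomputable def reflEquiv (B : V →ₛₗ[σ] V →ₗ[F] F) {e : V} (he : B e e ≠ 0) : V ≃ₗ[F] V :=
  LinearEquiv.ofInvolutive (reflMap B e) (reflMap_involutive he)

theorem reflEquiv_apply {e : V} (he : B e e ≠ 0) (v : V) :
    reflEquiv B he v = v - (2 / B e e * B e v) • e := reflMap_apply e v

end refl

section induct

theorem card_modEq_of_involution {α β : Type*} [Finite α] (f : α → α) (hf : ∀ x, f (f x) = x)
    (g : β → α) (hg : Function.Injective g) (hrange : ∀ x, f x = x ↔ ∃ b, g b = x) :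
    Nat.card α ≡ Nat.card β [MOD 2] := by
  classical
  have : Fintype α := Fintype.ofFinite α
  have : Fact (Nat.Prime 2) := ⟨Nat.prime_two⟩
  obtain ⟨f', hf'⟩ : ∃ f' : Function.End α, f' = f := ⟨f, rfl⟩
  have h1 : f' ^ 2 ^ 1 = 1 := by
    rw [pow_one, pow_two, hf']
    funext x
    exact hf x
  have h2 := Equiv.Perm.card_fixedPoints_modEq (f := f') (p := 2) (n := 1) h1
  have h3 : ∀ x, x ∈ Function.fixedPoints (f' : α → α) ↔ x ∈ Set.range g := by
    intro x
    have : x ∈ Function.fixedPoints (f' : α → α) ↔ f x = x := by
      rw [hf']; rfl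
    rw [this, Set.mem_range]
    exact hrange x
  have h4 : Nat.card β = Nat.card (Function.fixedPoints (f' : α → α)) := by
    have e1 : Nat.card β = Nat.card (Set.range g) := Nat.card_congr (Equiv.ofInjective g hg)
    rw [e1]
    exact Nat.card_congr (Equiv.subtypeEquivRight fun x => (h3 x).symm)
  rw [Nat.card_eq_fintype_card, h4, Nat.card_eq_fintype_card]
  exact h2

variable {F : Type v} [Field F] {σ : F →+* F} {ε : F}

theorem isEpsForm_restrict {V : Type u} [AddCommGroup V] [Module F V]
    {B : V →ₛₗ[σ] V →ₗ[F] F} (h : IsEpsForm B ε) {e : V} (he : B e e ≠ 0) :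
    IsEpsForm (B.domRestrict₁₂ (LinearMap.ker (B e)) (LinearMap.ker (B e))) ε := by
  refine ⟨h.two, h.sig, h.eps, fun x y => h.symm x y, ?_⟩
  intro w hw
  apply Subtype.ext
  apply h.nondeg
  intro v
  have hwe : B e w = 0 := w.2
  obtain ⟨c, hc⟩ : ∃ c, c = B e v / B e e := ⟨_, rfl⟩
  have hw' : v - c • e ∈ LinearMap.ker (B e) := by
    rw [LinearMap.mem_ker, map_sub, smul_right, hc, div_mul_cancel₀ _ he, sub_self]
  have h1 : B w (v - c • e) = 0 := hw ⟨v - c • e, hw'⟩
  have h2 : B w v = B w (v - c • e) + c * B w e := by
    rw [map_sub, smul_right]; ring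
  rw [h2, h1, h.perp_symm hwe]
  show (0 : F) + c * 0 = 0
  ring

theorem finrank_ker_add_one {V : Type u} [AddCommGroup V] [Module F V] [FiniteDimensional F V]
    {B : V →ₛₗ[σ] V →ₗ[F] F} {e : V} (he : B e e ≠ 0) :
    Module.finrank F (LinearMap.ker (B e)) + 1 = Module.finrank F V := by
  have h1 := LinearMap.finrank_range_add_finrank_ker (B e)
  have h2 : LinearMap.range (B e) = ⊤ := by
    rw [LinearMap.range_eq_top]
    intro c
    exact ⟨(c / B e e) • e, by rw [smul_right (B := B), div_mul_cancel₀ _ he]⟩
  rw [h2, finrank_top, Module.finrank_self] at h1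
  omega

theorem singP_map {V : Type u} [AddCommGroup V] [Module F V] (B : V →ₛₗ[σ] V →ₗ[F] F)
    (W : Submodule F V) (p : ℙ F W) :
    singP B (Projectivization.map W.subtype W.injective_subtype p) ↔
      singP (B.domRestrict₁₂ W W) p := by
  induction p using Projectivization.ind with
  | h w hw =>
    rw [Projectivization.map_mk, singP_mk, singP_mk]
    rfl

theorem even_card_singPts_aux [Finite F] (hεσ : ¬ ((∀ c, σ c = c) ∧ ε = -1)) :
    ∀ (n : ℕ) (V : Type u) [AddCommGroup V] [Module F V] [FiniteDimensional F V]
      (B : V →ₛₗ[σ] V →ₗ[F] F), IsEpsForm B ε → Module.finrank F V = n →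
      Even (Nat.card (singPts B)) := by
  intro n
  induction n with
  | zero =>
    intro V _ _ _ B h hn
    have hsub : Subsingleton V := Module.finrank_zero_iff.1 hn
    have : IsEmpty (singPts B) := ⟨fun p => p.1.rep_nonzero (Subsingleton.elim _ _)⟩
    rw [Nat.card_of_isEmpty]
    exact ⟨0, rfl⟩
  | succ n ih =>
    intro V _ _ _ B h hn
    have hfinV : Finite V := Module.finite_of_finite F
    have hV : ∃ v : V, v ≠ 0 := by
      by_contra hc
      push Not at hc
      have : Subsingleton V := ⟨fun a b => by rw [hc a, hc b]⟩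
      rw [Module.finrank_zero_of_subsingleton] at hn
      omega
    obtain ⟨e, he⟩ := exists_nonsing h hεσ hV
    obtain ⟨W, hWdef⟩ : ∃ W : Submodule F V, W = LinearMap.ker (B e) := ⟨_, rfl⟩
    have hmemW : ∀ v, v ∈ W ↔ B e v = 0 := by
      intro v
      rw [hWdef, LinearMap.mem_ker]
    have hW : IsEpsForm (B.domRestrict₁₂ W W) ε := by
      rw [hWdef]
      exact isEpsForm_restrict h he
    have hWn : Module.finrank F W = n := by
      have := finrank_ker_add_one (B := B) he
      rw [hWdef]
      omega
    have ihW := ih W (B.domRestrict₁₂ W W) hW hWn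
    -- the reflection, acting on singular points
    have htsim : reflEquiv B he ∈ sim B := iso_mem_sim B (reflMap_isom h he)
    obtain ⟨t, ht⟩ : ∃ t : sim B, t = ⟨reflEquiv B he, htsim⟩ := ⟨_, rfl⟩
    have htt : t * t = 1 := by
      apply Subtype.ext
      rw [ht]
      apply LinearEquiv.ext
      intro v
      exact reflMap_involutive he v
    have hfinΩ : Finite (singPts B) := Subtype.finite
    have key := card_modEq_of_involution (α := singPts B) (β := singPts (B.domRestrict₁₂ W W))
      (fun p => t • p) (fun p => by rw [smul_smul, htt, one_smul])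
      (fun q => ⟨Projectivization.map W.subtype W.injective_subtype q.1,
        (singP_map B W q.1).2 q.2⟩)
      (by
        intro q q' hqq'
        apply Subtype.ext
        have h1 : Projectivization.map W.subtype W.injective_subtype q.1 =
            Projectivization.map W.subtype W.injective_subtype q'.1 := congrArg Subtype.val hqq'
        exact Projectivization.map_injective _ W.injective_subtype h1)
      (by
        intro p
        obtain ⟨x, hx0, hx, rfl⟩ := exists_pt p
        obtain ⟨h1, h2, h3⟩ := smul_pt t hx0 hx
        have htx : (t : V ≃ₗ[F] V) x = x - (2 / B e e * B e x) • e := by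
          rw [ht]
          exact reflEquiv_apply he x
        constructor
        · intro hfix
          rw [h3] at hfix
          obtain ⟨a, ha0, ha⟩ := exists_smul_of_pt_eq hx0 hx h1 h2 hfix
          rw [htx] at ha
          have hex : B e x = 0 := by
            by_contra hne
            have hc : 2 / B e e * B e x ≠ 0 :=
              mul_ne_zero (div_ne_zero h.two he) hne
            have h4 : e = ((1 - a) / (2 / B e e * B e x)) • x := by
              have h5 : (2 / B e e * B e x) • e = (1 - a) • x := by
                rw [sub_smul, one_smul, ← ha]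
                abel
              rw [div_eq_inv_mul, ← smul_smul, ← h5, smul_smul, inv_mul_cancel₀ hc, one_smul]
            apply he
            rw [h4, smul_left, smul_right, hx, mul_zero, mul_zero]
          have hxW : x ∈ W := (hmemW x).2 hex
          have hx0' : (⟨x, hxW⟩ : W) ≠ 0 := by
            intro h0
            exact hx0 (congrArg Subtype.val h0)
          exact ⟨pt (B := B.domRestrict₁₂ W W) ⟨x, hxW⟩ hx0' hx, rfl⟩
        · rintro ⟨q, hq⟩
          obtain ⟨w, hw0, hw, rfl⟩ := exists_pt q
          have hw0' : (w : V) ≠ 0 := fun h0 => hw0 (Subtype.ext h0)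
          have hq' : pt (B := B) (w : V) hw0' hw = pt x hx0 hx := hq
          obtain ⟨a, ha0, ha⟩ := exists_smul_of_pt_eq hx0 hx hw0' hw hq'
          have hex : B e x = 0 := by
            have h4 : B e (w : V) = 0 := (hmemW _).1 w.2
            rw [ha, smul_right] at h4
            rcases mul_eq_zero.1 h4 with h5 | h5
            · exact absurd h5 ha0
            · exact h5
          rw [h3]
          apply pt_eq_of_smul _ _ _ _ 1
          rw [htx, hex, mul_zero, zero_smul, sub_zero, one_smul])
    rw [Nat.even_iff] at ihW ⊢
    rw [← ihW]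
    exact key

end induct

section final

variable {F : Type v} [Field F] [Finite F] {σ : F →+* F} {ε : F} {V : Type u} [AddCommGroup V]
  [Module F V] [FiniteDimensional F V] {B : V →ₛₗ[σ] V →ₗ[F] F}

/-- **parity**: unless the form is alternating bilinear, the number of singular points of a
non-degenerate form is even -/
theorem even_card_singPts (h : IsEpsForm B ε) (hεσ : ¬ ((∀ c, σ c = c) ∧ ε = -1)) :
    Even (Nat.card (singPts B)) :=
  even_card_singPts_aux hεσ _ V B h rfl

theorem odd_card_field (h2 : (2 : F) ≠ 0) : Odd (Nat.card F) := by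
  have : Fintype F := Fintype.ofFinite F
  rw [Nat.card_eq_fintype_card, Nat.odd_iff]
  apply FiniteField.odd_card_of_char_ne_two
  intro hc
  have : CharP F 2 := by
    rw [← hc]
    exact ringChar.charP F
  apply h2
  have := CharP.cast_eq_zero F 2
  exact_mod_cast this

theorem even_geom_sum (q k : ℕ) (hq : Odd q) : Even (∑ i ∈ Finset.range (2 * k), q ^ i) := by
  induction k with
  | zero => simp
  | succ k ih =>
    have h1 : 2 * (k + 1) = 2 * k + 1 + 1 := by ring
    rw [h1, Finset.sum_range_succ, Finset.sum_range_succ, add_assoc]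
    apply ih.add
    have h2 : q ^ (2 * k) + q ^ (2 * k + 1) = q ^ (2 * k) * (1 + q) := by ring
    rw [h2]
    apply Even.mul_left
    obtain ⟨m, hm⟩ := hq
    exact ⟨m + 1, by omega⟩

/-- **parity**, alternating case -/
theorem even_card_singPts_alt (h : IsEpsForm B ε) (halt : ∀ v, B v v = 0)
    (hn : Even (Module.finrank F V)) : Even (Nat.card (singPts B)) := by
  have e1 : Nat.card (singPts B) = Nat.card (ℙ F V) := by
    apply Nat.card_congr
    refine ⟨fun p => p.1, fun p => ⟨p, halt _⟩, fun p => rfl, fun p => rfl⟩
  rw [e1, Projectivization.card_of_finrank F V rfl]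
  obtain ⟨k, hk⟩ := hn
  have h1 : Module.finrank F V = 2 * k := by omega
  rw [h1]
  exact even_geom_sum _ k (odd_card_field h.two)

end final

end Cfsg.Agent.Helper2.PGeo
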