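import Mathlib
import Cfsg.Agent.Lib.Helper2.Pgeo1

set_option autoImplicit false
set_option linter.unusedSimpArgs false
set_option linter.unusedVariables false
set_option linter.unusedSectionVars false

/-! Polar geometry in odd characteristic, part 7: Siegel transformations (unipotent isometries
attached to a singular vector). -/

namespace Cfsg.Agent.Helper2.PGeo

open IsEpsForm

variable {F : Type*} [Field F] {V : Type*} [AddCommGroup V] [Module F V] {σ : F →+* F}
  {B : V →ₛₗ[σ] V →ₗ[F] F} {ε : F}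

/-- the nilpotent part of a Siegel transformation -/
noncomputable def siegN (B : V →ₛₗ[σ] V →ₗ[F] F) (ε : F) (x w : V) (α : F) : V →ₗ[F] V :=
  (B x).smulRight w + (α • B x - ε • B w).smulRight x

theorem siegN_apply (x w : V) (α : F) (v : V) :
    siegN B ε x w α v = B x v • w + (α * B x v - ε * B w v) • x := by
  unfold siegN
  rw [LinearMap.add_apply, LinearMap.smulRight_apply, LinearMap.smulRight_apply,
    LinearMap.sub_apply, LinearMap.smul_apply, LinearMap.smul_apply, smul_eq_mul, smul_eq_mul]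

theorem siegN_x (h : IsEpsForm B ε) {x w : V} (hx : B x x = 0) (hxw : B x w = 0) (α : F) :
    siegN B ε x w α x = 0 := by
  rw [siegN_apply, hx, h.perp_symm hxw]
  simp

theorem siegN_w (h : IsEpsForm B ε) {x w : V} (hx : B x x = 0) (hxw : B x w = 0) (α : F) :
    siegN B ε x w α w = (-(ε * B w w)) • x := by
  rw [siegN_apply, hxw]
  simp

theorem siegN_sq (h : IsEpsForm B ε) {x w : V} (hx : B x x = 0) (hxw : B x w = 0) (α : F)
    (v : V) : siegN B ε x w α (siegN B ε x w α v) = (-(ε * B w w) * B x v) • x := by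
  rw [siegN_apply x w α v, map_add, map_smul, map_smul, siegN_x h hx hxw, siegN_w h hx hxw,
    smul_zero, add_zero, smul_smul]
  congr 1
  ring

theorem siegN_cube (h : IsEpsForm B ε) {x w : V} (hx : B x x = 0) (hxw : B x w = 0) (α : F)
    (v : V) : siegN B ε x w α (siegN B ε x w α (siegN B ε x w α v)) = 0 := by
  have h1 : B x (siegN B ε x w α v) = 0 := by
    rw [siegN_apply, map_add, map_smul, map_smul, hxw, hx]
    simp
  rw [siegN_sq h hx hxw, h1, mul_zero, zero_smul]

/-- the Siegel transformation is an isometry -/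
theorem sieg_isom (h : IsEpsForm B ε) {x w : V} (hx : B x x = 0) (hxw : B x w = 0) {α : F}
    (hα : ε * α + σ α + B w w = 0) (u v : V) :
    B (u + siegN B ε x w α u) (v + siegN B ε x w α v) = B u v := by
  have hwx : B w x = 0 := h.perp_symm hxw
  rw [siegN_apply, siegN_apply]
  simp only [map_add, LinearMap.add_apply, LinearMap.map_smulₛₗ₂, map_smul, smul_eq_mul,
    LinearMap.smul_apply, hx, hxw, hwx, map_sub, map_mul, h.sig_eps, h.symm w u, h.symm x u,
    h.sig]
  have h2 := h.eps_mul_self
  linear_combination (σ (B x u) * B x v) * hα + (-(σ (B x u) * B w v)) * h2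

/-- **Siegel transformations exist**: for each non-zero singular vector `x` (in dimension at
least three) there is a unipotent isometry `1 + N` with `N ^ 3 = 0` such that `N` or `N ^ 2` is
a non-zero multiple of `v ↦ B x v • x` -/
theorem exists_siegel (h : IsEpsForm B ε)
    (hdim3 : ∀ x y : V, ∃ w, w ≠ 0 ∧ B x w = 0 ∧ B y w = 0) {x : V} (hx0 : x ≠ 0)
    (hx : B x x = 0) :
    ∃ N : V →ₗ[F] V, (∀ u v, B (u + N u) (v + N v) = B u v) ∧ (∀ v, N (N (N v)) = 0) ∧
      ((∃ c : F, c ≠ 0 ∧ ∀ v, N v = (c * B x v) • x) ∨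
        (∃ c : F, c ≠ 0 ∧ ∀ v, N (N v) = (c * B x v) • x)) := by
  obtain ⟨y, hy, hxy⟩ := h.exists_partner hx0 hx
  have h2e := h.eps_mul_self
  have hε0 : ε ≠ 0 := by
    intro h0
    rw [h0, mul_zero] at h2e
    exact zero_ne_one h2e
  rcases h.nonsing_or_alt hdim3 hx hy hxy with ⟨w, hwx, hwy, hN⟩ | ⟨halt, hσ, hε⟩
  · have hα : ε * (-(ε * B w w) / 2) + σ (-(ε * B w w) / 2) + B w w = 0 := by
      rw [map_div₀, map_neg, map_mul, h.sig_eps, h.sig_self, sig_two]
      have h3 := h.two
      field_simp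
      linear_combination (-(2 * B w w)) * h2e
    refine ⟨siegN B ε x w (-(ε * B w w) / 2), sieg_isom h hx hwx hα, siegN_cube h hx hwx _,
      Or.inr ⟨-(ε * B w w), neg_ne_zero.2 (mul_ne_zero hε0 hN), siegN_sq h hx hwx _⟩⟩
  · have hx0' : B x (0 : V) = 0 := map_zero _
    have hα : ε * 1 + σ 1 + B (0 : V) 0 = 0 := by
      rw [map_one, hε, map_zero]
      ring
    refine ⟨siegN B ε x 0 1, sieg_isom h hx hx0' hα, siegN_cube h hx hx0' _,
      Or.inl ⟨1, one_ne_zero, fun v => ?_⟩⟩
    rw [siegN_apply, smul_zero, zero_add, zero_left, mul_zero, sub_zero]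

end Cfsg.Agent.Helper2.PGeo
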