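import Mathlib
import Cfsg.Agent.Lib.Helper2.Pgeo6
import Cfsg.Agent.Lib.Helper2.Pgeo7

set_option autoImplicit false
set_option linter.unusedSimpArgs false
set_option linter.unusedVariables false
set_option linter.unusedSectionVars false

/-! Polar geometry in odd characteristic, part 8: forms given by matrices, and the theorem on
normal subgroups of odd order of the group of similitudes in matrix form. -/

namespace Cfsg.Agent.Helper2.PGeo

open Matrix IsEpsForm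

section mat

variable {n : ℕ} {F₀ : Type*} [Field F₀]

/-- invertible matrices as linear equivalences -/
noncomputable def glLE : GL (Fin n) F₀ ≃* ((Fin n → F₀) ≃ₗ[F₀] (Fin n → F₀)) :=
  Matrix.GeneralLinearGroup.toLin.trans
    (LinearMap.GeneralLinearGroup.generalLinearEquiv F₀ (Fin n → F₀))

theorem glLE_apply (h : GL (Fin n) F₀) (v : Fin n → F₀) :
    glLE h v = (h : Matrix (Fin n) (Fin n) F₀) *ᵥ v := rfl

theorem comp_add (σ : F₀ →+* F₀) (u u' : Fin n → F₀) : σ ∘ (u + u') = σ ∘ u + σ ∘ u' := by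
  funext i
  simp

theorem comp_smul (σ : F₀ →+* F₀) (c : F₀) (u : Fin n → F₀) : σ ∘ (c • u) = σ c • (σ ∘ u) := by
  funext i
  simp

/-- the sesquilinear form attached to a matrix -/
noncomputable def matForm (σ : F₀ →+* F₀) (M : Matrix (Fin n) (Fin n) F₀) :
    (Fin n → F₀) →ₛₗ[σ] (Fin n → F₀) →ₗ[F₀] F₀ :=
  LinearMap.mk₂'ₛₗ σ (RingHom.id F₀) (fun u v => (σ ∘ u) ⬝ᵥ (M *ᵥ v))
    (fun u u' v => by rw [comp_add, add_dotProduct])
    (fun c u v => by rw [comp_smul, smul_dotProduct])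
    (fun u v v' => by rw [mulVec_add, dotProduct_add])
    (fun c u v => by rw [mulVec_smul, dotProduct_smul]; rfl)

theorem matForm_apply (σ : F₀ →+* F₀) (M : Matrix (Fin n) (Fin n) F₀) (u v : Fin n → F₀) :
    matForm σ M u v = (σ ∘ u) ⬝ᵥ (M *ᵥ v) := rfl

theorem isEpsForm_matForm {σ : F₀ →+* F₀} {ε : F₀} {M : Matrix (Fin n) (Fin n) F₀}
    (h2 : (2 : F₀) ≠ 0) (hσ : ∀ a, σ (σ a) = a) (hε : ε = 1 ∨ ε = -1)
    (hM : Mᵀ = ε • M.map σ) (hdet : M.det ≠ 0) : IsEpsForm (matForm σ M) ε := by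
  refine ⟨h2, hσ, hε, ?_, ?_⟩
  · intro x y
    rw [matForm_apply, matForm_apply, RingHom.map_dotProduct]
    have h1 : σ ∘ (M *ᵥ y) = M.map σ *ᵥ (σ ∘ y) := by
      funext i
      exact RingHom.map_mulVec σ M y i
    have h3 : σ ∘ (σ ∘ x) = x := by
      funext i
      exact hσ (x i)
    have h4 : x ⬝ᵥ ((σ ∘ y) ᵥ* M) = (σ ∘ y) ⬝ᵥ (M *ᵥ x) := by
      rw [dotProduct_comm, dotProduct_mulVec]
    rw [h1, h3, ← smul_eq_mul, ← dotProduct_smul, ← smul_mulVec, ← hM, mulVec_transpose, h4]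
  · intro x hx
    have h1 : (σ ∘ x) ᵥ* M = 0 := by
      apply dotProduct_eq_zero_iff.1
      intro y
      have := hx y
      rw [matForm_apply, dotProduct_mulVec] at this
      exact this
    have h3 : σ ∘ x = 0 := Matrix.eq_zero_of_vecMul_eq_zero hdet h1
    funext i
    have h4 : σ (x i) = 0 := congrFun h3 i
    exact (map_eq_zero σ).1 h4

theorem exists_ne_zero_of_two_functionals (hn : 3 ≤ n) (φ ψ : (Fin n → F₀) →ₗ[F₀] F₀) :
    ∃ w : Fin n → F₀, w ≠ 0 ∧ φ w = 0 ∧ ψ w = 0 := by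
  obtain ⟨L, hL⟩ : ∃ L : (Fin n → F₀) →ₗ[F₀] F₀ × F₀, L = φ.prod ψ := ⟨_, rfl⟩
  have h1 := LinearMap.finrank_range_add_finrank_ker L
  rw [Module.finrank_fin_fun] at h1
  have h2 : Module.finrank F₀ (LinearMap.range L) ≤ 2 := by
    have := Submodule.finrank_le (LinearMap.range L)
    rwa [Module.finrank_prod, Module.finrank_self] at this
  have h3 : 0 < Module.finrank F₀ (LinearMap.ker L) := by omega
  obtain ⟨⟨w, hw⟩, hne⟩ := Module.finrank_pos_iff_exists_ne_zero.1 h3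
  refine ⟨w, fun h => hne (Subtype.ext h), ?_, ?_⟩
  · have := LinearMap.mem_ker.1 hw
    rw [hL, LinearMap.prod_apply] at this
    exact (Prod.mk.inj this).1
  · have := LinearMap.mem_ker.1 hw
    rw [hL, LinearMap.prod_apply] at this
    exact (Prod.mk.inj this).2

theorem hdim3_matForm (hn : 3 ≤ n) (σ : F₀ →+* F₀) (M : Matrix (Fin n) (Fin n) F₀)
    (x y : Fin n → F₀) : ∃ w, w ≠ 0 ∧ matForm σ M x w = 0 ∧ matForm σ M y w = 0 :=
  exists_ne_zero_of_two_functionals hn (matForm σ M x) (matForm σ M y)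

/-- the hypotheses on a matrix form: Witt's lemma, existence of singular vectors, parity -/
structure PolarHyp (σ : F₀ →+* F₀) (ε : F₀) (M : Matrix (Fin n) (Fin n) F₀) : Prop where
  form : IsEpsForm (matForm σ M) ε
  witt1 : Witt1 (matForm σ M)
  witt2 : Witt2 (matForm σ M)
  sing : ∃ x, x ≠ 0 ∧ matForm σ M x x = 0
  par : Even (Nat.card (singPts (matForm σ M)))

/-- the matrix condition for similitudes -/
theorem sim_of_matrix_eq {σ : F₀ →+* F₀} {M : Matrix (Fin n) (Fin n) F₀} (h : GL (Fin n) F₀)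
    {c : F₀} (hc : c ≠ 0)
    (hh : ((h : Matrix (Fin n) (Fin n) F₀).map σ)ᵀ * M * (h : Matrix (Fin n) (Fin n) F₀) = c • M) :
    glLE h ∈ sim (matForm σ M) := by
  refine ⟨c, hc, fun u v => ?_⟩
  rw [glLE_apply, glLE_apply, matForm_apply, matForm_apply]
  have h1 : σ ∘ ((h : Matrix (Fin n) (Fin n) F₀) *ᵥ u) =
      (h : Matrix (Fin n) (Fin n) F₀).map σ *ᵥ (σ ∘ u) := by
    funext i
    exact RingHom.map_mulVec σ _ u i
  rw [h1, dotProduct_comm, dotProduct_mulVec, ← mulVec_transpose, dotProduct_comm, mulVec_mulVec,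
    mulVec_mulVec, hh, smul_mulVec, dotProduct_smul, smul_eq_mul]

/-- **normal subgroups of odd order modulo scalars of the group of similitudes are scalar**,
matrix form -/
theorem scalar_of_odd_normal_mat [Finite F₀] (hn : 3 ≤ n) {σ : F₀ →+* F₀} {ε : F₀}
    {M : Matrix (Fin n) (Fin n) F₀} (H : PolarHyp σ ε M) (𝓜 : Subgroup (GL (Fin n) F₀))
    (hsim : ∀ m ∈ 𝓜, glLE m ∈ sim (matForm σ M))
    (hnorm : ∀ g : GL (Fin n) F₀, glLE g ∈ sim (matForm σ M) → ∀ m ∈ 𝓜, g * m * g⁻¹ ∈ 𝓜)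
    (hodd : ∀ m ∈ 𝓜, ∃ k : ℕ, Odd k ∧ ∃ c : F₀,
      ((m ^ k : GL (Fin n) F₀) : Matrix (Fin n) (Fin n) F₀) = c • 1) :
    ∀ m ∈ 𝓜, ∃ c : F₀, (m : Matrix (Fin n) (Fin n) F₀) = c • 1 := by
  have key := scalar_of_odd_normal H.form (hdim3_matForm hn σ M) H.sing H.witt1 H.witt2 H.par
    (𝓜.map (glLE (n := n) (F₀ := F₀)).toMonoidHom)
    (by
      rintro _ ⟨m, hm, rfl⟩
      exact hsim m hm)
    (by
      rintro g hg _ ⟨m, hm, rfl⟩
      refine ⟨glLE.symm g * m * (glLE.symm g)⁻¹, hnorm _ (by rw [MulEquiv.apply_symm_apply]; exact hg) m hm, ?_⟩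
      simp only [MulEquiv.coe_toMonoidHom, map_mul, map_inv, MulEquiv.apply_symm_apply])
    (by
      rintro _ ⟨m, hm, rfl⟩
      obtain ⟨k, hk, c, hc⟩ := hodd m hm
      refine ⟨k, hk, c, fun v => ?_⟩
      have h1 : (glLE (n := n) (F₀ := F₀)).toMonoidHom m ^ k = glLE (m ^ k) := by
        rw [MulEquiv.coe_toMonoidHom, map_pow]
      rw [h1, glLE_apply, hc, smul_mulVec, one_mulVec])
  intro m hm
  obtain ⟨c, hc⟩ := key _ ⟨m, hm, rfl⟩
  refine ⟨c, ?_⟩
  apply Matrix.toLin'.injective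
  apply LinearMap.ext
  intro v
  have h1 := hc v
  rw [MulEquiv.coe_toMonoidHom, glLE_apply] at h1
  rw [Matrix.toLin'_apply, h1, Matrix.toLin'_apply, smul_mulVec, one_mulVec]

end mat

end Cfsg.Agent.Helper2.PGeo
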