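import Mathlib
import Cfsg.Agent.Lib.Helper2.Pgeo8

set_option autoImplicit false
set_option linter.unusedSimpArgs false
set_option linter.unusedVariables false
set_option linter.unusedSectionVars false

/-! Polar geometry in odd characteristic, part 9: rigidity of semilinear maps commuting (up to
scalars) with the unipotent isometries, in matrix form. -/

namespace Cfsg.Agent.Helper2.PGeo

open Matrix IsEpsForm

section rigidmat

variable {n : ℕ} {F₀ : Type*} [Field F₀] {F : Type*} [Field F]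

/-- extension of scalars on vectors -/
def extV (j : F₀ →+* F) : (Fin n → F₀) →+ (Fin n → F) where
  toFun v := j ∘ v
  map_zero' := by funext i; simp
  map_add' u v := by funext i; simp

theorem extV_apply (j : F₀ →+* F) (v : Fin n → F₀) : extV j v = j ∘ v := rfl

/-- the semilinear map attached to a matrix and a field endomorphism -/
def semiJ (hh : Matrix (Fin n) (Fin n) F) (τ : F →+* F) : (Fin n → F) →+ (Fin n → F) where
  toFun v := hh *ᵥ (τ ∘ v)
  map_zero' := by
    have : τ ∘ (0 : Fin n → F) = 0 := by funext i; simp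
    rw [this, mulVec_zero]
  map_add' u v := by
    have : τ ∘ (u + v) = τ ∘ u + τ ∘ v := by funext i; simp
    rw [this, mulVec_add]

theorem semiJ_apply (hh : Matrix (Fin n) (Fin n) F) (τ : F →+* F) (v : Fin n → F) :
    semiJ hh τ v = hh *ᵥ (τ ∘ v) := rfl

theorem comp_mulVec (f : F₀ →+* F) (A : Matrix (Fin n) (Fin n) F₀) (v : Fin n → F₀) :
    f ∘ (A *ᵥ v) = A.map f *ᵥ (f ∘ v) := by
  funext i
  exact RingHom.map_mulVec f A v i

theorem semiData (j : F₀ →+* F) (hh : GL (Fin n) F) (τ : F →+* F) :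
    SemiData j (extV (n := n) j) τ (semiJ (hh : Matrix (Fin n) (Fin n) F) τ) := by
  refine ⟨?_, ?_, ?_, ?_⟩
  · intro c v
    funext i
    simp [extV_apply]
  · intro φ
    obtain ⟨a, ha⟩ : ∃ a : Fin n → F₀, a = fun i => φ (Pi.single i 1) := ⟨_, rfl⟩
    have hφ : ∀ v, φ v = a ⬝ᵥ v := by
      intro v
      rw [LinearMap.pi_apply_eq_sum_univ φ v, dotProduct, ha]
      apply Finset.sum_congr rfl
      intro i _
      rw [smul_eq_mul, mul_comm]
      congr 2
      funext k
      rw [Pi.single_apply]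
      by_cases h : i = k
      · rw [if_pos h, if_pos h.symm]
      · rw [if_neg h, if_neg (Ne.symm h)]
    let φ' : (Fin n → F) →ₗ[F] F :=
      { toFun := fun w => (j ∘ a) ⬝ᵥ w
        map_add' := fun u v => dotProduct_add _ u v
        map_smul' := fun c v => by rw [dotProduct_smul]; rfl }
    refine ⟨φ', ?_⟩
    intro v
    show (j ∘ a) ⬝ᵥ (j ∘ v) = j (φ v)
    rw [hφ, RingHom.map_dotProduct]
  · intro c v
    rw [semiJ_apply, semiJ_apply]
    have : τ ∘ (c • v) = τ c • (τ ∘ v) := by funext i; simp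
    rw [this, mulVec_smul]
  · intro u v huv
    rw [semiJ_apply, semiJ_apply] at huv
    have h1 : ((hh⁻¹ : GL (Fin n) F) : Matrix (Fin n) (Fin n) F) *ᵥ
        ((hh : Matrix (Fin n) (Fin n) F) *ᵥ (τ ∘ u)) =
        ((hh⁻¹ : GL (Fin n) F) : Matrix (Fin n) (Fin n) F) *ᵥ
        ((hh : Matrix (Fin n) (Fin n) F) *ᵥ (τ ∘ v)) := by rw [huv]
    rw [mulVec_mulVec, mulVec_mulVec, ← Units.val_mul, inv_mul_cancel, Units.val_one, one_mulVec,
      one_mulVec] at h1
    funext i
    have h2 : τ (u i) = τ (v i) := congrFun h1 i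
    exact τ.injective h2

/-- a scalar multiple of a unipotent matrix conjugate to a unipotent matrix is the matrix
itself -/
theorem eq_one_of_conj_unipotent {m : Type*} [Fintype m] [DecidableEq m] [Nonempty m]
    (hh hi : Matrix m m F) (hhi : hh * hi = 1) (A A' : Matrix m m F) (hA : A * A * A = 0)
    (hA' : A' * A' * A' = 0) (z : F) (h : hh * (1 + A) = z • ((1 + A') * hh)) : z = 1 := by
  have hih : hi * hh = 1 := mul_eq_one_comm.1 hhi
  obtain ⟨X, hX⟩ : ∃ X, X = hh * A * hi := ⟨_, rfl⟩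
  have h1 : 1 + X = z • (1 + A') := by
    have h2 : hh * (1 + A) * hi = z • ((1 + A') * hh) * hi := by rw [h]
    rw [Matrix.mul_add, Matrix.mul_one, Matrix.add_mul, hhi, ← hX, Matrix.smul_mul,
      Matrix.mul_assoc, hhi, Matrix.mul_one] at h2
    exact h2
  have hXe : X = (z - 1) • (1 : Matrix m m F) + z • A' := by
    have : X = z • (1 + A') - 1 := by rw [← h1]; abel
    rw [this, smul_add, sub_smul, one_smul]
    abel
  have hX3 : X * X * X = 0 := by
    rw [hX]
    have : hh * A * hi * (hh * A * hi) * (hh * A * hi) =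
        hh * (A * (hi * hh) * A * (hi * hh) * A) * hi := by
      simp only [Matrix.mul_assoc]
    rw [this, hih, Matrix.mul_one, Matrix.mul_one, hA, Matrix.mul_zero, Matrix.zero_mul]
  have hXn : IsNilpotent X := ⟨3, by rw [pow_succ, pow_two]; exact hX3⟩
  have hYn : IsNilpotent (z • A') := by
    refine ⟨3, ?_⟩
    have h3 : A' ^ 3 = 0 := by rw [pow_succ, pow_two]; exact hA'
    rw [smul_pow, h3, smul_zero]
  have hcomm : Commute X (z • A') := by
    rw [hXe]
    apply Commute.add_left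
    · exact Commute.smul_left (Commute.one_left _) _
    · exact Commute.refl _
  have hsub := hcomm.isNilpotent_sub hXn hYn
  have h3 : X - z • A' = (z - 1) • (1 : Matrix m m F) := by rw [hXe]; abel
  rw [h3] at hsub
  obtain ⟨k, hk⟩ := hsub
  rw [smul_pow, one_pow] at hk
  obtain ⟨i⟩ := (inferInstance : Nonempty m)
  have h4 := congrFun (congrFun hk i) i
  rw [Matrix.smul_apply, Matrix.one_apply_eq, Matrix.zero_apply, smul_eq_mul, mul_one] at h4
  have h5 : z - 1 = 0 := pow_eq_zero_iff (M₀ := F) (by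
    rintro rfl
    rw [pow_zero] at h4
    exact one_ne_zero h4) |>.1 h4
  exact sub_eq_zero.1 h5

theorem map_map_one_add (j : F₀ →+* F) (τ : F →+* F) (Nm : Matrix (Fin n) (Fin n) F₀) :
    ((1 + Nm).map j).map τ = 1 + (Nm.map j).map τ := by
  rw [Matrix.map_add j (map_add j), Matrix.map_one j (map_zero j) (map_one j),
    Matrix.map_add τ (map_add τ), Matrix.map_one τ (map_zero τ) (map_one τ)]

/-- **rigidity, matrix form**: a semilinear map commuting up to scalars with all unipotent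
isometries (of a form over a subfield) is a scalar, and its field automorphism is trivial on
the subfield -/
theorem rigid_mat (hn : 3 ≤ n) {σ : F₀ →+* F₀} {ε : F₀} {M : Matrix (Fin n) (Fin n) F₀}
    (H : PolarHyp σ ε M) (j : F₀ →+* F) (hh : GL (Fin n) F) (τ : F →+* F)
    (hcomm : ∀ R : Matrix (Fin n) (Fin n) F₀,
      (∀ u v, matForm σ M (R *ᵥ u) (R *ᵥ v) = matForm σ M u v) →
      (R - 1) * (R - 1) * (R - 1) = 0 →
      ∃ z : F, (hh : Matrix (Fin n) (Fin n) F) * (R.map j).map τ =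
        z • ((R.map j) * (hh : Matrix (Fin n) (Fin n) F))) :
    (∃ l : F, (hh : Matrix (Fin n) (Fin n) F) = l • 1) ∧ ∀ c, τ (j c) = j c := by
  have hne : Nonempty (Fin n) := ⟨⟨0, by omega⟩⟩
  have D := semiData (n := n) j hh τ
  have hhi : (hh : Matrix (Fin n) (Fin n) F) * ((hh⁻¹ : GL (Fin n) F) : Matrix (Fin n) (Fin n) F)
      = 1 := by rw [← Units.val_mul, mul_inv_cancel, Units.val_one]
  have hfix : ∀ x, matForm σ M x x = 0 →
      ∃ l : F, semiJ (hh : Matrix (Fin n) (Fin n) F) τ (extV j x) = l • extV j x := by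
    intro x hx
    by_cases hx0 : x = 0
    · exact ⟨0, by rw [hx0, map_zero, map_zero, smul_zero]⟩
    obtain ⟨N, hNiso, hN3, hNk⟩ := exists_siegel H.form (hdim3_matForm hn σ M) hx0 hx
    obtain ⟨Nm, hNm⟩ : ∃ Nm : Matrix (Fin n) (Fin n) F₀, Nm = LinearMap.toMatrix' N := ⟨_, rfl⟩
    have hNmv : ∀ v, Nm *ᵥ v = N v := by
      intro v
      rw [hNm, LinearMap.toMatrix'_mulVec]
    have hNm3 : Nm * Nm * Nm = 0 := by
      apply Matrix.toLin'.injective
      apply LinearMap.ext
      intro v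
      rw [Matrix.toLin'_apply, ← mulVec_mulVec, ← mulVec_mulVec, hNmv, hNmv, hNmv, hN3, map_zero]
      rfl
    obtain ⟨z, hz⟩ := hcomm (1 + Nm)
      (by
        intro u v
        rw [add_mulVec, one_mulVec, add_mulVec, one_mulVec, hNmv, hNmv]
        exact hNiso u v)
      (by rw [add_sub_cancel_left]; exact hNm3)
    obtain ⟨A', hA'⟩ : ∃ A' : Matrix (Fin n) (Fin n) F, A' = Nm.map j := ⟨_, rfl⟩
    obtain ⟨A, hA⟩ : ∃ A : Matrix (Fin n) (Fin n) F, A = A'.map τ := ⟨_, rfl⟩
    have hA'3 : A' * A' * A' = 0 := by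
      rw [hA', ← Matrix.map_mul, ← Matrix.map_mul, hNm3, Matrix.map_zero j (map_zero j)]
    have hA3 : A * A * A = 0 := by
      rw [hA, ← Matrix.map_mul, ← Matrix.map_mul, hA'3, Matrix.map_zero τ (map_zero τ)]
    rw [map_map_one_add, ← hA', ← hA, Matrix.map_add j (map_add j),
      Matrix.map_one j (map_zero j) (map_one j), ← hA'] at hz
    have hz1 : z = 1 := eq_one_of_conj_unipotent _ _ hhi A A' hA3 hA'3 z hz
    rw [hz1, one_smul, Matrix.mul_add, Matrix.mul_one, Matrix.add_mul, Matrix.one_mul] at hz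
    have hc1 : (hh : Matrix (Fin n) (Fin n) F) * A = A' * (hh : Matrix (Fin n) (Fin n) F) :=
      add_left_cancel hz
    -- the relevant power
    have main : ∀ P : Matrix (Fin n) (Fin n) F₀,
        (hh : Matrix (Fin n) (Fin n) F) * (P.map j).map τ =
          P.map j * (hh : Matrix (Fin n) (Fin n) F) →
        (∃ c : F₀, c ≠ 0 ∧ ∀ v, P *ᵥ v = (c * matForm σ M x v) • x) →
        ∃ l : F, semiJ (hh : Matrix (Fin n) (Fin n) F) τ (extV j x) = l • extV j x := by
      rintro P hP ⟨c, hc0, hPv⟩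
      obtain ⟨v₀, hv₀⟩ : ∃ v₀, matForm σ M x v₀ ≠ 0 := by
        by_contra hcon
        push Not at hcon
        exact hx0 (H.form.nondeg x hcon)
      obtain ⟨v₁, hv₁⟩ : ∃ v₁, v₁ = (c * matForm σ M x v₀)⁻¹ • v₀ := ⟨_, rfl⟩
      have hPv₁ : P *ᵥ v₁ = x := by
        rw [hPv, hv₁, map_smul, smul_eq_mul, ← mul_assoc, mul_comm c,
          mul_assoc, inv_mul_cancel₀ (mul_ne_zero hc0 hv₀), one_smul]
      obtain ⟨ψ, hψ⟩ : ∃ ψ : Fin n → F₀, ψ = fun i => c * matForm σ M x (Pi.single i 1) :=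
        ⟨_, rfl⟩
      have hPrank : P = vecMulVec x ψ := by
        apply Matrix.toLin'.injective
        apply LinearMap.pi_ext'
        intro i
        apply LinearMap.ext_ring
        rw [LinearMap.comp_apply, LinearMap.comp_apply, LinearMap.single_apply,
          Matrix.toLin'_apply, Matrix.toLin'_apply, hPv, vecMulVec_mulVec]
        rw [op_smul_eq_smul, hψ, dotProduct_single_one]
      have hPj : P.map j = vecMulVec (j ∘ x) (j ∘ ψ) := by
        rw [hPrank]
        ext a b
        simp [vecMulVec_apply]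
      refine ⟨(j ∘ ψ) ⬝ᵥ ((hh : Matrix (Fin n) (Fin n) F) *ᵥ (τ ∘ (j ∘ v₁))), ?_⟩
      rw [semiJ_apply, extV_apply]
      have h6 : j ∘ x = P.map j *ᵥ (j ∘ v₁) := by rw [← comp_mulVec, hPv₁]
      have h7 : τ ∘ (P.map j *ᵥ (j ∘ v₁)) = (P.map j).map τ *ᵥ (τ ∘ (j ∘ v₁)) :=
        comp_mulVec τ _ _
      conv_lhs => rw [h6, h7, mulVec_mulVec, hP, ← mulVec_mulVec, hPj, vecMulVec_mulVec,
        op_smul_eq_smul]
    rcases hNk with ⟨c, hc0, hc⟩ | ⟨c, hc0, hc⟩
    · apply main Nm
      · rw [← hA', ← hA]; exact hc1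
      · exact ⟨c, hc0, fun v => by rw [hNmv, hc]⟩
    · apply main (Nm * Nm)
      · rw [Matrix.map_mul, Matrix.map_mul, ← hA', ← hA, ← Matrix.mul_assoc, hc1,
          Matrix.mul_assoc, hc1, Matrix.mul_assoc]
      · exact ⟨c, hc0, fun v => by rw [← mulVec_mulVec, hNmv, hNmv, hc]⟩
  obtain ⟨hτ, l, hl⟩ := semilinear_rigid H.form (hdim3_matForm hn σ M) D H.sing hfix
  refine ⟨⟨l, ?_⟩, hτ⟩
  apply Matrix.toLin'.injective
  apply LinearMap.pi_ext'
  intro i
  apply LinearMap.ext_ring
  rw [LinearMap.comp_apply, LinearMap.comp_apply, LinearMap.single_apply, Matrix.toLin'_apply,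
    Matrix.toLin'_apply, smul_mulVec, one_mulVec]
  have h1 := hl (Pi.single i 1)
  rw [semiJ_apply, extV_apply] at h1
  have h2 : j ∘ (Pi.single i (1 : F₀) : Fin n → F₀) = Pi.single i 1 := by
    funext k
    simp [Pi.single_apply, apply_ite]
  have h3 : τ ∘ (Pi.single i (1 : F) : Fin n → F) = Pi.single i 1 := by
    funext k
    simp [Pi.single_apply, apply_ite]
  rw [h2, h3] at h1
  exact h1

end rigidmat

end Cfsg.Agent.Helper2.PGeo
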