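import Mathlib
import Cfsg.Agent.Lib.Helper2.Pgeo9
import Cfsg.Agent.Lib.Helper2.Psln20
import Cfsg.Agent.Lib.Helper28.WittQuad
import Cfsg.Agent.Lib.Helper11.WittHerm
import Cfsg.Agent.Lib.Helper11.AltForm
import Cfsg.Agent.Lib.Helper13.Hyperbolic
import Cfsg.Agent.S0749

set_option autoImplicit false
set_option linter.unusedSimpArgs false
set_option linter.unusedVariables false
set_option linter.unusedSectionVars false

/-! Polar geometry in odd characteristic, part 10: the hypotheses (Witt's lemma, singular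
vectors, parity) for symmetric, alternating and hermitian matrices. -/

namespace Cfsg.Agent.Helper2.PGeo

open Matrix IsEpsForm

section span

variable {F : Type*} [Field F] {V : Type*} [AddCommGroup V] [Module F V] {σ : F →+* F}

/-- Witt's lemma for families from Witt's lemma for subspaces -/
theorem witt_family_of_subspace (B : V →ₛₗ[σ] V →ₗ[F] F)
    (hw : ∀ (X Y : Submodule F V) (φ : X ≃ₗ[F] Y),
      (∀ x x' : X, B (φ x : V) (φ x' : V) = B (x : V) (x' : V)) →
      ∃ g : V ≃ₗ[F] V, (∀ u v, B (g u) (g v) = B u v) ∧ ∀ x : X, g (x : V) = (φ x : V))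
    (k : ℕ) (e e' : Fin k → V) (he : LinearIndependent F e) (he' : LinearIndependent F e')
    (hG : ∀ i l, B (e i) (e l) = B (e' i) (e' l)) :
    ∃ g : V ≃ₗ[F] V, (∀ u v, B (g u) (g v) = B u v) ∧ ∀ i, g (e i) = e' i := by
  let bx := Module.Basis.span he
  let bY := Module.Basis.span he'
  let φ : Submodule.span F (Set.range e) ≃ₗ[F] Submodule.span F (Set.range e') :=
    bx.equiv bY (Equiv.refl _)
  have hbx : ∀ i, ((bx i : Submodule.span F (Set.range e)) : V) = e i := fun i =>
    congrArg Subtype.val (Module.Basis.span_apply he i)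
  have hbY : ∀ i, ((bY i : Submodule.span F (Set.range e')) : V) = e' i := fun i =>
    congrArg Subtype.val (Module.Basis.span_apply he' i)
  have ha : ∀ a : Submodule.span F (Set.range e), (a : V) = ∑ i, (bx.repr a i) • e i := by
    intro a
    conv_lhs => rw [← bx.sum_repr a]
    rw [Submodule.coe_sum]
    apply Finset.sum_congr rfl
    intro i _
    rw [Submodule.coe_smul, hbx]
  have hφa : ∀ a : Submodule.span F (Set.range e), (φ a : V) = ∑ i, (bx.repr a i) • e' i := by
    intro a
    conv_lhs => rw [← bx.sum_repr a]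
    rw [map_sum, Submodule.coe_sum]
    apply Finset.sum_congr rfl
    intro i _
    rw [map_smul, Submodule.coe_smul, Module.Basis.equiv_apply, Equiv.refl_apply, hbY]
  obtain ⟨g, hg, hgx⟩ := hw _ _ φ (by
    intro a b
    rw [ha a, ha b, hφa a, hφa b]
    simp only [map_sum, LinearMap.sum_apply, LinearMap.map_smulₛₗ₂, map_smul, hG])
  refine ⟨g, hg, fun i => ?_⟩
  have h1 := hgx (bx i)
  rw [hbx] at h1
  rw [h1, Module.Basis.equiv_apply, Equiv.refl_apply, hbY]

/-- the two forms of Witt's lemma used for primitivity, from Witt's lemma for families -/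
theorem witt12_of_family {B : V →ₛₗ[σ] V →ₗ[F] F} {ε : F} (h : IsEpsForm B ε)
    (hw : ∀ (k : ℕ) (e e' : Fin k → V), LinearIndependent F e → LinearIndependent F e' →
      (∀ i l, B (e i) (e l) = B (e' i) (e' l)) →
      ∃ g : V ≃ₗ[F] V, (∀ u v, B (g u) (g v) = B u v) ∧ ∀ i, g (e i) = e' i) :
    Witt1 B ∧ Witt2 B := by
  constructor
  · intro x y hx0 hy0 hx hy
    obtain ⟨g, hg, hgx⟩ := hw 1 ![x] ![y]
      (by rw [linearIndependent_unique_iff]; exact hx0)
      (by rw [linearIndependent_unique_iff]; exact hy0)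
      (by
        intro i l
        fin_cases i; fin_cases l
        show B x x = B y y
        rw [hx, hy])
    exact ⟨g, hg, hgx 0⟩
  · intro x y y' hx hy hy' hxy hxy' hB
    obtain ⟨g, hg, hgx⟩ := hw 2 ![x, y] ![x, y'] hxy hxy'
      (by
        intro i l
        fin_cases i <;> fin_cases l
        · rfl
        · exact hB
        · show B y x = B y' x
          rw [h.symm x y, h.symm x y', hB]
        · show B y y = B y' y'
          rw [hy, hy'])
    exact ⟨g, hg, hgx 0, hgx 1⟩

end span

section instances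

variable {n : ℕ} {F₀ : Type*} [Field F₀] [Finite F₀]

theorem single_ne_zero' (hn : 3 ≤ n) : (Pi.single (⟨0, by omega⟩ : Fin n) (1 : F₀) : Fin n → F₀) ≠ 0 := by
  intro h
  have := congrFun h ⟨0, by omega⟩
  rw [Pi.single_eq_same, Pi.zero_apply] at this
  exact one_ne_zero this

/-- **alternating matrices** -/
theorem polarHyp_symp (hn : 3 ≤ n) (h2 : (2 : F₀) ≠ 0) {M : Matrix (Fin n) (Fin n) F₀}
    (hM : Mᵀ = -M) (hdet : M.det ≠ 0) : PolarHyp (RingHom.id F₀) (-1) M := by
  have hform : IsEpsForm (matForm (RingHom.id F₀) M) (-1) := by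
    apply isEpsForm_matForm h2 (fun a => rfl) (Or.inr rfl) _ hdet
    rw [hM]
    have : M.map (RingHom.id F₀) = M := by ext i k; rfl
    rw [this, neg_smul, one_smul]
  have halt : ∀ v, matForm (RingHom.id F₀) M v v = 0 := by
    intro v
    have h1 := hform.symm v v
    rw [RingHom.id_apply] at h1
    have h3 : (2 : F₀) * matForm (RingHom.id F₀) M v v = 0 := by linear_combination h1
    rcases mul_eq_zero.1 h3 with h4 | h4
    · exact absurd h4 h2
    · exact h4
  have hnd : LinearMap.BilinForm.Nondegenerate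
      (matForm (RingHom.id F₀) M : LinearMap.BilinForm F₀ (Fin n → F₀)) :=
    ⟨hform.nondeg, hform.eq_zero_of_forall_left⟩
  obtain ⟨hw1, hw2⟩ := witt12_of_family hform (fun k e e' he he' hG =>
    witt_family_of_subspace _ (fun X Y φ hφ =>
      Cfsg.Agent.S0749.result (matForm (RingHom.id F₀) M) hnd halt X Y φ hφ) k e e' he he' hG)
  refine ⟨hform, hw1, hw2, ⟨_, single_ne_zero' hn, halt _⟩, ?_⟩
  exact even_card_singPts_alt hform halt
    (Cfsg.Agent.Helper11.even_finrank_of_nondegenerate_isAlt _ hnd halt)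

/-- **symmetric matrices** -/
theorem polarHyp_orth (hn : 3 ≤ n) (h2 : (2 : F₀) ≠ 0) {M : Matrix (Fin n) (Fin n) F₀}
    (hM : Mᵀ = M) (hdet : M.det ≠ 0) : PolarHyp (RingHom.id F₀) 1 M := by
  have hform : IsEpsForm (matForm (RingHom.id F₀) M) 1 := by
    apply isEpsForm_matForm h2 (fun a => rfl) (Or.inl rfl) _ hdet
    rw [hM]
    have : M.map (RingHom.id F₀) = M := by ext i k; rfl
    rw [this, one_smul]
  obtain ⟨B, hB⟩ : ∃ B : LinearMap.BilinForm F₀ (Fin n → F₀), B = matForm (RingHom.id F₀) M :=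
    ⟨_, rfl⟩
  have hsymm : ∀ x y, B y x = B x y := by
    intro x y
    rw [hB, hform.symm x y, one_mul, RingHom.id_apply]
  obtain ⟨Q, hQdef⟩ : ∃ Q : QuadraticForm F₀ (Fin n → F₀), Q = LinearMap.BilinMap.toQuadraticMap B :=
    ⟨_, rfl⟩
  have hQv : ∀ v, Q v = B v v := fun v => by rw [hQdef]; rfl
  have hpol : ∀ x y, QuadraticMap.polar Q x y = 2 * B x y := by
    intro x y
    rw [hQdef, LinearMap.BilinMap.polar_toQuadraticMap, hsymm x y]
    ring
  have hQ : (QuadraticMap.polarBilin Q).Nondegenerate := by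
    have hl : ∀ x, (∀ y, QuadraticMap.polar Q x y = 0) → x = 0 := by
      intro x hx
      apply hform.nondeg
      intro y
      have h1 := hx y
      rw [hpol] at h1
      rcases mul_eq_zero.1 h1 with h3 | h3
      · exact absurd h3 h2
      · rw [← hB]; exact h3
    refine ⟨fun x hx => hl x hx, fun y hy => hl y fun x => ?_⟩
    rw [QuadraticMap.polar_comm]
    exact hy x
  obtain ⟨hw1, hw2⟩ := witt12_of_family hform (fun k e e' he he' hG => by
    obtain ⟨g, hg, hge⟩ := Cfsg.Agent.Helper28.WittQuad.witt_family hQ k e e' he he'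
      (fun i => by rw [hQv, hQv, hB]; exact hG i i)
      (fun i l => by rw [hpol, hpol, hB, hG i l])
    refine ⟨g, fun u v => ?_, hge⟩
    have h1 : QuadraticMap.polar Q (g u) (g v) = QuadraticMap.polar Q u v := by
      unfold QuadraticMap.polar
      rw [← map_add, hg, hg, hg]
    rw [hpol, hpol] at h1
    rw [← hB]
    exact mul_left_cancel₀ h2 h1)
  have hfin : Fintype F₀ := Fintype.ofFinite F₀
  obtain ⟨x, hx0, hx⟩ := Cfsg.Agent.Helper13.exists_singular Q hQ
    (by rw [Module.finrank_fin_fun]; exact hn)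
  refine ⟨hform, hw1, hw2, ⟨x, hx0, by rw [← hB, ← hQv]; exact hx⟩, ?_⟩
  apply even_card_singPts hform
  rintro ⟨-, h1⟩
  apply h2
  linear_combination h1

end instances

end Cfsg.Agent.Helper2.PGeo
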