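import Mathlib
import Cfsg.Agent.Lib.Helper2.Pgeo10

set_option autoImplicit false
set_option linter.unusedSimpArgs false
set_option linter.unusedVariables false
set_option linter.unusedSectionVars false

/-! Polar geometry in odd characteristic, part 11: the hypotheses for hermitian matrices. -/

namespace Cfsg.Agent.Helper2.PGeo

open Matrix IsEpsForm

section herm

variable {n : ℕ} {F₀ : Type*} [Field F₀] [Finite F₀]

/-- **hermitian matrices** -/
theorem polarHyp_herm (hn : 3 ≤ n) (h2 : (2 : F₀) ≠ 0) (σ : F₀ ≃+* F₀)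
    (hσ2 : ∀ a, σ (σ a) = a) (hσ1 : ∃ a, σ a ≠ a) {M : Matrix (Fin n) (Fin n) F₀}
    (hM : Mᵀ = M.map σ) (hdet : M.det ≠ 0) : PolarHyp (σ : F₀ →+* F₀) 1 M := by
  have hform : IsEpsForm (matForm (σ : F₀ →+* F₀) M) 1 := by
    apply isEpsForm_matForm h2 hσ2 (Or.inl rfl) _ hdet
    rw [one_smul]
    exact hM
  obtain ⟨B, hB⟩ : ∃ B : (Fin n → F₀) →ₛₗ[(σ : F₀ →+* F₀)] (Fin n → F₀) →ₗ[F₀] F₀,
    B = matForm (σ : F₀ →+* F₀) M := ⟨_, rfl⟩
  rw [← hB] at hform
  have hS : B.IsSymm := ⟨fun x y => by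
    have := hform.symm x y
    rw [one_mul] at this
    exact this.symm⟩
  have hnd : B.Nondegenerate := ⟨hform.nondeg, hform.eq_zero_of_forall_left⟩
  have hσne : (σ : F₀ →+* F₀) ≠ RingHom.id F₀ := by
    intro h
    obtain ⟨a, ha⟩ := hσ1
    apply ha
    have := congrArg (fun f : F₀ →+* F₀ => f a) h
    exact this
  have hεσ : ¬ ((∀ c, (σ : F₀ →+* F₀) c = c) ∧ (1 : F₀) = -1) := by
    rintro ⟨h1, -⟩
    obtain ⟨a, ha⟩ := hσ1
    exact ha (h1 a)
  obtain ⟨hw1, hw2⟩ := witt12_of_family hform (fun k e e' he he' hG =>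
    Cfsg.Agent.Helper11.Witt.witt_family B hσne hσ2 hS hnd k e e' he he' hG)
  have hsing : ∃ x, x ≠ 0 ∧ B x x = 0 := by
    obtain ⟨e, he⟩ := exists_nonsing hform hεσ ⟨_, single_ne_zero' hn⟩
    obtain ⟨w, hw0, hew, -⟩ : ∃ w, w ≠ 0 ∧ B e w = 0 ∧ B e w = 0 := by
      rw [hB]
      exact hdim3_matForm hn _ M e e
    by_cases hww : B w w = 0
    · exact ⟨w, hw0, hww⟩
    · have hwe : B w e = 0 := hform.perp_symm hew
      obtain ⟨t, ht⟩ : ∃ t, t = -(B e e) / B w w := ⟨_, rfl⟩
      have ht0 : t ≠ 0 := by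
        rw [ht]
        exact div_ne_zero (neg_ne_zero.2 he) hww
      have hσt : σ t = t := by
        have h1 : σ (B e e) = B e e := (hform.sig_self e).trans (one_mul _)
        have h3 : σ (B w w) = B w w := (hform.sig_self w).trans (one_mul _)
        rw [ht, map_div₀, map_neg, h1, h3]
      obtain ⟨c, hc0, hc⟩ := Cfsg.Agent.Helper2.PN.exists_pnorm_eq σ 2 (by norm_num)
        (by
          ext a
          show σ (σ a) = a
          exact hσ2 a)
        (by
          intro i hi0 hi2 h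
          have hi : i = 1 := by omega
          subst hi
          rw [pow_one] at h
          obtain ⟨a, ha⟩ := hσ1
          apply ha
          rw [h]
          rfl) t ht0 hσt
      have hc' : c * σ c = t := by
        have : Cfsg.Agent.Helper13.FAut.pnorm σ c 2 = c * σ (c * σ 1) := rfl
        rw [this, map_one, mul_one] at hc
        exact hc
      refine ⟨e + c • w, ?_, ?_⟩
      · intro h0
        have h1 : B e (e + c • w) = B e e := by
          rw [map_add, map_smul, hew, smul_zero, add_zero]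
        rw [h0, map_zero] at h1
        exact he h1.symm
      · have h1 : B (e + c • w) (e + c • w) = B e e + σ c * c * B w w := by
          simp only [map_add, LinearMap.add_apply, LinearMap.map_smulₛₗ₂, map_smul, smul_eq_mul,
            hew, hwe, mul_zero, add_zero, zero_add]
          rw [RingHom.coe_coe]
          ring
        rw [h1, mul_comm (σ c) c, hc', ht]
        field_simp
        ring
  rw [hB] at hsing hw1 hw2 hform
  exact ⟨hform, hw1, hw2, hsing, even_card_singPts hform hεσ⟩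

end herm

section matlemmas

variable {n : ℕ} {F₀ : Type*} [Field F₀]

theorem comp_single (σ : F₀ →+* F₀) (i : Fin n) :
    σ ∘ (Pi.single i (1 : F₀) : Fin n → F₀) = Pi.single i 1 := by
  funext k
  by_cases h : k = i
  · subst h
    simp
  · simp [Pi.single_eq_of_ne h]

theorem matForm_single (σ : F₀ →+* F₀) (A : Matrix (Fin n) (Fin n) F₀) (i j : Fin n) :
    matForm σ A (Pi.single i 1) (Pi.single j 1) = A i j := by
  rw [matForm_apply, comp_single, Matrix.mulVec_single_one, single_one_dotProduct]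
  rfl

theorem matForm_mulVec (σ : F₀ →+* F₀) (M h : Matrix (Fin n) (Fin n) F₀) (u v : Fin n → F₀) :
    matForm σ M (h *ᵥ u) (h *ᵥ v) = matForm σ ((h.map σ)ᵀ * M * h) u v := by
  rw [matForm_apply, matForm_apply]
  have h1 : σ ∘ (h *ᵥ u) = h.map σ *ᵥ (σ ∘ u) := by
    funext i
    exact RingHom.map_mulVec σ _ u i
  rw [h1, dotProduct_comm, dotProduct_mulVec, ← mulVec_transpose, dotProduct_comm, mulVec_mulVec,
    mulVec_mulVec]

/-- the matrix identity satisfied by a similitude -/
theorem matrix_eq_of_form {σ : F₀ →+* F₀} {M h : Matrix (Fin n) (Fin n) F₀} {c : F₀}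
    (hh : ∀ u v, matForm σ M (h *ᵥ u) (h *ᵥ v) = c * matForm σ M u v) :
    (h.map σ)ᵀ * M * h = c • M := by
  ext i j
  have := hh (Pi.single i 1) (Pi.single j 1)
  rw [matForm_mulVec, matForm_single, matForm_single] at this
  rw [this]
  rfl

theorem form_of_matrix_eq {σ : F₀ →+* F₀} {M h : Matrix (Fin n) (Fin n) F₀} {c : F₀}
    (hh : (h.map σ)ᵀ * M * h = c • M) (u v : Fin n → F₀) :
    matForm σ M (h *ᵥ u) (h *ᵥ v) = c * matForm σ M u v := by
  rw [matForm_mulVec, hh, matForm_apply, matForm_apply, smul_mulVec, dotProduct_smul, smul_eq_mul]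

/-- membership in the group of similitudes, in matrix form -/
theorem mem_sim_iff {σ : F₀ →+* F₀} {M : Matrix (Fin n) (Fin n) F₀} (h : GL (Fin n) F₀) :
    glLE h ∈ sim (matForm σ M) ↔ ∃ c : F₀, c ≠ 0 ∧
      ((h : Matrix (Fin n) (Fin n) F₀).map σ)ᵀ * M * (h : Matrix (Fin n) (Fin n) F₀) = c • M := by
  constructor
  · rintro ⟨c, hc, hh⟩
    exact ⟨c, hc, matrix_eq_of_form (fun u v => hh u v)⟩
  · rintro ⟨c, hc, hh⟩
    exact sim_of_matrix_eq h hc hh

end matlemmas

end Cfsg.Agent.Helper2.PGeo
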