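import Mathlib

set_option autoImplicit false

namespace Cfsg.Agent.Helper2.PN

section cyclic

/-- in a finite cyclic group, the index of the subgroup generated by the `n`-th powers and a
subgroup `S` is `gcd n [C : S]` -/
theorem index_pow_sup {C : Type*} [CommGroup C] [IsCyclic C] [Finite C] (S : Subgroup C) (n : ℕ) :
    ((powMonoidHom n : C →* C).range ⊔ S).index = Nat.gcd n S.index := by
  classical
  set T := (powMonoidHom n : C →* C).range ⊔ S with hT
  obtain ⟨g, hg⟩ := IsCyclic.exists_generator (α := C)
  have hM : orderOf g = Nat.card C := orderOf_eq_card_of_forall_mem_zpowers hg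
  apply Nat.dvd_antisymm
  · apply Nat.dvd_gcd
    · have hgen : ∀ y : C ⧸ T, y ∈ Subgroup.zpowers (QuotientGroup.mk g : C ⧸ T) := by
        intro y
        obtain ⟨x, rfl⟩ := QuotientGroup.mk_surjective y
        obtain ⟨k, rfl⟩ := Subgroup.mem_zpowers_iff.mp (hg x)
        exact ⟨k, (QuotientGroup.mk_zpow T g k).symm⟩
      have h1 : orderOf (QuotientGroup.mk g : C ⧸ T) = Nat.card (C ⧸ T) :=
        orderOf_eq_card_of_forall_mem_zpowers hgen
      rw [Subgroup.index_eq_card, ← h1]
      apply orderOf_dvd_of_pow_eq_one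
      rw [← QuotientGroup.mk_pow, QuotientGroup.eq_one_iff]
      exact Subgroup.mem_sup_left ⟨g, rfl⟩
    · exact Subgroup.index_dvd_of_le le_sup_right
  · set k := Nat.gcd n S.index with hk
    have hkM : k ∣ Nat.card C := (Nat.gcd_dvd_right _ _).trans (Subgroup.index_dvd_card S)
    have hK : (powMonoidHom k : C →* C).range.index = k := by
      rw [IsCyclic.index_powMonoidHom_range, Nat.gcd_eq_right hkM]
    have hle : T ≤ (powMonoidHom k : C →* C).range := by
      apply sup_le
      · rintro _ ⟨x, rfl⟩
        obtain ⟨m, hm⟩ := Nat.gcd_dvd_left n S.index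
        refine ⟨x ^ m, ?_⟩
        rw [powMonoidHom_apply, powMonoidHom_apply, ← pow_mul, mul_comm]
        rw [← hk] at hm
        rw [← hm]
      · intro x hx
        have hx' : x ∈ Submonoid.powers g := mem_powers_iff_mem_zpowers.mpr (hg x)
        obtain ⟨a, rfl⟩ := hx'
        have h1 : (g ^ a) ^ Nat.card S = 1 := by
          have := pow_card_eq_one' (G := S) (x := ⟨g ^ a, hx⟩)
          exact congrArg Subtype.val this
        rw [← pow_mul] at h1
        have h2 : orderOf g ∣ a * Nat.card S := orderOf_dvd_of_pow_eq_one h1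
        rw [hM, ← Subgroup.index_mul_card S] at h2
        have hpos : 0 < Nat.card S := Nat.card_pos
        have h3 : S.index ∣ a := Nat.dvd_of_mul_dvd_mul_right hpos h2
        obtain ⟨m, hm⟩ := (Nat.gcd_dvd_right n S.index).trans h3
        refine ⟨g ^ m, ?_⟩
        rw [powMonoidHom_apply, ← pow_mul, mul_comm]
        rw [← hk] at hm
        change g ^ (k * m) = g ^ a
        rw [← hm]
    rw [← hK]
    exact Subgroup.index_dvd_of_le hle

end cyclic

end Cfsg.Agent.Helper2.PN
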