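import Mathlib

set_option autoImplicit false
set_option linter.unusedSectionVars false

namespace Cfsg.Agent.Helper2.PN

open Matrix

section herm

variable {ι : Type*} [Fintype ι] [DecidableEq ι] {F : Type*} [Field F]
variable (φ : F ≃+* F) (g : Matrix ι ι F)

/-- the sesquilinear form `u g φ(v)` -/
def hform (u v : ι → F) : F := u ⬝ᵥ (g *ᵥ (fun k => φ (v k)))

theorem hform_add_left (u u' v : ι → F) : hform φ g (u + u') v = hform φ g u v + hform φ g u' v := by
  unfold hform
  rw [add_dotProduct]

theorem hform_smul_left (c : F) (u v : ι → F) : hform φ g (c • u) v = c * hform φ g u v := by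
  unfold hform
  rw [smul_dotProduct, smul_eq_mul]

theorem hform_neg_left (u v : ι → F) : hform φ g (-u) v = -hform φ g u v := by
  unfold hform
  rw [neg_dotProduct]

theorem hform_sub_left (u u' v : ι → F) : hform φ g (u - u') v = hform φ g u v - hform φ g u' v := by
  rw [sub_eq_add_neg, hform_add_left, hform_neg_left, sub_eq_add_neg]

theorem hform_sum_left {κ : Type*} (s : Finset κ) (f : κ → ι → F) (v : ι → F) :
    hform φ g (∑ i ∈ s, f i) v = ∑ i ∈ s, hform φ g (f i) v := by
  unfold hform
  rw [sum_dotProduct]

theorem hform_add_right (u v v' : ι → F) : hform φ g u (v + v') = hform φ g u v + hform φ g u v' := by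
  unfold hform
  have : (fun k => φ ((v + v') k)) = (fun k => φ (v k)) + (fun k => φ (v' k)) := by
    funext k
    simp only [Pi.add_apply, map_add]
  rw [this, Matrix.mulVec_add, dotProduct_add]

theorem hform_smul_right (c : F) (u v : ι → F) : hform φ g u (c • v) = φ c * hform φ g u v := by
  unfold hform
  have : (fun k => φ ((c • v) k)) = φ c • (fun k => φ (v k)) := by
    funext k
    simp only [Pi.smul_apply, smul_eq_mul, map_mul]
  rw [this, Matrix.mulVec_smul, dotProduct_smul, smul_eq_mul]

theorem hform_neg_right (u v : ι → F) : hform φ g u (-v) = -hform φ g u v := by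
  have := hform_smul_right φ g (-1) u v
  rwa [neg_one_smul, map_neg, map_one, neg_one_mul] at this

theorem hform_sub_right (u v v' : ι → F) : hform φ g u (v - v') = hform φ g u v - hform φ g u v' := by
  rw [sub_eq_add_neg, hform_add_right, hform_neg_right, sub_eq_add_neg]

theorem hform_zero_right (u : ι → F) : hform φ g u 0 = 0 := by
  have := hform_smul_right φ g 0 u 0
  rwa [zero_smul, map_zero, zero_mul] at this

theorem hform_sum_right {κ : Type*} (s : Finset κ) (f : κ → ι → F) (u : ι → F) :
    hform φ g u (∑ i ∈ s, f i) = ∑ i ∈ s, hform φ g u (f i) := by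
  classical
  induction s using Finset.induction_on with
  | empty => rw [Finset.sum_empty, Finset.sum_empty, hform_zero_right]
  | insert a s ha ih => rw [Finset.sum_insert ha, Finset.sum_insert ha, hform_add_right, ih]

variable (hφ : ∀ x, φ (φ x) = x) (hg : (g.map φ)ᵀ = g)

include hφ hg in
/-- conjugate symmetry -/
theorem hform_conj (u v : ι → F) : φ (hform φ g u v) = hform φ g v u := by
  unfold hform
  have h1 := RingHom.map_dotProduct (φ : F →+* F) u (g *ᵥ (fun k => φ (v k)))
  rw [RingHom.coe_coe] at h1
  rw [h1]
  have h2 : (φ ∘ (g *ᵥ fun k => φ (v k))) = gᵀ *ᵥ v := by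
    funext i
    have := RingHom.map_mulVec (φ : F →+* F) g (fun k => φ (v k)) i
    rw [RingHom.coe_coe] at this
    rw [Function.comp_apply, this]
    have h3 : g.map φ = gᵀ := by
      rw [← hg, Matrix.transpose_transpose, hg]
    have h4 : ((φ : F → F) ∘ fun k => φ (v k)) = v := by
      funext k
      simp only [Function.comp_apply, hφ]
    rw [h4]
    change (g.map φ *ᵥ v) i = _
    rw [h3]
  rw [h2, Matrix.mulVec_transpose, dotProduct_comm, ← dotProduct_mulVec]
  rfl

include hφ in
/-- nondegeneracy -/
theorem hform_nondeg (hu : IsUnit g) (u : ι → F) (h : ∀ v, hform φ g u v = 0) : u = 0 := by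
  have h1 : u ᵥ* g = 0 := by
    funext b
    have := h (Pi.single b 1)
    unfold hform at this
    have h2 : (fun k => φ ((Pi.single b (1 : F) : ι → F) k)) = Pi.single b 1 := by
      funext k
      by_cases hk : k = b
      · subst hk
        simp
      · simp [Pi.single_eq_of_ne hk]
    rw [h2, dotProduct_mulVec, dotProduct_single_one] at this
    exact this
  apply Matrix.vecMul_injective_of_isUnit hu
  change u ᵥ* g = 0 ᵥ* g
  rw [h1, Matrix.zero_vecMul]

/-- orthonormality of a family on a finite set of indices -/
def IsON (s : Finset ι) (v : ι → ι → F) : Prop :=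
  ∀ i ∈ s, ∀ j ∈ s, hform φ g (v i) (v j) = if i = j then 1 else 0

/-- projection to the orthogonal complement of an orthonormal family -/
def oproj (s : Finset ι) (v : ι → ι → F) (y : ι → F) : ι → F :=
  y - ∑ i ∈ s, hform φ g y (v i) • v i

theorem hform_oproj_left (s : Finset ι) (v : ι → ι → F) (hv : IsON φ g s v) (y : ι → F)
    (j : ι) (hj : j ∈ s) : hform φ g (oproj φ g s v y) (v j) = 0 := by
  unfold oproj
  rw [hform_sub_left, hform_sum_left, Finset.sum_eq_single j]
  · rw [hform_smul_left, hv j hj j hj, if_pos rfl, mul_one, sub_self]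
  · intro i hi hij
    rw [hform_smul_left, hv i hi j hj, if_neg hij, mul_zero]
  · intro h
    exact absurd hj h

theorem hform_oproj_right (s : Finset ι) (v : ι → ι → F) (x z : ι → F)
    (hx : ∀ j ∈ s, hform φ g x (v j) = 0) :
    hform φ g x (oproj φ g s v z) = hform φ g x z := by
  unfold oproj
  rw [hform_sub_right, hform_sum_right, Finset.sum_eq_zero, sub_zero]
  intro i hi
  rw [hform_smul_right, hx i hi, mul_zero]

variable (htr : ∃ t : F, t + φ t ≠ 0)
  (hnorm : ∀ c : F, c ≠ 0 → φ c = c → ∃ a : F, a * φ a = c)

include hφ hg htr hnorm in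
/-- extension of an orthonormal family by one vector -/
theorem exists_extend (hu : IsUnit g) (s : Finset ι) (a : ι) (ha : a ∉ s) (v : ι → ι → F)
    (hv : IsON φ g s v) : ∃ x : ι → F, hform φ g x x = 1 ∧ ∀ j ∈ s, hform φ g x (v j) = 0 := by
  classical
  -- a vector outside the span
  have hlt : Submodule.span F ((s.image v : Finset (ι → F)) : Set (ι → F)) < ⊤ := by
    rw [lt_top_iff_ne_top]
    intro htop
    have h1 := finrank_span_finset_le_card (R := F) (s.image v)
    unfold Set.finrank at h1
    rw [htop, finrank_top, Module.finrank_fintype_fun_eq_card] at h1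
    have h2 : (s.image v).card ≤ s.card := Finset.card_image_le
    have h3 : s.card < Fintype.card ι := by
      have : (insert a s).card ≤ Fintype.card ι := Finset.card_le_univ _
      rw [Finset.card_insert_of_notMem ha] at this
      omega
    omega
  obtain ⟨y, -, hy⟩ := SetLike.exists_of_lt hlt
  set y' := oproj φ g s v y with hy'
  have hy'0 : y' ≠ 0 := by
    intro h0
    apply hy
    have : y = ∑ i ∈ s, hform φ g y (v i) • v i := by
      have h1 : y - ∑ i ∈ s, hform φ g y (v i) • v i = 0 := h0
      exact sub_eq_zero.mp h1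
    rw [this]
    apply Submodule.sum_mem
    intro i hi
    apply Submodule.smul_mem
    apply Submodule.subset_span
    rw [Finset.coe_image]
    exact ⟨i, hi, rfl⟩
  have hy'o : ∀ j ∈ s, hform φ g y' (v j) = 0 := fun j hj => hform_oproj_left φ g s v hv y j hj
  -- a partner
  obtain ⟨z, hz⟩ : ∃ z, hform φ g y' z ≠ 0 := by
    by_contra hcon
    apply hy'0
    apply hform_nondeg φ g hφ hu
    intro w
    by_contra hw
    exact hcon ⟨w, hw⟩
  set z' := oproj φ g s v z with hz'
  have hz'o : ∀ j ∈ s, hform φ g z' (v j) = 0 := fun j hj => hform_oproj_left φ g s v hv z j hj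
  have hyz : hform φ g y' z' ≠ 0 := by
    rw [hz', hform_oproj_right φ g s v y' z hy'o]
    exact hz
  -- an anisotropic vector in the orthogonal complement
  obtain ⟨x, hxx, hxo⟩ : ∃ x : ι → F, hform φ g x x ≠ 0 ∧ ∀ j ∈ s, hform φ g x (v j) = 0 := by
    by_contra hcon
    have hall : ∀ x : ι → F, (∀ j ∈ s, hform φ g x (v j) = 0) → hform φ g x x = 0 := by
      intro x hx
      by_contra hne
      exact hcon ⟨x, hne, hx⟩
    obtain ⟨t, ht⟩ := htr
    set a₀ := hform φ g y' z' with ha₀
    have hx1 : ∀ j ∈ s, hform φ g (y' + (t * a₀) • z') (v j) = 0 := by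
      intro j hj
      rw [hform_add_left, hform_smul_left, hy'o j hj, hz'o j hj, mul_zero, add_zero]
    have h1 := hall _ hx1
    rw [hform_add_left, hform_add_right, hform_add_right, hform_smul_left, hform_smul_left,
      hform_smul_right, hform_smul_right, hall y' hy'o, hall z' hz'o, ← ha₀,
      ← hform_conj φ g hφ hg y' z', ← ha₀] at h1
    have h2 : (t + φ t) * (a₀ * φ a₀) = 0 := by
      rw [map_mul] at h1
      linear_combination h1
    rcases mul_eq_zero.mp h2 with h3 | h3
    · exact ht h3
    · rcases mul_eq_zero.mp h3 with h4 | h4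
      · exact hyz h4
      · exact hyz ((map_eq_zero φ).mp h4)
  -- scaling
  have hfix : φ (hform φ g x x) = hform φ g x x := hform_conj φ g hφ hg x x
  obtain ⟨μ, hμ⟩ := hnorm _ hxx hfix
  have hμ0 : μ ≠ 0 := by
    rintro rfl
    rw [zero_mul] at hμ
    exact hxx hμ.symm
  refine ⟨μ⁻¹ • x, ?_, ?_⟩
  · rw [hform_smul_left, hform_smul_right, ← hμ, map_inv₀]
    have : φ μ ≠ 0 := (map_ne_zero φ).mpr hμ0
    field_simp
  · intro j hj
    rw [hform_smul_left, hxo j hj, mul_zero]

include hφ hg htr hnorm in
theorem exists_isON (hu : IsUnit g) (s : Finset ι) : ∃ v : ι → ι → F, IsON φ g s v := by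
  classical
  induction s using Finset.induction_on with
  | empty =>
    exact ⟨fun _ => 0, fun i hi => absurd hi (Finset.notMem_empty i)⟩
  | insert a s ha ih =>
    obtain ⟨v, hv⟩ := ih
    obtain ⟨x, hxx, hxo⟩ := exists_extend φ g hφ hg htr hnorm hu s a ha v hv
    refine ⟨Function.update v a x, ?_⟩
    intro i hi j hj
    rw [Finset.mem_insert] at hi hj
    by_cases hia : i = a
    · by_cases hja : j = a
      · subst hia
        subst hja
        rw [Function.update_self, if_pos rfl, hxx]
      · have hjs : j ∈ s := hj.resolve_left hja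
        subst hia
        rw [Function.update_self, Function.update_of_ne hja, hxo j hjs, if_neg (Ne.symm hja)]
    · have his : i ∈ s := hi.resolve_left hia
      by_cases hja : j = a
      · subst hja
        rw [Function.update_self, Function.update_of_ne hia, ← hform_conj φ g hφ hg, hxo i his,
          map_zero, if_neg hia]
      · have hjs : j ∈ s := hj.resolve_left hja
        rw [Function.update_of_ne hia, Function.update_of_ne hja]
        exact hv i his j hjs

include hφ hg htr hnorm in
/-- **classification of nondegenerate Hermitian matrices**: each is congruent to the identity -/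
theorem exists_herm_congr (hu : IsUnit g) :
    ∃ h : Matrix ι ι F, h * g * (h.map φ)ᵀ = 1 := by
  obtain ⟨v, hv⟩ := exists_isON φ g hφ hg htr hnorm hu Finset.univ
  refine ⟨Matrix.of v, ?_⟩
  ext i j
  have := hv i (Finset.mem_univ i) j (Finset.mem_univ j)
  rw [Matrix.one_apply, ← this]
  unfold hform
  rw [Matrix.mul_apply, dotProduct]
  have h1 : ∀ b, (Matrix.of v * g) i b * ((Matrix.of v).map φ)ᵀ b j =
      ∑ a, v i a * (g a b * φ (v j b)) := by
    intro b
    rw [Matrix.mul_apply, Finset.sum_mul]
    apply Finset.sum_congr rfl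
    intro a _
    rw [Matrix.transpose_apply, Matrix.map_apply, Matrix.of_apply, Matrix.of_apply, mul_assoc]
  have h2 : ∀ a, v i a * (g *ᵥ fun k => φ (v j k)) a = ∑ b, v i a * (g a b * φ (v j b)) := by
    intro a
    rw [Matrix.mulVec, dotProduct, Finset.mul_sum]
  rw [Finset.sum_congr rfl (fun b _ => h1 b), Finset.sum_congr rfl (fun a _ => h2 a),
    Finset.sum_comm]

end herm

end Cfsg.Agent.Helper2.PN
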