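import Mathlib
import Cfsg.Agent.Lib.Helper2.Psln19
import Cfsg.Agent.Lib.Helper2.Psln25

set_option autoImplicit false

namespace Cfsg.Agent.Helper2.PN

open Matrix Matrix.SpecialLinearGroup
open scoped MatrixGroups
open Cfsg.Agent.Helper13.FAut (pnorm pnorm_zero pnorm_succ hilbert90 fixedField mem_fixedField
  card_fixedField)

section gfcase

variable {ι : Type*} [Fintype ι] [DecidableEq ι] {F : Type*} [Field F]

theorem gT_mul (g h : GL ι F) : gT (g * h) = gT g * gT h := by
  apply Units.ext
  rw [Units.val_mul, gT_coe, gT_coe, gT_coe, _root_.mul_inv_rev, Units.val_mul,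
    Matrix.transpose_mul]

/-- inverse transpose as a homomorphism -/
def gTHom : GL ι F →* GL ι F where
  toFun := gT
  map_one' := gT_one
  map_mul' := gT_mul

theorem gTHom_apply (g : GL ι F) : gTHom g = gT g := rfl

theorem gT_gT (g : GL ι F) : gT (gT g) = g := by
  apply Units.ext
  rw [gT_coe, ← gTHom_apply, ← map_inv, gTHom_apply, gT_coe, inv_inv, Matrix.transpose_transpose]

theorem fieldGLHom_gT (σ : RingAut F) (g : GL ι F) :
    fieldGLHom σ (gT g) = gT (fieldGLHom σ g) := by
  apply Units.ext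
  rw [fieldGLHom_coe', gT_coe, gT_coe, ← map_inv, fieldGLHom_coe', Matrix.transpose_map]

/-- the twisted inverse transpose `g ↦ σ(g⁻ᵀ)` -/
def starHom (σ : RingAut F) : GL ι F →* GL ι F :=
  ((fieldGLHom σ : MulAut (GL ι F)).toMonoidHom).comp gTHom

theorem starHom_apply (σ : RingAut F) (g : GL ι F) : starHom σ g = fieldGLHom σ (gT g) := rfl

theorem starHom_starHom (σ : RingAut F) (hσ : σ * σ = 1) (g : GL ι F) :
    starHom σ (starHom σ g) = g := by
  rw [starHom_apply, starHom_apply, ← fieldGLHom_gT, gT_gT, ← MulAut.mul_apply, ← map_mul, hσ,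
    map_one, MulAut.one_apply]

theorem starHom_inv_coe (σ : RingAut F) (g : GL ι F) :
    (((starHom σ g)⁻¹ : GL ι F) : Matrix ι ι F) = ((g : Matrix ι ι F).map σ)ᵀ := by
  rw [starHom_apply, ← map_inv, fieldGLHom_coe', gT_inv_coe, Matrix.transpose_map]

theorem gT_scalar (u : Fˣ) :
    gT (Matrix.GeneralLinearGroup.scalar ι u) = Matrix.GeneralLinearGroup.scalar ι u⁻¹ := by
  apply Units.ext
  rw [gT_coe, ← map_inv, Matrix.GeneralLinearGroup.coe_scalar]
  ext i j
  rw [Matrix.transpose_apply, Matrix.scalar_apply, Matrix.diagonal_apply, Matrix.diagonal_apply]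
  by_cases h : i = j
  · subst h
    simp
  · rw [if_neg h, if_neg (Ne.symm h)]

theorem starHom_scalar (σ : RingAut F) (u : Fˣ) :
    starHom σ (Matrix.GeneralLinearGroup.scalar ι u) =
      Matrix.GeneralLinearGroup.scalar ι (Units.map (σ : F →* F) u)⁻¹ := by
  rw [starHom_apply, gT_scalar, fieldGLHom_scalar, map_inv]

theorem det_gT (g : GL ι F) :
    Matrix.GeneralLinearGroup.det (gT g) = (Matrix.GeneralLinearGroup.det g)⁻¹ := by
  rw [← map_inv]
  apply Units.ext
  change ((gT g : GL ι F) : Matrix ι ι F).det = ((g⁻¹ : GL ι F) : Matrix ι ι F).det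
  rw [gT_coe, Matrix.det_transpose]

theorem det_starHom (σ : RingAut F) (g : GL ι F) :
    Matrix.GeneralLinearGroup.det (starHom σ g) =
      (Units.map (σ : F →* F) (Matrix.GeneralLinearGroup.det g))⁻¹ := by
  rw [starHom_apply, det_fieldGLHom, det_gT, map_inv]

/-- the unitary group attached to an involutory field automorphism -/
def GUs (σ : RingAut F) : Subgroup (GL ι F) :=
  MonoidHom.eqLocus (starHom σ) (MonoidHom.id _)

theorem mem_GUs (σ : RingAut F) (g : GL ι F) : g ∈ GUs σ ↔ starHom σ g = g := Iff.rfl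

theorem mem_GUs_iff (σ : RingAut F) (g : GL ι F) :
    g ∈ GUs σ ↔ (g : Matrix ι ι F)ᵀ * (g : Matrix ι ι F).map σ = 1 := by
  rw [mem_GUs]
  constructor
  · intro h
    have h1 : (starHom σ g)⁻¹ * g = 1 := by rw [h, inv_mul_cancel]
    have h2 := congrArg Units.val h1
    rw [Units.val_mul, starHom_inv_coe, Units.val_one] at h2
    have h3 := congrArg Matrix.transpose h2
    rw [Matrix.transpose_mul, Matrix.transpose_transpose, Matrix.transpose_one] at h3
    exact h3
  · intro h
    have h3 := congrArg Matrix.transpose h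
    rw [Matrix.transpose_mul, Matrix.transpose_transpose, Matrix.transpose_one] at h3
    have h1 : (starHom σ g)⁻¹ * g = 1 := by
      apply Units.ext
      rw [Units.val_mul, starHom_inv_coe, Units.val_one]
      exact h3
    exact (inv_mul_eq_one.mp h1)

theorem x0_mul_Psi (σ : RingAut F) (g : GL ι F) :
    (phiF σ * tauAut) * Psi g = Psi (starHom σ g) * (phiF σ * tauAut) := by
  rw [starHom_apply]
  have h1 := tau_mul_Psi g
  have h2 := phiF_mul_Psi σ (gT g)
  calc phiF σ * tauAut * Psi g = phiF σ * (tauAut * Psi g) := by group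
    _ = (phiF σ * Psi (gT g)) * tauAut := by rw [h1]; group
    _ = Psi (fieldGLHom σ (gT g)) * (phiF σ * tauAut) := by rw [h2]; group

theorem x0_mul_self (σ : RingAut F) (hσ : σ * σ = 1) :
    (phiF (ι := ι) σ * tauAut) * (phiF σ * tauAut) = 1 := by
  have h1 := tau_mul_phiF (ι := ι) σ
  calc phiF (ι := ι) σ * tauAut * (phiF σ * tauAut)
      = phiF σ * (tauAut * phiF σ) * tauAut := by group
    _ = (phiF σ * phiF σ) * (tauAut * tauAut) := by rw [h1]; group
    _ = 1 := by rw [← map_mul, hσ, map_one, tauAut_mul_self, mul_one]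

theorem orderOf_eq_two_of_involution (σ : RingAut F) (hσ : σ * σ = 1) (hσ1 : σ ≠ 1) :
    orderOf σ = 2 := by
  apply orderOf_eq_prime
  · rw [pow_two, hσ]
  · exact hσ1

variable (p : ℕ) [CharP F p] [Fact p.Prime] [Nontrivial ι] [Finite F]

include p in
/-- the preimage of the centralizer of the standard graph-field involution -/
theorem comap_centralizer_x0 (σ : RingAut F) (hσ : σ * σ = 1) (hσ1 : σ ≠ 1) :
    (Subgroup.centralizer {phiF (ι := ι) σ * tauAut}).comap Psi =
      Subgroup.center (GL ι F) ⊔ GUs σ := by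
  have hord := orderOf_eq_two_of_involution σ hσ hσ1
  have hσr : σ ^ 2 = 1 := by rw [pow_two, hσ]
  have hmin := hmin_of_orderOf σ 2 hord
  apply le_antisymm
  · intro g hg
    rw [Subgroup.mem_comap, Subgroup.mem_centralizer_singleton_iff, x0_mul_Psi, ← mul_assoc,
      ← mul_assoc] at hg
    have hg' := mul_right_cancel hg
    obtain ⟨-, h1⟩ := eq_of_Psi_mul_phiF_eq p hg'
    rw [Matrix.GeneralLinearGroup.center_eq_range_scalar] at h1
    obtain ⟨l, hl⟩ := h1
    -- g = g* · scalar l
    have h2 : g = starHom σ g * Matrix.GeneralLinearGroup.scalar ι l := by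
      rw [hl]; group
    have h3 : starHom σ g = g * Matrix.GeneralLinearGroup.scalar ι (Units.map (σ : F →* F) l)⁻¹ := by
      have := congrArg (starHom σ) h2
      rw [map_mul, starHom_starHom σ hσ, starHom_scalar] at this
      exact this
    have h4 : l ∈ ufix σ := by
      rw [h3, mul_assoc, ← map_mul] at h2
      have h5 : Matrix.GeneralLinearGroup.scalar ι ((Units.map (σ : F →* F) l)⁻¹ * l) = 1 := by
        have : g * 1 = g * Matrix.GeneralLinearGroup.scalar ι ((Units.map (σ : F →* F) l)⁻¹ * l) := by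
          rw [mul_one]; exact h2
        exact (mul_left_cancel this).symm
      have h6 : (Units.map (σ : F →* F) l)⁻¹ * l = 1 := by
        apply scalar_injective (ι := ι)
        rw [h5, map_one]
      rw [mem_ufix]
      have h7 : l = Units.map (σ : F →* F) l := by
        rw [inv_mul_eq_one] at h6
        exact h6.symm
      exact (congrArg Units.val h7).symm
    have h5 : l⁻¹ ∈ ufix σ := Subgroup.inv_mem _ h4
    rw [← range_unorm σ 2 (by norm_num) hσr hmin] at h5
    obtain ⟨μ, hμ⟩ := h5
    have hμ' : μ * Units.map (σ : F →* F) μ = l⁻¹ := by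
      rw [← hμ]
      apply Units.ext
      rw [unorm_coe, pnorm_two, Units.val_mul]
      rfl
    have h7 : g * Matrix.GeneralLinearGroup.scalar ι μ ∈ GUs σ := by
      rw [mem_GUs, map_mul, starHom_scalar, h3, mul_assoc, ← map_mul]
      congr 2
      have h8 : (Units.map (σ : F →* F) l) = l := Units.ext h4
      rw [h8]
      have : l⁻¹ = μ * Units.map (σ : F →* F) μ := hμ'.symm
      rw [this, mul_inv_cancel_right]
    have h8 : g = Matrix.GeneralLinearGroup.scalar ι μ⁻¹ *
        (g * Matrix.GeneralLinearGroup.scalar ι μ) := by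
      rw [scalar_comm', mul_assoc, ← map_mul, mul_inv_cancel, map_one, mul_one]
    rw [h8]
    apply Subgroup.mul_mem_sup _ h7
    rw [Matrix.GeneralLinearGroup.center_eq_range_scalar]
    exact ⟨_, rfl⟩
  · apply sup_le
    · intro g hg
      rw [Subgroup.mem_comap, Psi_of_mem_center hg]
      exact Subgroup.one_mem _
    · intro g hg
      rw [mem_GUs] at hg
      rw [Subgroup.mem_comap, Subgroup.mem_centralizer_singleton_iff, x0_mul_Psi, hg]

end gfcase

section gfcase2

variable {ι : Type*} [Fintype ι] [DecidableEq ι] {F : Type*} [Field F]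

theorem gT_diagGL (e : ι → Fˣ) : gT (diagGL e) = diagGL (fun i => (e i)⁻¹) := by
  apply Units.ext
  rw [gT_coe, diagGL_inv_coe, diagGL_coe, Matrix.diagonal_transpose]

theorem starHom_dgHom {m : ℕ} (σ : RingAut F) (t : Fˣ) :
    starHom σ (dgHom (m := m) t) = dgHom (Units.map (σ : F →* F) t)⁻¹ := by
  rw [starHom_apply]
  have h1 : gT (dgHom (m := m) t) = dgHom (F := F) t⁻¹ := by
    change gT (diagGL _) = diagGL _
    rw [gT_diagGL]
    congr 1
    funext i
    change ((Pi.mulSingle (0 : Fin (m + 2)) t : Fin (m + 2) → Fˣ) i)⁻¹ =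
      (Pi.mulSingle (0 : Fin (m + 2)) t⁻¹ : Fin (m + 2) → Fˣ) i
    by_cases hi : i = 0
    · subst hi
      rw [Pi.mulSingle_eq_same, Pi.mulSingle_eq_same]
    · rw [Pi.mulSingle_eq_of_ne hi, Pi.mulSingle_eq_of_ne hi, inv_one]
  rw [h1, fieldGLHom_dgHom, map_inv]

theorem map_det_GUs {m : ℕ} (σ : RingAut F) :
    (GUs (ι := Fin (m + 2)) σ).map Matrix.GeneralLinearGroup.det = (unorm σ 2).ker := by
  ext t
  rw [MonoidHom.mem_ker]
  have key : ∀ t : Fˣ, unorm σ 2 t = 1 ↔ (Units.map (σ : F →* F) t)⁻¹ = t := by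
    intro t
    have : unorm σ 2 t = t * Units.map (σ : F →* F) t := by
      apply Units.ext
      rw [unorm_coe, pnorm_two, Units.val_mul]
      rfl
    rw [this]
    constructor
    · intro h
      exact (inv_eq_of_mul_eq_one_right (mul_comm t _ ▸ h))
    · intro h
      calc t * (Units.map (σ : F →* F)) t
          = ((Units.map (σ : F →* F)) t)⁻¹ * (Units.map (σ : F →* F)) t := by rw [h]
        _ = 1 := inv_mul_cancel _
  rw [key]
  constructor
  · rintro ⟨g, hg, rfl⟩
    have hg' : starHom σ g = g := hg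
    have := det_starHom σ g
    rw [hg'] at this
    exact this.symm
  · intro ht
    refine ⟨dgHom t, ?_, det_dgHom t⟩
    change starHom σ (dgHom t) = dgHom t
    rw [starHom_dgHom, ht]

variable (p : ℕ) [CharP F p] [Fact p.Prime] [Nontrivial ι] [Finite F]

include p in
/-- **conjugacy in the coset of the standard graph-field involution** -/
theorem exists_conj_x0 (σ : RingAut F) (hσ : σ * σ = 1) (hσ1 : σ ≠ 1) (g : GL ι F)
    (hg : (Psi g * (phiF σ * tauAut)) ^ 2 = 1) :
    ∃ h : GL ι F, Psi g * (phiF σ * tauAut) = Psi h * (phiF σ * tauAut) * (Psi h)⁻¹ := by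
  have hord := orderOf_eq_two_of_involution σ hσ hσ1
  have hσr : σ ^ 2 = 1 := by rw [pow_two, hσ]
  have hmin := hmin_of_orderOf σ 2 hord
  have hσσ : ∀ x : F, σ (σ x) = x := by
    intro x
    have := DFunLike.congr_fun hσ x
    exact this
  -- g g* is scalar
  have h0 : Psi (g * starHom σ g) = 1 := by
    rw [pow_two] at hg
    have h1 := x0_mul_Psi σ g
    have h2 := x0_mul_self (ι := ι) σ hσ
    rw [map_mul]
    calc Psi g * Psi (starHom σ g)
        = Psi g * (Psi (starHom σ g) * (phiF σ * tauAut)) * (phiF σ * tauAut) := by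
          rw [mul_assoc, mul_assoc (Psi (starHom σ g)), h2, mul_one]
      _ = Psi g * (phiF σ * tauAut) * (Psi g * (phiF σ * tauAut)) := by rw [← h1]; group
      _ = 1 := hg
  have h1 := (Psi_eq_one_iff p _).mp h0
  rw [Matrix.GeneralLinearGroup.center_eq_range_scalar] at h1
  obtain ⟨l, hl⟩ := h1
  -- l σ(l) = 1
  have h2 : l ∈ (unorm σ 2).ker := by
    have h3 : starHom σ g = g⁻¹ * Matrix.GeneralLinearGroup.scalar ι l := by
      rw [hl, inv_mul_cancel_left]
    have h4 := congrArg (starHom σ) h3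
    rw [starHom_starHom σ hσ, map_mul, map_inv, h3, starHom_scalar, _root_.mul_inv_rev, inv_inv,
      ← map_inv, mul_assoc] at h4
    have h5 : Matrix.GeneralLinearGroup.scalar ι (l⁻¹ * (Units.map (σ : F →* F) l)⁻¹) = 1 := by
      have : g * 1 = g * Matrix.GeneralLinearGroup.scalar ι (l⁻¹ * (Units.map (σ : F →* F) l)⁻¹) := by
        rw [mul_one, map_mul]
        calc g = Matrix.GeneralLinearGroup.scalar ι l⁻¹ *
              (g * Matrix.GeneralLinearGroup.scalar ι ((Units.map (σ : F →* F)) l)⁻¹) := h4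
          _ = g * (Matrix.GeneralLinearGroup.scalar ι l⁻¹ *
              Matrix.GeneralLinearGroup.scalar ι ((Units.map (σ : F →* F)) l)⁻¹) := by
            rw [← mul_assoc, scalar_comm', mul_assoc]
      exact (mul_left_cancel this).symm
    have h6 : l⁻¹ * (Units.map (σ : F →* F) l)⁻¹ = 1 := by
      apply scalar_injective (ι := ι)
      rw [h5, map_one]
    rw [MonoidHom.mem_ker]
    have : unorm σ 2 l = l * Units.map (σ : F →* F) l := by
      apply Units.ext
      rw [unorm_coe, pnorm_two, Units.val_mul]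
      rfl
    rw [this]
    have h7 : (l * Units.map (σ : F →* F) l)⁻¹ = 1 := by
      rw [_root_.mul_inv_rev, mul_comm]; exact h6
    exact inv_eq_one.mp h7
  rw [ker_unorm σ 2 (by norm_num) hσr hmin] at h2
  obtain ⟨d, hd⟩ := h2
  have hd' : d / Units.map (σ : F →* F) d = l := hd
  -- normalise
  set g' := g * Matrix.GeneralLinearGroup.scalar ι d⁻¹ with hg'
  have h3 : g' * starHom σ g' = 1 := by
    rw [hg', map_mul, starHom_scalar]
    calc g * Matrix.GeneralLinearGroup.scalar ι d⁻¹ * (starHom σ g *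
          Matrix.GeneralLinearGroup.scalar ι ((Units.map (σ : F →* F)) d⁻¹)⁻¹)
        = g * (Matrix.GeneralLinearGroup.scalar ι d⁻¹ * starHom σ g) *
          Matrix.GeneralLinearGroup.scalar ι ((Units.map (σ : F →* F)) d⁻¹)⁻¹ := by group
      _ = (g * starHom σ g) * (Matrix.GeneralLinearGroup.scalar ι d⁻¹ *
          Matrix.GeneralLinearGroup.scalar ι ((Units.map (σ : F →* F)) d⁻¹)⁻¹) := by
          rw [scalar_comm']; group
      _ = 1 := by
          rw [← hl, ← map_mul, ← map_mul, ← hd', map_inv, inv_inv]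
          have : d / (Units.map (σ : F →* F)) d * (d⁻¹ * (Units.map (σ : F →* F)) d) = 1 := by
            rw [div_eq_mul_inv, mul_mul_mul_comm, mul_inv_cancel, inv_mul_cancel, one_mul]
          rw [this, map_one]
  -- g' is hermitian
  have h4 : ((g' : Matrix ι ι F).map σ)ᵀ = (g' : Matrix ι ι F) := by
    rw [← starHom_inv_coe]
    have : (starHom σ g')⁻¹ = g' := (eq_inv_of_mul_eq_one_left h3).symm
    rw [this]
  have hnorm : ∀ c : F, c ≠ 0 → σ c = c → ∃ a : F, a * σ a = c := by
    intro c hc hfix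
    obtain ⟨a, -, ha⟩ := exists_pnorm_eq σ 2 (by norm_num) hσr hmin c hc hfix
    exact ⟨a, by rw [← pnorm_two, ha]⟩
  obtain ⟨h, hh⟩ := exists_herm_congr σ (g' : Matrix ι ι F) hσσ h4 (exists_trace_ne_zero σ hσ1)
    hnorm ⟨g', rfl⟩
  have hunit : IsUnit h := by
    rw [Matrix.mul_assoc] at hh
    exact ⟨⟨h, _, hh, mul_eq_one_comm.mp hh⟩, rfl⟩
  obtain ⟨hU, rfl⟩ := hunit
  have h5 : hU * g' * (starHom σ hU)⁻¹ = 1 := by
    apply Units.ext
    rw [Units.val_mul, Units.val_mul, starHom_inv_coe, Units.val_one]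
    exact hh
  have h6 : g' = hU⁻¹ * starHom σ hU := by
    have : hU * g' = starHom σ hU := mul_inv_eq_one.mp h5
    rw [← this, inv_mul_cancel_left]
  refine ⟨hU⁻¹, ?_⟩
  have hc : Matrix.GeneralLinearGroup.scalar ι d⁻¹ ∈ Subgroup.center (GL ι F) := by
    rw [Matrix.GeneralLinearGroup.center_eq_range_scalar]
    exact ⟨_, rfl⟩
  have h9 : Psi g = Psi g' := by
    rw [hg', map_mul, Psi_of_mem_center hc, mul_one]
  have h11 := x0_mul_Psi σ hU
  rw [h9, h6, map_mul, map_inv, inv_inv]
  calc (Psi hU)⁻¹ * Psi (starHom σ hU) * (phiF σ * tauAut)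
      = (Psi hU)⁻¹ * (Psi (starHom σ hU) * (phiF σ * tauAut)) := by group
    _ = (Psi hU)⁻¹ * (phiF σ * tauAut) * Psi hU := by rw [← h11]; group

end gfcase2

end Cfsg.Agent.Helper2.PN
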