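import Mathlib
import Cfsg.Agent.Lib.Helper2.Psln21
import Cfsg.Agent.Lib.Helper2.Psln26

set_option autoImplicit false

namespace Cfsg.Agent.Helper2.PN

open Matrix Matrix.SpecialLinearGroup
open scoped MatrixGroups
open Cfsg.Agent.Helper13.FAut (pnorm pnorm_zero pnorm_succ hilbert90 fixedField mem_fixedField
  card_fixedField)

section subfield

variable {ι : Type*} [Fintype ι] [DecidableEq ι] {F : Type*} [Field F]
variable {F₀ : Type*} [Field F₀]

/-- the embedding of an abstract copy of the fixed field -/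
noncomputable def jEmb (σ : RingAut F) (e : F₀ ≃+* fixedField σ) : F₀ →+* F :=
  (fixedField σ).subtype.comp (e : F₀ →+* fixedField σ)

theorem jEmb_apply (σ : RingAut F) (e : F₀ ≃+* fixedField σ) (a : F₀) :
    jEmb σ e a = ((e a : fixedField σ) : F) := rfl

theorem jEmb_fixed (σ : RingAut F) (e : F₀ ≃+* fixedField σ) (a : F₀) :
    σ (jEmb σ e a) = jEmb σ e a :=
  (mem_fixedField σ _).mp (e a).2

theorem jEmb_injective (σ : RingAut F) (e : F₀ ≃+* fixedField σ) :
    Function.Injective (jEmb σ e) := (jEmb σ e).injective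

theorem exists_jEmb_eq (σ : RingAut F) (e : F₀ ≃+* fixedField σ) (x : F) (hx : σ x = x) :
    ∃ a : F₀, jEmb σ e a = x := by
  refine ⟨e.symm ⟨x, (mem_fixedField σ x).mpr hx⟩, ?_⟩
  rw [jEmb_apply, RingEquiv.apply_symm_apply]

theorem range_map_jEmb (σ : RingAut F) (e : F₀ ≃+* fixedField σ) :
    (Matrix.GeneralLinearGroup.map (n := ι) (jEmb σ e)).range = GLfix σ := by
  ext g
  constructor
  · rintro ⟨g₀, rfl⟩
    rw [mem_GLfix]
    apply Units.ext
    rw [fieldGLHom_coe']
    ext i k
    rw [Matrix.map_apply]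
    exact jEmb_fixed σ e _
  · intro hg
    rw [mem_GLfix] at hg
    have hfix : ∀ i k, σ ((g : Matrix ι ι F) i k) = (g : Matrix ι ι F) i k := by
      intro i k
      have := congrArg (fun h : GL ι F => (h : Matrix ι ι F) i k) hg
      exact this
    choose a ha using fun i k => exists_jEmb_eq σ e _ (hfix i k)
    have hmap : (Matrix.of a).map (jEmb σ e) = (g : Matrix ι ι F) := by
      ext i k
      rw [Matrix.map_apply, Matrix.of_apply, ha]
    have hdet : (Matrix.of a).det ≠ 0 := by
      intro h0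
      have h1 : (g : Matrix ι ι F).det = 0 := by
        rw [← hmap, ← RingHom.mapMatrix_apply, ← RingHom.map_det, h0, map_zero]
      exact (Matrix.GeneralLinearGroup.det g).ne_zero h1
    refine ⟨Matrix.GeneralLinearGroup.mkOfDetNeZero (Matrix.of a) hdet, ?_⟩
    apply Units.ext
    exact hmap

theorem map_jEmb_mem_center_iff (σ : RingAut F) (e : F₀ ≃+* fixedField σ) (g₀ : GL ι F₀) :
    Matrix.GeneralLinearGroup.map (jEmb σ e) g₀ ∈ Subgroup.center (GL ι F) ↔
      g₀ ∈ Subgroup.center (GL ι F₀) := by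
  rw [Matrix.GeneralLinearGroup.center_eq_range_scalar,
    Matrix.GeneralLinearGroup.center_eq_range_scalar]
  constructor
  · rintro ⟨c, hc⟩
    have hent : ∀ i k, jEmb σ e ((g₀ : Matrix ι ι F₀) i k) = if i = k then (c : F) else 0 := by
      intro i k
      have := congrArg (fun h : GL ι F => (h : Matrix ι ι F) i k) hc
      simp only [Matrix.GeneralLinearGroup.coe_scalar, Matrix.scalar_apply,
        Matrix.diagonal_apply] at this
      exact this.symm
    rcases isEmpty_or_nonempty ι with hι | ⟨⟨i₀⟩⟩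
    · exact ⟨1, Subsingleton.elim _ _⟩
    · have hne : (g₀ : Matrix ι ι F₀) i₀ i₀ ≠ 0 := by
        intro h0
        have := hent i₀ i₀
        rw [if_pos rfl, h0, map_zero] at this
        exact c.ne_zero this.symm
      refine ⟨Units.mk0 _ hne, ?_⟩
      apply Units.ext
      rw [Matrix.GeneralLinearGroup.coe_scalar]
      ext i k
      rw [Matrix.scalar_apply, Matrix.diagonal_apply, Units.val_mk0]
      apply jEmb_injective σ e
      rw [hent i k]
      by_cases hik : i = k
      · rw [if_pos hik, if_pos hik, hent i₀ i₀, if_pos rfl]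
      · rw [if_neg hik, if_neg hik, map_zero]
  · rintro ⟨c, rfl⟩
    exact ⟨Units.map (jEmb σ e : F₀ →* F) c, (Matrix.GeneralLinearGroup.map_scalar _ _).symm⟩

end subfield

section fieldiso

variable {n : ℕ} {F : Type*} [Field F] (p : ℕ) [CharP F p] [Fact p.Prime]
variable {F₀ : Type*} [Field F₀]

theorem inf_centralizer_eq_map
    (x : MulAut (Matrix.ProjectiveSpecialLinearGroup (Fin n) F)) (C : Subgroup (GL (Fin n) F))
    (hC : (Subgroup.centralizer {x}).comap Psi = Subgroup.center (GL (Fin n) F) ⊔ C) :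
    Cfsg.inndiagPSL n F ⊓ Subgroup.centralizer {x} = C.map Psi := by
  rw [inndiag_eq]
  ext y
  rw [Subgroup.mem_inf]
  constructor
  · rintro ⟨⟨g, rfl⟩, hc⟩
    have hg : g ∈ (Subgroup.centralizer {x}).comap Psi := hc
    rw [hC, ← SetLike.mem_coe, Subgroup.normal_mul, Set.mem_mul] at hg
    obtain ⟨z, hz, g₁, hg₁, rfl⟩ := hg
    refine ⟨g₁, hg₁, ?_⟩
    rw [map_mul, Psi_of_mem_center hz, one_mul]
  · rintro ⟨g, hg, rfl⟩
    refine ⟨⟨g, rfl⟩, ?_⟩
    have : g ∈ (Subgroup.centralizer {x}).comap Psi := by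
      rw [hC]
      exact Subgroup.mem_sup_right hg
    exact this

include p in
/-- the centralizer of a standard field automorphism in the inner-diagonal group is `PGL_n` of
the fixed field -/
theorem centralizer_phiF_equiv [Nontrivial (Fin n)] (σ : RingAut F) (r : ℕ) (hr : 0 < r)
    (hσ : orderOf σ = r) (e : F₀ ≃+* fixedField σ) :
    Nonempty (↥(Cfsg.inndiagPSL n F ⊓ Subgroup.centralizer {phiF (ι := Fin n) σ}) ≃*
      Matrix.ProjGenLinGroup (Fin n) F₀) := by
  rw [inf_centralizer_eq_map _ _ (comap_centralizer_phiF p σ r hr hσ)]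
  set η : GL (Fin n) F₀ →* MulAut (Matrix.ProjectiveSpecialLinearGroup (Fin n) F) :=
    Psi.comp (Matrix.GeneralLinearGroup.map (jEmb σ e)) with hη
  have hrange : η.range = (GLfix (ι := Fin n) σ).map Psi := by
    rw [hη, MonoidHom.range_comp, range_map_jEmb]
  have hker : η.ker = Subgroup.center (GL (Fin n) F₀) := by
    ext g₀
    rw [MonoidHom.mem_ker, hη, MonoidHom.comp_apply, Psi_eq_one_iff p, map_jEmb_mem_center_iff]
  rw [← hrange]
  have e1 : (GL (Fin n) F₀ ⧸ η.ker) ≃* η.range := QuotientGroup.quotientKerEquivRange η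
  have e2 : (GL (Fin n) F₀ ⧸ η.ker) ≃* (GL (Fin n) F₀ ⧸ Subgroup.center (GL (Fin n) F₀)) :=
    QuotientGroup.quotientMulEquivOfEq hker
  have e3 : (GL (Fin n) F₀ ⧸ Subgroup.center (GL (Fin n) F₀)) ≃*
      Matrix.ProjGenLinGroup (Fin n) F₀ := MulEquiv.refl _
  exact ⟨e1.symm.trans (e2.trans e3)⟩

end fieldiso

section counts

variable {m : ℕ} {F : Type*} [Field F] [Finite F] (p : ℕ) [CharP F p] [Fact p.Prime]

include p in
theorem splitClassCount_phiF (σ : RingAut F) (r : ℕ) (hr : 0 < r) (hσ : orderOf σ = r) :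
    Cfsg.splitClassCount (Cfsg.inndiagPSL (m + 2) F)
      (Cfsg.Inn (Matrix.ProjectiveSpecialLinearGroup (Fin (m + 2)) F)) (phiF σ) =
      Nat.gcd (m + 2) (ufix σ).index := by
  rw [splitClassCount_eq p _ _ (comap_centralizer_phiF p σ r hr hσ), Subgroup.map_sup,
    map_det_center, Fintype.card_fin, map_det_GLfix, ← sup_assoc, sup_idem, index_pow_sup]

theorem index_ufix (σ : RingAut F) :
    (ufix σ).index = (Nat.card F - 1) / (Nat.card (fixedField σ) - 1) := by
  have h1 := Subgroup.index_mul_card (ufix σ)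
  rw [card_ufix, Nat.card_units] at h1
  have hpos : 0 < Nat.card (fixedField σ) - 1 := by
    have : 1 < Nat.card (fixedField σ) := Finite.one_lt_card
    omega
  exact (Nat.div_eq_of_eq_mul_left hpos h1.symm).symm

include p in
theorem splitClassCount_x0 (σ : RingAut F) (hσ : σ * σ = 1) (hσ1 : σ ≠ 1) :
    Cfsg.splitClassCount (Cfsg.inndiagPSL (m + 2) F)
      (Cfsg.Inn (Matrix.ProjectiveSpecialLinearGroup (Fin (m + 2)) F)) (phiF σ * tauAut) =
      Nat.gcd (m + 2) (Nat.card (fixedField σ) - 1) := by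
  have hord := orderOf_eq_two_of_involution σ hσ hσ1
  have hσr : σ ^ 2 = 1 := by rw [pow_two, hσ]
  have hmin := hmin_of_orderOf σ 2 hord
  rw [splitClassCount_eq p _ _ (comap_centralizer_x0 p σ hσ hσ1), Subgroup.map_sup,
    map_det_center, Fintype.card_fin, map_det_GUs, ← sup_assoc, sup_idem, index_pow_sup,
    Subgroup.index_ker, range_unorm σ 2 (by norm_num) hσr hmin, card_ufix]

end counts

end Cfsg.Agent.Helper2.PN
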