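import Mathlib
import Cfsg.Agent.Lib.Helper2.Psln27

set_option autoImplicit false

namespace Cfsg.Agent.Helper2.PN

open Matrix Matrix.SpecialLinearGroup
open scoped MatrixGroups
open Cfsg.Agent.Helper13.FAut (pnorm pnorm_zero pnorm_succ hilbert90 fixedField mem_fixedField
  card_fixedField)

section involution

variable {F : Type*} [Field F] [Fintype F] {p f : ℕ} [Fact p.Prime]

/-- an involutory automorphism of the field with `p ^ f` elements is `x ↦ x ^ (p ^ (f / 2))` -/
theorem involution_apply (hF : Fintype.card F = p ^ f) (σ : RingAut F) (hσ : σ * σ = 1)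
    (hσ1 : σ ≠ 1) : Even f ∧ ∀ x : F, σ x = x ^ (p ^ (f / 2)) := by
  have hp : Fact p.Prime := inferInstance
  have hchar : CharP F p := charP_of_card_eq_prime_pow hF
  let _ : Algebra (ZMod p) F := ZMod.algebra F p
  have hfin : Module.finrank (ZMod p) F = f := by
    have h1 := Module.card_eq_pow_finrank (K := ZMod p) (V := F)
    rw [hF, ZMod.card] at h1
    exact (Nat.pow_right_injective hp.out.two_le h1).symm
  let σ' : F ≃ₐ[ZMod p] F := AlgEquiv.ofRingEquiv (f := σ) (by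
    intro x
    have h3 : ((σ : F →+* F).comp (algebraMap (ZMod p) F)) = algebraMap (ZMod p) F :=
      Subsingleton.elim _ _
    exact RingHom.congr_fun h3 x)
  have hσ'x : ∀ x, σ' x = σ x := fun x => rfl
  obtain ⟨⟨k, hkf⟩, hk⟩ :=
    (FiniteField.bijective_frobeniusAlgEquivOfAlgebraic_pow (ZMod p) F).2 σ'
  simp only [] at hk
  have hσ'2 : σ' * σ' = 1 := by
    apply AlgEquiv.ext
    intro x
    exact DFunLike.congr_fun hσ x
  have h2k : FiniteField.frobeniusAlgEquivOfAlgebraic (ZMod p) F ^ (2 * k) = 1 := by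
    rw [two_mul, pow_add, hk, hσ'2]
  have hdvd : Module.finrank (ZMod p) F ∣ 2 * k := by
    rw [← FiniteField.orderOf_frobeniusAlgEquivOfAlgebraic]
    exact orderOf_dvd_of_pow_eq_one h2k
  rw [hfin] at hdvd hkf
  have hk0 : k ≠ 0 := by
    intro h0
    apply hσ1
    ext x
    have := DFunLike.congr_fun hk x
    rw [h0, pow_zero] at this
    rw [← hσ'x, ← this]
    rfl
  obtain ⟨c, hc⟩ := hdvd
  have hc1 : c = 1 := by
    rcases c with _ | _ | c
    · omega
    · rfl
    · exfalso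
      have : f * (c + 1 + 1) ≥ f * 2 := Nat.mul_le_mul_left f (by omega)
      omega
  rw [hc1, mul_one] at hc
  have hf2 : f / 2 = k := by omega
  refine ⟨⟨k, by omega⟩, fun x => ?_⟩
  rw [hf2, ← hσ'x, ← hk, AlgEquiv.coe_pow, FiniteField.coe_frobeniusAlgEquivOfAlgebraic_iterate,
    ZMod.card]

end involution

section comm

variable {F : Type*} [Field F] [Fintype F] (p : ℕ) [Fact p.Prime] [CharP F p]

include p in
theorem ringAut_comm (σ ρ : RingAut F) : σ * ρ = ρ * σ := by
  have hcyc : IsCyclic (RingAut F) := Cfsg.Agent.Helper2.PA.isCyclic_ringAut p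
  obtain ⟨g, hg⟩ := IsCyclic.exists_generator (α := RingAut F)
  obtain ⟨a, rfl⟩ := Subgroup.mem_zpowers_iff.mp (hg σ)
  obtain ⟨b, rfl⟩ := Subgroup.mem_zpowers_iff.mp (hg ρ)
  exact ((Commute.refl g).zpow_zpow a b)

end comm

section GU

variable {n : ℕ} {F : Type*} [Field F]

theorem dotProduct_mulVec_left (g : Matrix (Fin n) (Fin n) F) (u w : Fin n → F) :
    (g *ᵥ u) ⬝ᵥ w = u ⬝ᵥ (gᵀ *ᵥ w) := by
  rw [dotProduct_comm, dotProduct_mulVec, ← Matrix.mulVec_transpose, dotProduct_comm]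

theorem GUs_eq_GU (σ : RingAut F) (q : ℕ) (hq : ∀ x : F, σ x = x ^ q) :
    Cfsg.GU n F q = GUs (ι := Fin n) σ := by
  have hherm : ∀ u v : Fin n → F, Cfsg.hermForm n F q u v = u ⬝ᵥ (fun i => σ (v i)) := by
    intro u v
    unfold Cfsg.hermForm dotProduct
    apply Finset.sum_congr rfl
    intro i _
    change u i * v i ^ q = u i * σ (v i)
    rw [hq]
  have hσmv : ∀ (g : Matrix (Fin n) (Fin n) F) (v : Fin n → F),
      (fun i => σ ((g *ᵥ v) i)) = (g.map σ) *ᵥ (fun i => σ (v i)) := by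
    intro g v
    funext i
    have := RingHom.map_mulVec (σ : F →+* F) g v i
    rw [RingHom.coe_coe] at this
    rw [this]
    rfl
  ext g
  rw [mem_GUs_iff]
  change (∀ u v, Cfsg.hermForm n F q ((g : Matrix (Fin n) (Fin n) F) *ᵥ u)
    ((g : Matrix (Fin n) (Fin n) F) *ᵥ v) = Cfsg.hermForm n F q u v) ↔ _
  constructor
  · intro h
    ext i k
    have := h (Pi.single i 1) (Pi.single k 1)
    rw [hherm, hherm, hσmv, dotProduct_mulVec_left, Matrix.mulVec_mulVec] at this
    have h2 : (fun j => σ ((Pi.single k (1 : F) : Fin n → F) j)) = Pi.single k 1 := by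
      funext j
      by_cases hj : j = k
      · subst hj
        simp
      · simp [Pi.single_eq_of_ne hj]
    rw [h2, Matrix.mulVec_single_one, single_one_dotProduct, single_one_dotProduct] at this
    rw [Matrix.one_apply, ← Pi.single_apply]
    rw [← this]
    rfl
  · intro h u v
    rw [hherm, hherm, hσmv, dotProduct_mulVec_left, Matrix.mulVec_mulVec, h, Matrix.one_mulVec]

theorem scalars_eq_center : Cfsg.Geo.scalars (Fin n) F = Subgroup.center (GL (Fin n) F) := by
  rw [Matrix.GeneralLinearGroup.center_eq_range_scalar]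
  rfl

end GU

section gfiso

variable {n : ℕ} {F : Type*} [Field F] [Finite F] (p : ℕ) [CharP F p] [Fact p.Prime]

include p in
/-- the centralizer of the standard graph-field involution in the inner-diagonal group is
`PGU_n` -/
theorem centralizer_x0_equiv [Nontrivial (Fin n)] (σ : RingAut F) (hσ : σ * σ = 1) (hσ1 : σ ≠ 1)
    (q : ℕ) (hq : ∀ x : F, σ x = x ^ q) :
    Nonempty (↥(Cfsg.inndiagPSL n F ⊓ Subgroup.centralizer {phiF (ι := Fin n) σ * tauAut}) ≃*
      Cfsg.PGU n F q) := by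
  rw [inf_centralizer_eq_map _ _ (comap_centralizer_x0 p σ hσ hσ1)]
  have hGU := GUs_eq_GU (n := n) σ q hq
  set η : ↥(Cfsg.GU n F q) →* MulAut (Matrix.ProjectiveSpecialLinearGroup (Fin n) F) :=
    Psi.comp (Cfsg.GU n F q).subtype with hη
  have hrange : η.range = (GUs (ι := Fin n) σ).map Psi := by
    rw [hη, MonoidHom.range_comp, Subgroup.range_subtype, hGU]
  have hker : η.ker = (Cfsg.Geo.scalars (Fin n) F).subgroupOf (Cfsg.GU n F q) := by
    ext g
    rw [MonoidHom.mem_ker, hη, MonoidHom.comp_apply, Psi_eq_one_iff p, Subgroup.mem_subgroupOf,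
      scalars_eq_center]
    rfl
  rw [← hrange]
  have e1 : (↥(Cfsg.GU n F q) ⧸ η.ker) ≃* η.range := QuotientGroup.quotientKerEquivRange η
  have e2 : (↥(Cfsg.GU n F q) ⧸ η.ker) ≃*
      (↥(Cfsg.GU n F q) ⧸ (Cfsg.Geo.scalars (Fin n) F).subgroupOf (Cfsg.GU n F q)) :=
    QuotientGroup.quotientMulEquivOfEq hker
  exact ⟨e1.symm.trans e2⟩

end gfiso

section reductions

variable {n : ℕ} {F : Type*} [Field F]

theorem exists_of_isFieldAutClass {x : MulAut (Matrix.ProjectiveSpecialLinearGroup (Fin n) F)}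
    (hx : Cfsg.IsFieldAutClassPSL x) :
    ∃ (α : MulAut (Matrix.ProjectiveSpecialLinearGroup (Fin n) F)) (σ : RingAut F),
      σ ≠ 1 ∧ α * x * α⁻¹ = phiF σ := by
  obtain ⟨α, σ, hσ, h⟩ := hx
  exact ⟨α, σ, hσ, eq_phiF_of_isStdField h⟩

theorem exists_of_isGraphFieldAutClass
    {x : MulAut (Matrix.ProjectiveSpecialLinearGroup (Fin n) F)}
    (hx : Cfsg.IsGraphFieldAutClassPSL x) :
    3 ≤ n ∧ ∃ (α : MulAut (Matrix.ProjectiveSpecialLinearGroup (Fin n) F)) (σ : RingAut F),
      σ ≠ 1 ∧ α * x * α⁻¹ = phiF σ * tauAut := by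
  obtain ⟨h3, α, φ, γ, σ, hσ, hφ, hγ, h⟩ := hx
  refine ⟨h3, α, σ, hσ, ?_⟩
  rw [h, eq_phiF_of_isStdField hφ, eq_tauAut_of_isInverseTranspose hγ]

theorem x0_pow (σ : RingAut F) (k : ℕ) :
    (phiF (ι := Fin n) σ * tauAut) ^ k = phiF (σ ^ k) * tauAut ^ k := by
  have hc : Commute (phiF (ι := Fin n) σ) tauAut := (tau_mul_phiF σ).symm
  rw [hc.mul_pow, map_pow]

variable (p : ℕ) [CharP F p] [Fact p.Prime]

include p in
theorem orderOf_phiF [Nontrivial (Fin n)] (σ : RingAut F) :
    orderOf (phiF (ι := Fin n) σ) = orderOf σ :=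
  orderOf_injective phiF (phiF_injective p) σ

include p in
theorem involution_of_orderOf_x0 [Nontrivial (Fin n)] (σ : RingAut F)
    (h : orderOf (phiF (ι := Fin n) σ * tauAut) = 2) : σ * σ = 1 := by
  have h1 : (phiF (ι := Fin n) σ * tauAut) ^ 2 = 1 := by
    rw [← h, pow_orderOf_eq_one]
  rw [x0_pow, pow_two tauAut, tauAut_mul_self, mul_one] at h1
  have h2 : phiF (ι := Fin n) (σ ^ 2) = phiF 1 := by rw [h1, map_one]
  have := phiF_injective p h2
  rwa [pow_two] at this

include p in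
/-- a graph-field automorphism of prime order has order two -/
theorem orderOf_x0_eq_two {m : ℕ} (hm : 1 ≤ m) (σ : RingAut F) (r : ℕ) (hr : r.Prime)
    (h : orderOf (phiF (ι := Fin (m + 2)) σ * tauAut) = r) : r = 2 := by
  rcases hr.eq_two_or_odd' with h2 | hodd
  · exact h2
  · exfalso
    have h1 : (phiF (ι := Fin (m + 2)) σ * tauAut) ^ r = 1 := by
      rw [← h, pow_orderOf_eq_one]
    rw [x0_pow] at h1
    obtain ⟨k, hk⟩ := hodd
    have h3 : (tauAut : MulAut (Matrix.ProjectiveSpecialLinearGroup (Fin (m + 2)) F)) ^ r =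
        tauAut := by
      rw [hk, pow_succ, pow_mul, pow_two, tauAut_mul_self, one_pow, one_mul]
    rw [h3] at h1
    apply tauAut_not_mem_range (F := F) p hm
    have h4 : (tauAut : MulAut (Matrix.ProjectiveSpecialLinearGroup (Fin (m + 2)) F)) =
        (phiF (σ ^ r))⁻¹ := (eq_inv_of_mul_eq_one_right h1)
    rw [h4, ← map_inv, phiF_apply]
    exact ⟨_, rfl⟩

end reductions

section conjx0

variable {F : Type*} [Field F] [Fintype F] (p : ℕ) [Fact p.Prime] [CharP F p]

include p in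
/-- every conjugate of the standard graph-field involution under the full automorphism group is
a conjugate under the inner-diagonal group -/
theorem conj_x0_eq {n : ℕ} (hn : 2 ≤ n) (σ : RingAut F)
    (α : MulAut (Matrix.ProjectiveSpecialLinearGroup (Fin n) F)) :
    ∃ a : GL (Fin n) F, α * (phiF σ * tauAut) * α⁻¹ = Psi a * (phiF σ * tauAut) * (Psi a)⁻¹ := by
  have hc1 : ∀ ρ : RingAut F, phiF (ι := Fin n) ρ * (phiF σ * tauAut) * (phiF ρ)⁻¹ =
      phiF σ * tauAut := by
    intro ρ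
    have h1 : phiF (ι := Fin n) ρ * phiF σ = phiF σ * phiF ρ := by
      rw [← map_mul, ← map_mul, ringAut_comm p]
    have h2 := tau_mul_phiF (ι := Fin n) ρ
    calc phiF (ι := Fin n) ρ * (phiF σ * tauAut) * (phiF ρ)⁻¹
        = (phiF ρ * phiF σ) * tauAut * (phiF ρ)⁻¹ := by group
      _ = phiF σ * (phiF ρ * tauAut) * (phiF ρ)⁻¹ := by rw [h1]; group
      _ = phiF σ * tauAut := by rw [← h2]; group
  have hc2 : (tauAut : MulAut (Matrix.ProjectiveSpecialLinearGroup (Fin n) F)) *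
      (phiF σ * tauAut) * tauAut⁻¹ = phiF σ * tauAut := by
    rw [← mul_assoc, tau_mul_phiF, mul_assoc, mul_assoc, mul_inv_cancel, mul_one]
  rcases aut_cases p hn α with ⟨a, ρ, rfl⟩ | ⟨-, a, ρ, rfl⟩
  · refine ⟨a, ?_⟩
    calc Psi a * phiF ρ * (phiF σ * tauAut) * (Psi a * phiF ρ)⁻¹
        = Psi a * (phiF ρ * (phiF σ * tauAut) * (phiF ρ)⁻¹) * (Psi a)⁻¹ := by group
      _ = Psi a * (phiF σ * tauAut) * (Psi a)⁻¹ := by rw [hc1]
  · refine ⟨a, ?_⟩
    calc Psi a * phiF ρ * tauAut * (phiF σ * tauAut) * (Psi a * phiF ρ * tauAut)⁻¹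
        = Psi a * (phiF ρ * (tauAut * (phiF σ * tauAut) * tauAut⁻¹) * (phiF ρ)⁻¹) * (Psi a)⁻¹ := by
          group
      _ = Psi a * (phiF σ * tauAut) * (Psi a)⁻¹ := by rw [hc2, hc1]

end conjx0

end Cfsg.Agent.Helper2.PN
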