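import Mathlib
import Cfsg.Agent.Lib.Helper2.Psln20

set_option autoImplicit false
set_option linter.unusedSimpArgs false
set_option linter.unusedVariables false
set_option linter.unusedSectionVars false

/-! Field automorphisms of the unitary groups, part 22: arithmetic of the norm-one group of a
field with involution under a commuting automorphism. -/

namespace Cfsg.Agent.Helper2.PU

open Cfsg.Agent.Helper13.FAut (pnorm pnorm_zero pnorm_succ hilbert90)
open Cfsg.Agent.Helper2.PN (pnorm_mul pnorm_one pnorm_ne_zero pnorm_apply pnorm_fixed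
  exists_pnorm_eq)

section normone

variable {F : Type*} [Field F] (φ : F →+* F) (σ : F ≃+* F)

/-- partial norms commute with a commuting endomorphism -/
theorem pnorm_comm (hcomm : ∀ x, σ (φ x) = φ (σ x)) (c : F) (i : ℕ) :
    pnorm σ (φ c) i = φ (pnorm σ c i) := by
  induction i with
  | zero => rw [pnorm_zero, pnorm_zero, map_one]
  | succ i ih => rw [pnorm_succ, pnorm_succ, ih, map_mul, hcomm]

variable (hφφ : ∀ x, φ (φ x) = x) (hcomm : ∀ x, σ (φ x) = φ (σ x))

include hφφ in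
/-- Hilbert 90 for an involution, inside the fixed field of `σ` -/
theorem h90_invol (hT : ∃ t : F, t ≠ 0 ∧ σ t = t ∧ t + φ t = 0) {c : F} (hc : c * φ c = 1)
    (hσc : σ c = c) : ∃ a : F, a ≠ 0 ∧ σ a = a ∧ c * φ a = a := by
  by_cases h1 : c = -1
  · obtain ⟨t, ht0, hσt, ht⟩ := hT
    refine ⟨t, ht0, hσt, ?_⟩
    rw [h1]
    linear_combination -ht
  · refine ⟨1 + c, ?_, ?_, ?_⟩
    · intro h
      apply h1
      linear_combination h
    · rw [map_add, map_one, hσc]
    · rw [map_add, map_one]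
      linear_combination hc

include hφφ hcomm in
/-- Hilbert 90 for the norm-one group -/
theorem normOne_h90 (r : ℕ) (hr : 0 < r) (hσr : σ ^ r = 1)
    (hmin : ∀ i, 0 < i → i < r → σ ^ i ≠ 1)
    (hN : ∀ t : F, t ≠ 0 → σ t = t → φ t = t → ∃ a : F, σ a = a ∧ a * φ a = t)
    {u : F} (hu : u * φ u = 1) (hnu : pnorm σ u r = 1) :
    ∃ μ : F, μ * φ μ = 1 ∧ u * σ μ = μ := by
  obtain ⟨d, hd0, hd⟩ := hilbert90 σ r hr hσr hmin u hnu
  have hφd0 : φ d ≠ 0 := (map_ne_zero φ).2 hd0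
  have ht0 : d * φ d ≠ 0 := mul_ne_zero hd0 hφd0
  have hσt : σ (d * φ d) = d * φ d := by
    have h1 : φ u * φ (σ d) = φ d := by rw [← map_mul, hd]
    have h2 : u * φ u * (σ d * φ (σ d)) = d * φ d := by
      calc u * φ u * (σ d * φ (σ d)) = (u * σ d) * (φ u * φ (σ d)) := by ring
        _ = d * φ d := by rw [hd, h1]
    rw [hu, one_mul] at h2
    rw [map_mul, hcomm]
    exact h2
  have hφt : φ (d * φ d) = d * φ d := by rw [map_mul, hφφ, mul_comm]
  obtain ⟨a, hσa, ha⟩ := hN _ ht0 hσt hφt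
  have ha0 : a ≠ 0 := by
    rintro rfl
    rw [zero_mul] at ha
    exact ht0 ha.symm
  have hφa0 : φ a ≠ 0 := (map_ne_zero φ).2 ha0
  refine ⟨d / a, ?_, ?_⟩
  · rw [map_div₀, div_mul_div_comm, ha, div_self ht0]
  · rw [map_div₀, hσa, ← mul_div_assoc, hd]

variable [Finite F]

include hφφ hcomm in
/-- the norm from the norm-one group onto its fixed points is surjective -/
theorem normOne_norm_surj (r : ℕ) (hr : 0 < r) (hσr : σ ^ r = 1)
    (hmin : ∀ i, 0 < i → i < r → σ ^ i ≠ 1)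
    (hT : ∃ t : F, t ≠ 0 ∧ σ t = t ∧ t + φ t = 0) {c : F} (hc : c * φ c = 1)
    (hσc : σ c = c) : ∃ l : F, l * φ l = 1 ∧ pnorm σ l r = c := by
  obtain ⟨a, ha0, hσa, hca⟩ := h90_invol φ σ hφφ hT hc hσc
  obtain ⟨b, hb0, hb⟩ := exists_pnorm_eq σ r hr hσr hmin a ha0 hσa
  have hφb0 : φ b ≠ 0 := (map_ne_zero φ).2 hb0
  have hφa0 : φ a ≠ 0 := (map_ne_zero φ).2 ha0
  refine ⟨b / φ b, ?_, ?_⟩
  · rw [map_div₀, hφφ, div_mul_div_comm, mul_comm, div_self (mul_ne_zero hφb0 hb0)]
  · have h1 : pnorm σ (b / φ b) r * pnorm σ (φ b) r = pnorm σ b r := by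
      rw [← pnorm_mul, div_mul_cancel₀ _ hφb0]
    rw [pnorm_comm φ σ hcomm, hb] at h1
    have h2 : pnorm σ (b / φ b) r * φ a = c * φ a := by rw [h1, hca]
    exact mul_right_cancel₀ hφa0 h2

end normone

end Cfsg.Agent.Helper2.PU
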