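import Mathlib
import Cfsg.Agent.Lib.Helper11.UnitaryParabolic
import Cfsg.Agent.Lib.Helper11.UnitarySimple

set_option autoImplicit false
set_option linter.unusedSimpArgs false

/-! Automorphisms of the projective special unitary groups, part 1: Siegel elements, the
group `Qg v` attached to an isotropic vector, its fixed vectors and its centraliser. -/

namespace Cfsg.Agent.Helper2.PU

open Matrix Cfsg.Agent.Helper11 Cfsg.Agent.Helper11.Herm

/-- the standing hypotheses on the involution `φ` and the index type -/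
structure Hyp {F : Type*} [Field F] (φ : F →+* F) (ι : Type*) [Fintype ι] [DecidableEq ι] :
    Prop where
  hφ : φ ≠ RingHom.id F
  hφφ : ∀ x, φ (φ x) = x
  hN1 : ∀ c : F, c ≠ 0 → φ c = c → ∃ l : F, l ≠ 0 ∧ l * φ l = c
  hN2 : ∃ μ : F, μ + φ μ ≠ 0
  hcard : 3 ≤ Fintype.card ι
  hgen : ∀ M : Matrix ι ι F, IsU φ M → M.det = 1 → M ∈ TM φ

section basic

variable {F : Type*} [Field F] {ι : Type*} [Fintype ι] [DecidableEq ι] (φ : F →+* F)

theorem hdot_inv_smul (g : SUg ι φ) (x y : ι → F) :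
    hdot φ (g⁻¹ • x) y = hdot φ x (g • y) := by
  have := sug_hdot_smul φ g (g⁻¹ • x) y
  rw [smul_inv_smul] at this
  exact this.symm

theorem hdot_smul_inv (g : SUg ι φ) (x y : ι → F) :
    hdot φ x (g⁻¹ • y) = hdot φ (g • x) y := by
  have := sug_hdot_smul φ g x (g⁻¹ • y)
  rw [smul_inv_smul] at this
  exact this.symm

theorem sug_smul_add (g : SUg ι φ) (x y : ι → F) : g • (x + y) = g • x + g • y := by
  rw [sug_smul_def, sug_smul_def, sug_smul_def, Matrix.mulVec_add]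

theorem sug_smul_sub (g : SUg ι φ) (x y : ι → F) : g • (x - y) = g • x - g • y := by
  rw [sug_smul_def, sug_smul_def, sug_smul_def, Matrix.mulVec_sub]

theorem sug_smul_smul (g : SUg ι φ) (c : F) (x : ι → F) : g • (c • x) = c • (g • x) := by
  rw [sug_smul_def, sug_smul_def, Matrix.mulVec_smul]

theorem sug_smul_zero (g : SUg ι φ) : g • (0 : ι → F) = 0 := by
  rw [sug_smul_def, Matrix.mulVec_zero]

theorem sug_ext_smul {g h : SUg ι φ} (H : ∀ x : ι → F, g • x = h • x) : g = h := by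
  apply sug_ext
  rw [Matrix.ext_iff_mulVec]
  exact H

theorem smat_mulVec (g : SUg ι φ) (x : ι → F) : smat φ g *ᵥ x = g • x := rfl

/-- conjugation of a Siegel element by a unitary element -/
theorem sg_conj (g : SUg ι φ) (e w : ι → F) (s : F) :
    smat φ g * sg φ e w s * smat φ g⁻¹ = sg φ (g • e) (g • w) s := by
  rw [Matrix.ext_iff_mulVec]
  intro x
  rw [← Matrix.mulVec_mulVec, ← Matrix.mulVec_mulVec, smat_mulVec, sg_mulVec, sg_mulVec,
    smat_mulVec, sug_smul_add, sug_smul_add, sug_smul_smul, sug_smul_smul, smul_inv_smul,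
    hdot_inv_smul, hdot_inv_smul]

theorem sg_smul_left (hφφ : ∀ x, φ (φ x) = x) (l : F) (e w : ι → F) (s : F) :
    sg φ (l • e) w s = sg φ e (φ l • w) (l * φ l * s) := by
  rw [Matrix.ext_iff_mulVec]
  intro x
  rw [sg_mulVec, sg_mulVec, hdot_smul_right, hdot_smul_right, hφφ]
  simp only [smul_smul]
  module

theorem sg_add_smul (e w : ι → F) (c s : F) :
    sg φ e (w + c • e) s = sg φ e w (s + c - φ c) := by
  rw [Matrix.ext_iff_mulVec]
  intro x
  rw [sg_mulVec, sg_mulVec, hdot_add_right, hdot_smul_right]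
  simp only [smul_add, smul_smul]
  module

end basic

section siegel

variable {F : Type*} [Field F] {ι : Type*} [Fintype ι] [DecidableEq ι] (φ : F →+* F)

open Classical in
/-- the Siegel element as a group element (the identity for inadmissible parameters) -/
noncomputable def sgG (e w : ι → F) (s : F) : SUg ι φ :=
  if h : (∀ x, φ (φ x) = x) ∧ hdot φ e e = 0 ∧ hdot φ w e = 0 ∧ s + φ s + hdot φ w w = 0 then
    mkS φ (sg φ e w s) (isU_sg φ h.1 e w s h.2.1 h.2.2.1 h.2.2.2)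
      (det_sg φ e w s h.2.1 h.2.2.1 (hdot_eq_zero_symm φ h.1 _ _ h.2.2.1))
  else 1

theorem smat_sgG (hφφ : ∀ x, φ (φ x) = x) {e w : ι → F} {s : F} (he : hdot φ e e = 0)
    (hwe : hdot φ w e = 0) (hs : s + φ s + hdot φ w w = 0) :
    smat φ (sgG φ e w s) = sg φ e w s := by
  unfold sgG
  rw [dif_pos ⟨hφφ, he, hwe, hs⟩]
  rfl

theorem sgG_smul (hφφ : ∀ x, φ (φ x) = x) {e w : ι → F} {s : F} (he : hdot φ e e = 0)
    (hwe : hdot φ w e = 0) (hs : s + φ s + hdot φ w w = 0) (x : ι → F) :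
    sgG φ e w s • x = x + hdot φ x e • w + (s * hdot φ x e - hdot φ x w) • e := by
  rw [sug_smul_def, smat_sgG φ hφφ he hwe hs, sg_mulVec]

/-- the unitary transvection as a group element -/
noncomputable def tvG (v : ι → F) (c : F) : SUg ι φ := sgG φ v 0 c

theorem smat_tvG (hφφ : ∀ x, φ (φ x) = x) {v : ι → F} {c : F} (hv : hdot φ v v = 0)
    (hc : c + φ c = 0) : smat φ (tvG φ v c) = tv φ v c := by
  unfold tvG
  rw [smat_sgG φ hφφ hv (hdot_zero_left φ v) (by rw [hdot_zero_left, add_zero, hc]), sg_zero]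

theorem tvG_smul (hφφ : ∀ x, φ (φ x) = x) {v : ι → F} {c : F} (hv : hdot φ v v = 0)
    (hc : c + φ c = 0) (x : ι → F) : tvG φ v c • x = x + (c * hdot φ x v) • v := by
  rw [sug_smul_def, smat_tvG φ hφφ hv hc, tv_mulVec]

theorem tvG_mem_rootGroup (hφφ : ∀ x, φ (φ x) = x) {v : ι → F} {c : F} (hv : hdot φ v v = 0)
    (hc : c + φ c = 0) : tvG φ v c ∈ rootGroup φ v := by
  rw [mem_rootGroup φ hv]
  exact ⟨c, hc, smat_tvG φ hφφ hv hc⟩

theorem exists_tvG_of_mem_rootGroup (hφφ : ∀ x, φ (φ x) = x) {v : ι → F} (hv : hdot φ v v = 0)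
    {g : SUg ι φ} (hg : g ∈ rootGroup φ v) : ∃ c : F, c + φ c = 0 ∧ g = tvG φ v c := by
  rw [mem_rootGroup φ hv] at hg
  obtain ⟨c, hc, hg⟩ := hg
  refine ⟨c, hc, ?_⟩
  apply sug_ext
  rw [hg, smat_tvG φ hφφ hv hc]

theorem sgG_mul (hφφ : ∀ x, φ (φ x) = x) {e w w' : ι → F} {s s' : F} (he : hdot φ e e = 0)
    (hwe : hdot φ w e = 0) (hs : s + φ s + hdot φ w w = 0)
    (hwe' : hdot φ w' e = 0) (hs' : s' + φ s' + hdot φ w' w' = 0) :
    sgG φ e w s * sgG φ e w' s' = sgG φ e (w + w') (s + s' - hdot φ w' w) := by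
  apply sug_ext
  have h3 : (s + s' - hdot φ w' w) + φ (s + s' - hdot φ w' w) + hdot φ (w + w') (w + w') = 0 := by
    simp only [map_add, map_sub, hdot_add_left, hdot_add_right, hdot_conj φ hφφ]
    linear_combination hs + hs'
  rw [smat_mul, smat_sgG φ hφφ he hwe hs, smat_sgG φ hφφ he hwe' hs',
    smat_sgG φ hφφ he (by rw [hdot_add_left, hwe, hwe', add_zero]) h3,
    sg_mul_sg φ e w w' s s' he hwe' (hdot_eq_zero_symm φ hφφ _ _ hwe)]

theorem conj_sgG (hφφ : ∀ x, φ (φ x) = x) (g : SUg ι φ) {e w : ι → F} {s : F}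
    (he : hdot φ e e = 0) (hwe : hdot φ w e = 0) (hs : s + φ s + hdot φ w w = 0) :
    g * sgG φ e w s * g⁻¹ = sgG φ (g • e) (g • w) s := by
  apply sug_ext
  rw [smat_mul, smat_mul, smat_sgG φ hφφ he hwe hs,
    smat_sgG φ hφφ (by rw [sug_hdot_smul, he]) (by rw [sug_hdot_smul, hwe])
      (by rw [sug_hdot_smul, hs]), sg_conj]

theorem conj_tvG (hφφ : ∀ x, φ (φ x) = x) (g : SUg ι φ) {v : ι → F} {c : F}
    (hv : hdot φ v v = 0) (hc : c + φ c = 0) :
    g * tvG φ v c * g⁻¹ = tvG φ (g • v) c := by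
  unfold tvG
  rw [conj_sgG φ hφφ g hv (hdot_zero_left φ v) (by rw [hdot_zero_left, add_zero, hc]),
    sug_smul_zero]

end siegel

section qgroup

variable {F : Type*} [Field F] {ι : Type*} [Fintype ι] [DecidableEq ι] (φ : F →+* F)

/-- the group of elements fixing `v` and acting trivially on `v^⊥ / v` -/
def Qg (v : ι → F) : Subgroup (SUg ι φ) where
  carrier := {g | g • v = v ∧ ∀ x, hdot φ x v = 0 → ∃ c : F, g • x = x + c • v}
  mul_mem' := by
    rintro a b ⟨ha, ha'⟩ ⟨hb, hb'⟩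
    refine ⟨by rw [mul_smul, hb, ha], ?_⟩
    intro x hx
    obtain ⟨c, hc⟩ := hb' x hx
    obtain ⟨d, hd⟩ := ha' x hx
    refine ⟨d + c, ?_⟩
    rw [mul_smul, hc, sug_smul_add, sug_smul_smul, ha, hd, add_smul]
    abel
  one_mem' := ⟨one_smul _ _, fun x _ => ⟨0, by rw [one_smul, zero_smul, add_zero]⟩⟩
  inv_mem' := by
    rintro a ⟨ha, ha'⟩
    have hav : a⁻¹ • v = v := by
      rw [inv_smul_eq_iff, ha]
    refine ⟨hav, ?_⟩
    intro x hx
    obtain ⟨c, hc⟩ := ha' x hx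
    refine ⟨-c, ?_⟩
    rw [inv_smul_eq_iff, sug_smul_add, sug_smul_smul, ha, hc, neg_smul]
    abel

theorem mem_Qg_iff (v : ι → F) (g : SUg ι φ) :
    g ∈ Qg φ v ↔ g • v = v ∧ ∀ x, hdot φ x v = 0 → ∃ c : F, g • x = x + c • v := Iff.rfl

theorem sgG_mem_Qg (hφφ : ∀ x, φ (φ x) = x) {e w : ι → F} {s : F} (he : hdot φ e e = 0)
    (hwe : hdot φ w e = 0) (hs : s + φ s + hdot φ w w = 0) : sgG φ e w s ∈ Qg φ e := by
  have hew : hdot φ e w = 0 := hdot_eq_zero_symm φ hφφ _ _ hwe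
  refine ⟨?_, ?_⟩
  · rw [sgG_smul φ hφφ he hwe hs, he, hew, zero_smul, mul_zero, sub_zero, zero_smul, add_zero,
      add_zero]
  · intro x hx
    refine ⟨-hdot φ x w, ?_⟩
    rw [sgG_smul φ hφφ he hwe hs, hx, zero_smul, mul_zero, zero_sub, add_zero]

theorem tvG_mem_Qg (hφφ : ∀ x, φ (φ x) = x) {v : ι → F} {c : F} (hv : hdot φ v v = 0)
    (hc : c + φ c = 0) : tvG φ v c ∈ Qg φ v :=
  sgG_mem_Qg φ hφφ hv (hdot_zero_left φ v) (by rw [hdot_zero_left, add_zero, hc])

theorem rootGroup_le_Qg (hφφ : ∀ x, φ (φ x) = x) {v : ι → F} (hv : hdot φ v v = 0) :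
    rootGroup φ v ≤ Qg φ v := by
  intro g hg
  obtain ⟨c, hc, rfl⟩ := exists_tvG_of_mem_rootGroup φ hφφ hv hg
  exact tvG_mem_Qg φ hφφ hv hc

/-- decomposition of a vector along a hyperbolic pair -/
theorem hdot_sub_smul_left (x e f : ι → F) (hfe : hdot φ f e = 1) :
    hdot φ (x - hdot φ x e • f) e = 0 := by
  rw [hdot_sub_left, hdot_smul_left, hfe, mul_one, sub_self]

/-- structure of the elements of `Qg e`, relative to a hyperbolic partner `f` of `e` -/
theorem exists_sg_of_mem_Qg (hφφ : ∀ x, φ (φ x) = x) {e f : ι → F} (he : hdot φ e e = 0)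
    (hf : hdot φ f f = 0) (hef : hdot φ e f = 1) {g : SUg ι φ} (hg : g ∈ Qg φ e) :
    ∃ (w : ι → F) (s : F), hdot φ w e = 0 ∧ hdot φ w f = 0 ∧ s + φ s + hdot φ w w = 0 ∧
      g • f = f + w + s • e ∧ g = sgG φ e w s := by
  have hfe : hdot φ f e = 1 := by rw [← hdot_conj φ hφφ e f, hef, map_one]
  obtain ⟨hge, hg'⟩ := hg
  obtain ⟨y, hy⟩ : ∃ y, y = g • f - f := ⟨_, rfl⟩
  obtain ⟨s, hs⟩ : ∃ s, s = hdot φ y f := ⟨_, rfl⟩
  obtain ⟨w, hw⟩ : ∃ w, w = y - s • e := ⟨_, rfl⟩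
  have hye : hdot φ y e = 0 := by
    rw [hy, hdot_sub_left, hfe]
    have := sug_hdot_smul φ g f e
    rw [hge, hfe] at this
    rw [this, sub_self]
  have hwe : hdot φ w e = 0 := by
    rw [hw, hdot_sub_left, hdot_smul_left, he, hye, mul_zero, sub_zero]
  have hwf : hdot φ w f = 0 := by
    rw [hw, hdot_sub_left, hdot_smul_left, hef, ← hs, mul_one, sub_self]
  have hew : hdot φ e w = 0 := hdot_eq_zero_symm φ hφφ _ _ hwe
  have hfw : hdot φ f w = 0 := hdot_eq_zero_symm φ hφφ _ _ hwf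
  have hgf : g • f = f + w + s • e := by
    rw [hw, hy]
    abel
  have hss : s + φ s + hdot φ w w = 0 := by
    have := sug_hdot_smul φ g f f
    rw [hgf, hf] at this
    simp only [hdot_add_left, hdot_add_right, hdot_smul_left, hdot_smul_right, hf, he, hef, hfe,
      hwe, hwf, hew, hfw] at this
    linear_combination this
  refine ⟨w, s, hwe, hwf, hss, hgf, ?_⟩
  apply sug_ext_smul
  intro x
  rw [sgG_smul φ hφφ he hwe hss]
  obtain ⟨x0, hx0⟩ : ∃ x0, x0 = x - hdot φ x e • f := ⟨_, rfl⟩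
  have hx0e : hdot φ x0 e = 0 := by rw [hx0]; exact hdot_sub_smul_left φ x e f hfe
  obtain ⟨c, hc⟩ := hg' x0 hx0e
  have hxx : x = x0 + hdot φ x e • f := by rw [hx0]; abel
  have hcval : c = -hdot φ x0 w := by
    have := sug_hdot_smul φ g x0 f
    rw [hc, hgf] at this
    simp only [hdot_add_left, hdot_add_right, hdot_smul_left, hdot_smul_right, hf, he, hef, hfe,
      hwe, hwf, hew, hfw, hx0e] at this
    linear_combination this
  have hx0w : hdot φ x0 w = hdot φ x w := by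
    rw [hx0, hdot_sub_left, hdot_smul_left, hfw, mul_zero, sub_zero]
  have h1 : g • x = g • x0 + hdot φ x e • (g • f) := by
    conv_lhs => rw [hxx]
    rw [sug_smul_add, sug_smul_smul]
  rw [h1, hc, hgf, hcval, hx0w, hx0]
  simp only [smul_add, smul_smul, sub_smul, neg_smul]
  module

theorem smat_pow (g : SUg ι φ) (k : ℕ) : smat φ (g ^ k) = smat φ g ^ k := by
  induction k with
  | zero => rw [pow_zero, pow_zero, smat_one]
  | succ k ih => rw [pow_succ, pow_succ, smat_mul, ih]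

/-- elements of `Qg v` have order dividing `p ^ 2` -/
theorem pow_eq_one_of_mem_Qg (p : ℕ) [Fact p.Prime] [CharP F p] [Nonempty ι] {v : ι → F}
    {g : SUg ι φ} (hg : g ∈ Qg φ v) : g ^ (p ^ 2) = 1 := by
  obtain ⟨hgv, hg'⟩ := hg
  obtain ⟨N, hN⟩ : ∃ N, N = smat φ g - 1 := ⟨_, rfl⟩
  have hNx : ∀ x, N *ᵥ x = g • x - x := by
    intro x
    rw [hN, Matrix.sub_mulVec, Matrix.one_mulVec, smat_mulVec]
  have hNv : N *ᵥ v = 0 := by rw [hNx, hgv, sub_self]
  have hNperp : ∀ x, hdot φ (N *ᵥ x) v = 0 := by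
    intro x
    rw [hNx, hdot_sub_left]
    have := sug_hdot_smul φ g x v
    rw [hgv] at this
    rw [this, sub_self]
  have hN3 : N * N * N = 0 := by
    rw [Matrix.ext_iff_mulVec]
    intro x
    rw [← Matrix.mulVec_mulVec, ← Matrix.mulVec_mulVec, Matrix.zero_mulVec]
    obtain ⟨c, hc⟩ := hg' (N *ᵥ x) (hNperp x)
    have h1 : N *ᵥ (N *ᵥ x) = c • v := by
      rw [hNx (N *ᵥ x), hc]
      abel
    rw [h1, Matrix.mulVec_smul, hNv, smul_zero]
  have hp2 : 3 ≤ p ^ 2 := by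
    have := (Fact.out : p.Prime).two_le
    nlinarith
  have hNp : N ^ (p ^ 2) = 0 := by
    have : p ^ 2 = 3 + (p ^ 2 - 3) := by omega
    rw [this, pow_add, pow_succ, pow_two, hN3, zero_mul]
  apply sug_ext
  rw [smat_pow, smat_one]
  have h2 : smat φ g = 1 + N := by rw [hN]; abel
  rw [h2, add_pow_char_pow_of_commute p 2 (Commute.one_left N), one_pow, hNp, add_zero]

theorem isPGroup_Qg (p : ℕ) [Fact p.Prime] [CharP F p] [Nonempty ι] (v : ι → F) :
    IsPGroup p (Qg φ v) := by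
  rintro ⟨g, hg⟩
  refine ⟨2, ?_⟩
  apply Subtype.ext
  rw [Subgroup.coe_pow, Subgroup.coe_one]
  exact pow_eq_one_of_mem_Qg φ p hg

end qgroup

section perp

variable {F : Type*} [Field F] {ι : Type*} [Fintype ι] [DecidableEq ι] {φ : F →+* F}

theorem Hyp.exists_partner (H : Hyp φ ι) {e : ι → F} (he0 : e ≠ 0) (he : hdot φ e e = 0) :
    ∃ f : ι → F, hdot φ f f = 0 ∧ hdot φ e f = 1 ∧ hdot φ f e = 1 := by
  obtain ⟨f, hf, hef⟩ := Herm.exists_partner φ H.hφ H.hφφ e he he0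
  exact ⟨f, hf, hef, by rw [← hdot_conj φ H.hφφ e f, hef, map_one]⟩

theorem Hyp.exists_trace_zero (H : Hyp φ ι) : ∃ c : F, c ≠ 0 ∧ c + φ c = 0 :=
  Witt.exists_trace_zero φ H.hφ H.hφφ

theorem Hyp.exists_siegel_param (H : Hyp φ ι) (w : ι → F) :
    ∃ s : F, s + φ s + hdot φ w w = 0 := by
  obtain ⟨s, hs⟩ := Witt.exists_trace_eq φ H.hφ H.hφφ (-hdot φ w w)
    (by rw [map_neg, hdot_conj φ H.hφφ])
  exact ⟨s, by rw [hs, neg_add_cancel]⟩

theorem Hyp.exists_not_fixed (H : Hyp φ ι) : ∃ c : F, φ c ≠ c := by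
  by_contra h
  push Not at h
  exact H.hφ (RingHom.ext h)

/-- the double orthogonal of an isotropic line is the line -/
theorem eq_smul_of_perp (H : Hyp φ ι) {e : ι → F} (he0 : e ≠ 0) (he : hdot φ e e = 0)
    {x : ι → F} (hx : ∀ w, hdot φ w e = 0 → hdot φ x w = 0) : ∃ c : F, x = c • e := by
  obtain ⟨f, hf, hef, hfe⟩ := H.exists_partner he0 he
  refine ⟨hdot φ x f, ?_⟩
  rw [← sub_eq_zero]
  apply eq_zero_of_hdot_right φ
  intro y
  obtain ⟨y0, hy0⟩ : ∃ y0, y0 = y - hdot φ y e • f := ⟨_, rfl⟩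
  have hy0e : hdot φ y0 e = 0 := by rw [hy0]; exact hdot_sub_smul_left φ y e f hfe
  have hey0 : hdot φ e y0 = 0 := hdot_eq_zero_symm φ H.hφφ _ _ hy0e
  have hyy : y = y0 + hdot φ y e • f := by rw [hy0]; abel
  rw [hyy]
  simp only [hdot_add_right, hdot_sub_left, hdot_smul_left, hdot_smul_right, hx y0 hy0e, hey0,
    hef]
  ring

/-- the vectors fixed by `Qg e` are the multiples of `e` -/
theorem eq_smul_of_fixed (H : Hyp φ ι) {e : ι → F} (he0 : e ≠ 0) (he : hdot φ e e = 0)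
    {x : ι → F} (hx : ∀ g ∈ Qg φ e, g • x = x) : ∃ c : F, x = c • e := by
  obtain ⟨c0, hc0, hc0t⟩ := H.exists_trace_zero
  have hxe : hdot φ x e = 0 := by
    have := hx _ (tvG_mem_Qg φ H.hφφ he hc0t)
    rw [tvG_smul φ H.hφφ he hc0t, add_eq_left] at this
    rcases smul_eq_zero.1 this with h | h
    · rcases mul_eq_zero.1 h with h | h
      · exact absurd h hc0
      · exact h
    · exact absurd h he0
  apply eq_smul_of_perp H he0 he
  intro w hwe
  obtain ⟨s, hs⟩ := H.exists_siegel_param w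
  have := hx _ (sgG_mem_Qg φ H.hφφ he hwe hs)
  rw [sgG_smul φ H.hφφ he hwe hs, hxe, zero_smul, mul_zero, zero_sub, add_zero, add_eq_left,
    neg_smul, neg_eq_zero] at this
  rcases smul_eq_zero.1 this with h | h
  · exact h
  · exact absurd h he0

end perp

section centralizer

variable {F : Type*} [Field F] {ι : Type*} [Fintype ι] [DecidableEq ι] {φ : F →+* F}

omit [Fintype ι] [DecidableEq ι] in
theorem smul_cancel_aux {c a b : F} {u v : ι → F} (hc : c ≠ 0) (h : (c * a) • u = (c * b) • v) :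
    a • u = b • v := by
  rw [mul_smul, mul_smul] at h
  exact smul_right_injective _ hc h

/-- a unitary matrix commuting with `Qg e` is a scalar multiple of a transvection in `e` -/
theorem centralizer_Qg (H : Hyp φ ι) {e : ι → F} (he0 : e ≠ 0) (he : hdot φ e e = 0)
    {M : Matrix ι ι F} (hM : IsU φ M)
    (hcomm : ∀ g ∈ Qg φ e, M * smat φ g = smat φ g * M) :
    ∃ (l c : F), l * φ l = 1 ∧ c + φ c = 0 ∧ M = l • tv φ e c := by
  obtain ⟨f, hf, hef, hfe⟩ := H.exists_partner he0 he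
  obtain ⟨c0, hc0, hc0t⟩ := H.exists_trace_zero
  have hφφ := H.hφφ
  have h1 : ∀ x, hdot φ x e • (M *ᵥ e) = hdot φ (M *ᵥ x) e • e := by
    intro x
    have := congrFun (congrArg Matrix.mulVec (hcomm _ (tvG_mem_Qg φ hφφ he hc0t))) x
    rw [smat_tvG φ hφφ he hc0t, ← Matrix.mulVec_mulVec, ← Matrix.mulVec_mulVec, tv_mulVec,
      tv_mulVec, Matrix.mulVec_add, Matrix.mulVec_smul, add_right_inj] at this
    exact smul_cancel_aux hc0 this
  obtain ⟨l, hl⟩ : ∃ l, l = hdot φ (M *ᵥ f) e := ⟨_, rfl⟩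
  have hMe : M *ᵥ e = l • e := by
    have := h1 f
    rw [hfe, one_smul, ← hl] at this
    exact this
  have h2 : ∀ x, hdot φ (M *ᵥ x) e = l * hdot φ x e := by
    intro x
    have := h1 x
    rw [hMe, smul_smul, ← sub_eq_zero, ← sub_smul] at this
    rcases smul_eq_zero.1 this with h | h
    · linear_combination -h
    · exact absurd h he0
  have hll : l * φ l = 1 := by
    have := hM.hdot_mulVec φ e f
    rw [hMe, hdot_smul_left, ← hdot_conj φ hφφ (M *ᵥ f) e, ← hl, hef] at this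
    exact this
  have hl0 : l ≠ 0 := by
    rintro rfl
    rw [zero_mul] at hll
    exact zero_ne_one hll
  -- action on e^⊥
  have h3 : ∀ w, hdot φ w e = 0 → M *ᵥ w = l • w + (l * hdot φ f w - hdot φ (M *ᵥ f) w) • e := by
    intro w hwe
    obtain ⟨s, hs⟩ := H.exists_siegel_param w
    have := congrFun (congrArg Matrix.mulVec (hcomm _ (sgG_mem_Qg φ hφφ he hwe hs))) f
    rw [smat_sgG φ hφφ he hwe hs, ← Matrix.mulVec_mulVec, ← Matrix.mulVec_mulVec, sg_mulVec,
      sg_mulVec, Matrix.mulVec_add, Matrix.mulVec_add, Matrix.mulVec_smul, Matrix.mulVec_smul,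
      hMe, h2 f, hfe, one_smul] at this
    simp only [mul_one] at this
    have h4 : M *ᵥ w = M *ᵥ f + l • w + (s * l - hdot φ (M *ᵥ f) w) • e - M *ᵥ f
        - (s - hdot φ f w) • l • e := by
      rw [← this]
      abel
    rw [h4]
    simp only [smul_smul, sub_smul]
    module
  obtain ⟨μ, hμ⟩ : ∃ μ : (ι → F) → F, μ = fun w => l * hdot φ f w - hdot φ (M *ᵥ f) w :=
    ⟨_, rfl⟩
  have h3' : ∀ w, hdot φ w e = 0 → M *ᵥ w = l • w + μ w • e := by
    intro w hwe
    rw [hμ]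
    exact h3 w hwe
  have hμlin : ∀ (c : F) w, hdot φ w e = 0 → μ (c • w) = c * μ w := by
    intro c w hwe
    have hcw : hdot φ (c • w) e = 0 := by rw [hdot_smul_left, hwe, mul_zero]
    have h5 : c • (l • w + μ w • e) = l • (c • w) + μ (c • w) • e := by
      rw [← h3' w hwe, ← Matrix.mulVec_smul]
      exact h3' (c • w) hcw
    have h6 : (μ (c • w) - c * μ w) • e
        = l • (c • w) + μ (c • w) • e - c • (l • w + μ w • e) := by module
    rw [← h5, sub_self] at h6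
    rcases smul_eq_zero.1 h6 with h | h
    · linear_combination h
    · exact absurd h he0
  have hμeq : ∀ w, hdot φ w e = 0 → l * φ (μ w) = φ l * μ w := by
    intro w hwe
    have h5 := hM.hdot_mulVec φ f w
    rw [h3' w hwe, hdot_add_right, hdot_smul_right, hdot_smul_right, h2 f, hfe, mul_one] at h5
    have h6 : hdot φ (M *ᵥ f) w = l * hdot φ f w - μ w := by rw [hμ]; ring
    rw [h6] at h5
    linear_combination h5 - hdot φ f w * hll
  have hμ0 : ∀ w, hdot φ w e = 0 → μ w = 0 := by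
    intro w hwe
    obtain ⟨c, hc⟩ := H.exists_not_fixed
    have hcw : hdot φ (c • w) e = 0 := by rw [hdot_smul_left, hwe, mul_zero]
    have h5 := hμeq (c • w) hcw
    rw [hμlin c w hwe, map_mul] at h5
    have h6 := hμeq w hwe
    have h7 : (φ c - c) * (φ l * μ w) = 0 := by linear_combination h5 - φ c * h6
    rcases mul_eq_zero.1 h7 with h | h
    · exact absurd (sub_eq_zero.1 h) hc
    · rcases mul_eq_zero.1 h with h | h
      · exact absurd ((map_eq_zero φ).1 h) hl0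
      · exact h
  have hMw : ∀ w, hdot φ w e = 0 → M *ᵥ w = l • w := by
    intro w hwe
    rw [h3' w hwe, hμ0 w hwe, zero_smul, add_zero]
  -- the image of f
  obtain ⟨z, hz⟩ : ∃ z, z = l⁻¹ • (M *ᵥ f) - f := ⟨_, rfl⟩
  have hMf : M *ᵥ f = l • f + l • z := by
    rw [hz, smul_sub, smul_smul, mul_inv_cancel₀ hl0, one_smul]
    abel
  have hzperp : ∀ w, hdot φ w e = 0 → hdot φ z w = 0 := by
    intro w hwe
    have h5 := hM.hdot_mulVec φ f w
    rw [hMw w hwe, hMf, hdot_add_left, hdot_smul_left, hdot_smul_left, hdot_smul_right,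
      hdot_smul_right] at h5
    have h6 : l * φ l * (hdot φ f w + hdot φ z w) = hdot φ f w := by linear_combination h5
    rw [hll, one_mul] at h6
    linear_combination h6
  obtain ⟨c, hc⟩ := eq_smul_of_perp H he0 he hzperp
  have hMx : ∀ x, M *ᵥ x = l • (tv φ e c *ᵥ x) := by
    intro x
    obtain ⟨x0, hx0⟩ : ∃ x0, x0 = x - hdot φ x e • f := ⟨_, rfl⟩
    have hx0e : hdot φ x0 e = 0 := by rw [hx0]; exact hdot_sub_smul_left φ x e f hfe
    have hxx : x = x0 + hdot φ x e • f := by rw [hx0]; abel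
    rw [tv_mulVec]
    conv_lhs => rw [hxx]
    rw [Matrix.mulVec_add, Matrix.mulVec_smul, hMw x0 hx0e, hMf, hc, hx0]
    simp only [smul_add, smul_smul, smul_sub]
    module
  have hct : c + φ c = 0 := by
    have h5 := hM.hdot_mulVec φ f f
    rw [hMf, hc, hf] at h5
    simp only [hdot_add_left, hdot_add_right, hdot_smul_left, hdot_smul_right, hf, he, hef, hfe]
      at h5
    have h6 : l * φ l * (c + φ c) = 0 := by linear_combination h5
    rw [hll, one_mul] at h6
    exact h6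
  refine ⟨l, c, hll, hct, ?_⟩
  rw [Matrix.ext_iff_mulVec]
  intro x
  rw [hMx, Matrix.smul_mulVec]

end centralizer

end Cfsg.Agent.Helper2.PU
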