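import Mathlib
import Cfsg.Agent.Lib.Helper2.Psu1

set_option autoImplicit false
set_option linter.unusedSimpArgs false

/-! Automorphisms of the projective special unitary groups, part 2: point stabilisers, the
Levi subgroup of a hyperbolic pair, torus elements. -/

namespace Cfsg.Agent.Helper2.PU

open Matrix Cfsg.Agent.Helper11 Cfsg.Agent.Helper11.Herm

section stab

variable {F : Type*} [Field F] {ι : Type*} [Fintype ι] [DecidableEq ι] (φ : F →+* F)

/-- the stabiliser of the point spanned by `v` -/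
def Pst (v : ι → F) : Subgroup (SUg ι φ) where
  carrier := {g | ∃ c : F, c ≠ 0 ∧ g • v = c • v}
  mul_mem' := by
    rintro a b ⟨c, hc, ha⟩ ⟨d, hd, hb⟩
    refine ⟨d * c, mul_ne_zero hd hc, ?_⟩
    rw [mul_smul, hb, sug_smul_smul, ha, smul_smul]
  one_mem' := ⟨1, one_ne_zero, by rw [one_smul, one_smul]⟩
  inv_mem' := by
    rintro a ⟨c, hc, ha⟩
    refine ⟨c⁻¹, inv_ne_zero hc, ?_⟩
    rw [inv_smul_eq_iff, sug_smul_smul, ha, smul_smul, inv_mul_cancel₀ hc, one_smul]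

theorem mem_Pst_iff (v : ι → F) (g : SUg ι φ) :
    g ∈ Pst φ v ↔ ∃ c : F, c ≠ 0 ∧ g • v = c • v := Iff.rfl

theorem Qg_le_Pst (v : ι → F) : Qg φ v ≤ Pst φ v := by
  rintro g ⟨hg, -⟩
  exact ⟨1, one_ne_zero, by rw [hg, one_smul]⟩

/-- the point stabiliser normalises `Qg` -/
theorem conj_mem_Qg {v : ι → F} {g q : SUg ι φ} (hg : g ∈ Pst φ v)
    (hq : q ∈ Qg φ v) : g * q * g⁻¹ ∈ Qg φ v := by
  obtain ⟨c, hc, hgv⟩ := hg
  obtain ⟨hqv, hq'⟩ := hq
  have hginv : g⁻¹ • v = c⁻¹ • v := by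
    rw [inv_smul_eq_iff, sug_smul_smul, hgv, smul_smul, inv_mul_cancel₀ hc, one_smul]
  refine ⟨?_, ?_⟩
  · rw [mul_smul, mul_smul, hginv, sug_smul_smul, hqv, sug_smul_smul, hgv, smul_smul,
      inv_mul_cancel₀ hc, one_smul]
  · intro x hx
    have h1 : hdot φ (g⁻¹ • x) v = 0 := by
      rw [hdot_inv_smul, hgv, hdot_smul_right, hx, mul_zero]
    obtain ⟨d, hd⟩ := hq' _ h1
    refine ⟨d * c, ?_⟩
    rw [mul_smul, mul_smul, hd, sug_smul_add, smul_inv_smul, sug_smul_smul, hgv, smul_smul]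

theorem conj_mem_rootGroup {v : ι → F} (hv : hdot φ v v = 0) (hφφ : ∀ x, φ (φ x) = x)
    {g t : SUg ι φ} (hg : g ∈ Pst φ v) (ht : t ∈ rootGroup φ v) :
    g * t * g⁻¹ ∈ rootGroup φ v := by
  obtain ⟨c, hc, hgv⟩ := hg
  obtain ⟨a, ha, rfl⟩ := exists_tvG_of_mem_rootGroup φ hφφ hv ht
  rw [conj_tvG φ hφφ g hv ha, hgv, ← rootGroup_smul_vec φ hφφ v hv hc]
  exact tvG_mem_rootGroup φ hφφ
    (by rw [hdot_smul_left, hdot_smul_right, hv, mul_zero, mul_zero]) ha

end stab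

section levi

variable {F : Type*} [Field F] {ι : Type*} [Fintype ι] [DecidableEq ι] (φ : F →+* F)

theorem sgG_smul_left (hφφ : ∀ x, φ (φ x) = x) (l : F) {e w : ι → F} {s : F}
    (he : hdot φ e e = 0) (hwe : hdot φ w e = 0) (hs : s + φ s + hdot φ w w = 0) :
    sgG φ (l • e) w s = sgG φ e (φ l • w) (l * φ l * s) := by
  apply sug_ext
  have h1 : hdot φ (l • e) (l • e) = 0 := by
    rw [hdot_smul_left, hdot_smul_right, he, mul_zero, mul_zero]
  have h2 : hdot φ w (l • e) = 0 := by rw [hdot_smul_right, hwe, mul_zero]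
  have h3 : hdot φ (φ l • w) e = 0 := by rw [hdot_smul_left, hwe, mul_zero]
  have h4 : l * φ l * s + φ (l * φ l * s) + hdot φ (φ l • w) (φ l • w) = 0 := by
    rw [hdot_smul_left, hdot_smul_right, map_mul, map_mul, hφφ]
    linear_combination l * φ l * hs
  rw [smat_sgG φ hφφ h1 h2 hs, smat_sgG φ hφφ he h3 h4, sg_smul_left φ hφφ]

/-- conjugating a Siegel element by an element of the point stabiliser -/
theorem conj_sgG_of_smul_eq (hφφ : ∀ x, φ (φ x) = x) {g : SUg ι φ} {l : F} {e w : ι → F} {s : F}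
    (hge : g • e = l • e) (he : hdot φ e e = 0) (hwe : hdot φ w e = 0)
    (hs : s + φ s + hdot φ w w = 0) :
    g * sgG φ e w s * g⁻¹ = sgG φ e (φ l • (g • w)) (l * φ l * s) := by
  rw [conj_sgG φ hφφ g he hwe hs, hge]
  have h1 : hdot φ (g • w) e = 0 := by
    by_cases hl : l = 0
    · have : g • e = 0 := by rw [hge, hl, zero_smul]
      have he0 : e = 0 := by
        have h2 := congrArg (fun x => g⁻¹ • x) this
        simp only [inv_smul_smul, sug_smul_zero] at h2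
        exact h2
      rw [he0, hdot_zero_right]
    · have h2 := sug_hdot_smul φ g w e
      rw [hge, hdot_smul_right, hwe] at h2
      rcases mul_eq_zero.1 h2 with h | h
      · exact absurd ((map_eq_zero φ).1 h) hl
      · exact h
  exact sgG_smul_left φ hφφ l he h1 (by rw [sug_hdot_smul]; exact hs)

/-- the Levi subgroup: the stabiliser of both points of a hyperbolic pair -/
def Lv (e f : ι → F) : Subgroup (SUg ι φ) := Pst φ e ⊓ Pst φ f

theorem mem_Lv_iff (e f : ι → F) (g : SUg ι φ) :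
    g ∈ Lv φ e f ↔ (∃ c : F, c ≠ 0 ∧ g • e = c • e) ∧ ∃ c : F, c ≠ 0 ∧ g • f = c • f :=
  Iff.rfl

theorem hdot_smul_of_mem_Pst {v : ι → F} {g : SUg ι φ} (hg : g ∈ Pst φ v) {w : ι → F}
    (hw : hdot φ w v = 0) : hdot φ (g • w) v = 0 := by
  obtain ⟨c, hc, hgv⟩ := hg
  have h2 := sug_hdot_smul φ g w v
  rw [hgv, hdot_smul_right, hw] at h2
  rcases mul_eq_zero.1 h2 with h | h
  · exact absurd ((map_eq_zero φ).1 h) hc
  · exact h

open Classical in
/-- a group element from a unitary matrix of determinant one (the identity otherwise) -/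
noncomputable def mkG (M : Matrix ι ι F) : SUg ι φ :=
  if h : IsU φ M ∧ M.det = 1 then mkS φ M h.1 h.2 else 1

theorem smat_mkG {M : Matrix ι ι F} (hU : IsU φ M) (hd : M.det = 1) : smat φ (mkG φ M) = M := by
  unfold mkG
  rw [dif_pos ⟨hU, hd⟩]
  rfl

theorem mkG_smul {M : Matrix ι ι F} (hU : IsU φ M) (hd : M.det = 1) (x : ι → F) :
    mkG φ M • x = M *ᵥ x := by
  rw [sug_smul_def, smat_mkG φ hU hd]

end levi

section torus

variable {F : Type*} [Field F] {ι : Type*} [Fintype ι] [DecidableEq ι] (φ : F →+* F)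

/-- torus element acting on two orthogonal hyperbolic pairs -/
noncomputable def tor4 (e f u u2 : ι → F) (a b : F) : SUg ι φ :=
  mkG φ (hrot φ e f a (φ a)⁻¹ * hrot φ u u2 b (φ b)⁻¹)

theorem tor4_smul (hφφ : ∀ x, φ (φ x) = x) {e f u u2 : ι → F} {a b : F}
    (he : hdot φ e e = 0) (hf : hdot φ f f = 0) (hef : hdot φ e f = 1)
    (hu : hdot φ u u = 0) (hu2 : hdot φ u2 u2 = 0) (huu2 : hdot φ u u2 = 1)
    (ha : a ≠ 0) (hb : b ≠ 0) (hdet : a * (φ a)⁻¹ * (b * (φ b)⁻¹) = 1) (x : ι → F) :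
    tor4 φ e f u u2 a b • x =
      hrot φ e f a (φ a)⁻¹ *ᵥ (hrot φ u u2 b (φ b)⁻¹ *ᵥ x) := by
  have hfe : hdot φ f e = 1 := by rw [← hdot_conj φ hφφ e f, hef, map_one]
  have hu2u : hdot φ u2 u = 1 := by rw [← hdot_conj φ hφφ u u2, huu2, map_one]
  unfold tor4
  rw [mkG_smul, Matrix.mulVec_mulVec]
  · apply IsU.mul
    · apply isU_hrot φ hφφ e f he hf hef
      rw [map_inv₀, hφφ, mul_inv_cancel₀ ha]
    · apply isU_hrot φ hφφ u u2 hu hu2 huu2
      rw [map_inv₀, hφφ, mul_inv_cancel₀ hb]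
  · rw [Matrix.det_mul, det_hrot φ e f hef hfe, det_hrot φ u u2 huu2 hu2u, hdet]

/-- torus element for a hyperbolic pair and an orthogonal vector of norm one -/
noncomputable def tor3 (e f d : ι → F) (a : F) : SUg ι φ :=
  mkG φ (hrot φ e f a (φ a)⁻¹ * tv φ d (φ a / a - 1))

theorem tor3_smul (hφφ : ∀ x, φ (φ x) = x) {e f d : ι → F} {a : F}
    (he : hdot φ e e = 0) (hf : hdot φ f f = 0) (hef : hdot φ e f = 1)
    (hd : hdot φ d d = 1) (ha : a ≠ 0) (x : ι → F) :
    tor3 φ e f d a • x = hrot φ e f a (φ a)⁻¹ *ᵥ (tv φ d (φ a / a - 1) *ᵥ x) := by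
  have hfe : hdot φ f e = 1 := by rw [← hdot_conj φ hφφ e f, hef, map_one]
  have hφa : φ a ≠ 0 := (map_ne_zero φ).2 ha
  unfold tor3
  rw [mkG_smul, Matrix.mulVec_mulVec]
  · apply IsU.mul
    · apply isU_hrot φ hφφ e f he hf hef
      rw [map_inv₀, hφφ, mul_inv_cancel₀ ha]
    · apply isU_tv φ hφφ
      rw [hd, map_sub, map_div₀, hφφ, map_one]
      field_simp
      ring
  · rw [Matrix.det_mul, det_hrot φ e f hef hfe, det_tv, hd]
    field_simp
    ring

end torus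

section hrotlemmas

variable {F : Type*} [Field F] {ι : Type*} [Fintype ι] [DecidableEq ι] (φ : F →+* F)

theorem hrot_fix {u f x : ι → F} (hff : hdot φ f f = 0) (a b : F) (hxf : hdot φ x f = 0)
    (hxu : hdot φ x u = 0) : hrot φ u f a b *ᵥ x = x := by
  rw [hrot_mulVec φ u f hff, hxf, hxu, mul_zero, mul_zero, zero_smul, zero_smul, add_zero,
    add_zero]

theorem hrot_left {u f : ι → F} (hff : hdot φ f f = 0) (huu : hdot φ u u = 0)
    (huf : hdot φ u f = 1) (a b : F) : hrot φ u f a b *ᵥ u = a • u := by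
  rw [hrot_mulVec φ u f hff, huf, huu, mul_one, mul_zero, zero_smul, add_zero, sub_smul,
    one_smul]
  abel

theorem hrot_right {u f : ι → F} (hff : hdot φ f f = 0) (hfu : hdot φ f u = 1) (a b : F) :
    hrot φ u f a b *ᵥ f = b • f := by
  rw [hrot_mulVec φ u f hff, hff, hfu, mul_one, mul_zero, zero_smul, add_zero, sub_smul,
    one_smul]
  abel

end hrotlemmas

end Cfsg.Agent.Helper2.PU
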