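import Mathlib
import Cfsg.Agent.Lib.Helper2.Psu2

set_option autoImplicit false
set_option linter.unusedSimpArgs false

/-! Automorphisms of the projective special unitary groups, part 3: the commutant of the Levi
action on `e^⊥ / e` consists of the scalars. -/

namespace Cfsg.Agent.Helper2.PU

open Matrix Cfsg.Agent.Helper11 Cfsg.Agent.Helper11.Herm

section wspace

variable {F : Type*} [Field F] {ι : Type*} [Fintype ι] [DecidableEq ι] (φ : F →+* F)

/-- the orthogonal complement of the hyperbolic pair `e, f` -/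
def InW (e f w : ι → F) : Prop := hdot φ w e = 0 ∧ hdot φ w f = 0

variable {φ}

theorem InW.add {e f w w' : ι → F} (h : InW φ e f w) (h' : InW φ e f w') :
    InW φ e f (w + w') :=
  ⟨by rw [hdot_add_left, h.1, h'.1, add_zero], by rw [hdot_add_left, h.2, h'.2, add_zero]⟩

theorem InW.smul {e f w : ι → F} (c : F) (h : InW φ e f w) : InW φ e f (c • w) :=
  ⟨by rw [hdot_smul_left, h.1, mul_zero], by rw [hdot_smul_left, h.2, mul_zero]⟩

theorem InW.zero {e f : ι → F} : InW φ e f 0 :=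
  ⟨hdot_zero_left φ e, hdot_zero_left φ f⟩

theorem InW.neg {e f w : ι → F} (h : InW φ e f w) : InW φ e f (-w) := by
  have := h.smul (-1)
  rwa [neg_one_smul] at this

theorem InW.sub {e f w w' : ι → F} (h : InW φ e f w) (h' : InW φ e f w') :
    InW φ e f (w - w') := by
  rw [sub_eq_add_neg]
  exact h.add h'.neg

theorem InW.symm1 (hφφ : ∀ x, φ (φ x) = x) {e f w : ι → F} (h : InW φ e f w) :
    hdot φ e w = 0 := hdot_eq_zero_symm φ hφφ _ _ h.1

theorem InW.symm2 (hφφ : ∀ x, φ (φ x) = x) {e f w : ι → F} (h : InW φ e f w) :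
    hdot φ f w = 0 := hdot_eq_zero_symm φ hφφ _ _ h.2

/-- the projection to the orthogonal complement of a hyperbolic pair -/
theorem inW_proj {e f : ι → F} (he : hdot φ e e = 0) (hf : hdot φ f f = 0)
    (hef : hdot φ e f = 1) (hfe : hdot φ f e = 1) (x : ι → F) :
    InW φ e f (x - hdot φ x f • e - hdot φ x e • f) := by
  constructor
  · simp only [hdot_sub_left, hdot_smul_left, he, hfe]
    ring
  · simp only [hdot_sub_left, hdot_smul_left, hf, hef]
    ring

/-- every isotropic vector of `W` has a hyperbolic partner in `W` -/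
theorem exists_partner_inW (H : Hyp φ ι) {e f : ι → F} (he : hdot φ e e = 0)
    (hf : hdot φ f f = 0) (hef : hdot φ e f = 1) (hfe : hdot φ f e = 1) {u : ι → F}
    (hu0 : u ≠ 0) (hu : hdot φ u u = 0) (huW : InW φ e f u) :
    ∃ u2 : ι → F, InW φ e f u2 ∧ hdot φ u2 u2 = 0 ∧ hdot φ u u2 = 1 ∧ hdot φ u2 u = 1 := by
  obtain ⟨f', hf', huf', hf'u⟩ := H.exists_partner hu0 hu
  obtain ⟨g, hg⟩ : ∃ g, g = f' - hdot φ f' f • e - hdot φ f' e • f := ⟨_, rfl⟩
  have hgW : InW φ e f g := by rw [hg]; exact inW_proj he hf hef hfe f'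
  have hue := huW.symm1 H.hφφ
  have huf := huW.symm2 H.hφφ
  have hug : hdot φ u g = 1 := by
    rw [hg]
    simp only [hdot_sub_right, hdot_smul_right, huW.1, huW.2, huf', mul_zero, sub_zero]
  have hgu : hdot φ g u = 1 := by rw [← hdot_conj φ H.hφφ u g, hug, map_one]
  obtain ⟨t, ht⟩ := H.exists_siegel_param g
  refine ⟨g + t • u, hgW.add (huW.smul t), ?_, ?_, ?_⟩
  · simp only [hdot_add_left, hdot_add_right, hdot_smul_left, hdot_smul_right, hu, hug, hgu]
    linear_combination ht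
  · rw [hdot_add_right, hdot_smul_right, hug, hu, mul_zero, add_zero]
  · rw [hdot_add_left, hdot_smul_left, hgu, hu, mul_zero, add_zero]

/-- the linear functional `x ↦ h(x, v)` -/
def hdotL (φ : F →+* F) (v : ι → F) : (ι → F) →ₗ[F] F where
  toFun x := hdot φ x v
  map_add' x y := hdot_add_left φ x y v
  map_smul' c x := by rw [hdot_smul_left, RingHom.id_apply, smul_eq_mul]

theorem hdotL_apply (v x : ι → F) : hdotL φ v x = hdot φ x v := rfl

/-- in dimension at least four, `W` contains a nonzero isotropic vector -/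
theorem exists_isotropic_inW (H : Hyp φ ι) (h4 : 4 ≤ Fintype.card ι) [Finite F] {e f : ι → F}
    (he : hdot φ e e = 0) (hf : hdot φ f f = 0) (hef : hdot φ e f = 1) :
    ∃ u : ι → F, u ≠ 0 ∧ hdot φ u u = 0 ∧ InW φ e f u := by
  obtain ⟨d, hdd, hde, hdf⟩ := exists_norm_one_orth_hyp φ H.hφ H.hφφ H.hN1 H.hcard e f he hf hef
  let L : (ι → F) →ₗ[F] (Fin 3 → F) := LinearMap.pi ![hdotL φ e, hdotL φ f, hdotL φ d]
  have hker : LinearMap.ker L ≠ ⊥ := by
    apply LinearMap.ker_ne_bot_of_finrank_lt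
    rw [Module.finrank_fin_fun, Module.finrank_pi]
    omega
  obtain ⟨z, hzk, hz0⟩ := Submodule.exists_mem_ne_zero_of_ne_bot hker
  rw [LinearMap.mem_ker] at hzk
  have hze : hdot φ z e = 0 := by
    have := congrFun hzk 0
    simpa [L, hdotL_apply] using this
  have hzf : hdot φ z f = 0 := by
    have := congrFun hzk 1
    simpa [L, hdotL_apply] using this
  have hzd : hdot φ z d = 0 := by
    have := congrFun hzk 2
    simpa [L, hdotL_apply] using this
  have hdz : hdot φ d z = 0 := hdot_eq_zero_symm φ H.hφφ _ _ hzd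
  by_cases hzz : hdot φ z z = 0
  · exact ⟨z, hz0, hzz, hze, hzf⟩
  · have hfix : φ (-(hdot φ z z)⁻¹) = -(hdot φ z z)⁻¹ := by
      rw [map_neg, map_inv₀, hdot_conj φ H.hφφ]
    obtain ⟨c, hc0, hc⟩ := H.hN1 (-(hdot φ z z)⁻¹) (neg_ne_zero.2 (inv_ne_zero hzz)) hfix
    refine ⟨d + c • z, ?_, ?_, ⟨?_, ?_⟩⟩
    · intro h0
      have := congrArg (fun x => hdot φ x d) h0
      simp only [hdot_add_left, hdot_smul_left, hdd, hzd, hdot_zero_left] at this
      simp at this
    · simp only [hdot_add_left, hdot_add_right, hdot_smul_left, hdot_smul_right, hdd, hzd, hdz]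
      have : c * φ c * hdot φ z z = -1 := by
        rw [hc]
        field_simp
      linear_combination this
    · rw [hdot_add_left, hdot_smul_left, hde, hze, mul_zero, add_zero]
    · rw [hdot_add_left, hdot_smul_left, hdf, hzf, mul_zero, add_zero]

end wspace

section commutant

variable {F : Type*} [Field F] {ι : Type*} [Fintype ι] [DecidableEq ι] {φ : F →+* F}

omit [Fintype ι] [DecidableEq ι] in
/-- an additive map of `F` commuting with the fixed field and with one more element is linear -/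
theorem linear_of_commute (hφφ : ∀ x, φ (φ x) = x) (β : F → F) (hadd : ∀ x y, β (x + y) = β x + β y)
    (h0 : ∀ r y, φ r = r → β (r * y) = r * β y) {ν : F} (hν : φ ν ≠ ν)
    (h1 : ∀ y, β (ν * y) = ν * β y) : ∀ c y, β (c * y) = c * β y := by
  intro c y
  have hd : ν - φ ν ≠ 0 := fun h => hν (sub_eq_zero.1 h).symm
  obtain ⟨b, hb⟩ : ∃ b, b = (c - φ c) / (ν - φ ν) := ⟨_, rfl⟩
  obtain ⟨a, ha⟩ : ∃ a, a = c - b * ν := ⟨_, rfl⟩
  have hbφ : φ b = b := by
    rw [hb, map_div₀, map_sub, map_sub, hφφ, hφφ]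
    rw [div_eq_div_iff (fun h => hd (by linear_combination -h)) hd]
    ring
  have hbd : b * (ν - φ ν) = c - φ c := by
    rw [hb]
    field_simp
  have haφ : φ a = a := by
    rw [ha, map_sub, map_mul, hbφ]
    linear_combination hbd
  have hc : c = a + b * ν := by rw [ha]; ring
  have : c * y = a * y + b * (ν * y) := by rw [hc]; ring
  rw [this, hadd, h0 a y haφ, h0 b _ hbφ, h1, hc]
  ring

end commutant

section commutant2

variable {F : Type*} [Field F] {ι : Type*} [Fintype ι] [DecidableEq ι] {φ : F →+* F}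

/-- an additive self-map of `W` commuting with the twisted action of the Levi subgroup -/
structure IsComm (φ : F →+* F) (e f : ι → F) (B : (ι → F) → (ι → F)) : Prop where
  mapsW : ∀ w, InW φ e f w → InW φ e f (B w)
  add : ∀ w w', InW φ e f w → InW φ e f w' → B (w + w') = B w + B w'
  lev : ∀ l ∈ Lv φ e f, ∀ c : F, l • e = c • e → ∀ w, InW φ e f w →
    B (φ c • (l • w)) = φ c • (l • (B w))

theorem IsComm.map_zero {e f : ι → F} {B : (ι → F) → (ι → F)} (hB : IsComm φ e f B) :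
    B 0 = 0 := by
  have := hB.add 0 0 InW.zero InW.zero
  rw [add_zero] at this
  exact left_eq_add.1 this

theorem tvG_mem_Lv (hφφ : ∀ x, φ (φ x) = x) {e f u : ι → F} (huW : InW φ e f u)
    (hu : hdot φ u u = 0) {a : F} (ha : a + φ a = 0) : tvG φ u a ∈ Lv φ e f := by
  refine ⟨⟨1, one_ne_zero, ?_⟩, ⟨1, one_ne_zero, ?_⟩⟩
  · rw [tvG_smul φ hφφ hu ha, huW.symm1 hφφ, mul_zero, zero_smul, add_zero, one_smul]
  · rw [tvG_smul φ hφφ hu ha, huW.symm2 hφφ, mul_zero, zero_smul, add_zero, one_smul]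

theorem tvG_smul_e (hφφ : ∀ x, φ (φ x) = x) {e f u : ι → F} (huW : InW φ e f u)
    (hu : hdot φ u u = 0) {a : F} (ha : a + φ a = 0) : tvG φ u a • e = (1 : F) • e := by
  rw [tvG_smul φ hφφ hu ha, huW.symm1 hφφ, mul_zero, zero_smul, add_zero, one_smul]

theorem tor4_mem_Lv (hφφ : ∀ x, φ (φ x) = x) {e f u u2 : ι → F} {a b : F}
    (he : hdot φ e e = 0) (hf : hdot φ f f = 0) (hef : hdot φ e f = 1)
    (hu : hdot φ u u = 0) (hu2 : hdot φ u2 u2 = 0) (huu2 : hdot φ u u2 = 1)
    (huW : InW φ e f u) (hu2W : InW φ e f u2)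
    (ha : a ≠ 0) (hb : b ≠ 0) (hdet : a * (φ a)⁻¹ * (b * (φ b)⁻¹) = 1) :
    tor4 φ e f u u2 a b • e = a • e ∧ tor4 φ e f u u2 a b ∈ Lv φ e f := by
  have hfe : hdot φ f e = 1 := by rw [← hdot_conj φ hφφ e f, hef, map_one]
  have h1 : tor4 φ e f u u2 a b • e = a • e := by
    rw [tor4_smul φ hφφ he hf hef hu hu2 huu2 ha hb hdet,
      hrot_fix φ hu2 _ _ (hu2W.symm1 hφφ) (huW.symm1 hφφ), hrot_left φ hf he hef]
  have h2 : tor4 φ e f u u2 a b • f = (φ a)⁻¹ • f := by
    rw [tor4_smul φ hφφ he hf hef hu hu2 huu2 ha hb hdet,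
      hrot_fix φ hu2 _ _ (hu2W.symm2 hφφ) (huW.symm2 hφφ), hrot_right φ hf hfe]
  exact ⟨h1, ⟨a, ha, h1⟩, ⟨(φ a)⁻¹, inv_ne_zero ((map_ne_zero φ).2 ha), h2⟩⟩

theorem tor4_smul_u (hφφ : ∀ x, φ (φ x) = x) {e f u u2 : ι → F} {a b : F}
    (he : hdot φ e e = 0) (hf : hdot φ f f = 0) (hef : hdot φ e f = 1)
    (hu : hdot φ u u = 0) (hu2 : hdot φ u2 u2 = 0) (huu2 : hdot φ u u2 = 1)
    (huW : InW φ e f u)
    (ha : a ≠ 0) (hb : b ≠ 0) (hdet : a * (φ a)⁻¹ * (b * (φ b)⁻¹) = 1) (y : F) :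
    tor4 φ e f u u2 a b • (y • u) = (b * y) • u := by
  rw [tor4_smul φ hφφ he hf hef hu hu2 huu2 ha hb hdet, Matrix.mulVec_smul,
    hrot_left φ hu2 hu huu2, Matrix.mulVec_smul, Matrix.mulVec_smul,
    hrot_fix φ hf _ _ huW.2 huW.1, smul_smul, mul_comm]

/-- `B` acts on the line of an isotropic vector of `W` (with a partner in `W`) by a scalar -/
theorem IsComm.line (H : Hyp φ ι) (hU2 : ∃ ν : F, ν * φ ν = 1 ∧ ν ^ 2 ≠ 1) {e f : ι → F}
    (he : hdot φ e e = 0) (hf : hdot φ f f = 0) (hef : hdot φ e f = 1)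
    {B : (ι → F) → (ι → F)} (hB : IsComm φ e f B) {u u2 : ι → F} (huW : InW φ e f u)
    (hu2W : InW φ e f u2) (hu : hdot φ u u = 0) (hu2 : hdot φ u2 u2 = 0)
    (huu2 : hdot φ u u2 = 1) (hu2u : hdot φ u2 u = 1) :
    ∃ b : F, ∀ y : F, B (y • u) = (b * y) • u := by
  have hφφ := H.hφφ
  obtain ⟨a, ha0, hat⟩ := H.exists_trace_zero
  have hu0 : u ≠ 0 := by
    rintro rfl
    rw [hdot_zero_left] at huu2
    exact zero_ne_one huu2
  -- step 1: B maps the line of u to itself
  have h1 : ∀ x : F, B ((a * x) • u) = (a * hdot φ (B (x • u2)) u) • u := by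
    intro x
    have h := hB.lev _ (tvG_mem_Lv hφφ huW hu hat) 1 (tvG_smul_e hφφ huW hu hat) (x • u2)
      (hu2W.smul x)
    rw [map_one, one_smul, one_smul, tvG_smul φ hφφ hu hat, tvG_smul φ hφφ hu hat,
      hdot_smul_left, hu2u, mul_one, hB.add _ _ (hu2W.smul x) (huW.smul _), add_right_inj] at h
    exact h
  obtain ⟨β, hβ⟩ : ∃ β : F → F, β = fun y => hdot φ (B (y • u)) u2 := ⟨_, rfl⟩
  have h2 : ∀ y : F, B (y • u) = β y • u := by
    intro y
    have h := h1 (y / a)
    rw [mul_div_cancel₀ _ ha0] at h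
    rw [hβ]
    simp only
    rw [h, hdot_smul_left, huu2, mul_one]
  have hβadd : ∀ x y, β (x + y) = β x + β y := by
    intro x y
    rw [hβ]
    simp only
    rw [add_smul, hB.add _ _ (huW.smul x) (huW.smul y), hdot_add_left]
  -- step 2: torus elements
  have h3 : ∀ l m : F, l ≠ 0 → m ≠ 0 → l * (φ l)⁻¹ * (m * (φ m)⁻¹) = 1 →
      ∀ y, β (φ l * m * y) = φ l * m * β y := by
    intro l m hl hm hdet y
    obtain ⟨hte, htL⟩ := tor4_mem_Lv hφφ he hf hef hu hu2 huu2 huW hu2W hl hm hdet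
    have h := hB.lev _ htL l hte (y • u) (huW.smul y)
    rw [tor4_smul_u hφφ he hf hef hu hu2 huu2 huW hl hm hdet, h2 y,
      tor4_smul_u hφφ he hf hef hu hu2 huu2 huW hl hm hdet, smul_smul, smul_smul, h2] at h
    have h4 := congrArg (fun x => hdot φ x u2) h
    simp only [hdot_smul_left, huu2, mul_one] at h4
    rw [← mul_assoc] at h4
    rw [h4]
    ring
  have h0 : ∀ r y, φ r = r → β (r * y) = r * β y := by
    intro r y hr
    by_cases hr0 : r = 0
    · rw [hr0, zero_mul, zero_mul]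
      have := hβadd 0 0
      rw [add_zero] at this
      exact left_eq_add.1 this
    · have := h3 r 1 hr0 one_ne_zero (by
        rw [hr, mul_inv_cancel₀ hr0, map_one, inv_one, mul_one, mul_one]) y
      rw [hr, mul_one] at this
      exact this
  obtain ⟨ν, hν1, hν2⟩ := hU2
  have hν0 : ν ≠ 0 := by
    rintro rfl
    rw [zero_mul] at hν1
    exact zero_ne_one hν1
  have hνφ : φ ν ≠ ν := by
    intro h
    apply hν2
    rw [pow_two]
    rw [h] at hν1
    exact hν1
  have h1' : ∀ y, β (ν * y) = ν * β y := by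
    intro y
    obtain ⟨m, hm0, hm⟩ := exists_hilbert90 φ H.hφ hφφ ν hν1
    have hφm0 : φ m ≠ 0 := (map_ne_zero φ).2 hm0
    have := h3 m⁻¹ m (inv_ne_zero hm0) hm0 (by
      rw [map_inv₀, inv_inv]
      field_simp) y
    have hθ : φ m⁻¹ * m = ν := by
      rw [map_inv₀]
      field_simp
      rw [mul_comm]
      exact hm
    rw [hθ] at this
    exact this
  have hlin := linear_of_commute hφφ β hβadd h0 hνφ h1'
  refine ⟨β 1, fun y => ?_⟩
  rw [h2 y]
  congr 1
  have := hlin y 1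
  rw [mul_one] at this
  rw [this, mul_comm]

end commutant2

section commutant3

variable {F : Type*} [Field F] {ι : Type*} [Fintype ι] [DecidableEq ι] {φ : F →+* F}

theorem IsComm.line' (H : Hyp φ ι) (hU2 : ∃ ν : F, ν * φ ν = 1 ∧ ν ^ 2 ≠ 1) {e f : ι → F}
    (he : hdot φ e e = 0) (hf : hdot φ f f = 0) (hef : hdot φ e f = 1) (hfe : hdot φ f e = 1)
    {B : (ι → F) → (ι → F)} (hB : IsComm φ e f B) {u : ι → F} (hu0 : u ≠ 0)
    (huW : InW φ e f u) (hu : hdot φ u u = 0) :
    ∃ b : F, ∀ y : F, B (y • u) = (b * y) • u := by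
  obtain ⟨u2, hu2W, hu2, huu2, hu2u⟩ := exists_partner_inW H he hf hef hfe hu0 hu huW
  exact hB.line H hU2 he hf hef huW hu2W hu hu2 huu2 hu2u

theorem IsComm.eq_of_not_orth (H : Hyp φ ι) (hU2 : ∃ ν : F, ν * φ ν = 1 ∧ ν ^ 2 ≠ 1)
    {e f : ι → F}
    (he : hdot φ e e = 0) (hf : hdot φ f f = 0) (hef : hdot φ e f = 1) (hfe : hdot φ f e = 1)
    {B : (ι → F) → (ι → F)} (hB : IsComm φ e f B) {u u' : ι → F}
    (huW : InW φ e f u) (hu : hdot φ u u = 0) (hu'W : InW φ e f u') (hu' : hdot φ u' u' = 0)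
    (huu' : hdot φ u u' ≠ 0) {b b' : F} (hb : ∀ y : F, B (y • u) = (b * y) • u)
    (hb' : ∀ y : F, B (y • u') = (b' * y) • u') : b = b' := by
  have hφφ := H.hφφ
  have hu'u : hdot φ u' u ≠ 0 := fun h => huu' (hdot_eq_zero_symm φ hφφ _ _ h)
  obtain ⟨τ, hτ0, hτ⟩ := H.exists_trace_zero
  obtain ⟨c, hc⟩ : ∃ c, c = τ / hdot φ u' u := ⟨_, rfl⟩
  have hc0 : c ≠ 0 := by rw [hc]; exact div_ne_zero hτ0 hu'u
  have hc1 : c * hdot φ u' u = τ := by rw [hc]; field_simp
  have hc2 : φ c * hdot φ u u' = φ τ := by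
    rw [← hdot_conj φ hφφ u' u, ← map_mul, hc1]
  obtain ⟨v, hv⟩ : ∃ v, v = u + c • u' := ⟨_, rfl⟩
  have hvW : InW φ e f v := by rw [hv]; exact huW.add (hu'W.smul c)
  have hvv : hdot φ v v = 0 := by
    rw [hv]
    simp only [hdot_add_left, hdot_add_right, hdot_smul_left, hdot_smul_right, hu, hu']
    linear_combination hc1 + hc2 + hτ
  have hvu' : hdot φ v u' = hdot φ u u' := by
    rw [hv, hdot_add_left, hdot_smul_left, hu', mul_zero, add_zero]
  have hvu : hdot φ v u = c * hdot φ u' u := by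
    rw [hv, hdot_add_left, hdot_smul_left, hu, zero_add]
  have hv0 : v ≠ 0 := by
    rintro h
    rw [h, hdot_zero_left] at hvu'
    exact huu' hvu'.symm
  obtain ⟨b'', hb''⟩ := hB.line' H hU2 he hf hef hfe hv0 hvW hvv
  have h1 : B v = b'' • v := by
    have := hb'' 1
    rwa [one_smul, mul_one] at this
  have h2 : B v = b • u + (b' * c) • u' := by
    rw [hv, hB.add _ _ huW (hu'W.smul c), hb']
    have := hb 1
    rw [one_smul, mul_one] at this
    rw [this]
  have h3 : b'' • v = b • u + (b' * c) • u' := by rw [← h1, h2]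
  have h4 := congrArg (fun x => hdot φ x u') h3
  simp only [hdot_add_left, hdot_smul_left, hvu', hu', mul_zero, add_zero] at h4
  have h5 := congrArg (fun x => hdot φ x u) h3
  simp only [hdot_add_left, hdot_smul_left, hvu, hu, mul_zero, zero_add] at h5
  have h6 : b'' = b := mul_right_cancel₀ huu' h4
  have h7 : b'' = b' := by
    have : b'' * (c * hdot φ u' u) = b' * (c * hdot φ u' u) := by linear_combination h5
    exact mul_right_cancel₀ (mul_ne_zero hc0 hu'u) this
  rw [← h6, h7]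

theorem IsComm.eq_scalar (H : Hyp φ ι) (hU2 : ∃ ν : F, ν * φ ν = 1 ∧ ν ^ 2 ≠ 1)
    {e f : ι → F}
    (he : hdot φ e e = 0) (hf : hdot φ f f = 0) (hef : hdot φ e f = 1) (hfe : hdot φ f e = 1)
    {B : (ι → F) → (ι → F)} (hB : IsComm φ e f B) {u u' : ι → F} (hu0 : u ≠ 0) (hu'0 : u' ≠ 0)
    (huW : InW φ e f u) (hu : hdot φ u u = 0) (hu'W : InW φ e f u') (hu' : hdot φ u' u' = 0)
    {b b' : F} (hb : ∀ y : F, B (y • u) = (b * y) • u)
    (hb' : ∀ y : F, B (y • u') = (b' * y) • u') : b = b' := by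
  have hφφ := H.hφφ
  by_cases huu' : hdot φ u u' = 0
  · obtain ⟨u2, hu2W, hu2, huu2, hu2u⟩ := exists_partner_inW H he hf hef hfe hu0 hu huW
    have hu20 : u2 ≠ 0 := by
      rintro rfl
      rw [hdot_zero_left] at hu2u
      exact zero_ne_one hu2u
    obtain ⟨b2, hb2⟩ := hB.line' H hU2 he hf hef hfe hu20 hu2W hu2
    have h1 : b = b2 := hB.eq_of_not_orth H hU2 he hf hef hfe huW hu hu2W hu2
      (by rw [huu2]; exact one_ne_zero) hb hb2
    by_cases hu'u2 : hdot φ u' u2 = 0
    · have hu2u' : hdot φ u2 u' = 0 := hdot_eq_zero_symm φ hφφ _ _ hu'u2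
      obtain ⟨v, hv⟩ : ∃ v, v = u2 + u' := ⟨_, rfl⟩
      have hvW : InW φ e f v := by rw [hv]; exact hu2W.add hu'W
      have hvv : hdot φ v v = 0 := by
        rw [hv]
        simp only [hdot_add_left, hdot_add_right, hu2, hu', hu'u2, hu2u', add_zero]
      have huv : hdot φ u v = 1 := by rw [hv, hdot_add_right, huu2, huu', add_zero]
      have hv0 : v ≠ 0 := by
        rintro h
        rw [h, hdot_zero_right] at huv
        exact zero_ne_one huv
      obtain ⟨bv, hbv⟩ := hB.line' H hU2 he hf hef hfe hv0 hvW hvv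
      have h2 : b = bv := hB.eq_of_not_orth H hU2 he hf hef hfe huW hu hvW hvv
        (by rw [huv]; exact one_ne_zero) hb hbv
      have h3 : B v = bv • v := by
        have := hbv 1
        rwa [one_smul, mul_one] at this
      have h4 : B v = b2 • u2 + b' • u' := by
        rw [hv, hB.add _ _ hu2W hu'W]
        have e1 := hb2 1
        have e2 := hb' 1
        rw [one_smul, mul_one] at e1 e2
        rw [e1, e2]
      have h5 : (b' - bv) • u' = 0 := by
        have : bv • v = b2 • u2 + b' • u' := by rw [← h3, h4]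
        rw [hv, smul_add, ← h1, h2] at this
        rw [sub_smul]
        have h6 : bv • u' = b' • u' := add_left_cancel this
        rw [h6, sub_self]
      rcases smul_eq_zero.1 h5 with h | h
      · rw [h2]
        exact (sub_eq_zero.1 h).symm
      · exact absurd h hu'0
    · have h2 : b' = b2 := hB.eq_of_not_orth H hU2 he hf hef hfe hu'W hu' hu2W hu2 hu'u2 hb' hb2
      rw [h1, h2]
  · exact hB.eq_of_not_orth H hU2 he hf hef hfe huW hu hu'W hu' huu' hb hb'

/-- the commutant lemma in dimension at least four -/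
theorem IsComm.scalar_of_four (H : Hyp φ ι) [Finite F] (h4 : 4 ≤ Fintype.card ι)
    (hU2 : ∃ ν : F, ν * φ ν = 1 ∧ ν ^ 2 ≠ 1) {e f : ι → F}
    (he : hdot φ e e = 0) (hf : hdot φ f f = 0) (hef : hdot φ e f = 1) (hfe : hdot φ f e = 1)
    {B : (ι → F) → (ι → F)} (hB : IsComm φ e f B) :
    ∃ b : F, ∀ w, InW φ e f w → B w = b • w := by
  have hφφ := H.hφφ
  obtain ⟨u0, hu00, hu0, hu0W⟩ := exists_isotropic_inW H h4 he hf hef
  obtain ⟨u0', hu0'W, hu0', hu0u0', hu0'u0⟩ :=
    exists_partner_inW H he hf hef hfe hu00 hu0 hu0W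
  obtain ⟨b, hb⟩ := hB.line' H hU2 he hf hef hfe hu00 hu0W hu0
  -- every isotropic vector of W is scaled by b
  have hiso : ∀ u, InW φ e f u → hdot φ u u = 0 → B u = b • u := by
    intro u huW hu
    by_cases hu0' : u = 0
    · rw [hu0', hB.map_zero, smul_zero]
    · obtain ⟨b', hb'⟩ := hB.line' H hU2 he hf hef hfe hu0' huW hu
      have := hB.eq_scalar H hU2 he hf hef hfe hu00 hu0' hu0W hu0 huW hu hb hb'
      have h1 := hb' 1
      rw [one_smul, mul_one] at h1
      rw [h1, this]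
  refine ⟨b, ?_⟩
  intro w hwW
  by_cases hww : hdot φ w w = 0
  · exact hiso w hwW hww
  · -- an isotropic vector of W not orthogonal to w
    obtain ⟨u, huW, hu, hwu⟩ : ∃ u, InW φ e f u ∧ hdot φ u u = 0 ∧ hdot φ w u ≠ 0 := by
      by_cases h1 : hdot φ w u0 = 0
      · by_cases h2 : hdot φ w u0' = 0
        · obtain ⟨c, hc⟩ := H.exists_siegel_param w
          have h1' : hdot φ u0 w = 0 := hdot_eq_zero_symm φ hφφ _ _ h1
          have h2' : hdot φ u0' w = 0 := hdot_eq_zero_symm φ hφφ _ _ h2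
          refine ⟨w + c • u0 + u0', (hwW.add (hu0W.smul c)).add hu0'W, ?_, ?_⟩
          · simp only [hdot_add_left, hdot_add_right, hdot_smul_left, hdot_smul_right, hu0, hu0',
              hu0u0', hu0'u0, h1, h2, h1', h2']
            linear_combination hc
          · simp only [hdot_add_right, hdot_smul_right, h1, h2]
            simpa using hww
        · exact ⟨u0', hu0'W, hu0', h2⟩
      · exact ⟨u0, hu0W, hu0, h1⟩
    have huw : hdot φ u w ≠ 0 := fun h => hwu (hdot_eq_zero_symm φ hφφ _ _ h)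
    obtain ⟨t, ht⟩ := H.exists_siegel_param w
    obtain ⟨c, hc⟩ : ∃ c, c = t / hdot φ u w := ⟨_, rfl⟩
    have hc1 : c * hdot φ u w = t := by rw [hc]; field_simp
    have hc2 : φ c * hdot φ w u = φ t := by rw [← hdot_conj φ hφφ u w, ← map_mul, hc1]
    obtain ⟨v, hv⟩ : ∃ v, v = w + c • u := ⟨_, rfl⟩
    have hvW : InW φ e f v := by rw [hv]; exact hwW.add (huW.smul c)
    have hvv : hdot φ v v = 0 := by
      rw [hv]
      simp only [hdot_add_left, hdot_add_right, hdot_smul_left, hdot_smul_right, hu]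
      linear_combination hc1 + hc2 + ht
    have hwv : w = v + (-c) • u := by rw [hv, neg_smul]; abel
    have h1 := hiso v hvW hvv
    have h2 := hiso ((-c) • u) (huW.smul _) (by
      rw [hdot_smul_left, hdot_smul_right, hu, mul_zero, mul_zero])
    conv_lhs => rw [hwv]
    rw [hB.add _ _ hvW (huW.smul _), h1, h2, ← smul_add, ← hwv]

end commutant3

section commutant4

variable {F : Type*} [Field F] {ι : Type*} [Fintype ι] [DecidableEq ι] {φ : F →+* F}

theorem tor3_facts (hφφ : ∀ x, φ (φ x) = x) {e f d : ι → F} {a : F}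
    (he : hdot φ e e = 0) (hf : hdot φ f f = 0) (hef : hdot φ e f = 1)
    (hd : hdot φ d d = 1) (hdW : InW φ e f d) (ha : a ≠ 0) :
    tor3 φ e f d a • e = a • e ∧ tor3 φ e f d a ∈ Lv φ e f ∧
      ∀ x : F, tor3 φ e f d a • (x • d) = (φ a / a * x) • d := by
  have hfe : hdot φ f e = 1 := by rw [← hdot_conj φ hφφ e f, hef, map_one]
  have h1 : tor3 φ e f d a • e = a • e := by
    rw [tor3_smul φ hφφ he hf hef hd ha, tv_mulVec, hdW.symm1 hφφ, mul_zero, zero_smul,
      add_zero, hrot_left φ hf he hef]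
  have h2 : tor3 φ e f d a • f = (φ a)⁻¹ • f := by
    rw [tor3_smul φ hφφ he hf hef hd ha, tv_mulVec, hdW.symm2 hφφ, mul_zero, zero_smul,
      add_zero, hrot_right φ hf hfe]
  refine ⟨h1, ⟨⟨a, ha, h1⟩, ⟨(φ a)⁻¹, inv_ne_zero ((map_ne_zero φ).2 ha), h2⟩⟩, ?_⟩
  intro x
  rw [tor3_smul φ hφφ he hf hef hd ha, tv_mulVec, hdot_smul_left, hd, mul_one]
  have : x • d + ((φ a / a - 1) * x) • d = (φ a / a * x) • d := by
    rw [← add_smul]
    congr 1
    ring
  rw [this, Matrix.mulVec_smul, hrot_fix φ hf _ _ hdW.2 hdW.1]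

/-- in dimension three, `W` is the line spanned by a vector of norm one -/
theorem eq_smul_of_inW_three (H : Hyp φ ι) (h3 : Fintype.card ι = 3) {e f d : ι → F}
    (he : hdot φ e e = 0) (hf : hdot φ f f = 0) (hef : hdot φ e f = 1) (hfe : hdot φ f e = 1)
    (hd : hdot φ d d = 1) (hdW : InW φ e f d) {w : ι → F} (hw : InW φ e f w) :
    w = hdot φ w d • d := by
  have hφφ := H.hφφ
  let L : (ι → F) →ₗ[F] (Fin 3 → F) := LinearMap.pi ![hdotL φ e, hdotL φ f, hdotL φ d]
  have hsurj : Function.Surjective L := by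
    intro y
    refine ⟨y 0 • f + y 1 • e + y 2 • d, ?_⟩
    funext i
    fin_cases i
    · simp [L, hdotL_apply, hdot_add_left, hdot_smul_left, he, hfe, hdW.1]
    · simp [L, hdotL_apply, hdot_add_left, hdot_smul_left, hf, hef, hdW.2]
    · simp [L, hdotL_apply, hdot_add_left, hdot_smul_left, hd, hdW.symm1 hφφ, hdW.symm2 hφφ]
  have hinj : Function.Injective L := by
    rw [LinearMap.injective_iff_surjective_of_finrank_eq_finrank]
    · exact hsurj
    · rw [Module.finrank_fin_fun, Module.finrank_pi, h3]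
  rw [← sub_eq_zero]
  apply hinj
  rw [map_zero]
  funext i
  fin_cases i
  · simp [L, hdotL_apply, hdot_sub_left, hdot_smul_left, hw.1, hdW.1]
  · simp [L, hdotL_apply, hdot_sub_left, hdot_smul_left, hw.2, hdW.2]
  · simp [L, hdotL_apply, hdot_sub_left, hdot_smul_left, hd]

/-- the commutant lemma in dimension three -/
theorem IsComm.scalar_of_three (H : Hyp φ ι) [Finite F] (h3 : Fintype.card ι = 3)
    (hU3 : ∃ ν : F, ν * φ ν = 1 ∧ ν ^ 3 ≠ 1) {e f : ι → F}
    (he : hdot φ e e = 0) (hf : hdot φ f f = 0) (hef : hdot φ e f = 1) (hfe : hdot φ f e = 1)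
    {B : (ι → F) → (ι → F)} (hB : IsComm φ e f B) :
    ∃ b : F, ∀ w, InW φ e f w → B w = b • w := by
  have hφφ := H.hφφ
  obtain ⟨d, hdd, hde, hdf⟩ := exists_norm_one_orth_hyp φ H.hφ hφφ H.hN1 H.hcard e f he hf hef
  have hdW : InW φ e f d := ⟨hde, hdf⟩
  obtain ⟨β, hβ⟩ : ∃ β : F → F, β = fun y => hdot φ (B (y • d)) d := ⟨_, rfl⟩
  have h2 : ∀ y : F, B (y • d) = β y • d := by
    intro y
    rw [hβ]
    exact eq_smul_of_inW_three H h3 he hf hef hfe hdd hdW (hB.mapsW _ (hdW.smul y))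
  have hβadd : ∀ x y, β (x + y) = β x + β y := by
    intro x y
    rw [hβ]
    simp only
    rw [add_smul, hB.add _ _ (hdW.smul x) (hdW.smul y), hdot_add_left]
  have h3' : ∀ l : F, l ≠ 0 → ∀ y, β (φ l * (φ l / l) * y) = φ l * (φ l / l) * β y := by
    intro l hl y
    obtain ⟨hte, htL, htd⟩ := tor3_facts hφφ he hf hef hdd hdW hl
    have h := hB.lev _ htL l hte (y • d) (hdW.smul y)
    rw [htd, h2 y, htd, smul_smul, smul_smul, h2] at h
    have h4 := congrArg (fun x => hdot φ x d) h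
    simp only [hdot_smul_left, hdd, mul_one] at h4
    rw [← mul_assoc] at h4
    rw [h4]
    ring
  have h0 : ∀ r y, φ r = r → β (r * y) = r * β y := by
    intro r y hr
    by_cases hr0 : r = 0
    · rw [hr0, zero_mul, zero_mul]
      have := hβadd 0 0
      rw [add_zero] at this
      exact left_eq_add.1 this
    · have := h3' r hr0 y
      rw [hr, div_self hr0, mul_one] at this
      exact this
  obtain ⟨ν, hν1, hν3⟩ := hU3
  have hν0 : ν ≠ 0 := by
    rintro rfl
    rw [zero_mul] at hν1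
    exact zero_ne_one hν1
  obtain ⟨m, hm0, hm⟩ := exists_hilbert90 φ H.hφ hφφ ν hν1
  have hφm0 : φ m ≠ 0 := (map_ne_zero φ).2 hm0
  obtain ⟨θ, hθ⟩ : ∃ θ, θ = m * ν := ⟨_, rfl⟩
  have hθ1 : ∀ y, β (θ * y) = θ * β y := by
    intro y
    have := h3' (φ m) hφm0 y
    have e1 : φ (φ m) * (φ (φ m) / φ m) = θ := by
      rw [hφφ, hθ]
      field_simp
      rw [mul_comm]
      exact hm
    rw [e1] at this
    exact this
  have hθφ : φ θ ≠ θ := by
    intro h
    apply hν3
    have hφν : φ ν = ν⁻¹ := by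
      field_simp
      rw [mul_comm]
      exact hν1
    rw [hθ, map_mul, hφν] at h
    have h5 : φ m = ν ^ 2 * φ m * ν := by
      have h6 : φ m * ν⁻¹ * ν = m * ν * ν := by rw [h]
      rw [inv_mul_cancel_right₀ hν0] at h6
      linear_combination h6 + ν * ν * hm
    have h7 : φ m * (ν ^ 3 - 1) = 0 := by linear_combination -h5
    rcases mul_eq_zero.1 h7 with h8 | h8
    · exact absurd h8 hφm0
    · exact sub_eq_zero.1 h8
  have hlin := linear_of_commute hφφ β hβadd h0 hθφ hθ1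
  refine ⟨β 1, fun w hwW => ?_⟩
  have hw := eq_smul_of_inW_three H h3 he hf hef hfe hdd hdW hwW
  conv_lhs => rw [hw]
  rw [h2, hw, smul_smul]
  congr 1
  have := hlin (hdot φ w d) 1
  rw [mul_one] at this
  rw [hdot_smul_left, hdd, mul_one, this, mul_comm]

/-- the extended standing hypotheses: the norm-one group is large enough -/
structure HypU {F : Type*} [Field F] (φ : F →+* F) (ι : Type*) [Fintype ι] [DecidableEq ι] :
    Prop extends Hyp φ ι where
  hU2 : ∃ ν : F, ν * φ ν = 1 ∧ ν ^ 2 ≠ 1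
  hU3 : Fintype.card ι = 3 → ∃ ν : F, ν * φ ν = 1 ∧ ν ^ 3 ≠ 1

/-- **the commutant lemma**: an additive self-map of `W` commuting with the Levi action is a
scalar -/
theorem IsComm.scalar (H : HypU φ ι) [Finite F] {e f : ι → F}
    (he : hdot φ e e = 0) (hf : hdot φ f f = 0) (hef : hdot φ e f = 1) (hfe : hdot φ f e = 1)
    {B : (ι → F) → (ι → F)} (hB : IsComm φ e f B) :
    ∃ b : F, ∀ w, InW φ e f w → B w = b • w := by
  by_cases h3 : Fintype.card ι = 3
  · exact hB.scalar_of_three H.toHyp h3 (H.hU3 h3) he hf hef hfe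
  · have h4 : 4 ≤ Fintype.card ι := by
      have := H.hcard
      omega
    exact hB.scalar_of_four H.toHyp h4 H.hU2 he hf hef hfe

end commutant4

end Cfsg.Agent.Helper2.PU
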