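import Mathlib
import Cfsg.Agent.Lib.Helper2.Psu3

set_option autoImplicit false
set_option linter.unusedSimpArgs false
set_option linter.unusedVariables false

/-! Automorphisms of the projective special unitary groups, part 4: coordinates on `Qg e`
and the additive map induced by an automorphism of `Qg e`. -/

namespace Cfsg.Agent.Helper2.PU

open Matrix Cfsg.Agent.Helper11 Cfsg.Agent.Helper11.Herm

section coords

variable {F : Type*} [Field F] {ι : Type*} [Fintype ι] [DecidableEq ι] (φ : F →+* F)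

/-- admissible parameters of a Siegel element relative to the hyperbolic pair `e, f` -/
def Par (e f w : ι → F) (s : F) : Prop := InW φ e f w ∧ s + φ s + hdot φ w w = 0

/-- the `e`-coordinate of an element of `Qg e` -/
def sOf (e f : ι → F) (g : SUg ι φ) : F := hdot φ (g • f - f) f

/-- the `W`-coordinate of an element of `Qg e` -/
def wOf (e f : ι → F) (g : SUg ι φ) : ι → F := (g • f - f) - sOf φ e f g • e

variable {φ}

theorem sgG_smul_f (hφφ : ∀ x, φ (φ x) = x) {e f w : ι → F} {s : F} (he : hdot φ e e = 0)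
    (hfe : hdot φ f e = 1) (hP : Par φ e f w s) : sgG φ e w s • f = f + w + s • e := by
  rw [sgG_smul φ hφφ he hP.1.1 hP.2, hfe, one_smul, mul_one, hP.1.symm2 hφφ, sub_zero]

theorem sOf_sgG (hφφ : ∀ x, φ (φ x) = x) {e f w : ι → F} {s : F} (he : hdot φ e e = 0)
    (hef : hdot φ e f = 1) (hfe : hdot φ f e = 1) (hP : Par φ e f w s) :
    sOf φ e f (sgG φ e w s) = s := by
  unfold sOf
  rw [sgG_smul_f hφφ he hfe hP]
  have : f + w + s • e - f = w + s • e := by abel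
  rw [this, hdot_add_left, hdot_smul_left, hP.1.2, hef, zero_add, mul_one]

theorem wOf_sgG (hφφ : ∀ x, φ (φ x) = x) {e f w : ι → F} {s : F} (he : hdot φ e e = 0)
    (hef : hdot φ e f = 1) (hfe : hdot φ f e = 1) (hP : Par φ e f w s) :
    wOf φ e f (sgG φ e w s) = w := by
  unfold wOf
  rw [sOf_sgG hφφ he hef hfe hP, sgG_smul_f hφφ he hfe hP]
  abel

theorem par_of_mem_Qg (hφφ : ∀ x, φ (φ x) = x) {e f : ι → F} (he : hdot φ e e = 0)
    (hf : hdot φ f f = 0) (hef : hdot φ e f = 1) {g : SUg ι φ} (hg : g ∈ Qg φ e) :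
    Par φ e f (wOf φ e f g) (sOf φ e f g) ∧ g = sgG φ e (wOf φ e f g) (sOf φ e f g) := by
  have hfe : hdot φ f e = 1 := by rw [← hdot_conj φ hφφ e f, hef, map_one]
  obtain ⟨w, s, hwe, hwf, hs, hgf, hgeq⟩ := exists_sg_of_mem_Qg φ hφφ he hf hef hg
  have hP : Par φ e f w s := ⟨⟨hwe, hwf⟩, hs⟩
  have h1 : sOf φ e f g = s := by rw [hgeq]; exact sOf_sgG hφφ he hef hfe hP
  have h2 : wOf φ e f g = w := by rw [hgeq]; exact wOf_sgG hφφ he hef hfe hP
  rw [h1, h2]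
  exact ⟨hP, hgeq⟩

theorem sgG_mem_Qg' (hφφ : ∀ x, φ (φ x) = x) {e f w : ι → F} {s : F} (he : hdot φ e e = 0)
    (hP : Par φ e f w s) : sgG φ e w s ∈ Qg φ e :=
  sgG_mem_Qg φ hφφ he hP.1.1 hP.2

theorem Par.mul (hφφ : ∀ x, φ (φ x) = x) {e f w w' : ι → F} {s s' : F} (hP : Par φ e f w s)
    (hP' : Par φ e f w' s') : Par φ e f (w + w') (s + s' - hdot φ w' w) := by
  refine ⟨hP.1.add hP'.1, ?_⟩
  simp only [map_add, map_sub, hdot_add_left, hdot_add_right, hdot_conj φ hφφ]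
  linear_combination hP.2 + hP'.2

theorem sgG_mul' (hφφ : ∀ x, φ (φ x) = x) {e f w w' : ι → F} {s s' : F} (he : hdot φ e e = 0)
    (hP : Par φ e f w s) (hP' : Par φ e f w' s') :
    sgG φ e w s * sgG φ e w' s' = sgG φ e (w + w') (s + s' - hdot φ w' w) :=
  sgG_mul φ hφφ he hP.1.1 hP.2 hP'.1.1 hP'.2

theorem par_zero {e f : ι → F} {t : F} (ht : t + φ t = 0) : Par φ e f 0 t :=
  ⟨InW.zero, by rw [hdot_zero_left, add_zero, ht]⟩

theorem wOf_mul (hφφ : ∀ x, φ (φ x) = x) {e f : ι → F} (he : hdot φ e e = 0)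
    (hf : hdot φ f f = 0) (hef : hdot φ e f = 1) {g g' : SUg ι φ} (hg : g ∈ Qg φ e)
    (hg' : g' ∈ Qg φ e) : wOf φ e f (g * g') = wOf φ e f g + wOf φ e f g' := by
  have hfe : hdot φ f e = 1 := by rw [← hdot_conj φ hφφ e f, hef, map_one]
  obtain ⟨hP, hgeq⟩ := par_of_mem_Qg hφφ he hf hef hg
  obtain ⟨hP', hgeq'⟩ := par_of_mem_Qg hφφ he hf hef hg'
  conv_lhs => rw [hgeq, hgeq', sgG_mul' hφφ he hP hP']
  exact wOf_sgG hφφ he hef hfe (hP.mul hφφ hP')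

theorem sOf_mul (hφφ : ∀ x, φ (φ x) = x) {e f : ι → F} (he : hdot φ e e = 0)
    (hf : hdot φ f f = 0) (hef : hdot φ e f = 1) {g g' : SUg ι φ} (hg : g ∈ Qg φ e)
    (hg' : g' ∈ Qg φ e) :
    sOf φ e f (g * g') = sOf φ e f g + sOf φ e f g' - hdot φ (wOf φ e f g') (wOf φ e f g) := by
  have hfe : hdot φ f e = 1 := by rw [← hdot_conj φ hφφ e f, hef, map_one]
  obtain ⟨hP, hgeq⟩ := par_of_mem_Qg hφφ he hf hef hg
  obtain ⟨hP', hgeq'⟩ := par_of_mem_Qg hφφ he hf hef hg'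
  conv_lhs => rw [hgeq, hgeq', sgG_mul' hφφ he hP hP']
  exact sOf_sgG hφφ he hef hfe (hP.mul hφφ hP')

/-- an element of `Qg e` lies in the root group iff its `W`-coordinate vanishes -/
theorem mem_rootGroup_iff_wOf (hφφ : ∀ x, φ (φ x) = x) {e f : ι → F} (he : hdot φ e e = 0)
    (hf : hdot φ f f = 0) (hef : hdot φ e f = 1) {g : SUg ι φ} (hg : g ∈ Qg φ e) :
    g ∈ rootGroup φ e ↔ wOf φ e f g = 0 := by
  have hfe : hdot φ f e = 1 := by rw [← hdot_conj φ hφφ e f, hef, map_one]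
  obtain ⟨hP, hgeq⟩ := par_of_mem_Qg hφφ he hf hef hg
  constructor
  · intro h
    obtain ⟨c, hc, hgc⟩ := exists_tvG_of_mem_rootGroup φ hφφ he h
    rw [hgc]
    unfold tvG
    exact wOf_sgG hφφ he hef hfe (par_zero hc)
  · intro h
    rw [h] at hP hgeq
    rw [hgeq]
    have : sOf φ e f g + φ (sOf φ e f g) = 0 := by
      have := hP.2
      rwa [hdot_zero_left, add_zero] at this
    exact tvG_mem_rootGroup φ hφφ he this

end coords

section leviact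

variable {F : Type*} [Field F] {ι : Type*} [Fintype ι] [DecidableEq ι] {φ : F →+* F}

theorem inW_smul_of_mem_Lv {e f w : ι → F} {l : SUg ι φ} (hl : l ∈ Lv φ e f)
    (hw : InW φ e f w) : InW φ e f (l • w) :=
  ⟨hdot_smul_of_mem_Pst φ hl.1 hw.1, hdot_smul_of_mem_Pst φ hl.2 hw.2⟩

theorem par_conj (hφφ : ∀ x, φ (φ x) = x) {e f w : ι → F} {s c : F} {l : SUg ι φ}
    (hl : l ∈ Lv φ e f) (hP : Par φ e f w s) :
    Par φ e f (φ c • (l • w)) (c * φ c * s) := by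
  refine ⟨(inW_smul_of_mem_Lv hl hP.1).smul _, ?_⟩
  rw [hdot_smul_left, hdot_smul_right, sug_hdot_smul, map_mul, map_mul, hφφ]
  linear_combination c * φ c * hP.2

theorem conj_sgG_of_mem_Lv (hφφ : ∀ x, φ (φ x) = x) {e f w : ι → F} {s c : F} {l : SUg ι φ}
    (he : hdot φ e e = 0) (hle : l • e = c • e) (hP : Par φ e f w s) :
    l * sgG φ e w s * l⁻¹ = sgG φ e (φ c • (l • w)) (c * φ c * s) :=
  conj_sgG_of_smul_eq φ hφφ hle he hP.1.1 hP.2

theorem wOf_conj (hφφ : ∀ x, φ (φ x) = x) {e f : ι → F} (he : hdot φ e e = 0)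
    (hf : hdot φ f f = 0) (hef : hdot φ e f = 1) {l : SUg ι φ} {c : F} (hl : l ∈ Lv φ e f)
    (hle : l • e = c • e) {g : SUg ι φ} (hg : g ∈ Qg φ e) :
    wOf φ e f (l * g * l⁻¹) = φ c • (l • wOf φ e f g) := by
  have hfe : hdot φ f e = 1 := by rw [← hdot_conj φ hφφ e f, hef, map_one]
  obtain ⟨hP, hgeq⟩ := par_of_mem_Qg hφφ he hf hef hg
  conv_lhs => rw [hgeq, conj_sgG_of_mem_Lv hφφ he hle hP]
  exact wOf_sgG hφφ he hef hfe (par_conj hφφ hl hP)

theorem sOf_conj (hφφ : ∀ x, φ (φ x) = x) {e f : ι → F} (he : hdot φ e e = 0)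
    (hf : hdot φ f f = 0) (hef : hdot φ e f = 1) {l : SUg ι φ} {c : F} (hl : l ∈ Lv φ e f)
    (hle : l • e = c • e) {g : SUg ι φ} (hg : g ∈ Qg φ e) :
    sOf φ e f (l * g * l⁻¹) = c * φ c * sOf φ e f g := by
  have hfe : hdot φ f e = 1 := by rw [← hdot_conj φ hφφ e f, hef, map_one]
  obtain ⟨hP, hgeq⟩ := par_of_mem_Qg hφφ he hf hef hg
  conv_lhs => rw [hgeq, conj_sgG_of_mem_Lv hφφ he hle hP]
  exact sOf_sgG hφφ he hef hfe (par_conj hφφ hl hP)

theorem conj_mem_Qg_of_mem_Lv {e f : ι → F} {l g : SUg ι φ} (hl : l ∈ Lv φ e f)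
    (hg : g ∈ Qg φ e) : l * g * l⁻¹ ∈ Qg φ e :=
  conj_mem_Qg φ hl.1 hg

end leviact

section qaut

variable {F : Type*} [Field F] {ι : Type*} [Fintype ι] [DecidableEq ι] {φ : F →+* F}

/-- a map of the group inducing an automorphism of `Qg e` compatible with the root group and
normalising the action of the Levi subgroup -/
structure IsQAut (φ : F →+* F) (e f : ι → F) (b : SUg ι φ → SUg ι φ) : Prop where
  mem : ∀ g ∈ Qg φ e, b g ∈ Qg φ e
  mul : ∀ g ∈ Qg φ e, ∀ g' ∈ Qg φ e, b (g * g') = b g * b g'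
  inj : ∀ g ∈ Qg φ e, b g = 1 → g = 1
  surj : ∀ g' ∈ Qg φ e, ∃ g ∈ Qg φ e, b g = g'
  root : ∀ g ∈ Qg φ e, (g ∈ rootGroup φ e ↔ b g ∈ rootGroup φ e)
  lev : ∀ l ∈ Lv φ e f, ∃ l' ∈ Lv φ e f, ∀ g ∈ Qg φ e, b (l * g * l⁻¹) = l' * b g * l'⁻¹
  lev' : ∀ l' ∈ Lv φ e f, ∃ l ∈ Lv φ e f, ∀ g ∈ Qg φ e, b (l * g * l⁻¹) = l' * b g * l'⁻¹

open Classical in
/-- a chosen admissible second parameter -/
noncomputable def sPar (φ : F →+* F) (w : ι → F) : F :=
  if h : ∃ s : F, s + φ s + hdot φ w w = 0 then Classical.choose h else 0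

theorem sPar_spec (H : Hyp φ ι) (w : ι → F) : sPar φ w + φ (sPar φ w) + hdot φ w w = 0 := by
  unfold sPar
  rw [dif_pos (H.exists_siegel_param w)]
  exact Classical.choose_spec (H.exists_siegel_param w)

/-- the canonical element of `Qg e` with given `W`-coordinate -/
noncomputable def qOf (φ : F →+* F) (e w : ι → F) : SUg ι φ := sgG φ e w (sPar φ w)

theorem par_qOf (H : Hyp φ ι) {e f w : ι → F} (hw : InW φ e f w) :
    Par φ e f w (sPar φ w) := ⟨hw, sPar_spec H w⟩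

theorem qOf_mem (H : Hyp φ ι) {e f w : ι → F} (he : hdot φ e e = 0) (hw : InW φ e f w) :
    qOf φ e w ∈ Qg φ e := sgG_mem_Qg' H.hφφ he (par_qOf H hw)

theorem wOf_qOf (H : Hyp φ ι) {e f w : ι → F} (he : hdot φ e e = 0) (hef : hdot φ e f = 1)
    (hfe : hdot φ f e = 1) (hw : InW φ e f w) : wOf φ e f (qOf φ e w) = w :=
  wOf_sgG H.hφφ he hef hfe (par_qOf H hw)

/-- the map induced on `W` -/
noncomputable def Amap (φ : F →+* F) (e f : ι → F) (b : SUg ι φ → SUg ι φ) (w : ι → F) :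
    ι → F := wOf φ e f (b (qOf φ e w))

theorem wOf_one (e f : ι → F) : wOf φ e f 1 = 0 := by
  unfold wOf sOf
  rw [one_smul, sub_self, hdot_zero_left, zero_smul, sub_zero]

theorem IsQAut.map_one {e f : ι → F} {b : SUg ι φ → SUg ι φ} (hb : IsQAut φ e f b) :
    b 1 = 1 := by
  have := hb.mul 1 (Subgroup.one_mem _) 1 (Subgroup.one_mem _)
  rw [mul_one] at this
  exact left_eq_mul.1 this

theorem IsQAut.map_inv {e f : ι → F} {b : SUg ι φ → SUg ι φ} (hb : IsQAut φ e f b)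
    {g : SUg ι φ} (hg : g ∈ Qg φ e) : b g⁻¹ = (b g)⁻¹ := by
  have := hb.mul g hg g⁻¹ (Subgroup.inv_mem _ hg)
  rw [mul_inv_cancel, hb.map_one] at this
  exact eq_inv_of_mul_eq_one_right this.symm

variable (H : Hyp φ ι) {e f : ι → F} (he : hdot φ e e = 0) (hf : hdot φ f f = 0)
  (hef : hdot φ e f = 1) (hfe : hdot φ f e = 1) {b : SUg ι φ → SUg ι φ} (hb : IsQAut φ e f b)

include H he hf hef hfe hb

theorem IsQAut.wOf_b_eq {g : SUg ι φ} (hg : g ∈ Qg φ e) :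
    wOf φ e f (b g) = Amap φ e f b (wOf φ e f g) := by
  have hφφ := H.hφφ
  obtain ⟨hP, hgeq⟩ := par_of_mem_Qg hφφ he hf hef hg
  obtain ⟨w, hw⟩ : ∃ w, w = wOf φ e f g := ⟨_, rfl⟩
  rw [← hw] at hP ⊢
  have hq := qOf_mem H he hP.1
  obtain ⟨r, hr⟩ : ∃ r, r = (qOf φ e w)⁻¹ * g := ⟨_, rfl⟩
  have hrQ : r ∈ Qg φ e := by rw [hr]; exact Subgroup.mul_mem _ (Subgroup.inv_mem _ hq) hg
  have hgr : g = qOf φ e w * r := by rw [hr, mul_inv_cancel_left]
  have hwr : wOf φ e f r = 0 := by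
    have h1 := wOf_mul hφφ he hf hef hq hrQ
    rw [← hgr, ← hw, wOf_qOf H he hef hfe hP.1] at h1
    exact left_eq_add.1 h1
  have hrR : r ∈ rootGroup φ e := (mem_rootGroup_iff_wOf hφφ he hf hef hrQ).2 hwr
  have hbr : wOf φ e f (b r) = 0 :=
    (mem_rootGroup_iff_wOf hφφ he hf hef (hb.mem r hrQ)).1 ((hb.root r hrQ).1 hrR)
  rw [hgr, hb.mul _ hq _ hrQ, wOf_mul hφφ he hf hef (hb.mem _ hq) (hb.mem _ hrQ), hbr, add_zero]
  rfl

theorem IsQAut.Amap_inW {w : ι → F} (hw : InW φ e f w) : InW φ e f (Amap φ e f b w) :=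
  (par_of_mem_Qg H.hφφ he hf hef (hb.mem _ (qOf_mem H he hw))).1.1

theorem IsQAut.Amap_add {w w' : ι → F} (hw : InW φ e f w) (hw' : InW φ e f w') :
    Amap φ e f b (w + w') = Amap φ e f b w + Amap φ e f b w' := by
  have hφφ := H.hφφ
  have hq := qOf_mem H he hw
  have hq' := qOf_mem H he hw'
  have h1 := hb.wOf_b_eq H he hf hef hfe (Subgroup.mul_mem _ hq hq')
  rw [wOf_mul hφφ he hf hef hq hq', wOf_qOf H he hef hfe hw, wOf_qOf H he hef hfe hw',
    hb.mul _ hq _ hq', wOf_mul hφφ he hf hef (hb.mem _ hq) (hb.mem _ hq')] at h1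
  exact h1.symm

theorem IsQAut.Amap_inj {w : ι → F} (hw : InW φ e f w) (h0 : Amap φ e f b w = 0) : w = 0 := by
  have hφφ := H.hφφ
  have hq := qOf_mem H he hw
  have h1 : b (qOf φ e w) ∈ rootGroup φ e :=
    (mem_rootGroup_iff_wOf hφφ he hf hef (hb.mem _ hq)).2 h0
  have h2 := (hb.root _ hq).2 h1
  have h3 := (mem_rootGroup_iff_wOf hφφ he hf hef hq).1 h2
  rwa [wOf_qOf H he hef hfe hw] at h3

theorem IsQAut.Amap_surj {w' : ι → F} (hw' : InW φ e f w') :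
    ∃ w, InW φ e f w ∧ Amap φ e f b w = w' := by
  have hφφ := H.hφφ
  obtain ⟨g, hg, hbg⟩ := hb.surj _ (qOf_mem H he hw')
  refine ⟨wOf φ e f g, (par_of_mem_Qg hφφ he hf hef hg).1.1, ?_⟩
  rw [← hb.wOf_b_eq H he hf hef hfe hg, hbg, wOf_qOf H he hef hfe hw']

theorem IsQAut.Amap_lev {l l' : SUg ι φ} (hl : l ∈ Lv φ e f) (hl' : l' ∈ Lv φ e f)
    (hll' : ∀ g ∈ Qg φ e, b (l * g * l⁻¹) = l' * b g * l'⁻¹) {c c' : F} (hle : l • e = c • e)
    (hle' : l' • e = c' • e) {w : ι → F} (hw : InW φ e f w) :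
    Amap φ e f b (φ c • (l • w)) = φ c' • (l' • Amap φ e f b w) := by
  have hφφ := H.hφφ
  have hq := qOf_mem H he hw
  have h1 := hb.wOf_b_eq H he hf hef hfe (conj_mem_Qg_of_mem_Lv hl hq)
  rw [wOf_conj hφφ he hf hef hl hle hq, wOf_qOf H he hef hfe hw, hll' _ hq,
    wOf_conj hφφ he hf hef hl' hle' (hb.mem _ hq)] at h1
  exact h1.symm

end qaut

end Cfsg.Agent.Helper2.PU
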