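import Mathlib
import Cfsg.Agent.Lib.Helper2.Psu4

set_option autoImplicit false
set_option linter.unusedSimpArgs false
set_option linter.unusedVariables false

/-! Automorphisms of the projective special unitary groups, part 5: an automorphism of `Qg e`
normalising the Levi action is semilinear on `W`. -/

namespace Cfsg.Agent.Helper2.PU

open Matrix Cfsg.Agent.Helper11 Cfsg.Agent.Helper11.Herm

section semilin

variable {F : Type*} [Field F] {ι : Type*} [Fintype ι] [DecidableEq ι] {φ : F →+* F}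

open Classical in
/-- a chosen inverse of `Amap` on `W` -/
noncomputable def Ainv (φ : F →+* F) (e f : ι → F) (b : SUg ι φ → SUg ι φ) (w : ι → F) :
    ι → F :=
  if h : ∃ w₀, InW φ e f w₀ ∧ Amap φ e f b w₀ = w then Classical.choose h else 0

/-- a nonzero vector of `W` -/
theorem exists_inW_ne_zero (H : Hyp φ ι) [Finite F] {e f : ι → F} (he : hdot φ e e = 0)
    (hf : hdot φ f f = 0) (hef : hdot φ e f = 1) :
    ∃ d : ι → F, InW φ e f d ∧ hdot φ d d = 1 ∧ d ≠ 0 := by
  obtain ⟨d, hdd, hde, hdf⟩ :=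
    exists_norm_one_orth_hyp φ H.hφ H.hφφ H.hN1 H.hcard e f he hf hef
  refine ⟨d, ⟨hde, hdf⟩, hdd, ?_⟩
  rintro rfl
  rw [hdot_zero_left] at hdd
  exact zero_ne_one hdd

variable (H : HypU φ ι) {e f : ι → F} (he : hdot φ e e = 0) (hf : hdot φ f f = 0)
  (hef : hdot φ e f = 1) (hfe : hdot φ f e = 1) {b : SUg ι φ → SUg ι φ} (hb : IsQAut φ e f b)

include H he hf hef hfe hb

theorem IsQAut.Amap_zero : Amap φ e f b 0 = 0 := by
  have := hb.Amap_add H.toHyp he hf hef hfe (InW.zero (φ := φ) (e := e) (f := f)) InW.zero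
  rw [add_zero] at this
  exact left_eq_add.1 this

theorem IsQAut.Amap_neg {w : ι → F} (hw : InW φ e f w) :
    Amap φ e f b (-w) = -Amap φ e f b w := by
  have := hb.Amap_add H.toHyp he hf hef hfe hw hw.neg
  rw [add_neg_cancel, hb.Amap_zero H he hf hef hfe] at this
  exact (neg_eq_of_add_eq_zero_right this.symm).symm

theorem IsQAut.Amap_sub {w w' : ι → F} (hw : InW φ e f w) (hw' : InW φ e f w') :
    Amap φ e f b (w - w') = Amap φ e f b w - Amap φ e f b w' := by
  rw [sub_eq_add_neg, hb.Amap_add H.toHyp he hf hef hfe hw hw'.neg,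
    hb.Amap_neg H he hf hef hfe hw', ← sub_eq_add_neg]

theorem IsQAut.Amap_injOn {w w' : ι → F} (hw : InW φ e f w) (hw' : InW φ e f w')
    (h : Amap φ e f b w = Amap φ e f b w') : w = w' := by
  have h1 := hb.Amap_sub H he hf hef hfe hw hw'
  rw [h, sub_self] at h1
  exact sub_eq_zero.1 (hb.Amap_inj H.toHyp he hf hef hfe (hw.sub hw') h1)

theorem IsQAut.Ainv_spec {w : ι → F} (hw : InW φ e f w) :
    InW φ e f (Ainv φ e f b w) ∧ Amap φ e f b (Ainv φ e f b w) = w := by
  unfold Ainv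
  rw [dif_pos (hb.Amap_surj H.toHyp he hf hef hfe hw)]
  exact Classical.choose_spec (hb.Amap_surj H.toHyp he hf hef hfe hw)

theorem IsQAut.Ainv_Amap {w : ι → F} (hw : InW φ e f w) :
    Ainv φ e f b (Amap φ e f b w) = w := by
  have h1 := hb.Ainv_spec H he hf hef hfe (hb.Amap_inW H.toHyp he hf hef hfe hw)
  exact hb.Amap_injOn H he hf hef hfe h1.1 hw h1.2

theorem IsQAut.Ainv_add {w w' : ι → F} (hw : InW φ e f w) (hw' : InW φ e f w') :
    Ainv φ e f b (w + w') = Ainv φ e f b w + Ainv φ e f b w' := by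
  have h1 := hb.Ainv_spec H he hf hef hfe hw
  have h2 := hb.Ainv_spec H he hf hef hfe hw'
  have h3 := hb.Ainv_spec H he hf hef hfe (hw.add hw')
  apply hb.Amap_injOn H he hf hef hfe h3.1 (h1.1.add h2.1)
  rw [h3.2, hb.Amap_add H.toHyp he hf hef hfe h1.1 h2.1, h1.2, h2.2]

theorem IsQAut.isComm (c : F) :
    IsComm φ e f (fun w => Amap φ e f b (c • Ainv φ e f b w)) := by
  have hφφ := H.hφφ
  refine ⟨?_, ?_, ?_⟩
  · intro w hw
    exact hb.Amap_inW H.toHyp he hf hef hfe ((hb.Ainv_spec H he hf hef hfe hw).1.smul c)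
  · intro w w' hw hw'
    have h1 := hb.Ainv_spec H he hf hef hfe hw
    have h2 := hb.Ainv_spec H he hf hef hfe hw'
    rw [hb.Ainv_add H he hf hef hfe hw hw', smul_add,
      hb.Amap_add H.toHyp he hf hef hfe (h1.1.smul c) (h2.1.smul c)]
  · intro l' hl' c' hle' w hw
    obtain ⟨l, hl, hll'⟩ := hb.lev' l' hl'
    obtain ⟨c₀, hc₀, hle⟩ := hl.1
    have h1 := hb.Ainv_spec H he hf hef hfe hw
    have h2 := hb.Amap_lev H.toHyp he hf hef hfe hl hl' hll' hle hle' h1.1
    rw [h1.2] at h2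
    rw [← h2, hb.Ainv_Amap H he hf hef hfe ((inW_smul_of_mem_Lv hl h1.1).smul _)]
    have h3 : c • φ c₀ • l • Ainv φ e f b w = φ c₀ • l • (c • Ainv φ e f b w) := by
      rw [sug_smul_smul, smul_comm]
    rw [h3]
    exact hb.Amap_lev H.toHyp he hf hef hfe hl hl' hll' hle hle' (h1.1.smul c)

/-- `Amap` is semilinear with respect to a field automorphism -/
theorem IsQAut.exists_ringEquiv [Finite F] :
    ∃ σ : F ≃+* F, ∀ (c : F) (w : ι → F), InW φ e f w →
      Amap φ e f b (c • w) = σ c • Amap φ e f b w := by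
  have hφφ := H.hφφ
  have h0 : ∀ c : F, ∃ s : F, ∀ w, InW φ e f w →
      Amap φ e f b (c • Ainv φ e f b w) = s • w := fun c =>
    IsComm.scalar H he hf hef hfe (hb.isComm H he hf hef hfe c)
  choose σ hσ using h0
  have hσ' : ∀ (c : F) (w : ι → F), InW φ e f w →
      Amap φ e f b (c • w) = σ c • Amap φ e f b w := by
    intro c w hw
    have := hσ c _ (hb.Amap_inW H.toHyp he hf hef hfe hw)
    rwa [hb.Ainv_Amap H he hf hef hfe hw] at this
  obtain ⟨d, hdW, hdd, hd0⟩ := exists_inW_ne_zero H.toHyp he hf hef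
  have hAd : Amap φ e f b d ≠ 0 := fun h => hd0 (hb.Amap_inj H.toHyp he hf hef hfe hdW h)
  have hinj := smul_left_injective F hAd
  have hadd : ∀ c c', σ (c + c') = σ c + σ c' := by
    intro c c'
    apply hinj
    simp only
    rw [← hσ' _ _ hdW, add_smul, add_smul,
      hb.Amap_add H.toHyp he hf hef hfe (hdW.smul c) (hdW.smul c'), hσ' _ _ hdW, hσ' _ _ hdW]
  have hmul : ∀ c c', σ (c * c') = σ c * σ c' := by
    intro c c'
    apply hinj
    simp only
    rw [← hσ' _ _ hdW, mul_smul, mul_smul, hσ' _ _ (hdW.smul c'), hσ' _ _ hdW]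
  have hone : σ 1 = 1 := by
    apply hinj
    simp only
    rw [← hσ' _ _ hdW, one_smul, one_smul]
  have hzero : σ 0 = 0 := by
    have := hadd 0 0
    rw [add_zero] at this
    exact left_eq_add.1 this
  let σr : F →+* F :=
    { toFun := σ, map_one' := hone, map_mul' := hmul, map_zero' := hzero, map_add' := hadd }
  have hbij : Function.Bijective σr :=
    ⟨σr.injective, Finite.injective_iff_surjective.1 σr.injective⟩
  refine ⟨RingEquiv.ofBijective σr hbij, ?_⟩
  intro c w hw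
  exact hσ' c w hw

end semilin

section form

variable {F : Type*} [Field F] {ι : Type*} [Fintype ι] [DecidableEq ι] {φ : F →+* F}

/-- the `e`-coordinate of the image of a Siegel element -/
noncomputable def Sf (φ : F →+* F) (e f : ι → F) (b : SUg ι φ → SUg ι φ) (w : ι → F) (s : F) :
    F := sOf φ e f (b (sgG φ e w s))

theorem trace_aux (H : Hyp φ ι) : ∃ a : F, a + φ a = 1 := by
  obtain ⟨μ, hμ⟩ := H.hN2
  refine ⟨μ / (μ + φ μ), ?_⟩
  rw [map_div₀, map_add, H.hφφ, add_comm (φ μ) μ, ← add_div, div_self hμ]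

theorem eq_zero_of_forall_fixed (H : Hyp φ ι) {D : F} (h : ∀ μ : F, μ * D - φ (μ * D) = 0) :
    D = 0 := by
  obtain ⟨ν, hν⟩ := H.exists_not_fixed
  have h1 := h 1
  rw [one_mul] at h1
  have h2 := h ν
  rw [map_mul] at h2
  have h3 : φ D = D := (sub_eq_zero.1 h1).symm
  rw [h3] at h2
  have h4 : (ν - φ ν) * D = 0 := by linear_combination h2
  rcases mul_eq_zero.1 h4 with h5 | h5
  · exact absurd (sub_eq_zero.1 h5).symm hν
  · exact h5

variable (H : HypU φ ι) {e f : ι → F} (he : hdot φ e e = 0) (hf : hdot φ f f = 0)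
  (hef : hdot φ e f = 1) (hfe : hdot φ f e = 1) {b : SUg ι φ → SUg ι φ} (hb : IsQAut φ e f b)

include H he hf hef hfe hb

/-- the image of a Siegel element -/
theorem IsQAut.b_sgG {w : ι → F} {s : F} (hP : Par φ e f w s) :
    Par φ e f (Amap φ e f b w) (Sf φ e f b w s) ∧
      b (sgG φ e w s) = sgG φ e (Amap φ e f b w) (Sf φ e f b w s) := by
  have hφφ := H.hφφ
  have hg := sgG_mem_Qg' hφφ he hP
  have h1 := par_of_mem_Qg hφφ he hf hef (hb.mem _ hg)
  have h2 := hb.wOf_b_eq H.toHyp he hf hef hfe hg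
  rw [wOf_sgG hφφ he hef hfe hP] at h2
  rw [h2] at h1
  exact h1

/-- the multiplication rule for the `e`-coordinates of the images -/
theorem IsQAut.Sf_mul {w w' : ι → F} {s s' : F} (hP : Par φ e f w s) (hP' : Par φ e f w' s') :
    Sf φ e f b (w + w') (s + s' - hdot φ w' w) =
      Sf φ e f b w s + Sf φ e f b w' s' - hdot φ (Amap φ e f b w') (Amap φ e f b w) := by
  have hφφ := H.hφφ
  have hg := sgG_mem_Qg' hφφ he hP
  have hg' := sgG_mem_Qg' hφφ he hP'
  obtain ⟨hA, hbg⟩ := hb.b_sgG H he hf hef hfe hP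
  obtain ⟨hA', hbg'⟩ := hb.b_sgG H he hf hef hfe hP'
  have hw1 : wOf φ e f (b (sgG φ e w s)) = Amap φ e f b w := by
    rw [hbg]; exact wOf_sgG hφφ he hef hfe hA
  have hw2 : wOf φ e f (b (sgG φ e w' s')) = Amap φ e f b w' := by
    rw [hbg']; exact wOf_sgG hφφ he hef hfe hA'
  unfold Sf
  rw [← sgG_mul' hφφ he hP hP', hb.mul _ hg _ hg',
    sOf_mul hφφ he hf hef (hb.mem _ hg) (hb.mem _ hg'), hw1, hw2]

theorem IsQAut.Sf_zero_add {w : ι → F} {s t : F} (hP : Par φ e f w s) (ht : t + φ t = 0) :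
    Sf φ e f b w (s + t) = Sf φ e f b w s + Sf φ e f b 0 t := by
  have h := hb.Sf_mul H he hf hef hfe hP (par_zero (e := e) (f := f) ht)
  rw [add_zero, hdot_zero_left, sub_zero, hb.Amap_zero H he hf hef hfe, hdot_zero_left,
    sub_zero] at h
  exact h

/-- the commutator relation -/
theorem IsQAut.comm_rel {w w' : ι → F} (hw : InW φ e f w) (hw' : InW φ e f w') :
    Sf φ e f b 0 (hdot φ w w' - hdot φ w' w) =
      hdot φ (Amap φ e f b w) (Amap φ e f b w') - hdot φ (Amap φ e f b w') (Amap φ e f b w) := by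
  have hφφ := H.hφφ
  have hP := par_qOf H.toHyp hw
  have hP' := par_qOf H.toHyp hw'
  have h1 := hb.Sf_mul H he hf hef hfe hP hP'
  have h2 := hb.Sf_mul H he hf hef hfe hP' hP
  have ht : (hdot φ w w' - hdot φ w' w) + φ (hdot φ w w' - hdot φ w' w) = 0 := by
    rw [map_sub, hdot_conj φ hφφ, hdot_conj φ hφφ]
    ring
  have h3 := hb.Sf_zero_add H he hf hef hfe (hP'.mul hφφ hP) ht
  have e1 : sPar φ w' + sPar φ w - hdot φ w w' + (hdot φ w w' - hdot φ w' w) =
      sPar φ w + sPar φ w' - hdot φ w' w := by ring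
  rw [add_comm w' w] at h2 h3
  rw [e1, h1, h2] at h3
  linear_combination -h3

variable (σ : F ≃+* F)
  (hσ : ∀ (c : F) (w : ι → F), InW φ e f w → Amap φ e f b (c • w) = σ c • Amap φ e f b w)
  (hcomm : ∀ x, σ (φ x) = φ (σ x))

include hσ

theorem IsQAut.comm_rel_smul {w w' : ι → F} (hw : InW φ e f w) (hw' : InW φ e f w') (l : F) :
    Sf φ e f b 0 (l * hdot φ w w' - φ (l * hdot φ w w')) =
      σ l * hdot φ (Amap φ e f b w) (Amap φ e f b w') -
        φ (σ l * hdot φ (Amap φ e f b w) (Amap φ e f b w')) := by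
  have hφφ := H.hφφ
  have h := hb.comm_rel H he hf hef hfe (hw.smul l) hw'
  rw [hσ l w hw, hdot_smul_left, hdot_smul_right, hdot_smul_left, hdot_smul_right,
    ← hdot_conj φ hφφ w w', ← hdot_conj φ hφφ (Amap φ e f b w) (Amap φ e f b w'),
    ← map_mul, ← map_mul] at h
  exact h

include hcomm

/-- `Amap` is a similitude and the induced map on the root group is semilinear -/
theorem IsQAut.form [Finite F] :
    ∃ k : F, k ≠ 0 ∧ φ k = k ∧
      (∀ w w', InW φ e f w → InW φ e f w' →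
        hdot φ (Amap φ e f b w) (Amap φ e f b w') = k * σ (hdot φ w w')) ∧
      (∀ t, t + φ t = 0 → Sf φ e f b 0 t = k * σ t) := by
  have hφφ := H.hφφ
  obtain ⟨d, hdW, hdd, hd0⟩ := exists_inW_ne_zero H.toHyp he hf hef
  obtain ⟨k, hk⟩ : ∃ k, k = hdot φ (Amap φ e f b d) (Amap φ e f b d) := ⟨_, rfl⟩
  have hP : ∀ l : F, Sf φ e f b 0 (l - φ l) = σ l * k - φ (σ l * k) := by
    intro l
    have := hb.comm_rel_smul H he hf hef hfe σ hσ hdW hdW l
    rw [hdd, mul_one, ← hk] at this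
    exact this
  have hform : ∀ w w', InW φ e f w → InW φ e f w' →
      hdot φ (Amap φ e f b w) (Amap φ e f b w') = k * σ (hdot φ w w') := by
    intro w w' hw hw'
    rw [← sub_eq_zero]
    apply eq_zero_of_forall_fixed H.toHyp
    intro μ
    obtain ⟨l, rfl⟩ := σ.surjective μ
    have h1 := hb.comm_rel_smul H he hf hef hfe σ hσ hw hw' l
    rw [hP, map_mul] at h1
    simp only [mul_sub, map_sub, map_mul] at h1 ⊢
    linear_combination -h1
  have hkφ : φ k = k := by rw [hk, hdot_conj φ hφφ]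
  refine ⟨k, ?_, hkφ, hform, ?_⟩
  · intro hk0
    have h1 := hb.Ainv_spec H he hf hef hfe hdW
    have h2 := hform _ _ h1.1 h1.1
    rw [h1.2, hdd, hk0, zero_mul] at h2
    exact one_ne_zero h2
  · intro t ht
    obtain ⟨a, ha⟩ := trace_aux H.toHyp
    have hφt : φ t = -t := by linear_combination ht
    have h1 : a * t - φ (a * t) = t := by
      rw [map_mul, hφt]
      linear_combination t * ha
    have h2 := hP (a * t)
    rw [h1] at h2
    have h3 : φ (σ (a * t) * k) = σ (φ (a * t)) * k := by rw [map_mul, hkφ, hcomm]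
    rw [h2, h3, ← sub_mul, ← map_sub, h1, mul_comm]

end form

end Cfsg.Agent.Helper2.PU
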