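import Mathlib
import Cfsg.Agent.Lib.Helper2.Psu5

set_option autoImplicit false
set_option linter.unusedSimpArgs false
set_option linter.unusedVariables false
set_option linter.unusedSectionVars false

/-! Automorphisms of the projective special unitary groups, part 6: the explicit formula for an
automorphism of `Qg e` normalising the Levi action. -/

namespace Cfsg.Agent.Helper2.PU

open Matrix Cfsg.Agent.Helper11 Cfsg.Agent.Helper11.Herm

section decomp

variable {F : Type*} [Field F] {ι : Type*} [Fintype ι] [DecidableEq ι] {φ : F →+* F}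

/-- in dimension at least four every vector of `W` is a sum of two isotropic vectors of `W` -/
theorem exists_iso_decomp (H : Hyp φ ι) [Finite F] (h4 : 4 ≤ Fintype.card ι) {e f : ι → F}
    (he : hdot φ e e = 0) (hf : hdot φ f f = 0) (hef : hdot φ e f = 1) (hfe : hdot φ f e = 1)
    {w : ι → F} (hwW : InW φ e f w) :
    ∃ v u : ι → F, InW φ e f v ∧ InW φ e f u ∧ hdot φ v v = 0 ∧ hdot φ u u = 0 ∧ w = v + u := by
  have hφφ := H.hφφ
  by_cases hww : hdot φ w w = 0
  · exact ⟨w, 0, hwW, InW.zero, hww, hdot_zero_left φ 0, (add_zero w).symm⟩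
  obtain ⟨u0, hu00, hu0, hu0W⟩ := exists_isotropic_inW H h4 he hf hef
  obtain ⟨u0', hu0'W, hu0', hu0u0', hu0'u0⟩ :=
    exists_partner_inW H he hf hef hfe hu00 hu0 hu0W
  obtain ⟨u, huW, hu, hwu⟩ : ∃ u, InW φ e f u ∧ hdot φ u u = 0 ∧ hdot φ w u ≠ 0 := by
    by_cases h1 : hdot φ w u0 = 0
    · by_cases h2 : hdot φ w u0' = 0
      · obtain ⟨c, hc⟩ := H.exists_siegel_param w
        have h1' : hdot φ u0 w = 0 := hdot_eq_zero_symm φ hφφ _ _ h1
        have h2' : hdot φ u0' w = 0 := hdot_eq_zero_symm φ hφφ _ _ h2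
        refine ⟨w + c • u0 + u0', (hwW.add (hu0W.smul c)).add hu0'W, ?_, ?_⟩
        · simp only [hdot_add_left, hdot_add_right, hdot_smul_left, hdot_smul_right, hu0, hu0',
            hu0u0', hu0'u0, h1, h2, h1', h2']
          linear_combination hc
        · simp only [hdot_add_right, hdot_smul_right, h1, h2]
          simpa using hww
      · exact ⟨u0', hu0'W, hu0', h2⟩
    · exact ⟨u0, hu0W, hu0, h1⟩
  have huw : hdot φ u w ≠ 0 := fun h => hwu (hdot_eq_zero_symm φ hφφ _ _ h)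
  obtain ⟨t, ht⟩ := H.exists_siegel_param w
  obtain ⟨c, hc⟩ : ∃ c, c = t / hdot φ u w := ⟨_, rfl⟩
  have hc1 : c * hdot φ u w = t := by rw [hc]; field_simp
  have hc2 : φ c * hdot φ w u = φ t := by rw [← hdot_conj φ hφφ u w, ← map_mul, hc1]
  obtain ⟨v, hv⟩ : ∃ v, v = w + c • u := ⟨_, rfl⟩
  have hvW : InW φ e f v := by rw [hv]; exact hwW.add (huW.smul c)
  have hvv : hdot φ v v = 0 := by
    rw [hv]
    simp only [hdot_add_left, hdot_add_right, hdot_smul_left, hdot_smul_right, hu]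
    linear_combination hc1 + hc2 + ht
  have hwv : w = v + (-c) • u := by rw [hv, neg_smul]; abel
  refine ⟨v, (-c) • u, hvW, huW.smul _, hvv, ?_, hwv⟩
  rw [hdot_smul_left, hdot_smul_right, hu, mul_zero, mul_zero]

end decomp

section formula

variable {F : Type*} [Field F] {ι : Type*} [Fintype ι] [DecidableEq ι] {φ : F →+* F}

/-- the defect of the `e`-coordinate -/
noncomputable def dl (φ : F →+* F) (e f : ι → F) (b : SUg ι φ → SUg ι φ) (σ : F ≃+* F) (k : F)
    (w : ι → F) : F := Sf φ e f b w (sPar φ w) - k * σ (sPar φ w)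

variable (H : HypU φ ι) {e f : ι → F} (he : hdot φ e e = 0) (hf : hdot φ f f = 0)
  (hef : hdot φ e f = 1) (hfe : hdot φ f e = 1) {b : SUg ι φ → SUg ι φ} (hb : IsQAut φ e f b)
  (σ : F ≃+* F)
  (hσ : ∀ (c : F) (w : ι → F), InW φ e f w → Amap φ e f b (c • w) = σ c • Amap φ e f b w)
  (hcomm : ∀ x, σ (φ x) = φ (σ x)) {k : F} (hk0 : k ≠ 0) (hkφ : φ k = k)
  (hform : ∀ w w', InW φ e f w → InW φ e f w' →
        hdot φ (Amap φ e f b w) (Amap φ e f b w') = k * σ (hdot φ w w'))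
  (hψ : ∀ t, t + φ t = 0 → Sf φ e f b 0 t = k * σ t)

include H he hf hef hfe hb hσ hcomm hk0 hkφ hform hψ

theorem IsQAut.Sf_eq {w : ι → F} {s : F} (hP : Par φ e f w s) :
    Sf φ e f b w s = k * σ s + dl φ e f b σ k w := by
  have hP0 := par_qOf H.toHyp hP.1
  have ht : (s - sPar φ w) + φ (s - sPar φ w) = 0 := by
    rw [map_sub]
    linear_combination hP.2 - hP0.2
  have h1 := hb.Sf_zero_add H he hf hef hfe hP0 ht
  rw [add_sub_cancel, hψ _ ht] at h1
  rw [h1, dl, map_sub]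
  ring

theorem IsQAut.dl_add {w w' : ι → F} (hw : InW φ e f w) (hw' : InW φ e f w') :
    dl φ e f b σ k (w + w') = dl φ e f b σ k w + dl φ e f b σ k w' := by
  have hφφ := H.hφφ
  have hP := par_qOf H.toHyp hw
  have hP' := par_qOf H.toHyp hw'
  have h1 := hb.Sf_mul H he hf hef hfe hP hP'
  rw [hb.Sf_eq H he hf hef hfe σ hσ hcomm hk0 hkφ hform hψ (hP.mul hφφ hP'),
    hb.Sf_eq H he hf hef hfe σ hσ hcomm hk0 hkφ hform hψ hP,
    hb.Sf_eq H he hf hef hfe σ hσ hcomm hk0 hkφ hform hψ hP', hform _ _ hw' hw,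
    map_sub, map_add] at h1
  linear_combination h1

theorem IsQAut.dl_zero : dl φ e f b σ k 0 = 0 := by
  have := hb.dl_add H he hf hef hfe σ hσ hcomm hk0 hkφ hform hψ
    (InW.zero (φ := φ) (e := e) (f := f)) InW.zero
  rw [add_zero] at this
  exact left_eq_add.1 this

theorem IsQAut.dl_sub {w w' : ι → F} (hw : InW φ e f w) (hw' : InW φ e f w') :
    dl φ e f b σ k (w - w') = dl φ e f b σ k w - dl φ e f b σ k w' := by
  have := hb.dl_add H he hf hef hfe σ hσ hcomm hk0 hkφ hform hψ (hw.sub hw') hw'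
  rw [sub_add_cancel] at this
  rw [this, add_sub_cancel_right]

/-- the defect is equivariant for the Levi action -/
theorem IsQAut.dl_lev {l : SUg ι φ} (hl : l ∈ Lv φ e f) {c : F} (hle : l • e = c • e)
    {w : ι → F} (hw : InW φ e f w) :
    dl φ e f b σ k (φ c • (l • w)) = σ (c * φ c) * dl φ e f b σ k w := by
  have hφφ := H.hφφ
  obtain ⟨l', hl', hll'⟩ := hb.lev l hl
  obtain ⟨c', hc'0, hle'⟩ := hl'.1
  have key : ∀ (w : ι → F) (s : F), Par φ e f w s →
      k * σ (c * φ c * s) + dl φ e f b σ k (φ c • (l • w)) =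
        c' * φ c' * (k * σ s + dl φ e f b σ k w) := by
    intro w s hP
    have hg := sgG_mem_Qg' hφφ he hP
    have h1 := hll' _ hg
    rw [conj_sgG_of_mem_Lv hφφ he hle hP] at h1
    have h2 := congrArg (sOf φ e f) h1
    rw [sOf_conj hφφ he hf hef hl' hle' (hb.mem _ hg)] at h2
    have h3 : Sf φ e f b (φ c • (l • w)) (c * φ c * s) = c' * φ c' * Sf φ e f b w s := h2
    rw [hb.Sf_eq H he hf hef hfe σ hσ hcomm hk0 hkφ hform hψ (par_conj hφφ hl hP),
      hb.Sf_eq H he hf hef hfe σ hσ hcomm hk0 hkφ hform hψ hP] at h3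
    exact h3
  obtain ⟨t0, ht00, ht0⟩ := H.exists_trace_zero
  have h0 := key 0 t0 (par_zero ht0)
  rw [sug_smul_zero, smul_zero, hb.dl_zero H he hf hef hfe σ hσ hcomm hk0 hkφ hform hψ, add_zero,
    add_zero, map_mul] at h0
  have hσt : σ t0 ≠ 0 := (map_ne_zero σ).2 ht00
  have hcc : c' * φ c' = σ (c * φ c) := by
    apply mul_right_cancel₀ (mul_ne_zero hk0 hσt)
    linear_combination -h0
  have h1 := key w (sPar φ w) (par_qOf H.toHyp hw)
  rw [hcc, map_mul] at h1
  linear_combination h1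

/-- the defect vanishes on isotropic vectors -/
theorem IsQAut.dl_iso {u : ι → F} (huW : InW φ e f u) (hu : hdot φ u u = 0) :
    dl φ e f b σ k u = 0 := by
  have hφφ := H.hφφ
  by_cases hu0 : u = 0
  · rw [hu0]
    exact hb.dl_zero H he hf hef hfe σ hσ hcomm hk0 hkφ hform hψ
  obtain ⟨u2, hu2W, hu2, huu2, hu2u⟩ := exists_partner_inW H.toHyp he hf hef hfe hu0 hu huW
  obtain ⟨ν, hν1, hν2⟩ := H.hU2
  have hν0 : ν ≠ 0 := by
    rintro rfl
    rw [zero_mul] at hν1
    exact zero_ne_one hν1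
  have hφν : φ ν = ν⁻¹ := by
    field_simp
    rw [mul_comm]
    exact hν1
  have hdet : ν * (φ ν)⁻¹ * (ν⁻¹ * (φ ν⁻¹)⁻¹) = 1 := by
    rw [map_inv₀, hφν]
    field_simp
  obtain ⟨hte, htL⟩ :=
    tor4_mem_Lv hφφ he hf hef hu hu2 huu2 huW hu2W hν0 (inv_ne_zero hν0) hdet
  obtain ⟨r, hr⟩ : ∃ r, r = φ ν * ν⁻¹ := ⟨_, rfl⟩
  have hr1 : r - 1 ≠ 0 := by
    intro h
    apply hν2
    have h1 : φ ν * ν⁻¹ = 1 := by rw [← hr]; exact sub_eq_zero.1 h
    rw [hφν] at h1
    rw [pow_two, ← inv_inv (ν * ν), _root_.mul_inv, h1, inv_one]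
  have h1 : ∀ y : F, dl φ e f b σ k ((r * y) • u) = dl φ e f b σ k (y • u) := by
    intro y
    have h := hb.dl_lev H he hf hef hfe σ hσ hcomm hk0 hkφ hform hψ htL hte (huW.smul y)
    rw [tor4_smul_u hφφ he hf hef hu hu2 huu2 huW hν0 (inv_ne_zero hν0) hdet, hν1,
      _root_.map_one σ, one_mul, smul_smul, ← mul_assoc, ← hr] at h
    exact h
  have h2 : ∀ y : F, dl φ e f b σ k (((r - 1) * y) • u) = 0 := by
    intro y
    have : ((r - 1) * y) • u = (r * y) • u - y • u := by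
      rw [← sub_smul]
      congr 1
      ring
    rw [this, hb.dl_sub H he hf hef hfe σ hσ hcomm hk0 hkφ hform hψ (huW.smul _) (huW.smul _),
      h1, sub_self]
  have h3 := h2 (r - 1)⁻¹
  rwa [mul_inv_cancel₀ hr1, one_smul] at h3

/-- the defect vanishes in dimension three -/
theorem IsQAut.dl_three [Finite F] (h3 : Fintype.card ι = 3) {w : ι → F} (hw : InW φ e f w) :
    dl φ e f b σ k w = 0 := by
  have hφφ := H.hφφ
  obtain ⟨d, hdd, hde, hdf⟩ :=
    exists_norm_one_orth_hyp φ H.hφ hφφ H.hN1 H.hcard e f he hf hef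
  have hdW : InW φ e f d := ⟨hde, hdf⟩
  obtain ⟨ν, hν1, hν3⟩ := H.hU3 h3
  have hν0 : ν ≠ 0 := by
    rintro rfl
    rw [zero_mul] at hν1
    exact zero_ne_one hν1
  have hφν : φ ν = ν⁻¹ := by
    field_simp
    rw [mul_comm]
    exact hν1
  obtain ⟨hte, htL, htd⟩ := tor3_facts hφφ he hf hef hdd hdW hν0
  obtain ⟨r, hr⟩ : ∃ r, r = φ ν * (φ ν / ν) := ⟨_, rfl⟩
  have hr1 : r - 1 ≠ 0 := by
    intro h
    apply hν3
    have h1 : φ ν * (φ ν / ν) = 1 := by rw [← hr]; exact sub_eq_zero.1 h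
    rw [hφν] at h1
    have h2 : ν ^ 3 = (ν⁻¹ * (ν⁻¹ / ν))⁻¹ := by
      field_simp
    rw [h2, h1, inv_one]
  have h1 : ∀ y : F, dl φ e f b σ k ((r * y) • d) = dl φ e f b σ k (y • d) := by
    intro y
    have h := hb.dl_lev H he hf hef hfe σ hσ hcomm hk0 hkφ hform hψ htL hte (hdW.smul y)
    rw [htd, hν1, _root_.map_one σ, one_mul, smul_smul, ← mul_assoc, ← hr] at h
    exact h
  have h2 : ∀ y : F, dl φ e f b σ k (((r - 1) * y) • d) = 0 := by
    intro y
    have : ((r - 1) * y) • d = (r * y) • d - y • d := by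
      rw [← sub_smul]
      congr 1
      ring
    rw [this, hb.dl_sub H he hf hef hfe σ hσ hcomm hk0 hkφ hform hψ (hdW.smul _) (hdW.smul _),
      h1, sub_self]
  have h4 := eq_smul_of_inW_three H.toHyp h3 he hf hef hfe hdd hdW hw
  have h5 := h2 ((r - 1)⁻¹ * hdot φ w d)
  rw [← mul_assoc, mul_inv_cancel₀ hr1, one_mul, ← h4] at h5
  exact h5

/-- the defect vanishes -/
theorem IsQAut.dl_eq_zero [Finite F] {w : ι → F} (hw : InW φ e f w) :
    dl φ e f b σ k w = 0 := by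
  by_cases h3 : Fintype.card ι = 3
  · exact hb.dl_three H he hf hef hfe σ hσ hcomm hk0 hkφ hform hψ h3 hw
  · have h4 : 4 ≤ Fintype.card ι := by
      have := H.hcard
      omega
    obtain ⟨v, u, hvW, huW, hvv, huu, hwvu⟩ := exists_iso_decomp H.toHyp h4 he hf hef hfe hw
    rw [hwvu, hb.dl_add H he hf hef hfe σ hσ hcomm hk0 hkφ hform hψ hvW huW,
      hb.dl_iso H he hf hef hfe σ hσ hcomm hk0 hkφ hform hψ hvW hvv,
      hb.dl_iso H he hf hef hfe σ hσ hcomm hk0 hkφ hform hψ huW huu, add_zero]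

/-- **the explicit formula** for an automorphism of `Qg e` normalising the Levi action -/
theorem IsQAut.b_formula [Finite F] {w : ι → F} {s : F} (hP : Par φ e f w s) :
    b (sgG φ e w s) = sgG φ e (Amap φ e f b w) (k * σ s) := by
  have h1 := (hb.b_sgG H he hf hef hfe hP).2
  rw [hb.Sf_eq H he hf hef hfe σ hσ hcomm hk0 hkφ hform hψ hP,
    hb.dl_eq_zero H he hf hef hfe σ hσ hcomm hk0 hkφ hform hψ hP.1, add_zero] at h1
  exact h1

end formula

end Cfsg.Agent.Helper2.PU
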