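import Mathlib
import Cfsg.Agent.Lib.Helper2.Psu6

set_option autoImplicit false
set_option linter.unusedSimpArgs false
set_option linter.unusedVariables false
set_option linter.unusedSectionVars false

/-! Automorphisms of the projective special unitary groups, part 7: an automorphism of `Qg e`
normalising the Levi action is induced by a semilinear isometry. -/

namespace Cfsg.Agent.Helper2.PU

open Matrix Cfsg.Agent.Helper11 Cfsg.Agent.Helper11.Herm

section taumap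

variable {F : Type*} [Field F] {ι : Type*} [Fintype ι] [DecidableEq ι] {φ : F →+* F}

/-- the form in hyperbolic coordinates -/
theorem hdot_decomp (hφφ : ∀ x, φ (φ x) = x) {e f : ι → F} (he : hdot φ e e = 0)
    (hf : hdot φ f f = 0) (hef : hdot φ e f = 1) (hfe : hdot φ f e = 1) {v v' : ι → F}
    (hv : InW φ e f v) (hv' : InW φ e f v') (a b a' b' : F) :
    hdot φ (a • e + b • f + v) (a' • e + b' • f + v') =
      a * φ b' + b * φ a' + hdot φ v v' := by
  simp only [hdot_add_left, hdot_add_right, hdot_smul_left, hdot_smul_right, he, hf, hef, hfe,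
    hv.1, hv.2, hv'.1, hv'.2, hv.symm1 hφφ, hv.symm2 hφφ, hv'.symm1 hφφ, hv'.symm2 hφφ]
  ring

theorem eq_decomp (e f x : ι → F) :
    x = hdot φ x f • e + hdot φ x e • f + (x - hdot φ x f • e - hdot φ x e • f) := by
  abel

theorem hdot_comp_ringEquiv (σ : F ≃+* F) (hcomm : ∀ x, σ (φ x) = φ (σ x)) (u v : ι → F) :
    hdot φ (σ ∘ u) (σ ∘ v) = σ (hdot φ u v) := by
  simp only [hdot_def, map_sum, map_mul, hcomm, Function.comp_apply]

/-- the semilinear isometry attached to an automorphism of `Qg e` -/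
noncomputable def tauMap (φ : F →+* F) (e f : ι → F) (b : SUg ι φ → SUg ι φ) (σ : F ≃+* F)
    (c₁ : F) (x : ι → F) : ι → F :=
  (σ (hdot φ x f) * c₁) • e + (σ (hdot φ x e) * (φ c₁)⁻¹) • f +
    (φ c₁)⁻¹ • Amap φ e f b (x - hdot φ x f • e - hdot φ x e • f)

variable (H : HypU φ ι) {e f : ι → F} (he : hdot φ e e = 0) (hf : hdot φ f f = 0)
  (hef : hdot φ e f = 1) (hfe : hdot φ f e = 1) {b : SUg ι φ → SUg ι φ} (hb : IsQAut φ e f b)
  (σ : F ≃+* F)
  (hσ : ∀ (c : F) (w : ι → F), InW φ e f w → Amap φ e f b (c • w) = σ c • Amap φ e f b w)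
  (hcomm : ∀ x, σ (φ x) = φ (σ x)) {k : F} (hk0 : k ≠ 0) (hkφ : φ k = k)
  (hform : ∀ w w', InW φ e f w → InW φ e f w' →
        hdot φ (Amap φ e f b w) (Amap φ e f b w') = k * σ (hdot φ w w'))
  (hψ : ∀ t, t + φ t = 0 → Sf φ e f b 0 t = k * σ t) {c₁ : F} (hc₁ : c₁ * φ c₁ = k)

include H he hf hef hfe hb hσ hcomm hk0 hkφ hform hψ hc₁

theorem IsQAut.tauMap_add (x y : ι → F) :
    tauMap φ e f b σ c₁ (x + y) = tauMap φ e f b σ c₁ x + tauMap φ e f b σ c₁ y := by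
  unfold tauMap
  have h1 : x + y - hdot φ (x + y) f • e - hdot φ (x + y) e • f =
      (x - hdot φ x f • e - hdot φ x e • f) + (y - hdot φ y f • e - hdot φ y e • f) := by
    rw [hdot_add_left, hdot_add_left]
    module
  rw [h1, hb.Amap_add H.toHyp he hf hef hfe (inW_proj he hf hef hfe x) (inW_proj he hf hef hfe y),
    hdot_add_left, hdot_add_left, map_add, map_add]
  module

theorem IsQAut.tauMap_smul (c : F) (x : ι → F) :
    tauMap φ e f b σ c₁ (c • x) = σ c • tauMap φ e f b σ c₁ x := by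
  unfold tauMap
  have h1 : c • x - hdot φ (c • x) f • e - hdot φ (c • x) e • f =
      c • (x - hdot φ x f • e - hdot φ x e • f) := by
    rw [hdot_smul_left, hdot_smul_left]
    module
  rw [h1, hσ c _ (inW_proj he hf hef hfe x), hdot_smul_left, hdot_smul_left, map_mul, map_mul]
  module

theorem IsQAut.tauMap_hdot (x y : ι → F) :
    hdot φ (tauMap φ e f b σ c₁ x) (tauMap φ e f b σ c₁ y) = σ (hdot φ x y) := by
  have hφφ := H.hφφ
  have hc0 : c₁ ≠ 0 := by
    rintro rfl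
    rw [zero_mul] at hc₁
    exact hk0 hc₁.symm
  have hφc0 : φ c₁ ≠ 0 := (map_ne_zero φ).2 hc0
  have hx := inW_proj he hf hef hfe x
  have hy := inW_proj he hf hef hfe y
  have hAx := hb.Amap_inW H.toHyp he hf hef hfe hx
  have hAy := hb.Amap_inW H.toHyp he hf hef hfe hy
  unfold tauMap
  rw [hdot_decomp hφφ he hf hef hfe (hAx.smul _) (hAy.smul _), hdot_smul_left, hdot_smul_right,
    hform _ _ hx hy]
  conv_rhs => rw [eq_decomp (φ := φ) e f x, eq_decomp (φ := φ) e f y,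
    hdot_decomp hφφ he hf hef hfe hx hy]
  simp only [map_add, map_mul, map_inv₀, hφφ, hcomm]
  rw [← hc₁]
  field_simp

theorem IsQAut.tauMap_e : tauMap φ e f b σ c₁ e = c₁ • e := by
  unfold tauMap
  have h1 : e - hdot φ e f • e - hdot φ e e • f = 0 := by
    rw [hef, he, one_smul, zero_smul, sub_self, sub_zero]
  rw [h1, hb.Amap_zero H he hf hef hfe, hef, he, _root_.map_one σ, _root_.map_zero σ, zero_mul,
    zero_smul, smul_zero, add_zero, add_zero, one_mul]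

theorem IsQAut.tauMap_f : tauMap φ e f b σ c₁ f = (φ c₁)⁻¹ • f := by
  unfold tauMap
  have h1 : f - hdot φ f f • e - hdot φ f e • f = 0 := by
    rw [hfe, hf, one_smul, zero_smul, sub_zero, sub_self]
  rw [h1, hb.Amap_zero H he hf hef hfe, hfe, hf, _root_.map_one σ, _root_.map_zero σ, zero_mul,
    zero_smul, smul_zero, add_zero, zero_add, one_mul]

theorem IsQAut.tauMap_w {w : ι → F} (hw : InW φ e f w) :
    tauMap φ e f b σ c₁ w = (φ c₁)⁻¹ • Amap φ e f b w := by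
  unfold tauMap
  rw [hw.1, hw.2, zero_smul, zero_smul, sub_zero, sub_zero, _root_.map_zero σ, zero_mul,
    zero_mul, zero_smul, zero_smul, zero_add, zero_add]

/-- the semilinear isometry intertwines a Siegel element with its image -/
theorem IsQAut.tauMap_sgG {w : ι → F} {s : F} (hP : Par φ e f w s) (x : ι → F) :
    sgG φ e (Amap φ e f b w) (k * σ s) • tauMap φ e f b σ c₁ x =
      tauMap φ e f b σ c₁ (sgG φ e w s • x) := by
  have hφφ := H.hφφ
  have hc0 : c₁ ≠ 0 := by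
    rintro rfl
    rw [zero_mul] at hc₁
    exact hk0 hc₁.symm
  have hφc0 : φ c₁ ≠ 0 := (map_ne_zero φ).2 hc0
  have hAw := hb.Amap_inW H.toHyp he hf hef hfe hP.1
  have hPA : Par φ e f (Amap φ e f b w) (k * σ s) := by
    refine ⟨hAw, ?_⟩
    rw [hform _ _ hP.1 hP.1, map_mul, hkφ, ← hcomm, ← mul_add, ← mul_add, ← map_add, ← map_add,
      hP.2, _root_.map_zero σ, mul_zero]
  have hte := hb.tauMap_e H he hf hef hfe σ hσ hcomm hk0 hkφ hform hψ hc₁
  have htw := hb.tauMap_w H he hf hef hfe σ hσ hcomm hk0 hkφ hform hψ hc₁ hP.1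
  have h1 : hdot φ (tauMap φ e f b σ c₁ x) e = σ (hdot φ x e) / φ c₁ := by
    have := hb.tauMap_hdot H he hf hef hfe σ hσ hcomm hk0 hkφ hform hψ hc₁ x e
    rw [hte, hdot_smul_right] at this
    rw [← this]
    field_simp
  have h2 : hdot φ (tauMap φ e f b σ c₁ x) (Amap φ e f b w) = c₁ * σ (hdot φ x w) := by
    have := hb.tauMap_hdot H he hf hef hfe σ hσ hcomm hk0 hkφ hform hψ hc₁ x w
    rw [htw, hdot_smul_right, map_inv₀, hφφ] at this
    rw [← this]
    field_simp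
  rw [sgG_smul φ hφφ he hPA.1.1 hPA.2, sgG_smul φ hφφ he hP.1.1 hP.2,
    hb.tauMap_add H he hf hef hfe σ hσ hcomm hk0 hkφ hform hψ hc₁,
    hb.tauMap_add H he hf hef hfe σ hσ hcomm hk0 hkφ hform hψ hc₁,
    hb.tauMap_smul H he hf hef hfe σ hσ hcomm hk0 hkφ hform hψ hc₁,
    hb.tauMap_smul H he hf hef hfe σ hσ hcomm hk0 hkφ hform hψ hc₁, hte, htw, h1, h2,
    map_sub, map_mul]
  have h3 : k = c₁ * φ c₁ := hc₁.symm
  rw [h3]
  simp only [smul_smul]
  have h4 : c₁ * φ c₁ * σ s * (σ (hdot φ x e) / φ c₁) - c₁ * σ (hdot φ x w) =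
      (σ s * σ (hdot φ x e) - σ (hdot φ x w)) * c₁ := by
    field_simp
  rw [h4]
  have h5 : σ (hdot φ x e) / φ c₁ = σ (hdot φ x e) * (φ c₁)⁻¹ := div_eq_mul_inv _ _
  rw [h5]

/-- the matrix of the semilinear isometry -/
noncomputable def tauMat (φ : F →+* F) (e f : ι → F) (b : SUg ι φ → SUg ι φ) (σ : F ≃+* F)
    (c₁ : F) : Matrix ι ι F :=
  Matrix.of fun i j => tauMap φ e f b σ c₁ (Pi.single j 1) i

theorem IsQAut.tauMat_mulVec (x : ι → F) :
    tauMat φ e f b σ c₁ *ᵥ (σ ∘ x) = tauMap φ e f b σ c₁ x := by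
  have hx : x = ∑ j, x j • (Pi.single j (1 : F) : ι → F) := by
    funext i
    simp [Finset.sum_apply, Pi.single_apply]
  let T : (ι → F) →+ (ι → F) := AddMonoidHom.mk' (tauMap φ e f b σ c₁)
    (hb.tauMap_add H he hf hef hfe σ hσ hcomm hk0 hkφ hform hψ hc₁)
  have hT : ∀ y, T y = tauMap φ e f b σ c₁ y := fun y => rfl
  conv_rhs => rw [hx, ← hT, map_sum]
  funext i
  rw [Finset.sum_apply]
  simp only [Matrix.mulVec, dotProduct, tauMat, Matrix.of_apply, Function.comp_apply]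
  apply Finset.sum_congr rfl
  intro j _
  rw [hT, hb.tauMap_smul H he hf hef hfe σ hσ hcomm hk0 hkφ hform hψ hc₁, Pi.smul_apply,
    smul_eq_mul, mul_comm]

theorem IsQAut.isU_tauMat : IsU φ (tauMat φ e f b σ c₁) := by
  apply isU_of_preserves
  intro u v
  have hu : u = σ ∘ (σ.symm ∘ u) := by
    funext i
    simp
  have hv : v = σ ∘ (σ.symm ∘ v) := by
    funext i
    simp
  rw [hu, hv, hb.tauMat_mulVec H he hf hef hfe σ hσ hcomm hk0 hkφ hform hψ hc₁,
    hb.tauMat_mulVec H he hf hef hfe σ hσ hcomm hk0 hkφ hform hψ hc₁,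
    hb.tauMap_hdot H he hf hef hfe σ hσ hcomm hk0 hkφ hform hψ hc₁,
    hdot_comp_ringEquiv σ hcomm]

theorem IsQAut.tauMat_intertwine [Finite F] {x : SUg ι φ} (hx : x ∈ Qg φ e) :
    smat φ (b x) * tauMat φ e f b σ c₁ = tauMat φ e f b σ c₁ * (smat φ x).map σ := by
  have hφφ := H.hφφ
  obtain ⟨hP, hxeq⟩ := par_of_mem_Qg hφφ he hf hef hx
  rw [Matrix.ext_iff_mulVec]
  intro y
  have hy : y = σ ∘ (σ.symm ∘ y) := by
    funext i
    simp
  rw [hy, ← Matrix.mulVec_mulVec, ← Matrix.mulVec_mulVec,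
    hb.tauMat_mulVec H he hf hef hfe σ hσ hcomm hk0 hkφ hform hψ hc₁]
  have h1 : (smat φ x).map σ *ᵥ (σ ∘ (σ.symm ∘ y)) = σ ∘ (smat φ x *ᵥ (σ.symm ∘ y)) := by
    funext i
    exact (RingHom.map_mulVec (σ : F →+* F) (smat φ x) (σ.symm ∘ y) i).symm
  rw [h1, hb.tauMat_mulVec H he hf hef hfe σ hσ hcomm hk0 hkφ hform hψ hc₁, smat_mulVec,
    smat_mulVec]
  conv_lhs => rw [hxeq, hb.b_formula H he hf hef hfe σ hσ hcomm hk0 hkφ hform hψ hP]
  conv_rhs => rw [hxeq]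
  exact hb.tauMap_sgG H he hf hef hfe σ hσ hcomm hk0 hkφ hform hψ hc₁ hP _

end taumap

section core

variable {F : Type*} [Field F] {ι : Type*} [Fintype ι] [DecidableEq ι] {φ : F →+* F}

/-- **the core theorem**: an automorphism of `Qg e` compatible with the root group and
normalising the Levi action is induced by a semilinear isometry fixing the points of `e`
and `f` -/
theorem IsQAut.exists_matrix (H : HypU φ ι) [Finite F]
    (hcomm : ∀ (σ : F ≃+* F) (x : F), σ (φ x) = φ (σ x)) {e f : ι → F}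
    (he : hdot φ e e = 0) (hf : hdot φ f f = 0) (hef : hdot φ e f = 1) (hfe : hdot φ f e = 1)
    {b : SUg ι φ → SUg ι φ} (hb : IsQAut φ e f b) :
    ∃ (σ : F ≃+* F) (g₀ : Matrix ι ι F) (c₁ c₂ : F), IsU φ g₀ ∧ c₁ ≠ 0 ∧ c₂ ≠ 0 ∧
      g₀ *ᵥ (σ ∘ e) = c₁ • e ∧ g₀ *ᵥ (σ ∘ f) = c₂ • f ∧
      ∀ x ∈ Qg φ e, smat φ (b x) * g₀ = g₀ * (smat φ x).map σ := by
  obtain ⟨σ, hσ⟩ := hb.exists_ringEquiv H he hf hef hfe
  obtain ⟨k, hk0, hkφ, hform, hψ⟩ := hb.form H he hf hef hfe σ hσ (hcomm σ)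
  obtain ⟨c₁, hc0, hc₁⟩ := H.hN1 k hk0 hkφ
  have hφc0 : φ c₁ ≠ 0 := (map_ne_zero φ).2 hc0
  refine ⟨σ, tauMat φ e f b σ c₁, c₁, (φ c₁)⁻¹,
    hb.isU_tauMat H he hf hef hfe σ hσ (hcomm σ) hk0 hkφ hform hψ hc₁, hc0, inv_ne_zero hφc0,
    ?_, ?_, ?_⟩
  · rw [hb.tauMat_mulVec H he hf hef hfe σ hσ (hcomm σ) hk0 hkφ hform hψ hc₁,
      hb.tauMap_e H he hf hef hfe σ hσ (hcomm σ) hk0 hkφ hform hψ hc₁]
  · rw [hb.tauMat_mulVec H he hf hef hfe σ hσ (hcomm σ) hk0 hkφ hform hψ hc₁,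
      hb.tauMap_f H he hf hef hfe σ hσ (hcomm σ) hk0 hkφ hform hψ hc₁]
  · intro x hx
    exact hb.tauMat_intertwine H he hf hef hfe σ hσ (hcomm σ) hk0 hkφ hform hψ hc₁ hx

end core

end Cfsg.Agent.Helper2.PU
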