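import Mathlib
import Cfsg.Agent.Lib.Helper2.Psu7

set_option autoImplicit false
set_option linter.unusedSimpArgs false
set_option linter.unusedVariables false
set_option linter.unusedSectionVars false

/-! Automorphisms of the projective special unitary groups, part 8: the centre, elements of
prime power order, and the action of `Qg e` on the points opposite to `e`. -/

namespace Cfsg.Agent.Helper2.PU

open Matrix Cfsg.Agent.Helper11 Cfsg.Agent.Helper11.Herm

section centre

variable {F : Type*} [Field F] {ι : Type*} [Fintype ι] [DecidableEq ι] {φ : F →+* F}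

theorem ne_zero_of_hdot_eq_one {x y : ι → F} (h : hdot φ x y = 1) : x ≠ 0 := by
  rintro rfl
  rw [hdot_zero_left] at h
  exact zero_ne_one h

theorem ne_zero_of_hdot_eq_one' {x y : ι → F} (h : hdot φ x y = 1) : y ≠ 0 := by
  rintro rfl
  rw [hdot_zero_right] at h
  exact zero_ne_one h

/-- central elements are scalars -/
theorem center_scalar (H : Hyp φ ι) {e f : ι → F} (he : hdot φ e e = 0) (hf : hdot φ f f = 0)
    (hef : hdot φ e f = 1) (hfe : hdot φ f e = 1) {z : SUg ι φ}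
    (hz : z ∈ Subgroup.center (SUg ι φ)) : ∃ l : F, l ≠ 0 ∧ ∀ x : ι → F, z • x = l • x := by
  have hφφ := H.hφφ
  have he0 : e ≠ 0 := ne_zero_of_hdot_eq_one hef
  have hf0 : f ≠ 0 := ne_zero_of_hdot_eq_one hfe
  rw [Subgroup.mem_center_iff] at hz
  have hcomm : ∀ g : SUg ι φ, smat φ z * smat φ g = smat φ g * smat φ z := by
    intro g
    rw [← smat_mul, ← smat_mul, hz g]
  obtain ⟨l, c, hl, hc, hM⟩ := centralizer_Qg H he0 he (smat_isU φ z) (fun g _ => hcomm g)
  obtain ⟨l', c', hl', hc', hM'⟩ := centralizer_Qg H hf0 hf (smat_isU φ z) (fun g _ => hcomm g)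
  have hl'0 : l' ≠ 0 := by
    rintro rfl
    rw [zero_mul] at hl'
    exact zero_ne_one hl'
  have h1 : z • e = l • e := by
    rw [sug_smul_def, hM, Matrix.smul_mulVec, tv_mulVec, he, mul_zero, zero_smul, add_zero]
  have h2 : z • e = l' • (e + c' • f) := by
    rw [sug_smul_def, hM', Matrix.smul_mulVec, tv_mulVec, hef, mul_one]
  have h3 : l' * c' = 0 := by
    have := congrArg (fun x => hdot φ x e) (h1.symm.trans h2)
    simp only [hdot_smul_left, hdot_add_left, he, hfe, mul_zero, zero_add, mul_one] at this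
    exact this.symm
  have hc'0 : c' = 0 := by
    rcases mul_eq_zero.1 h3 with h | h
    · exact absurd h hl'0
    · exact h
  refine ⟨l', hl'0, ?_⟩
  intro x
  rw [sug_smul_def, hM', Matrix.smul_mulVec, tv_mulVec, hc'0, zero_mul, zero_smul, add_zero]

theorem pow_smul_of_scalar {z : SUg ι φ} {l : F} (h : ∀ x : ι → F, z • x = l • x) (m : ℕ)
    (x : ι → F) : (z ^ m) • x = l ^ m • x := by
  induction m with
  | zero => rw [pow_zero, pow_zero, one_smul, one_smul]
  | succ k ih => rw [pow_succ, pow_succ, mul_smul, h, sug_smul_smul, ih, smul_smul, mul_comm]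

/-- a central element of `p`-power order is trivial -/
theorem eq_one_of_center_pow (H : Hyp φ ι) (p : ℕ) [Fact p.Prime] [CharP F p] {e f : ι → F}
    (he : hdot φ e e = 0) (hf : hdot φ f f = 0)
    (hef : hdot φ e f = 1) (hfe : hdot φ f e = 1) {z : SUg ι φ}
    (hz : z ∈ Subgroup.center (SUg ι φ)) {k : ℕ} (hk : z ^ (p ^ k) = 1) : z = 1 := by
  obtain ⟨l, hl0, hl⟩ := center_scalar H he hf hef hfe hz
  have he0 : e ≠ 0 := ne_zero_of_hdot_eq_one hef
  have h1 := pow_smul_of_scalar hl (p ^ k) e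
  rw [hk, one_smul] at h1
  have h2 : l ^ (p ^ k) = 1 := by
    have h3 : (l ^ (p ^ k) - 1) • e = 0 := by rw [sub_smul, ← h1, one_smul, sub_self]
    rcases smul_eq_zero.1 h3 with h | h
    · exact sub_eq_zero.1 h
    · exact absurd h he0
  have h4 : (l - 1) ^ (p ^ k) = 0 := by rw [sub_pow_char_pow, one_pow, h2, sub_self]
  have h5 : l = 1 := sub_eq_zero.1 (pow_eq_zero_iff (pow_ne_zero k (Fact.out : p.Prime).ne_zero) |>.1 h4)
  apply sug_ext_smul
  intro x
  rw [hl, h5, one_smul, one_smul]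

/-- two elements of `p`-power order congruent modulo the centre are equal -/
theorem eq_of_pow_of_center (H : Hyp φ ι) (p : ℕ) [Fact p.Prime] [CharP F p] {e f : ι → F}
    (he : hdot φ e e = 0) (hf : hdot φ f f = 0)
    (hef : hdot φ e f = 1) (hfe : hdot φ f e = 1) {x y : SUg ι φ} {a b : ℕ}
    (hx : x ^ (p ^ a) = 1) (hy : y ^ (p ^ b) = 1)
    (hz : x⁻¹ * y ∈ Subgroup.center (SUg ι φ)) : x = y := by
  have hcomm : Commute x⁻¹ y := by
    have h1 := (Subgroup.mem_center_iff.1 hz) x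
    have h2 : y * x = x * y := by
      have := congrArg (fun t => x * t) h1
      simp only [mul_inv_cancel_left] at this
      rw [← mul_assoc, ← mul_assoc, mul_inv_cancel, one_mul] at this
      exact this.symm
    have : Commute x y := h2.symm
    exact this.inv_left
  have h3 : (x⁻¹ * y) ^ (p ^ (a + b)) = 1 := by
    rw [hcomm.mul_pow, inv_pow, pow_add, pow_mul, hx, one_pow, inv_one, one_mul, mul_comm (p ^ a),
      pow_mul, hy, one_pow]
  have h4 := eq_one_of_center_pow H p he hf hef hfe hz h3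
  exact inv_mul_eq_one.1 h4

end centre

section opposite

variable {F : Type*} [Field F] {ι : Type*} [Fintype ι] [DecidableEq ι] {φ : F →+* F}

/-- `Qg e` is transitive on the isotropic vectors `f'` with `h(f', e) = 1` -/
theorem exists_Qg_map (hφφ : ∀ x, φ (φ x) = x) {e f : ι → F} (he : hdot φ e e = 0)
    (hf : hdot φ f f = 0) (hef : hdot φ e f = 1) (hfe : hdot φ f e = 1) {f' : ι → F}
    (hf' : hdot φ f' f' = 0) (hf'e : hdot φ f' e = 1) : ∃ q ∈ Qg φ e, q • f = f' := by
  obtain ⟨w, hw⟩ : ∃ w, w = f' - hdot φ f' f • e - hdot φ f' e • f := ⟨_, rfl⟩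
  obtain ⟨s, hs⟩ : ∃ s, s = hdot φ f' f := ⟨_, rfl⟩
  have hwW : InW φ e f w := by rw [hw]; exact inW_proj he hf hef hfe f'
  have hdec : f' = s • e + (1 : F) • f + w := by
    rw [hw, hs, hf'e]
    abel
  have hP : Par φ e f w s := by
    refine ⟨hwW, ?_⟩
    have h1 := hf'
    rw [hdec, hdot_decomp hφφ he hf hef hfe hwW hwW, map_one, mul_one, one_mul] at h1
    exact h1
  refine ⟨sgG φ e w s, sgG_mem_Qg' hφφ he hP, ?_⟩
  rw [sgG_smul_f hφφ he hfe hP, hdec, one_smul]
  abel

theorem rootGroup_smul_le (g : SUg ι φ) {v : ι → F} (hv : hdot φ v v = 0)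
    {K : Subgroup (SUg ι φ)} (hg : g ∈ K) (h : rootGroup φ v ≤ K) :
    rootGroup φ (g • v) ≤ K := by
  intro x hx
  rw [rootGroup_conj φ g v hv, Subgroup.mem_pointwise_smul_iff_inv_smul_mem, MulAut.smul_def,
    MulAut.conj_inv_apply] at hx
  have h1 := K.mul_mem (K.mul_mem hg (h hx)) (K.inv_mem hg)
  have h2 : g * (g⁻¹ * x * g) * g⁻¹ = x := by group
  rwa [h2] at h1

/-- conjugation moves `Qg` -/
theorem conj_mem_Qg_smul (g : SUg ι φ) {v : ι → F} {q : SUg ι φ} (hq : q ∈ Qg φ v) :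
    g * q * g⁻¹ ∈ Qg φ (g • v) := by
  obtain ⟨hqv, hq'⟩ := hq
  refine ⟨?_, ?_⟩
  · rw [mul_smul, mul_smul, inv_smul_smul, hqv]
  · intro x hx
    have h1 : hdot φ (g⁻¹ • x) v = 0 := by rw [hdot_inv_smul, hx]
    obtain ⟨c, hc⟩ := hq' _ h1
    refine ⟨c, ?_⟩
    rw [mul_smul, mul_smul, hc, sug_smul_add, smul_inv_smul, sug_smul_smul]

theorem Qg_smul_vec (v : ι → F) {c : F} (hc : c ≠ 0) : Qg φ (c • v) = Qg φ v := by
  ext g
  rw [mem_Qg_iff, mem_Qg_iff]
  have h1 : g • (c • v) = c • v ↔ g • v = v := by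
    rw [sug_smul_smul]
    constructor
    · intro h
      exact smul_right_injective _ hc h
    · intro h
      rw [h]
  have h2 : ∀ x, hdot φ x (c • v) = 0 ↔ hdot φ x v = 0 := by
    intro x
    rw [hdot_smul_right]
    constructor
    · intro h
      rcases mul_eq_zero.1 h with h | h
      · exact absurd h ((map_ne_zero φ).2 hc)
      · exact h
    · intro h
      rw [h, mul_zero]
  rw [h1]
  constructor
  · rintro ⟨h3, h4⟩
    refine ⟨h3, fun x hx => ?_⟩
    obtain ⟨d, hd⟩ := h4 x ((h2 x).2 hx)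
    exact ⟨d * c, by rw [hd, smul_smul]⟩
  · rintro ⟨h3, h4⟩
    refine ⟨h3, fun x hx => ?_⟩
    obtain ⟨d, hd⟩ := h4 x ((h2 x).1 hx)
    exact ⟨d * c⁻¹, by rw [hd, smul_smul, inv_mul_cancel_right₀ hc]⟩

/-- transvections with orthogonal centres commute -/
theorem tvG_comm_of_orth (hφφ : ∀ x, φ (φ x) = x) {e v : ι → F} (he : hdot φ e e = 0)
    (hv : hdot φ v v = 0) (hve : hdot φ v e = 0) {a c : F} (ha : a + φ a = 0)
    (hc : c + φ c = 0) : tvG φ e a * tvG φ v c = tvG φ v c * tvG φ e a := by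
  have h1 := conj_tvG φ hφφ (tvG φ e a) hv hc
  rw [tvG_smul φ hφφ he ha, hve, mul_zero, zero_smul, add_zero] at h1
  exact mul_inv_eq_iff_eq_mul.1 h1

/-- the element interchanging the points of `e` and `f` -/
noncomputable def nw (φ : F →+* F) (e f : ι → F) (a b : F) : SUg ι φ :=
  tvG φ e a * tvG φ f b * tvG φ e a

theorem tvG_smul_self (hφφ : ∀ x, φ (φ x) = x) {e : ι → F} (he : hdot φ e e = 0) {a : F}
    (ha : a + φ a = 0) : tvG φ e a • e = e := by
  rw [tvG_smul φ hφφ he ha, he, mul_zero, zero_smul, add_zero]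

theorem nw_smul_e (hφφ : ∀ x, φ (φ x) = x) {e f : ι → F} (he : hdot φ e e = 0)
    (hf : hdot φ f f = 0) (hef : hdot φ e f = 1) (hfe : hdot φ f e = 1) {a b : F}
    (ha : a + φ a = 0) (hb : b + φ b = 0) : nw φ e f a b • e = (1 + a * b) • e + b • f := by
  unfold nw
  have h1 : tvG φ e a • e = e := tvG_smul_self hφφ he ha
  have h2 : tvG φ f b • e = e + b • f := by rw [tvG_smul φ hφφ hf hb, hef, mul_one]
  have h3 : tvG φ e a • f = f + a • e := by rw [tvG_smul φ hφφ he ha, hfe, mul_one]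
  rw [mul_smul, mul_smul, h1, h2, sug_smul_add, sug_smul_smul, h1, h3]
  module

theorem nw_smul_f (hφφ : ∀ x, φ (φ x) = x) {e f : ι → F} (he : hdot φ e e = 0)
    (hf : hdot φ f f = 0) (hef : hdot φ e f = 1) (hfe : hdot φ f e = 1) {a b : F}
    (ha : a + φ a = 0) (hb : b + φ b = 0) (hab : 1 + a * b = 0) : nw φ e f a b • f = a • e := by
  unfold nw
  have h1 : tvG φ e a • e = e := tvG_smul_self hφφ he ha
  have h1' : tvG φ f b • f = f := tvG_smul_self hφφ hf hb
  have h2 : tvG φ f b • e = e + b • f := by rw [tvG_smul φ hφφ hf hb, hef, mul_one]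
  have h3 : tvG φ e a • f = f + a • e := by rw [tvG_smul φ hφφ he ha, hfe, mul_one]
  rw [mul_smul, mul_smul, h3, sug_smul_add, sug_smul_smul, h1', h2, sug_smul_add, h3,
    sug_smul_smul, sug_smul_add, h1, sug_smul_smul, h3]
  have h5 : f + a • e + a • (e + b • (f + a • e)) =
      (1 + a * b) • f + (a + a * (1 + a * b)) • e := by module
  rw [h5, hab, zero_smul, mul_zero, add_zero, zero_add]

/-- transvections in `e` and `f` do not commute modulo the centre -/
theorem tvG_not_comm (H : Hyp φ ι) {e f : ι → F} (he : hdot φ e e = 0)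
    (hf : hdot φ f f = 0) (hef : hdot φ e f = 1) (hfe : hdot φ f e = 1) {a b : F}
    (ha : a + φ a = 0) (hb : b + φ b = 0) (ha0 : a ≠ 0) (hb0 : b ≠ 0) {z : SUg ι φ}
    (hz : z ∈ Subgroup.center (SUg ι φ))
    (h : tvG φ e a * tvG φ f b = tvG φ f b * tvG φ e a * z) : False := by
  have hφφ := H.hφφ
  obtain ⟨l, hl0, hl⟩ := center_scalar H he hf hef hfe hz
  have h1 := congrArg (fun g : SUg ι φ => g • e) h
  simp only [mul_smul] at h1
  rw [hl, sug_smul_smul, sug_smul_smul, tvG_smul φ hφφ hf hb, hef, mul_one,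
    tvG_smul φ hφφ he ha, tvG_smul φ hφφ he ha, he, mul_zero, zero_smul, add_zero,
    tvG_smul φ hφφ hf hb, hef, mul_one] at h1
  simp only [hdot_add_left, hdot_smul_left, he, hfe, mul_zero, zero_add, mul_one] at h1
  have h2 := congrArg (fun x => hdot φ x e) h1
  have h3 := congrArg (fun x => hdot φ x f) h1
  simp only [hdot_add_left, hdot_smul_left, he, hf, hef, hfe, mul_zero, zero_add, mul_one,
    add_zero] at h2 h3
  have hl1 : l = 1 := by
    have : b * (l - 1) = 0 := by linear_combination -h2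
    rcases mul_eq_zero.1 this with h4 | h4
    · exact absurd h4 hb0
    · exact sub_eq_zero.1 h4
  rw [hl1] at h3
  have : a * b = 0 := by linear_combination h3
  rcases mul_eq_zero.1 this with h4 | h4
  · exact ha0 h4
  · exact hb0 h4

end opposite

section generation

variable {F : Type*} [Field F] {ι : Type*} [Fintype ι] [DecidableEq ι] {φ : F →+* F}

theorem exists_hdot_ne_zero (hφφ : ∀ x, φ (φ x) = x) {v : ι → F} (hv0 : v ≠ 0) :
    ∃ y : ι → F, hdot φ y v ≠ 0 := by
  by_contra h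
  push Not at h
  exact hv0 (eq_zero_of_hdot_right φ v (fun y => hdot_eq_zero_symm φ hφφ _ _ (h y)))

/-- a transvection determines its point -/
theorem smul_of_tvG_mem_rootGroup (hφφ : ∀ x, φ (φ x) = x) {v v' : ι → F}
    (hv : hdot φ v v = 0) (hv' : hdot φ v' v' = 0) (hv0 : v ≠ 0) {a : F} (ha : a + φ a = 0)
    (ha0 : a ≠ 0) (h : tvG φ v a ∈ rootGroup φ v') : ∃ c : F, v = c • v' := by
  obtain ⟨a', ha', heq⟩ := exists_tvG_of_mem_rootGroup φ hφφ hv' h
  obtain ⟨y, hy⟩ := exists_hdot_ne_zero hφφ hv0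
  have h1 : tvG φ v a • y = tvG φ v' a' • y := by rw [heq]
  rw [tvG_smul φ hφφ hv ha, tvG_smul φ hφφ hv' ha', add_right_inj] at h1
  refine ⟨(a * hdot φ y v)⁻¹ * (a' * hdot φ y v'), ?_⟩
  rw [← smul_smul, ← h1, smul_smul, inv_mul_cancel₀ (mul_ne_zero ha0 hy), one_smul]

/-- `Qg e` and the root group of `f` generate the group -/
theorem eq_top_of_Qg_rootGroup (H : Hyp φ ι) [Finite F] {e f : ι → F} (he : hdot φ e e = 0)
    (hf : hdot φ f f = 0) (hef : hdot φ e f = 1) (hfe : hdot φ f e = 1)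
    {K : Subgroup (SUg ι φ)} (h1 : Qg φ e ≤ K) (h2 : rootGroup φ f ≤ K) : K = ⊤ := by
  have hφφ := H.hφφ
  obtain ⟨b, hb0, hb⟩ := H.exists_trace_zero
  obtain ⟨a, haeq⟩ : ∃ a, a = -b⁻¹ := ⟨_, rfl⟩
  have hφb : φ b = -b := by linear_combination hb
  have ha : a + φ a = 0 := by
    rw [haeq, map_neg, map_inv₀, hφb, inv_neg]
    ring
  have hab : 1 + a * b = 0 := by
    rw [haeq, neg_mul, inv_mul_cancel₀ hb0]
    ring
  have hn : nw φ e f a b ∈ K := by
    unfold nw
    exact K.mul_mem (K.mul_mem (h1 (tvG_mem_Qg φ hφφ he ha)) (h2 (tvG_mem_rootGroup φ hφφ hf hb)))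
      (h1 (tvG_mem_Qg φ hφφ he ha))
  have hne : nw φ e f a b • e = b • f := by
    rw [nw_smul_e hφφ he hf hef hfe ha hb, hab, zero_smul, zero_add]
  have hnf : (nw φ e f a b)⁻¹ • f = b⁻¹ • e := by
    rw [inv_smul_eq_iff, sug_smul_smul, hne, smul_smul, inv_mul_cancel₀ hb0, one_smul]
  have h3 : Qg φ f ≤ K := by
    intro q hq
    have h4 := conj_mem_Qg_smul (nw φ e f a b)⁻¹ hq
    rw [hnf, Qg_smul_vec e (inv_ne_zero hb0), inv_inv] at h4
    have h5 := K.mul_mem (K.mul_mem hn (h1 h4)) (K.inv_mem hn)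
    have h6 : nw φ e f a b * ((nw φ e f a b)⁻¹ * q * nw φ e f a b) * (nw φ e f a b)⁻¹ = q := by
      group
    rwa [h6] at h5
  have h4 : rootGroup φ e ≤ K := (rootGroup_le_Qg φ hφφ he).trans h1
  -- points not orthogonal to e
  have hA : ∀ v : ι → F, hdot φ v v = 0 → hdot φ v e ≠ 0 → rootGroup φ v ≤ K := by
    intro v hv hve
    obtain ⟨v', hv'⟩ : ∃ v', v' = (hdot φ v e)⁻¹ • v := ⟨_, rfl⟩
    have hv'v' : hdot φ v' v' = 0 := by
      rw [hv', hdot_smul_left, hdot_smul_right, hv, mul_zero, mul_zero]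
    have hv'e : hdot φ v' e = 1 := by rw [hv', hdot_smul_left, inv_mul_cancel₀ hve]
    obtain ⟨q, hq, hqf⟩ := exists_Qg_map hφφ he hf hef hfe hv'v' hv'e
    have h5 := rootGroup_smul_le q hf (h1 hq) h2
    rw [hqf] at h5
    have h6 : v = hdot φ v e • v' := by rw [hv', smul_smul, mul_inv_cancel₀ hve, one_smul]
    rw [h6, rootGroup_smul_vec φ hφφ v' hv'v' hve]
    exact h5
  have hB : ∀ v : ι → F, hdot φ v v = 0 → hdot φ v f ≠ 0 → rootGroup φ v ≤ K := by
    intro v hv hvf
    obtain ⟨v', hv'⟩ : ∃ v', v' = (hdot φ v f)⁻¹ • v := ⟨_, rfl⟩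
    have hv'v' : hdot φ v' v' = 0 := by
      rw [hv', hdot_smul_left, hdot_smul_right, hv, mul_zero, mul_zero]
    have hv'f : hdot φ v' f = 1 := by rw [hv', hdot_smul_left, inv_mul_cancel₀ hvf]
    obtain ⟨q, hq, hqe⟩ := exists_Qg_map hφφ hf he hfe hef hv'v' hv'f
    have h5 := rootGroup_smul_le q he (h3 hq) h4
    rw [hqe] at h5
    have h6 : v = hdot φ v f • v' := by rw [hv', smul_smul, mul_inv_cancel₀ hvf, one_smul]
    rw [h6, rootGroup_smul_vec φ hφφ v' hv'v' hvf]
    exact h5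
  have hC : ∀ v : ι → F, hdot φ v v = 0 → rootGroup φ v ≤ K := by
    intro v hv
    by_cases hve : hdot φ v e = 0
    · by_cases hvf : hdot φ v f = 0
      · by_cases hv0 : v = 0
        · intro g hg
          rw [mem_rootGroup φ hv] at hg
          obtain ⟨c, hc, hg⟩ := hg
          have : g = 1 := by
            apply sug_ext_smul
            intro x
            rw [sug_smul_def, hg, tv_mulVec, hv0, smul_zero, add_zero, one_smul]
          rw [this]
          exact K.one_mem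
        · obtain ⟨u2, hu2W, hu2, hvu2, hu2v⟩ :=
            exists_partner_inW H he hf hef hfe hv0 hv ⟨hve, hvf⟩
          have hs0 : (0 : F) + φ 0 + hdot φ u2 u2 = 0 := by rw [map_zero, hu2, add_zero, add_zero]
          obtain ⟨q, hq⟩ : ∃ q, q = sgG φ f u2 0 := ⟨_, rfl⟩
          have hqQ : q ∈ Qg φ f := by rw [hq]; exact sgG_mem_Qg φ hφφ hf hu2W.2 hs0
          have hqv : q • v = v - f := by
            rw [hq, sgG_smul φ hφφ hf hu2W.2 hs0, hvf, hvu2, zero_smul, mul_zero, zero_sub,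
              add_zero, neg_smul, one_smul, sub_eq_add_neg]
          have h5 : hdot φ (q • v) (q • v) = 0 := by rw [sug_hdot_smul, hv]
          have h6 : hdot φ (q • v) e ≠ 0 := by
            rw [hqv, hdot_sub_left, hve, hfe, zero_sub]
            exact neg_ne_zero.2 one_ne_zero
          have h7 := rootGroup_smul_le q⁻¹ h5 (K.inv_mem (h3 hqQ)) (hA _ h5 h6)
          rwa [inv_smul_smul] at h7
      · exact hB v hv hvf
    · exact hA v hv hve
  apply eq_top_of_forall_tv_mem φ hφφ H.hgen K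
  intro v c hv hc
  apply hC v hv
  rw [mem_rootGroup φ hv]
  exact ⟨c, hc, rfl⟩

end generation

end Cfsg.Agent.Helper2.PU
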