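import Mathlib
import Cfsg.Agent.Lib.Helper2.Psu8
import Cfsg.Agent.Lib.Helper5.GreenAux

set_option autoImplicit false
set_option linter.unusedSimpArgs false
set_option linter.unusedVariables false
set_option linter.unusedSectionVars false

/-! Automorphisms of the projective special unitary groups, part 9: `p`-subgroups containing
`Qg e`, and the normal `p`-subgroups of the point stabiliser. -/

namespace Cfsg.Agent.Helper2.PU

open Matrix Cfsg.Agent.Helper11 Cfsg.Agent.Helper11.Herm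

section rep

variable {F : Type*} [Field F] {ι : Type*} [Fintype ι] [DecidableEq ι] {φ : F →+* F}

/-- the natural representation of a subgroup -/
noncomputable def rhoRep (φ : F →+* F) (P : Subgroup (SUg ι φ)) :
    ↥P →* ((ι → F) →ₗ[F] (ι → F)) where
  toFun g := Matrix.toLin' (smat φ (g : SUg ι φ))
  map_one' := by
    rw [Subgroup.coe_one, smat_one, Matrix.toLin'_one]
    rfl
  map_mul' := by
    intro a b
    rw [Subgroup.coe_mul, smat_mul, Matrix.toLin'_mul]
    rfl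

theorem rhoRep_apply (P : Subgroup (SUg ι φ)) (g : ↥P) (w : ι → F) :
    rhoRep φ P g w = (g : SUg ι φ) • w := by
  unfold rhoRep
  simp only [MonoidHom.coe_mk, OneHom.coe_mk, Matrix.toLin'_apply]
  rfl

/-- the subspace `W` -/
def Wsub (φ : F →+* F) (e f : ι → F) : Submodule F (ι → F) where
  carrier := {w | InW φ e f w}
  add_mem' := fun ha hb => ha.add hb
  zero_mem' := InW.zero
  smul_mem' := fun c _ hw => hw.smul c

theorem mem_Wsub (e f w : ι → F) : w ∈ Wsub φ e f ↔ InW φ e f w := Iff.rfl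

theorem pow_smul_eigen {g : SUg ι φ} {c : F} {x : ι → F} (h : g • x = c • x) (m : ℕ) :
    (g ^ m) • x = c ^ m • x := by
  induction m with
  | zero => rw [pow_zero, pow_zero, one_smul, one_smul]
  | succ k ih => rw [pow_succ, pow_succ, mul_smul, h, sug_smul_smul, ih, smul_smul, mul_comm]

/-- an element of `p`-power order fixes its eigenvectors -/
theorem smul_eq_of_pow (p : ℕ) [Fact p.Prime] [CharP F p] {g : SUg ι φ} {c : F} {x : ι → F}
    (hx0 : x ≠ 0) (h : g • x = c • x) {k : ℕ} (hk : g ^ (p ^ k) = 1) : g • x = x := by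
  have h1 := pow_smul_eigen h (p ^ k)
  rw [hk, one_smul] at h1
  have h2 : c ^ (p ^ k) = 1 := by
    have h3 : (c ^ (p ^ k) - 1) • x = 0 := by rw [sub_smul, ← h1, one_smul, sub_self]
    rcases smul_eq_zero.1 h3 with h | h
    · exact sub_eq_zero.1 h
    · exact absurd h hx0
  have h4 : (c - 1) ^ (p ^ k) = 0 := by rw [sub_pow_char_pow, one_pow, h2, sub_self]
  have h5 : c = 1 :=
    sub_eq_zero.1 (pow_eq_zero_iff (pow_ne_zero k (Fact.out : p.Prime).ne_zero) |>.1 h4)
  rw [h, h5, one_smul]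

end rep

section sylow

variable {F : Type*} [Field F] [Finite F] {ι : Type*} [Fintype ι] [DecidableEq ι] {φ : F →+* F}

/-- a `p`-subgroup containing `Qg e` fixes `e` -/
theorem smul_eq_of_pgroup (H : Hyp φ ι) (p : ℕ) [Fact p.Prime] [CharP F p] {e : ι → F}
    (he0 : e ≠ 0) (he : hdot φ e e = 0) {P : Subgroup (SUg ι φ)} (hP : IsPGroup p P)
    (hQP : Qg φ e ≤ P) {g : SUg ι φ} (hg : g ∈ P) : g • e = e := by
  have hp : ((p : ℕ) : F) = 0 := CharP.cast_eq_zero F p
  obtain ⟨w, hw0, hw⟩ :=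
    Cfsg.Agent.Helper5.Green.exists_fixed_vector hp hP (rhoRep φ P) ⟨e, he0⟩
  have hw' : ∀ g ∈ P, g • w = w := by
    intro g hg
    have := hw ⟨g, hg⟩
    rwa [rhoRep_apply] at this
  obtain ⟨c, hc⟩ := eq_smul_of_fixed H he0 he (fun g hg => hw' g (hQP hg))
  have hc0 : c ≠ 0 := by
    rintro rfl
    rw [zero_smul] at hc
    exact hw0 hc
  have h1 := hw' g hg
  rw [hc, sug_smul_smul] at h1
  exact smul_right_injective _ hc0 h1

/-- the centre of a `p`-subgroup containing `Qg e` lies in the root group -/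
theorem mem_rootGroup_of_central (H : Hyp φ ι) (p : ℕ) [Fact p.Prime] [CharP F p] {e : ι → F}
    (he0 : e ≠ 0) (he : hdot φ e e = 0) {P : Subgroup (SUg ι φ)} (hP : IsPGroup p P)
    (hQP : Qg φ e ≤ P) {z : SUg ι φ} (hz : z ∈ P) (hzc : ∀ g ∈ P, g * z = z * g) :
    z ∈ rootGroup φ e := by
  have hcomm : ∀ g ∈ Qg φ e, smat φ z * smat φ g = smat φ g * smat φ z := by
    intro g hg
    rw [← smat_mul, ← smat_mul, hzc g (hQP hg)]
  obtain ⟨l, c, hl, hc, hM⟩ := centralizer_Qg H he0 he (smat_isU φ z) hcomm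
  have h1 := smul_eq_of_pgroup H p he0 he hP hQP hz
  rw [sug_smul_def, hM, Matrix.smul_mulVec, tv_mulVec, he, mul_zero, zero_smul, add_zero] at h1
  have hl1 : l = 1 := by
    have h2 : (l - 1) • e = 0 := by rw [sub_smul, h1, one_smul, sub_self]
    rcases smul_eq_zero.1 h2 with h | h
    · exact sub_eq_zero.1 h
    · exact absurd h he0
  rw [mem_rootGroup φ he]
  exact ⟨c, hc, by rw [hM, hl1, one_smul]⟩

/-- the root group is central in a `p`-subgroup containing `Qg e` -/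
theorem central_of_mem_rootGroup (H : Hyp φ ι) (p : ℕ) [Fact p.Prime] [CharP F p] {e : ι → F}
    (he0 : e ≠ 0) (he : hdot φ e e = 0) {P : Subgroup (SUg ι φ)} (hP : IsPGroup p P)
    (hQP : Qg φ e ≤ P) {z : SUg ι φ} (hz : z ∈ rootGroup φ e) {g : SUg ι φ} (hg : g ∈ P) :
    g * z = z * g := by
  obtain ⟨c, hc, rfl⟩ := exists_tvG_of_mem_rootGroup φ H.hφφ he hz
  have h1 := conj_tvG φ H.hφφ g he hc
  rw [smul_eq_of_pgroup H p he0 he hP hQP hg] at h1
  exact mul_inv_eq_iff_eq_mul.1 h1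

end sylow

section opcore

variable {F : Type*} [Field F] [Finite F] {ι : Type*} [Fintype ι] [DecidableEq ι] {φ : F →+* F}

/-- the point stabiliser is the product of `Qg e` and the Levi subgroup -/
theorem exists_mul_of_mem_Pst (hφφ : ∀ x, φ (φ x) = x) {e f : ι → F} (he : hdot φ e e = 0)
    (hf : hdot φ f f = 0) (hef : hdot φ e f = 1) (hfe : hdot φ f e = 1) {g : SUg ι φ}
    (hg : g ∈ Pst φ e) : ∃ q ∈ Qg φ e, ∃ l ∈ Lv φ e f, g = q * l := by
  obtain ⟨c, hc0, hge⟩ := hg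
  have hφc0 : φ c ≠ 0 := (map_ne_zero φ).2 hc0
  obtain ⟨f', hf'⟩ : ∃ f', f' = φ c • (g • f) := ⟨_, rfl⟩
  have h1 : hdot φ (g • f) e = (φ c)⁻¹ := by
    have := sug_hdot_smul φ g f e
    rw [hge, hdot_smul_right, hfe] at this
    field_simp
    rw [mul_comm]
    exact this
  have hf'f' : hdot φ f' f' = 0 := by
    rw [hf', hdot_smul_left, hdot_smul_right, sug_hdot_smul, hf, mul_zero, mul_zero]
  have hf'e : hdot φ f' e = 1 := by rw [hf', hdot_smul_left, h1, mul_inv_cancel₀ hφc0]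
  obtain ⟨q, hq, hqf⟩ := exists_Qg_map hφφ he hf hef hfe hf'f' hf'e
  have hqe : q⁻¹ • e = e := by rw [inv_smul_eq_iff, hq.1]
  refine ⟨q, hq, q⁻¹ * g, ⟨⟨c, hc0, ?_⟩, ⟨(φ c)⁻¹, inv_ne_zero hφc0, ?_⟩⟩, by group⟩
  · rw [mul_smul, hge, sug_smul_smul, hqe]
  · rw [mul_smul, inv_smul_eq_iff, sug_smul_smul, hqf, hf', smul_smul, inv_mul_cancel₀ hφc0,
      one_smul]

/-- irreducibility of `W` under the transvections of the Levi subgroup, in dimension at least
four -/
theorem irr_four (H : Hyp φ ι) (h4 : 4 ≤ Fintype.card ι) {e f : ι → F}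
    (he : hdot φ e e = 0) (hf : hdot φ f f = 0) (hef : hdot φ e f = 1) (hfe : hdot φ f e = 1)
    (S : Submodule F (ι → F))
    (hS : ∀ (u : ι → F) (a : F), InW φ e f u → hdot φ u u = 0 → a + φ a = 0 →
      ∀ x ∈ S, tvG φ u a • x ∈ S)
    {x₀ : ι → F} (hx₀S : x₀ ∈ S) (hx₀W : InW φ e f x₀) (hx₀ : x₀ ≠ 0) {w : ι → F}
    (hw : InW φ e f w) : w ∈ S := by
  have hφφ := H.hφφ
  obtain ⟨a, ha0, ha⟩ := H.exists_trace_zero
  -- the basic step
  have step : ∀ x u : ι → F, x ∈ S → InW φ e f u → hdot φ u u = 0 → hdot φ x u ≠ 0 → u ∈ S := by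
    intro x u hx huW hu hxu
    have h1 := S.sub_mem (hS u a huW hu ha x hx) hx
    rw [tvG_smul φ hφφ hu ha, add_sub_cancel_left] at h1
    have h2 := S.smul_mem (a * hdot φ x u)⁻¹ h1
    rwa [smul_smul, inv_mul_cancel₀ (mul_ne_zero ha0 hxu), one_smul] at h2
  -- an isotropic vector of W in S
  obtain ⟨u, huS, huW, hu, hu0⟩ : ∃ u, u ∈ S ∧ InW φ e f u ∧ hdot φ u u = 0 ∧ u ≠ 0 := by
    by_cases hxx : hdot φ x₀ x₀ = 0
    · exact ⟨x₀, hx₀S, hx₀W, hxx, hx₀⟩
    · obtain ⟨v, u', hvW, hu'W, hvv, hu'u', hdec⟩ := exists_iso_decomp H h4 he hf hef hfe hx₀W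
      by_cases h1 : hdot φ x₀ v = 0
      · have h2 : hdot φ x₀ u' ≠ 0 := by
          intro h2
          apply hxx
          conv_lhs => rw [hdec, hdot_add_right, ← hdec, h1, h2, add_zero]
        refine ⟨u', step x₀ u' hx₀S hu'W hu'u' h2, hu'W, hu'u', ?_⟩
        rintro rfl
        rw [hdot_zero_right] at h2
        exact h2 rfl
      · refine ⟨v, step x₀ v hx₀S hvW hvv h1, hvW, hvv, ?_⟩
        rintro rfl
        rw [hdot_zero_right] at h1
        exact h1 rfl
  obtain ⟨u2, hu2W, hu2, huu2, hu2u⟩ := exists_partner_inW H he hf hef hfe hu0 hu huW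
  have hu2S : u2 ∈ S := step u u2 huS hu2W hu2 (by rw [huu2]; exact one_ne_zero)
  -- all isotropic vectors of W
  have hiso : ∀ u' : ι → F, InW φ e f u' → hdot φ u' u' = 0 → u' ∈ S := by
    intro u' hu'W hu'
    by_cases h1 : hdot φ u u' = 0
    · by_cases h2 : hdot φ u2 u' = 0
      · have h2' : hdot φ u' u2 = 0 := hdot_eq_zero_symm φ hφφ _ _ h2
        have hvv : hdot φ (u2 + u') (u2 + u') = 0 := by
          simp only [hdot_add_left, hdot_add_right, hu2, hu', h2, h2', add_zero]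
        have huv : hdot φ u (u2 + u') ≠ 0 := by
          rw [hdot_add_right, huu2, h1, add_zero]
          exact one_ne_zero
        have h3 := step u (u2 + u') huS (hu2W.add hu'W) hvv huv
        have h4 := S.sub_mem h3 hu2S
        rwa [add_sub_cancel_left] at h4
      · exact step u2 u' hu2S hu'W hu' h2
    · exact step u u' huS hu'W hu' h1
  obtain ⟨v, u', hvW, hu'W, hvv, hu'u', hdec⟩ := exists_iso_decomp H h4 he hf hef hfe hw
  rw [hdec]
  exact S.add_mem (hiso v hvW hvv) (hiso u' hu'W hu'u')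

/-- the fixed space of a subgroup -/
def fixSub (φ : F →+* F) (N : Subgroup (SUg ι φ)) : Submodule F (ι → F) where
  carrier := {x | ∀ n ∈ N, n • x = x}
  add_mem' := by
    intro a b ha hb n hn
    rw [sug_smul_add, ha n hn, hb n hn]
  zero_mem' := fun n _ => sug_smul_zero φ n
  smul_mem' := by
    intro c x hx n hn
    rw [sug_smul_smul, hx n hn]

theorem mem_fixSub (N : Subgroup (SUg ι φ)) (x : ι → F) :
    x ∈ fixSub φ N ↔ ∀ n ∈ N, n • x = x := Iff.rfl

/-- the Levi subgroup has no nontrivial normal `p`-subgroup -/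
theorem eq_one_of_normal_pgroup_Lv (H : Hyp φ ι) (p : ℕ) [Fact p.Prime] [CharP F p]
    {e f : ι → F} (he : hdot φ e e = 0) (hf : hdot φ f f = 0) (hef : hdot φ e f = 1)
    (hfe : hdot φ f e = 1) {N : Subgroup (SUg ι φ)} (hN : IsPGroup p N)
    (hNL : N ≤ Lv φ e f) (hnorm : ∀ l ∈ Lv φ e f, ∀ n ∈ N, l * n * l⁻¹ ∈ N)
    {n : SUg ι φ} (hn : n ∈ N) : n = 1 := by
  have hφφ := H.hφφ
  have he0 : e ≠ 0 := ne_zero_of_hdot_eq_one hef
  have hf0 : f ≠ 0 := ne_zero_of_hdot_eq_one hfe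
  have hp : ((p : ℕ) : F) = 0 := CharP.cast_eq_zero F p
  have hpow : ∀ m ∈ N, ∃ k : ℕ, m ^ (p ^ k) = 1 := by
    intro m hm
    obtain ⟨k, hk⟩ := hN ⟨m, hm⟩
    refine ⟨k, ?_⟩
    have := congrArg Subtype.val hk
    rwa [Subgroup.coe_pow, Subgroup.coe_one] at this
  have hfixe : ∀ m ∈ N, m • e = e := by
    intro m hm
    obtain ⟨k, hk⟩ := hpow m hm
    obtain ⟨c, -, hc⟩ := (hNL hm).1
    exact smul_eq_of_pow p he0 hc hk
  have hfixf : ∀ m ∈ N, m • f = f := by
    intro m hm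
    obtain ⟨k, hk⟩ := hpow m hm
    obtain ⟨c, -, hc⟩ := (hNL hm).2
    exact smul_eq_of_pow p hf0 hc hk
  obtain ⟨d, hdW, hdd, hd0⟩ := exists_inW_ne_zero H he hf hef
  obtain ⟨w₁, hw₁W, hw₁0, hw₁⟩ :=
    Cfsg.Agent.Helper5.Green.exists_fixed_vector_mem hp hN (rhoRep φ N) (Wsub φ e f)
      (by
        intro r w hw
        rw [rhoRep_apply]
        exact inW_smul_of_mem_Lv (hNL r.2) hw)
      ⟨d, hdW, hd0⟩
  have hw₁S : w₁ ∈ fixSub φ N := by
    intro m hm
    have := hw₁ ⟨m, hm⟩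
    rwa [rhoRep_apply] at this
  have hS : ∀ (u : ι → F) (a : F), InW φ e f u → hdot φ u u = 0 → a + φ a = 0 →
      ∀ x ∈ fixSub φ N, tvG φ u a • x ∈ fixSub φ N := by
    intro u a huW hu ha x hx m hm
    have hl := tvG_mem_Lv hφφ huW hu ha
    have h1 := hnorm _ (Subgroup.inv_mem _ hl) m hm
    rw [inv_inv] at h1
    have h2 := hx _ h1
    rw [mul_smul, mul_smul, inv_smul_eq_iff] at h2
    exact h2
  have hall : ∀ w, InW φ e f w → w ∈ fixSub φ N := by
    intro w hw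
    by_cases h3 : Fintype.card ι = 3
    · have e1 := eq_smul_of_inW_three H h3 he hf hef hfe hdd hdW hw₁W
      have e2 := eq_smul_of_inW_three H h3 he hf hef hfe hdd hdW hw
      have hc0 : hdot φ w₁ d ≠ 0 := by
        intro h
        rw [h, zero_smul] at e1
        exact hw₁0 e1
      have hdS : d ∈ fixSub φ N := by
        have := (fixSub φ N).smul_mem (hdot φ w₁ d)⁻¹ hw₁S
        rw [e1, smul_smul, hdot_smul_left, hdd, mul_one, inv_mul_cancel₀ hc0, one_smul] at this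
        exact this
      rw [e2]
      exact (fixSub φ N).smul_mem _ hdS
    · have h4 : 4 ≤ Fintype.card ι := by
        have := H.hcard
        omega
      exact irr_four H h4 he hf hef hfe (fixSub φ N) hS hw₁S hw₁W hw₁0 hw
  apply sug_ext_smul
  intro x
  rw [one_smul]
  conv_lhs => rw [eq_decomp (φ := φ) e f x]
  rw [sug_smul_add, sug_smul_add, sug_smul_smul, sug_smul_smul, hfixe n hn, hfixf n hn,
    hall _ (inW_proj he hf hef hfe x) n hn]
  exact (eq_decomp (φ := φ) e f x).symm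

/-- a normal `p`-subgroup of the point stabiliser lies in `Qg e` -/
theorem le_Qg_of_normal_pgroup (H : Hyp φ ι) (p : ℕ) [Fact p.Prime] [CharP F p]
    {e f : ι → F} (he : hdot φ e e = 0) (hf : hdot φ f f = 0) (hef : hdot φ e f = 1)
    (hfe : hdot φ f e = 1) {N : Subgroup (SUg ι φ)} (hN : IsPGroup p N)
    (hNP : N ≤ Pst φ e) (hnorm : ∀ g ∈ Pst φ e, ∀ n ∈ N, g * n * g⁻¹ ∈ N) :
    N ≤ Qg φ e := by
  have hφφ := H.hφφ
  have : Nonempty ι := by
    rw [← Fintype.card_pos_iff]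
    have := H.hcard
    omega
  have hQnorm : Pst φ e ≤ Subgroup.normalizer (Qg φ e : Set (SUg ι φ)) := by
    intro g hg
    rw [Subgroup.mem_normalizer_iff]
    intro h
    constructor
    · intro hh
      exact conj_mem_Qg φ hg hh
    · intro hh
      have := conj_mem_Qg φ (Subgroup.inv_mem _ hg) hh
      rw [inv_inv] at this
      have e1 : g⁻¹ * (g * h * g⁻¹) * g = h := by group
      rwa [e1] at this
  have hN₁ : IsPGroup p (N ⊔ Qg φ e : Subgroup (SUg ι φ)) :=
    IsPGroup.to_sup_of_normal_right' hN (isPGroup_Qg φ p e) (hNP.trans hQnorm)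
  have hN₁norm : ∀ g ∈ Pst φ e, ∀ x ∈ (N ⊔ Qg φ e : Subgroup (SUg ι φ)),
      g * x * g⁻¹ ∈ (N ⊔ Qg φ e : Subgroup (SUg ι φ)) := by
    intro g hg x hx
    have h1 : (N ⊔ Qg φ e : Subgroup (SUg ι φ)).map (MulAut.conj g).toMonoidHom ≤ N ⊔ Qg φ e := by
      rw [Subgroup.map_sup]
      apply sup_le_sup
      · rw [Subgroup.map_le_iff_le_comap]
        intro y hy
        exact hnorm g hg y hy
      · rw [Subgroup.map_le_iff_le_comap]
        intro y hy
        exact conj_mem_Qg φ hg hy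
    exact h1 (Subgroup.mem_map_of_mem _ hx)
  have hLP : Lv φ e f ≤ Pst φ e := inf_le_left
  intro n hn
  obtain ⟨q, hq, l, hl, hnql⟩ := exists_mul_of_mem_Pst hφφ he hf hef hfe (hNP hn)
  have hl₁ : l ∈ (N ⊔ Qg φ e : Subgroup (SUg ι φ)) ⊓ Lv φ e f := by
    refine ⟨?_, hl⟩
    have e1 : l = q⁻¹ * n := by rw [hnql]; group
    rw [e1]
    exact Subgroup.mul_mem _ (Subgroup.inv_mem _ (Subgroup.mem_sup_right hq))
      (Subgroup.mem_sup_left hn)
  have h1 := eq_one_of_normal_pgroup_Lv H p he hf hef hfe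
    (N := (N ⊔ Qg φ e : Subgroup (SUg ι φ)) ⊓ Lv φ e f) (hN₁.to_le inf_le_left) inf_le_right
    (by
      intro l' hl' m hm
      exact ⟨hN₁norm l' (hLP hl') m hm.1,
        Subgroup.mul_mem _ (Subgroup.mul_mem _ hl' hm.2) (Subgroup.inv_mem _ hl')⟩) hl₁
  rw [hnql, h1, mul_one]
  exact hq

end opcore

end Cfsg.Agent.Helper2.PU
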