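import Mathlib
import Cfsg.Agent.Lib.Helper2.Psu9

set_option autoImplicit false
set_option linter.unusedSimpArgs false
set_option linter.unusedVariables false
set_option linter.unusedSectionVars false

/-! Automorphisms of the projective special unitary groups, part 10: the central quotient,
and the image of a root group under an automorphism. -/

namespace Cfsg.Agent.Helper2.PU

open Matrix Cfsg.Agent.Helper11 Cfsg.Agent.Helper11.Herm

section abstractgp

variable {Γ : Type*} [Group Γ]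

/-- membership in the centre of a subgroup -/
def IsCentralIn (K : Subgroup Γ) (y : Γ) : Prop := y ∈ K ∧ ∀ w ∈ K, w * y = y * w

theorem isCentralIn_map (K : Subgroup Γ) (ψ : Γ ≃* Γ) (y : Γ) :
    IsCentralIn (K.map ψ.toMonoidHom) y ↔ IsCentralIn K (ψ.symm y) := by
  unfold IsCentralIn
  rw [Subgroup.mem_map_equiv]
  constructor
  · rintro ⟨h1, h2⟩
    refine ⟨h1, fun w hw => ?_⟩
    have := h2 (ψ w) (by rw [Subgroup.mem_map_equiv, MulEquiv.symm_apply_apply]; exact hw)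
    have h3 := congrArg ψ.symm this
    rwa [map_mul, map_mul, MulEquiv.symm_apply_apply] at h3
  · rintro ⟨h1, h2⟩
    refine ⟨h1, fun w hw => ?_⟩
    rw [Subgroup.mem_map_equiv] at hw
    have := h2 _ hw
    have h3 := congrArg ψ this
    rwa [map_mul, map_mul, MulEquiv.apply_symm_apply, MulEquiv.apply_symm_apply] at h3

/-- an automorphism of a finite group maps a Sylow subgroup to a conjugate -/
theorem exists_conj_of_sylow [Finite Γ] (p : ℕ) [Fact p.Prime] (P : Sylow p Γ) (α : Γ ≃* Γ) :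
    ∃ x : Γ, (P : Subgroup Γ).map α.toMonoidHom =
      (P : Subgroup Γ).map (MulAut.conj x).toMonoidHom := by
  obtain ⟨P', hP'⟩ : ∃ P' : Sylow p Γ,
      (P' : Subgroup Γ) = (P : Subgroup Γ).comap α.symm.toMonoidHom :=
    ⟨P.comapOfInjective α.symm.toMonoidHom α.symm.injective (by
      intro y _
      exact ⟨α y, by simp⟩), rfl⟩
  obtain ⟨x, hx⟩ := MulAction.exists_smul_eq Γ P P'
  refine ⟨x, ?_⟩
  have h1 : ((x • P : Sylow p Γ) : Subgroup Γ) = (P' : Subgroup Γ) := by rw [hx]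
  rw [Sylow.coe_subgroup_smul, hP'] at h1
  ext y
  rw [Subgroup.mem_map_equiv, Subgroup.mem_map_equiv]
  have h2 := SetLike.ext_iff.1 h1 y
  rw [Subgroup.mem_pointwise_smul_iff_inv_smul_mem, Subgroup.mem_comap] at h2
  exact h2.symm

end abstractgp

section quotient

variable {F : Type*} [Field F] {ι : Type*} [Fintype ι] [DecidableEq ι]

/-- the central quotient -/
abbrev PGq (φ : F →+* F) (ι : Type*) [Fintype ι] [DecidableEq ι] : Type _ :=
  SUg ι φ ⧸ Subgroup.center (SUg ι φ)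

/-- the quotient map -/
abbrev mkq (φ : F →+* F) : SUg ι φ →* PGq φ ι := QuotientGroup.mk' (Subgroup.center (SUg ι φ))

variable {φ : F →+* F}

theorem mkq_eq_iff (g g' : SUg ι φ) :
    mkq φ g = mkq φ g' ↔ g⁻¹ * g' ∈ Subgroup.center (SUg ι φ) := QuotientGroup.eq

theorem mkq_surjective : Function.Surjective (mkq (ι := ι) φ) := QuotientGroup.mk_surjective

theorem mkq_conj (g x : SUg ι φ) :
    MulAut.conj (mkq φ g) (mkq φ x) = mkq φ (g * x * g⁻¹) := by
  rw [MulAut.conj_apply, ← map_mul, ← map_inv, ← map_mul]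

/-- the image of the root group -/
noncomputable def Xb (φ : F →+* F) (v : ι → F) : Subgroup (PGq φ ι) := (rootGroup φ v).map (mkq φ)

/-- the image of `Qg` -/
noncomputable def Qb (φ : F →+* F) (v : ι → F) : Subgroup (PGq φ ι) := (Qg φ v).map (mkq φ)

/-- the image of the point stabiliser -/
noncomputable def Pb (φ : F →+* F) (v : ι → F) : Subgroup (PGq φ ι) := (Pst φ v).map (mkq φ)

theorem Xb_conj (g : SUg ι φ) {v : ι → F} (hv : hdot φ v v = 0) :
    (Xb φ v).map (MulAut.conj (mkq φ g)).toMonoidHom = Xb φ (g • v) := by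
  unfold Xb
  ext y
  constructor
  · rintro ⟨xb, ⟨x, hx, rfl⟩, rfl⟩
    refine ⟨g * x * g⁻¹, ?_, ?_⟩
    · rw [SetLike.mem_coe, rootGroup_conj φ g v hv, Subgroup.mem_pointwise_smul_iff_inv_smul_mem,
        MulAut.smul_def, MulAut.conj_inv_apply]
      have : g⁻¹ * (g * x * g⁻¹) * g = x := by group
      rw [this]
      exact hx
    · rw [MulEquiv.coe_toMonoidHom, mkq_conj]
  · rintro ⟨x', hx', rfl⟩
    rw [SetLike.mem_coe, rootGroup_conj φ g v hv, Subgroup.mem_pointwise_smul_iff_inv_smul_mem,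
      MulAut.smul_def, MulAut.conj_inv_apply] at hx'
    refine ⟨mkq φ (g⁻¹ * x' * g), ⟨_, hx', rfl⟩, ?_⟩
    rw [MulEquiv.coe_toMonoidHom, mkq_conj]
    congr 1
    group

end quotient

section main

variable {F : Type*} [Field F] [Finite F] {ι : Type*} [Fintype ι] [DecidableEq ι] {φ : F →+* F}
  (H : HypU φ ι) (p : ℕ) [Fact p.Prime] [CharP F p] {e f : ι → F} (he : hdot φ e e = 0)
  (hf : hdot φ f f = 0) (hef : hdot φ e f = 1) (hfe : hdot φ f e = 1)

include H he hf hef hfe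

theorem mkq_inj_of_pow {x y : SUg ι φ} {a b : ℕ} (hx : x ^ (p ^ a) = 1) (hy : y ^ (p ^ b) = 1)
    (h : mkq φ x = mkq φ y) : x = y :=
  eq_of_pow_of_center H.toHyp p he hf hef hfe hx hy ((mkq_eq_iff x y).1 h)

theorem mem_of_mkq_mem_map {K : Subgroup (SUg ι φ)} (hK : ∀ k ∈ K, ∃ a : ℕ, k ^ (p ^ a) = 1)
    {g : SUg ι φ} {b : ℕ} (hg : g ^ (p ^ b) = 1) (h : mkq φ g ∈ K.map (mkq φ)) : g ∈ K := by
  obtain ⟨k, hk, hkg⟩ := h
  obtain ⟨a, ha⟩ := hK k hk
  rw [← mkq_inj_of_pow H p he hf hef hfe ha hg hkg]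
  exact hk

theorem center_le_Pst (v : ι → F) : Subgroup.center (SUg ι φ) ≤ Pst φ v := by
  intro z hz
  obtain ⟨l, hl0, hl⟩ := center_scalar H.toHyp he hf hef hfe hz
  exact ⟨l, hl0, hl v⟩

theorem mem_of_mkq_mem_map' {K : Subgroup (SUg ι φ)} (hK : Subgroup.center (SUg ι φ) ≤ K)
    {g : SUg ι φ} (h : mkq φ g ∈ K.map (mkq φ)) : g ∈ K := by
  obtain ⟨k, hk, hkg⟩ := h
  have h1 := hK ((mkq_eq_iff k g).1 hkg)
  have h2 := K.mul_mem hk h1
  rwa [mul_inv_cancel_left] at h2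

omit he hf hef hfe in
theorem nonempty_of_hyp : Nonempty ι := by
  rw [← Fintype.card_pos_iff]
  have := H.hcard
  omega

omit hf hef hfe in
theorem pow_of_mem_rootGroup {v : ι → F} (hv : hdot φ v v = 0) {x : SUg ι φ}
    (hx : x ∈ rootGroup φ v) : x ^ (p ^ 2) = 1 := by
  have := nonempty_of_hyp H
  exact pow_eq_one_of_mem_Qg φ p (rootGroup_le_Qg φ H.hφφ hv hx)

omit hf hef hfe in
theorem exists_pow_of_isPGroup {P : Subgroup (SUg ι φ)} (hP : IsPGroup p P) :
    ∀ k ∈ P, ∃ a : ℕ, k ^ (p ^ a) = 1 := by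
  intro m hm
  obtain ⟨k, hk⟩ := hP ⟨m, hm⟩
  refine ⟨k, ?_⟩
  have := congrArg Subtype.val hk
  rwa [Subgroup.coe_pow, Subgroup.coe_one] at this

/-- the image of the root group is the centre of the image of a `p`-subgroup containing
`Qg e` -/
theorem mem_Xb_iff_central {P : Subgroup (SUg ι φ)} (hP : IsPGroup p P) (hQP : Qg φ e ≤ P)
    (y : PGq φ ι) : y ∈ Xb φ e ↔ IsCentralIn (P.map (mkq φ)) y := by
  have hφφ := H.hφφ
  have he0 : e ≠ 0 := ne_zero_of_hdot_eq_one hef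
  have hpow := exists_pow_of_isPGroup H p he hP
  constructor
  · rintro ⟨x, hx, rfl⟩
    refine ⟨⟨x, hQP (rootGroup_le_Qg φ hφφ he hx), rfl⟩, ?_⟩
    rintro w ⟨g, hg, rfl⟩
    rw [← map_mul, ← map_mul, central_of_mem_rootGroup H.toHyp p he0 he hP hQP hx hg]
  · rintro ⟨⟨x, hx, rfl⟩, h2⟩
    refine ⟨x, ?_, rfl⟩
    apply mem_rootGroup_of_central H.toHyp p he0 he hP hQP hx
    intro g hg
    have h3 := h2 (mkq φ g) ⟨g, hg, rfl⟩
    rw [← map_mul, ← map_mul] at h3
    obtain ⟨a, ha⟩ := hpow _ (P.mul_mem hg hx)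
    obtain ⟨b, hb⟩ := hpow _ (P.mul_mem hx hg)
    exact mkq_inj_of_pow H p he hf hef hfe ha hb h3

include p in
/-- an automorphism maps the image of the root group of `e` to the image of a root group -/
theorem exists_conj_Xb (α : PGq φ ι ≃* PGq φ ι) :
    ∃ x : SUg ι φ, (Xb φ e).map α.toMonoidHom = Xb φ (x • e) := by
  have := nonempty_of_hyp H
  obtain ⟨P, hQP⟩ := (isPGroup_Qg φ p e).exists_le_sylow
  have hfin : Finite (PGq φ ι) := Finite.of_surjective _ (mkq_surjective (φ := φ))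
  obtain ⟨xb, hxb⟩ := exists_conj_of_sylow p (P.mapSurjective (mkq_surjective (φ := φ))) α
  obtain ⟨x, rfl⟩ := mkq_surjective xb
  refine ⟨x, ?_⟩
  rw [Sylow.coe_mapSurjective] at hxb
  rw [← Xb_conj x he]
  ext y
  rw [Subgroup.mem_map_equiv, Subgroup.mem_map_equiv,
    mem_Xb_iff_central H p he hf hef hfe P.2 hQP, mem_Xb_iff_central H p he hf hef hfe P.2 hQP,
    ← isCentralIn_map, ← isCentralIn_map, hxb]

end main

end Cfsg.Agent.Helper2.PU
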