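import Mathlib
import Cfsg.Agent.Lib.Helper2.Psu10

set_option autoImplicit false
set_option linter.unusedSimpArgs false
set_option linter.unusedVariables false
set_option linter.unusedSectionVars false

/-! Automorphisms of the projective special unitary groups, part 11: normalising an
automorphism on a hyperbolic pair. -/

namespace Cfsg.Agent.Helper2.PU

open Matrix Cfsg.Agent.Helper11 Cfsg.Agent.Helper11.Herm

section abstractgp

variable {Γ : Type*} [Group Γ]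

theorem map_mul_aut (K : Subgroup Γ) (α β : MulAut Γ) :
    K.map (α * β).toMonoidHom = (K.map β.toMonoidHom).map α.toMonoidHom := by
  rw [Subgroup.map_map]
  rfl

theorem map_conj_comm (K : Subgroup Γ) (β : MulAut Γ) (g : Γ) :
    (K.map (MulAut.conj g).toMonoidHom).map β.toMonoidHom =
      (K.map β.toMonoidHom).map (MulAut.conj (β g)).toMonoidHom := by
  rw [Subgroup.map_map, Subgroup.map_map]
  congr 1
  ext x
  simp only [MonoidHom.coe_comp, MulEquiv.coe_toMonoidHom, Function.comp_apply,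
    MulAut.conj_apply, map_mul, map_inv]

theorem map_conj_inv_of_eq (K K' : Subgroup Γ) (g : Γ)
    (h : K.map (MulAut.conj g).toMonoidHom = K') :
    K'.map ((MulAut.conj g)⁻¹ : MulAut Γ).toMonoidHom = K := by
  rw [← h, ← map_mul_aut, inv_mul_cancel]
  ext x
  simp

end abstractgp

section nf

variable {F : Type*} [Field F] [Finite F] {ι : Type*} [Fintype ι] [DecidableEq ι] {φ : F →+* F}
  (H : HypU φ ι) (p : ℕ) [Fact p.Prime] [CharP F p] {e f : ι → F} (he : hdot φ e e = 0)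
  (hf : hdot φ f f = 0) (hef : hdot φ e f = 1) (hfe : hdot φ f e = 1)

include H he hf hef hfe

omit he hf hef hfe in
theorem Xb_smul_vec {v : ι → F} (hv : hdot φ v v = 0) {c : F} (hc : c ≠ 0) :
    Xb φ (c • v) = Xb φ v := by
  unfold Xb
  rw [rootGroup_smul_vec φ H.hφφ v hv hc]

include p in
/-- the image of `X̄_f` under an automorphism fixing `X̄_e` is opposite to `e` -/
theorem hdot_ne_zero_of_map (α : MulAut (PGq φ ι)) (hαe : (Xb φ e).map α.toMonoidHom = Xb φ e)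
    {v : ι → F} (hv : hdot φ v v = 0) (hαf : (Xb φ f).map α.toMonoidHom = Xb φ v) :
    hdot φ v e ≠ 0 := by
  have hφφ := H.hφφ
  intro hve
  obtain ⟨t, ht0, ht⟩ := H.exists_trace_zero
  have h1 : α (mkq φ (tvG φ e t)) ∈ Xb φ e := by
    rw [← hαe]
    exact ⟨_, ⟨_, tvG_mem_rootGroup φ hφφ he ht, rfl⟩, rfl⟩
  have h2 : α (mkq φ (tvG φ f t)) ∈ Xb φ v := by
    rw [← hαf]
    exact ⟨_, ⟨_, tvG_mem_rootGroup φ hφφ hf ht, rfl⟩, rfl⟩
  obtain ⟨xa, hxa, hxa'⟩ := h1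
  obtain ⟨xb, hxb, hxb'⟩ := h2
  obtain ⟨a', ha', rfl⟩ := exists_tvG_of_mem_rootGroup φ hφφ he hxa
  obtain ⟨b', hb', rfl⟩ := exists_tvG_of_mem_rootGroup φ hφφ hv hxb
  have h3 := tvG_comm_of_orth hφφ he hv hve ha' hb'
  have h4 : α (mkq φ (tvG φ e t * tvG φ f t)) = α (mkq φ (tvG φ f t * tvG φ e t)) := by
    rw [map_mul, map_mul, map_mul, map_mul, ← hxa', ← hxb', ← map_mul, ← map_mul, h3]
  have h5 := (mkq_eq_iff _ _).1 (α.injective h4).symm
  apply tvG_not_comm H.toHyp he hf hef hfe ht ht ht0 ht0 h5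
  group

include p in
/-- every automorphism is, up to an inner automorphism, one fixing the images of the root
groups of `e` and `f` -/
theorem exists_normal_form (α : MulAut (PGq φ ι)) :
    ∃ (y : SUg ι φ) (α' : MulAut (PGq φ ι)), α = MulAut.conj (mkq φ y) * α' ∧
      (Xb φ e).map α'.toMonoidHom = Xb φ e ∧ (Xb φ f).map α'.toMonoidHom = Xb φ f := by
  have hφφ := H.hφφ
  have he0 : e ≠ 0 := ne_zero_of_hdot_eq_one hef
  have hf0 : f ≠ 0 := ne_zero_of_hdot_eq_one hfe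
  -- first step
  obtain ⟨x₁, hx₁⟩ := exists_conj_Xb H p he hf hef hfe α
  rw [← Xb_conj x₁ he] at hx₁
  obtain ⟨α₁, hα₁⟩ : ∃ α₁ : MulAut (PGq φ ι), α₁ = (MulAut.conj (mkq φ x₁))⁻¹ * α := ⟨_, rfl⟩
  have hα₁e : (Xb φ e).map α₁.toMonoidHom = Xb φ e := by
    rw [hα₁, map_mul_aut, hx₁]
    exact map_conj_inv_of_eq _ _ _ rfl
  -- second step
  obtain ⟨y₀, hy₀⟩ := exists_SUg_map φ H.hφ hφφ H.hN1 H.hcard e f he he0 hf hf0
  obtain ⟨y', hy'⟩ := mkq_surjective (α₁ (mkq φ y₀))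
  obtain ⟨v, hv⟩ : ∃ v, v = y' • e := ⟨_, rfl⟩
  have hvv : hdot φ v v = 0 := by rw [hv, sug_hdot_smul, he]
  have hα₁f : (Xb φ f).map α₁.toMonoidHom = Xb φ v := by
    rw [← hy₀, ← Xb_conj y₀ he, map_conj_comm, hα₁e, ← hy', Xb_conj y' he, hv]
  have hve : hdot φ v e ≠ 0 := hdot_ne_zero_of_map H p he hf hef hfe α₁ hα₁e hvv hα₁f
  obtain ⟨v', hv'⟩ : ∃ v', v' = (hdot φ v e)⁻¹ • v := ⟨_, rfl⟩
  have hv'v' : hdot φ v' v' = 0 := by
    rw [hv', hdot_smul_left, hdot_smul_right, hvv, mul_zero, mul_zero]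
  have hv'e : hdot φ v' e = 1 := by rw [hv', hdot_smul_left, inv_mul_cancel₀ hve]
  obtain ⟨q, hq, hqf⟩ := exists_Qg_map hφφ he hf hef hfe hv'v' hv'e
  have hXv : Xb φ v = Xb φ (q • f) := by
    rw [hqf, hv', Xb_smul_vec H hvv (inv_ne_zero hve)]
  refine ⟨x₁ * q, (MulAut.conj (mkq φ q))⁻¹ * α₁, ?_, ?_, ?_⟩
  · rw [hα₁, map_mul, map_mul]
    group
  · rw [map_mul_aut, hα₁e]
    apply map_conj_inv_of_eq
    rw [Xb_conj q he, hq.1]
  · rw [map_mul_aut, hα₁f, hXv]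
    apply map_conj_inv_of_eq
    rw [Xb_conj q hf]

end nf

end Cfsg.Agent.Helper2.PU
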