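import Mathlib
import Cfsg.Agent.Lib.Helper2.Psu11

set_option autoImplicit false
set_option linter.unusedSimpArgs false
set_option linter.unusedVariables false
set_option linter.unusedSectionVars false

/-! Automorphisms of the projective special unitary groups, part 12: a normalised automorphism
preserves the images of the point stabilisers and of `Qg e`. -/

namespace Cfsg.Agent.Helper2.PU

open Matrix Cfsg.Agent.Helper11 Cfsg.Agent.Helper11.Herm

section abstractgp

variable {Γ : Type*} [Group Γ]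

theorem map_inv_of_map_eq (K : Subgroup Γ) (α : MulAut Γ) (h : K.map α.toMonoidHom = K) :
    K.map (α⁻¹ : MulAut Γ).toMonoidHom = K := by
  conv_lhs => rw [← h, ← map_mul_aut, inv_mul_cancel]
  ext x
  simp

end abstractgp

section stab

variable {F : Type*} [Field F] [Finite F] {ι : Type*} [Fintype ι] [DecidableEq ι] {φ : F →+* F}
  (H : HypU φ ι) (p : ℕ) [Fact p.Prime] [CharP F p] {e f : ι → F} (he : hdot φ e e = 0)
  (hf : hdot φ f f = 0) (hef : hdot φ e f = 1) (hfe : hdot φ f e = 1)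

omit [Finite F] in
theorem map_conj_mkq (K : Subgroup (SUg ι φ)) (x : SUg ι φ) :
    (K.map (mkq φ)).map (MulAut.conj (mkq φ x)).toMonoidHom =
      (K.map (MulAut.conj x).toMonoidHom).map (mkq φ) := by
  rw [Subgroup.map_map, Subgroup.map_map]
  congr 1

include H he hf hef hfe

include p in
/-- the image of the point stabiliser is the normaliser of the image of the root group -/
theorem mem_Pb_iff {v : ι → F} (hv : hdot φ v v = 0) (hv0 : v ≠ 0) (g : PGq φ ι) :
    g ∈ Pb φ v ↔ (Xb φ v).map (MulAut.conj g).toMonoidHom = Xb φ v := by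
  have hφφ := H.hφφ
  constructor
  · rintro ⟨g, ⟨c, hc0, hgv⟩, rfl⟩
    rw [Xb_conj g hv, hgv, Xb_smul_vec H hv hc0]
  · intro h
    obtain ⟨g, rfl⟩ := mkq_surjective g
    rw [Xb_conj g hv] at h
    obtain ⟨t, ht0, ht⟩ := H.exists_trace_zero
    have hgv : hdot φ (g • v) (g • v) = 0 := by rw [sug_hdot_smul, hv]
    have hgv0 : g • v ≠ 0 := by
      intro h0
      apply hv0
      have := congrArg (fun x => g⁻¹ • x) h0
      simp only [inv_smul_smul, sug_smul_zero] at this
      exact this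
    have h1 : mkq φ (tvG φ (g • v) t) ∈ (rootGroup φ v).map (mkq φ) := by
      change _ ∈ Xb φ v
      rw [← h]
      exact ⟨_, tvG_mem_rootGroup φ hφφ hgv ht, rfl⟩
    have h2 := mem_of_mkq_mem_map H p he hf hef hfe
      (fun k hk => ⟨2, pow_of_mem_rootGroup H p he hv hk⟩)
      (pow_of_mem_rootGroup H p he hgv (tvG_mem_rootGroup φ hφφ hgv ht)) h1
    obtain ⟨c, hc⟩ := smul_of_tvG_mem_rootGroup hφφ hgv hv hgv0 ht ht0 h2
    refine ⟨g, ⟨c, ?_, hc⟩, rfl⟩
    rintro rfl
    rw [zero_smul] at hc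
    exact hgv0 hc

include p in
/-- an automorphism fixing the image of the root group preserves the image of the point
stabiliser -/
theorem map_Pb {v : ι → F} (hv : hdot φ v v = 0) (hv0 : v ≠ 0) (α : MulAut (PGq φ ι))
    (hα : (Xb φ v).map α.toMonoidHom = Xb φ v) (g : PGq φ ι) :
    α g ∈ Pb φ v ↔ g ∈ Pb φ v := by
  rw [mem_Pb_iff H p he hf hef hfe hv hv0, mem_Pb_iff H p he hf hef hfe hv hv0]
  have h1 := map_conj_comm (Xb φ v) α g
  rw [hα] at h1
  rw [← h1]
  constructor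
  · intro h
    have hinj : Function.Injective α.toMonoidHom := α.injective
    apply Subgroup.map_injective hinj
    rw [h, hα]
  · intro h
    rw [h, hα]

end stab

theorem conj_pow {Γ : Type*} [Group Γ] (g n : Γ) (k : ℕ) : (g * n * g⁻¹) ^ k = g * n ^ k * g⁻¹ := by
  induction k with
  | zero => simp
  | succ k ih =>
    rw [pow_succ, ih, pow_succ]
    group

section qb

variable {F : Type*} [Field F] [Finite F] {ι : Type*} [Fintype ι] [DecidableEq ι] {φ : F →+* F}
  (H : HypU φ ι) (p : ℕ) [Fact p.Prime] [CharP F p] {e f : ι → F} (he : hdot φ e e = 0)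
  (hf : hdot φ f f = 0) (hef : hdot φ e f = 1) (hfe : hdot φ f e = 1)

include H he hf hef hfe

include p in
/-- an automorphism fixing the image of the root group of `e` maps the image of `Qg e` into
itself -/
theorem map_Qb_le (α : MulAut (PGq φ ι)) (hα : (Xb φ e).map α.toMonoidHom = Xb φ e) :
    (Qb φ e).map α.toMonoidHom ≤ Qb φ e := by
  have hφφ := H.hφφ
  have he0 : e ≠ 0 := ne_zero_of_hdot_eq_one hef
  have := nonempty_of_hyp H
  obtain ⟨P, hQP⟩ := (isPGroup_Qg φ p e).exists_le_sylow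
  have hfin : Finite (PGq φ ι) := Finite.of_surjective _ (mkq_surjective (φ := φ))
  obtain ⟨xb, hxb⟩ := exists_conj_of_sylow p (P.mapSurjective (mkq_surjective (φ := φ))) α
  obtain ⟨x, rfl⟩ := mkq_surjective xb
  rw [Sylow.coe_mapSurjective, map_conj_mkq] at hxb
  obtain ⟨P₁, hP₁⟩ : ∃ P₁ : Subgroup (SUg ι φ),
      P₁ = (P : Subgroup (SUg ι φ)).map (MulAut.conj x).toMonoidHom := ⟨_, rfl⟩
  rw [← hP₁] at hxb
  have hP₁p : IsPGroup p P₁ := by
    rw [hP₁]
    exact P.2.map _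
  obtain ⟨N, hNdef⟩ : ∃ N : Subgroup (SUg ι φ),
      N = P₁ ⊓ ((Qb φ e).map α.toMonoidHom).comap (mkq φ) := ⟨_, rfl⟩
  have hN : IsPGroup p N := by
    rw [hNdef]
    exact hP₁p.to_le inf_le_left
  have hpow := exists_pow_of_isPGroup H p he hN
  have hQbP : (Qb φ e).map α.toMonoidHom ≤ P₁.map (mkq φ) := by
    rw [← hxb]
    exact Subgroup.map_mono (Subgroup.map_mono hQP)
  have hNmap : N.map (mkq φ) = (Qb φ e).map α.toMonoidHom := by
    apply le_antisymm
    · rintro _ ⟨n, hn, rfl⟩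
      rw [hNdef] at hn
      exact hn.2
    · intro y hy
      obtain ⟨y₁, hy₁, rfl⟩ := hQbP hy
      refine ⟨y₁, ?_, rfl⟩
      rw [hNdef]
      exact ⟨hy₁, hy⟩
  have hQP' : Qb φ e ≤ Pb φ e := Subgroup.map_mono (Qg_le_Pst φ e)
  have hNP : N ≤ Pst φ e := by
    intro n hn
    apply mem_of_mkq_mem_map' H he hf hef hfe (center_le_Pst H he hf hef hfe e)
    have h1 : mkq φ n ∈ (Qb φ e).map α.toMonoidHom := by
      rw [← hNmap]
      exact ⟨n, hn, rfl⟩
    obtain ⟨qb, hqb, hqb'⟩ := h1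
    change mkq φ n ∈ Pb φ e
    rw [← hqb', MulEquiv.coe_toMonoidHom, map_Pb H p he hf hef hfe he he0 α hα]
    exact hQP' hqb
  have hnorm : ∀ g ∈ Pst φ e, ∀ n ∈ N, g * n * g⁻¹ ∈ N := by
    intro g hg n hn
    have h1 : mkq φ n ∈ (Qb φ e).map α.toMonoidHom := by
      rw [← hNmap]
      exact ⟨n, hn, rfl⟩
    obtain ⟨qb, ⟨q, hq, rfl⟩, hqb'⟩ := h1
    have h2 : α.symm (mkq φ g) ∈ Pb φ e := by
      rw [← map_Pb H p he hf hef hfe he he0 α hα, MulEquiv.apply_symm_apply]
      exact ⟨g, hg, rfl⟩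
    obtain ⟨g', hg', hg'eq⟩ := h2
    have h3 : mkq φ (g * n * g⁻¹) ∈ N.map (mkq φ) := by
      rw [hNmap]
      refine ⟨mkq φ (g' * q * g'⁻¹), ⟨_, conj_mem_Qg φ hg' hq, rfl⟩, ?_⟩
      rw [MulEquiv.coe_toMonoidHom] at hqb' ⊢
      rw [map_mul, map_mul, map_mul, map_mul, map_inv, map_inv, hg'eq, map_mul, map_mul, map_inv,
        MulEquiv.apply_symm_apply, hqb']
    obtain ⟨n', hn', hn'eq⟩ := h3
    obtain ⟨a, ha⟩ := hpow n' hn'
    obtain ⟨b, hb⟩ := hpow n hn
    have hb' : (g * n * g⁻¹) ^ (p ^ b) = 1 := by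
      rw [conj_pow, hb, mul_one, mul_inv_cancel]
    rw [← mkq_inj_of_pow H p he hf hef hfe ha hb' hn'eq]
    exact hn'
  have hle := le_Qg_of_normal_pgroup H.toHyp p he hf hef hfe hN hNP hnorm
  rw [← hNmap]
  exact Subgroup.map_mono hle

include p in
theorem map_Qb_eq (α : MulAut (PGq φ ι)) (hα : (Xb φ e).map α.toMonoidHom = Xb φ e) :
    (Qb φ e).map α.toMonoidHom = Qb φ e := by
  apply le_antisymm (map_Qb_le H p he hf hef hfe α hα)
  have h1 := map_Qb_le H p he hf hef hfe α⁻¹ (map_inv_of_map_eq _ α hα)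
  have h2 := Subgroup.map_mono (f := α.toMonoidHom) h1
  rw [← map_mul_aut, mul_inv_cancel] at h2
  intro x hx
  apply h2
  exact ⟨x, hx, rfl⟩

end qb

end Cfsg.Agent.Helper2.PU
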