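import Mathlib
import Cfsg.Agent.Lib.Helper2.Psu12

set_option autoImplicit false
set_option linter.unusedSimpArgs false
set_option linter.unusedVariables false
set_option linter.unusedSectionVars false

/-! Automorphisms of the projective special unitary groups, part 13: the standard endomorphism
attached to a unitary matrix and a field automorphism. -/

namespace Cfsg.Agent.Helper2.PU

open Matrix Cfsg.Agent.Helper11 Cfsg.Agent.Helper11.Herm

section stdhom

variable {F : Type*} [Field F] {ι : Type*} [Fintype ι] [DecidableEq ι] {φ : F →+* F}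

/-- the adjoint of a matrix -/
def adjU (φ : F →+* F) (g : Matrix ι ι F) : Matrix ι ι F := (g.map φ)ᵀ

theorem adjU_mul_self {g : Matrix ι ι F} (hg : IsU φ g) : adjU φ g * g = 1 := by
  have h : gᵀ * g.map φ = 1 := hg
  have h2 := congrArg Matrix.transpose h
  rw [Matrix.transpose_mul, Matrix.transpose_transpose, Matrix.transpose_one] at h2
  exact h2

theorem self_mul_adjU {g : Matrix ι ι F} (hg : IsU φ g) : g * adjU φ g = 1 :=
  mul_eq_one_comm.1 (adjU_mul_self hg)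

theorem isU_adjU {g : Matrix ι ι F} (hg : IsU φ g) : IsU φ (adjU φ g) := by
  rw [isU_iff_preserves]
  intro u v
  rw [← hg.hdot_mulVec φ, Matrix.mulVec_mulVec, Matrix.mulVec_mulVec, self_mul_adjU hg,
    Matrix.one_mulVec, Matrix.one_mulVec]

theorem map_mul_ringEquiv (σ : F ≃+* F) (A B : Matrix ι ι F) :
    (A * B).map σ = A.map σ * B.map σ := by
  ext i j
  simp only [Matrix.map_apply, Matrix.mul_apply, map_sum, map_mul]

theorem map_one_ringEquiv (σ : F ≃+* F) : (1 : Matrix ι ι F).map σ = 1 := by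
  ext i j
  simp only [Matrix.map_apply, Matrix.one_apply]
  split_ifs <;> simp

theorem isU_map (σ : F ≃+* F) (hcomm : ∀ x, σ (φ x) = φ (σ x)) {M : Matrix ι ι F}
    (hM : IsU φ M) : IsU φ (M.map σ) := by
  have h : Mᵀ * M.map φ = 1 := hM
  unfold IsU
  have h1 : (M.map σ).map φ = (M.map φ).map σ := by
    ext i j
    simp only [Matrix.map_apply]
    exact (hcomm _).symm
  have h2 : (M.map σ)ᵀ = (Mᵀ).map σ := by
    ext i j
    rfl
  rw [h1, h2, ← map_mul_ringEquiv, h, map_one_ringEquiv]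

theorem det_map_ringEquiv (σ : F ≃+* F) (M : Matrix ι ι F) : (M.map σ).det = σ M.det := by
  have := RingHom.map_det (σ : F →+* F) M
  rw [RingHom.mapMatrix_apply] at this
  exact this.symm

theorem det_adjU_mul {g : Matrix ι ι F} (hg : IsU φ g) : g.det * (adjU φ g).det = 1 := by
  rw [← Matrix.det_mul, self_mul_adjU hg, Matrix.det_one]

/-- the standard endomorphism -/
noncomputable def stdHom (g₀ : Matrix ι ι F) (hg₀ : IsU φ g₀) (σ : F ≃+* F)
    (hcomm : ∀ x, σ (φ x) = φ (σ x)) : SUg ι φ →* SUg ι φ where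
  toFun s := mkS φ (g₀ * (smat φ s).map σ * adjU φ g₀)
    ((hg₀.mul φ (isU_map σ hcomm (smat_isU φ s))).mul φ (isU_adjU hg₀))
    (by
      rw [Matrix.det_mul, Matrix.det_mul, det_map_ringEquiv, smat_det, map_one, mul_one,
        det_adjU_mul hg₀])
  map_one' := by
    apply sug_ext
    rw [mat_mkS, smat_one, map_one_ringEquiv, Matrix.mul_one, self_mul_adjU hg₀]
  map_mul' := by
    intro a b
    apply sug_ext
    change g₀ * (smat φ (a * b)).map σ * adjU φ g₀ =
      (g₀ * (smat φ a).map σ * adjU φ g₀) * (g₀ * (smat φ b).map σ * adjU φ g₀)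
    rw [smat_mul, map_mul_ringEquiv]
    have h := adjU_mul_self hg₀
    calc g₀ * ((smat φ a).map σ * (smat φ b).map σ) * adjU φ g₀
        = g₀ * (smat φ a).map σ * (1 : Matrix ι ι F) * ((smat φ b).map σ * adjU φ g₀) := by
          rw [Matrix.mul_one]
          simp only [Matrix.mul_assoc]
      _ = g₀ * (smat φ a).map σ * adjU φ g₀ * (g₀ * (smat φ b).map σ * adjU φ g₀) := by
          rw [← h]
          simp only [Matrix.mul_assoc]

theorem smat_stdHom (g₀ : Matrix ι ι F) (hg₀ : IsU φ g₀) (σ : F ≃+* F)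
    (hcomm : ∀ x, σ (φ x) = φ (σ x)) (s : SUg ι φ) :
    smat φ (stdHom g₀ hg₀ σ hcomm s) = g₀ * (smat φ s).map σ * adjU φ g₀ := rfl

theorem stdHom_spec (g₀ : Matrix ι ι F) (hg₀ : IsU φ g₀) (σ : F ≃+* F)
    (hcomm : ∀ x, σ (φ x) = φ (σ x)) (s : SUg ι φ) :
    smat φ (stdHom g₀ hg₀ σ hcomm s) * g₀ = g₀ * (smat φ s).map σ := by
  rw [smat_stdHom, Matrix.mul_assoc, adjU_mul_self hg₀, Matrix.mul_one]

theorem eq_stdHom_of_spec (g₀ : Matrix ι ι F) (hg₀ : IsU φ g₀) (σ : F ≃+* F)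
    (hcomm : ∀ x, σ (φ x) = φ (σ x)) {s s' : SUg ι φ}
    (h : smat φ s' * g₀ = g₀ * (smat φ s).map σ) : s' = stdHom g₀ hg₀ σ hcomm s := by
  apply sug_ext
  rw [smat_stdHom, ← h, Matrix.mul_assoc, self_mul_adjU hg₀, Matrix.mul_one]

/-- the semilinear map attached to a matrix and a field automorphism -/
def semiMap (g₀ : Matrix ι ι F) (σ : F ≃+* F) (y : ι → F) : ι → F := g₀ *ᵥ (σ ∘ y)

theorem semiMap_add (g₀ : Matrix ι ι F) (σ : F ≃+* F) (x y : ι → F) :
    semiMap g₀ σ (x + y) = semiMap g₀ σ x + semiMap g₀ σ y := by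
  unfold semiMap
  rw [← Matrix.mulVec_add]
  congr 1
  funext i
  simp

theorem semiMap_smul (g₀ : Matrix ι ι F) (σ : F ≃+* F) (a : F) (y : ι → F) :
    semiMap g₀ σ (a • y) = σ a • semiMap g₀ σ y := by
  unfold semiMap
  rw [← Matrix.mulVec_smul]
  congr 1
  funext i
  simp

theorem semiMap_hdot {g₀ : Matrix ι ι F} (hg₀ : IsU φ g₀) (σ : F ≃+* F)
    (hcomm : ∀ x, σ (φ x) = φ (σ x)) (x y : ι → F) :
    hdot φ (semiMap g₀ σ x) (semiMap g₀ σ y) = σ (hdot φ x y) := by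
  unfold semiMap
  rw [hg₀.hdot_mulVec φ, hdot_comp_ringEquiv σ hcomm]

theorem semiMap_surjective {g₀ : Matrix ι ι F} (hg₀ : IsU φ g₀) (σ : F ≃+* F) (x : ι → F) :
    ∃ y, semiMap g₀ σ y = x := by
  refine ⟨σ.symm ∘ (adjU φ g₀ *ᵥ x), ?_⟩
  unfold semiMap
  have : σ ∘ (σ.symm ∘ (adjU φ g₀ *ᵥ x)) = adjU φ g₀ *ᵥ x := by
    funext i
    simp
  rw [this, Matrix.mulVec_mulVec, self_mul_adjU hg₀, Matrix.one_mulVec]

theorem stdHom_smul_semiMap (g₀ : Matrix ι ι F) (hg₀ : IsU φ g₀) (σ : F ≃+* F)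
    (hcomm : ∀ x, σ (φ x) = φ (σ x)) (s : SUg ι φ) (y : ι → F) :
    stdHom g₀ hg₀ σ hcomm s • semiMap g₀ σ y = semiMap g₀ σ (s • y) := by
  unfold semiMap
  rw [sug_smul_def, Matrix.mulVec_mulVec, stdHom_spec, ← Matrix.mulVec_mulVec]
  congr 1
  funext i
  exact (RingHom.map_mulVec (σ : F →+* F) (smat φ s) y i).symm

/-- the standard endomorphism maps transvections to transvections -/
theorem stdHom_tvG (hφφ : ∀ x, φ (φ x) = x) (g₀ : Matrix ι ι F) (hg₀ : IsU φ g₀) (σ : F ≃+* F)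
    (hcomm : ∀ x, σ (φ x) = φ (σ x)) {v : ι → F} (hv : hdot φ v v = 0) {c : F}
    (hc : c + φ c = 0) :
    stdHom g₀ hg₀ σ hcomm (tvG φ v c) = tvG φ (semiMap g₀ σ v) (σ c) := by
  have hv' : hdot φ (semiMap g₀ σ v) (semiMap g₀ σ v) = 0 := by
    rw [semiMap_hdot hg₀ σ hcomm, hv, map_zero]
  have hc' : σ c + φ (σ c) = 0 := by rw [← hcomm, ← map_add, hc, map_zero]
  apply sug_ext_smul
  intro x
  obtain ⟨y, rfl⟩ := semiMap_surjective hg₀ σ x
  rw [stdHom_smul_semiMap, tvG_smul φ hφφ hv hc, tvG_smul φ hφφ hv' hc', semiMap_add, semiMap_smul,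
    semiMap_hdot hg₀ σ hcomm, map_mul]

end stdhom

end Cfsg.Agent.Helper2.PU
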