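import Mathlib
import Cfsg.Agent.Lib.Helper2.Psu13

set_option autoImplicit false
set_option linter.unusedSimpArgs false
set_option linter.unusedVariables false
set_option linter.unusedSectionVars false

/-! Automorphisms of the projective special unitary groups, part 14: a normalised automorphism
induces an automorphism of `Qg e` normalising the Levi action. -/

namespace Cfsg.Agent.Helper2.PU

open Matrix Cfsg.Agent.Helper11 Cfsg.Agent.Helper11.Herm

section blift

variable {F : Type*} [Field F] [Finite F] {ι : Type*} [Fintype ι] [DecidableEq ι] {φ : F →+* F}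

open Classical in
/-- the lift to `Qg e` of an automorphism of the central quotient -/
noncomputable def bLift (φ : F →+* F) (e : ι → F) (α : MulAut (PGq φ ι)) (g : SUg ι φ) :
    SUg ι φ :=
  if h : ∃ g' ∈ Qg φ e, mkq φ g' = α (mkq φ g) then Classical.choose h else 1

variable (H : HypU φ ι) (p : ℕ) [Fact p.Prime] [CharP F p] {e f : ι → F} (he : hdot φ e e = 0)
  (hf : hdot φ f f = 0) (hef : hdot φ e f = 1) (hfe : hdot φ f e = 1)
  (α : MulAut (PGq φ ι)) (hαe : (Xb φ e).map α.toMonoidHom = Xb φ e)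
  (hαf : (Xb φ f).map α.toMonoidHom = Xb φ f)

include H p he hf hef hfe hαe

theorem bLift_spec {g : SUg ι φ} (hg : g ∈ Qg φ e) :
    bLift φ e α g ∈ Qg φ e ∧ mkq φ (bLift φ e α g) = α (mkq φ g) := by
  have h1 : α (mkq φ g) ∈ Qb φ e := by
    rw [← map_Qb_eq H p he hf hef hfe α hαe]
    exact ⟨_, ⟨g, hg, rfl⟩, rfl⟩
  have h2 : ∃ g' ∈ Qg φ e, mkq φ g' = α (mkq φ g) := h1
  unfold bLift
  rw [dif_pos h2]
  exact Classical.choose_spec h2

theorem mkq_injOn_Qg {g g' : SUg ι φ} (hg : g ∈ Qg φ e) (hg' : g' ∈ Qg φ e)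
    (h : mkq φ g = mkq φ g') : g = g' := by
  have := nonempty_of_hyp H
  exact mkq_inj_of_pow H p he hf hef hfe (pow_eq_one_of_mem_Qg φ p hg)
    (pow_eq_one_of_mem_Qg φ p hg') h

include hαf

theorem exists_Lv_lift {l : SUg ι φ} (hl : l ∈ Lv φ e f) :
    ∃ l' ∈ Lv φ e f, mkq φ l' = α (mkq φ l) := by
  have he0 : e ≠ 0 := ne_zero_of_hdot_eq_one hef
  have hf0 : f ≠ 0 := ne_zero_of_hdot_eq_one hfe
  have h1 : α (mkq φ l) ∈ Pb φ e := by
    rw [map_Pb H p he hf hef hfe he he0 α hαe]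
    exact ⟨l, hl.1, rfl⟩
  have h2 : α (mkq φ l) ∈ Pb φ f := by
    rw [map_Pb H p he hf hef hfe hf hf0 α hαf]
    exact ⟨l, hl.2, rfl⟩
  obtain ⟨l', hl', hl'eq⟩ := h1
  refine ⟨l', ⟨hl', ?_⟩, hl'eq⟩
  apply mem_of_mkq_mem_map' H he hf hef hfe (center_le_Pst H he hf hef hfe f)
  rw [hl'eq]
  exact h2

/-- the lift is an automorphism of `Qg e` normalising the Levi action -/
theorem isQAut_bLift : IsQAut φ e f (bLift φ e α) := by
  have hφφ := H.hφφ
  have hspec := fun {g : SUg ι φ} (hg : g ∈ Qg φ e) => bLift_spec H p he hf hef hfe α hαe hg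
  have hinj := fun {g g' : SUg ι φ} (hg : g ∈ Qg φ e) (hg' : g' ∈ Qg φ e)
    (h : mkq φ g = mkq φ g') => mkq_injOn_Qg H p he hf hef hfe α hαe hg hg' h
  have hαe' := map_inv_of_map_eq _ α hαe
  have hαf' := map_inv_of_map_eq _ α hαf
  have hrootpow : ∀ k ∈ rootGroup φ e, ∃ a : ℕ, k ^ (p ^ a) = 1 :=
    fun k hk => ⟨2, pow_of_mem_rootGroup H p he he hk⟩
  have := nonempty_of_hyp H
  refine ⟨?_, ?_, ?_, ?_, ?_, ?_, ?_⟩
  · intro g hg
    exact (hspec hg).1
  · intro g hg g' hg'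
    apply hinj (hspec (Subgroup.mul_mem _ hg hg')).1
      (Subgroup.mul_mem _ (hspec hg).1 (hspec hg').1)
    rw [(hspec (Subgroup.mul_mem _ hg hg')).2, map_mul, map_mul, map_mul, (hspec hg).2,
      (hspec hg').2]
  · intro g hg h1
    apply hinj hg (Subgroup.one_mem _)
    have h2 := (hspec hg).2
    rw [h1, map_one] at h2
    rw [map_one]
    apply α.injective
    rw [← h2, map_one]
  · intro g' hg'
    have h1 : α.symm (mkq φ g') ∈ Qb φ e := by
      have h2 := map_Qb_eq H p he hf hef hfe α⁻¹ hαe'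
      rw [← h2]
      exact ⟨_, ⟨g', hg', rfl⟩, rfl⟩
    obtain ⟨g, hg, hgeq⟩ := h1
    refine ⟨g, hg, ?_⟩
    apply hinj (hspec hg).1 hg'
    rw [(hspec hg).2, hgeq, MulEquiv.apply_symm_apply]
  · intro g hg
    constructor
    · intro hgr
      have h1 : α (mkq φ g) ∈ Xb φ e := by
        rw [← hαe]
        exact ⟨_, ⟨g, hgr, rfl⟩, rfl⟩
      rw [← (hspec hg).2] at h1
      exact mem_of_mkq_mem_map H p he hf hef hfe hrootpow
        (pow_eq_one_of_mem_Qg φ p (hspec hg).1) h1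
    · intro hbr
      have h1 : α (mkq φ g) ∈ (Xb φ e).map α.toMonoidHom := by
        rw [hαe, ← (hspec hg).2]
        exact ⟨_, hbr, rfl⟩
      obtain ⟨xb, hxb, hxbeq⟩ := h1
      have h2 : xb = mkq φ g := α.injective hxbeq
      rw [h2] at hxb
      exact mem_of_mkq_mem_map H p he hf hef hfe hrootpow (pow_eq_one_of_mem_Qg φ p hg) hxb
  · intro l hl
    obtain ⟨l', hl', hl'eq⟩ := exists_Lv_lift H p he hf hef hfe α hαe hαf hl
    refine ⟨l', hl', ?_⟩
    intro g hg
    have hc := conj_mem_Qg_of_mem_Lv hl hg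
    apply hinj (hspec hc).1 (conj_mem_Qg_of_mem_Lv hl' (hspec hg).1)
    rw [(hspec hc).2]
    simp only [map_mul, map_inv]
    rw [hl'eq, (hspec hg).2]
  · intro l' hl'
    obtain ⟨l, hl, hleq⟩ := exists_Lv_lift H p he hf hef hfe α⁻¹ hαe' hαf' hl'
    have hleq' : α (mkq φ l) = mkq φ l' := by
      rw [hleq]
      exact MulEquiv.apply_symm_apply α _
    refine ⟨l, hl, ?_⟩
    intro g hg
    have hc := conj_mem_Qg_of_mem_Lv hl hg
    apply hinj (hspec hc).1 (conj_mem_Qg_of_mem_Lv hl' (hspec hg).1)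
    rw [(hspec hc).2]
    simp only [map_mul, map_inv]
    rw [hleq', (hspec hg).2]

end blift

end Cfsg.Agent.Helper2.PU
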