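import Mathlib
import Cfsg.Agent.Lib.Helper2.Psu14

set_option autoImplicit false
set_option linter.unusedSimpArgs false
set_option linter.unusedVariables false
set_option linter.unusedSectionVars false

/-! Automorphisms of the projective special unitary groups, part 15: every automorphism of the
central quotient of the special unitary group is induced by a semilinear isometry. -/

namespace Cfsg.Agent.Helper2.PU

open Matrix Cfsg.Agent.Helper11 Cfsg.Agent.Helper11.Herm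

section sl2

variable {F : Type*} [Field F] [Finite F] {ι : Type*} [Fintype ι] [DecidableEq ι] {φ : F →+* F}
  (H : HypU φ ι) (p : ℕ) [Fact p.Prime] [CharP F p] {e f : ι → F} (he : hdot φ e e = 0)
  (hf : hdot φ f f = 0) (hef : hdot φ e f = 1) (hfe : hdot φ f e = 1)

omit [Finite F] in
theorem tvG_zero (hφφ : ∀ x, φ (φ x) = x) {v : ι → F} (hv : hdot φ v v = 0) :
    tvG φ v 0 = 1 := by
  apply sug_ext_smul
  intro x
  rw [tvG_smul φ hφφ hv (by rw [map_zero, add_zero]), zero_mul, zero_smul, add_zero, one_smul]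

include H p he hf hef hfe

/-- a homomorphism to the central quotient which maps the transvection `T_e(a)` to the class
of `T_e(a')` and the root group of `f` to its image is determined on that root group -/
theorem theta_tvG_f (θ : SUg ι φ →* PGq φ ι) {a a' b₀ : F} (ha : a + φ a = 0)
    (ha' : a' + φ a' = 0) (hb₀ : b₀ + φ b₀ = 0) (hab : 1 + a * b₀ = 0) (ha'0 : a' ≠ 0)
    (hθe : θ (tvG φ e a) = mkq φ (tvG φ e a'))
    (hθf : ∀ x ∈ rootGroup φ f, θ x ∈ Xb φ f) :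
    θ (tvG φ f b₀) = mkq φ (tvG φ f (-a'⁻¹)) := by
  have hφφ := H.hφφ
  have hf0 : f ≠ 0 := ne_zero_of_hdot_eq_one hfe
  have hb₀0 : b₀ ≠ 0 := by
    rintro rfl
    rw [mul_zero, add_zero] at hab
    exact one_ne_zero hab
  obtain ⟨y, hy, hyeq⟩ := hθf _ (tvG_mem_rootGroup φ hφφ hf hb₀)
  obtain ⟨b₁, hb₁, rfl⟩ := exists_tvG_of_mem_rootGroup φ hφφ hf hy
  have hn : θ (nw φ e f a b₀) = mkq φ (nw φ e f a' b₁) := by
    unfold nw
    rw [map_mul, map_mul, map_mul, map_mul, hθe, hyeq]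
  have hne : nw φ e f a b₀ • e = b₀ • f := by
    rw [nw_smul_e hφφ he hf hef hfe ha hb₀, hab, zero_smul, zero_add]
  have h1 : nw φ e f a b₀ * tvG φ e a * (nw φ e f a b₀)⁻¹ ∈ rootGroup φ f := by
    rw [conj_tvG φ hφφ _ he ha, hne, ← rootGroup_smul_vec φ hφφ f hf hb₀0]
    exact tvG_mem_rootGroup φ hφφ
      (by rw [hdot_smul_left, hdot_smul_right, hf, mul_zero, mul_zero]) ha
  have h2 := hθf _ h1
  rw [map_mul, map_mul, map_inv, hn, hθe, ← map_inv, ← map_mul, ← map_mul,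
    conj_tvG φ hφφ _ he ha'] at h2
  have hiso : hdot φ (nw φ e f a' b₁ • e) (nw φ e f a' b₁ • e) = 0 := by
    rw [sug_hdot_smul, he]
  have hne0 : nw φ e f a' b₁ • e ≠ 0 := by
    intro h0
    have he0 : e ≠ 0 := ne_zero_of_hdot_eq_one hef
    apply he0
    have := congrArg (fun x => (nw φ e f a' b₁)⁻¹ • x) h0
    simp only [inv_smul_smul, sug_smul_zero] at this
    exact this
  have h3 := mem_of_mkq_mem_map H p he hf hef hfe
    (fun k hk => ⟨2, pow_of_mem_rootGroup H p he hf hk⟩)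
    (pow_of_mem_rootGroup H p he hiso (tvG_mem_rootGroup φ hφφ hiso ha')) h2
  obtain ⟨c, hc⟩ := smul_of_tvG_mem_rootGroup hφφ hiso hf hne0 ha' ha'0 h3
  rw [nw_smul_e hφφ he hf hef hfe ha' hb₁] at hc
  have h4 := congrArg (fun x => hdot φ x f) hc
  simp only [hdot_add_left, hdot_smul_left, hef, hf, mul_one, mul_zero, add_zero] at h4
  have h5 : b₁ = -a'⁻¹ := by
    field_simp
    linear_combination h4
  rw [← hyeq, h5]

/-- two homomorphisms to the central quotient agreeing on `Qg e` and preserving the images of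
the root groups of `e` and `f` agree on the root group of `f` -/
theorem agree_on_rootGroup_f (θ₁ θ₂ : SUg ι φ →* PGq φ ι)
    (hQ : ∀ x ∈ Qg φ e, θ₁ x = θ₂ x)
    (hb : ∀ x ∈ rootGroup φ e, θ₁ x ∈ Xb φ e)
    (hc₁ : ∀ x ∈ rootGroup φ f, θ₁ x ∈ Xb φ f) (hc₂ : ∀ x ∈ rootGroup φ f, θ₂ x ∈ Xb φ f)
    (hd : ∀ x ∈ rootGroup φ e, θ₁ x = 1 → x = 1) {t : SUg ι φ} (ht : t ∈ rootGroup φ f) :
    θ₁ t = θ₂ t := by
  have hφφ := H.hφφ
  have he0 : e ≠ 0 := ne_zero_of_hdot_eq_one hef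
  obtain ⟨b₀, hb₀, rfl⟩ := exists_tvG_of_mem_rootGroup φ hφφ hf ht
  by_cases hb0 : b₀ = 0
  · rw [hb0, tvG_zero hφφ hf, map_one, map_one]
  obtain ⟨a, haeq⟩ : ∃ a, a = -b₀⁻¹ := ⟨_, rfl⟩
  have hφb : φ b₀ = -b₀ := by linear_combination hb₀
  have ha : a + φ a = 0 := by
    rw [haeq, map_neg, map_inv₀, hφb, inv_neg]
    ring
  have hab : 1 + a * b₀ = 0 := by
    rw [haeq, neg_mul, inv_mul_cancel₀ hb0]
    ring
  have ha0 : a ≠ 0 := by
    rw [haeq]
    exact neg_ne_zero.2 (inv_ne_zero hb0)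
  have hxe := tvG_mem_rootGroup φ hφφ he ha
  obtain ⟨x', hx', hx'eq⟩ := hb _ hxe
  obtain ⟨a', ha', rfl⟩ := exists_tvG_of_mem_rootGroup φ hφφ he hx'
  have ha'0 : a' ≠ 0 := by
    rintro rfl
    rw [tvG_zero hφφ he, map_one] at hx'eq
    have h1 := hd _ hxe hx'eq.symm
    have h2 : tvG φ e a • f = f := by rw [h1, one_smul]
    rw [tvG_smul φ hφφ he ha, hfe, mul_one, add_eq_left] at h2
    rcases smul_eq_zero.1 h2 with h | h
    · exact ha0 h
    · exact he0 h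
  have hQe := rootGroup_le_Qg φ hφφ he hxe
  rw [theta_tvG_f H p he hf hef hfe θ₁ ha ha' hb₀ hab ha'0 hx'eq.symm hc₁,
    theta_tvG_f H p he hf hef hfe θ₂ ha ha' hb₀ hab ha'0 ((hQ _ hQe).symm.trans hx'eq.symm) hc₂]

end sl2

section final

variable {F : Type*} [Field F] [Finite F] {ι : Type*} [Fintype ι] [DecidableEq ι] {φ : F →+* F}
  (H : HypU φ ι) (p : ℕ) [Fact p.Prime] [CharP F p]
  (hcomm : ∀ (σ : F ≃+* F) (x : F), σ (φ x) = φ (σ x)) {e f : ι → F} (he : hdot φ e e = 0)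
  (hf : hdot φ f f = 0) (hef : hdot φ e f = 1) (hfe : hdot φ f e = 1)

include H p he hf hef hfe

/-- a normalised automorphism is standard -/
theorem eq_stdHom_of_normalised (α : MulAut (PGq φ ι))
    (hαe : (Xb φ e).map α.toMonoidHom = Xb φ e) (hαf : (Xb φ f).map α.toMonoidHom = Xb φ f) :
    ∃ (σ : F ≃+* F) (g₀ : Matrix ι ι F) (hg₀ : IsU φ g₀), ∀ s : SUg ι φ,
      α (mkq φ s) = mkq φ (stdHom g₀ hg₀ σ (hcomm σ) s) := by
  have hφφ := H.hφφ
  have hb := isQAut_bLift H p he hf hef hfe α hαe hαf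
  obtain ⟨σ, g₀, c₁, c₂, hU, hc₁, hc₂, hge, hgf, hint⟩ :=
    hb.exists_matrix H hcomm he hf hef hfe
  refine ⟨σ, g₀, hU, ?_⟩
  obtain ⟨θ₁, hθ₁⟩ : ∃ θ₁ : SUg ι φ →* PGq φ ι, θ₁ = α.toMonoidHom.comp (mkq φ) := ⟨_, rfl⟩
  obtain ⟨θ₂, hθ₂⟩ : ∃ θ₂ : SUg ι φ →* PGq φ ι,
      θ₂ = (mkq φ).comp (stdHom g₀ hU σ (hcomm σ)) := ⟨_, rfl⟩
  have hQ : ∀ x ∈ Qg φ e, θ₁ x = θ₂ x := by
    intro x hx
    rw [hθ₁, hθ₂, MonoidHom.comp_apply, MonoidHom.comp_apply, MulEquiv.coe_toMonoidHom,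
      ← (bLift_spec H p he hf hef hfe α hαe hx).2,
      eq_stdHom_of_spec g₀ hU σ (hcomm σ) (hint x hx)]
  have hb' : ∀ x ∈ rootGroup φ e, θ₁ x ∈ Xb φ e := by
    intro x hx
    rw [hθ₁, ← hαe]
    exact ⟨_, ⟨x, hx, rfl⟩, rfl⟩
  have hc₁' : ∀ x ∈ rootGroup φ f, θ₁ x ∈ Xb φ f := by
    intro x hx
    rw [hθ₁, ← hαf]
    exact ⟨_, ⟨x, hx, rfl⟩, rfl⟩
  have hc₂' : ∀ x ∈ rootGroup φ f, θ₂ x ∈ Xb φ f := by
    intro x hx
    obtain ⟨c, hc, rfl⟩ := exists_tvG_of_mem_rootGroup φ hφφ hf hx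
    rw [hθ₂, MonoidHom.comp_apply, stdHom_tvG hφφ g₀ hU σ (hcomm σ) hf hc]
    have h1 : semiMap g₀ σ f = c₂ • f := hgf
    rw [h1]
    refine ⟨_, ?_, rfl⟩
    rw [SetLike.mem_coe, ← rootGroup_smul_vec φ hφφ f hf hc₂]
    apply tvG_mem_rootGroup φ hφφ
    · rw [hdot_smul_left, hdot_smul_right, hf, mul_zero, mul_zero]
    · rw [← hcomm σ, ← map_add, hc, map_zero]
  have hd : ∀ x ∈ rootGroup φ e, θ₁ x = 1 → x = 1 := by
    intro x hx h1
    rw [hθ₁, MonoidHom.comp_apply, MulEquiv.coe_toMonoidHom] at h1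
    have h2 : mkq φ x = mkq φ 1 := by
      apply α.injective
      rw [h1, map_one, map_one]
    exact mkq_inj_of_pow H p he hf hef hfe (pow_of_mem_rootGroup H p he he hx)
      (a := 2) (b := 0) (one_pow _) h2
  have hK : MonoidHom.eqLocus θ₁ θ₂ = ⊤ := by
    apply eq_top_of_Qg_rootGroup H.toHyp he hf hef hfe
    · intro x hx
      exact hQ x hx
    · intro x hx
      exact agree_on_rootGroup_f H p he hf hef hfe θ₁ θ₂ hQ hb' hc₁' hc₂' hd hx
  intro s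
  have h1 : s ∈ MonoidHom.eqLocus θ₁ θ₂ := by
    rw [hK]
    exact Subgroup.mem_top s
  have h2 : θ₁ s = θ₂ s := h1
  rw [hθ₁, hθ₂] at h2
  exact h2

/-- **every automorphism of the central quotient of the special unitary group is induced by a
semilinear isometry** -/
theorem aut_SUg (α : MulAut (PGq φ ι)) :
    ∃ (σ : F ≃+* F) (g : Matrix ι ι F) (hg : IsU φ g), ∀ s : SUg ι φ,
      α (mkq φ s) = mkq φ (stdHom g hg σ (hcomm σ) s) := by
  obtain ⟨y, α', hα, hαe, hαf⟩ := exists_normal_form H p he hf hef hfe α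
  obtain ⟨σ, g₀, hg₀, h⟩ := eq_stdHom_of_normalised H p hcomm he hf hef hfe α' hαe hαf
  refine ⟨σ, smat φ y * g₀, (smat_isU φ y).mul φ hg₀, ?_⟩
  intro s
  rw [hα, MulAut.mul_apply, h, mkq_conj]
  congr 1
  apply eq_stdHom_of_spec
  rw [smat_mul, smat_mul, Matrix.mul_assoc, ← Matrix.mul_assoc (smat φ y⁻¹), smat_inv_mul,
    Matrix.one_mul, Matrix.mul_assoc, stdHom_spec, Matrix.mul_assoc]

end final

end Cfsg.Agent.Helper2.PU
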