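import Mathlib
import Cfsg.Agent.Lib.Helper2.Psu15
import Cfsg.Agent.Lib.Helper2.PSLMapEquiv

set_option autoImplicit false
set_option linter.unusedSimpArgs false
set_option linter.unusedVariables false
set_option linter.unusedSectionVars false

/-! Automorphisms of the projective special unitary groups, part 16: the standard automorphisms
and the statement for the groups of the classification. -/

namespace Cfsg.Agent.Helper2.PU

open Matrix Cfsg.Agent.Helper11 Cfsg.Agent.Helper11.Herm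

section stdaut

variable {F : Type*} [Field F] [Finite F] {ι : Type*} [Fintype ι] [DecidableEq ι] {φ : F →+* F}

omit [Finite F] in
theorem stdHom_injective (g₀ : Matrix ι ι F) (hg₀ : IsU φ g₀) (σ : F ≃+* F)
    (hcomm : ∀ x, σ (φ x) = φ (σ x)) : Function.Injective (stdHom g₀ hg₀ σ hcomm) := by
  rw [injective_iff_map_eq_one]
  intro s hs
  have h1 := stdHom_spec g₀ hg₀ σ hcomm s
  rw [hs, smat_one, Matrix.one_mul] at h1
  have h2 : (smat φ s).map σ = 1 := by
    have := congrArg (fun M => adjU φ g₀ * M) h1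
    rw [← Matrix.mul_assoc, adjU_mul_self hg₀, Matrix.one_mul] at this
    exact this.symm
  apply sug_ext
  rw [smat_one]
  ext i j
  have h3 := congrFun (congrFun h2 i) j
  rw [Matrix.map_apply] at h3
  apply σ.injective
  rw [h3, Matrix.one_apply]
  split_ifs <;> simp

/-- the standard automorphism of the special unitary group -/
noncomputable def stdAut (g₀ : Matrix ι ι F) (hg₀ : IsU φ g₀) (σ : F ≃+* F)
    (hcomm : ∀ x, σ (φ x) = φ (σ x)) : MulAut (SUg ι φ) :=
  MulEquiv.ofBijective (stdHom g₀ hg₀ σ hcomm)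
    ⟨stdHom_injective g₀ hg₀ σ hcomm,
      Finite.injective_iff_surjective.1 (stdHom_injective g₀ hg₀ σ hcomm)⟩

theorem stdAut_apply (g₀ : Matrix ι ι F) (hg₀ : IsU φ g₀) (σ : F ≃+* F)
    (hcomm : ∀ x, σ (φ x) = φ (σ x)) (s : SUg ι φ) :
    stdAut g₀ hg₀ σ hcomm s = stdHom g₀ hg₀ σ hcomm s := rfl

/-- the standard automorphism of the central quotient -/
noncomputable def stdAutQ (g₀ : Matrix ι ι F) (hg₀ : IsU φ g₀) (σ : F ≃+* F)
    (hcomm : ∀ x, σ (φ x) = φ (σ x)) : MulAut (PGq φ ι) :=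
  Cfsg.Agent.Helper2.quotientCenterCongr (stdAut g₀ hg₀ σ hcomm)

theorem stdAutQ_mk (g₀ : Matrix ι ι F) (hg₀ : IsU φ g₀) (σ : F ≃+* F)
    (hcomm : ∀ x, σ (φ x) = φ (σ x)) (s : SUg ι φ) :
    stdAutQ g₀ hg₀ σ hcomm (mkq φ s) = mkq φ (stdHom g₀ hg₀ σ hcomm s) := rfl

omit [Finite F] in
theorem adjU_one : adjU φ (1 : Matrix ι ι F) = 1 := by
  unfold adjU
  have : (1 : Matrix ι ι F).map φ = 1 := by
    ext i j
    simp only [Matrix.map_apply, Matrix.one_apply]
    split_ifs <;> simp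
  rw [this, Matrix.transpose_one]

end stdaut

section general

variable {F : Type*} [Field F] [Finite F] {ι : Type*} [Fintype ι] [DecidableEq ι] {φ : F →+* F}

/-- the main theorem for a subgroup equal to the special unitary group -/
theorem aut_general (H : HypU φ ι) (p : ℕ) [Fact p.Prime] [CharP F p]
    (hcomm : ∀ (σ : F ≃+* F) (x : F), σ (φ x) = φ (σ x))
    (S : Subgroup (Matrix.SpecialLinearGroup ι F)) (hS : S = SUg ι φ)
    (β : MulAut (S ⧸ Subgroup.center S)) :
    ∃ (σ : F ≃+* F) (g : Matrix ι ι F) (ψ : MulAut (S ⧸ Subgroup.center S)), IsU φ g ∧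
      (∀ s s' : S, ((s' : Matrix.SpecialLinearGroup ι F) : Matrix ι ι F) =
          ((s : Matrix.SpecialLinearGroup ι F) : Matrix ι ι F).map σ →
        ψ (QuotientGroup.mk s) = QuotientGroup.mk s') ∧
      (∀ s s' : S, ((s' : Matrix.SpecialLinearGroup ι F) : Matrix ι ι F) =
          g * ((s : Matrix.SpecialLinearGroup ι F) : Matrix ι ι F) * adjU φ g →
        (β * ψ⁻¹) (QuotientGroup.mk s) = QuotientGroup.mk s') ∧
      (∀ s s' : S, ((s' : Matrix.SpecialLinearGroup ι F) : Matrix ι ι F) =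
          g * ((s : Matrix.SpecialLinearGroup ι F) : Matrix ι ι F).map σ * adjU φ g →
        β (QuotientGroup.mk s) = QuotientGroup.mk s') := by
  subst hS
  have hφφ := H.hφφ
  obtain ⟨e, he0, he⟩ := exists_isotropic φ H.hN1 H.hcard
  obtain ⟨f, hf, hef, hfe⟩ := H.exists_partner he0 he
  obtain ⟨σ, g, hg, hβ⟩ := aut_SUg H p hcomm he hf hef hfe β
  refine ⟨σ, g, stdAutQ 1 (isU_one φ) σ (hcomm σ), hg, ?_, ?_, ?_⟩
  · intro s s' h
    have h1 : s' = stdHom 1 (isU_one φ) σ (hcomm σ) s := by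
      apply eq_stdHom_of_spec
      rw [Matrix.mul_one, Matrix.one_mul]
      exact h
    rw [h1]
    rfl
  · intro s s' h
    obtain ⟨s₀, hs₀⟩ := (stdAut 1 (isU_one φ) σ (hcomm σ)).surjective s
    have h1 : (stdAutQ 1 (isU_one φ) σ (hcomm σ))⁻¹ (mkq φ s) = mkq φ s₀ := by
      rw [MulAut.inv_apply, MulEquiv.symm_apply_eq, stdAutQ_mk, ← stdAut_apply, hs₀]
    have h2 : smat φ s = (smat φ s₀).map σ := by
      rw [← hs₀, stdAut_apply, smat_stdHom, adjU_one, Matrix.one_mul, Matrix.mul_one]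
    rw [MulAut.mul_apply]
    change β ((stdAutQ 1 (isU_one φ) σ (hcomm σ))⁻¹ (mkq φ s)) = mkq φ s'
    rw [h1, hβ]
    congr 1
    apply sug_ext
    rw [smat_stdHom, ← h2]
    exact h.symm
  · intro s s' h
    change β (mkq φ s) = mkq φ s'
    rw [hβ]
    congr 1
    apply sug_ext
    rw [smat_stdHom]
    exact h.symm

end general

end Cfsg.Agent.Helper2.PU
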