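import Mathlib
import Cfsg.Agent.Lib.Helper2.Psu16

set_option autoImplicit false
set_option linter.unusedSimpArgs false
set_option linter.unusedVariables false
set_option linter.unusedSectionVars false

/-! Automorphisms of the projective special unitary groups, part 17: the standing hypotheses for
the finite unitary groups of the classification. -/

namespace Cfsg.Agent.Helper2.PU

open Matrix Cfsg.Agent.Helper11 Cfsg.Agent.Helper11.Herm

section finitefield

variable {F : Type*} [Field F] [Fintype F] {q : ℕ}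

/-- an element of the norm-one group whose `k`-th power is not one -/
theorem exists_norm_one_pow_ne (hF : Fintype.card F = q ^ 2) {k : ℕ} (hk0 : 0 < k)
    (hk : k < q + 1) : ∃ l : F, l * l ^ q = 1 ∧ l ^ k ≠ 1 := by
  have hq := two_le_q hF
  obtain ⟨ζ, hζ⟩ := IsCyclic.exists_generator (α := Fˣ)
  have hζo : orderOf ζ = (q + 1) * (q - 1) := by
    rw [orderOf_eq_card_of_forall_mem_zpowers hζ, card_units_eq hF, sq_sub_one q (by omega)]
  obtain ⟨x, hx⟩ : ∃ x : Fˣ, x = ζ ^ (q - 1) := ⟨_, rfl⟩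
  have hxo : orderOf x = q + 1 := by
    rw [hx, orderOf_pow, hζo, Nat.gcd_eq_right (Dvd.intro_left _ rfl),
      Nat.mul_div_cancel _ (by omega)]
  refine ⟨(x : F), ?_, ?_⟩
  · have : x ^ (q + 1) = 1 := by rw [← hxo]; exact pow_orderOf_eq_one x
    have := congrArg Units.val this
    rw [Units.val_pow_eq_pow_val, Units.val_one, pow_succ, mul_comm] at this
    exact this
  · intro h
    have h2 : x ^ k = 1 := by
      apply Units.ext
      rw [Units.val_pow_eq_pow_val, Units.val_one]
      exact h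
    have := orderOf_dvd_of_pow_eq_one h2
    rw [hxo] at this
    have := Nat.le_of_dvd hk0 this
    omega

/-- the standing hypotheses hold for the unitary groups of the classification -/
theorem hypU_of_card (hF : Fintype.card F = q ^ 2) (φ : F →+* F) (hφ : ∀ x, φ x = x ^ q) {n : ℕ}
    (hn : 3 ≤ n) (h : ¬ (n = 3 ∧ q = 2)) : HypU φ (Fin n) := by
  have hφφ := frob_frob hF φ hφ
  have hN1 := frob_norm_surj hF φ hφ
  have hN2 := frob_trace_ne_zero hF φ hφ
  have hφid := frob_ne_id hF φ hφ
  have hq2 := two_le_q hF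
  have hq3 : n = 3 → 3 ≤ q := by
    intro hn3
    by_contra hq
    apply h
    exact ⟨hn3, by omega⟩
  have hcase : 4 ≤ Fintype.card (Fin n) ∨ ∃ w : F, φ w = w ∧ w ≠ 0 ∧ w ≠ 1 := by
    rw [Fintype.card_fin]
    by_cases h4 : 4 ≤ n
    · exact Or.inl h4
    · right
      have hn3 : n = 3 := by omega
      have hc := card_fixed_ne_zero hF
      have : Nontrivial {c : F // c ≠ 0 ∧ c ^ q = c} := by
        rw [← Finite.one_lt_card_iff_nontrivial, hc]
        have := hq3 hn3
        omega
      obtain ⟨w, hw⟩ := exists_ne (⟨1, one_ne_zero, one_pow q⟩ : {c : F // c ≠ 0 ∧ c ^ q = c})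
      exact ⟨w.1, by rw [hφ]; exact w.2.2, w.2.1, fun h => hw (Subtype.ext h)⟩
  have hgen : ∀ M : Matrix (Fin n) (Fin n) F, IsU φ M → M.det = 1 → M ∈ TM φ :=
    fun M hM hd => mem_TM_of_isU_of_det φ hφid hφφ hN1 hcase ⟨0, by omega⟩ M hM hd
  refine ⟨⟨hφid, hφφ, hN1, hN2, by rw [Fintype.card_fin]; exact hn, hgen⟩, ?_, ?_⟩
  · obtain ⟨l, hl1, hl2⟩ := exists_norm_one_pow_ne hF (k := 2) (by norm_num) (by omega)
    exact ⟨l, by rw [hφ]; exact hl1, hl2⟩
  · intro h3
    rw [Fintype.card_fin] at h3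
    have := hq3 h3
    obtain ⟨l, hl1, hl2⟩ := exists_norm_one_pow_ne hF (k := 3) (by norm_num) (by omega)
    exact ⟨l, by rw [hφ]; exact hl1, hl2⟩

omit [Fintype F] in
theorem frob_comm (φ : F →+* F) (hφ : ∀ x, φ x = x ^ q) (σ : F ≃+* F) (x : F) :
    σ (φ x) = φ (σ x) := by
  rw [hφ, hφ, map_pow]

end finitefield

end Cfsg.Agent.Helper2.PU
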