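import Mathlib
import Cfsg.Agent.Lib.Helper2.Psu17

set_option autoImplicit false
set_option linter.unusedSimpArgs false
set_option linter.unusedVariables false
set_option linter.unusedSectionVars false

/-! Automorphisms of the projective special unitary groups, part 18: composition of standard
automorphisms, and the kernel of the action. -/

namespace Cfsg.Agent.Helper2.PU

open Matrix Cfsg.Agent.Helper11 Cfsg.Agent.Helper11.Herm

section comp

variable {F : Type*} [Field F] [Finite F] {ι : Type*} [Fintype ι] [DecidableEq ι] {φ : F →+* F}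
  (hcomm : ∀ (σ : F ≃+* F) (x : F), σ (φ x) = φ (σ x))

omit [Finite F] in
theorem map_map_ringEquiv (σ σ' : F ≃+* F) (M : Matrix ι ι F) :
    (M.map σ').map σ = M.map (σ * σ' : F ≃+* F) := by
  ext i j
  rfl

omit [Finite F] in
theorem stdHom_comp {g g' : Matrix ι ι F} (hg : IsU φ g) (hg' : IsU φ g') (σ σ' : F ≃+* F)
    (s : SUg ι φ) :
    stdHom g hg σ (hcomm σ) (stdHom g' hg' σ' (hcomm σ') s) =
      stdHom (g * g'.map σ) (hg.mul φ (isU_map σ (hcomm σ) hg')) (σ * σ') (hcomm (σ * σ')) s := by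
  apply eq_stdHom_of_spec
  rw [smat_stdHom, Matrix.mul_assoc, ← Matrix.mul_assoc (adjU φ g), adjU_mul_self hg,
    Matrix.one_mul, Matrix.mul_assoc, ← map_mul_ringEquiv, stdHom_spec, map_mul_ringEquiv,
    map_map_ringEquiv, Matrix.mul_assoc]

theorem stdAutQ_mul {g g' : Matrix ι ι F} (hg : IsU φ g) (hg' : IsU φ g') (σ σ' : F ≃+* F) :
    stdAutQ g hg σ (hcomm σ) * stdAutQ g' hg' σ' (hcomm σ') =
      stdAutQ (g * g'.map σ) (hg.mul φ (isU_map σ (hcomm σ) hg')) (σ * σ') (hcomm (σ * σ')) := by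
  ext x
  obtain ⟨s, rfl⟩ := mkq_surjective x
  rw [MulAut.mul_apply, stdAutQ_mk, stdAutQ_mk, stdAutQ_mk, stdHom_comp hcomm]

omit [Finite F] in
theorem stdHom_one (s : SUg ι φ) :
    stdHom (1 : Matrix ι ι F) (isU_one φ) (1 : F ≃+* F) (hcomm 1) s = s := by
  symm
  apply eq_stdHom_of_spec
  rw [Matrix.mul_one, Matrix.one_mul]
  ext i j
  rfl

theorem stdAutQ_one :
    stdAutQ (1 : Matrix ι ι F) (isU_one φ) (1 : F ≃+* F) (hcomm 1) = 1 := by
  ext x
  obtain ⟨s, rfl⟩ := mkq_surjective x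
  rw [stdAutQ_mk, stdHom_one hcomm, MulAut.one_apply]

theorem stdAutQ_congr {g g' : Matrix ι ι F} (hg : IsU φ g) (hg' : IsU φ g') {σ σ' : F ≃+* F}
    (h1 : g = g') (h2 : σ = σ') :
    stdAutQ g hg σ (hcomm σ) = stdAutQ g' hg' σ' (hcomm σ') := by
  subst h1 h2
  rfl

/-- inner automorphisms are standard -/
theorem stdAutQ_smat (y : SUg ι φ) :
    stdAutQ (smat φ y) (smat_isU φ y) (1 : F ≃+* F) (hcomm 1) = MulAut.conj (mkq φ y) := by
  ext x
  obtain ⟨s, rfl⟩ := mkq_surjective x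
  rw [stdAutQ_mk, mkq_conj]
  congr 1
  symm
  apply eq_stdHom_of_spec
  rw [smat_mul, smat_mul, Matrix.mul_assoc, smat_inv_mul, Matrix.mul_one]
  congr 1

end comp

end Cfsg.Agent.Helper2.PU
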