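import Mathlib
import Cfsg.Agent.Lib.Helper2.Psu18

set_option autoImplicit false
set_option linter.unusedSimpArgs false
set_option linter.unusedVariables false
set_option linter.unusedSectionVars false

/-! Automorphisms of the projective special unitary groups, part 19: a standard automorphism
is trivial only if the field automorphism is trivial and the matrix is scalar. -/

namespace Cfsg.Agent.Helper2.PU

open Matrix Cfsg.Agent.Helper11 Cfsg.Agent.Helper11.Herm

section kernel

variable {F : Type*} [Field F] [Finite F] {ι : Type*} [Fintype ι] [DecidableEq ι] {φ : F →+* F}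
  (H : HypU φ ι) (p : ℕ) [Fact p.Prime] [CharP F p]
  (hcomm : ∀ (σ : F ≃+* F) (x : F), σ (φ x) = φ (σ x))
  {e f : ι → F} (he : hdot φ e e = 0)
  (hf : hdot φ f f = 0) (hef : hdot φ e f = 1) (hfe : hdot φ f e = 1)

include H he hf hef hfe

include p in
theorem stdHom_tvG_of_eq_one {g : Matrix ι ι F} (hg : IsU φ g) (σ : F ≃+* F)
    (h : stdAutQ g hg σ (hcomm σ) = 1) {v : ι → F} (hv : hdot φ v v = 0) {c : F}
    (hc : c + φ c = 0) :
    stdHom g hg σ (hcomm σ) (tvG φ v c) = tvG φ v c := by
  have h1 : mkq φ (stdHom g hg σ (hcomm σ) (tvG φ v c)) = mkq φ (tvG φ v c) := by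
    rw [← stdAutQ_mk, h, MulAut.one_apply]
  have hv' : hdot φ (semiMap g σ v) (semiMap g σ v) = 0 := by
    rw [semiMap_hdot hg σ (hcomm σ), hv, map_zero]
  have hc' : σ c + φ (σ c) = 0 := by rw [← hcomm, ← map_add, hc, map_zero]
  refine mkq_inj_of_pow H p he hf hef hfe (a := 2) (b := 2) ?_ ?_ h1
  · rw [stdHom_tvG H.hφφ g hg σ (hcomm σ) hv hc]
    exact pow_of_mem_rootGroup H p he hv' (tvG_mem_rootGroup φ H.hφφ hv' hc')
  · exact pow_of_mem_rootGroup H p he hv (tvG_mem_rootGroup φ H.hφφ hv hc)

include p in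
/-- a semilinear isometry inducing the trivial automorphism fixes every isotropic point -/
theorem semiMap_isotropic_of_eq_one {g : Matrix ι ι F} (hg : IsU φ g) (σ : F ≃+* F)
    (h : stdAutQ g hg σ (hcomm σ) = 1) {v : ι → F} (hv : hdot φ v v = 0) (hv0 : v ≠ 0) :
    ∃ l : F, semiMap g σ v = l • v := by
  obtain ⟨c, hc0, hc⟩ := H.exists_trace_zero
  obtain ⟨y, hy⟩ := exists_hdot_ne_zero H.hφφ hv0
  have h1 := stdHom_smul_semiMap g hg σ (hcomm σ) (tvG φ v c) y
  rw [stdHom_tvG_of_eq_one H p hcomm he hf hef hfe hg σ h hv hc, tvG_smul φ H.hφφ hv hc,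
    tvG_smul φ H.hφφ hv hc, semiMap_add, semiMap_smul] at h1
  have h2 : (c * hdot φ (semiMap g σ y) v) • v = σ (c * hdot φ y v) • semiMap g σ v :=
    add_left_cancel h1
  have h3 : σ (c * hdot φ y v) ≠ 0 := by
    rw [Ne, EmbeddingLike.map_eq_zero_iff]
    exact mul_ne_zero hc0 hy
  refine ⟨(σ (c * hdot φ y v))⁻¹ * (c * hdot φ (semiMap g σ y) v), ?_⟩
  rw [mul_smul, h2, smul_smul, inv_mul_cancel₀ h3, one_smul]

include p in
/-- **kernel of the standard automorphism construction** -/
theorem of_stdAutQ_eq_one {g : Matrix ι ι F} (hg : IsU φ g) (σ : F ≃+* F)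
    (h : stdAutQ g hg σ (hcomm σ) = 1) : σ = 1 ∧ ∃ c : F, g = c • (1 : Matrix ι ι F) := by
  have he0 : e ≠ 0 := by
    rintro rfl
    rw [hdot_zero_left] at hef
    exact zero_ne_one hef
  have hf0 : f ≠ 0 := by
    rintro rfl
    rw [hdot_zero_left] at hfe
    exact zero_ne_one hfe
  obtain ⟨le, hle⟩ := semiMap_isotropic_of_eq_one H p hcomm he hf hef hfe hg σ h he he0
  obtain ⟨lf, hlf⟩ := semiMap_isotropic_of_eq_one H p hcomm he hf hef hfe hg σ h hf hf0
  have hlef : le * φ lf = 1 := by
    have := semiMap_hdot hg σ (hcomm σ) e f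
    rw [hle, hlf, hdot_smul_left, hdot_smul_right, hef, mul_one, map_one] at this
    exact this
  have hle0 : le ≠ 0 := left_ne_zero_of_mul_eq_one hlef
  have hlf0 : lf ≠ 0 := by
    have : φ lf ≠ 0 := right_ne_zero_of_mul_eq_one hlef
    intro h0
    rw [h0, map_zero] at this
    exact this rfl
  -- the key computation on `W`
  have key : ∀ (w : ι → F) (a : F), InW φ e f w → a + φ a + hdot φ w w = 0 →
      semiMap g σ w = le • w ∧ le * a = σ a * lf := by
    intro w a hw ha
    obtain ⟨v, hvdef⟩ : ∃ v, v = e + a • f + w := ⟨_, rfl⟩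
    have hvv : hdot φ v v = 0 := by
      have h1 : v = (1 : F) • e + a • f + w := by rw [hvdef, one_smul]
      rw [h1, hdot_decomp H.hφφ he hf hef hfe hw hw, map_one, mul_one]
      linear_combination ha
    have hvf : hdot φ v f = 1 := by
      rw [hvdef, hdot_add_left, hdot_add_left, hdot_smul_left, hef, hf, hw.2]
      ring
    have hve : hdot φ v e = a := by
      rw [hvdef, hdot_add_left, hdot_add_left, hdot_smul_left, he, hfe, hw.1]
      ring
    have hv0 : v ≠ 0 := by
      rintro h0
      rw [h0, hdot_zero_left] at hvf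
      exact zero_ne_one hvf
    obtain ⟨lv, hlv⟩ := semiMap_isotropic_of_eq_one H p hcomm he hf hef hfe hg σ h hvv hv0
    have hTw1 : hdot φ (semiMap g σ w) e = 0 := by
      have := semiMap_hdot hg σ (hcomm σ) w e
      rw [hle, hdot_smul_right, hw.1, map_zero] at this
      rcases mul_eq_zero.1 this with h0 | h0
      · exfalso
        apply hle0
        have := congrArg φ h0
        rw [H.hφφ, map_zero] at this
        exact this
      · exact h0
    have hTw2 : hdot φ (semiMap g σ w) f = 0 := by
      have := semiMap_hdot hg σ (hcomm σ) w f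
      rw [hlf, hdot_smul_right, hw.2, map_zero] at this
      rcases mul_eq_zero.1 this with h0 | h0
      · exfalso
        apply hlf0
        have := congrArg φ h0
        rw [H.hφφ, map_zero] at this
        exact this
      · exact h0
    have hT : semiMap g σ v = le • e + (σ a * lf) • f + semiMap g σ w := by
      rw [hvdef, semiMap_add, semiMap_add, semiMap_smul, hle, hlf, smul_smul]
    have e1 : lv = le := by
      have := congrArg (fun x => hdot φ x f) hlv
      rw [hT, hdot_smul_left, hvf, hdot_add_left, hdot_add_left, hdot_smul_left, hdot_smul_left,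
        hef, hf, hTw2] at this
      linear_combination -this
    have e2 : lv * a = σ a * lf := by
      have := congrArg (fun x => hdot φ x e) hlv
      rw [hT, hdot_smul_left, hve, hdot_add_left, hdot_add_left, hdot_smul_left, hdot_smul_left,
        he, hfe, hTw1] at this
      linear_combination -this
    refine ⟨?_, by rw [← e1]; exact e2⟩
    have h5 : le • e + (σ a * lf) • f + semiMap g σ w = lv • (e + a • f + w) := by
      rw [← hT, hlv, hvdef]
    rw [e1, ← e2, e1] at h5
    have h6 : semiMap g σ w = le • (e + a • f + w) - (le • e + (le * a) • f) := by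
      rw [← h5]
      abel
    rw [h6, smul_add, smul_add, smul_smul]
    abel
  -- `σ = 1`
  obtain ⟨d, hdW, hdd, hd0⟩ := exists_inW_ne_zero H.toHyp he hf hef
  have hσ : σ = 1 := by
    ext μ
    obtain ⟨a, ha⟩ := H.exists_siegel_param (μ • d)
    obtain ⟨a', ha'⟩ := H.exists_siegel_param d
    have h1 := (key (μ • d) a (hdW.smul μ) ha).1
    have h2 := (key d a' hdW ha').1
    rw [semiMap_smul, h2, smul_smul, smul_smul] at h1
    have h3 : (σ μ * le - le * μ) • d = 0 := by
      rw [sub_smul, h1, sub_self]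
    rcases smul_eq_zero.1 h3 with h4 | h4
    · have h5 : (σ μ - μ) * le = 0 := by linear_combination h4
      rcases mul_eq_zero.1 h5 with h6 | h6
      · rw [RingAut.one_apply]
        exact sub_eq_zero.1 h6
      · exact absurd h6 hle0
    · exact absurd h4 hd0
  refine ⟨hσ, le, ?_⟩
  obtain ⟨t, ht0, ht⟩ := H.exists_trace_zero
  have hlelf : le = lf := by
    have := (key 0 t InW.zero (by rw [hdot_zero_left, add_zero, ht])).2
    rw [hσ, RingAut.one_apply] at this
    have h2 : t * (le - lf) = 0 := by linear_combination this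
    rcases mul_eq_zero.1 h2 with h3 | h3
    · exact absurd h3 ht0
    · exact sub_eq_zero.1 h3
  rw [Matrix.ext_iff_mulVec]
  intro x
  have hx := eq_decomp (φ := φ) e f x
  obtain ⟨w, hwdef⟩ : ∃ w, w = x - hdot φ x f • e - hdot φ x e • f := ⟨_, rfl⟩
  have hwW : InW φ e f w := by
    constructor
    · rw [hwdef, hdot_sub_left, hdot_sub_left, hdot_smul_left, hdot_smul_left, he, hfe]
      ring
    · rw [hwdef, hdot_sub_left, hdot_sub_left, hdot_smul_left, hdot_smul_left, hef, hf]
      ring
  obtain ⟨a, ha⟩ := H.exists_siegel_param w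
  have hTw := (key w a hwW ha).1
  have hT : semiMap g σ x = le • x := by
    rw [hx, ← hwdef, semiMap_add, semiMap_add, semiMap_smul, semiMap_smul, hle, hlf, hTw, hσ,
      RingAut.one_apply, RingAut.one_apply, ← hlelf]
    simp only [smul_add, smul_smul]
    rw [mul_comm le, mul_comm le]
  have hT2 : semiMap g σ x = g *ᵥ x := by
    unfold semiMap
    rw [hσ]
    rfl
  rw [← hT2, hT, Matrix.smul_mulVec, Matrix.one_mulVec]

end kernel

end Cfsg.Agent.Helper2.PU
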