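import Mathlib
import Cfsg.Agent.Lib.Helper2.Psu19
import Cfsg.Agent.Lib.Helper2.OutCongr

set_option autoImplicit false
set_option linter.unusedSimpArgs false
set_option linter.unusedVariables false
set_option linter.unusedSectionVars false

/-! Automorphisms of the projective special unitary groups, part 20: the structure of the
automorphism group: the field-automorphism character and the diagonal automorphisms. -/

namespace Cfsg.Agent.Helper2.PU

open Matrix Cfsg.Agent.Helper11 Cfsg.Agent.Helper11.Herm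

section prelim

variable {F : Type*} [Field F] [Finite F] {ι : Type*} [Fintype ι] [DecidableEq ι] {φ : F →+* F}
  (hcomm : ∀ (σ : F ≃+* F) (x : F), σ (φ x) = φ (σ x))

omit [Finite F] in
theorem map_one_ringAut (M : Matrix ι ι F) : M.map (1 : F ≃+* F) = M := by
  ext i j
  rfl

theorem stdAutQ_inv {g : Matrix ι ι F} (hg : IsU φ g) (σ : F ≃+* F) :
    (stdAutQ g hg σ (hcomm σ))⁻¹ =
      stdAutQ ((adjU φ g).map (σ⁻¹ : F ≃+* F)) (isU_map _ (hcomm σ⁻¹) (isU_adjU hg))
        (σ⁻¹ : F ≃+* F) (hcomm σ⁻¹) := by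
  rw [inv_eq_iff_mul_eq_one, stdAutQ_mul hcomm, ← stdAutQ_one hcomm]
  apply stdAutQ_congr hcomm
  · rw [map_map_ringEquiv, mul_inv_cancel, map_one_ringAut, self_mul_adjU hg]
  · exact mul_inv_cancel σ

/-- scalar multiples induce the same automorphism -/
theorem stdAutQ_smul {g : Matrix ι ι F} (hg : IsU φ g) (c : F) (hcg : IsU φ (c • g))
    (σ : F ≃+* F) :
    stdAutQ (c • g) hcg σ (hcomm σ) = stdAutQ g hg σ (hcomm σ) := by
  ext x
  obtain ⟨s, rfl⟩ := mkq_surjective x
  rw [stdAutQ_mk, stdAutQ_mk]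
  congr 1
  symm
  apply eq_stdHom_of_spec
  rw [Matrix.mul_smul, Matrix.smul_mul, stdHom_spec]

/-- the unitary group acts on the central quotient of the special unitary group -/
noncomputable def psiU : UG ι φ →* MulAut (PGq φ ι) where
  toFun g := stdAutQ ((g : GL ι F) : Matrix ι ι F) g.2 (1 : F ≃+* F) (hcomm 1)
  map_one' := stdAutQ_one hcomm
  map_mul' a b := by
    refine Eq.trans ?_ (stdAutQ_mul hcomm a.2 b.2 1 1).symm
    apply stdAutQ_congr hcomm
    · rw [map_one_ringAut]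
      rfl
    · exact (mul_one _).symm

theorem psiU_apply (g : UG ι φ) :
    psiU hcomm g = stdAutQ ((g : GL ι F) : Matrix ι ι F) g.2 (1 : F ≃+* F) (hcomm 1) := rfl

/-- the unitary group element attached to a unitary matrix -/
def toUG {g : Matrix ι ι F} (hg : IsU φ g) : UG ι φ :=
  ⟨⟨g, adjU φ g, self_mul_adjU hg, adjU_mul_self hg⟩, hg⟩

omit [Finite F] in
theorem toUG_val {g : Matrix ι ι F} (hg : IsU φ g) :
    (((toUG hg : UG ι φ) : GL ι F) : Matrix ι ι F) = g := rfl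

theorem psiU_toUG {g : Matrix ι ι F} (hg : IsU φ g) :
    psiU hcomm (toUG hg) = stdAutQ g hg (1 : F ≃+* F) (hcomm 1) := rfl

theorem conj_mkq_eq_psiU (y : SUg ι φ) :
    MulAut.conj (mkq φ y) = psiU hcomm (toUG (smat_isU φ y)) := by
  rw [psiU_toUG, stdAutQ_smat]

/-- the diagonal outer automorphisms -/
noncomputable def thetaU : UG ι φ →* Cfsg.Out (PGq φ ι) :=
  (QuotientGroup.mk' (Cfsg.Inn (PGq φ ι))).comp (psiU hcomm)

theorem thetaU_apply (g : UG ι φ) :
    thetaU hcomm g = QuotientGroup.mk (psiU hcomm g) := rfl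

end prelim

section autgroup

variable {F : Type*} [Field F] [Finite F] {ι : Type*} [Fintype ι] [DecidableEq ι] {φ : F →+* F}
  (H : HypU φ ι) (p : ℕ) [Fact p.Prime] [CharP F p]
  (hcomm : ∀ (σ : F ≃+* F) (x : F), σ (φ x) = φ (σ x))

include H p

theorem exists_stdAutQ (α : MulAut (PGq φ ι)) :
    ∃ (σ : F ≃+* F) (g : Matrix ι ι F) (hg : IsU φ g), α = stdAutQ g hg σ (hcomm σ) := by
  obtain ⟨e, he0, he⟩ := exists_isotropic φ H.hN1 H.hcard
  obtain ⟨f, hf, hef, hfe⟩ := H.exists_partner he0 he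
  obtain ⟨σ, g, hg, hα⟩ := aut_SUg H p hcomm he hf hef hfe α
  refine ⟨σ, g, hg, ?_⟩
  ext x
  obtain ⟨s, rfl⟩ := mkq_surjective x
  rw [hα, stdAutQ_mk]

/-- uniqueness of the standard form -/
theorem stdAutQ_eq {g g' : Matrix ι ι F} (hg : IsU φ g) (hg' : IsU φ g') {σ σ' : F ≃+* F}
    (h : stdAutQ g hg σ (hcomm σ) = stdAutQ g' hg' σ' (hcomm σ')) :
    σ = σ' ∧ ∃ c : F, g = c • g' := by
  obtain ⟨e, he0, he⟩ := exists_isotropic φ H.hN1 H.hcard
  obtain ⟨f, hf, hef, hfe⟩ := H.exists_partner he0 he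
  have h1 : stdAutQ g hg σ (hcomm σ) * (stdAutQ g' hg' σ' (hcomm σ'))⁻¹ = 1 := by
    rw [h, mul_inv_cancel]
  rw [stdAutQ_inv hcomm, stdAutQ_mul hcomm] at h1
  obtain ⟨hσ, c, hc⟩ := of_stdAutQ_eq_one H p hcomm he hf hef hfe _ _ h1
  have hσ' : σ = σ' := mul_inv_eq_one.1 hσ
  refine ⟨hσ', c, ?_⟩
  rw [map_map_ringEquiv, hσ, map_one_ringAut] at hc
  calc g = g * (adjU φ g' * g') := by rw [adjU_mul_self hg', Matrix.mul_one]
    _ = (g * adjU φ g') * g' := by rw [Matrix.mul_assoc]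
    _ = c • g' := by rw [hc, Matrix.smul_mul, Matrix.one_mul]

/-- the field automorphism of an automorphism, as a function -/
noncomputable def piFun (α : MulAut (PGq φ ι)) : F ≃+* F :=
  Classical.choose (exists_stdAutQ H p hcomm α)

theorem piFun_spec (α : MulAut (PGq φ ι)) :
    ∃ (g : Matrix ι ι F) (hg : IsU φ g),
      α = stdAutQ g hg (piFun H p hcomm α) (hcomm (piFun H p hcomm α)) :=
  Classical.choose_spec (exists_stdAutQ H p hcomm α)

theorem piFun_stdAutQ {g : Matrix ι ι F} (hg : IsU φ g) (σ : F ≃+* F) :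
    piFun H p hcomm (stdAutQ g hg σ (hcomm σ)) = σ := by
  obtain ⟨g', hg', h⟩ := piFun_spec H p hcomm (stdAutQ g hg σ (hcomm σ))
  exact (stdAutQ_eq H p hcomm hg hg' h).1.symm

/-- the field automorphism of an automorphism -/
noncomputable def piAut : MulAut (PGq φ ι) →* (F ≃+* F) :=
  MonoidHom.mk' (piFun H p hcomm) (by
    intro α β
    obtain ⟨g, hg, h⟩ := piFun_spec H p hcomm α
    obtain ⟨g', hg', h'⟩ := piFun_spec H p hcomm β
    have h2 := stdAutQ_mul hcomm hg hg' (piFun H p hcomm α) (piFun H p hcomm β)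
    rw [← h, ← h'] at h2
    rw [h2, piFun_stdAutQ])

theorem piAut_stdAutQ {g : Matrix ι ι F} (hg : IsU φ g) (σ : F ≃+* F) :
    piAut H p hcomm (stdAutQ g hg σ (hcomm σ)) = σ :=
  piFun_stdAutQ H p hcomm hg σ

theorem piAut_spec (α : MulAut (PGq φ ι)) :
    ∃ (g : Matrix ι ι F) (hg : IsU φ g),
      α = stdAutQ g hg (piAut H p hcomm α) (hcomm (piAut H p hcomm α)) :=
  piFun_spec H p hcomm α

theorem piAut_surjective : Function.Surjective (piAut H p hcomm) := by
  intro σ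
  exact ⟨stdAutQ (1 : Matrix ι ι F) (isU_one φ) σ (hcomm σ), piAut_stdAutQ H p hcomm _ σ⟩

theorem ker_piAut : (piAut H p hcomm).ker = (psiU hcomm).range := by
  ext α
  rw [MonoidHom.mem_ker, MonoidHom.mem_range]
  constructor
  · intro h
    obtain ⟨g, hg, hα⟩ := piAut_spec H p hcomm α
    refine ⟨toUG hg, ?_⟩
    rw [psiU_toUG, hα]
    exact stdAutQ_congr hcomm hg hg rfl h.symm
  · rintro ⟨g, rfl⟩
    exact piAut_stdAutQ H p hcomm g.2 1

theorem inn_le_ker_piAut : Cfsg.Inn (PGq φ ι) ≤ (piAut H p hcomm).ker := by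
  rintro _ ⟨x, rfl⟩
  obtain ⟨y, rfl⟩ := mkq_surjective x
  rw [ker_piAut]
  exact ⟨_, (conj_mkq_eq_psiU hcomm y).symm⟩

/-- the field automorphism of an outer automorphism class -/
noncomputable def piOut : Cfsg.Out (PGq φ ι) →* (F ≃+* F) :=
  QuotientGroup.lift (Cfsg.Inn (PGq φ ι)) (piAut H p hcomm) (inn_le_ker_piAut H p hcomm)

theorem piOut_mk (α : MulAut (PGq φ ι)) :
    piOut H p hcomm (QuotientGroup.mk α) = piAut H p hcomm α := rfl

theorem piOut_surjective : Function.Surjective (piOut H p hcomm) := by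
  intro σ
  obtain ⟨α, hα⟩ := piAut_surjective H p hcomm σ
  exact ⟨QuotientGroup.mk α, hα⟩

theorem ker_piOut : (piOut H p hcomm).ker = (thetaU hcomm).range := by
  ext x
  obtain ⟨α, rfl⟩ := QuotientGroup.mk_surjective x
  rw [MonoidHom.mem_ker, piOut_mk, ← MonoidHom.mem_ker, ker_piAut, MonoidHom.mem_range,
    MonoidHom.mem_range]
  constructor
  · rintro ⟨g, rfl⟩
    exact ⟨g, rfl⟩
  · rintro ⟨g, hg⟩
    rw [thetaU_apply, QuotientGroup.eq] at hg
    obtain ⟨x, hx⟩ := hg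
    obtain ⟨y, rfl⟩ := mkq_surjective x
    rw [conj_mkq_eq_psiU hcomm] at hx
    refine ⟨g * toUG (smat_isU φ y), ?_⟩
    rw [map_mul, hx, mul_inv_cancel_left]

theorem thetaU_eq_one_iff (g : UG ι φ) :
    thetaU hcomm g = 1 ↔
      ∃ (y : SUg ι φ) (c : F), ((g : GL ι F) : Matrix ι ι F) = c • smat φ y := by
  rw [thetaU_apply, QuotientGroup.eq_one_iff]
  constructor
  · rintro ⟨x, hx⟩
    obtain ⟨y, rfl⟩ := mkq_surjective x
    rw [conj_mkq_eq_psiU hcomm, psiU_toUG, psiU_apply] at hx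
    obtain ⟨-, c, hc⟩ := stdAutQ_eq H p hcomm _ _ hx.symm
    exact ⟨y, c, hc⟩
  · rintro ⟨y, c, hc⟩
    refine ⟨mkq φ y, ?_⟩
    rw [conj_mkq_eq_psiU hcomm, psiU_toUG, psiU_apply]
    have h1 : IsU φ (c • smat φ y) := by
      rw [← hc]
      exact g.2
    rw [← stdAutQ_smul hcomm (smat_isU φ y) c h1]
    exact stdAutQ_congr hcomm _ _ hc.symm rfl

include hcomm in
/-- the central quotient has trivial centre -/
theorem conj_injective :
    Function.Injective (MulAut.conj : PGq φ ι →* MulAut (PGq φ ι)) := by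
  rw [injective_iff_map_eq_one]
  intro x hx
  obtain ⟨y, rfl⟩ := mkq_surjective x
  obtain ⟨e, he0, he⟩ := exists_isotropic φ H.hN1 H.hcard
  obtain ⟨f, hf, hef, hfe⟩ := H.exists_partner he0 he
  rw [← stdAutQ_smat hcomm] at hx
  obtain ⟨-, c, hc⟩ := of_stdAutQ_eq_one H p hcomm he hf hef hfe _ _ hx
  have : mkq φ y = mkq φ 1 := by
    rw [mkq_eq_iff, mul_one, Subgroup.mem_center_iff]
    intro s
    apply sug_ext
    have h1 : smat φ y⁻¹ = c⁻¹ • (1 : Matrix ι ι F) := by
      have hc0 : c ≠ 0 := by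
        rintro rfl
        have hne : Nonempty ι := nonempty_of_hyp H
        have := smat_det φ y
        rw [hc, zero_smul, Matrix.det_zero] at this
        exact zero_ne_one this
      have h2 := smat_inv_mul φ y
      rw [hc, Matrix.mul_smul, Matrix.mul_one] at h2
      rw [← h2, smul_smul, inv_mul_cancel₀ hc0, one_smul]
    rw [smat_mul, smat_mul, h1, Matrix.mul_smul, Matrix.smul_mul, Matrix.mul_one, Matrix.one_mul]
  rw [this, map_one]

end autgroup

end Cfsg.Agent.Helper2.PU
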