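import Mathlib
import Cfsg.Agent.Lib.Helper2.Psu20
import Cfsg.Agent.Lib.Helper2.PslAut7
import Cfsg.Agent.S0783

set_option autoImplicit false
set_option linter.unusedSimpArgs false
set_option linter.unusedVariables false
set_option linter.unusedSectionVars false

/-! Automorphisms of the projective special unitary groups, part 21: the outer automorphism
group of `PSU_n(q)`. -/

namespace Cfsg.Agent.Helper2.PU

open Matrix Cfsg.Agent.Helper11 Cfsg.Agent.Helper11.Herm

section general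

variable {F : Type*} [Field F] [Finite F] {ι : Type*} [Fintype ι] [DecidableEq ι] {φ : F →+* F}

theorem out_general (H : HypU φ ι) (p : ℕ) [Fact p.Prime] [CharP F p]
    (hcomm : ∀ (σ : F ≃+* F) (x : F), σ (φ x) = φ (σ x))
    (S : Subgroup (Matrix.SpecialLinearGroup ι F)) (hS : S = SUg ι φ)
    (U : Subgroup (GL ι F)) (hU : U = UG ι φ) :
    ∃ (π : Cfsg.Out (S ⧸ Subgroup.center S) →* (F ≃+* F))
      (θ : U →* Cfsg.Out (S ⧸ Subgroup.center S)),
      Function.Surjective π ∧ π.ker = θ.range ∧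
      (∀ g : U, θ g = 1 ↔ ∃ (y : Matrix.SpecialLinearGroup ι F) (c : F), y ∈ S ∧
        ((g : GL ι F) : Matrix ι ι F) = c • (y : Matrix ι ι F)) ∧
      Function.Injective
        (MulAut.conj : S ⧸ Subgroup.center S →* MulAut (S ⧸ Subgroup.center S)) := by
  subst hS hU
  refine ⟨piOut H p hcomm, thetaU hcomm, piOut_surjective H p hcomm, ker_piOut H p hcomm, ?_,
    conj_injective H p hcomm⟩
  intro g
  rw [thetaU_eq_one_iff H p hcomm]
  constructor
  · rintro ⟨y, c, hc⟩
    exact ⟨y.1, c, y.2, hc⟩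
  · rintro ⟨y, c, hy, hc⟩
    exact ⟨⟨y, hy⟩, c, hc⟩

end general

section final

variable {F : Type*} [Field F] [Fintype F]

/-- the structure of the outer automorphism group of `PSU_n(q)` -/
theorem out_psu {p f q n : ℕ} [Fact p.Prime] (hf : 1 ≤ f)
    (hq : q = p ^ f) (hF : Fintype.card F = q ^ 2) (hn : 3 ≤ n) (h32 : ¬ (n = 3 ∧ q = 2)) :
    ∃ φ : Cfsg.Out (Cfsg.PSU n F q) →* Multiplicative (ZMod (2 * f)),
      Function.Surjective φ ∧ IsCyclic φ.ker ∧ Nat.card φ.ker = Nat.gcd n (q + 1) := by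
  classical
  obtain ⟨φ', hφ'⟩ := exists_frob hF
  have H := hypU_of_card hF φ' hφ' hn h32
  have hF' : Fintype.card F = p ^ (2 * f) := by rw [hF, hq, ← pow_mul, mul_comm]
  have hchar : CharP F p := charP_of_card_eq_prime_pow hF'
  have hSU : Cfsg.SU n F q = SUg (Fin n) φ' := by
    ext g
    rw [mem_SU_iff_isU φ' hφ', mem_SUg_iff]
  have hGU : Cfsg.GU n F q = UG (Fin n) φ' := GU_eq_UG φ' hφ' n
  obtain ⟨π, θ, hπ, hker, hθ, -⟩ := out_general H p (frob_comm φ' hφ') _ hSU _ hGU
  obtain ⟨φ₀, hφ₀, hkerφ₀⟩ := Cfsg.Agent.S0783.result hF n (by omega)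
  have hcard : Nat.card (RingAut F) = 2 * f := Cfsg.Agent.Helper2.OutCongr.card_ringEquiv hF'
  have hcyc : IsCyclic (RingAut F) := Cfsg.Agent.Helper2.PA.isCyclic_ringAut p
  obtain ⟨ε⟩ : Nonempty (RingAut F ≃* Multiplicative (ZMod (2 * f))) := by
    rw [← hcard]
    exact ⟨(zmodCyclicMulEquiv hcyc).symm⟩
  -- the kernel of `θ`
  have hkerθ : θ.ker = φ₀.ker := by
    rw [hkerφ₀]
    apply le_antisymm
    · intro g hg
      rw [MonoidHom.mem_ker, hθ] at hg
      obtain ⟨y, c, hy, hc⟩ := hg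
      have hyU : IsU φ' (y : Matrix (Fin n) (Fin n) F) := (mem_SU_iff_isU φ' hφ' n y).1 hy
      obtain ⟨y', hy'⟩ : ∃ y' : Cfsg.GU n F q, y' = Cfsg.Agent.S0783.mkGU φ' hφ' n _ hyU :=
        ⟨_, rfl⟩
      have hy'val : ((y' : GL (Fin n) F) : Matrix (Fin n) (Fin n) F) = y := by
        rw [hy']
        rfl
      obtain ⟨z, hz⟩ : ∃ z : Cfsg.GU n F q, z = g * y'⁻¹ := ⟨_, rfl⟩
      have hzy : z * y' = g := by rw [hz, inv_mul_cancel_right]
      have hzval : ((z : GL (Fin n) F) : Matrix (Fin n) (Fin n) F) = c • 1 := by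
        have h1 : ((z : GL (Fin n) F) : Matrix (Fin n) (Fin n) F) * (y : Matrix (Fin n) (Fin n) F) =
            c • (y : Matrix (Fin n) (Fin n) F) := by
          rw [← hc, ← hzy, Cfsg.Agent.S0783.GU_mul_val, hy'val]
        calc ((z : GL (Fin n) F) : Matrix (Fin n) (Fin n) F)
            = ((z : GL (Fin n) F) : Matrix (Fin n) (Fin n) F) *
                ((y : Matrix (Fin n) (Fin n) F) * adjU φ' (y : Matrix (Fin n) (Fin n) F)) := by
              rw [self_mul_adjU hyU, Matrix.mul_one]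
          _ = c • 1 := by
              rw [← Matrix.mul_assoc, h1, Matrix.smul_mul, self_mul_adjU hyU]
      have hzc : z ∈ Subgroup.center (Cfsg.GU n F q) := by
        rw [Subgroup.mem_center_iff]
        intro w
        apply Subtype.ext
        apply Units.ext
        change ((w * z : Cfsg.GU n F q) : GL (Fin n) F).val = ((z * w : Cfsg.GU n F q) : GL (Fin n) F).val
        rw [Cfsg.Agent.S0783.GU_mul_val, Cfsg.Agent.S0783.GU_mul_val, hzval, Matrix.mul_smul,
          Matrix.smul_mul, Matrix.mul_one, Matrix.one_mul]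
      have hy'd : y' ∈ (Matrix.GeneralLinearGroup.det :
          Matrix.GeneralLinearGroup (Fin n) F →* Fˣ).ker.subgroupOf (Cfsg.GU n F q) := by
        rw [Subgroup.mem_subgroupOf, MonoidHom.mem_ker]
        apply Units.ext
        rw [Matrix.GeneralLinearGroup.val_det_apply, hy'val, Units.val_one]
        exact y.2
      have hgz : g = y' * z := by
        rw [← hzy]
        exact (Subgroup.mem_center_iff.1 hzc y').symm
      rw [hgz]
      exact Subgroup.mul_mem_sup hy'd hzc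
    · apply sup_le
      · intro g hg
        rw [Subgroup.mem_subgroupOf, MonoidHom.mem_ker] at hg
        rw [MonoidHom.mem_ker, hθ]
        have hdet : ((g : GL (Fin n) F) : Matrix (Fin n) (Fin n) F).det = 1 := by
          have := congrArg Units.val hg
          rw [Matrix.GeneralLinearGroup.val_det_apply, Units.val_one] at this
          exact this
        refine ⟨mkSL _ hdet, 1, ?_, ?_⟩
        · exact (mem_SU_iff_isU φ' hφ' n (mkSL _ hdet)).2 ((mem_GU_iff_isU φ' hφ' n g).1 g.2)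
        · rw [one_smul, coe_mkSL]
      · intro z hz
        rw [MonoidHom.mem_ker, hθ]
        have hq2 := two_le_q hF
        obtain ⟨ζ, hζ1, hζ2⟩ := exists_norm_one_pow_ne hF (k := 1) one_pos (by omega)
        rw [pow_one] at hζ2
        have h1 := Cfsg.Agent.S0783.center_scalar φ' hφ' n ζ (by rw [hφ']; exact hζ1) hζ2 z hz
          ⟨0, by omega⟩
        refine ⟨1, ((z : GL (Fin n) F) : Matrix (Fin n) (Fin n) F) ⟨0, by omega⟩ ⟨0, by omega⟩,
          Subgroup.one_mem _, ?_⟩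
        rw [Matrix.SpecialLinearGroup.coe_one, Matrix.smul_one_eq_diagonal]
        exact h1
  -- assembling
  have hkerφ : (ε.toMonoidHom.comp π).ker = π.ker := by
    ext x
    simp [MonoidHom.mem_ker]
  let e1 : (Cfsg.GU n F q) ⧸ φ₀.ker ≃* Multiplicative (ZMod (Nat.gcd n (q + 1))) :=
    QuotientGroup.quotientKerEquivOfSurjective φ₀ hφ₀
  let e2 : (Cfsg.GU n F q) ⧸ θ.ker ≃* θ.range := QuotientGroup.quotientKerEquivRange θ
  let e3 : (Cfsg.GU n F q) ⧸ θ.ker ≃* (Cfsg.GU n F q) ⧸ φ₀.ker :=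
    QuotientGroup.quotientMulEquivOfEq hkerθ
  let e4 : θ.range ≃* Multiplicative (ZMod (Nat.gcd n (q + 1))) := e2.symm.trans (e3.trans e1)
  refine ⟨ε.toMonoidHom.comp π, ?_, ?_, ?_⟩
  · exact ε.surjective.comp hπ
  · rw [hkerφ, hker]
    exact isCyclic_of_surjective e4.symm.toMonoidHom e4.symm.surjective
  · rw [hkerφ, hker, Nat.card_congr e4.toEquiv, Nat.card_congr Multiplicative.toAdd, Nat.card_zmod]

/-- the order of the automorphism group of `PSU_n(q)` -/
theorem card_aut_psu {p f q n : ℕ} [Fact p.Prime] (hf : 1 ≤ f)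
    (hq : q = p ^ f) (hF : Fintype.card F = q ^ 2) (hn : 3 ≤ n) (h32 : ¬ (n = 3 ∧ q = 2)) :
    Nat.card (MulAut (Cfsg.PSU n F q)) =
      Nat.gcd n (q + 1) * (2 * f) * Nat.card (Cfsg.PSU n F q) := by
  classical
  obtain ⟨ψ, hψs, -, hψk⟩ := out_psu (F := F) hf hq hF hn h32
  obtain ⟨φ', hφ'⟩ := exists_frob hF
  have H := hypU_of_card hF φ' hφ' hn h32
  have hF' : Fintype.card F = p ^ (2 * f) := by rw [hF, hq, ← pow_mul, mul_comm]
  have hchar : CharP F p := charP_of_card_eq_prime_pow hF'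
  have hSU : Cfsg.SU n F q = SUg (Fin n) φ' := by
    ext g
    rw [mem_SU_iff_isU φ' hφ', mem_SUg_iff]
  have hGU : Cfsg.GU n F q = UG (Fin n) φ' := GU_eq_UG φ' hφ' n
  obtain ⟨-, -, -, -, -, hinj⟩ := out_general H p (frob_comm φ' hφ') _ hSU _ hGU
  have h1 := Subgroup.card_eq_card_quotient_mul_card_subgroup (Cfsg.Inn (Cfsg.PSU n F q))
  have h2 : Nat.card (Cfsg.Inn (Cfsg.PSU n F q)) = Nat.card (Cfsg.PSU n F q) :=
    (Nat.card_congr (MonoidHom.ofInjective hinj).toEquiv).symm
  have h3 := Subgroup.card_eq_card_quotient_mul_card_subgroup ψ.ker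
  have h4 : Nat.card (Cfsg.Out (Cfsg.PSU n F q) ⧸ ψ.ker) = 2 * f := by
    rw [Nat.card_congr (QuotientGroup.quotientKerEquivOfSurjective ψ hψs).toEquiv,
      Nat.card_congr Multiplicative.toAdd, Nat.card_zmod]
  rw [h1, h2, h3, h4, hψk]
  ring

end final

end Cfsg.Agent.Helper2.PU
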