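import Mathlib
import Cfsg.Agent.Lib.Helper2.Psu21
import Cfsg.Agent.Lib.Helper2.Psln18

set_option autoImplicit false
set_option linter.unusedSimpArgs false
set_option linter.unusedVariables false
set_option linter.unusedSectionVars false

/-! Field automorphisms of the unitary groups, part 23: the standard field automorphisms, the
action of the unitary group, and their commutation. -/

namespace Cfsg.Agent.Helper2.PU

open Matrix Cfsg.Agent.Helper11 Cfsg.Agent.Helper11.Herm
open Cfsg.Agent.Helper2.PN (mnorm mnorm_zero mnorm_succ)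

section fieldaut

variable {F : Type*} [Field F] [Finite F] {ι : Type*} [Fintype ι] [DecidableEq ι] {φ : F →+* F}
  (hcomm : ∀ (σ : F ≃+* F) (x : F), σ (φ x) = φ (σ x))

/-- the standard field automorphisms -/
noncomputable def phiU : RingAut F →* MulAut (PGq φ ι) where
  toFun σ := stdAutQ (1 : Matrix ι ι F) (isU_one φ) σ (hcomm σ)
  map_one' := stdAutQ_one hcomm
  map_mul' σ τ := by
    refine Eq.trans ?_ (stdAutQ_mul hcomm (isU_one φ) (isU_one φ) σ τ).symm
    apply stdAutQ_congr hcomm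
    · rw [map_one_ringEquiv, Matrix.one_mul]
    · rfl

theorem phiU_apply (σ : RingAut F) :
    phiU (ι := ι) hcomm σ = stdAutQ (1 : Matrix ι ι F) (isU_one φ) σ (hcomm σ) := rfl

theorem psiU_mul_phiU (g : UG ι φ) (σ : RingAut F) :
    psiU hcomm g * phiU hcomm σ =
      stdAutQ ((g : GL ι F) : Matrix ι ι F) g.2 σ (hcomm σ) := by
  refine Eq.trans (stdAutQ_mul hcomm g.2 (isU_one φ) 1 σ) ?_
  apply stdAutQ_congr hcomm
  · rw [map_one_ringAut, Matrix.mul_one]
  · exact one_mul σ

/-- field automorphisms acting on the unitary group -/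
def sigU (σ : RingAut F) : UG ι φ →* UG ι φ where
  toFun g := toUG (isU_map σ (hcomm σ) g.2)
  map_one' := Subtype.ext (Units.ext (map_one_ringEquiv σ))
  map_mul' a b := Subtype.ext (Units.ext (map_mul_ringEquiv σ _ _))

theorem sigU_val (σ : RingAut F) (g : UG ι φ) :
    (((sigU hcomm σ g : UG ι φ) : GL ι F) : Matrix ι ι F) =
      ((g : GL ι F) : Matrix ι ι F).map σ := rfl

theorem sigU_one (g : UG ι φ) : sigU hcomm (1 : RingAut F) g = g :=
  Subtype.ext (Units.ext (map_one_ringAut _))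

theorem sigU_mul (σ τ : RingAut F) (g : UG ι φ) :
    sigU hcomm (σ * τ) g = sigU hcomm σ (sigU hcomm τ g) :=
  Subtype.ext (Units.ext (map_map_ringEquiv σ τ _).symm)

theorem phiU_mul_psiU (σ : RingAut F) (g : UG ι φ) :
    phiU hcomm σ * psiU hcomm g = psiU hcomm (sigU hcomm σ g) * phiU hcomm σ := by
  rw [psiU_mul_phiU]
  refine Eq.trans (stdAutQ_mul hcomm (isU_one φ) g.2 σ 1) ?_
  apply stdAutQ_congr hcomm
  · rw [Matrix.one_mul]
    rfl
  · exact mul_one σ

/-- partial norms in the unitary group -/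
def gnormU (σ : RingAut F) (g : UG ι φ) : ℕ → UG ι φ
  | 0 => 1
  | (i + 1) => g * sigU hcomm σ (gnormU σ g i)

theorem gnormU_zero (σ : RingAut F) (g : UG ι φ) : gnormU hcomm σ g 0 = 1 := rfl

theorem gnormU_succ (σ : RingAut F) (g : UG ι φ) (i : ℕ) :
    gnormU hcomm σ g (i + 1) = g * sigU hcomm σ (gnormU hcomm σ g i) := rfl

theorem gnormU_val (σ : RingAut F) (g : UG ι φ) (i : ℕ) :
    (((gnormU hcomm σ g i : UG ι φ) : GL ι F) : Matrix ι ι F) =
      mnorm σ ((g : GL ι F) : Matrix ι ι F) i := by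
  induction i with
  | zero => rfl
  | succ i ih =>
    rw [gnormU_succ, mnorm_succ, ← ih]
    rfl

theorem pow_psiU_mul_phiU (σ : RingAut F) (g : UG ι φ) (k : ℕ) :
    (psiU hcomm g * phiU hcomm σ) ^ k =
      psiU hcomm (gnormU hcomm σ g k) * phiU hcomm (σ ^ k) := by
  induction k with
  | zero => rw [pow_zero, gnormU_zero, pow_zero, map_one, map_one, one_mul]
  | succ k ih =>
    rw [pow_succ', ih, gnormU_succ, map_mul, pow_succ', map_mul]
    have h1 := phiU_mul_psiU hcomm σ (gnormU hcomm σ g k)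
    calc psiU hcomm g * phiU hcomm σ * (psiU hcomm (gnormU hcomm σ g k) * phiU hcomm (σ ^ k))
        = psiU hcomm g * (phiU hcomm σ * psiU hcomm (gnormU hcomm σ g k)) *
            phiU hcomm (σ ^ k) := by group
      _ = psiU hcomm g * psiU hcomm (sigU hcomm σ (gnormU hcomm σ g k)) *
            (phiU hcomm σ * phiU hcomm (σ ^ k)) := by
        rw [h1]; group

end fieldaut

section withhyp

variable {F : Type*} [Field F] [Finite F] {ι : Type*} [Fintype ι] [DecidableEq ι] {φ : F →+* F}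
  (H : HypU φ ι) (p : ℕ) [Fact p.Prime] [CharP F p]
  (hcomm : ∀ (σ : F ≃+* F) (x : F), σ (φ x) = φ (σ x))

include H p

theorem eq_of_psiU_mul_phiU_eq {g g' : UG ι φ} {σ σ' : RingAut F}
    (h : psiU hcomm g * phiU hcomm σ = psiU hcomm g' * phiU hcomm σ') :
    σ = σ' ∧ ∃ c : F, ((g : GL ι F) : Matrix ι ι F) = c • ((g' : GL ι F) : Matrix ι ι F) := by
  rw [psiU_mul_phiU, psiU_mul_phiU] at h
  exact stdAutQ_eq H p hcomm _ _ h

theorem psiU_eq_one_iff (g : UG ι φ) :
    psiU hcomm g = 1 ↔ ∃ c : F, ((g : GL ι F) : Matrix ι ι F) = c • (1 : Matrix ι ι F) := by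
  constructor
  · intro h
    have h1 : psiU hcomm g * phiU hcomm 1 = psiU hcomm 1 * phiU hcomm 1 := by
      rw [h, map_one (psiU hcomm)]
    obtain ⟨-, c, hc⟩ := eq_of_psiU_mul_phiU_eq H p hcomm h1
    exact ⟨c, hc⟩
  · rintro ⟨c, hc⟩
    rw [psiU_apply, ← stdAutQ_one hcomm]
    have h1 : IsU φ (c • (1 : Matrix ι ι F)) := by
      rw [← hc]
      exact g.2
    rw [← stdAutQ_smul hcomm (isU_one φ) c h1]
    exact stdAutQ_congr hcomm _ _ hc rfl

theorem phiU_injective : Function.Injective (phiU (ι := ι) hcomm) := by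
  intro σ σ' h
  have h1 : psiU hcomm (1 : UG ι φ) * phiU hcomm σ = psiU hcomm (1 : UG ι φ) * phiU hcomm σ' := by
    rw [h]
  exact (eq_of_psiU_mul_phiU_eq H p hcomm h1).1

theorem orderOf_phiU (σ : RingAut F) : orderOf (phiU (ι := ι) hcomm σ) = orderOf σ :=
  orderOf_injective _ (phiU_injective H p hcomm) σ

end withhyp

end Cfsg.Agent.Helper2.PU
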