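import Mathlib
import Cfsg.Agent.Lib.Helper2.Psu23
import Cfsg.Agent.Lib.Helper2.Psln23

set_option autoImplicit false
set_option linter.unusedSimpArgs false
set_option linter.unusedVariables false
set_option linter.unusedSectionVars false

/-! Field automorphisms of the unitary groups, part 24: the predicates of the statements for a
general subgroup, the determinant on the unitary group, and the preimage of the inner
automorphisms. -/

namespace Cfsg.Agent.Helper2.PU

open Matrix Cfsg.Agent.Helper11 Cfsg.Agent.Helper11.Herm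

section preds

variable {F : Type*} [Field F] {ι : Type*} [Fintype ι] [DecidableEq ι]

/-- inner-diagonal automorphisms, for a general pair of subgroups -/
def IsInnDiagS (S : Subgroup (Matrix.SpecialLinearGroup ι F)) (U : Subgroup (GL ι F))
    (β : MulAut (S ⧸ Subgroup.center S)) : Prop :=
  ∃ g : GL ι F, g ∈ U ∧ ∀ s s' : S,
    ((s' : Matrix.SpecialLinearGroup ι F) : Matrix ι ι F) =
        (g : Matrix ι ι F) * ((s : Matrix.SpecialLinearGroup ι F) : Matrix ι ι F) *
          ((g⁻¹ : GL ι F) : Matrix ι ι F) →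
      β (QuotientGroup.mk s) = QuotientGroup.mk s'

/-- the inner-diagonal group, for a general pair of subgroups -/
def inndiagS (S : Subgroup (Matrix.SpecialLinearGroup ι F)) (U : Subgroup (GL ι F)) :
    Subgroup (MulAut (S ⧸ Subgroup.center S)) :=
  Subgroup.closure {β | IsInnDiagS S U β}

/-- the standard field automorphism attached to `σ`, for a general subgroup -/
def IsFieldAutS (S : Subgroup (Matrix.SpecialLinearGroup ι F)) (σ : F ≃+* F)
    (β : MulAut (S ⧸ Subgroup.center S)) : Prop :=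
  ∀ s s' : S,
    ((s' : Matrix.SpecialLinearGroup ι F) : Matrix ι ι F) =
        (((s : Matrix.SpecialLinearGroup ι F) : Matrix ι ι F)).map σ →
      β (QuotientGroup.mk s) = QuotientGroup.mk s'

/-- the field automorphism classes, for a general subgroup -/
def IsFieldAutClassS (S : Subgroup (Matrix.SpecialLinearGroup ι F))
    (β : MulAut (S ⧸ Subgroup.center S)) : Prop :=
  ∃ (α φ₁ : MulAut (S ⧸ Subgroup.center S)) (σ : F ≃+* F),
    σ ≠ RingEquiv.refl F ∧ Odd (orderOf σ) ∧ IsFieldAutS S σ φ₁ ∧ α * β * α⁻¹ = φ₁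

end preds

section ident

variable {F : Type*} [Field F] [Finite F] {ι : Type*} [Fintype ι] [DecidableEq ι] {φ : F →+* F}
  (hcomm : ∀ (σ : F ≃+* F) (x : F), σ (φ x) = φ (σ x))

omit [Finite F] in
theorem inv_val_eq_adjU (g : UG ι φ) :
    (((g : GL ι F)⁻¹ : GL ι F) : Matrix ι ι F) = adjU φ ((g : GL ι F) : Matrix ι ι F) :=
  Units.inv_eq_of_mul_eq_one_right (self_mul_adjU g.2)

omit [Finite F] in
theorem UG_isU (g : UG ι φ) : IsU φ ((g : GL ι F) : Matrix ι ι F) := g.2

theorem psiU_mk (g : UG ι φ) (s : SUg ι φ) :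
    psiU hcomm g (mkq φ s) =
      mkq φ (stdHom ((g : GL ι F) : Matrix ι ι F) (UG_isU g) (1 : F ≃+* F) (hcomm 1) s) := rfl

theorem phiU_mk (σ : RingAut F) (s : SUg ι φ) :
    phiU hcomm σ (mkq φ s) =
      mkq φ (stdHom (1 : Matrix ι ι F) (isU_one φ) σ (hcomm σ) s) := rfl

theorem isInnDiagS_iff (β : MulAut (PGq φ ι)) :
    IsInnDiagS (SUg ι φ) (UG ι φ) β ↔ β ∈ (psiU hcomm).range := by
  constructor
  · rintro ⟨g, hg, h⟩
    refine ⟨⟨g, hg⟩, ?_⟩
    ext x
    obtain ⟨s, rfl⟩ := mkq_surjective x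
    rw [psiU_mk]
    symm
    apply h
    change smat φ (stdHom _ _ _ _ s) = _
    rw [smat_stdHom, map_one_ringAut, inv_val_eq_adjU ⟨g, hg⟩]
    rfl
  · rintro ⟨g, rfl⟩
    refine ⟨g.1, g.2, ?_⟩
    intro s s' h
    change psiU hcomm g (mkq φ s) = mkq φ s'
    rw [psiU_mk]
    congr 1
    symm
    apply eq_stdHom_of_spec
    change ((s' : Matrix.SpecialLinearGroup ι F) : Matrix ι ι F) * _ = _
    rw [h, map_one_ringAut, Matrix.mul_assoc, ← Units.val_mul, inv_mul_cancel, Units.val_one,
      Matrix.mul_one]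
    rfl

theorem inndiagS_eq : inndiagS (SUg ι φ) (UG ι φ) = (psiU hcomm).range := by
  unfold inndiagS
  have : {β : MulAut (PGq φ ι) | IsInnDiagS (SUg ι φ) (UG ι φ) β} =
      (((psiU (ι := ι) hcomm).range : Subgroup (MulAut (PGq φ ι))) : Set (MulAut (PGq φ ι))) := by
    ext β
    exact isInnDiagS_iff hcomm β
  rw [this, Subgroup.closure_eq]

theorem isFieldAutS_iff (σ : F ≃+* F) (β : MulAut (PGq φ ι)) :
    IsFieldAutS (SUg ι φ) σ β ↔ β = phiU hcomm σ := by
  constructor
  · intro h
    ext x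
    obtain ⟨s, rfl⟩ := mkq_surjective x
    rw [phiU_mk]
    apply h
    change smat φ (stdHom _ _ _ _ s) = _
    rw [smat_stdHom, adjU_one, Matrix.one_mul, Matrix.mul_one]
    rfl
  · rintro rfl s s' h
    change phiU hcomm σ (mkq φ s) = mkq φ s'
    rw [phiU_mk]
    congr 1
    symm
    apply eq_stdHom_of_spec
    rw [Matrix.mul_one, Matrix.one_mul]
    exact h

end ident

end Cfsg.Agent.Helper2.PU
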