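import Mathlib
import Cfsg.Agent.Lib.Helper2.Psu24

set_option autoImplicit false
set_option linter.unusedSimpArgs false
set_option linter.unusedVariables false
set_option linter.unusedSectionVars false

/-! Field automorphisms of the unitary groups, part 25: the determinant on the unitary group with
values in the norm-one group, and the class-splitting count in terms of determinants. -/

namespace Cfsg.Agent.Helper2.PU

open Matrix Cfsg.Agent.Helper11 Cfsg.Agent.Helper11.Herm

section normonegroup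

variable {F : Type*} [Field F] (φ : F →+* F)

/-- the norm-one group -/
def nOne : Subgroup Fˣ where
  carrier := {u | (u : F) * φ (u : F) = 1}
  one_mem' := by
    change ((1 : Fˣ) : F) * φ ((1 : Fˣ) : F) = 1
    rw [Units.val_one, map_one, mul_one]
  mul_mem' {a b} ha hb := by
    change ((a * b : Fˣ) : F) * φ ((a * b : Fˣ) : F) = 1
    have ha' : (a : F) * φ (a : F) = 1 := ha
    have hb' : (b : F) * φ (b : F) = 1 := hb
    rw [Units.val_mul, map_mul]
    calc (a : F) * b * (φ a * φ b) = ((a : F) * φ a) * ((b : F) * φ b) := by ring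
      _ = 1 := by rw [ha', hb', mul_one]
  inv_mem' {a} ha := by
    change ((a⁻¹ : Fˣ) : F) * φ ((a⁻¹ : Fˣ) : F) = 1
    have ha' : (a : F) * φ (a : F) = 1 := ha
    rw [Units.val_inv_eq_inv_val, map_inv₀, ← mul_inv, ha', inv_one]

theorem mem_nOne (u : Fˣ) : u ∈ nOne φ ↔ (u : F) * φ (u : F) = 1 := Iff.rfl

/-- the fixed points of a field automorphism in the norm-one group -/
def nOneFix (σ : F ≃+* F) : Subgroup (nOne φ) where
  carrier := {u | σ ((u : Fˣ) : F) = ((u : Fˣ) : F)}
  one_mem' := by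
    change σ (((1 : nOne φ) : Fˣ) : F) = _
    rw [Subgroup.coe_one, Units.val_one, map_one]
  mul_mem' {a b} ha hb := by
    change σ (((a * b : nOne φ) : Fˣ) : F) = _
    have ha' : σ ((a : Fˣ) : F) = ((a : Fˣ) : F) := ha
    have hb' : σ ((b : Fˣ) : F) = ((b : Fˣ) : F) := hb
    rw [Subgroup.coe_mul, Units.val_mul, map_mul, ha', hb']
  inv_mem' {a} ha := by
    change σ (((a⁻¹ : nOne φ) : Fˣ) : F) = _
    have ha' : σ ((a : Fˣ) : F) = ((a : Fˣ) : F) := ha
    rw [Subgroup.coe_inv, Units.val_inv_eq_inv_val, map_inv₀, ha']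

theorem mem_nOneFix (σ : F ≃+* F) (u : nOne φ) :
    u ∈ nOneFix φ σ ↔ σ ((u : Fˣ) : F) = ((u : Fˣ) : F) := Iff.rfl

/-- an element of the norm-one group from an element of the field -/
def mkNOne {c : F} (hc : c * φ c = 1) : nOne φ :=
  ⟨Units.mk0 c (left_ne_zero_of_mul_eq_one hc), hc⟩

theorem mkNOne_val {c : F} (hc : c * φ c = 1) : (((mkNOne φ hc : nOne φ) : Fˣ) : F) = c := rfl

end normonegroup

section scalars

variable {F : Type*} [Field F] {ι : Type*} [Fintype ι] [DecidableEq ι] {φ : F →+* F}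

theorem map_smul_ringHom (c : F) (M : Matrix ι ι F) : (c • M).map φ = φ c • M.map φ := by
  ext i j
  simp only [Matrix.map_apply, Matrix.smul_apply, smul_eq_mul, map_mul]

theorem isU_smul {M : Matrix ι ι F} (hM : IsU φ M) {c : F} (hc : c * φ c = 1) :
    IsU φ (c • M) := by
  unfold IsU at hM ⊢
  rw [Matrix.transpose_smul, map_smul_ringHom, Matrix.smul_mul, Matrix.mul_smul, smul_smul, hM,
    hc, one_smul]

theorem norm_of_isU_smul [Nonempty ι] {M : Matrix ι ι F} (hM : IsU φ M) {c : F}
    (hcM : IsU φ (c • M)) : c * φ c = 1 := by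
  unfold IsU at hM hcM
  rw [Matrix.transpose_smul, map_smul_ringHom, Matrix.smul_mul, Matrix.mul_smul, smul_smul,
    hM] at hcM
  obtain ⟨i⟩ := ‹Nonempty ι›
  have := congrFun (congrFun hcM i) i
  rw [Matrix.smul_apply, Matrix.one_apply_eq, smul_eq_mul, mul_one] at this
  exact this

theorem det_map_ringHom (M : Matrix ι ι F) : (M.map φ).det = φ M.det := by
  rw [RingHom.map_det]
  rfl

end scalars

section detU

variable {F : Type*} [Field F] [Finite F] {ι : Type*} [Fintype ι] [DecidableEq ι] {φ : F →+* F}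
  (hcomm : ∀ (σ : F ≃+* F) (x : F), σ (φ x) = φ (σ x))

omit [Finite F] in
theorem det_norm_UG (g : UG ι φ) :
    ((g : GL ι F) : Matrix ι ι F).det * φ ((g : GL ι F) : Matrix ι ι F).det = 1 :=
  IsU.det_norm φ (UG_isU g)

/-- the determinant on the unitary group -/
noncomputable def detU : UG ι φ →* nOne φ where
  toFun g := mkNOne φ (det_norm_UG g)
  map_one' := by
    apply Subtype.ext
    apply Units.ext
    change ((1 : GL ι F) : Matrix ι ι F).det = 1
    rw [Units.val_one, Matrix.det_one]
  map_mul' a b := by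
    apply Subtype.ext
    apply Units.ext
    change (((a * b : UG ι φ) : GL ι F) : Matrix ι ι F).det = _
    rw [Subgroup.coe_mul, Units.val_mul, Matrix.det_mul]
    rfl

omit [Finite F] in
theorem detU_val (g : UG ι φ) :
    (((detU g : nOne φ) : Fˣ) : F) = ((g : GL ι F) : Matrix ι ι F).det := rfl

/-- a diagonal element of the unitary group with prescribed determinant -/
noncomputable def dgU (i₀ : ι) (t : nOne φ) : UG ι φ :=
  toUG (g := Matrix.diagonal (Function.update (fun _ => (1 : F)) i₀ ((t : Fˣ) : F)))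
    (isU_diagonal φ _ (by
      intro i
      by_cases hi : i = i₀
      · subst hi
        rw [Function.update_self]
        exact t.2
      · rw [Function.update_of_ne hi, map_one, mul_one]))

omit [Finite F] in
theorem dgU_val (i₀ : ι) (t : nOne φ) :
    (((dgU i₀ t : UG ι φ) : GL ι F) : Matrix ι ι F) =
      Matrix.diagonal (Function.update (fun _ => (1 : F)) i₀ ((t : Fˣ) : F)) := rfl

omit [Finite F] in
theorem detU_dgU (i₀ : ι) (t : nOne φ) : detU (dgU i₀ t) = t := by
  apply Subtype.ext
  apply Units.ext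
  rw [detU_val, dgU_val, Matrix.det_diagonal, Finset.prod_update_of_mem (Finset.mem_univ i₀)]
  simp

omit [Finite F] in
theorem detU_surjective [Nonempty ι] : Function.Surjective (detU (ι := ι) (φ := φ)) := by
  intro t
  obtain ⟨i₀⟩ := ‹Nonempty ι›
  exact ⟨dgU i₀ t, detU_dgU i₀ t⟩

/-- the elements fixed by a field automorphism -/
def UGfix (σ : RingAut F) : Subgroup (UG ι φ) :=
  MonoidHom.eqLocus (sigU hcomm σ) (MonoidHom.id _)

theorem mem_UGfix (σ : RingAut F) (g : UG ι φ) : g ∈ UGfix hcomm σ ↔ sigU hcomm σ g = g :=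
  Iff.rfl

theorem mem_UGfix_iff (σ : RingAut F) (g : UG ι φ) :
    g ∈ UGfix hcomm σ ↔
      ((g : GL ι F) : Matrix ι ι F).map σ = ((g : GL ι F) : Matrix ι ι F) := by
  rw [mem_UGfix]
  constructor
  · intro h
    have := congrArg (fun x : UG ι φ => ((x : GL ι F) : Matrix ι ι F)) h
    exact this
  · intro h
    apply Subtype.ext
    apply Units.ext
    exact h

theorem map_detU_UGfix [Nonempty ι] (σ : RingAut F) :
    (UGfix (ι := ι) hcomm σ).map detU = nOneFix φ σ := by
  ext t
  constructor
  · rintro ⟨g, hg, rfl⟩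
    rw [SetLike.mem_coe, mem_UGfix_iff] at hg
    rw [mem_nOneFix, detU_val]
    conv_rhs => rw [← hg]
    rw [det_map_ringEquiv]
  · intro ht
    rw [mem_nOneFix] at ht
    obtain ⟨i₀⟩ := ‹Nonempty ι›
    refine ⟨dgU i₀ t, ?_, detU_dgU i₀ t⟩
    rw [SetLike.mem_coe, mem_UGfix_iff, dgU_val]
    ext i j
    rw [Matrix.map_apply, Matrix.diagonal_apply]
    split_ifs with hij
    · by_cases hi : i = i₀
      · subst hi
        rw [Function.update_self]
        exact ht
      · rw [Function.update_of_ne hi, map_one]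
    · exact map_zero σ

end detU

section withhyp

variable {F : Type*} [Field F] [Finite F] {ι : Type*} [Fintype ι] [DecidableEq ι] {φ : F →+* F}
  (H : HypU φ ι) (p : ℕ) [Fact p.Prime] [CharP F p]
  (hcomm : ∀ (σ : F ≃+* F) (x : F), σ (φ x) = φ (σ x))

include H p

theorem inn_le_range_psiU : Cfsg.Inn (PGq φ ι) ≤ (psiU hcomm).range := by
  rw [← ker_piAut H p hcomm]
  exact inn_le_ker_piAut H p hcomm

theorem normal_range_psiU : ((psiU (ι := ι) hcomm).range).Normal := by
  rw [← ker_piAut H p hcomm]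
  exact MonoidHom.normal_ker _

/-- the preimage of the inner automorphisms -/
theorem comap_psiU_inn :
    (Cfsg.Inn (PGq φ ι)).comap (psiU hcomm) =
      ((powMonoidHom (Fintype.card ι) : nOne φ →* nOne φ).range).comap detU := by
  have hne : Nonempty ι := nonempty_of_hyp H
  ext g
  rw [Subgroup.mem_comap, Subgroup.mem_comap]
  have h0 : psiU hcomm g ∈ Cfsg.Inn (PGq φ ι) ↔ thetaU hcomm g = 1 := by
    rw [thetaU_apply, QuotientGroup.eq_one_iff]
  rw [h0, thetaU_eq_one_iff H p hcomm]
  constructor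
  · rintro ⟨y, c, hc⟩
    have hcU : IsU φ (c • smat φ y) := by
      rw [← hc]
      exact UG_isU g
    have hcn := norm_of_isU_smul (smat_isU φ y) hcU
    refine ⟨mkNOne φ hcn, ?_⟩
    apply Subtype.ext
    apply Units.ext
    rw [powMonoidHom_apply, Subgroup.coe_pow, Units.val_pow_eq_pow_val, mkNOne_val, detU_val, hc,
      Matrix.det_smul, smat_det, mul_one]
  · rintro ⟨w, hw⟩
    have hw' : ((g : GL ι F) : Matrix ι ι F).det = (((w : nOne φ) : Fˣ) : F) ^ Fintype.card ι := by
      rw [← detU_val, ← hw, powMonoidHom_apply, Subgroup.coe_pow, Units.val_pow_eq_pow_val]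
    have hw0 : (((w : nOne φ) : Fˣ) : F) ≠ 0 := Units.ne_zero _
    have hwi : (((w⁻¹ : nOne φ) : Fˣ) : F) = (((w : nOne φ) : Fˣ) : F)⁻¹ := by
      rw [Subgroup.coe_inv, Units.val_inv_eq_inv_val]
    have hM : IsU φ ((((w : nOne φ) : Fˣ) : F)⁻¹ • ((g : GL ι F) : Matrix ι ι F)) := by
      rw [← hwi]
      exact isU_smul (UG_isU g) (w⁻¹).2
    have hdet : ((((w : nOne φ) : Fˣ) : F)⁻¹ • ((g : GL ι F) : Matrix ι ι F)).det = 1 := by
      rw [Matrix.det_smul, hw', inv_pow, inv_mul_cancel₀ (pow_ne_zero _ hw0)]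
    refine ⟨mkS φ _ hM hdet, (((w : nOne φ) : Fˣ) : F), ?_⟩
    rw [mat_mkS, smul_smul, mul_inv_cancel₀ hw0, one_smul]

/-- the determinants of the scalar elements -/
theorem map_detU_ker :
    ((psiU (ι := ι) hcomm).ker).map detU =
      (powMonoidHom (Fintype.card ι) : nOne φ →* nOne φ).range := by
  have hne : Nonempty ι := nonempty_of_hyp H
  ext t
  constructor
  · rintro ⟨g, hg, rfl⟩
    rw [SetLike.mem_coe, MonoidHom.mem_ker, psiU_eq_one_iff H p hcomm] at hg
    obtain ⟨c, hc⟩ := hg
    have hcU : IsU φ (c • (1 : Matrix ι ι F)) := by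
      rw [← hc]
      exact UG_isU g
    have hcn := norm_of_isU_smul (isU_one φ) hcU
    refine ⟨mkNOne φ hcn, ?_⟩
    apply Subtype.ext
    apply Units.ext
    rw [powMonoidHom_apply, Subgroup.coe_pow, Units.val_pow_eq_pow_val, mkNOne_val, detU_val, hc,
      Matrix.det_smul, Matrix.det_one, mul_one]
  · rintro ⟨w, rfl⟩
    have hM : IsU φ ((((w : nOne φ) : Fˣ) : F) • (1 : Matrix ι ι F)) := isU_smul (isU_one φ) w.2
    refine ⟨toUG hM, ?_, ?_⟩
    · rw [SetLike.mem_coe, MonoidHom.mem_ker, psiU_eq_one_iff H p hcomm]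
      exact ⟨_, rfl⟩
    · apply Subtype.ext
      apply Units.ext
      rw [powMonoidHom_apply, Subgroup.coe_pow, Units.val_pow_eq_pow_val, detU_val, toUG_val,
        Matrix.det_smul, Matrix.det_one, mul_one]

/-- the class-splitting count in terms of determinants -/
theorem splitClassCount_eq (x : MulAut (PGq φ ι)) (C : Subgroup (UG ι φ))
    (hC : (Subgroup.centralizer {x}).comap (psiU hcomm) = C) :
    Cfsg.splitClassCount (psiU hcomm).range (Cfsg.Inn (PGq φ ι)) x =
      ((powMonoidHom (Fintype.card ι) : nOne φ →* nOne φ).range ⊔ C.map detU).index := by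
  have hne : Nonempty ι := nonempty_of_hyp H
  rw [Cfsg.Agent.Helper2.PN.splitClassCount_eq_index (psiU hcomm) _
    (inn_le_range_psiU H p hcomm) x, hC, comap_psiU_inn H p hcomm]
  set R := (powMonoidHom (Fintype.card ι) : nOne φ →* nOne φ).range with hR
  have hker : (detU (ι := ι) (φ := φ)).ker ≤ R.comap detU ⊔ C := by
    refine le_trans ?_ le_sup_left
    intro g hg
    rw [Subgroup.mem_comap, MonoidHom.mem_ker.mp hg]
    exact R.one_mem
  rw [← Subgroup.index_map_eq _ detU_surjective hker, Subgroup.map_sup,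
    Subgroup.map_comap_eq_self_of_surjective detU_surjective]

end withhyp

end Cfsg.Agent.Helper2.PU
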