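import Mathlib
import Cfsg.Agent.Lib.Helper2.Psu25
import Cfsg.Agent.Lib.Helper2.Psu22

set_option autoImplicit false
set_option linter.unusedSimpArgs false
set_option linter.unusedVariables false
set_option linter.unusedSectionVars false

/-! Field automorphisms of the unitary groups, part 26: the centralizer of a standard field
automorphism, and conjugacy in its coset. -/

namespace Cfsg.Agent.Helper2.PU

open Matrix Cfsg.Agent.Helper11 Cfsg.Agent.Helper11.Herm
open Cfsg.Agent.Helper13.FAut (pnorm pnorm_zero pnorm_succ)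
open Cfsg.Agent.Helper2.PN (mnorm mnorm_zero mnorm_succ exists_descent hmin_of_orderOf pnorm_mul
  pnorm_one)

section matrixnorm

variable {F : Type*} [Field F] {ι : Type*} [Fintype ι] [DecidableEq ι]

theorem map_smul_ringEquiv (σ : F ≃+* F) (c : F) (M : Matrix ι ι F) :
    (c • M).map σ = σ c • M.map σ := by
  ext i j
  simp only [Matrix.map_apply, Matrix.smul_apply, smul_eq_mul, map_mul]

theorem mnorm_succ' (σ : F ≃+* F) (g : Matrix ι ι F) (i : ℕ) :
    mnorm σ g (i + 1) = mnorm σ g i * g.map (σ ^ i : F ≃+* F) := by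
  induction i with
  | zero =>
    rw [mnorm_succ, mnorm_zero, map_one_ringEquiv, Matrix.mul_one, Matrix.one_mul, pow_zero,
      map_one_ringAut]
  | succ i ih =>
    calc mnorm σ g (i + 1 + 1) = g * (mnorm σ g (i + 1)).map σ := rfl
      _ = g * (mnorm σ g i * g.map (σ ^ i : F ≃+* F)).map σ := by rw [ih]
      _ = (g * (mnorm σ g i).map σ) * (g.map (σ ^ i : F ≃+* F)).map σ := by
        rw [map_mul_ringEquiv, Matrix.mul_assoc]
      _ = mnorm σ g (i + 1) * g.map (σ ^ (i + 1) : F ≃+* F) := by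
        rw [map_map_ringEquiv, ← pow_succ']
        rfl

theorem mnorm_smul (σ : F ≃+* F) (a : F) (g : Matrix ι ι F) (i : ℕ) :
    mnorm σ (a • g) i = pnorm σ a i • mnorm σ g i := by
  induction i with
  | zero => rw [mnorm_zero, mnorm_zero, pnorm_zero, one_smul]
  | succ i ih =>
    rw [mnorm_succ, ih, map_smul_ringEquiv, Matrix.smul_mul, Matrix.mul_smul, smul_smul,
      pnorm_succ, mnorm_succ]

end matrixnorm

section adj

variable {F : Type*} [Field F] {ι : Type*} [Fintype ι] [DecidableEq ι] {φ : F →+* F}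

theorem adjU_mul (A B : Matrix ι ι F) : adjU φ (A * B) = adjU φ B * adjU φ A := by
  unfold adjU
  rw [Matrix.map_mul, Matrix.transpose_mul]

theorem adjU_adjU (hφφ : ∀ x, φ (φ x) = x) (A : Matrix ι ι F) : adjU φ (adjU φ A) = A := by
  unfold adjU
  ext i j
  simp only [Matrix.transpose_apply, Matrix.map_apply, hφφ]

theorem adjU_map (σ : F ≃+* F) (hcomm : ∀ x, σ (φ x) = φ (σ x)) (A : Matrix ι ι F) :
    (adjU φ A).map σ = adjU φ (A.map σ) := by
  unfold adjU
  ext i j
  simp only [Matrix.transpose_apply, Matrix.map_apply, hcomm]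

theorem isU_of_adjU_mul_self {k : Matrix ι ι F} (h : adjU φ k * k = 1) : IsU φ k := by
  unfold IsU
  unfold adjU at h
  have := congrArg Matrix.transpose h
  rw [Matrix.transpose_mul, Matrix.transpose_transpose, Matrix.transpose_one] at this
  exact this

theorem det_adjU (A : Matrix ι ι F) : (adjU φ A).det = φ A.det := by
  unfold adjU
  rw [Matrix.det_transpose, det_map_ringHom]

end adj

/-- the hypotheses on the field automorphism -/
structure SigHyp {F : Type*} [Field F] (φ : F →+* F) (σ : F ≃+* F) (r : ℕ)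
    (ι : Type*) [Fintype ι] [DecidableEq ι] : Prop where
  hr : 0 < r
  hord : orderOf σ = r
  hN : ∀ t : F, t ≠ 0 → σ t = t → φ t = t → ∃ a : F, σ a = a ∧ a * φ a = t
  hT : ∃ t : F, t ≠ 0 ∧ σ t = t ∧ t + φ t = 0
  hHerm : ∀ M : Matrix ι ι F, adjU φ M = M → M.map σ = M → IsUnit M →
    ∃ m : Matrix ι ι F, m.map σ = m ∧ adjU φ m * M * m = 1

section withhyp

variable {F : Type*} [Field F] [Finite F] {ι : Type*} [Fintype ι] [DecidableEq ι] {φ : F →+* F}
  (H : HypU φ ι) (p : ℕ) [Fact p.Prime] [CharP F p]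
  (hcomm : ∀ (σ : F ≃+* F) (x : F), σ (φ x) = φ (σ x))

include H p

/-- iterating a twisted fixed point relation -/
theorem map_pow_of_twist (σ : RingAut F) (g : Matrix ι ι F) (l : F)
    (h : g.map σ = l • g) (i : ℕ) :
    g.map (σ ^ i : F ≃+* F) = pnorm σ l i • g := by
  induction i with
  | zero => rw [pow_zero, map_one_ringAut, pnorm_zero, one_smul]
  | succ i ih =>
    rw [pow_succ', ← map_map_ringEquiv, ih, map_smul_ringEquiv, h, smul_smul, pnorm_succ, mul_comm]

/-- the preimage of the centralizer of a standard field automorphism -/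
theorem comap_centralizer_phiU (σ : RingAut F) (r : ℕ) (hS : SigHyp φ σ r ι) :
    (Subgroup.centralizer {phiU (ι := ι) hcomm σ}).comap (psiU hcomm) =
      (psiU hcomm).ker ⊔ UGfix hcomm σ := by
  have hne : Nonempty ι := nonempty_of_hyp H
  have hσr : σ ^ r = 1 := hS.hord ▸ pow_orderOf_eq_one σ
  have hmin := hmin_of_orderOf σ r hS.hord
  apply le_antisymm
  · intro g hg
    rw [Subgroup.mem_comap, Subgroup.mem_centralizer_singleton_iff, phiU_mul_psiU] at hg
    obtain ⟨-, l, hl⟩ := eq_of_psiU_mul_phiU_eq H p hcomm hg.symm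
    rw [sigU_val] at hl
    -- l has norm one
    have hlU : IsU φ (l • ((g : GL ι F) : Matrix ι ι F)) := by
      rw [← hl]
      exact isU_map σ (hcomm σ) (UG_isU g)
    have hln := norm_of_isU_smul (UG_isU g) hlU
    have h3 := map_pow_of_twist H p σ _ l hl r
    rw [hσr, map_one_ringAut] at h3
    have h4 : pnorm σ l r = 1 := by
      have h5 : (1 : F) • ((g : GL ι F) : Matrix ι ι F) =
          pnorm σ l r • ((g : GL ι F) : Matrix ι ι F) := by
        rw [one_smul]
        exact h3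
      have h6 := congrArg (fun M => M * adjU φ ((g : GL ι F) : Matrix ι ι F)) h5
      simp only [Matrix.smul_mul, self_mul_adjU (UG_isU g)] at h6
      obtain ⟨i⟩ := hne
      have h7 := congrFun (congrFun h6 i) i
      simp only [Matrix.smul_apply, Matrix.one_apply_eq, smul_eq_mul, mul_one] at h7
      exact h7.symm
    obtain ⟨μ, hμn, hμ⟩ := normOne_h90 φ σ H.hφφ (hcomm σ) r hS.hr hσr hmin hS.hN hln h4
    have hμ0 : μ ≠ 0 := left_ne_zero_of_mul_eq_one hμn
    have hμin : μ⁻¹ * φ μ⁻¹ = 1 := by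
      rw [map_inv₀, ← mul_inv, hμn, inv_one]
    have hg'U : IsU φ (μ • ((g : GL ι F) : Matrix ι ι F)) := isU_smul (UG_isU g) hμn
    have hzU : IsU φ (μ⁻¹ • (1 : Matrix ι ι F)) := isU_smul (isU_one φ) hμin
    have hgz : g = toUG hzU * toUG hg'U := by
      apply Subtype.ext
      apply Units.ext
      change _ = (μ⁻¹ • (1 : Matrix ι ι F)) * (μ • ((g : GL ι F) : Matrix ι ι F))
      rw [Matrix.smul_mul, Matrix.one_mul, smul_smul, inv_mul_cancel₀ hμ0, one_smul]
    rw [hgz]
    apply Subgroup.mul_mem_sup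
    · rw [MonoidHom.mem_ker, psiU_eq_one_iff H p hcomm]
      exact ⟨_, rfl⟩
    · rw [mem_UGfix_iff, toUG_val, map_smul_ringEquiv, hl, smul_smul, mul_comm, hμ]
  · apply sup_le
    · intro g hg
      rw [Subgroup.mem_comap, MonoidHom.mem_ker.1 hg]
      exact Subgroup.one_mem _
    · intro g hg
      rw [mem_UGfix] at hg
      rw [Subgroup.mem_comap, Subgroup.mem_centralizer_singleton_iff, phiU_mul_psiU, hg]

/-- **conjugacy in the coset of a standard field automorphism** -/
theorem exists_conj_phiU (σ : RingAut F) (r : ℕ) (hS : SigHyp φ σ r ι) (g : UG ι φ)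
    (hg : (psiU hcomm g * phiU hcomm σ) ^ r = 1) :
    ∃ h : UG ι φ, psiU hcomm g * phiU hcomm σ =
      psiU hcomm h * phiU hcomm σ * (psiU hcomm h)⁻¹ := by
  have hne : Nonempty ι := nonempty_of_hyp H
  have hσr : σ ^ r = 1 := hS.hord ▸ pow_orderOf_eq_one σ
  have hmin := hmin_of_orderOf σ r hS.hord
  rw [pow_psiU_mul_phiU, hσr, map_one, mul_one, psiU_eq_one_iff H p hcomm, gnormU_val] at hg
  obtain ⟨c, hc⟩ := hg
  set G : Matrix ι ι F := ((g : GL ι F) : Matrix ι ι F) with hG
  have hGU : IsU φ G := UG_isU g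
  -- `c` has norm one and is fixed
  have hcU : IsU φ (c • (1 : Matrix ι ι F)) := by
    rw [← hc, ← gnormU_val hcomm]
    exact UG_isU _
  have hcn := norm_of_isU_smul (isU_one φ) hcU
  have hσc : σ c = c := by
    have h1 : mnorm σ G (r + 1) = σ c • G := by
      rw [mnorm_succ, hc, map_smul_ringEquiv, map_one_ringEquiv, Matrix.mul_smul, Matrix.mul_one]
    have h2 : mnorm σ G (r + 1) = c • G := by
      rw [mnorm_succ', hσr, map_one_ringAut, hc, Matrix.smul_mul, Matrix.one_mul]
    rw [h1] at h2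
    have h6 := congrArg (fun M => M * adjU φ G) h2
    simp only [Matrix.smul_mul, self_mul_adjU hGU] at h6
    obtain ⟨i⟩ := hne
    have h7 := congrFun (congrFun h6 i) i
    simp only [Matrix.smul_apply, Matrix.one_apply_eq, smul_eq_mul, mul_one] at h7
    exact h7
  obtain ⟨l, hln, hl⟩ :=
    normOne_norm_surj φ σ H.hφφ (hcomm σ) r hS.hr hσr hmin hS.hT hcn hσc
  have hl0 : l ≠ 0 := left_ne_zero_of_mul_eq_one hln
  have hlin : l⁻¹ * φ l⁻¹ = 1 := by
    rw [map_inv₀, ← mul_inv, hln, inv_one]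
  set G' : Matrix ι ι F := l⁻¹ • G with hG'
  have hG'U : IsU φ G' := isU_smul hGU hlin
  have hn1 : mnorm σ G' r = 1 := by
    have h1 : pnorm σ l⁻¹ r * pnorm σ l r = 1 := by
      rw [← pnorm_mul, inv_mul_cancel₀ hl0, pnorm_one]
    rw [hG', mnorm_smul, hc, smul_smul, ← hl, h1, one_smul]
  obtain ⟨h₀, hu, hh⟩ := exists_descent σ G' r hS.hr hσr hmin hn1
  -- the Gram matrix of `h₀`
  set M : Matrix ι ι F := adjU φ h₀ * h₀ with hM
  have hMadj : adjU φ M = M := by
    rw [hM, adjU_mul, adjU_adjU H.hφφ]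
  have hh' : h₀.map σ = adjU φ G' * h₀ := by
    calc h₀.map σ = (adjU φ G' * G') * h₀.map σ := by rw [adjU_mul_self hG'U, Matrix.one_mul]
      _ = adjU φ G' * (G' * h₀.map σ) := Matrix.mul_assoc _ _ _
      _ = adjU φ G' * h₀ := by rw [hh]
  have hMσ : M.map σ = M := by
    rw [hM, map_mul_ringEquiv, adjU_map σ (hcomm σ), hh', adjU_mul, adjU_adjU H.hφφ,
      Matrix.mul_assoc, ← Matrix.mul_assoc G', self_mul_adjU hG'U, Matrix.one_mul]
  have hMu : IsUnit M := by
    rw [Matrix.isUnit_iff_isUnit_det] at hu ⊢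
    rw [hM, Matrix.det_mul, det_adjU]
    exact (hu.map φ).mul hu
  obtain ⟨m, hmσ, hm⟩ := hS.hHerm M hMadj hMσ hMu
  set k : Matrix ι ι F := h₀ * m with hk
  have hkU : IsU φ k := by
    apply isU_of_adjU_mul_self
    rw [hk, adjU_mul, Matrix.mul_assoc, ← Matrix.mul_assoc (adjU φ h₀), ← hM, ← Matrix.mul_assoc]
    exact hm
  have hkσ : G' * k.map σ = k := by
    rw [hk, map_mul_ringEquiv, hmσ, ← Matrix.mul_assoc, hh]
  have hkσU : IsU φ (k.map σ) := isU_map σ (hcomm σ) hkU
  have hG'k : G' = k * adjU φ (k.map σ) := by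
    calc G' = G' * (k.map σ * adjU φ (k.map σ)) := by rw [self_mul_adjU hkσU, Matrix.mul_one]
      _ = (G' * k.map σ) * adjU φ (k.map σ) := (Matrix.mul_assoc _ _ _).symm
      _ = k * adjU φ (k.map σ) := by rw [hkσ]
  refine ⟨toUG hkU, ?_⟩
  have h9 : psiU hcomm g = psiU hcomm (toUG hG'U) := by
    rw [psiU_toUG, psiU_apply]
    rw [← stdAutQ_smul hcomm hGU l⁻¹ hG'U]
  have h10 : toUG hG'U = toUG hkU * sigU hcomm σ (toUG hkU)⁻¹ := by
    apply Subtype.ext
    apply Units.ext
    change G' = k * ((((toUG hkU : UG ι φ)⁻¹ : UG ι φ) : GL ι F) : Matrix ι ι F).map σ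
    rw [Subgroup.coe_inv, inv_val_eq_adjU, toUG_val, adjU_map σ (hcomm σ)]
    exact hG'k
  have h11 := phiU_mul_psiU hcomm σ (toUG hkU)⁻¹
  rw [h9, h10, map_mul]
  calc psiU hcomm (toUG hkU) * psiU hcomm (sigU hcomm σ (toUG hkU)⁻¹) * phiU hcomm σ
      = psiU hcomm (toUG hkU) *
          (psiU hcomm (sigU hcomm σ (toUG hkU)⁻¹) * phiU hcomm σ) := by group
    _ = psiU hcomm (toUG hkU) * phiU hcomm σ * (psiU hcomm (toUG hkU))⁻¹ := by
      rw [← h11, map_inv]; group

end withhyp

end Cfsg.Agent.Helper2.PU
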