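import Mathlib
import Cfsg.Agent.Lib.Helper2.Psu26
import Cfsg.Agent.Lib.Helper2.Psln19

set_option autoImplicit false
set_option linter.unusedSimpArgs false
set_option linter.unusedVariables false
set_option linter.unusedSectionVars false

/-! Field automorphisms of the unitary groups, part 27: descent to the fixed field of a field
automorphism. -/

namespace Cfsg.Agent.Helper2.PU

open Matrix Cfsg.Agent.Helper11 Cfsg.Agent.Helper11.Herm

/-- descent data: a copy `F₀` of the fixed field of `σ`, with its involution -/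
structure Desc {F F₀ : Type*} [Field F] [Field F₀] (φ : F →+* F) (σ : F ≃+* F)
    (φ₀ : F₀ →+* F₀) (j : F₀ →+* F) : Prop where
  hj : ∀ a, j (φ₀ a) = φ (j a)
  hfix : ∀ x, σ x = x → ∃ a, j a = x
  hjfix : ∀ a, σ (j a) = j a
  hφφ₀ : ∀ a, φ₀ (φ₀ a) = a
  hφ₀ : φ₀ ≠ RingHom.id F₀
  hN1₀ : ∀ c : F₀, c ≠ 0 → φ₀ c = c → ∃ l : F₀, l ≠ 0 ∧ l * φ₀ l = c
  hN2₀ : ∃ μ : F₀, μ + φ₀ μ ≠ 0

section descent

variable {F F₀ : Type*} [Field F] [Field F₀] {φ : F →+* F} {σ : F ≃+* F}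
  {φ₀ : F₀ →+* F₀} {j : F₀ →+* F} {ι : Type*} [Fintype ι] [DecidableEq ι]

theorem map_ringHom_mul (A B : Matrix ι ι F₀) : (A * B).map j = A.map j * B.map j :=
  Matrix.map_mul

theorem map_ringHom_one : (1 : Matrix ι ι F₀).map j = 1 := by
  ext a b
  simp only [Matrix.map_apply, Matrix.one_apply]
  split_ifs <;> simp

theorem map_ringHom_injective : Function.Injective (fun A : Matrix ι ι F₀ => A.map j) := by
  intro A B h
  ext a b
  have := congrFun (congrFun h a) b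
  exact j.injective this

theorem Desc.adjU_map (D : Desc φ σ φ₀ j) (A : Matrix ι ι F₀) :
    adjU φ (A.map j) = (adjU φ₀ A).map j := by
  unfold adjU
  ext a b
  simp only [Matrix.transpose_apply, Matrix.map_apply, D.hj]

theorem Desc.exists_of_fixed (D : Desc φ σ φ₀ j) {M : Matrix ι ι F} (hM : M.map σ = M) :
    ∃ M₀ : Matrix ι ι F₀, M₀.map j = M := by
  have hfix : ∀ a b, σ (M a b) = M a b := by
    intro a b
    exact congrFun (congrFun hM a) b
  choose c hc using fun a b => D.hfix _ (hfix a b)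
  refine ⟨Matrix.of c, ?_⟩
  ext a b
  rw [Matrix.map_apply, Matrix.of_apply, hc]

theorem Desc.map_fixed (D : Desc φ σ φ₀ j) (M₀ : Matrix ι ι F₀) :
    (M₀.map j).map σ = M₀.map j := by
  ext a b
  simp only [Matrix.map_apply, D.hjfix]

theorem det_map_j (M₀ : Matrix ι ι F₀) : (M₀.map j).det = j M₀.det := by
  rw [RingHom.map_det]
  rfl

theorem Desc.isU_map_iff (D : Desc φ σ φ₀ j) (M₀ : Matrix ι ι F₀) :
    IsU φ (M₀.map j) ↔ IsU φ₀ M₀ := by
  unfold IsU
  have h1 : (M₀.map j)ᵀ * (M₀.map j).map φ = (M₀ᵀ * M₀.map φ₀).map j := by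
    rw [map_ringHom_mul]
    congr 1
    ext a b
    simp only [Matrix.map_apply, D.hj]
  rw [h1]
  constructor
  · intro h
    apply map_ringHom_injective (j := j)
    simp only []
    rw [h, map_ringHom_one]
  · intro h
    rw [h, map_ringHom_one]

/-- the involution of `F₀` as a ring automorphism -/
def Desc.phiE (D : Desc φ σ φ₀ j) : F₀ ≃+* F₀ :=
  RingEquiv.ofRingHom φ₀ φ₀ (RingHom.ext D.hφφ₀) (RingHom.ext D.hφφ₀)

theorem Desc.phiE_apply (D : Desc φ σ φ₀ j) (a : F₀) : D.phiE a = φ₀ a := rfl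

/-- the hypotheses on `σ` follow from descent data -/
theorem Desc.sigHyp (D : Desc φ σ φ₀ j) (r : ℕ) (hr : 0 < r) (hord : orderOf σ = r) :
    SigHyp φ σ r ι := by
  refine ⟨hr, hord, ?_, ?_, ?_⟩
  · intro t ht0 hσt hφt
    obtain ⟨t₀, rfl⟩ := D.hfix t hσt
    have h1 : φ₀ t₀ = t₀ := by
      apply j.injective
      rw [D.hj, hφt]
    have h2 : t₀ ≠ 0 := by
      rintro rfl
      exact ht0 (map_zero j)
    obtain ⟨l, -, hl⟩ := D.hN1₀ t₀ h2 h1
    exact ⟨j l, D.hjfix l, by rw [← D.hj, ← map_mul, hl]⟩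
  · obtain ⟨c, hc0, hc⟩ := Witt.exists_trace_zero φ₀ D.hφ₀ D.hφφ₀
    refine ⟨j c, ?_, D.hjfix c, ?_⟩
    · intro h
      apply hc0
      apply j.injective
      rw [h, map_zero]
    · rw [← D.hj, ← map_add, hc, map_zero]
  · intro M hMadj hMσ hMu
    obtain ⟨M₀, rfl⟩ := D.exists_of_fixed hMσ
    have hM₀adj : adjU φ₀ M₀ = M₀ := by
      apply map_ringHom_injective (j := j)
      simp only []
      rw [← D.adjU_map, hMadj]
    have hM₀u : IsUnit M₀ := by
      rw [Matrix.isUnit_iff_isUnit_det] at hMu ⊢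
      rw [det_map_j] at hMu
      rw [isUnit_iff_ne_zero] at hMu ⊢
      intro h
      rw [h, map_zero] at hMu
      exact hMu rfl
    have hnorm : ∀ c : F₀, c ≠ 0 → D.phiE c = c → ∃ a : F₀, a * D.phiE a = c := by
      intro c hc0 hc
      obtain ⟨l, -, hl⟩ := D.hN1₀ c hc0 hc
      exact ⟨l, hl⟩
    obtain ⟨h, hh⟩ := Cfsg.Agent.Helper2.PN.exists_herm_congr D.phiE M₀ D.hφφ₀ hM₀adj
      D.hN2₀ hnorm hM₀u
    have hh' : h * M₀ * adjU φ₀ h = 1 := hh
    refine ⟨(adjU φ₀ h).map j, D.map_fixed _, ?_⟩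
    rw [D.adjU_map, adjU_adjU D.hφφ₀, ← map_ringHom_mul, ← map_ringHom_mul, hh', map_ringHom_one]

end descent

end Cfsg.Agent.Helper2.PU
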