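import Mathlib
import Cfsg.Agent.Lib.Helper2.Spa1

set_option autoImplicit false
set_option linter.unusedSimpArgs false
set_option linter.unusedVariables false
set_option linter.unusedSectionVars false

/-! Automorphisms of the projective symplectic groups, part 2: coordinates on `Qg e`, point
stabilisers and the Levi subgroup. -/

namespace Cfsg.Agent.Helper2.SpA

open Matrix Cfsg.Agent.Helper2.Symp

variable {m : ℕ} {F : Type*} [Field F]

/-- the orthogonal complement of the hyperbolic pair `e, f` -/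
def InW (e f w : Fin m ⊕ Fin m → F) : Prop := Bf w e = 0 ∧ Bf w f = 0

theorem InW.add {e f w w' : Fin m ⊕ Fin m → F} (h : InW e f w) (h' : InW e f w') :
    InW e f (w + w') :=
  ⟨by rw [Bf_add_left, h.1, h'.1, add_zero], by rw [Bf_add_left, h.2, h'.2, add_zero]⟩

theorem InW.smul {e f w : Fin m ⊕ Fin m → F} (c : F) (h : InW e f w) : InW e f (c • w) :=
  ⟨by rw [Bf_smul_left, h.1, mul_zero], by rw [Bf_smul_left, h.2, mul_zero]⟩

theorem InW.zero {e f : Fin m ⊕ Fin m → F} : InW e f 0 :=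
  ⟨Bf_zero_left e, Bf_zero_left f⟩

theorem InW.neg {e f w : Fin m ⊕ Fin m → F} (h : InW e f w) : InW e f (-w) :=
  ⟨by rw [Bf_neg_left, h.1, neg_zero], by rw [Bf_neg_left, h.2, neg_zero]⟩

theorem InW.sub {e f w w' : Fin m ⊕ Fin m → F} (h : InW e f w) (h' : InW e f w') :
    InW e f (w - w') := by
  rw [sub_eq_add_neg]
  exact h.add h'.neg

theorem InW.symm1 {e f w : Fin m ⊕ Fin m → F} (h : InW e f w) : Bf e w = 0 := by
  rw [Bf_skew, h.1, neg_zero]

theorem InW.symm2 {e f w : Fin m ⊕ Fin m → F} (h : InW e f w) : Bf f w = 0 := by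
  rw [Bf_skew, h.2, neg_zero]

theorem Bf_ef_of_fe {e f : Fin m ⊕ Fin m → F} (hfe : Bf f e = 1) : Bf e f = -1 := by
  rw [Bf_skew, hfe]

theorem inW_proj {e f : Fin m ⊕ Fin m → F} (hfe : Bf f e = 1) (x : Fin m ⊕ Fin m → F) :
    InW e f (x - Bf f x • e - Bf x e • f) := by
  have hef := Bf_ef_of_fe hfe
  constructor
  · simp only [Bf_sub_left, Bf_smul_left, Bf_self, hfe]
    ring
  · simp only [Bf_sub_left, Bf_smul_left, Bf_self, hef]
    rw [Bf_skew f x]
    ring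

theorem eq_decomp (e f x : Fin m ⊕ Fin m → F) :
    x = Bf f x • e + Bf x e • f + (x - Bf f x • e - Bf x e • f) := by
  abel

theorem ne_zero_of_Bf_eq_one {x y : Fin m ⊕ Fin m → F} (h : Bf x y = 1) : x ≠ 0 := by
  rintro rfl
  rw [Bf_zero_left] at h
  exact zero_ne_one h

theorem ne_zero_of_Bf_eq_one' {x y : Fin m ⊕ Fin m → F} (h : Bf x y = 1) : y ≠ 0 := by
  rintro rfl
  rw [Bf_zero_right] at h
  exact zero_ne_one h

/-- the `e`-coordinate of an element of `Qg e` -/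
def sOf (e f : Fin m ⊕ Fin m → F) (g : Matrix.symplecticGroup (Fin m) F) : F := Bf f (g • f)

/-- the `W`-coordinate of an element of `Qg e` -/
def wOf (e f : Fin m ⊕ Fin m → F) (g : Matrix.symplecticGroup (Fin m) F) : Fin m ⊕ Fin m → F :=
  g • f - f - sOf e f g • e

theorem sgG_smul_f {e f w : Fin m ⊕ Fin m → F} (hfe : Bf f e = 1) (hw : InW e f w) (s : F) :
    sgG e w s • f = f + w + s • e := by
  rw [sgG_smul hw.symm1, hfe, hw.symm2, one_smul, zero_add, mul_one]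

theorem sOf_sgG {e f w : Fin m ⊕ Fin m → F} (hfe : Bf f e = 1) (hw : InW e f w) (s : F) :
    sOf e f (sgG e w s) = s := by
  unfold sOf
  rw [sgG_smul_f hfe hw, Bf_add_right, Bf_add_right, Bf_self, hw.symm2, Bf_smul_right, hfe]
  ring

theorem wOf_sgG {e f w : Fin m ⊕ Fin m → F} (hfe : Bf f e = 1) (hw : InW e f w) (s : F) :
    wOf e f (sgG e w s) = w := by
  unfold wOf
  rw [sOf_sgG hfe hw, sgG_smul_f hfe hw]
  abel

/-- every element of `Qg e` is a Siegel element -/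
theorem eq_sgG_of_mem_Qg {e f : Fin m ⊕ Fin m → F} (hfe : Bf f e = 1)
    {g : Matrix.symplecticGroup (Fin m) F} (hg : g ∈ Qg e) :
    InW e f (wOf e f g) ∧ g = sgG e (wOf e f g) (sOf e f g) := by
  have hef := Bf_ef_of_fe hfe
  obtain ⟨hge, hgx⟩ := hg
  obtain ⟨s, hs⟩ : ∃ s, s = sOf e f g := ⟨_, rfl⟩
  obtain ⟨w, hw⟩ : ∃ w, w = wOf e f g := ⟨_, rfl⟩
  rw [← hs, ← hw]
  have hgf : g • f = f + w + s • e := by
    rw [hw, hs]
    unfold wOf
    abel
  have hwW : InW e f w := by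
    constructor
    · have h1 : Bf (g • f) (g • e) = Bf f e := Bf_smul_smul g f e
      rw [hge, hgf] at h1
      simp only [Bf_add_left, Bf_smul_left, Bf_self, hfe, mul_zero, add_zero] at h1
      linear_combination h1
    · have h1 : Bf f (g • f) = s := hs.symm
      rw [hgf] at h1
      simp only [Bf_add_right, Bf_smul_right, Bf_self, hfe, zero_add, mul_one] at h1
      rw [Bf_skew]
      linear_combination -h1
  refine ⟨hwW, ?_⟩
  apply ext_smul
  intro x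
  obtain ⟨y, hy⟩ : ∃ y, y = x - Bf f x • e - Bf x e • f := ⟨_, rfl⟩
  have hyW : InW e f y := by rw [hy]; exact inW_proj hfe x
  have hx : x = Bf f x • e + Bf x e • f + y := by rw [hy]; abel
  obtain ⟨c, hc⟩ := hgx y hyW.1
  have hcw : c = Bf y w := by
    have h1 : Bf (g • y) (g • f) = Bf y f := Bf_smul_smul g y f
    rw [hc, hgf, hyW.2] at h1
    simp only [Bf_add_left, Bf_add_right, Bf_smul_left, Bf_smul_right, Bf_self, hyW.1, hyW.2, hef,
      hwW.symm1, mul_zero, add_zero, zero_add] at h1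
    linear_combination -h1
  have hxw : Bf x w = Bf y w := by
    conv_lhs => rw [hx]
    simp only [Bf_add_left, Bf_smul_left, hwW.symm1, hwW.symm2, mul_zero, zero_add]
  rw [sgG_smul hwW.symm1, hxw]
  conv_lhs => rw [hx, smul_add', smul_add', smul_smul', smul_smul', hge, hgf, hc, hcw]
  conv_rhs => rw [hx]
  simp only [Bf_add_left, Bf_smul_left, Bf_self, hfe, hyW.1, mul_zero, add_zero, zero_add, mul_one]
  module

theorem wOf_mul {e f : Fin m ⊕ Fin m → F} (hfe : Bf f e = 1)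
    {g g' : Matrix.symplecticGroup (Fin m) F} (hg : g ∈ Qg e) (hg' : g' ∈ Qg e) :
    wOf e f (g * g') = wOf e f g + wOf e f g' := by
  obtain ⟨hW, hgeq⟩ := eq_sgG_of_mem_Qg hfe hg
  obtain ⟨hW', hgeq'⟩ := eq_sgG_of_mem_Qg hfe hg'
  conv_lhs => rw [hgeq, hgeq', sgG_mul hW.symm1 hW'.symm1]
  exact wOf_sgG hfe (hW.add hW') _

theorem sOf_mul {e f : Fin m ⊕ Fin m → F} (hfe : Bf f e = 1)
    {g g' : Matrix.symplecticGroup (Fin m) F} (hg : g ∈ Qg e) (hg' : g' ∈ Qg e) :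
    sOf e f (g * g') = sOf e f g + sOf e f g' + Bf (wOf e f g') (wOf e f g) := by
  obtain ⟨hW, hgeq⟩ := eq_sgG_of_mem_Qg hfe hg
  obtain ⟨hW', hgeq'⟩ := eq_sgG_of_mem_Qg hfe hg'
  conv_lhs => rw [hgeq, hgeq', sgG_mul hW.symm1 hW'.symm1]
  exact sOf_sgG hfe (hW.add hW') _

theorem wOf_one (e f : Fin m ⊕ Fin m → F) : wOf e f (1 : Matrix.symplecticGroup (Fin m) F) = 0 := by
  unfold wOf sOf
  rw [one_smul, sub_self, Bf_self, zero_smul, sub_zero]

theorem tv_smul_f {e f : Fin m ⊕ Fin m → F} (hfe : Bf f e = 1) (c : F) :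
    tv e c • f = f + c • e := by
  rw [tv_smul, hfe, mul_one]

/-- an element of `Qg e` lies in the root group iff its `W`-coordinate vanishes -/
theorem mem_rootGroup_iff_wOf {e f : Fin m ⊕ Fin m → F} (hfe : Bf f e = 1)
    {g : Matrix.symplecticGroup (Fin m) F} (hg : g ∈ Qg e) :
    g ∈ rootGroup e ↔ wOf e f g = 0 := by
  obtain ⟨hW, hgeq⟩ := eq_sgG_of_mem_Qg hfe hg
  constructor
  · intro h
    obtain ⟨c, hc⟩ := mem_rootGroup.1 h
    rw [hc, tv_eq_sgG]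
    exact wOf_sgG hfe InW.zero c
  · intro h
    rw [h] at hgeq
    rw [hgeq, ← tv_eq_sgG]
    exact mem_rootGroup.2 ⟨_, rfl⟩

/-- a vector has a partner -/
theorem exists_partner {v : Fin m ⊕ Fin m → F} (hv : v ≠ 0) : ∃ f, Bf f v = 1 := by
  obtain ⟨x, hx⟩ := exists_Bf_ne_zero hv
  have hx' : Bf x v ≠ 0 := by
    rw [Bf_skew]
    exact neg_ne_zero.2 hx
  refine ⟨(Bf x v)⁻¹ • x, ?_⟩
  rw [Bf_smul_left, inv_mul_cancel₀ hx']

theorem pow_eq_one_of_mem_Qg (p : ℕ) [CharP F p] {v : Fin m ⊕ Fin m → F}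
    {g : Matrix.symplecticGroup (Fin m) F} (hg : g ∈ Qg v) : g ^ p = 1 := by
  by_cases hv : v = 0
  · have : g = 1 := by
      apply ext_smul
      intro x
      obtain ⟨c, hc⟩ := hg.2 x (by rw [hv, Bf_zero_right])
      rw [hc, hv, smul_zero, add_zero, one_smul]
    rw [this, one_pow]
  · obtain ⟨f, hfe⟩ := exists_partner hv
    obtain ⟨hW, hgeq⟩ := eq_sgG_of_mem_Qg hfe hg
    rw [hgeq, sgG_pow hW.symm1, CharP.cast_eq_zero, zero_smul, zero_mul, sgG_zero]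

theorem isPGroup_Qg (p : ℕ) [Fact p.Prime] [CharP F p] (v : Fin m ⊕ Fin m → F) :
    IsPGroup p (Qg v) := by
  intro g
  refine ⟨1, ?_⟩
  apply Subtype.ext
  rw [Subgroup.coe_pow, pow_one, Subgroup.coe_one]
  exact pow_eq_one_of_mem_Qg p g.2

/-- the stabiliser of the point spanned by `v` -/
def Pst (v : Fin m ⊕ Fin m → F) : Subgroup (Matrix.symplecticGroup (Fin m) F) where
  carrier := {g | ∃ c : F, c ≠ 0 ∧ g • v = c • v}
  one_mem' := ⟨1, one_ne_zero, by rw [one_smul, one_smul]⟩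
  mul_mem' := by
    rintro g h ⟨c, hc0, hc⟩ ⟨d, hd0, hd⟩
    exact ⟨d * c, mul_ne_zero hd0 hc0, by rw [mul_smul, hd, smul_smul', hc, smul_smul]⟩
  inv_mem' := by
    rintro g ⟨c, hc0, hc⟩
    refine ⟨c⁻¹, inv_ne_zero hc0, ?_⟩
    rw [inv_smul_eq_iff, smul_smul', hc, smul_smul, inv_mul_cancel₀ hc0, one_smul]

theorem mem_Pst_iff (v : Fin m ⊕ Fin m → F) (g : Matrix.symplecticGroup (Fin m) F) :
    g ∈ Pst v ↔ ∃ c : F, c ≠ 0 ∧ g • v = c • v := Iff.rfl

theorem Qg_le_Pst (v : Fin m ⊕ Fin m → F) : Qg v ≤ Pst v := by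
  intro g hg
  exact ⟨1, one_ne_zero, by rw [hg.1, one_smul]⟩

theorem conj_mem_Qg {v : Fin m ⊕ Fin m → F} {g q : Matrix.symplecticGroup (Fin m) F}
    (hg : g ∈ Pst v) (hq : q ∈ Qg v) : g * q * g⁻¹ ∈ Qg v := by
  obtain ⟨c, hc0, hc⟩ := hg
  have hinv : g⁻¹ • v = c⁻¹ • v := by
    rw [inv_smul_eq_iff, smul_smul', hc, smul_smul, inv_mul_cancel₀ hc0, one_smul]
  refine ⟨?_, fun x hx => ?_⟩
  · rw [mul_smul, mul_smul, hinv, smul_smul', hq.1, smul_smul', hc, smul_smul,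
      inv_mul_cancel₀ hc0, one_smul]
  · have h1 : Bf (g⁻¹ • x) v = 0 := by
      rw [Bf_smul_inv, hc, Bf_smul_right, hx, mul_zero]
    obtain ⟨d, hd⟩ := hq.2 _ h1
    refine ⟨d * c, ?_⟩
    rw [mul_smul, mul_smul, hd, smul_add', smul_inv_smul, smul_smul', hc, smul_smul]

/-- the Levi subgroup -/
def Lv (e f : Fin m ⊕ Fin m → F) : Subgroup (Matrix.symplecticGroup (Fin m) F) := Pst e ⊓ Pst f

theorem mem_Lv_iff (e f : Fin m ⊕ Fin m → F) (g : Matrix.symplecticGroup (Fin m) F) :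
    g ∈ Lv e f ↔ g ∈ Pst e ∧ g ∈ Pst f := Iff.rfl

theorem Bf_smul_of_mem_Pst {v : Fin m ⊕ Fin m → F} {g : Matrix.symplecticGroup (Fin m) F}
    (hg : g ∈ Pst v) {w : Fin m ⊕ Fin m → F} (hw : Bf w v = 0) : Bf (g • w) v = 0 := by
  obtain ⟨c, hc0, hc⟩ := hg
  have h1 : Bf (g • w) (g • v) = Bf w v := Bf_smul_smul g w v
  rw [hc, Bf_smul_right, hw] at h1
  rcases mul_eq_zero.1 h1 with h | h
  · exact absurd h hc0
  · exact h

theorem inW_smul_of_mem_Lv {e f w : Fin m ⊕ Fin m → F} {l : Matrix.symplecticGroup (Fin m) F}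
    (hl : l ∈ Lv e f) (hw : InW e f w) : InW e f (l • w) :=
  ⟨Bf_smul_of_mem_Pst hl.1 hw.1, Bf_smul_of_mem_Pst hl.2 hw.2⟩

theorem conj_sgG_of_smul_eq {l : Matrix.symplecticGroup (Fin m) F} {c : F}
    {e w : Fin m ⊕ Fin m → F} (hle : l • e = c • e) (hew : Bf e w = 0) (s : F) :
    l * sgG e w s * l⁻¹ = sgG e (c • (l • w)) (c * c * s) := by
  rw [conj_sgG, hle]
  by_cases hc : c = 0
  · rw [hc, zero_smul, zero_smul, zero_mul, zero_mul]
    apply ext_smul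
    intro x
    rw [sgG_smul (Bf_zero_left _), sgG_smul (Bf_zero_right _)]
    simp [Bf_zero_right]
  · apply sgG_smul_left
    have h1 : Bf (l • e) (l • w) = Bf e w := Bf_smul_smul l e w
    rw [hle, Bf_smul_left, hew] at h1
    rcases mul_eq_zero.1 h1 with h | h
    · exact absurd h hc
    · exact h

theorem wOf_conj {e f : Fin m ⊕ Fin m → F} (hfe : Bf f e = 1)
    {l : Matrix.symplecticGroup (Fin m) F} {c : F} (hl : l ∈ Lv e f) (hle : l • e = c • e)
    {g : Matrix.symplecticGroup (Fin m) F} (hg : g ∈ Qg e) :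
    wOf e f (l * g * l⁻¹) = c • (l • wOf e f g) := by
  obtain ⟨hW, hgeq⟩ := eq_sgG_of_mem_Qg hfe hg
  conv_lhs => rw [hgeq, conj_sgG_of_smul_eq hle hW.symm1]
  exact wOf_sgG hfe ((inW_smul_of_mem_Lv hl hW).smul c) _

theorem sOf_conj {e f : Fin m ⊕ Fin m → F} (hfe : Bf f e = 1)
    {l : Matrix.symplecticGroup (Fin m) F} {c : F} (hl : l ∈ Lv e f) (hle : l • e = c • e)
    {g : Matrix.symplecticGroup (Fin m) F} (hg : g ∈ Qg e) :
    sOf e f (l * g * l⁻¹) = c * c * sOf e f g := by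
  obtain ⟨hW, hgeq⟩ := eq_sgG_of_mem_Qg hfe hg
  conv_lhs => rw [hgeq, conj_sgG_of_smul_eq hle hW.symm1]
  exact sOf_sgG hfe ((inW_smul_of_mem_Lv hl hW).smul c) _

theorem conj_mem_Qg_of_mem_Lv {e f : Fin m ⊕ Fin m → F}
    {l g : Matrix.symplecticGroup (Fin m) F} (hl : l ∈ Lv e f) (hg : g ∈ Qg e) :
    l * g * l⁻¹ ∈ Qg e :=
  conj_mem_Qg hl.1 hg

end Cfsg.Agent.Helper2.SpA
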