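import Mathlib
import Cfsg.Agent.Lib.Helper2.Spa2

set_option autoImplicit false
set_option linter.unusedSimpArgs false
set_option linter.unusedVariables false
set_option linter.unusedSectionVars false

/-! Automorphisms of the projective symplectic groups, part 3: elements of the Levi subgroup
and the commutant lemma. -/

namespace Cfsg.Agent.Helper2.SpA

open Matrix Cfsg.Agent.Helper2.Symp

variable {m : ℕ} {F : Type*} [Field F]

theorem tv_smul_of_orth {u x : Fin m ⊕ Fin m → F} (h : Bf x u = 0) (a : F) : tv u a • x = x := by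
  rw [tv_smul, h, mul_zero, zero_smul, add_zero]

theorem tv_mem_Lv {e f u : Fin m ⊕ Fin m → F} (hu : InW e f u) (a : F) : tv u a ∈ Lv e f :=
  ⟨⟨1, one_ne_zero, by rw [tv_smul_of_orth hu.symm1, one_smul]⟩,
    ⟨1, one_ne_zero, by rw [tv_smul_of_orth hu.symm2, one_smul]⟩⟩

/-- the Weyl-type element of the hyperbolic plane -/
noncomputable def wE (e f : Fin m ⊕ Fin m → F) (c : F) : Matrix.symplecticGroup (Fin m) F :=
  tv e c * tv f c⁻¹ * tv e c

theorem tv_f_smul_e {e f : Fin m ⊕ Fin m → F} (hfe : Bf f e = 1) (b : F) :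
    tv f b • e = e - b • f := by
  rw [tv_smul, Bf_ef_of_fe hfe]
  module

theorem wE_smul_e {e f : Fin m ⊕ Fin m → F} (hfe : Bf f e = 1) {c : F} (hc : c ≠ 0) :
    wE e f c • e = -(c⁻¹ • f) := by
  unfold wE
  rw [mul_smul, mul_smul, tv_smul_of_orth (Bf_self e), tv_f_smul_e hfe, smul_sub', smul_smul',
    tv_smul_of_orth (Bf_self e), tv_smul_f hfe, smul_add, smul_smul, inv_mul_cancel₀ hc, one_smul]
  abel

theorem wE_smul_f {e f : Fin m ⊕ Fin m → F} (hfe : Bf f e = 1) {c : F} (hc : c ≠ 0) :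
    wE e f c • f = c • e := by
  unfold wE
  have h1 : tv e c • f = f + c • e := tv_smul_f hfe c
  have h2 : tv f c⁻¹ • (f + c • e) = c • e := by
    rw [smul_add', smul_smul', tv_f_smul_e hfe, tv_smul_of_orth (Bf_self f), smul_sub, smul_smul,
      mul_inv_cancel₀ hc, one_smul]
    abel
  have h3 : tv e c • (c • e) = c • e := by
    rw [smul_smul', tv_smul_of_orth (Bf_self e)]
  rw [mul_smul, mul_smul, h1, h2, h3]

theorem wE_smul_w {e f w : Fin m ⊕ Fin m → F} (hw : InW e f w) (c : F) :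
    wE e f c • w = w := by
  unfold wE
  rw [mul_smul, mul_smul, tv_smul_of_orth hw.1, tv_smul_of_orth hw.2, tv_smul_of_orth hw.1]

/-- the torus element `e ↦ c e`, `f ↦ c⁻¹ f` -/
noncomputable def hh (e f : Fin m ⊕ Fin m → F) (c : F) : Matrix.symplecticGroup (Fin m) F :=
  wE e f c * (wE e f 1)⁻¹

theorem hh_smul_e {e f : Fin m ⊕ Fin m → F} (hfe : Bf f e = 1) {c : F} (hc : c ≠ 0) :
    hh e f c • e = c • e := by
  unfold hh
  have h1 : (wE e f 1)⁻¹ • e = f := by
    rw [inv_smul_eq_iff, wE_smul_f hfe one_ne_zero, one_smul]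
  rw [mul_smul, h1, wE_smul_f hfe hc]

theorem hh_smul_f {e f : Fin m ⊕ Fin m → F} (hfe : Bf f e = 1) {c : F} (hc : c ≠ 0) :
    hh e f c • f = c⁻¹ • f := by
  unfold hh
  have h1 : (wE e f 1)⁻¹ • f = -e := by
    rw [inv_smul_eq_iff, smul_neg', wE_smul_e hfe one_ne_zero, inv_one, one_smul, neg_neg]
  rw [mul_smul, h1, smul_neg', wE_smul_e hfe hc, neg_neg]

theorem hh_smul_w {e f w : Fin m ⊕ Fin m → F} (hw : InW e f w) (c : F) :
    hh e f c • w = w := by
  unfold hh
  have h1 : (wE e f 1)⁻¹ • w = w := by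
    rw [inv_smul_eq_iff, wE_smul_w hw]
  rw [mul_smul, h1, wE_smul_w hw]

theorem hh_mem_Lv {e f : Fin m ⊕ Fin m → F} (hfe : Bf f e = 1) {c : F} (hc : c ≠ 0) :
    hh e f c ∈ Lv e f :=
  ⟨⟨c, hc, hh_smul_e hfe hc⟩, ⟨c⁻¹, inv_ne_zero hc, hh_smul_f hfe hc⟩⟩

/-- nondegeneracy of `W` -/
theorem exists_partner_inW {e f u : Fin m ⊕ Fin m → F} (hfe : Bf f e = 1) (hu : InW e f u)
    (hu0 : u ≠ 0) : ∃ w, InW e f w ∧ Bf w u = 1 := by
  obtain ⟨x, hx⟩ := exists_partner hu0
  refine ⟨x - Bf f x • e - Bf x e • f, inW_proj hfe x, ?_⟩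
  rw [Bf_sub_left, Bf_sub_left, Bf_smul_left, Bf_smul_left, hu.symm1, hu.symm2, hx]
  ring

/-- an additive map of `W` commuting with the transvections of `W` -/
structure IsComm (e f : Fin m ⊕ Fin m → F) (B : (Fin m ⊕ Fin m → F) → (Fin m ⊕ Fin m → F)) :
    Prop where
  mapW : ∀ w, InW e f w → InW e f (B w)
  add : ∀ w w', InW e f w → InW e f w' → B (w + w') = B w + B w'
  comm : ∀ (u : Fin m ⊕ Fin m → F) (a : F) (w : Fin m ⊕ Fin m → F), InW e f u → InW e f w →
    B (tv u a • w) = tv u a • B w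

theorem IsComm.map_zero {e f : Fin m ⊕ Fin m → F}
    {B : (Fin m ⊕ Fin m → F) → (Fin m ⊕ Fin m → F)} (hB : IsComm e f B) : B 0 = 0 := by
  have := hB.add 0 0 InW.zero InW.zero
  rw [add_zero] at this
  exact left_eq_add.1 this

/-- the image of a line -/
theorem IsComm.line {e f : Fin m ⊕ Fin m → F} (hfe : Bf f e = 1)
    {B : (Fin m ⊕ Fin m → F) → (Fin m ⊕ Fin m → F)} (hB : IsComm e f B)
    {u : Fin m ⊕ Fin m → F} (hu : InW e f u) (hu0 : u ≠ 0) :
    ∃ l : F, ∀ a : F, B (a • u) = (a * l) • u := by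
  obtain ⟨w, hw, hwu⟩ := exists_partner_inW hfe hu hu0
  refine ⟨Bf (B w) u, fun a => ?_⟩
  have h1 := hB.comm u a w hu hw
  rw [tv_smul, tv_smul, hwu, mul_one, hB.add _ _ hw (hu.smul a)] at h1
  exact add_left_cancel h1

theorem smul_eq_of_indep {u v : Fin m ⊕ Fin m → F} (hu0 : u ≠ 0) (hind : ∀ a : F, v ≠ a • u)
    {a b c d : F} (h : a • u + b • v = c • u + d • v) : a = c ∧ b = d := by
  have h1 : (b - d) • v = (c - a) • u := by
    have h0 : (b - d) • v - (c - a) • u = (a • u + b • v) - (c • u + d • v) := by module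
    rw [h, sub_self] at h0
    exact sub_eq_zero.1 h0
  by_cases hbd : b - d = 0
  · have h2 : b = d := sub_eq_zero.1 hbd
    refine ⟨?_, h2⟩
    rw [hbd, zero_smul] at h1
    rcases smul_eq_zero.1 h1.symm with h5 | h5
    · exact (sub_eq_zero.1 h5).symm
    · exact absurd h5 hu0
  · exfalso
    apply hind ((b - d)⁻¹ * (c - a))
    rw [← smul_smul, ← h1, smul_smul, inv_mul_cancel₀ hbd, one_smul]

/-- **commutant lemma**: an additive map of `W` commuting with the transvections of `W` is a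
scalar -/
theorem IsComm.scalar {e f : Fin m ⊕ Fin m → F} (hfe : Bf f e = 1)
    {B : (Fin m ⊕ Fin m → F) → (Fin m ⊕ Fin m → F)} (hB : IsComm e f B) :
    ∃ s : F, ∀ w, InW e f w → B w = s • w := by
  by_cases hex : ∃ d, InW e f d ∧ d ≠ 0
  · obtain ⟨d, hd, hd0⟩ := hex
    obtain ⟨s, hs⟩ := hB.line hfe hd hd0
    refine ⟨s, fun w hw => ?_⟩
    by_cases hw0 : w = 0
    · rw [hw0, hB.map_zero, smul_zero]
    by_cases hdep : ∃ a : F, w = a • d
    · obtain ⟨a, rfl⟩ := hdep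
      rw [hs, smul_smul, mul_comm]
    · have hind : ∀ a : F, w ≠ a • d := fun a h => hdep ⟨a, h⟩
      obtain ⟨l, hl⟩ := hB.line hfe hw hw0
      have hdw0 : d + w ≠ 0 := by
        intro h
        apply hind (-1)
        rw [neg_smul, one_smul]
        exact eq_neg_of_add_eq_zero_right h
      obtain ⟨l', hl'⟩ := hB.line hfe (hd.add hw) hdw0
      have h1 := hl' 1
      have h2 := hs 1
      have h3 := hl 1
      rw [one_smul, one_mul] at h1 h2 h3
      rw [hB.add _ _ hd hw, h2, h3, smul_add] at h1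
      obtain ⟨h4, h5⟩ := smul_eq_of_indep hd0 hind h1
      rw [h3, h5, ← h4]
  · refine ⟨0, fun w hw => ?_⟩
    have hw0 : w = 0 := by
      by_contra h
      exact hex ⟨w, hw, h⟩
    rw [hw0, hB.map_zero, smul_zero]

end Cfsg.Agent.Helper2.SpA
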