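import Mathlib
import Cfsg.Agent.Lib.Helper2.Spa3

set_option autoImplicit false
set_option linter.unusedSimpArgs false
set_option linter.unusedVariables false
set_option linter.unusedSectionVars false

/-! Automorphisms of the projective symplectic groups, part 4: automorphisms of `Qg e`
normalising the Levi action; the induced map on `W` is semilinear. -/

namespace Cfsg.Agent.Helper2.SpA

open Matrix Cfsg.Agent.Helper2.Symp

variable {m : ℕ} {F : Type*} [Field F]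

/-- a map of the group inducing an automorphism of `Qg e` compatible with the root group and
normalising the action of the Levi subgroup -/
structure IsQAut (e f : Fin m ⊕ Fin m → F)
    (b : Matrix.symplecticGroup (Fin m) F → Matrix.symplecticGroup (Fin m) F) : Prop where
  mem : ∀ g ∈ Qg e, b g ∈ Qg e
  mul : ∀ g ∈ Qg e, ∀ g' ∈ Qg e, b (g * g') = b g * b g'
  inj : ∀ g ∈ Qg e, b g = 1 → g = 1
  surj : ∀ g' ∈ Qg e, ∃ g ∈ Qg e, b g = g'
  root : ∀ g ∈ Qg e, (g ∈ rootGroup e ↔ b g ∈ rootGroup e)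
  lev : ∀ (u : Fin m ⊕ Fin m → F) (a : F), InW e f u → ∃ l' ∈ Lv e f, ∃ c' : F,
    l' • e = c' • e ∧ c' * c' = 1 ∧
      ∀ g ∈ Qg e, b (tv u a * g * (tv u a)⁻¹) = l' * b g * l'⁻¹

/-- the map induced on `W` -/
noncomputable def Amap (e f : Fin m ⊕ Fin m → F)
    (b : Matrix.symplecticGroup (Fin m) F → Matrix.symplecticGroup (Fin m) F)
    (w : Fin m ⊕ Fin m → F) : Fin m ⊕ Fin m → F := wOf e f (b (sgG e w 0))

theorem IsQAut.map_one {e f : Fin m ⊕ Fin m → F}
    {b : Matrix.symplecticGroup (Fin m) F → Matrix.symplecticGroup (Fin m) F}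
    (hb : IsQAut e f b) : b 1 = 1 := by
  have := hb.mul 1 (Subgroup.one_mem _) 1 (Subgroup.one_mem _)
  rw [mul_one] at this
  exact left_eq_mul.1 this

theorem IsQAut.map_inv {e f : Fin m ⊕ Fin m → F}
    {b : Matrix.symplecticGroup (Fin m) F → Matrix.symplecticGroup (Fin m) F}
    (hb : IsQAut e f b) {g : Matrix.symplecticGroup (Fin m) F} (hg : g ∈ Qg e) :
    b g⁻¹ = (b g)⁻¹ := by
  have := hb.mul g hg g⁻¹ (Subgroup.inv_mem _ hg)
  rw [mul_inv_cancel, hb.map_one] at this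
  exact eq_inv_of_mul_eq_one_right this.symm

section amap

variable {e f : Fin m ⊕ Fin m → F} (hfe : Bf f e = 1)
  {b : Matrix.symplecticGroup (Fin m) F → Matrix.symplecticGroup (Fin m) F} (hb : IsQAut e f b)

include hfe hb

theorem sgG_mem_of_inW {w : Fin m ⊕ Fin m → F} (hw : InW e f w) (s : F) : sgG e w s ∈ Qg e :=
  sgG_mem_Qg hw.symm1 s

theorem IsQAut.wOf_b_eq {g : Matrix.symplecticGroup (Fin m) F} (hg : g ∈ Qg e) :
    wOf e f (b g) = Amap e f b (wOf e f g) := by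
  obtain ⟨hW, hgeq⟩ := eq_sgG_of_mem_Qg hfe hg
  obtain ⟨w, hw⟩ : ∃ w, w = wOf e f g := ⟨_, rfl⟩
  obtain ⟨s, hs⟩ : ∃ s, s = sOf e f g := ⟨_, rfl⟩
  rw [← hw, ← hs] at hgeq
  rw [← hw] at hW ⊢
  have h1 : sgG e w s = sgG e w 0 * tv e s := by
    rw [tv_eq_sgG, sgG_mul hW.symm1 (Bf_zero_right e), add_zero, zero_add, Bf_zero_left, add_zero]
  have hq := sgG_mem_Qg hW.symm1 (0 : F)
  have ht := tv_mem_Qg e s
  have h2 : wOf e f (b (tv e s)) = 0 :=
    (mem_rootGroup_iff_wOf hfe (hb.mem _ ht)).1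
      ((hb.root _ ht).1 (mem_rootGroup.2 ⟨s, rfl⟩))
  rw [hgeq, h1, hb.mul _ hq _ ht, wOf_mul hfe (hb.mem _ hq) (hb.mem _ ht), h2, add_zero]
  rfl

theorem IsQAut.Amap_inW {w : Fin m ⊕ Fin m → F} (hw : InW e f w) : InW e f (Amap e f b w) :=
  (eq_sgG_of_mem_Qg hfe (hb.mem _ (sgG_mem_Qg hw.symm1 0))).1

theorem wOf_sgG_zero {w : Fin m ⊕ Fin m → F} (hw : InW e f w) : wOf e f (sgG e w 0) = w :=
  wOf_sgG hfe hw 0

theorem IsQAut.Amap_add {w w' : Fin m ⊕ Fin m → F} (hw : InW e f w) (hw' : InW e f w') :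
    Amap e f b (w + w') = Amap e f b w + Amap e f b w' := by
  have hq := sgG_mem_Qg hw.symm1 (0 : F)
  have hq' := sgG_mem_Qg hw'.symm1 (0 : F)
  have h1 := hb.wOf_b_eq hfe (Subgroup.mul_mem _ hq hq')
  rw [wOf_mul hfe hq hq', wOf_sgG hfe hw, wOf_sgG hfe hw', hb.mul _ hq _ hq',
    wOf_mul hfe (hb.mem _ hq) (hb.mem _ hq')] at h1
  exact h1.symm

theorem IsQAut.Amap_inj {w : Fin m ⊕ Fin m → F} (hw : InW e f w) (h0 : Amap e f b w = 0) :
    w = 0 := by
  have hq := sgG_mem_Qg hw.symm1 (0 : F)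
  have h1 : b (sgG e w 0) ∈ rootGroup e := (mem_rootGroup_iff_wOf hfe (hb.mem _ hq)).2 h0
  have h2 := (hb.root _ hq).2 h1
  have h3 := (mem_rootGroup_iff_wOf hfe hq).1 h2
  rwa [wOf_sgG hfe hw] at h3

theorem IsQAut.Amap_surj {w' : Fin m ⊕ Fin m → F} (hw' : InW e f w') :
    ∃ w, InW e f w ∧ Amap e f b w = w' := by
  obtain ⟨g, hg, hbg⟩ := hb.surj _ (sgG_mem_Qg hw'.symm1 (0 : F))
  refine ⟨wOf e f g, (eq_sgG_of_mem_Qg hfe hg).1, ?_⟩
  rw [← hb.wOf_b_eq hfe hg, hbg, wOf_sgG hfe hw']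

theorem IsQAut.Amap_lev {l l' : Matrix.symplecticGroup (Fin m) F} (hl : l ∈ Lv e f)
    (hl' : l' ∈ Lv e f) (hll' : ∀ g ∈ Qg e, b (l * g * l⁻¹) = l' * b g * l'⁻¹) {c c' : F}
    (hle : l • e = c • e) (hle' : l' • e = c' • e) {w : Fin m ⊕ Fin m → F} (hw : InW e f w) :
    Amap e f b (c • (l • w)) = c' • (l' • Amap e f b w) := by
  have hq := sgG_mem_Qg hw.symm1 (0 : F)
  have h1 := hb.wOf_b_eq hfe (conj_mem_Qg_of_mem_Lv hl hq)
  rw [wOf_conj hfe hl hle hq, wOf_sgG hfe hw, hll' _ hq, wOf_conj hfe hl' hle' (hb.mem _ hq)] at h1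
  exact h1.symm

theorem IsQAut.Amap_zero : Amap e f b 0 = 0 := by
  have := hb.Amap_add hfe (InW.zero (e := e) (f := f)) InW.zero
  rw [add_zero] at this
  exact left_eq_add.1 this

theorem IsQAut.Amap_neg {w : Fin m ⊕ Fin m → F} (hw : InW e f w) :
    Amap e f b (-w) = -Amap e f b w := by
  have := hb.Amap_add hfe hw hw.neg
  rw [add_neg_cancel, hb.Amap_zero hfe] at this
  exact eq_neg_of_add_eq_zero_right this.symm

theorem IsQAut.Amap_sub {w w' : Fin m ⊕ Fin m → F} (hw : InW e f w) (hw' : InW e f w') :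
    Amap e f b (w - w') = Amap e f b w - Amap e f b w' := by
  rw [sub_eq_add_neg, hb.Amap_add hfe hw hw'.neg, hb.Amap_neg hfe hw', sub_eq_add_neg]

theorem IsQAut.Amap_injOn {w w' : Fin m ⊕ Fin m → F} (hw : InW e f w) (hw' : InW e f w')
    (h : Amap e f b w = Amap e f b w') : w = w' := by
  have := hb.Amap_sub hfe hw hw'
  rw [h, sub_self] at this
  exact sub_eq_zero.1 (hb.Amap_inj hfe (hw.sub hw') this)

end amap

open Classical in
/-- the inverse of `Amap` on `W` -/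
noncomputable def Ainv (e f : Fin m ⊕ Fin m → F)
    (b : Matrix.symplecticGroup (Fin m) F → Matrix.symplecticGroup (Fin m) F)
    (w : Fin m ⊕ Fin m → F) : Fin m ⊕ Fin m → F :=
  if h : ∃ w', InW e f w' ∧ Amap e f b w' = w then Classical.choose h else 0

section ainv

variable {e f : Fin m ⊕ Fin m → F} (hfe : Bf f e = 1)
  {b : Matrix.symplecticGroup (Fin m) F → Matrix.symplecticGroup (Fin m) F} (hb : IsQAut e f b)

include hfe hb

theorem IsQAut.Ainv_spec {w : Fin m ⊕ Fin m → F} (hw : InW e f w) :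
    InW e f (Ainv e f b w) ∧ Amap e f b (Ainv e f b w) = w := by
  unfold Ainv
  rw [dif_pos (hb.Amap_surj hfe hw)]
  exact Classical.choose_spec (hb.Amap_surj hfe hw)

theorem IsQAut.Ainv_Amap {w : Fin m ⊕ Fin m → F} (hw : InW e f w) :
    Ainv e f b (Amap e f b w) = w := by
  have h := hb.Ainv_spec hfe (hb.Amap_inW hfe hw)
  exact hb.Amap_injOn hfe h.1 hw h.2

theorem IsQAut.Ainv_add {w w' : Fin m ⊕ Fin m → F} (hw : InW e f w) (hw' : InW e f w') :
    Ainv e f b (w + w') = Ainv e f b w + Ainv e f b w' := by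
  have h1 := hb.Ainv_spec hfe hw
  have h2 := hb.Ainv_spec hfe hw'
  have h3 := hb.Ainv_spec hfe (hw.add hw')
  apply hb.Amap_injOn hfe h3.1 (h1.1.add h2.1)
  rw [h3.2, hb.Amap_add hfe h1.1 h2.1, h1.2, h2.2]

theorem IsQAut.isComm (c : F) : IsComm e f (fun w => Ainv e f b (c • Amap e f b w)) := by
  refine ⟨?_, ?_, ?_⟩
  · intro w hw
    exact (hb.Ainv_spec hfe ((hb.Amap_inW hfe hw).smul c)).1
  · intro w w' hw hw'
    rw [hb.Amap_add hfe hw hw', smul_add,
      hb.Ainv_add hfe ((hb.Amap_inW hfe hw).smul c) ((hb.Amap_inW hfe hw').smul c)]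
  · intro u a w hu hw
    have hl := tv_mem_Lv (e := e) (f := f) hu a
    obtain ⟨l', hl', c', hle', -, hll'⟩ := hb.lev u a hu
    have hle : tv u a • e = (1 : F) • e := by rw [tv_smul_of_orth hu.symm1, one_smul]
    have key : ∀ z, InW e f z → Amap e f b (tv u a • z) = c' • (l' • Amap e f b z) := by
      intro z hz
      have := hb.Amap_lev hfe hl hl' hll' hle hle' hz
      rwa [one_smul] at this
    have hz := hb.Ainv_spec hfe ((hb.Amap_inW hfe hw).smul c)
    have hlw := inW_smul_of_mem_Lv hl hw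
    have hz' := hb.Ainv_spec hfe ((hb.Amap_inW hfe hlw).smul c)
    apply hb.Amap_injOn hfe hz'.1 (inW_smul_of_mem_Lv hl hz.1)
    rw [hz'.2, key _ hz.1, hz.2, key _ hw, smul_smul', smul_comm]

/-- `Amap` is semilinear with respect to a field automorphism -/
theorem IsQAut.exists_ringEquiv [Finite F] (hd : ∃ d, InW e f d ∧ d ≠ 0) :
    ∃ σ : F ≃+* F, ∀ (c : F) (w : Fin m ⊕ Fin m → F), InW e f w →
      Amap e f b (c • w) = σ c • Amap e f b w := by
  have h0 : ∀ c : F, ∃ s : F, ∀ w, InW e f w →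
      Ainv e f b (c • Amap e f b w) = s • w := fun c =>
    IsComm.scalar hfe (hb.isComm hfe c)
  choose τ hτ using h0
  have hτ' : ∀ (c : F) (w : Fin m ⊕ Fin m → F), InW e f w →
      c • Amap e f b w = Amap e f b (τ c • w) := by
    intro c w hw
    rw [← hτ c w hw, (hb.Ainv_spec hfe ((hb.Amap_inW hfe hw).smul c)).2]
  obtain ⟨d, hdW, hd0⟩ := hd
  have hinj : ∀ a a' : F, a • d = a' • d → a = a' := fun a a' h => smul_left_injective F hd0 h
  have hadd : ∀ c c', τ (c + c') = τ c + τ c' := by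
    intro c c'
    apply hinj
    apply hb.Amap_injOn hfe (hdW.smul _) (hdW.smul _)
    rw [← hτ' _ _ hdW, add_smul, add_smul, hb.Amap_add hfe (hdW.smul _) (hdW.smul _),
      ← hτ' _ _ hdW, ← hτ' _ _ hdW]
  have hmul : ∀ c c', τ (c * c') = τ c * τ c' := by
    intro c c'
    apply hinj
    apply hb.Amap_injOn hfe (hdW.smul _) (hdW.smul _)
    rw [← hτ' _ _ hdW, mul_smul, mul_smul, ← hτ' _ _ (hdW.smul _), ← hτ' _ _ hdW]
  have hone : τ 1 = 1 := by
    apply hinj
    apply hb.Amap_injOn hfe (hdW.smul _) (hdW.smul _)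
    rw [← hτ' _ _ hdW, one_smul, one_smul]
  have hzero : τ 0 = 0 := by
    have := hadd 0 0
    rw [add_zero] at this
    exact left_eq_add.1 this
  let τr : F →+* F :=
    { toFun := τ, map_one' := hone, map_mul' := hmul, map_zero' := hzero, map_add' := hadd }
  have hbij : Function.Bijective τr :=
    ⟨τr.injective, Finite.injective_iff_surjective.1 τr.injective⟩
  refine ⟨(RingEquiv.ofBijective τr hbij).symm, ?_⟩
  intro c w hw
  have h1 := hτ' ((RingEquiv.ofBijective τr hbij).symm c) w hw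
  have h2 : τ ((RingEquiv.ofBijective τr hbij).symm c) = c :=
    (RingEquiv.ofBijective τr hbij).apply_symm_apply c
  rw [h2] at h1
  exact h1.symm

end ainv

end Cfsg.Agent.Helper2.SpA
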