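import Mathlib
import Cfsg.Agent.Lib.Helper2.Spa4

set_option autoImplicit false
set_option linter.unusedSimpArgs false
set_option linter.unusedVariables false
set_option linter.unusedSectionVars false

/-! Automorphisms of the projective symplectic groups, part 5: the induced map on `W` is a
semisimilarity and the automorphism of `Qg e` is given by an explicit formula. -/

namespace Cfsg.Agent.Helper2.SpA

open Matrix Cfsg.Agent.Helper2.Symp

variable {m : ℕ} {F : Type*} [Field F]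

/-- `W` as a submodule -/
def Wsub (e f : Fin m ⊕ Fin m → F) : Submodule F (Fin m ⊕ Fin m → F) where
  carrier := {w | InW e f w}
  add_mem' := fun h h' => h.add h'
  zero_mem' := InW.zero
  smul_mem' := fun c _ h => h.smul c

theorem mem_Wsub (e f w : Fin m ⊕ Fin m → F) : w ∈ Wsub e f ↔ InW e f w := Iff.rfl

theorem isND_Wsub {e f : Fin m ⊕ Fin m → F} (hfe : Bf f e = 1) : IsND (Wsub e f) := by
  intro u hu hu0
  obtain ⟨w, hw, hwu⟩ := exists_partner_inW hfe hu hu0
  refine ⟨w, hw, ?_⟩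
  rw [Bf_skew, hwu]
  exact neg_ne_zero.2 one_ne_zero

/-- the `e`-coordinate of the image of a Siegel element -/
noncomputable def Sf (e f : Fin m ⊕ Fin m → F)
    (b : Matrix.symplecticGroup (Fin m) F → Matrix.symplecticGroup (Fin m) F)
    (w : Fin m ⊕ Fin m → F) (s : F) : F := sOf e f (b (sgG e w s))

section form

variable {e f : Fin m ⊕ Fin m → F} (hfe : Bf f e = 1)
  {b : Matrix.symplecticGroup (Fin m) F → Matrix.symplecticGroup (Fin m) F} (hb : IsQAut e f b)

include hfe hb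

theorem IsQAut.b_sgG {w : Fin m ⊕ Fin m → F} (hw : InW e f w) (s : F) :
    b (sgG e w s) = sgG e (Amap e f b w) (Sf e f b w s) := by
  have hq := sgG_mem_Qg hw.symm1 s
  obtain ⟨-, h2⟩ := eq_sgG_of_mem_Qg hfe (hb.mem _ hq)
  rw [hb.wOf_b_eq hfe hq, wOf_sgG hfe hw] at h2
  exact h2

theorem IsQAut.Sf_mul {w w' : Fin m ⊕ Fin m → F} (hw : InW e f w) (hw' : InW e f w')
    (s s' : F) :
    Sf e f b (w + w') (s + s' + Bf w' w) =
      Sf e f b w s + Sf e f b w' s' + Bf (Amap e f b w') (Amap e f b w) := by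
  have hq := sgG_mem_Qg hw.symm1 s
  have hq' := sgG_mem_Qg hw'.symm1 s'
  have h1 : sOf e f (b (sgG e w s * sgG e w' s')) = sOf e f (b (sgG e w s) * b (sgG e w' s')) := by
    rw [hb.mul _ hq _ hq']
  rw [sgG_mul hw.symm1 hw'.symm1, sOf_mul hfe (hb.mem _ hq) (hb.mem _ hq'), hb.wOf_b_eq hfe hq,
    hb.wOf_b_eq hfe hq', wOf_sgG hfe hw, wOf_sgG hfe hw'] at h1
  exact h1

theorem IsQAut.Sf_zero_zero : Sf e f b 0 0 = 0 := by
  unfold Sf
  rw [sgG_zero, hb.map_one]
  unfold sOf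
  rw [one_smul, Bf_self]

theorem IsQAut.Sf_split {w : Fin m ⊕ Fin m → F} (hw : InW e f w) (s : F) :
    Sf e f b w s = Sf e f b w 0 + Sf e f b 0 s := by
  have h := hb.Sf_mul hfe hw InW.zero 0 s
  rw [add_zero, zero_add, Bf_zero_left, add_zero, hb.Amap_zero hfe, Bf_zero_left, add_zero] at h
  exact h

theorem IsQAut.rho_add (s s' : F) : Sf e f b 0 (s + s') = Sf e f b 0 s + Sf e f b 0 s' := by
  have h := hb.Sf_mul hfe (InW.zero (e := e) (f := f)) InW.zero s s'
  rw [add_zero, Bf_zero_left, add_zero, hb.Amap_zero hfe, Bf_zero_left, add_zero] at h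
  exact h

/-- the effect of a transvection of the Levi subgroup -/
theorem IsQAut.tv_lev {u : Fin m ⊕ Fin m → F} (hu : InW e f u) (a : F) :
    ∃ l' ∈ Lv e f, ∃ c' : F, l' • e = c' • e ∧ c' * c' = 1 ∧
      (∀ w, InW e f w → Amap e f b (tv u a • w) = c' • (l' • Amap e f b w)) ∧
      (∀ w s, InW e f w → Sf e f b (tv u a • w) s = Sf e f b w s) := by
  obtain ⟨l', hl', c', hle', hc', hll'⟩ := hb.lev u a hu
  have hl := tv_mem_Lv (e := e) (f := f) hu a
  have hle : tv u a • e = (1 : F) • e := by rw [tv_smul_of_orth hu.symm1, one_smul]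
  refine ⟨l', hl', c', hle', hc', ?_, ?_⟩
  · intro w hw
    have := hb.Amap_lev hfe hl hl' hll' hle hle' hw
    rwa [one_smul] at this
  · intro w s hw
    have hq := sgG_mem_Qg hw.symm1 s
    have h1 : tv u a * sgG e w s * (tv u a)⁻¹ = sgG e (tv u a • w) s := by
      rw [conj_sgG_of_smul_eq hle hw.symm1, one_smul, one_mul, one_mul]
    unfold Sf
    rw [← h1, hll' _ hq, sOf_conj hfe hl' hle' (hb.mem _ hq), hc', one_mul]

/-- invariance under the transvection group of `W` -/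
theorem IsQAut.inv_of_mem_tvGroup {g : Matrix.symplecticGroup (Fin m) F}
    (hg : g ∈ tvGroup (Wsub e f)) :
    ∀ w w', InW e f w → InW e f w' →
      (Bf (Amap e f b (g • w)) (Amap e f b (g • w')) = Bf (Amap e f b w) (Amap e f b w') ∧
        Sf e f b (g • w) 0 = Sf e f b w 0) := by
  induction hg using Subgroup.closure_induction with
  | mem g hg =>
    obtain ⟨u, hu, a, rfl⟩ := hg
    intro w w' hw hw'
    obtain ⟨l', hl', c', hle', hc', h1, h2⟩ := hb.tv_lev hfe hu a
    refine ⟨?_, h2 w 0 hw⟩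
    rw [h1 w hw, h1 w' hw', Bf_smul_left, Bf_smul_right, Bf_smul_smul, ← mul_assoc, hc', one_mul]
  | one =>
    intro w w' _ _
    simp only [one_smul, and_self]
  | mul g h hg' hh' ihg ihh =>
    intro w w' hw hw'
    have h1 := (smul_mem_of_mem_tvGroup hh' w hw).1
    have h2 := (smul_mem_of_mem_tvGroup hh' w' hw').1
    rw [mul_smul, mul_smul]
    exact ⟨(ihg _ _ h1 h2).1.trans (ihh _ _ hw hw').1, (ihg _ _ h1 h2).2.trans (ihh _ _ hw hw').2⟩
  | inv g hg' ih =>
    intro w w' hw hw'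
    have h1 := (smul_mem_of_mem_tvGroup hg' w hw).2
    have h2 := (smul_mem_of_mem_tvGroup hg' w' hw').2
    have h3 := ih _ _ h1 h2
    rw [smul_inv_smul, smul_inv_smul] at h3
    exact ⟨h3.1.symm, h3.2.symm⟩

variable (σ : F ≃+* F)
  (hσ : ∀ (c : F) (w : Fin m ⊕ Fin m → F), InW e f w →
    Amap e f b (c • w) = σ c • Amap e f b w)

include hσ

/-- the induced map on `W` is a semisimilarity -/
theorem IsQAut.form (hd : ∃ d, InW e f d ∧ d ≠ 0) :
    ∃ k : F, k ≠ 0 ∧ ∀ w w', InW e f w → InW e f w' →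
      Bf (Amap e f b w) (Amap e f b w') = k * σ (Bf w w') := by
  obtain ⟨d, hdW, hd0⟩ := hd
  obtain ⟨d', hd'W, hd'd⟩ := exists_partner_inW hfe hdW hd0
  obtain ⟨k, hk⟩ : ∃ k, k = Bf (Amap e f b d') (Amap e f b d) := ⟨_, rfl⟩
  have hND := isND_Wsub (e := e) (f := f) hfe
  -- hyperbolic pairs
  have h1 : ∀ w w', InW e f w → InW e f w' → Bf w w' = 1 →
      Bf (Amap e f b w) (Amap e f b w') = k := by
    intro w w' hw hw' hww'
    obtain ⟨g, hg, hg1, hg2⟩ := trans_pair hND hd'W hdW hw hw' hd'd hww'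
    have := (hb.inv_of_mem_tvGroup hfe hg d' d hd'W hdW).1
    rw [hg1, hg2] at this
    rw [this, hk]
  -- nonorthogonal pairs
  have h2 : ∀ w w', InW e f w → InW e f w' → Bf w w' ≠ 0 →
      Bf (Amap e f b w) (Amap e f b w') = k * σ (Bf w w') := by
    intro w w' hw hw' hww'
    have h3 := h1 w ((Bf w w')⁻¹ • w') hw (hw'.smul _)
      (by rw [Bf_smul_right, inv_mul_cancel₀ hww'])
    rw [hσ _ _ hw', Bf_smul_right, map_inv₀] at h3
    have h4 : σ (Bf w w') ≠ 0 := (map_ne_zero σ).2 hww'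
    field_simp at h3
    linear_combination h3
  have hform : ∀ w w', InW e f w → InW e f w' →
      Bf (Amap e f b w) (Amap e f b w') = k * σ (Bf w w') := by
    intro w w' hw hw'
    by_cases hww' : Bf w w' = 0
    · rw [hww', map_zero, mul_zero]
      by_cases hw0 : w = 0
      · rw [hw0, hb.Amap_zero hfe, Bf_zero_left]
      · obtain ⟨w'', hw'', hw''w⟩ := exists_partner_inW hfe hw hw0
        have h5 : Bf w (-w'') = 1 := by rw [Bf_neg_right, Bf_skew, hw''w, neg_neg]
        have h6 : Bf w (w' + -w'') = 1 := by rw [Bf_add_right, hww', h5, zero_add]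
        have h7 := h1 w _ hw hw''.neg h5
        have h8 := h1 w _ hw (hw'.add hw''.neg) h6
        rw [hb.Amap_add hfe hw' hw''.neg, Bf_add_right, h7] at h8
        linear_combination h8
    · exact h2 w w' hw hw' hww'
  refine ⟨k, ?_, hform⟩
  intro hk0
  have hAd : Amap e f b d ≠ 0 := fun h => hd0 (hb.Amap_inj hfe hdW h)
  obtain ⟨z, hz, hzd⟩ := exists_partner_inW hfe (hb.Amap_inW hfe hdW) hAd
  obtain ⟨w', hw', hw'z⟩ := hb.Amap_surj hfe hz
  have := hform w' d hw' hdW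
  rw [hw'z, hzd, hk0, zero_mul] at this
  exact one_ne_zero this

/-- the formula for the automorphism of `Qg e` -/
theorem IsQAut.b_formula (hd : ∃ d, InW e f d ∧ d ≠ 0)
    (hW4 : ∃ w w', InW e f w ∧ InW e f w' ∧ w ≠ 0 ∧ w' ≠ 0 ∧ w + w' ≠ 0 ∧ Bf w' w = 0) :
    ∃ k : F, k ≠ 0 ∧
      (∀ w w', InW e f w → InW e f w' →
        Bf (Amap e f b w) (Amap e f b w') = k * σ (Bf w w')) ∧
      ∀ w s, InW e f w → b (sgG e w s) = sgG e (Amap e f b w) (k * σ s) := by
  obtain ⟨k, hk0, hform⟩ := hb.form hfe σ hσ hd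
  refine ⟨k, hk0, hform, ?_⟩
  have hND := isND_Wsub (e := e) (f := f) hfe
  -- δ is constant on nonzero vectors
  have hconst : ∀ w w', InW e f w → InW e f w' → w ≠ 0 → w' ≠ 0 →
      Sf e f b w 0 = Sf e f b w' 0 := by
    intro w w' hw hw' hw0 hw'0
    obtain ⟨g, hg, hgw⟩ := trans_vec hND hw hw' hw0 hw'0
    have := (hb.inv_of_mem_tvGroup hfe hg w w hw hw).2
    rw [hgw] at this
    exact this.symm
  -- δ vanishes
  have hzero : ∀ w, InW e f w → Sf e f b w 0 = 0 := by
    obtain ⟨w₁, w₂, hw₁, hw₂, h10, h20, h120, horth⟩ := hW4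
    have h3 := hb.Sf_mul hfe hw₁ hw₂ 0 0
    rw [add_zero, zero_add, horth, hform _ _ hw₂ hw₁, horth, map_zero, mul_zero, add_zero,
      hconst _ _ (hw₁.add hw₂) hw₁ h120 h10, hconst _ _ hw₂ hw₁ h20 h10] at h3
    have h4 : Sf e f b w₁ 0 = 0 := by linear_combination -h3
    intro w hw
    by_cases hw0 : w = 0
    · rw [hw0, hb.Sf_zero_zero hfe]
    · rw [hconst _ _ hw hw₁ hw0 h10, h4]
  -- ρ
  have hrho : ∀ c : F, Sf e f b 0 c = k * σ c := by
    intro c
    obtain ⟨d, hdW, hd0⟩ := hd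
    obtain ⟨d', hd'W, hd'd⟩ := exists_partner_inW hfe hdW hd0
    have h3 := hb.Sf_mul hfe hdW (hd'W.smul c) 0 0
    rw [add_zero, zero_add, Bf_smul_left, hd'd, mul_one, hzero _ hdW, hzero _ (hd'W.smul c),
      add_zero, zero_add, hform _ _ (hd'W.smul c) hdW, Bf_smul_left, hd'd, mul_one,
      hb.Sf_split hfe (hdW.add (hd'W.smul c)), hzero _ (hdW.add (hd'W.smul c)), zero_add] at h3
    exact h3
  intro w s hw
  rw [hb.b_sgG hfe hw, hb.Sf_split hfe hw, hzero w hw, zero_add, hrho]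

end form

end Cfsg.Agent.Helper2.SpA
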