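import Mathlib
import Cfsg.Agent.Lib.Helper2.Spa5

set_option autoImplicit false
set_option linter.unusedSimpArgs false
set_option linter.unusedVariables false
set_option linter.unusedSectionVars false

/-! Automorphisms of the projective symplectic groups, part 6: an automorphism of `Qg e`
normalising the Levi action is induced by a semilinear similarity. -/

namespace Cfsg.Agent.Helper2.SpA

open Matrix Cfsg.Agent.Helper2.Symp

variable {m : ℕ} {F : Type*} [Field F]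

/-- the form in hyperbolic coordinates -/
theorem Bf_decomp {e f : Fin m ⊕ Fin m → F} (hfe : Bf f e = 1) {v v' : Fin m ⊕ Fin m → F}
    (hv : InW e f v) (hv' : InW e f v') (a b a' b' : F) :
    Bf (a • e + b • f + v) (a' • e + b' • f + v') = b * a' - a * b' + Bf v v' := by
  have hef := Bf_ef_of_fe hfe
  simp only [Bf_add_left, Bf_add_right, Bf_smul_left, Bf_smul_right, Bf_self, hfe, hef, hv.1, hv.2,
    hv'.1, hv'.2, hv.symm1, hv.symm2, hv'.symm1, hv'.symm2]
  ring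

theorem Bf_comp_ringEquiv (σ : F ≃+* F) (u v : Fin m ⊕ Fin m → F) :
    Bf (σ ∘ u) (σ ∘ v) = σ (Bf u v) := by
  simp only [Bf_def, dotProduct, Matrix.mulVec, map_sum, map_mul, Function.comp_apply]
  apply Finset.sum_congr rfl
  intro i _
  congr 1
  apply Finset.sum_congr rfl
  intro j _
  congr 1
  rcases i with i | i <;> rcases j with j | j <;>
    simp [Matrix.J, Matrix.fromBlocks_apply₁₁, Matrix.fromBlocks_apply₁₂,
      Matrix.fromBlocks_apply₂₁, Matrix.fromBlocks_apply₂₂, Matrix.one_apply, apply_ite σ]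

/-- the semilinear similarity attached to an automorphism of `Qg e` -/
noncomputable def tauMap (e f : Fin m ⊕ Fin m → F)
    (b : Matrix.symplecticGroup (Fin m) F → Matrix.symplecticGroup (Fin m) F) (σ : F ≃+* F)
    (k : F) (x : Fin m ⊕ Fin m → F) : Fin m ⊕ Fin m → F :=
  (σ (Bf f x) * k) • e + σ (Bf x e) • f + Amap e f b (x - Bf f x • e - Bf x e • f)

section taumap

variable {e f : Fin m ⊕ Fin m → F} (hfe : Bf f e = 1)
  {b : Matrix.symplecticGroup (Fin m) F → Matrix.symplecticGroup (Fin m) F} (hb : IsQAut e f b)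
  (σ : F ≃+* F)
  (hσ : ∀ (c : F) (w : Fin m ⊕ Fin m → F), InW e f w →
    Amap e f b (c • w) = σ c • Amap e f b w)
  {k : F} (hk0 : k ≠ 0)
  (hform : ∀ w w', InW e f w → InW e f w' →
        Bf (Amap e f b w) (Amap e f b w') = k * σ (Bf w w'))
  (hbf : ∀ w s, InW e f w → b (sgG e w s) = sgG e (Amap e f b w) (k * σ s))

include hfe hb hσ hk0 hform hbf

theorem IsQAut.tauMap_add (x y : Fin m ⊕ Fin m → F) :
    tauMap e f b σ k (x + y) = tauMap e f b σ k x + tauMap e f b σ k y := by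
  unfold tauMap
  have h1 : x + y - Bf f (x + y) • e - Bf (x + y) e • f =
      (x - Bf f x • e - Bf x e • f) + (y - Bf f y • e - Bf y e • f) := by
    rw [Bf_add_right, Bf_add_left]
    module
  rw [h1, hb.Amap_add hfe (inW_proj hfe x) (inW_proj hfe y), Bf_add_right, Bf_add_left, map_add,
    map_add]
  module

theorem IsQAut.tauMap_smul (c : F) (x : Fin m ⊕ Fin m → F) :
    tauMap e f b σ k (c • x) = σ c • tauMap e f b σ k x := by
  unfold tauMap
  have h1 : c • x - Bf f (c • x) • e - Bf (c • x) e • f =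
      c • (x - Bf f x • e - Bf x e • f) := by
    rw [Bf_smul_right, Bf_smul_left]
    module
  rw [h1, hσ c _ (inW_proj hfe x), Bf_smul_right, Bf_smul_left, map_mul, map_mul]
  module

theorem IsQAut.tauMap_Bf (x y : Fin m ⊕ Fin m → F) :
    Bf (tauMap e f b σ k x) (tauMap e f b σ k y) = k * σ (Bf x y) := by
  have hx := inW_proj (e := e) hfe x
  have hy := inW_proj (e := e) hfe y
  have hAx := hb.Amap_inW hfe hx
  have hAy := hb.Amap_inW hfe hy
  unfold tauMap
  rw [Bf_decomp hfe hAx hAy, hform _ _ hx hy]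
  conv_rhs => rw [eq_decomp e f x, eq_decomp e f y, Bf_decomp hfe hx hy]
  simp only [map_add, map_sub, map_mul]
  ring

theorem IsQAut.tauMap_e : tauMap e f b σ k e = k • e := by
  unfold tauMap
  have h1 : e - Bf f e • e - Bf e e • f = 0 := by
    rw [hfe, Bf_self, one_smul, zero_smul, sub_self, sub_zero]
  rw [h1, hb.Amap_zero hfe, hfe, Bf_self, _root_.map_one σ, _root_.map_zero σ, zero_smul, one_mul,
    add_zero, add_zero]

theorem IsQAut.tauMap_f : tauMap e f b σ k f = f := by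
  unfold tauMap
  have h1 : f - Bf f f • e - Bf f e • f = 0 := by
    rw [hfe, Bf_self, one_smul, zero_smul, sub_zero, sub_self]
  rw [h1, hb.Amap_zero hfe, hfe, Bf_self, _root_.map_one σ, _root_.map_zero σ, zero_mul, zero_smul,
    one_smul, zero_add, add_zero]

theorem IsQAut.tauMap_w {w : Fin m ⊕ Fin m → F} (hw : InW e f w) :
    tauMap e f b σ k w = Amap e f b w := by
  unfold tauMap
  rw [hw.1, hw.symm2, zero_smul, zero_smul, sub_zero, sub_zero, _root_.map_zero σ, zero_mul,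
    zero_smul, zero_smul, zero_add, zero_add]

/-- the semilinear similarity intertwines a Siegel element with its image -/
theorem IsQAut.tauMap_sgG {w : Fin m ⊕ Fin m → F} (hw : InW e f w) (s : F)
    (x : Fin m ⊕ Fin m → F) :
    sgG e (Amap e f b w) (k * σ s) • tauMap e f b σ k x =
      tauMap e f b σ k (sgG e w s • x) := by
  have hAw := hb.Amap_inW hfe hw
  have hte := hb.tauMap_e hfe σ hσ hk0 hform hbf
  have htw := hb.tauMap_w hfe σ hσ hk0 hform hbf hw
  have h1 : Bf (tauMap e f b σ k x) e = σ (Bf x e) := by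
    have := hb.tauMap_Bf hfe σ hσ hk0 hform hbf x e
    rw [hte, Bf_smul_right] at this
    exact mul_left_cancel₀ hk0 this
  have h2 : Bf (tauMap e f b σ k x) (Amap e f b w) = k * σ (Bf x w) := by
    have := hb.tauMap_Bf hfe σ hσ hk0 hform hbf x w
    rwa [htw] at this
  rw [sgG_smul hAw.symm1, sgG_smul hw.symm1,
    hb.tauMap_add hfe σ hσ hk0 hform hbf, hb.tauMap_add hfe σ hσ hk0 hform hbf,
    hb.tauMap_smul hfe σ hσ hk0 hform hbf, hb.tauMap_smul hfe σ hσ hk0 hform hbf, hte, htw, h1, h2,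
    map_add, map_mul]
  module

/-- the matrix of the semilinear similarity -/
noncomputable def tauMat (e f : Fin m ⊕ Fin m → F)
    (b : Matrix.symplecticGroup (Fin m) F → Matrix.symplecticGroup (Fin m) F) (σ : F ≃+* F)
    (k : F) : Matrix (Fin m ⊕ Fin m) (Fin m ⊕ Fin m) F :=
  Matrix.of fun i j => tauMap e f b σ k (Pi.single j 1) i

theorem IsQAut.tauMat_mulVec (x : Fin m ⊕ Fin m → F) :
    tauMat e f b σ k *ᵥ (σ ∘ x) = tauMap e f b σ k x := by
  have hx : x = ∑ j, x j • (Pi.single j (1 : F) : Fin m ⊕ Fin m → F) := by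
    funext i
    simp [Finset.sum_apply, Pi.single_apply]
  let T : (Fin m ⊕ Fin m → F) →+ (Fin m ⊕ Fin m → F) := AddMonoidHom.mk' (tauMap e f b σ k)
    (hb.tauMap_add hfe σ hσ hk0 hform hbf)
  have hT : ∀ y, T y = tauMap e f b σ k y := fun y => rfl
  conv_rhs => rw [hx, ← hT, map_sum]
  funext i
  rw [Finset.sum_apply]
  simp only [Matrix.mulVec, dotProduct, tauMat, Matrix.of_apply, Function.comp_apply]
  apply Finset.sum_congr rfl
  intro j _
  rw [hT, hb.tauMap_smul hfe σ hσ hk0 hform hbf, Pi.smul_apply, smul_eq_mul, mul_comm]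

theorem IsQAut.tauMat_Bf (u v : Fin m ⊕ Fin m → F) :
    Bf (tauMat e f b σ k *ᵥ u) (tauMat e f b σ k *ᵥ v) = k * Bf u v := by
  have hu : u = σ ∘ (σ.symm ∘ u) := by
    funext i
    simp
  have hv : v = σ ∘ (σ.symm ∘ v) := by
    funext i
    simp
  calc Bf (tauMat e f b σ k *ᵥ u) (tauMat e f b σ k *ᵥ v)
      = Bf (tauMat e f b σ k *ᵥ (σ ∘ (σ.symm ∘ u))) (tauMat e f b σ k *ᵥ (σ ∘ (σ.symm ∘ v))) := by
        rw [← hu, ← hv]
    _ = k * σ (Bf (σ.symm ∘ u) (σ.symm ∘ v)) := by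
        rw [hb.tauMat_mulVec hfe σ hσ hk0 hform hbf, hb.tauMat_mulVec hfe σ hσ hk0 hform hbf,
          hb.tauMap_Bf hfe σ hσ hk0 hform hbf]
    _ = k * Bf u v := by rw [← Bf_comp_ringEquiv, ← hu, ← hv]

theorem IsQAut.tauMat_intertwine {x : Matrix.symplecticGroup (Fin m) F} (hx : x ∈ Qg e) :
    (b x : Matrix (Fin m ⊕ Fin m) (Fin m ⊕ Fin m) F) * tauMat e f b σ k =
      tauMat e f b σ k * (x : Matrix (Fin m ⊕ Fin m) (Fin m ⊕ Fin m) F).map σ := by
  obtain ⟨hW, hxeq⟩ := eq_sgG_of_mem_Qg hfe hx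
  rw [Matrix.ext_iff_mulVec]
  intro y
  have hy : y = σ ∘ (σ.symm ∘ y) := by
    funext i
    simp
  rw [hy, ← Matrix.mulVec_mulVec, ← Matrix.mulVec_mulVec,
    hb.tauMat_mulVec hfe σ hσ hk0 hform hbf]
  have h1 : (x : Matrix (Fin m ⊕ Fin m) (Fin m ⊕ Fin m) F).map σ *ᵥ (σ ∘ (σ.symm ∘ y)) =
      σ ∘ ((x : Matrix (Fin m ⊕ Fin m) (Fin m ⊕ Fin m) F) *ᵥ (σ.symm ∘ y)) := by
    funext i
    exact (RingHom.map_mulVec (σ : F →+* F) _ (σ.symm ∘ y) i).symm
  rw [h1, hb.tauMat_mulVec hfe σ hσ hk0 hform hbf, ← smul_def, ← smul_def]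
  conv_lhs => rw [hxeq, hbf _ _ hW]
  conv_rhs => rw [hxeq]
  exact hb.tauMap_sgG hfe σ hσ hk0 hform hbf hW _ _

end taumap

/-- **the core theorem**: an automorphism of `Qg e` compatible with the root group and
normalising the Levi action is induced by a semilinear similarity fixing the points of `e`
and `f` -/
theorem IsQAut.exists_matrix [Finite F] {e f : Fin m ⊕ Fin m → F} (hfe : Bf f e = 1)
    {b : Matrix.symplecticGroup (Fin m) F → Matrix.symplecticGroup (Fin m) F}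
    (hb : IsQAut e f b) (hd : ∃ d, InW e f d ∧ d ≠ 0)
    (hW4 : ∃ w w', InW e f w ∧ InW e f w' ∧ w ≠ 0 ∧ w' ≠ 0 ∧ w + w' ≠ 0 ∧ Bf w' w = 0) :
    ∃ (σ : F ≃+* F) (g₀ : Matrix (Fin m ⊕ Fin m) (Fin m ⊕ Fin m) F) (k : F), k ≠ 0 ∧
      (∀ u v, Bf (g₀ *ᵥ u) (g₀ *ᵥ v) = k * Bf u v) ∧
      g₀ *ᵥ (σ ∘ e) = k • e ∧ g₀ *ᵥ (σ ∘ f) = f ∧
      ∀ x ∈ Qg e, (b x : Matrix (Fin m ⊕ Fin m) (Fin m ⊕ Fin m) F) * g₀ =
        g₀ * (x : Matrix (Fin m ⊕ Fin m) (Fin m ⊕ Fin m) F).map σ := by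
  obtain ⟨σ, hσ⟩ := hb.exists_ringEquiv hfe hd
  obtain ⟨k, hk0, hform, hbf⟩ := hb.b_formula hfe σ hσ hd hW4
  refine ⟨σ, tauMat e f b σ k, k, hk0, hb.tauMat_Bf hfe σ hσ hk0 hform hbf, ?_, ?_, ?_⟩
  · rw [hb.tauMat_mulVec hfe σ hσ hk0 hform hbf, hb.tauMap_e hfe σ hσ hk0 hform hbf]
  · rw [hb.tauMat_mulVec hfe σ hσ hk0 hform hbf, hb.tauMap_f hfe σ hσ hk0 hform hbf]
  · intro x hx
    exact hb.tauMat_intertwine hfe σ hσ hk0 hform hbf hx

end Cfsg.Agent.Helper2.SpA
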