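import Mathlib
import Cfsg.Agent.Lib.Helper2.Spa6
import Cfsg.Agent.Lib.Helper2.SpCenter

set_option autoImplicit false
set_option linter.unusedSimpArgs false
set_option linter.unusedVariables false
set_option linter.unusedSectionVars false

/-! Automorphisms of the projective symplectic groups, part 7: the centre, generation by
`Qg e` and an opposite root group, and further lemmas on transvections. -/

namespace Cfsg.Agent.Helper2.SpA

open Matrix Cfsg.Agent.Helper2.Symp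

variable {m : ℕ} {F : Type*} [Field F]

theorem nonempty_of_pair {e f : Fin m ⊕ Fin m → F} (hfe : Bf f e = 1) : Nonempty (Fin m) := by
  by_contra h
  rw [not_nonempty_iff] at h
  have he : e = 0 := by
    funext i
    rcases i with i | i <;> exact (h.false i).elim
  rw [he, Bf_zero_right] at hfe
  exact zero_ne_one hfe

theorem negOne_smul (x : Fin m ⊕ Fin m → F) :
    Cfsg.Agent.Helper2.Sp.negOne (Fin m) F • x = -x := by
  rw [smul_def, Cfsg.Agent.Helper2.Sp.negOne_coe, Matrix.neg_mulVec, Matrix.one_mulVec]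

/-- central elements are scalars `± 1` -/
theorem center_smul [Nonempty (Fin m)] {z : Matrix.symplecticGroup (Fin m) F}
    (hz : z ∈ Subgroup.center (Matrix.symplecticGroup (Fin m) F)) :
    ∃ ε : F, ε * ε = 1 ∧ ∀ x : Fin m ⊕ Fin m → F, z • x = ε • x := by
  rcases (Cfsg.Agent.Helper2.Sp.mem_center_iff z).1 hz with h | h
  · exact ⟨1, one_mul 1, fun x => by rw [h, one_smul, one_smul]⟩
  · exact ⟨-1, by ring, fun x => by rw [h, negOne_smul, neg_smul, one_smul]⟩

theorem center_le_Pst [Nonempty (Fin m)] (v : Fin m ⊕ Fin m → F) :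
    Subgroup.center (Matrix.symplecticGroup (Fin m) F) ≤ Pst v := by
  intro z hz
  obtain ⟨ε, hε, h⟩ := center_smul hz
  refine ⟨ε, ?_, h v⟩
  rintro rfl
  rw [mul_zero] at hε
  exact zero_ne_one hε

theorem pow_smul_eigen {g : Matrix.symplecticGroup (Fin m) F} {c : F} {x : Fin m ⊕ Fin m → F}
    (h : g • x = c • x) (k : ℕ) : (g ^ k) • x = c ^ k • x := by
  induction k with
  | zero => rw [pow_zero, pow_zero, one_smul, one_smul]
  | succ k ih => rw [pow_succ, pow_succ, mul_smul, h, smul_smul', ih, smul_smul, mul_comm]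

theorem eq_one_of_pow_char (p : ℕ) [Fact p.Prime] [CharP F p] {c : F} {k : ℕ}
    (h : c ^ (p ^ k) = 1) : c = 1 := by
  have h4 : (c - 1) ^ (p ^ k) = 0 := by rw [sub_pow_char_pow, one_pow, h, sub_self]
  exact sub_eq_zero.1 (pow_eq_zero_iff (pow_ne_zero k (Fact.out : p.Prime).ne_zero) |>.1 h4)

/-- an element of `p`-power order fixes its eigenvectors -/
theorem smul_eq_of_pow (p : ℕ) [Fact p.Prime] [CharP F p]
    {g : Matrix.symplecticGroup (Fin m) F} {c : F} {x : Fin m ⊕ Fin m → F}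
    (hx0 : x ≠ 0) (h : g • x = c • x) {k : ℕ} (hk : g ^ (p ^ k) = 1) : g • x = x := by
  have h1 := pow_smul_eigen h (p ^ k)
  rw [hk, one_smul] at h1
  have h2 : c ^ (p ^ k) = 1 := by
    have h3 : (c ^ (p ^ k) - 1) • x = 0 := by rw [sub_smul, ← h1, one_smul, sub_self]
    rcases smul_eq_zero.1 h3 with h | h
    · exact sub_eq_zero.1 h
    · exact absurd h hx0
  rw [h, eq_one_of_pow_char p h2, one_smul]

/-- `p`-elements which agree modulo the centre are equal -/
theorem eq_of_pow_of_center (p : ℕ) [Fact p.Prime] [CharP F p] [Nonempty (Fin m)]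
    {x y : Matrix.symplecticGroup (Fin m) F} {a b : ℕ} (hx : x ^ (p ^ a) = 1)
    (hy : y ^ (p ^ b) = 1) (h : x⁻¹ * y ∈ Subgroup.center (Matrix.symplecticGroup (Fin m) F)) :
    x = y := by
  obtain ⟨z, hz⟩ : ∃ z, z = x⁻¹ * y := ⟨_, rfl⟩
  rw [← hz] at h
  have hy' : y = x * z := by rw [hz, mul_inv_cancel_left]
  have hcomm : Commute x z := (Subgroup.mem_center_iff.1 h) x
  have hzpow : z ^ (p ^ (a + b)) = 1 := by
    have h1 : y ^ (p ^ (a + b)) = 1 := by
      rw [add_comm, pow_add, pow_mul, hy, one_pow]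
    have h2 : x ^ (p ^ (a + b)) = 1 := by
      rw [pow_add, pow_mul, hx, one_pow]
    rw [hy', hcomm.mul_pow, h2, one_mul] at h1
    exact h1
  obtain ⟨ε, -, hε⟩ := center_smul h
  obtain ⟨i⟩ := ‹Nonempty (Fin m)›
  have h3 := smul_eq_of_pow p (eV_ne_zero (F := F) i) (hε (eV i)) hzpow
  rw [hε] at h3
  have hε1 : ε = 1 := by
    have h4 : (ε - 1) • (eV i : Fin m ⊕ Fin m → F) = 0 := by rw [sub_smul, h3, one_smul, sub_self]
    rcases smul_eq_zero.1 h4 with h5 | h5
    · exact sub_eq_zero.1 h5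
    · exact absurd h5 (eV_ne_zero i)
  have hz1 : z = 1 := by
    apply ext_smul
    intro v
    rw [hε, hε1, one_smul, one_smul]
  rw [hy', hz1, mul_one]

/-- an element of `Qg e` moving `f` to a prescribed vector -/
theorem exists_Qg_map {e f : Fin m ⊕ Fin m → F} (hfe : Bf f e = 1) {f' : Fin m ⊕ Fin m → F}
    (hf'e : Bf f' e = 1) : ∃ q ∈ Qg e, q • f = f' := by
  obtain ⟨w, hw⟩ : ∃ w, w = f' - Bf f f' • e - Bf f' e • f := ⟨_, rfl⟩
  have hwW : InW e f w := by rw [hw]; exact inW_proj hfe f'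
  refine ⟨sgG e w (Bf f f'), sgG_mem_Qg hwW.symm1 _, ?_⟩
  rw [sgG_smul_f hfe hwW, hw, hf'e, one_smul]
  abel

/-- the point stabiliser is the product of `Qg e` and the Levi subgroup -/
theorem exists_mul_of_mem_Pst {e f : Fin m ⊕ Fin m → F} (hfe : Bf f e = 1)
    {g : Matrix.symplecticGroup (Fin m) F} (hg : g ∈ Pst e) :
    ∃ q ∈ Qg e, ∃ l ∈ Lv e f, g = q * l := by
  obtain ⟨c, hc0, hge⟩ := hg
  have h1 : Bf (c • (g • f)) e = 1 := by
    have h2 : Bf (g • f) (g • e) = Bf f e := Bf_smul_smul g f e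
    rw [hge, Bf_smul_right, hfe] at h2
    rw [Bf_smul_left, h2]
  obtain ⟨q, hq, hqf⟩ := exists_Qg_map hfe h1
  refine ⟨q, hq, q⁻¹ * g, ⟨⟨c, hc0, ?_⟩, ⟨c⁻¹, inv_ne_zero hc0, ?_⟩⟩, by rw [mul_inv_cancel_left]⟩
  · rw [mul_smul, hge, smul_smul', inv_smul_eq_iff.2 hq.1.symm]
  · rw [mul_smul, inv_smul_eq_iff, smul_smul', hqf, smul_smul, inv_mul_cancel₀ hc0, one_smul]

/-- a transvection determines its point -/
theorem smul_of_tv_mem_rootGroup {v v' : Fin m ⊕ Fin m → F} (hv0 : v ≠ 0) {a : F} (ha0 : a ≠ 0)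
    (h : tv v a ∈ rootGroup v') : ∃ c : F, v = c • v' := by
  obtain ⟨a', heq⟩ := mem_rootGroup.1 h
  obtain ⟨y, hy⟩ := exists_partner hv0
  have h1 : tv v a • y = tv v' a' • y := by rw [heq]
  rw [tv_smul, tv_smul, add_right_inj, hy, mul_one] at h1
  refine ⟨a⁻¹ * (a' * Bf y v'), ?_⟩
  rw [← smul_smul, ← h1, smul_smul, inv_mul_cancel₀ ha0, one_smul]

theorem tv_eq_one_iff {v : Fin m ⊕ Fin m → F} (hv0 : v ≠ 0) (a : F) : tv v a = 1 ↔ a = 0 := by
  constructor
  · intro h
    obtain ⟨y, hy⟩ := exists_partner hv0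
    have h1 : tv v a • y = y := by rw [h, one_smul]
    rw [tv_smul, hy, mul_one, add_eq_left] at h1
    rcases smul_eq_zero.1 h1 with h2 | h2
    · exact h2
    · exact absurd h2 hv0
  · rintro rfl
    exact tv_zero_right v

/-- transvections along non-orthogonal vectors do not commute modulo the centre -/
theorem tv_not_comm [Nonempty (Fin m)] {e f : Fin m ⊕ Fin m → F} (hfe : Bf f e = 1) {a b : F}
    (ha0 : a ≠ 0) (hb0 : b ≠ 0) :
    (tv e a * tv f b)⁻¹ * (tv f b * tv e a) ∉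
      Subgroup.center (Matrix.symplecticGroup (Fin m) F) := by
  intro h
  obtain ⟨ε, -, hε⟩ := center_smul h
  have h1 := hε e
  rw [mul_smul, inv_smul_eq_iff, mul_smul, tv_smul_of_orth (Bf_self e), tv_f_smul_e hfe,
    smul_smul', mul_smul, tv_f_smul_e hfe, smul_sub', tv_smul_of_orth (Bf_self e), smul_smul',
    tv_smul_f hfe] at h1
  have h2 := congrArg (fun x => Bf x e) h1
  simp only [Bf_sub_left, Bf_smul_left, Bf_add_left, Bf_self, hfe] at h2
  have hε1 : ε = 1 := by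
    have : b * (ε - 1) = 0 := by linear_combination h2
    rcases mul_eq_zero.1 this with h3 | h3
    · exact absurd h3 hb0
    · exact sub_eq_zero.1 h3
  have h3 := congrArg (fun x => Bf f x) h1
  simp only [Bf_sub_right, Bf_smul_right, Bf_add_right, Bf_self, hfe, hε1] at h3
  have : a * b = 0 := by linear_combination h3
  rcases mul_eq_zero.1 this with h4 | h4
  · exact ha0 h4
  · exact hb0 h4

theorem tv_comm_of_orth' (u w : Fin m ⊕ Fin m → F) (c d : F) (h : Bf u w = 0) :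
    tv u c * tv w d = tv w d * tv u c := tv_comm_of_orth u w c d h

theorem Qg_smul_vec (v : Fin m ⊕ Fin m → F) {c : F} (hc : c ≠ 0) : Qg (c • v) = Qg v := by
  ext g
  rw [mem_Qg_iff, mem_Qg_iff]
  constructor
  · rintro ⟨h1, h2⟩
    refine ⟨?_, fun x hx => ?_⟩
    · rw [smul_smul'] at h1
      exact smul_right_injective _ hc h1
    · obtain ⟨d, hd⟩ := h2 x (by rw [Bf_smul_right, hx, mul_zero])
      exact ⟨d * c, by rw [hd, smul_smul]⟩
  · rintro ⟨h1, h2⟩
    refine ⟨by rw [smul_smul', h1], fun x hx => ?_⟩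
    rw [Bf_smul_right] at hx
    rcases mul_eq_zero.1 hx with h | h
    · exact absurd h hc
    · obtain ⟨d, hd⟩ := h2 x h
      exact ⟨d * c⁻¹, by rw [hd, smul_smul, mul_assoc, inv_mul_cancel₀ hc, mul_one]⟩

theorem conj_mem_Qg_smul (g : Matrix.symplecticGroup (Fin m) F) {v : Fin m ⊕ Fin m → F}
    {q : Matrix.symplecticGroup (Fin m) F} (hq : q ∈ Qg v) : g * q * g⁻¹ ∈ Qg (g • v) := by
  refine ⟨?_, fun x hx => ?_⟩
  · rw [mul_smul, mul_smul, inv_smul_smul, hq.1]
  · have h1 : Bf (g⁻¹ • x) v = 0 := by rw [Bf_smul_inv, hx]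
    obtain ⟨d, hd⟩ := hq.2 _ h1
    exact ⟨d, by rw [mul_smul, mul_smul, hd, smul_add', smul_inv_smul, smul_smul']⟩

theorem rootGroup_smul_le (g : Matrix.symplecticGroup (Fin m) F) (v : Fin m ⊕ Fin m → F)
    {K : Subgroup (Matrix.symplecticGroup (Fin m) F)} (hg : g ∈ K) (h : rootGroup v ≤ K) :
    rootGroup (g • v) ≤ K := by
  intro x hx
  obtain ⟨c, rfl⟩ := mem_rootGroup.1 hx
  rw [← conj_tv]
  exact K.mul_mem (K.mul_mem hg (h (mem_rootGroup.2 ⟨c, rfl⟩))) (K.inv_mem hg)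

/-- `Qg e` and the root group of `f` generate the group -/
theorem eq_top_of_Qg_rootGroup {e f : Fin m ⊕ Fin m → F} (hfe : Bf f e = 1)
    {K : Subgroup (Matrix.symplecticGroup (Fin m) F)} (h1 : Qg e ≤ K) (h2 : rootGroup f ≤ K) :
    K = ⊤ := by
  have hef := Bf_ef_of_fe hfe
  have hn : wE e f 1 ∈ K := by
    unfold wE
    exact K.mul_mem (K.mul_mem (h1 (tv_mem_Qg e 1)) (h2 (mem_rootGroup.2 ⟨_, rfl⟩)))
      (h1 (tv_mem_Qg e 1))
  have hnf : wE e f 1 • f = e := by rw [wE_smul_f hfe one_ne_zero, one_smul]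
  have h3 : Qg f ≤ K := by
    intro q hq
    have h4 := conj_mem_Qg_smul (wE e f 1) hq
    rw [hnf] at h4
    have h5 := K.mul_mem (K.mul_mem (K.inv_mem hn) (h1 h4)) hn
    have h6 : (wE e f 1)⁻¹ * (wE e f 1 * q * (wE e f 1)⁻¹) * wE e f 1 = q := by group
    rwa [h6] at h5
  have h4 : rootGroup e ≤ K := (rootGroup_le_Qg e).trans h1
  -- points not orthogonal to e
  have hA : ∀ v : Fin m ⊕ Fin m → F, Bf v e ≠ 0 → rootGroup v ≤ K := by
    intro v hve
    obtain ⟨v', hv'⟩ : ∃ v', v' = (Bf v e)⁻¹ • v := ⟨_, rfl⟩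
    have hv'e : Bf v' e = 1 := by rw [hv', Bf_smul_left, inv_mul_cancel₀ hve]
    obtain ⟨q, hq, hqf⟩ := exists_Qg_map hfe hv'e
    have h5 := rootGroup_smul_le q f (h1 hq) h2
    rw [hqf] at h5
    have h6 : v = Bf v e • v' := by rw [hv', smul_smul, mul_inv_cancel₀ hve, one_smul]
    rw [h6, rootGroup_smul_vec v' hve]
    exact h5
  have hfe' : Bf (-e) f = 1 := by rw [Bf_neg_left, hef, neg_neg]
  have hB : ∀ v : Fin m ⊕ Fin m → F, Bf v f ≠ 0 → rootGroup v ≤ K := by
    intro v hvf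
    obtain ⟨v', hv'⟩ : ∃ v', v' = (Bf v f)⁻¹ • v := ⟨_, rfl⟩
    have hv'f : Bf v' f = 1 := by rw [hv', Bf_smul_left, inv_mul_cancel₀ hvf]
    obtain ⟨q, hq, hqe⟩ := exists_Qg_map hfe' hv'f
    have h4' : rootGroup (-e) ≤ K := by
      have : (-e : Fin m ⊕ Fin m → F) = (-1 : F) • e := by rw [neg_smul, one_smul]
      rw [this, rootGroup_smul_vec e (neg_ne_zero.2 one_ne_zero)]
      exact h4
    have h5 := rootGroup_smul_le q (-e) (h3 hq) h4'
    rw [hqe] at h5
    have h6 : v = Bf v f • v' := by rw [hv', smul_smul, mul_inv_cancel₀ hvf, one_smul]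
    rw [h6, rootGroup_smul_vec v' hvf]
    exact h5
  have hC : ∀ (v : Fin m ⊕ Fin m → F) (c : F), tv v c ∈ K := by
    intro v c
    by_cases hve : Bf v e = 0
    · -- use the decomposition of a Siegel element
      have hev : Bf e v = 0 := by rw [Bf_skew, hve, neg_zero]
      by_cases hvf : Bf v f = 0
      · have h6 : sgG e v (0 : F) ∈ K := h1 (sgG_mem_Qg hev 0)
        have h7 : tv (e + v) c ∈ K :=
          hB _ (by rw [Bf_add_left, hef, hvf, add_zero]; exact neg_ne_zero.2 one_ne_zero)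
            (mem_rootGroup.2 ⟨_, rfl⟩)
        have h8 : tv e (-c) ∈ K := h4 (mem_rootGroup.2 ⟨_, rfl⟩)
        have h9 : sgG e ((-c) • v) (0 : F) ∈ K :=
          h1 (sgG_mem_Qg (by rw [Bf_smul_right, hev, mul_zero]) 0)
        have h10 : tv v c = tv (e + v) c * tv e (-c) * sgG e ((-c) • v) 0 := by
          apply ext_smul
          intro x
          rw [mul_smul, mul_smul, sgG_smul (by rw [Bf_smul_right, hev, mul_zero]), tv_smul,
            tv_smul, tv_smul]
          simp only [Bf_add_left, Bf_add_right, Bf_smul_left, Bf_smul_right, Bf_self, hev, hve,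
            mul_zero, add_zero, zero_add, zero_mul]
          module
        rw [h10]
        exact K.mul_mem (K.mul_mem h7 h8) h9
      · exact hB v hvf (mem_rootGroup.2 ⟨_, rfl⟩)
    · exact hA v hve (mem_rootGroup.2 ⟨_, rfl⟩)
  rw [eq_top_iff, ← tvGroup_top_eq_top]
  unfold tvGroup
  rw [Subgroup.closure_le]
  rintro g ⟨x, -, c, rfl⟩
  exact hC x c

end Cfsg.Agent.Helper2.SpA
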