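import Mathlib
import Cfsg.Agent.Lib.Helper2.Spa7
import Cfsg.Agent.Lib.Helper5.GreenAux

set_option autoImplicit false
set_option linter.unusedSimpArgs false
set_option linter.unusedVariables false
set_option linter.unusedSectionVars false

/-! Automorphisms of the projective symplectic groups, part 8: `p`-subgroups and the largest
normal `p`-subgroup of a point stabiliser. -/

namespace Cfsg.Agent.Helper2.SpA

open Matrix Cfsg.Agent.Helper2.Symp

variable {m : ℕ} {F : Type*} [Field F]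

/-- the natural representation of a subgroup -/
noncomputable def rhoRep (P : Subgroup (Matrix.symplecticGroup (Fin m) F)) :
    ↥P →* ((Fin m ⊕ Fin m → F) →ₗ[F] (Fin m ⊕ Fin m → F)) where
  toFun g := Matrix.toLin' ((g : Matrix.symplecticGroup (Fin m) F) :
    Matrix (Fin m ⊕ Fin m) (Fin m ⊕ Fin m) F)
  map_one' := by
    rw [Subgroup.coe_one]
    change Matrix.toLin' (1 : Matrix (Fin m ⊕ Fin m) (Fin m ⊕ Fin m) F) = 1
    rw [Matrix.toLin'_one]
    rfl
  map_mul' := by
    intro a b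
    rw [Subgroup.coe_mul]
    change Matrix.toLin' ((a : Matrix.symplecticGroup (Fin m) F).1 *
      (b : Matrix.symplecticGroup (Fin m) F).1) = _
    rw [Matrix.toLin'_mul]
    rfl

theorem rhoRep_apply (P : Subgroup (Matrix.symplecticGroup (Fin m) F)) (g : ↥P)
    (w : Fin m ⊕ Fin m → F) : rhoRep P g w = (g : Matrix.symplecticGroup (Fin m) F) • w := by
  unfold rhoRep
  simp only [MonoidHom.coe_mk, OneHom.coe_mk, Matrix.toLin'_apply]
  rfl

/-- the vectors fixed by `Qg e` are the multiples of `e` -/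
theorem eq_smul_of_fixed {e f : Fin m ⊕ Fin m → F} (hfe : Bf f e = 1) {x : Fin m ⊕ Fin m → F}
    (hx : ∀ g ∈ Qg e, g • x = x) : ∃ c : F, x = c • e := by
  have he0 : e ≠ 0 := ne_zero_of_Bf_eq_one' hfe
  have h1 : Bf x e = 0 := by
    have := hx _ (tv_mem_Qg e 1)
    rw [tv_smul, one_mul, add_eq_left] at this
    rcases smul_eq_zero.1 this with h | h
    · exact h
    · exact absurd h he0
  obtain ⟨y, hy⟩ : ∃ y, y = x - Bf f x • e - Bf x e • f := ⟨_, rfl⟩
  have hyW : InW e f y := by rw [hy]; exact inW_proj hfe x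
  have hxy : x = Bf f x • e + y := by rw [hy, h1]; module
  have hy0 : y = 0 := by
    by_contra hne
    obtain ⟨w, hw, hwy⟩ := exists_partner_inW hfe hyW hne
    have := hx _ (sgG_mem_Qg hw.symm1 (0 : F))
    rw [sgG_smul hw.symm1, h1, zero_smul, mul_zero, add_zero, add_zero, add_eq_left] at this
    have h2 : Bf x w = Bf y w := by
      conv_lhs => rw [hxy]
      rw [Bf_add_left, Bf_smul_left, hw.symm1, mul_zero, zero_add]
    rw [h2, Bf_skew, hwy] at this
    rcases smul_eq_zero.1 this with h | h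
    · exact one_ne_zero (neg_eq_zero.1 h)
    · exact he0 h
  rw [hy0, add_zero] at hxy
  exact ⟨Bf f x, hxy⟩

theorem exists_pow_of_isPGroup (p : ℕ) {P : Subgroup (Matrix.symplecticGroup (Fin m) F)}
    (hP : IsPGroup p P) : ∀ k ∈ P, ∃ a : ℕ, k ^ (p ^ a) = 1 := by
  intro g hg
  obtain ⟨k, hk⟩ := hP ⟨g, hg⟩
  refine ⟨k, ?_⟩
  have := congrArg Subtype.val hk
  rwa [Subgroup.coe_pow, Subgroup.coe_one] at this

section sylow

variable [Finite F]

/-- a `p`-subgroup containing `Qg e` fixes `e` -/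
theorem smul_eq_of_pgroup (p : ℕ) [Fact p.Prime] [CharP F p] {e f : Fin m ⊕ Fin m → F}
    (hfe : Bf f e = 1) {P : Subgroup (Matrix.symplecticGroup (Fin m) F)} (hP : IsPGroup p P)
    (hQP : Qg e ≤ P) {g : Matrix.symplecticGroup (Fin m) F} (hg : g ∈ P) : g • e = e := by
  have he0 : e ≠ 0 := ne_zero_of_Bf_eq_one' hfe
  have hp : ((p : ℕ) : F) = 0 := CharP.cast_eq_zero F p
  obtain ⟨w, hw0, hw⟩ :=
    Cfsg.Agent.Helper5.Green.exists_fixed_vector hp hP (rhoRep P) ⟨e, he0⟩
  have hw' : ∀ g ∈ P, g • w = w := by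
    intro g hg
    have := hw ⟨g, hg⟩
    rwa [rhoRep_apply] at this
  obtain ⟨c, hc⟩ := eq_smul_of_fixed hfe (fun g hg => hw' g (hQP hg))
  have hc0 : c ≠ 0 := by
    rintro rfl
    rw [zero_smul] at hc
    exact hw0 hc
  have h1 := hw' g hg
  rw [hc, smul_smul'] at h1
  exact smul_right_injective _ hc0 h1

/-- the root group is central in a `p`-subgroup containing `Qg e` -/
theorem central_of_mem_rootGroup (p : ℕ) [Fact p.Prime] [CharP F p] {e f : Fin m ⊕ Fin m → F}
    (hfe : Bf f e = 1) {P : Subgroup (Matrix.symplecticGroup (Fin m) F)} (hP : IsPGroup p P)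
    (hQP : Qg e ≤ P) {z : Matrix.symplecticGroup (Fin m) F} (hz : z ∈ rootGroup e)
    {g : Matrix.symplecticGroup (Fin m) F} (hg : g ∈ P) : g * z = z * g := by
  obtain ⟨c, rfl⟩ := mem_rootGroup.1 hz
  have h1 := conj_tv g e c
  rw [smul_eq_of_pgroup p hfe hP hQP hg] at h1
  exact mul_inv_eq_iff_eq_mul.1 h1

/-- the fixed space of a subgroup -/
def fixSub (N : Subgroup (Matrix.symplecticGroup (Fin m) F)) :
    Submodule F (Fin m ⊕ Fin m → F) where
  carrier := {x | ∀ n ∈ N, n • x = x}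
  add_mem' := by
    intro a b ha hb n hn
    rw [smul_add', ha n hn, hb n hn]
  zero_mem' := fun n _ => smul_zero' n
  smul_mem' := by
    intro c x hx n hn
    rw [smul_smul', hx n hn]

theorem mem_fixSub (N : Subgroup (Matrix.symplecticGroup (Fin m) F)) (x : Fin m ⊕ Fin m → F) :
    x ∈ fixSub N ↔ ∀ n ∈ N, n • x = x := Iff.rfl

/-- the Levi subgroup has no nontrivial normal `p`-subgroup -/
theorem eq_one_of_normal_pgroup_Lv (p : ℕ) [Fact p.Prime] [CharP F p]
    {e f : Fin m ⊕ Fin m → F} (hfe : Bf f e = 1) (hd : ∃ d, InW e f d ∧ d ≠ 0)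
    {N : Subgroup (Matrix.symplecticGroup (Fin m) F)} (hN : IsPGroup p N)
    (hNL : N ≤ Lv e f) (hnorm : ∀ l ∈ Lv e f, ∀ n ∈ N, l * n * l⁻¹ ∈ N)
    {n : Matrix.symplecticGroup (Fin m) F} (hn : n ∈ N) : n = 1 := by
  have he0 : e ≠ 0 := ne_zero_of_Bf_eq_one' hfe
  have hf0 : f ≠ 0 := ne_zero_of_Bf_eq_one hfe
  have hp : ((p : ℕ) : F) = 0 := CharP.cast_eq_zero F p
  have hpow := exists_pow_of_isPGroup p hN
  have hfixe : ∀ k ∈ N, k • e = e := by
    intro k hk
    obtain ⟨a, ha⟩ := hpow k hk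
    obtain ⟨c, -, hc⟩ := (hNL hk).1
    exact smul_eq_of_pow p he0 hc ha
  have hfixf : ∀ k ∈ N, k • f = f := by
    intro k hk
    obtain ⟨a, ha⟩ := hpow k hk
    obtain ⟨c, -, hc⟩ := (hNL hk).2
    exact smul_eq_of_pow p hf0 hc ha
  obtain ⟨d, hdW, hd0⟩ := hd
  obtain ⟨w₁, hw₁W, hw₁0, hw₁⟩ :=
    Cfsg.Agent.Helper5.Green.exists_fixed_vector_mem hp hN (rhoRep N) (Wsub e f)
      (by
        intro r w hw
        rw [rhoRep_apply]
        exact inW_smul_of_mem_Lv (hNL r.2) hw)
      ⟨d, hdW, hd0⟩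
  have hw₁S : w₁ ∈ fixSub N := by
    intro k hk
    have := hw₁ ⟨k, hk⟩
    rwa [rhoRep_apply] at this
  have hS : ∀ g ∈ tvGroup (Wsub e f), ∀ x ∈ fixSub N, g • x ∈ fixSub N := by
    intro g hg
    induction hg using Subgroup.closure_induction with
    | mem g hg =>
      obtain ⟨u, hu, a, rfl⟩ := hg
      intro x hx k hk
      have hl := tv_mem_Lv (e := e) (f := f) hu a
      have h1 := hnorm _ (Subgroup.inv_mem _ hl) k hk
      rw [inv_inv] at h1
      have h2 := hx _ h1
      rw [mul_smul, mul_smul, inv_smul_eq_iff] at h2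
      exact h2
    | one =>
      intro x hx
      rwa [one_smul]
    | mul g h _ _ ihg ihh =>
      intro x hx
      rw [mul_smul]
      exact ihg _ (ihh x hx)
    | inv g hg' ih =>
      intro x hx k hk
      -- use finiteness: g⁻¹ is a power of g
      have hfin : Finite (Matrix.symplecticGroup (Fin m) F) := by
        have : Finite (Matrix (Fin m ⊕ Fin m) (Fin m ⊕ Fin m) F) := inferInstance
        exact Finite.of_injective (fun g : Matrix.symplecticGroup (Fin m) F => g.1)
          Subtype.val_injective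
      obtain ⟨j, hj⟩ : ∃ j : ℕ, g⁻¹ = g ^ j := by
        have hord := isOfFinOrder_of_finite g
        refine ⟨orderOf g - 1, ?_⟩
        rw [inv_eq_iff_mul_eq_one, ← pow_succ', Nat.sub_add_cancel hord.orderOf_pos,
          pow_orderOf_eq_one]
      have hpowmem : ∀ j : ℕ, ∀ x ∈ fixSub N, (g ^ j) • x ∈ fixSub N := by
        intro j
        induction j with
        | zero =>
          intro x hx
          rwa [pow_zero, one_smul]
        | succ j ihj =>
          intro x hx
          rw [pow_succ, mul_smul]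
          exact ihj _ (ih x hx)
      rw [hj]
      exact hpowmem j x hx k hk
  have hND := isND_Wsub (e := e) (f := f) hfe
  have hall : ∀ w, InW e f w → w ∈ fixSub N := by
    intro w hw
    by_cases hw0 : w = 0
    · rw [hw0]
      exact (fixSub N).zero_mem
    · obtain ⟨g, hg, hgw⟩ := trans_vec hND hw₁W hw hw₁0 hw0
      rw [← hgw]
      exact hS g hg w₁ hw₁S
  apply ext_smul
  intro x
  rw [one_smul]
  conv_lhs => rw [eq_decomp e f x]
  rw [smul_add', smul_add', smul_smul', smul_smul', hfixe n hn, hfixf n hn,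
    hall _ (inW_proj hfe x) n hn]
  exact (eq_decomp e f x).symm

/-- a normal `p`-subgroup of the point stabiliser lies in `Qg e` -/
theorem le_Qg_of_normal_pgroup (p : ℕ) [Fact p.Prime] [CharP F p]
    {e f : Fin m ⊕ Fin m → F} (hfe : Bf f e = 1) (hd : ∃ d, InW e f d ∧ d ≠ 0)
    {N : Subgroup (Matrix.symplecticGroup (Fin m) F)} (hN : IsPGroup p N)
    (hNP : N ≤ Pst e) (hnorm : ∀ g ∈ Pst e, ∀ n ∈ N, g * n * g⁻¹ ∈ N) :
    N ≤ Qg e := by
  have hQnorm : Pst e ≤ Subgroup.normalizer (Qg e : Set (Matrix.symplecticGroup (Fin m) F)) := by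
    intro g hg
    rw [Subgroup.mem_normalizer_iff]
    intro h
    constructor
    · intro hh
      exact conj_mem_Qg hg hh
    · intro hh
      have := conj_mem_Qg (Subgroup.inv_mem _ hg) hh
      rw [inv_inv] at this
      have e1 : g⁻¹ * (g * h * g⁻¹) * g = h := by group
      rwa [e1] at this
  have hN₁ : IsPGroup p (N ⊔ Qg e : Subgroup (Matrix.symplecticGroup (Fin m) F)) :=
    IsPGroup.to_sup_of_normal_right' hN (isPGroup_Qg p e) (hNP.trans hQnorm)
  have hN₁norm : ∀ g ∈ Pst e, ∀ x ∈ (N ⊔ Qg e : Subgroup (Matrix.symplecticGroup (Fin m) F)),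
      g * x * g⁻¹ ∈ (N ⊔ Qg e : Subgroup (Matrix.symplecticGroup (Fin m) F)) := by
    intro g hg x hx
    have h1 : (N ⊔ Qg e : Subgroup (Matrix.symplecticGroup (Fin m) F)).map
        (MulAut.conj g).toMonoidHom ≤ N ⊔ Qg e := by
      rw [Subgroup.map_sup]
      apply sup_le_sup
      · rw [Subgroup.map_le_iff_le_comap]
        intro y hy
        exact hnorm g hg y hy
      · rw [Subgroup.map_le_iff_le_comap]
        intro y hy
        exact conj_mem_Qg hg hy
    exact h1 (Subgroup.mem_map_of_mem _ hx)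
  have hLP : Lv e f ≤ Pst e := inf_le_left
  intro n hn
  obtain ⟨q, hq, l, hl, hnql⟩ := exists_mul_of_mem_Pst hfe (hNP hn)
  have hl₁ : l ∈ (N ⊔ Qg e : Subgroup (Matrix.symplecticGroup (Fin m) F)) ⊓ Lv e f := by
    refine ⟨?_, hl⟩
    have e1 : l = q⁻¹ * n := by rw [hnql]; group
    rw [e1]
    exact Subgroup.mul_mem _ (Subgroup.inv_mem _ (Subgroup.mem_sup_right hq))
      (Subgroup.mem_sup_left hn)
  have h1 := eq_one_of_normal_pgroup_Lv p hfe hd
    (N := (N ⊔ Qg e : Subgroup (Matrix.symplecticGroup (Fin m) F)) ⊓ Lv e f)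
    (hN₁.to_le inf_le_left) inf_le_right
    (by
      intro l' hl' k hk
      exact ⟨hN₁norm l' (hLP hl') k hk.1,
        Subgroup.mul_mem _ (Subgroup.mul_mem _ hl' hk.2) (Subgroup.inv_mem _ hl')⟩) hl₁
  rw [hnql, h1, mul_one]
  exact hq

end sylow

end Cfsg.Agent.Helper2.SpA
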