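import Mathlib
import Cfsg.Agent.Lib.Helper2.Spa8
import Cfsg.Agent.Lib.Helper2.Psu12

set_option autoImplicit false
set_option linter.unusedSimpArgs false
set_option linter.unusedVariables false
set_option linter.unusedSectionVars false

/-! Automorphisms of the projective symplectic groups, part 9: the central quotient and the
centre of a Sylow subgroup in odd characteristic. -/

namespace Cfsg.Agent.Helper2.SpA

open Matrix Cfsg.Agent.Helper2.Symp Cfsg.Agent.Helper2.PU

section quotient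

variable {m : ℕ} {F : Type*} [Field F]

/-- the central quotient -/
abbrev PGq (m : ℕ) (F : Type*) [Field F] : Type _ :=
  Matrix.symplecticGroup (Fin m) F ⧸ Subgroup.center (Matrix.symplecticGroup (Fin m) F)

/-- the quotient map -/
abbrev mkq : Matrix.symplecticGroup (Fin m) F →* PGq m F :=
  QuotientGroup.mk' (Subgroup.center (Matrix.symplecticGroup (Fin m) F))

theorem mkq_eq_iff (g g' : Matrix.symplecticGroup (Fin m) F) :
    mkq g = mkq g' ↔ g⁻¹ * g' ∈ Subgroup.center (Matrix.symplecticGroup (Fin m) F) :=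
  QuotientGroup.eq

theorem mkq_surjective : Function.Surjective (mkq (m := m) (F := F)) :=
  QuotientGroup.mk_surjective

theorem mkq_conj (g x : Matrix.symplecticGroup (Fin m) F) :
    MulAut.conj (mkq g) (mkq x) = mkq (g * x * g⁻¹) := by
  rw [MulAut.conj_apply, ← map_mul, ← map_inv, ← map_mul]

/-- the image of the root group -/
noncomputable def Xb (v : Fin m ⊕ Fin m → F) : Subgroup (PGq m F) := (rootGroup v).map mkq

/-- the image of `Qg` -/
noncomputable def Qb (v : Fin m ⊕ Fin m → F) : Subgroup (PGq m F) := (Qg v).map mkq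

/-- the image of the point stabiliser -/
noncomputable def Pb (v : Fin m ⊕ Fin m → F) : Subgroup (PGq m F) := (Pst v).map mkq

theorem mem_rootGroup_conj (g : Matrix.symplecticGroup (Fin m) F) (v : Fin m ⊕ Fin m → F)
    (x : Matrix.symplecticGroup (Fin m) F) :
    x ∈ rootGroup (g • v) ↔ g⁻¹ * x * g ∈ rootGroup v := by
  rw [rootGroup_conj, Subgroup.mem_pointwise_smul_iff_inv_smul_mem, MulAut.smul_def,
    MulAut.conj_inv_apply]

theorem Xb_conj (g : Matrix.symplecticGroup (Fin m) F) (v : Fin m ⊕ Fin m → F) :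
    (Xb v).map (MulAut.conj (mkq g)).toMonoidHom = Xb (g • v) := by
  unfold Xb
  ext y
  constructor
  · rintro ⟨xb, ⟨x, hx, rfl⟩, rfl⟩
    refine ⟨g * x * g⁻¹, ?_, ?_⟩
    · rw [SetLike.mem_coe, mem_rootGroup_conj]
      have : g⁻¹ * (g * x * g⁻¹) * g = x := by group
      rw [this]
      exact hx
    · rw [MulEquiv.coe_toMonoidHom, mkq_conj]
  · rintro ⟨x', hx', rfl⟩
    rw [SetLike.mem_coe, mem_rootGroup_conj] at hx'
    refine ⟨mkq (g⁻¹ * x' * g), ⟨_, hx', rfl⟩, ?_⟩
    rw [MulEquiv.coe_toMonoidHom, mkq_conj]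
    congr 1
    group

theorem Xb_smul_vec (v : Fin m ⊕ Fin m → F) {c : F} (hc : c ≠ 0) : Xb (c • v) = Xb v := by
  unfold Xb
  rw [rootGroup_smul_vec v hc]

theorem map_conj_mkq (K : Subgroup (Matrix.symplecticGroup (Fin m) F))
    (x : Matrix.symplecticGroup (Fin m) F) :
    (K.map mkq).map (MulAut.conj (mkq x)).toMonoidHom =
      (K.map (MulAut.conj x).toMonoidHom).map mkq := by
  rw [Subgroup.map_map, Subgroup.map_map]
  congr 1

end quotient

section main

variable {m : ℕ} {F : Type*} [Field F] [Finite F] (p : ℕ) [Fact p.Prime] [CharP F p]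
  {e f : Fin m ⊕ Fin m → F} (hfe : Bf f e = 1)

include hfe

theorem finite_symp : Finite (Matrix.symplecticGroup (Fin m) F) := by
  have : Finite (Matrix (Fin m ⊕ Fin m) (Fin m ⊕ Fin m) F) := inferInstance
  exact Finite.of_injective (fun g : Matrix.symplecticGroup (Fin m) F => g.1)
    Subtype.val_injective

theorem mkq_inj_of_pow {x y : Matrix.symplecticGroup (Fin m) F} {a b : ℕ}
    (hx : x ^ (p ^ a) = 1) (hy : y ^ (p ^ b) = 1) (h : mkq x = mkq y) : x = y := by
  have := nonempty_of_pair hfe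
  exact eq_of_pow_of_center p hx hy ((mkq_eq_iff x y).1 h)

theorem mem_of_mkq_mem_map {K : Subgroup (Matrix.symplecticGroup (Fin m) F)}
    (hK : ∀ k ∈ K, ∃ a : ℕ, k ^ (p ^ a) = 1) {g : Matrix.symplecticGroup (Fin m) F} {b : ℕ}
    (hg : g ^ (p ^ b) = 1) (h : mkq g ∈ K.map mkq) : g ∈ K := by
  obtain ⟨k, hk, hkg⟩ := h
  obtain ⟨a, ha⟩ := hK k hk
  rw [← mkq_inj_of_pow p hfe ha hg hkg]
  exact hk

omit [Finite F] [Fact p.Prime] [CharP F p] in
theorem mem_of_mkq_mem_map' {K : Subgroup (Matrix.symplecticGroup (Fin m) F)}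
    (hK : Subgroup.center (Matrix.symplecticGroup (Fin m) F) ≤ K)
    {g : Matrix.symplecticGroup (Fin m) F} (h : mkq g ∈ K.map mkq) : g ∈ K := by
  obtain ⟨k, hk, hkg⟩ := h
  have h1 := hK ((mkq_eq_iff k g).1 hkg)
  have h2 := K.mul_mem hk h1
  rwa [mul_inv_cancel_left] at h2

omit [Finite F] [Fact p.Prime] hfe in
theorem pow_of_mem_rootGroup {v : Fin m ⊕ Fin m → F} {x : Matrix.symplecticGroup (Fin m) F}
    (hx : x ∈ rootGroup v) : x ^ (p ^ 1) = 1 := by
  rw [pow_one]
  exact pow_eq_one_of_mem_Qg p (rootGroup_le_Qg v hx)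

omit [Finite F] [Fact p.Prime] hfe in
theorem pow_of_mem_Qg {v : Fin m ⊕ Fin m → F} {x : Matrix.symplecticGroup (Fin m) F}
    (hx : x ∈ Qg v) : x ^ (p ^ 1) = 1 := by
  rw [pow_one]
  exact pow_eq_one_of_mem_Qg p hx

/-- an element of a `p`-subgroup containing `Qg e` which centralises `Qg e` lies in `Qg e` -/
theorem mem_Qg_of_central {P : Subgroup (Matrix.symplecticGroup (Fin m) F)} (hP : IsPGroup p P)
    (hQP : Qg e ≤ P) {z : Matrix.symplecticGroup (Fin m) F} (hz : z ∈ P)
    (hzc : ∀ g ∈ Qg e, g * z = z * g) : z ∈ Qg e := by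
  have hze := smul_eq_of_pgroup p hfe hP hQP hz
  have hkey : ∀ w, InW e f w → z • w = w - Bf f (z • w) • e := by
    intro w hw
    have hq := sgG_mem_Qg hw.symm1 (0 : F)
    have h1 : z * sgG e w 0 * z⁻¹ = sgG e w 0 := by
      rw [← hzc _ hq, mul_inv_cancel_right]
    rw [conj_sgG, hze] at h1
    have hezw : Bf e (z • w) = 0 := by
      have := Bf_smul_smul z e w
      rw [hze] at this
      rw [this, hw.symm1]
    have h2 : sgG e (z • w) 0 • f = sgG e w 0 • f := by rw [h1]
    rw [sgG_smul hezw, sgG_smul hw.symm1, hfe, hw.symm2] at h2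
    simp only [one_smul, zero_mul, mul_one, add_zero, zero_smul] at h2
    have h3 : z • w + Bf f (z • w) • e = w := by
      have := add_left_cancel (a := f) (b := z • w + Bf f (z • w) • e) (c := w)
        (by rw [← add_assoc]; exact h2)
      exact this
    exact eq_sub_of_add_eq h3
  refine ⟨hze, fun x hx => ?_⟩
  obtain ⟨y, hy⟩ : ∃ y, y = x - Bf f x • e - Bf x e • f := ⟨_, rfl⟩
  have hyW : InW e f y := by rw [hy]; exact inW_proj hfe x
  have hxy : x = Bf f x • e + y := by rw [hy, hx]; module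
  refine ⟨-Bf f (z • y), ?_⟩
  conv_lhs => rw [hxy, smul_add', smul_smul', hze, hkey y hyW]
  conv_rhs => rw [hxy]
  module

/-- in odd characteristic the centre of a `p`-subgroup containing `Qg e` lies in the root
group -/
theorem mem_rootGroup_of_central (h2 : (2 : F) ≠ 0)
    {P : Subgroup (Matrix.symplecticGroup (Fin m) F)} (hP : IsPGroup p P)
    (hQP : Qg e ≤ P) {z : Matrix.symplecticGroup (Fin m) F} (hz : z ∈ P)
    (hzc : ∀ g ∈ P, g * z = z * g) : z ∈ rootGroup e := by
  have hzQ := mem_Qg_of_central p hfe hP hQP hz (fun g hg => hzc g (hQP hg))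
  rw [mem_rootGroup_iff_wOf hfe hzQ]
  obtain ⟨hW, hzeq⟩ := eq_sgG_of_mem_Qg hfe hzQ
  by_contra hne
  obtain ⟨w, hw, hww⟩ := exists_partner_inW hfe hW hne
  have h1 := hzc _ (hQP (sgG_mem_Qg hw.symm1 (0 : F)))
  rw [hzeq, sgG_mul hw.symm1 hW.symm1, sgG_mul hW.symm1 hw.symm1] at h1
  have h3 := congrArg (sOf e f) h1
  rw [sOf_sgG hfe (hw.add hW), sOf_sgG hfe (hW.add hw), hww, Bf_skew _ w, hww] at h3
  apply h2
  linear_combination -h3

/-- the image of the root group is the centre of the image of a `p`-subgroup containing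
`Qg e` -/
theorem mem_Xb_iff_central (h2 : (2 : F) ≠ 0)
    {P : Subgroup (Matrix.symplecticGroup (Fin m) F)} (hP : IsPGroup p P) (hQP : Qg e ≤ P)
    (y : PGq m F) : y ∈ Xb e ↔ IsCentralIn (P.map mkq) y := by
  have hpow := exists_pow_of_isPGroup p hP
  constructor
  · rintro ⟨x, hx, rfl⟩
    refine ⟨⟨x, hQP (rootGroup_le_Qg e hx), rfl⟩, ?_⟩
    rintro w ⟨g, hg, rfl⟩
    rw [← map_mul, ← map_mul, central_of_mem_rootGroup p hfe hP hQP hx hg]
  · rintro ⟨⟨x, hx, rfl⟩, h3⟩
    refine ⟨x, ?_, rfl⟩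
    apply mem_rootGroup_of_central p hfe h2 hP hQP hx
    intro g hg
    have h4 := h3 (mkq g) ⟨g, hg, rfl⟩
    rw [← map_mul, ← map_mul] at h4
    obtain ⟨a, ha⟩ := hpow _ (P.mul_mem hg hx)
    obtain ⟨b, hb⟩ := hpow _ (P.mul_mem hx hg)
    exact mkq_inj_of_pow p hfe ha hb h4

include p in
/-- in odd characteristic an automorphism maps the image of the root group of `e` to the image
of a root group -/
theorem exists_conj_Xb_odd (h2 : (2 : F) ≠ 0) (α : PGq m F ≃* PGq m F) :
    ∃ x : Matrix.symplecticGroup (Fin m) F, (Xb e).map α.toMonoidHom = Xb (x • e) := by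
  have hfinG := finite_symp (F := F) hfe
  obtain ⟨P, hQP⟩ := (isPGroup_Qg p e).exists_le_sylow
  have hfin : Finite (PGq m F) := Finite.of_surjective _ (mkq_surjective (m := m) (F := F))
  obtain ⟨xb, hxb⟩ := exists_conj_of_sylow p (P.mapSurjective (mkq_surjective (m := m) (F := F))) α
  obtain ⟨x, rfl⟩ := mkq_surjective xb
  refine ⟨x, ?_⟩
  rw [Sylow.coe_mapSurjective] at hxb
  rw [← Xb_conj x e]
  ext y
  rw [Subgroup.mem_map_equiv, Subgroup.mem_map_equiv,
    mem_Xb_iff_central p hfe h2 P.2 hQP, mem_Xb_iff_central p hfe h2 P.2 hQP,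
    ← isCentralIn_map, ← isCentralIn_map, hxb]

end main

end Cfsg.Agent.Helper2.SpA
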