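import Mathlib
import Cfsg.Agent.Lib.Helper2.Spa9

set_option autoImplicit false
set_option linter.unusedSimpArgs false
set_option linter.unusedVariables false
set_option linter.unusedSectionVars false

/-! Automorphisms of the projective symplectic groups, part 10: normalising an automorphism on
a hyperbolic pair; a normalised automorphism preserves the images of the point stabilisers and
of `Qg e`. -/

namespace Cfsg.Agent.Helper2.SpA

open Matrix Cfsg.Agent.Helper2.Symp Cfsg.Agent.Helper2.PU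

section nf

variable {m : ℕ} {F : Type*} [Field F] [Finite F] (p : ℕ) [Fact p.Prime] [CharP F p]
  {e f : Fin m ⊕ Fin m → F} (hfe : Bf f e = 1)

include hfe

omit [Finite F] in
include p in
/-- the image of `X̄_f` under an automorphism fixing `X̄_e` is opposite to `e` -/
theorem Bf_ne_zero_of_map (α : MulAut (PGq m F)) (hαe : (Xb e).map α.toMonoidHom = Xb e)
    {v : Fin m ⊕ Fin m → F} (hαf : (Xb f).map α.toMonoidHom = Xb v) : Bf v e ≠ 0 := by
  have := nonempty_of_pair hfe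
  intro hve
  have h1 : α (mkq (tv e 1)) ∈ Xb e := by
    rw [← hαe]
    exact ⟨_, ⟨_, mem_rootGroup.2 ⟨1, rfl⟩, rfl⟩, rfl⟩
  have h2 : α (mkq (tv f 1)) ∈ Xb v := by
    rw [← hαf]
    exact ⟨_, ⟨_, mem_rootGroup.2 ⟨1, rfl⟩, rfl⟩, rfl⟩
  obtain ⟨xa, hxa, hxa'⟩ := h1
  obtain ⟨xb, hxb, hxb'⟩ := h2
  obtain ⟨a', rfl⟩ := mem_rootGroup.1 hxa
  obtain ⟨b', rfl⟩ := mem_rootGroup.1 hxb
  have hev : Bf e v = 0 := by rw [Bf_skew, hve, neg_zero]
  have h3 := tv_comm_of_orth e v a' b' hev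
  have h4 : α (mkq (tv e 1 * tv f 1)) = α (mkq (tv f 1 * tv e 1)) := by
    rw [map_mul, map_mul, map_mul, map_mul, ← hxa', ← hxb', ← map_mul, ← map_mul, h3]
  have h5 := (mkq_eq_iff _ _).1 (α.injective h4)
  exact tv_not_comm hfe one_ne_zero one_ne_zero h5

include p in
/-- every automorphism is, up to an inner automorphism, one fixing the images of the root
groups of `e` and `f` -/
theorem exists_normal_form
    (hB : ∀ α : MulAut (PGq m F), ∃ x : Matrix.symplecticGroup (Fin m) F,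
      (Xb e).map α.toMonoidHom = Xb (x • e))
    (α : MulAut (PGq m F)) :
    ∃ (y : Matrix.symplecticGroup (Fin m) F) (α' : MulAut (PGq m F)),
      α = MulAut.conj (mkq y) * α' ∧
      (Xb e).map α'.toMonoidHom = Xb e ∧ (Xb f).map α'.toMonoidHom = Xb f := by
  have he0 : e ≠ 0 := ne_zero_of_Bf_eq_one' hfe
  have hf0 : f ≠ 0 := ne_zero_of_Bf_eq_one hfe
  -- first step
  obtain ⟨x₁, hx₁⟩ := hB α
  rw [← Xb_conj x₁ e] at hx₁
  obtain ⟨α₁, hα₁⟩ : ∃ α₁ : MulAut (PGq m F), α₁ = (MulAut.conj (mkq x₁))⁻¹ * α := ⟨_, rfl⟩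
  have hα₁e : (Xb e).map α₁.toMonoidHom = Xb e := by
    rw [hα₁, map_mul_aut, hx₁]
    exact map_conj_inv_of_eq _ _ _ rfl
  -- second step
  obtain ⟨y₀, -, hy₀⟩ := trans_vec (isND_top (m := m) (F := F)) (Submodule.mem_top (x := e))
    (Submodule.mem_top (x := f)) he0 hf0
  obtain ⟨y', hy'⟩ := mkq_surjective (α₁ (mkq y₀))
  obtain ⟨v, hv⟩ : ∃ v, v = y' • e := ⟨_, rfl⟩
  have hα₁f : (Xb f).map α₁.toMonoidHom = Xb v := by
    rw [← hy₀, ← Xb_conj y₀ e, map_conj_comm, hα₁e, ← hy', Xb_conj y' e, hv]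
  have hve : Bf v e ≠ 0 := Bf_ne_zero_of_map p hfe α₁ hα₁e hα₁f
  obtain ⟨v', hv'⟩ : ∃ v', v' = (Bf v e)⁻¹ • v := ⟨_, rfl⟩
  have hv'e : Bf v' e = 1 := by rw [hv', Bf_smul_left, inv_mul_cancel₀ hve]
  obtain ⟨q, hq, hqf⟩ := exists_Qg_map hfe hv'e
  have hXv : Xb v = Xb (q • f) := by
    rw [hqf, hv', Xb_smul_vec v (inv_ne_zero hve)]
  refine ⟨x₁ * q, (MulAut.conj (mkq q))⁻¹ * α₁, ?_, ?_, ?_⟩
  · rw [hα₁, map_mul, map_mul]
    group
  · rw [map_mul_aut, hα₁e]
    apply map_conj_inv_of_eq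
    rw [Xb_conj q e, hq.1]
  · rw [map_mul_aut, hα₁f, hXv]
    apply map_conj_inv_of_eq
    rw [Xb_conj q f]

end nf

section stab

variable {m : ℕ} {F : Type*} [Field F] [Finite F] (p : ℕ) [Fact p.Prime] [CharP F p]
  {e f : Fin m ⊕ Fin m → F} (hfe : Bf f e = 1)

include hfe

include p in
/-- the image of the point stabiliser is the normaliser of the image of the root group -/
theorem mem_Pb_iff {v : Fin m ⊕ Fin m → F} (hv0 : v ≠ 0) (g : PGq m F) :
    g ∈ Pb v ↔ (Xb v).map (MulAut.conj g).toMonoidHom = Xb v := by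
  constructor
  · rintro ⟨g, ⟨c, hc0, hgv⟩, rfl⟩
    rw [Xb_conj g v, hgv, Xb_smul_vec v hc0]
  · intro h
    obtain ⟨g, rfl⟩ := mkq_surjective g
    rw [Xb_conj g v] at h
    have hgv0 : g • v ≠ 0 := fun h0 => hv0 ((smul_eq_zero_iff' g v).1 h0)
    have h1 : mkq (tv (g • v) 1) ∈ (rootGroup v).map mkq := by
      change _ ∈ Xb v
      rw [← h]
      exact ⟨_, mem_rootGroup.2 ⟨1, rfl⟩, rfl⟩
    have h2 := mem_of_mkq_mem_map p hfe
      (fun k hk => ⟨1, pow_of_mem_rootGroup p hk⟩)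
      (pow_of_mem_rootGroup p (mem_rootGroup.2 ⟨1, rfl⟩)) h1
    obtain ⟨c, hc⟩ := smul_of_tv_mem_rootGroup hgv0 one_ne_zero h2
    refine ⟨g, ⟨c, ?_, hc⟩, rfl⟩
    rintro rfl
    rw [zero_smul] at hc
    exact hgv0 hc

include p in
/-- an automorphism fixing the image of the root group preserves the image of the point
stabiliser -/
theorem map_Pb {v : Fin m ⊕ Fin m → F} (hv0 : v ≠ 0) (α : MulAut (PGq m F))
    (hα : (Xb v).map α.toMonoidHom = Xb v) (g : PGq m F) :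
    α g ∈ Pb v ↔ g ∈ Pb v := by
  rw [mem_Pb_iff p hfe hv0, mem_Pb_iff p hfe hv0]
  have h1 := map_conj_comm (Xb v) α g
  rw [hα] at h1
  rw [← h1]
  constructor
  · intro h
    have hinj : Function.Injective α.toMonoidHom := α.injective
    apply Subgroup.map_injective hinj
    rw [h, hα]
  · intro h
    rw [h, hα]

include p in
/-- an automorphism fixing the image of the root group of `e` maps the image of `Qg e` into
itself -/
theorem map_Qb_le (hd : ∃ d, InW e f d ∧ d ≠ 0) (α : MulAut (PGq m F))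
    (hα : (Xb e).map α.toMonoidHom = Xb e) :
    (Qb e).map α.toMonoidHom ≤ Qb e := by
  have he0 : e ≠ 0 := ne_zero_of_Bf_eq_one' hfe
  have := nonempty_of_pair hfe
  have hfinG := finite_symp (F := F) hfe
  obtain ⟨P, hQP⟩ := (isPGroup_Qg p e).exists_le_sylow
  have hfin : Finite (PGq m F) := Finite.of_surjective _ (mkq_surjective (m := m) (F := F))
  obtain ⟨xb, hxb⟩ := exists_conj_of_sylow p (P.mapSurjective (mkq_surjective (m := m) (F := F))) α
  obtain ⟨x, rfl⟩ := mkq_surjective xb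
  rw [Sylow.coe_mapSurjective, map_conj_mkq] at hxb
  obtain ⟨P₁, hP₁⟩ : ∃ P₁ : Subgroup (Matrix.symplecticGroup (Fin m) F),
      P₁ = (P : Subgroup (Matrix.symplecticGroup (Fin m) F)).map (MulAut.conj x).toMonoidHom :=
    ⟨_, rfl⟩
  rw [← hP₁] at hxb
  have hP₁p : IsPGroup p P₁ := by
    rw [hP₁]
    exact P.2.map _
  obtain ⟨N, hNdef⟩ : ∃ N : Subgroup (Matrix.symplecticGroup (Fin m) F),
      N = P₁ ⊓ ((Qb e).map α.toMonoidHom).comap mkq := ⟨_, rfl⟩
  have hN : IsPGroup p N := by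
    rw [hNdef]
    exact hP₁p.to_le inf_le_left
  have hpow := exists_pow_of_isPGroup p hN
  have hQbP : (Qb e).map α.toMonoidHom ≤ P₁.map mkq := by
    rw [← hxb]
    exact Subgroup.map_mono (Subgroup.map_mono hQP)
  have hNmap : N.map mkq = (Qb e).map α.toMonoidHom := by
    apply le_antisymm
    · rintro _ ⟨n, hn, rfl⟩
      rw [hNdef] at hn
      exact hn.2
    · intro y hy
      obtain ⟨y₁, hy₁, rfl⟩ := hQbP hy
      refine ⟨y₁, ?_, rfl⟩
      rw [hNdef]
      exact ⟨hy₁, hy⟩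
  have hQP' : Qb e ≤ Pb e := Subgroup.map_mono (Qg_le_Pst e)
  have hNP : N ≤ Pst e := by
    intro n hn
    apply mem_of_mkq_mem_map' hfe (center_le_Pst e)
    have h1 : mkq n ∈ (Qb e).map α.toMonoidHom := by
      rw [← hNmap]
      exact ⟨n, hn, rfl⟩
    obtain ⟨qb, hqb, hqb'⟩ := h1
    change mkq n ∈ Pb e
    rw [← hqb', MulEquiv.coe_toMonoidHom, map_Pb p hfe he0 α hα]
    exact hQP' hqb
  have hnorm : ∀ g ∈ Pst e, ∀ n ∈ N, g * n * g⁻¹ ∈ N := by
    intro g hg n hn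
    have h1 : mkq n ∈ (Qb e).map α.toMonoidHom := by
      rw [← hNmap]
      exact ⟨n, hn, rfl⟩
    obtain ⟨qb, ⟨q, hq, rfl⟩, hqb'⟩ := h1
    have h2 : α.symm (mkq g) ∈ Pb e := by
      rw [← map_Pb p hfe he0 α hα, MulEquiv.apply_symm_apply]
      exact ⟨g, hg, rfl⟩
    obtain ⟨g', hg', hg'eq⟩ := h2
    have h3 : mkq (g * n * g⁻¹) ∈ N.map mkq := by
      rw [hNmap]
      refine ⟨mkq (g' * q * g'⁻¹), ⟨_, conj_mem_Qg hg' hq, rfl⟩, ?_⟩
      rw [MulEquiv.coe_toMonoidHom] at hqb' ⊢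
      rw [map_mul, map_mul, map_mul, map_mul, map_inv, map_inv, hg'eq, map_mul, map_mul, map_inv,
        MulEquiv.apply_symm_apply, hqb']
    obtain ⟨n', hn', hn'eq⟩ := h3
    obtain ⟨a, ha⟩ := hpow n' hn'
    obtain ⟨b, hb⟩ := hpow n hn
    have hb' : (g * n * g⁻¹) ^ (p ^ b) = 1 := by
      rw [_root_.conj_pow, hb, mul_one, mul_inv_cancel]
    rw [← mkq_inj_of_pow p hfe ha hb' hn'eq]
    exact hn'
  have hle := le_Qg_of_normal_pgroup p hfe hd hN hNP hnorm
  rw [← hNmap]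
  exact Subgroup.map_mono hle

include p in
theorem map_Qb_eq (hd : ∃ d, InW e f d ∧ d ≠ 0) (α : MulAut (PGq m F))
    (hα : (Xb e).map α.toMonoidHom = Xb e) :
    (Qb e).map α.toMonoidHom = Qb e := by
  apply le_antisymm (map_Qb_le p hfe hd α hα)
  have h1 := map_Qb_le p hfe hd α⁻¹ (map_inv_of_map_eq _ α hα)
  have h2 := Subgroup.map_mono (f := α.toMonoidHom) h1
  rw [← map_mul_aut, mul_inv_cancel] at h2
  intro x hx
  apply h2
  exact ⟨x, hx, rfl⟩

end stab

end Cfsg.Agent.Helper2.SpA
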