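import Mathlib
import Cfsg.Agent.Lib.Helper2.Spa10
import Cfsg.Agent.Lib.Helper2.Psu13
import Cfsg.Prelude.Def_LieTypeDatum

set_option autoImplicit false
set_option linter.unusedSimpArgs false
set_option linter.unusedVariables false
set_option linter.unusedSectionVars false

/-! Automorphisms of the projective symplectic groups, part 11: the standard homomorphisms
attached to a semilinear similarity. -/

namespace Cfsg.Agent.Helper2.SpA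

open Matrix Cfsg.Agent.Helper2.Symp Cfsg.Agent.Helper2.PU
open scoped MatrixGroups

variable {m : ℕ} {F : Type*} [Field F]

theorem mem_GSp_iff (g : GL (Fin m ⊕ Fin m) F) :
    g ∈ Cfsg.GSp m F ↔ ∃ c : Fˣ, ∀ u v : Fin m ⊕ Fin m → F,
      Bf ((g : Matrix (Fin m ⊕ Fin m) (Fin m ⊕ Fin m) F) *ᵥ u)
        ((g : Matrix (Fin m ⊕ Fin m) (Fin m ⊕ Fin m) F) *ᵥ v) = (c : F) * Bf u v := Iff.rfl

theorem map_mulVec_comp (σ : F ≃+* F) (M : Matrix (Fin m ⊕ Fin m) (Fin m ⊕ Fin m) F)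
    (y : Fin m ⊕ Fin m → F) : M.map σ *ᵥ (σ ∘ y) = σ ∘ (M *ᵥ y) := by
  funext i
  exact (RingHom.map_mulVec (σ : F →+* F) M y i).symm

theorem comp_symm_comp (σ : F ≃+* F) (y : Fin m ⊕ Fin m → F) : σ ∘ (σ.symm ∘ y) = y := by
  funext i
  simp

/-- the image of a symplectic matrix under a field automorphism is symplectic -/
theorem map_mem_symp (σ : F ≃+* F) (s : Matrix.symplecticGroup (Fin m) F) :
    (s : Matrix (Fin m ⊕ Fin m) (Fin m ⊕ Fin m) F).map σ ∈ Matrix.symplecticGroup (Fin m) F := by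
  apply mem_symplecticGroup_of_Bf
  intro u v
  rw [← comp_symm_comp σ u, ← comp_symm_comp σ v, map_mulVec_comp, map_mulVec_comp,
    Bf_comp_ringEquiv, Bf_comp_ringEquiv, Bf_mulVec s.2]

theorem GL_inv_mulVec (g : GL (Fin m ⊕ Fin m) F) (u : Fin m ⊕ Fin m → F) :
    (g : Matrix (Fin m ⊕ Fin m) (Fin m ⊕ Fin m) F) *ᵥ
      (((g⁻¹ : GL (Fin m ⊕ Fin m) F) : Matrix (Fin m ⊕ Fin m) (Fin m ⊕ Fin m) F) *ᵥ u) = u := by
  rw [Matrix.mulVec_mulVec, ← Matrix.GeneralLinearGroup.coe_mul, mul_inv_cancel]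
  simp

theorem conj_mem_symp {g : GL (Fin m ⊕ Fin m) F} (hg : g ∈ Cfsg.GSp m F)
    {A : Matrix (Fin m ⊕ Fin m) (Fin m ⊕ Fin m) F} (hA : A ∈ Matrix.symplecticGroup (Fin m) F) :
    (g : Matrix (Fin m ⊕ Fin m) (Fin m ⊕ Fin m) F) * A *
      ((g⁻¹ : GL (Fin m ⊕ Fin m) F) : Matrix (Fin m ⊕ Fin m) (Fin m ⊕ Fin m) F) ∈
        Matrix.symplecticGroup (Fin m) F := by
  obtain ⟨c, hc⟩ := (mem_GSp_iff g).1 hg
  apply mem_symplecticGroup_of_Bf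
  intro u v
  rw [← Matrix.mulVec_mulVec, ← Matrix.mulVec_mulVec, ← Matrix.mulVec_mulVec,
    ← Matrix.mulVec_mulVec, hc, Bf_mulVec hA]
  have h1 := hc (((g⁻¹ : GL (Fin m ⊕ Fin m) F) : Matrix (Fin m ⊕ Fin m) (Fin m ⊕ Fin m) F) *ᵥ u)
    (((g⁻¹ : GL (Fin m ⊕ Fin m) F) : Matrix (Fin m ⊕ Fin m) (Fin m ⊕ Fin m) F) *ᵥ v)
  rw [GL_inv_mulVec, GL_inv_mulVec] at h1
  exact h1.symm

/-- the standard homomorphism `s ↦ g σ(s) g⁻¹` -/
noncomputable def stdHom (g : GL (Fin m ⊕ Fin m) F) (hg : g ∈ Cfsg.GSp m F) (σ : F ≃+* F) :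
    Matrix.symplecticGroup (Fin m) F →* Matrix.symplecticGroup (Fin m) F where
  toFun s := ⟨(g : Matrix (Fin m ⊕ Fin m) (Fin m ⊕ Fin m) F) *
      (s : Matrix (Fin m ⊕ Fin m) (Fin m ⊕ Fin m) F).map σ *
      ((g⁻¹ : GL (Fin m ⊕ Fin m) F) : Matrix (Fin m ⊕ Fin m) (Fin m ⊕ Fin m) F),
    conj_mem_symp hg (map_mem_symp σ s)⟩
  map_one' := by
    apply Subtype.ext
    change (g : Matrix (Fin m ⊕ Fin m) (Fin m ⊕ Fin m) F) *
      (1 : Matrix (Fin m ⊕ Fin m) (Fin m ⊕ Fin m) F).map σ * _ = 1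
    rw [map_one_ringEquiv, Matrix.mul_one, ← Matrix.GeneralLinearGroup.coe_mul, mul_inv_cancel]
    rfl
  map_mul' := by
    intro a b
    apply Subtype.ext
    change (g : Matrix (Fin m ⊕ Fin m) (Fin m ⊕ Fin m) F) *
      ((a : Matrix (Fin m ⊕ Fin m) (Fin m ⊕ Fin m) F) *
        (b : Matrix (Fin m ⊕ Fin m) (Fin m ⊕ Fin m) F)).map σ * _ =
      ((g : Matrix (Fin m ⊕ Fin m) (Fin m ⊕ Fin m) F) *
        (a : Matrix (Fin m ⊕ Fin m) (Fin m ⊕ Fin m) F).map σ * _) *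
      ((g : Matrix (Fin m ⊕ Fin m) (Fin m ⊕ Fin m) F) *
        (b : Matrix (Fin m ⊕ Fin m) (Fin m ⊕ Fin m) F).map σ * _)
    rw [map_mul_ringEquiv]
    have h1 : ((g⁻¹ : GL (Fin m ⊕ Fin m) F) : Matrix (Fin m ⊕ Fin m) (Fin m ⊕ Fin m) F) *
        (g : Matrix (Fin m ⊕ Fin m) (Fin m ⊕ Fin m) F) = 1 := by
      rw [← Matrix.GeneralLinearGroup.coe_mul, inv_mul_cancel]
      rfl
    simp only [Matrix.mul_assoc]
    rw [← Matrix.mul_assoc _ (g : Matrix (Fin m ⊕ Fin m) (Fin m ⊕ Fin m) F) _, h1, Matrix.one_mul]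

theorem stdHom_coe (g : GL (Fin m ⊕ Fin m) F) (hg : g ∈ Cfsg.GSp m F) (σ : F ≃+* F)
    (s : Matrix.symplecticGroup (Fin m) F) :
    (stdHom g hg σ s : Matrix (Fin m ⊕ Fin m) (Fin m ⊕ Fin m) F) =
      (g : Matrix (Fin m ⊕ Fin m) (Fin m ⊕ Fin m) F) *
      (s : Matrix (Fin m ⊕ Fin m) (Fin m ⊕ Fin m) F).map σ *
      ((g⁻¹ : GL (Fin m ⊕ Fin m) F) : Matrix (Fin m ⊕ Fin m) (Fin m ⊕ Fin m) F) := rfl

theorem GL_inv_mul_coe (g : GL (Fin m ⊕ Fin m) F) :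
    ((g⁻¹ : GL (Fin m ⊕ Fin m) F) : Matrix (Fin m ⊕ Fin m) (Fin m ⊕ Fin m) F) *
        (g : Matrix (Fin m ⊕ Fin m) (Fin m ⊕ Fin m) F) = 1 := by
  rw [← Matrix.GeneralLinearGroup.coe_mul, inv_mul_cancel]
  rfl

theorem GL_mul_inv_coe (g : GL (Fin m ⊕ Fin m) F) :
    (g : Matrix (Fin m ⊕ Fin m) (Fin m ⊕ Fin m) F) *
      ((g⁻¹ : GL (Fin m ⊕ Fin m) F) : Matrix (Fin m ⊕ Fin m) (Fin m ⊕ Fin m) F) = 1 := by
  rw [← Matrix.GeneralLinearGroup.coe_mul, mul_inv_cancel]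
  rfl

theorem stdHom_spec (g : GL (Fin m ⊕ Fin m) F) (hg : g ∈ Cfsg.GSp m F) (σ : F ≃+* F)
    (s : Matrix.symplecticGroup (Fin m) F) :
    (stdHom g hg σ s : Matrix (Fin m ⊕ Fin m) (Fin m ⊕ Fin m) F) *
      (g : Matrix (Fin m ⊕ Fin m) (Fin m ⊕ Fin m) F) =
      (g : Matrix (Fin m ⊕ Fin m) (Fin m ⊕ Fin m) F) *
      (s : Matrix (Fin m ⊕ Fin m) (Fin m ⊕ Fin m) F).map σ := by
  rw [stdHom_coe, Matrix.mul_assoc, GL_inv_mul_coe, Matrix.mul_one]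

theorem eq_stdHom_of_spec (g : GL (Fin m ⊕ Fin m) F) (hg : g ∈ Cfsg.GSp m F) (σ : F ≃+* F)
    {s s' : Matrix.symplecticGroup (Fin m) F}
    (h : (s' : Matrix (Fin m ⊕ Fin m) (Fin m ⊕ Fin m) F) *
      (g : Matrix (Fin m ⊕ Fin m) (Fin m ⊕ Fin m) F) =
      (g : Matrix (Fin m ⊕ Fin m) (Fin m ⊕ Fin m) F) *
      (s : Matrix (Fin m ⊕ Fin m) (Fin m ⊕ Fin m) F).map σ) :
    s' = stdHom g hg σ s := by
  apply Subtype.ext
  rw [stdHom_coe, ← h, Matrix.mul_assoc, GL_mul_inv_coe, Matrix.mul_one]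

/-- the semilinear map attached to a matrix and a field automorphism -/
def semiMap (g : GL (Fin m ⊕ Fin m) F) (σ : F ≃+* F) (y : Fin m ⊕ Fin m → F) :
    Fin m ⊕ Fin m → F := (g : Matrix (Fin m ⊕ Fin m) (Fin m ⊕ Fin m) F) *ᵥ (σ ∘ y)

theorem semiMap_add (g : GL (Fin m ⊕ Fin m) F) (σ : F ≃+* F) (x y : Fin m ⊕ Fin m → F) :
    semiMap g σ (x + y) = semiMap g σ x + semiMap g σ y := by
  unfold semiMap
  rw [← Matrix.mulVec_add]
  congr 1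
  funext i
  simp

theorem semiMap_smul (g : GL (Fin m ⊕ Fin m) F) (σ : F ≃+* F) (a : F)
    (y : Fin m ⊕ Fin m → F) : semiMap g σ (a • y) = σ a • semiMap g σ y := by
  unfold semiMap
  rw [← Matrix.mulVec_smul]
  congr 1
  funext i
  simp

theorem semiMap_Bf {g : GL (Fin m ⊕ Fin m) F} {c : Fˣ}
    (hc : ∀ u v : Fin m ⊕ Fin m → F,
      Bf ((g : Matrix (Fin m ⊕ Fin m) (Fin m ⊕ Fin m) F) *ᵥ u)
        ((g : Matrix (Fin m ⊕ Fin m) (Fin m ⊕ Fin m) F) *ᵥ v) = (c : F) * Bf u v)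
    (σ : F ≃+* F) (x y : Fin m ⊕ Fin m → F) :
    Bf (semiMap g σ x) (semiMap g σ y) = (c : F) * σ (Bf x y) := by
  unfold semiMap
  rw [hc, Bf_comp_ringEquiv]

theorem semiMap_surjective (g : GL (Fin m ⊕ Fin m) F) (σ : F ≃+* F) (x : Fin m ⊕ Fin m → F) :
    ∃ y, semiMap g σ y = x := by
  refine ⟨σ.symm ∘ (((g⁻¹ : GL (Fin m ⊕ Fin m) F) : Matrix (Fin m ⊕ Fin m) (Fin m ⊕ Fin m) F) *ᵥ x),
    ?_⟩
  unfold semiMap
  rw [comp_symm_comp, GL_inv_mulVec]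

theorem stdHom_smul_semiMap (g : GL (Fin m ⊕ Fin m) F) (hg : g ∈ Cfsg.GSp m F) (σ : F ≃+* F)
    (s : Matrix.symplecticGroup (Fin m) F) (y : Fin m ⊕ Fin m → F) :
    stdHom g hg σ s • semiMap g σ y = semiMap g σ (s • y) := by
  unfold semiMap
  rw [smul_def, Matrix.mulVec_mulVec, stdHom_spec, ← Matrix.mulVec_mulVec, map_mulVec_comp,
    ← smul_def]

theorem stdHom_tv (g : GL (Fin m ⊕ Fin m) F) (hg : g ∈ Cfsg.GSp m F) (σ : F ≃+* F) {c : Fˣ}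
    (hc : ∀ u v : Fin m ⊕ Fin m → F,
      Bf ((g : Matrix (Fin m ⊕ Fin m) (Fin m ⊕ Fin m) F) *ᵥ u)
        ((g : Matrix (Fin m ⊕ Fin m) (Fin m ⊕ Fin m) F) *ᵥ v) = (c : F) * Bf u v)
    (v : Fin m ⊕ Fin m → F) (a : F) :
    stdHom g hg σ (tv v a) = tv (semiMap g σ v) (σ a / (c : F)) := by
  apply ext_smul
  intro x
  obtain ⟨y, rfl⟩ := semiMap_surjective g σ x
  rw [stdHom_smul_semiMap, tv_smul, tv_smul, semiMap_add, semiMap_smul, semiMap_Bf hc, map_mul]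
  congr 2
  have hc0 : (c : F) ≠ 0 := c.ne_zero
  field_simp

/-- the symplectic group inside the general linear group -/
noncomputable def toGL : Matrix.symplecticGroup (Fin m) F →* GL (Fin m ⊕ Fin m) F :=
  (Units.map (Matrix.symplecticGroup (Fin m) F).subtype).comp
    (toUnits (G := Matrix.symplecticGroup (Fin m) F)).toMonoidHom

theorem toGL_coe (s : Matrix.symplecticGroup (Fin m) F) :
    ((toGL s : GL (Fin m ⊕ Fin m) F) : Matrix (Fin m ⊕ Fin m) (Fin m ⊕ Fin m) F) =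
      (s : Matrix (Fin m ⊕ Fin m) (Fin m ⊕ Fin m) F) := rfl

theorem toGL_mem_GSp (s : Matrix.symplecticGroup (Fin m) F) : toGL s ∈ Cfsg.GSp m F := by
  rw [mem_GSp_iff]
  refine ⟨1, fun u v => ?_⟩
  rw [toGL_coe, Bf_mulVec s.2, Units.val_one, one_mul]

/-- a matrix which multiplies the form by a nonzero scalar is invertible -/
theorem exists_GL_of_conformal {g₀ : Matrix (Fin m ⊕ Fin m) (Fin m ⊕ Fin m) F} {k : F}
    (hk0 : k ≠ 0) (h : ∀ u v, Bf (g₀ *ᵥ u) (g₀ *ᵥ v) = k * Bf u v) :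
    ∃ g : GL (Fin m ⊕ Fin m) F, g ∈ Cfsg.GSp m F ∧
      (g : Matrix (Fin m ⊕ Fin m) (Fin m ⊕ Fin m) F) = g₀ := by
  have hinj : Function.Injective g₀.mulVec := by
    intro u v huv
    have h1 : g₀ *ᵥ (u - v) = 0 := by
      rw [Matrix.mulVec_sub]
      exact sub_eq_zero.2 huv
    by_contra hne
    have hne' : u - v ≠ 0 := sub_ne_zero.2 hne
    obtain ⟨x, hx⟩ := exists_Bf_ne_zero hne'
    have h2 := h (u - v) x
    rw [h1, Bf_zero_left] at h2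
    rcases mul_eq_zero.1 h2.symm with h3 | h3
    · exact hk0 h3
    · exact hx h3
  have hunit : IsUnit g₀ := Matrix.mulVec_injective_iff_isUnit.1 hinj
  obtain ⟨g, hg⟩ := hunit
  refine ⟨g, ?_, hg⟩
  rw [mem_GSp_iff]
  refine ⟨Units.mk0 k hk0, fun u v => ?_⟩
  have : (g : Matrix (Fin m ⊕ Fin m) (Fin m ⊕ Fin m) F) = g₀ := hg
  rw [this, h, Units.val_mk0]

end Cfsg.Agent.Helper2.SpA
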