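import Mathlib
import Cfsg.Agent.Lib.Helper2.Spa11

set_option autoImplicit false
set_option linter.unusedSimpArgs false
set_option linter.unusedVariables false
set_option linter.unusedSectionVars false

/-! Automorphisms of the projective symplectic groups, part 12: every automorphism of the
central quotient of the symplectic group which maps a root group to a root group is induced by
a semilinear similarity. -/

namespace Cfsg.Agent.Helper2.SpA

open Matrix Cfsg.Agent.Helper2.Symp Cfsg.Agent.Helper2.PU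
open scoped MatrixGroups

section blift

variable {m : ℕ} {F : Type*} [Field F] [Finite F]

open Classical in
/-- the lift to `Qg e` of an automorphism of the central quotient -/
noncomputable def bLift (e : Fin m ⊕ Fin m → F) (α : MulAut (PGq m F))
    (g : Matrix.symplecticGroup (Fin m) F) : Matrix.symplecticGroup (Fin m) F :=
  if h : ∃ g' ∈ Qg e, mkq g' = α (mkq g) then Classical.choose h else 1

variable (p : ℕ) [Fact p.Prime] [CharP F p] {e f : Fin m ⊕ Fin m → F} (hfe : Bf f e = 1)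
  (hd : ∃ d, InW e f d ∧ d ≠ 0)
  (α : MulAut (PGq m F)) (hαe : (Xb e).map α.toMonoidHom = Xb e)
  (hαf : (Xb f).map α.toMonoidHom = Xb f)

include p hfe hd hαe

theorem bLift_spec {g : Matrix.symplecticGroup (Fin m) F} (hg : g ∈ Qg e) :
    bLift e α g ∈ Qg e ∧ mkq (bLift e α g) = α (mkq g) := by
  have h1 : α (mkq g) ∈ Qb e := by
    rw [← map_Qb_eq p hfe hd α hαe]
    exact ⟨_, ⟨g, hg, rfl⟩, rfl⟩
  have h2 : ∃ g' ∈ Qg e, mkq g' = α (mkq g) := h1
  unfold bLift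
  rw [dif_pos h2]
  exact Classical.choose_spec h2

omit hd hαe in
theorem mkq_injOn_Qg {g g' : Matrix.symplecticGroup (Fin m) F} (hg : g ∈ Qg e) (hg' : g' ∈ Qg e)
    (h : mkq g = mkq g') : g = g' :=
  mkq_inj_of_pow p hfe (pow_of_mem_Qg p hg) (pow_of_mem_Qg p hg') h

include hαf

omit hd in
theorem exists_Lv_lift {l : Matrix.symplecticGroup (Fin m) F} (hl : l ∈ Lv e f) :
    ∃ l' ∈ Lv e f, mkq l' = α (mkq l) := by
  have := nonempty_of_pair hfe
  have he0 : e ≠ 0 := ne_zero_of_Bf_eq_one' hfe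
  have hf0 : f ≠ 0 := ne_zero_of_Bf_eq_one hfe
  have hef1 : Bf (-e) f = 1 := by rw [Bf_neg_left, Bf_ef_of_fe hfe, neg_neg]
  have h1 : α (mkq l) ∈ Pb e := by
    rw [map_Pb p hfe he0 α hαe]
    exact ⟨l, hl.1, rfl⟩
  have h2 : α (mkq l) ∈ Pb f := by
    rw [map_Pb p hef1 hf0 α hαf]
    exact ⟨l, hl.2, rfl⟩
  obtain ⟨l', hl', hl'eq⟩ := h1
  refine ⟨l', ⟨hl', ?_⟩, hl'eq⟩
  apply mem_of_mkq_mem_map' hfe (center_le_Pst f)
  rw [hl'eq]
  exact h2

/-- the lift is an automorphism of `Qg e` normalising the Levi action -/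
theorem isQAut_bLift : IsQAut e f (bLift e α) := by
  have := nonempty_of_pair hfe
  have he0 : e ≠ 0 := ne_zero_of_Bf_eq_one' hfe
  have hspec := fun {g : Matrix.symplecticGroup (Fin m) F} (hg : g ∈ Qg e) =>
    bLift_spec p hfe hd α hαe hg
  have hinj := fun {g g' : Matrix.symplecticGroup (Fin m) F} (hg : g ∈ Qg e) (hg' : g' ∈ Qg e)
    (h : mkq g = mkq g') => mkq_injOn_Qg p hfe hg hg' h
  have hαe' := map_inv_of_map_eq _ α hαe
  have hαf' := map_inv_of_map_eq _ α hαf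
  have hrootpow : ∀ k ∈ rootGroup e, ∃ a : ℕ, k ^ (p ^ a) = 1 :=
    fun k hk => ⟨1, pow_of_mem_rootGroup p hk⟩
  refine ⟨?_, ?_, ?_, ?_, ?_, ?_⟩
  · intro g hg
    exact (hspec hg).1
  · intro g hg g' hg'
    apply hinj (hspec (Subgroup.mul_mem _ hg hg')).1
      (Subgroup.mul_mem _ (hspec hg).1 (hspec hg').1)
    rw [(hspec (Subgroup.mul_mem _ hg hg')).2, map_mul, map_mul, map_mul, (hspec hg).2,
      (hspec hg').2]
  · intro g hg h1
    apply hinj hg (Subgroup.one_mem _)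
    have h2 := (hspec hg).2
    rw [h1, map_one] at h2
    rw [map_one]
    apply α.injective
    rw [← h2, map_one]
  · intro g' hg'
    have h1 : α.symm (mkq g') ∈ Qb e := by
      have h2 := map_Qb_eq p hfe hd α⁻¹ hαe'
      rw [← h2]
      exact ⟨_, ⟨g', hg', rfl⟩, rfl⟩
    obtain ⟨g, hg, hgeq⟩ := h1
    refine ⟨g, hg, ?_⟩
    apply hinj (hspec hg).1 hg'
    rw [(hspec hg).2, hgeq, MulEquiv.apply_symm_apply]
  · intro g hg
    constructor
    · intro hgr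
      have h1 : α (mkq g) ∈ Xb e := by
        rw [← hαe]
        exact ⟨_, ⟨g, hgr, rfl⟩, rfl⟩
      rw [← (hspec hg).2] at h1
      exact mem_of_mkq_mem_map p hfe hrootpow (pow_of_mem_Qg p (hspec hg).1) h1
    · intro hbr
      have h1 : α (mkq g) ∈ (Xb e).map α.toMonoidHom := by
        rw [hαe, ← (hspec hg).2]
        exact ⟨_, hbr, rfl⟩
      obtain ⟨xb, hxb, hxbeq⟩ := h1
      have h2 : xb = mkq g := α.injective hxbeq
      rw [h2] at hxb
      exact mem_of_mkq_mem_map p hfe hrootpow (pow_of_mem_Qg p hg) hxb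
  · intro u a hu
    have hl := tv_mem_Lv (e := e) (f := f) hu a
    obtain ⟨l', hl', hl'eq⟩ := exists_Lv_lift p hfe α hαe hαf hl
    obtain ⟨c', hc'0, hle'⟩ := hl'.1
    refine ⟨l', hl', c', hle', ?_, ?_⟩
    · have hlp : tv u a ^ p = 1 := pow_eq_one_of_mem_Qg p (tv_mem_Qg u a)
      have h1 : mkq (l' ^ p) = 1 := by
        rw [map_pow, hl'eq, ← map_pow, ← map_pow, hlp, map_one, map_one]
      have h2 : l' ^ p ∈ Subgroup.center (Matrix.symplecticGroup (Fin m) F) :=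
        (QuotientGroup.eq_one_iff _).1 h1
      obtain ⟨ε, hε, hεx⟩ := center_smul h2
      have h3 := pow_smul_eigen hle' p
      rw [hεx] at h3
      have h4 : c' ^ p = ε := by
        have h5 : (c' ^ p - ε) • e = 0 := by rw [sub_smul, ← h3, sub_self]
        rcases smul_eq_zero.1 h5 with h6 | h6
        · exact sub_eq_zero.1 h6
        · exact absurd h6 he0
      apply eq_one_of_pow_char p (k := 1)
      rw [pow_one, mul_pow, h4, hε]
    · intro g hg
      have hc := conj_mem_Qg_of_mem_Lv hl hg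
      apply hinj (hspec hc).1 (conj_mem_Qg_of_mem_Lv hl' (hspec hg).1)
      rw [(hspec hc).2]
      simp only [map_mul, map_inv]
      rw [hl'eq, (hspec hg).2]

end blift

section sl2

variable {m : ℕ} {F : Type*} [Field F] [Finite F] (p : ℕ) [Fact p.Prime] [CharP F p]
  {e f : Fin m ⊕ Fin m → F} (hfe : Bf f e = 1)

/-- the Weyl-type element with independent parameters -/
noncomputable def nw (e f : Fin m ⊕ Fin m → F) (a b : F) : Matrix.symplecticGroup (Fin m) F :=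
  tv e a * tv f b * tv e a

omit [Finite F] in
theorem nw_smul_e {e f : Fin m ⊕ Fin m → F} (hfe : Bf f e = 1) (a b : F) :
    nw e f a b • e = (1 - a * b) • e - b • f := by
  unfold nw
  rw [mul_smul, mul_smul, tv_smul_of_orth (Bf_self e), tv_f_smul_e hfe, smul_sub', smul_smul',
    tv_smul_of_orth (Bf_self e), tv_smul_f hfe]
  module

include p hfe

/-- a homomorphism to the central quotient which maps the transvection `T_e(a)` to the class
of `T_e(a')` and the root group of `f` to its image is determined on that root group -/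
theorem theta_tv_f (θ : Matrix.symplecticGroup (Fin m) F →* PGq m F) {a a' : F} (ha0 : a ≠ 0)
    (ha'0 : a' ≠ 0) (hθe : θ (tv e a) = mkq (tv e a'))
    (hθf : ∀ x ∈ rootGroup f, θ x ∈ Xb f) :
    θ (tv f a⁻¹) = mkq (tv f a'⁻¹) := by
  have he0 : e ≠ 0 := ne_zero_of_Bf_eq_one' hfe
  have hf0 : f ≠ 0 := ne_zero_of_Bf_eq_one hfe
  obtain ⟨y, hy, hyeq⟩ := hθf _ (mem_rootGroup.2 ⟨a⁻¹, rfl⟩)
  obtain ⟨b₁, rfl⟩ := mem_rootGroup.1 hy
  have hn : θ (nw e f a a⁻¹) = mkq (nw e f a' b₁) := by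
    unfold nw
    rw [map_mul, map_mul, map_mul, map_mul, hθe, hyeq]
  have hne : nw e f a a⁻¹ • e = (-a⁻¹) • f := by
    rw [nw_smul_e hfe, mul_inv_cancel₀ ha0, sub_self, zero_smul, zero_sub, neg_smul]
  have h1 : nw e f a a⁻¹ * tv e a * (nw e f a a⁻¹)⁻¹ ∈ rootGroup f := by
    rw [conj_tv, hne, ← rootGroup_smul_vec f (neg_ne_zero.2 (inv_ne_zero ha0))]
    exact mem_rootGroup.2 ⟨_, rfl⟩
  have h2 := hθf _ h1
  rw [map_mul, map_mul, map_inv, hn, hθe, ← map_inv, ← map_mul, ← map_mul, conj_tv] at h2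
  have hne0 : nw e f a' b₁ • e ≠ 0 := fun h0 => he0 ((smul_eq_zero_iff' _ e).1 h0)
  have h3 := mem_of_mkq_mem_map p hfe
    (fun k hk => ⟨1, pow_of_mem_rootGroup p hk⟩)
    (pow_of_mem_rootGroup p (mem_rootGroup.2 ⟨a', rfl⟩)) h2
  obtain ⟨c, hc⟩ := smul_of_tv_mem_rootGroup hne0 ha'0 h3
  rw [nw_smul_e hfe] at hc
  have h4 := congrArg (fun x => Bf f x) hc
  simp only [Bf_sub_right, Bf_smul_right, Bf_self, hfe, mul_one, mul_zero, sub_zero] at h4
  have h5 : b₁ = a'⁻¹ := by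
    field_simp
    linear_combination -h4
  rw [← hyeq, h5]

/-- two homomorphisms to the central quotient agreeing on `Qg e` and preserving the images of
the root groups of `e` and `f` agree on the root group of `f` -/
theorem agree_on_rootGroup_f (θ₁ θ₂ : Matrix.symplecticGroup (Fin m) F →* PGq m F)
    (hQ : ∀ x ∈ Qg e, θ₁ x = θ₂ x)
    (hb : ∀ x ∈ rootGroup e, θ₁ x ∈ Xb e)
    (hc₁ : ∀ x ∈ rootGroup f, θ₁ x ∈ Xb f) (hc₂ : ∀ x ∈ rootGroup f, θ₂ x ∈ Xb f)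
    (hd : ∀ x ∈ rootGroup e, θ₁ x = 1 → x = 1) {t : Matrix.symplecticGroup (Fin m) F}
    (ht : t ∈ rootGroup f) : θ₁ t = θ₂ t := by
  have he0 : e ≠ 0 := ne_zero_of_Bf_eq_one' hfe
  obtain ⟨b₀, rfl⟩ := mem_rootGroup.1 ht
  by_cases hb0 : b₀ = 0
  · rw [hb0, tv_zero_right, map_one, map_one]
  obtain ⟨a, haeq⟩ : ∃ a, a = b₀⁻¹ := ⟨_, rfl⟩
  have ha0 : a ≠ 0 := by rw [haeq]; exact inv_ne_zero hb0
  have hb₀ : b₀ = a⁻¹ := by rw [haeq, inv_inv]
  have hxe : tv e a ∈ rootGroup e := mem_rootGroup.2 ⟨a, rfl⟩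
  obtain ⟨x', hx', hx'eq⟩ := hb _ hxe
  obtain ⟨a', rfl⟩ := mem_rootGroup.1 hx'
  have ha'0 : a' ≠ 0 := by
    rintro rfl
    rw [tv_zero_right, map_one] at hx'eq
    have h1 := hd _ hxe hx'eq.symm
    exact ha0 ((tv_eq_one_iff he0 a).1 h1)
  have hQe := rootGroup_le_Qg e hxe
  rw [hb₀, theta_tv_f p hfe θ₁ ha0 ha'0 hx'eq.symm hc₁,
    theta_tv_f p hfe θ₂ ha0 ha'0 ((hQ _ hQe).symm.trans hx'eq.symm) hc₂]

end sl2

section final

variable {m : ℕ} {F : Type*} [Field F] [Finite F] (p : ℕ) [Fact p.Prime] [CharP F p]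
  {e f : Fin m ⊕ Fin m → F} (hfe : Bf f e = 1) (hd : ∃ d, InW e f d ∧ d ≠ 0)
  (hW4 : ∃ w w', InW e f w ∧ InW e f w' ∧ w ≠ 0 ∧ w' ≠ 0 ∧ w + w' ≠ 0 ∧ Bf w' w = 0)

include p hfe hd hW4

/-- a normalised automorphism is standard -/
theorem eq_stdHom_of_normalised (α : MulAut (PGq m F))
    (hαe : (Xb e).map α.toMonoidHom = Xb e) (hαf : (Xb f).map α.toMonoidHom = Xb f) :
    ∃ (σ : F ≃+* F) (g : GL (Fin m ⊕ Fin m) F) (hg : g ∈ Cfsg.GSp m F),
      ∀ s : Matrix.symplecticGroup (Fin m) F, α (mkq s) = mkq (stdHom g hg σ s) := by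
  have hb := isQAut_bLift p hfe hd α hαe hαf
  obtain ⟨σ, g₀, k, hk0, hconf, hge, hgf, hint⟩ := hb.exists_matrix hfe hd hW4
  obtain ⟨g, hg, hgeq⟩ := exists_GL_of_conformal hk0 hconf
  refine ⟨σ, g, hg, ?_⟩
  obtain ⟨θ₁, hθ₁⟩ : ∃ θ₁ : Matrix.symplecticGroup (Fin m) F →* PGq m F,
      θ₁ = α.toMonoidHom.comp mkq := ⟨_, rfl⟩
  obtain ⟨θ₂, hθ₂⟩ : ∃ θ₂ : Matrix.symplecticGroup (Fin m) F →* PGq m F,
      θ₂ = (mkq).comp (stdHom g hg σ) := ⟨_, rfl⟩
  have hQ : ∀ x ∈ Qg e, θ₁ x = θ₂ x := by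
    intro x hx
    have hs : bLift e α x = stdHom g hg σ x :=
      eq_stdHom_of_spec g hg σ (by rw [hgeq]; exact hint x hx)
    rw [hθ₁, hθ₂, MonoidHom.comp_apply, MonoidHom.comp_apply, MulEquiv.coe_toMonoidHom,
      ← (bLift_spec p hfe hd α hαe hx).2, hs]
  have hb' : ∀ x ∈ rootGroup e, θ₁ x ∈ Xb e := by
    intro x hx
    rw [hθ₁, ← hαe]
    exact ⟨_, ⟨x, hx, rfl⟩, rfl⟩
  have hc₁' : ∀ x ∈ rootGroup f, θ₁ x ∈ Xb f := by
    intro x hx
    rw [hθ₁, ← hαf]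
    exact ⟨_, ⟨x, hx, rfl⟩, rfl⟩
  have hc₂' : ∀ x ∈ rootGroup f, θ₂ x ∈ Xb f := by
    intro x hx
    obtain ⟨c, rfl⟩ := mem_rootGroup.1 hx
    obtain ⟨cu, hcu⟩ := (mem_GSp_iff g).1 hg
    rw [hθ₂, MonoidHom.comp_apply, stdHom_tv g hg σ hcu]
    have h1 : semiMap g σ f = f := by
      unfold semiMap
      rw [hgeq]
      exact hgf
    rw [h1]
    exact ⟨_, mem_rootGroup.2 ⟨_, rfl⟩, rfl⟩
  have hd' : ∀ x ∈ rootGroup e, θ₁ x = 1 → x = 1 := by
    intro x hx h1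
    rw [hθ₁, MonoidHom.comp_apply, MulEquiv.coe_toMonoidHom] at h1
    have h2 : mkq x = mkq 1 := by
      apply α.injective
      rw [h1, map_one, map_one]
    exact mkq_inj_of_pow p hfe (pow_of_mem_rootGroup p hx) (a := 1) (b := 0) (one_pow _) h2
  have hK : MonoidHom.eqLocus θ₁ θ₂ = ⊤ := by
    apply eq_top_of_Qg_rootGroup hfe
    · intro x hx
      exact hQ x hx
    · intro x hx
      exact agree_on_rootGroup_f p hfe θ₁ θ₂ hQ hb' hc₁' hc₂' hd' hx
  intro s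
  have h1 : s ∈ MonoidHom.eqLocus θ₁ θ₂ := by
    rw [hK]
    exact Subgroup.mem_top s
  have h2 : θ₁ s = θ₂ s := h1
  rw [hθ₁, hθ₂] at h2
  exact h2

/-- **every automorphism of the central quotient of the symplectic group which maps root
groups to root groups is induced by a semilinear similarity** -/
theorem aut_Sp
    (hB : ∀ α : MulAut (PGq m F), ∃ x : Matrix.symplecticGroup (Fin m) F,
      (Xb e).map α.toMonoidHom = Xb (x • e))
    (α : MulAut (PGq m F)) :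
    ∃ (σ : F ≃+* F) (g : GL (Fin m ⊕ Fin m) F) (hg : g ∈ Cfsg.GSp m F),
      ∀ s : Matrix.symplecticGroup (Fin m) F, α (mkq s) = mkq (stdHom g hg σ s) := by
  obtain ⟨y, α', hα, hαe, hαf⟩ := exists_normal_form p hfe hB α
  obtain ⟨σ, g₀, hg₀, h⟩ := eq_stdHom_of_normalised p hfe hd hW4 α' hαe hαf
  refine ⟨σ, toGL y * g₀, (Cfsg.GSp m F).mul_mem (toGL_mem_GSp y) hg₀, ?_⟩
  intro s
  rw [hα, MulAut.mul_apply, h, mkq_conj]
  congr 1
  apply eq_stdHom_of_spec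
  rw [Matrix.GeneralLinearGroup.coe_mul, toGL_coe]
  change (y : Matrix (Fin m ⊕ Fin m) (Fin m ⊕ Fin m) F) *
    (stdHom g₀ hg₀ σ s : Matrix (Fin m ⊕ Fin m) (Fin m ⊕ Fin m) F) *
    ((y⁻¹ : Matrix.symplecticGroup (Fin m) F) : Matrix (Fin m ⊕ Fin m) (Fin m ⊕ Fin m) F) *
    ((y : Matrix (Fin m ⊕ Fin m) (Fin m ⊕ Fin m) F) *
      (g₀ : Matrix (Fin m ⊕ Fin m) (Fin m ⊕ Fin m) F)) = _
  have h1 : ((y⁻¹ : Matrix.symplecticGroup (Fin m) F) :
      Matrix (Fin m ⊕ Fin m) (Fin m ⊕ Fin m) F) *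
      (y : Matrix (Fin m ⊕ Fin m) (Fin m ⊕ Fin m) F) = 1 := by
    have := congrArg Subtype.val (inv_mul_cancel y)
    exact this
  rw [Matrix.mul_assoc, ← Matrix.mul_assoc _ (y : Matrix (Fin m ⊕ Fin m) (Fin m ⊕ Fin m) F) _, h1,
    Matrix.one_mul, Matrix.mul_assoc, stdHom_spec, Matrix.mul_assoc]

end final

end Cfsg.Agent.Helper2.SpA
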