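import Mathlib
import Cfsg.Agent.Lib.Helper2.Spa12

set_option autoImplicit false
set_option linter.unusedSimpArgs false
set_option linter.unusedVariables false
set_option linter.unusedSectionVars false

/-! Automorphisms of the projective symplectic groups, part 13: characteristic two. A word
property detects the transvections among the involutions of `Qg e` when the dimension is at
least six. -/

namespace Cfsg.Agent.Helper2.SpA

open Matrix Cfsg.Agent.Helper2.Symp Cfsg.Agent.Helper2.PU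
open scoped MatrixGroups

section claimA

variable {m : ℕ} {F : Type*} [Field F]

/-- the action of a product of two transvections on the plane of their centres -/
theorem tv_tv_step {e e' : Fin m ⊕ Fin m → F} (a : F) {β : F} (hβ : Bf e' e = β) (A B : F) :
    (tv e a * tv e' a) • (A • e + B • e') =
      (A * (1 - (a * β) ^ 2) + B * (a * β)) • e + (B - A * (a * β)) • e' := by
  have hβ' : Bf e e' = -β := by rw [Bf_skew, hβ]
  rw [mul_smul, tv_smul, tv_smul]
  simp only [Bf_add_left, Bf_smul_left, Bf_self, hβ, hβ', mul_zero, add_zero, zero_add]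
  module

/-- in characteristic two, a product of two conjugate transvections whose fourth power is
trivial has trivial square -/
theorem tv_word (h2 : (2 : F) = 0) (e : Fin m ⊕ Fin m → F) (a : F)
    (g : Matrix.symplecticGroup (Fin m) F)
    (h4 : (tv e a * (g * tv e a * g⁻¹)) ^ 4 = 1) : (tv e a * (g * tv e a * g⁻¹)) ^ 2 = 1 := by
  rw [conj_tv] at h4 ⊢
  obtain ⟨e', he'⟩ : ∃ e', e' = g • e := ⟨_, rfl⟩
  rw [← he'] at h4 ⊢
  obtain ⟨β, hβ⟩ : ∃ β, β = Bf e' e := ⟨_, rfl⟩
  have haa : a + a = 0 := by linear_combination a * h2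
  by_cases ha0 : a = 0
  · rw [ha0, tv_zero_right, tv_zero_right, mul_one, one_pow]
  by_cases hβ0 : β = 0
  · have horth : Bf e e' = 0 := by rw [Bf_skew, ← hβ, hβ0, neg_zero]
    rw [pow_two, mul_assoc, ← mul_assoc (tv e' a), ← tv_comm_of_orth e e' a a horth, mul_assoc,
      tv_mul_tv, ← mul_assoc, tv_mul_tv, haa, tv_zero_right, tv_zero_right, mul_one]
  · exfalso
    have step := tv_tv_step (e := e) (e' := e') a hβ.symm
    obtain ⟨c, hc⟩ : ∃ c, c = tv e a * tv e' a := ⟨_, rfl⟩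
    rw [← hc] at step h4
    have h1 : c ^ 4 • e' =
        ((a * β) * (4 - 10 * (a * β) ^ 2 + 6 * (a * β) ^ 4 - (a * β) ^ 6)) • e +
        (1 - 6 * (a * β) ^ 2 + 5 * (a * β) ^ 4 - (a * β) ^ 6) • e' := by
      have e0 : e' = (0 : F) • e + (1 : F) • e' := by rw [zero_smul, one_smul, zero_add]
      have hp : c ^ 4 = c * (c * (c * c)) := by
        simp only [pow_succ, pow_zero, one_mul, mul_assoc]
      rw [hp, mul_smul, mul_smul, mul_smul]
      conv_lhs => rw [e0, step, step, step, step]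
      congr 1
      · congr 1
        ring
      · congr 1
        ring
    rw [h4, one_smul] at h1
    have h3 := congrArg (fun x => Bf x e') h1
    simp only [Bf_add_left, Bf_smul_left, Bf_self, mul_zero, add_zero] at h3
    have hβ' : Bf e e' = -β := by rw [Bf_skew, ← hβ]
    rw [hβ'] at h3
    have h5 : (a * β) ^ 7 * β = 0 := by
      linear_combination (-1 : F) * h3 +
        (a * β * β * (2 - 5 * (a * β) ^ 2 + 3 * (a * β) ^ 4)) * h2
    have h6 : a * β ≠ 0 := mul_ne_zero ha0 hβ0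
    exact (mul_ne_zero (pow_ne_zero 7 h6) hβ0) h5

end claimA

section claimB

variable {m : ℕ} {F : Type*} [Field F]

/-- the form as a linear functional -/
def BfL (v : Fin m ⊕ Fin m → F) : (Fin m ⊕ Fin m → F) →ₗ[F] F where
  toFun x := Bf x v
  map_add' x y := Bf_add_left x y v
  map_smul' c x := by
    simp only [RingHom.id_apply, smul_eq_mul]
    exact Bf_smul_left c x v

/-- in dimension at least six, four vectors have a common nonzero orthogonal vector -/
theorem exists_orth4 (hm : 3 ≤ m) (v₁ v₂ v₃ v₄ : Fin m ⊕ Fin m → F) :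
    ∃ x : Fin m ⊕ Fin m → F, x ≠ 0 ∧ Bf x v₁ = 0 ∧ Bf x v₂ = 0 ∧ Bf x v₃ = 0 ∧ Bf x v₄ = 0 := by
  let L : (Fin m ⊕ Fin m → F) →ₗ[F] (Fin 4 → F) :=
    LinearMap.pi ![BfL v₁, BfL v₂, BfL v₃, BfL v₄]
  have hlt : Module.finrank F (Fin 4 → F) < Module.finrank F (Fin m ⊕ Fin m → F) := by
    rw [Module.finrank_fintype_fun_eq_card, Module.finrank_fintype_fun_eq_card]
    simp only [Fintype.card_fin, Fintype.card_sum]
    omega
  have hker := LinearMap.ker_ne_bot_of_finrank_lt (f := L) hlt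
  obtain ⟨x, hx, hx0⟩ := (Submodule.ne_bot_iff _).1 hker
  rw [LinearMap.mem_ker] at hx
  refine ⟨x, hx0, ?_, ?_, ?_, ?_⟩
  · have := congrFun hx 0
    simpa [L, BfL] using this
  · have := congrFun hx 1
    simpa [L, BfL] using this
  · have := congrFun hx 2
    simpa [L, BfL] using this
  · have := congrFun hx 3
    simpa [L, BfL] using this

/-- moving an orthogonal pair to a prescribed orthogonal pair -/
theorem exists_map_orth_pair (hm : 3 ≤ m) {e f w : Fin m ⊕ Fin m → F} (hfe : Bf f e = 1)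
    (hw : InW e f w) (hw0 : w ≠ 0) :
    ∃ (g : Matrix.symplecticGroup (Fin m) F) (e' w'' : Fin m ⊕ Fin m → F),
      g • e = e' ∧ g • w = w'' ∧ InW e f e' ∧ InW e f w'' ∧ e' ≠ 0 ∧ Bf w'' w = 1 ∧
        Bf e' w = 0 ∧ Bf e' w'' = 0 := by
  obtain ⟨w'', hw'', hw''w⟩ := exists_partner_inW hfe hw hw0
  obtain ⟨e', he'0, h1, h2, h3, h4⟩ := exists_orth4 hm e f w w''
  obtain ⟨f'₀, hf'₀⟩ := exists_partner he'0
  have hww'' : Bf w w'' = -1 := by rw [Bf_skew, hw''w]
  have hwe' : Bf w e' = 0 := by rw [Bf_skew, h3, neg_zero]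
  obtain ⟨f', hf'⟩ : ∃ f', f' = f'₀ + Bf f'₀ w'' • w := ⟨_, rfl⟩
  have hf'e' : Bf f' e' = 1 := by
    rw [hf', Bf_add_left, Bf_smul_left, hwe', mul_zero, add_zero, hf'₀]
  have hf'w'' : Bf f' w'' = 0 := by
    rw [hf', Bf_add_left, Bf_smul_left, hww'']
    ring
  obtain ⟨g₁, -, hg₁f, hg₁e⟩ := trans_pair (isND_top (m := m) (F := F))
    (Submodule.mem_top (x := f)) (Submodule.mem_top (x := e)) (Submodule.mem_top (x := f'))
    (Submodule.mem_top (x := e')) hfe hf'e'
  have hw₁ : InW e' f' (g₁ • w) := by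
    constructor
    · rw [← hg₁e, Bf_smul_smul, hw.1]
    · rw [← hg₁f, Bf_smul_smul, hw.2]
  have hw₁0 : g₁ • w ≠ 0 := fun h => hw0 ((smul_eq_zero_iff' g₁ w).1 h)
  have hw''W : InW e' f' w'' := by
    constructor
    · rw [Bf_skew, h4, neg_zero]
    · rw [Bf_skew, hf'w'', neg_zero]
  have hw''0 : w'' ≠ 0 := ne_zero_of_Bf_eq_one hw''w
  obtain ⟨g₂, hg₂, hg₂w⟩ := trans_vec (isND_Wsub hf'e') hw₁ hw''W hw₁0 hw''0
  have hg₂e : g₂ • e' = e' :=
    smul_eq_of_mem_tvGroup hg₂ e' (fun x hx => InW.symm1 hx)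
  refine ⟨g₂ * g₁, e', w'', ?_, ?_, ⟨h1, h2⟩, hw'', he'0, hw''w, h3, h4⟩
  · rw [mul_smul, hg₁e, hg₂e]
  · rw [mul_smul, hg₂w]

/-- in characteristic two and dimension at least six, an element of `Qg e` outside the root
group has a conjugate such that the product has order four -/
theorem sg_word (h2 : (2 : F) = 0) (hm : 3 ≤ m) {e f w : Fin m ⊕ Fin m → F} (hfe : Bf f e = 1)
    (hw : InW e f w) (hw0 : w ≠ 0) (s : F) :
    ∃ g : Matrix.symplecticGroup (Fin m) F,
      (sgG e w s * (g * sgG e w s * g⁻¹)) ^ 4 = 1 ∧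
      (sgG e w s * (g * sgG e w s * g⁻¹)) ^ 2 ≠ 1 := by
  obtain ⟨g, e', w'', hge, hgw, he'W, hw''W, he'0, hw''w, he'w, he'w''⟩ :=
    exists_map_orth_pair hm hfe hw hw0
  have hdbl : ∀ x : Fin m ⊕ Fin m → F, x + x = 0 := by
    intro x
    rw [← two_smul F x, h2, zero_smul]
  have hdblF : ∀ x : F, x + x = 0 := by
    intro x
    linear_combination x * h2
  refine ⟨g, ?_⟩
  rw [conj_sgG, hge, hgw]
  have hww'' : Bf w w'' = -1 := by rw [Bf_skew, hw''w]
  have hwe' : Bf w e' = 0 := by rw [Bf_skew, he'w, neg_zero]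
  have hz'inv : (sgG e' w'' s)⁻¹ = sgG e' w'' s := by
    rw [inv_eq_iff_mul_eq_one, sgG_mul he'w'' he'w'', hdbl, hdblF, Bf_self, add_zero, sgG_zero]
  have hconj : sgG e' w'' s * sgG e w s * sgG e' w'' s = sgG e (w - e') s := by
    have h1 := conj_sgG (sgG e' w'' s) e w s
    rw [hz'inv, sgG_smul he'w'', sgG_smul he'w'', he'W.symm1, hw''W.symm1, hwe', hww''] at h1
    rw [h1]
    congr 1
    · simp
    · simp only [mul_zero, add_zero, zero_smul, neg_smul, one_smul]
      abel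
  have hsq : (sgG e w s * sgG e' w'' s) ^ 2 = sgG e (-e') 0 := by
    have hew : Bf e (w - e') = 0 := by rw [Bf_sub_right, hw.symm1, he'W.symm1, sub_zero]
    rw [pow_two, mul_assoc, ← mul_assoc (sgG e' w'' s), hconj,
      sgG_mul hw.symm1 hew, Bf_sub_left, Bf_self, he'w, sub_zero, add_zero, hdblF]
    congr 1
    have := hdbl w
    rw [← add_sub_assoc, this, zero_sub]
  have hee' : Bf e (-e') = 0 := by rw [Bf_neg_right, he'W.symm1, neg_zero]
  constructor
  · rw [show (4 : ℕ) = 2 * 2 from rfl, pow_mul, hsq, pow_two, sgG_mul hee' hee', hdbl, hdblF,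
      Bf_self, add_zero, sgG_zero]
  · rw [hsq]
    intro h1
    have h3 : sgG e (-e') (0 : F) • f = f := by rw [h1, one_smul]
    rw [sgG_smul hee', hfe, one_smul, Bf_neg_right, he'W.symm2, neg_zero, zero_mul, add_zero,
      zero_smul, add_zero, add_eq_left, neg_eq_zero] at h3
    exact he'0 h3

end claimB

section claimC

variable {m : ℕ} {F : Type*} [Field F]

/-- in characteristic two the centre is trivial -/
theorem mkq_injective_of_two (h2 : (2 : F) = 0) [Nonempty (Fin m)] :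
    Function.Injective (mkq (m := m) (F := F)) := by
  intro a b hab
  have h1 := (mkq_eq_iff a b).1 hab
  have hneg : (-1 : F) = 1 := by linear_combination (-1 : F) * h2
  have h3 : a⁻¹ * b = 1 := by
    rcases (Cfsg.Agent.Helper2.Sp.mem_center_iff _).1 h1 with h | h
    · exact h
    · rw [h]
      exact Cfsg.Agent.Helper2.Sp.negOne_eq_one_iff.2 hneg
  exact (inv_mul_eq_one.1 h3)

/-- the word property detecting transvections -/
def Tq (y : PGq m F) : Prop :=
  ∀ g : PGq m F, (y * (g * y * g⁻¹)) ^ 4 = 1 → (y * (g * y * g⁻¹)) ^ 2 = 1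

theorem Tq_map (α : MulAut (PGq m F)) {y : PGq m F} (hy : Tq y) : Tq (α y) := by
  intro g h4
  obtain ⟨g₀, rfl⟩ := α.surjective g
  have e1 : α y * (α g₀ * α y * (α g₀)⁻¹) = α (y * (g₀ * y * g₀⁻¹)) := by
    simp only [map_mul, map_inv]
  rw [e1, ← map_pow] at h4 ⊢
  have h5 : (y * (g₀ * y * g₀⁻¹)) ^ 4 = 1 := by
    apply α.injective
    rw [h4, map_one]
  rw [hy g₀ h5, map_one]

theorem Tq_tv (h2 : (2 : F) = 0) [Nonempty (Fin m)] (e : Fin m ⊕ Fin m → F) (a : F) :
    Tq (mkq (tv e a)) := by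
  intro g h4
  obtain ⟨h, rfl⟩ := mkq_surjective g
  have e1 : mkq (tv e a) * (mkq h * mkq (tv e a) * (mkq h)⁻¹) =
      mkq (tv e a * (h * tv e a * h⁻¹)) := by
    simp only [map_mul, map_inv]
  rw [e1, ← map_pow] at h4 ⊢
  have h5 : (tv e a * (h * tv e a * h⁻¹)) ^ 4 = 1 := by
    apply mkq_injective_of_two h2
    rw [h4, map_one]
  rw [tv_word h2 e a h h5, map_one]

theorem not_Tq_sg (h2 : (2 : F) = 0) (hm : 3 ≤ m) {e f w : Fin m ⊕ Fin m → F}
    (hfe : Bf f e = 1) (hw : InW e f w) (hw0 : w ≠ 0) (s : F) : ¬ Tq (mkq (sgG e w s)) := by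
  have := nonempty_of_pair hfe
  intro hT
  obtain ⟨g, h4, hne⟩ := sg_word h2 hm hfe hw hw0 s
  have h5 := hT (mkq g)
  have e1 : mkq (sgG e w s) * (mkq g * mkq (sgG e w s) * (mkq g)⁻¹) =
      mkq (sgG e w s * (g * sgG e w s * g⁻¹)) := by
    simp only [map_mul, map_inv]
  rw [e1, ← map_pow, ← map_pow, h4, map_one] at h5
  apply hne
  apply mkq_injective_of_two h2
  rw [h5 rfl, map_one]

variable [Finite F] (p : ℕ) [Fact p.Prime] [CharP F p]

include p in
/-- an automorphism normalising the image of a Sylow subgroup containing `Qg e` maps the image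
of the root group into itself -/
theorem map_Xb_le_of_sylow (h2 : (2 : F) = 0) (hm : 3 ≤ m) {e f : Fin m ⊕ Fin m → F}
    (hfe : Bf f e = 1) {P : Subgroup (Matrix.symplecticGroup (Fin m) F)} (hP : IsPGroup p P)
    (hQP : Qg e ≤ P) (β : MulAut (PGq m F)) (hβ : (P.map mkq).map β.toMonoidHom = P.map mkq) :
    (Xb e).map β.toMonoidHom ≤ Xb e := by
  have := nonempty_of_pair hfe
  rintro _ ⟨y, ⟨x, hx, rfl⟩, rfl⟩
  obtain ⟨a, rfl⟩ := mem_rootGroup.1 hx
  rw [MulEquiv.coe_toMonoidHom]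
  have hxP : tv e a ∈ P := hQP (tv_mem_Qg e a)
  have h1 : β (mkq (tv e a)) ∈ P.map mkq := by
    rw [← hβ]
    exact ⟨_, ⟨_, hxP, rfl⟩, rfl⟩
  obtain ⟨z, hzP, hz⟩ := h1
  have hzc : ∀ g ∈ P, g * z = z * g := by
    intro g hg
    have h3 : mkq g ∈ (P.map mkq).map β.toMonoidHom := by
      rw [hβ]
      exact ⟨g, hg, rfl⟩
    obtain ⟨g₀b, ⟨g₀, hg₀, rfl⟩, hg₀eq⟩ := h3
    rw [MulEquiv.coe_toMonoidHom] at hg₀eq
    have h4 := central_of_mem_rootGroup p hfe hP hQP hx hg₀
    apply mkq_injective_of_two h2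
    rw [map_mul, map_mul, hz, ← hg₀eq, ← map_mul, ← map_mul, ← map_mul, ← map_mul, h4]
  have hzQ := mem_Qg_of_central p hfe hP hQP hzP (fun g hg => hzc g (hQP hg))
  obtain ⟨hW, hzeq⟩ := eq_sgG_of_mem_Qg hfe hzQ
  have hT : Tq (mkq z) := by
    rw [hz]
    exact Tq_map β (Tq_tv h2 e a)
  have hw0 : wOf e f z = 0 := by
    by_contra hne
    rw [hzeq] at hT
    exact not_Tq_sg h2 hm hfe hW hne _ hT
  rw [← hz]
  exact ⟨z, (mem_rootGroup_iff_wOf hfe hzQ).2 hw0, rfl⟩

include p in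
/-- in characteristic two and dimension at least six an automorphism maps the image of the
root group of `e` to the image of a root group -/
theorem exists_conj_Xb_even (h2 : (2 : F) = 0) (hm : 3 ≤ m) {e f : Fin m ⊕ Fin m → F}
    (hfe : Bf f e = 1) (α : PGq m F ≃* PGq m F) :
    ∃ x : Matrix.symplecticGroup (Fin m) F, (Xb e).map α.toMonoidHom = Xb (x • e) := by
  have hfinG := finite_symp (F := F) hfe
  obtain ⟨P, hQP⟩ := (isPGroup_Qg p e).exists_le_sylow
  have hfin : Finite (PGq m F) := Finite.of_surjective _ (mkq_surjective (m := m) (F := F))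
  obtain ⟨xb, hxb⟩ := exists_conj_of_sylow p (P.mapSurjective (mkq_surjective (m := m) (F := F))) α
  obtain ⟨x, rfl⟩ := mkq_surjective xb
  refine ⟨x, ?_⟩
  rw [Sylow.coe_mapSurjective] at hxb
  obtain ⟨α₁, hα₁⟩ : ∃ α₁ : MulAut (PGq m F), α₁ = (MulAut.conj (mkq x))⁻¹ * α := ⟨_, rfl⟩
  have hα₁P : ((P : Subgroup (Matrix.symplecticGroup (Fin m) F)).map mkq).map α₁.toMonoidHom =
      (P : Subgroup (Matrix.symplecticGroup (Fin m) F)).map mkq := by
    have hx : α.toMonoidHom = (α : MulAut (PGq m F)).toMonoidHom := rfl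
    rw [hα₁, map_mul_aut]
    have : ((P : Subgroup (Matrix.symplecticGroup (Fin m) F)).map mkq).map
        (α : MulAut (PGq m F)).toMonoidHom =
        ((P : Subgroup (Matrix.symplecticGroup (Fin m) F)).map mkq).map
          (MulAut.conj (mkq x)).toMonoidHom := hxb
    rw [this]
    exact map_conj_inv_of_eq _ _ _ rfl
  have hle := map_Xb_le_of_sylow p h2 hm hfe P.2 hQP α₁ hα₁P
  have hle' := map_Xb_le_of_sylow p h2 hm hfe P.2 hQP α₁⁻¹ (map_inv_of_map_eq _ α₁ hα₁P)
  have heq : (Xb e).map α₁.toMonoidHom = Xb e := by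
    apply le_antisymm hle
    have h3 := Subgroup.map_mono (f := α₁.toMonoidHom) hle'
    rw [← map_mul_aut, mul_inv_cancel] at h3
    intro y hy
    apply h3
    exact ⟨y, hy, rfl⟩
  have hα : (α : MulAut (PGq m F)) = MulAut.conj (mkq x) * α₁ := by
    rw [hα₁, mul_inv_cancel_left]
  have : (Xb e).map α.toMonoidHom = (Xb e).map (MulAut.conj (mkq x) * α₁).toMonoidHom := by
    rw [← hα]
  rw [this, map_mul_aut, heq, Xb_conj]

end claimC

end Cfsg.Agent.Helper2.SpA
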