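import Mathlib
import Cfsg.Agent.Lib.Helper2.Spa13

set_option autoImplicit false
set_option linter.unusedSimpArgs false
set_option linter.unusedVariables false
set_option linter.unusedSectionVars false

/-! Automorphisms of the projective symplectic groups, part 14: the main theorem for the
standard hyperbolic pair. -/

namespace Cfsg.Agent.Helper2.SpA

open Matrix Cfsg.Agent.Helper2.Symp Cfsg.Agent.Helper2.PU
open scoped MatrixGroups

variable {m : ℕ} {F : Type*} [Field F]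

theorem Bf_eV_fV_ne (i j : Fin m) (hij : i ≠ j) :
    Bf (eV i : Fin m ⊕ Fin m → F) (fV j) = 0 := by
  rw [Bf_fV_right]
  simp [eV, hij]

theorem inW_eV (i j : Fin m) (hij : i ≠ j) :
    InW (eV j : Fin m ⊕ Fin m → F) (fV j) (eV i) :=
  ⟨Bf_eV_eV i j, Bf_eV_fV_ne i j hij⟩

theorem eV_add_eV_ne_zero (i j : Fin m) (hij : i ≠ j) :
    (eV i : Fin m ⊕ Fin m → F) + eV j ≠ 0 := by
  intro h
  have := congrFun h (Sum.inl i)
  simp [eV, hij] at this

/-- **every automorphism of `PSp_{2m}(F)` is induced by a semilinear similarity**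
(`m ≥ 2`, and characteristic not two when `m = 2`) -/
theorem aut_Sp_main [Finite F] (p : ℕ) [Fact p.Prime] [CharP F p] (hm : 2 ≤ m)
    (h4 : m = 2 → (2 : F) ≠ 0) (α : MulAut (PGq m F)) :
    ∃ (σ : F ≃+* F) (g : GL (Fin m ⊕ Fin m) F) (hg : g ∈ Cfsg.GSp m F),
      ∀ s : Matrix.symplecticGroup (Fin m) F, α (mkq s) = mkq (stdHom g hg σ s) := by
  obtain ⟨i0, hi0⟩ : ∃ i0 : Fin m, i0 = ⟨0, by omega⟩ := ⟨_, rfl⟩
  obtain ⟨i1, hi1⟩ : ∃ i1 : Fin m, i1 = ⟨1, by omega⟩ := ⟨_, rfl⟩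
  have h10 : i1 ≠ i0 := by
    rw [hi0, hi1]
    intro h
    have := congrArg Fin.val h
    simp at this
  have hfe : Bf (fV i0 : Fin m ⊕ Fin m → F) (eV i0) = 1 := Bf_fV_eV i0
  have hd : ∃ d, InW (eV i0 : Fin m ⊕ Fin m → F) (fV i0) d ∧ d ≠ 0 :=
    ⟨eV i1, inW_eV i1 i0 h10, eV_ne_zero i1⟩
  have hW4 : ∃ w w', InW (eV i0 : Fin m ⊕ Fin m → F) (fV i0) w ∧ InW (eV i0) (fV i0) w' ∧
      w ≠ 0 ∧ w' ≠ 0 ∧ w + w' ≠ 0 ∧ Bf w' w = 0 := by
    by_cases hm2 : m = 2
    · have h2 := h4 hm2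
      refine ⟨eV i1, eV i1, inW_eV i1 i0 h10, inW_eV i1 i0 h10, eV_ne_zero i1, eV_ne_zero i1, ?_,
        Bf_self _⟩
      rw [← two_smul F]
      intro h
      rcases smul_eq_zero.1 h with h5 | h5
      · exact h2 h5
      · exact eV_ne_zero i1 h5
    · obtain ⟨i2, hi2⟩ : ∃ i2 : Fin m, i2 = ⟨2, by omega⟩ := ⟨_, rfl⟩
      have h20 : i2 ≠ i0 := by
        rw [hi0, hi2]
        intro h
        have := congrArg Fin.val h
        simp at this
      have h12 : i1 ≠ i2 := by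
        rw [hi1, hi2]
        intro h
        have := congrArg Fin.val h
        simp at this
      exact ⟨eV i1, eV i2, inW_eV i1 i0 h10, inW_eV i2 i0 h20, eV_ne_zero i1, eV_ne_zero i2,
        eV_add_eV_ne_zero i1 i2 h12, Bf_eV_eV i2 i1⟩
  have hB : ∀ α : MulAut (PGq m F), ∃ x : Matrix.symplecticGroup (Fin m) F,
      (Xb (eV i0 : Fin m ⊕ Fin m → F)).map α.toMonoidHom = Xb (x • eV i0) := by
    intro α
    by_cases h2 : (2 : F) = 0
    · have hm3 : 3 ≤ m := by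
        by_contra hlt
        exact h4 (by omega) h2
      exact exists_conj_Xb_even p h2 hm3 hfe α
    · exact exists_conj_Xb_odd p hfe h2 α
  exact aut_Sp p hfe hd hW4 hB α

end Cfsg.Agent.Helper2.SpA
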