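import Mathlib
import Cfsg.Agent.Lib.Helper2.Spa14
import Cfsg.Agent.Lib.Helper2.PSLMapEquiv
import Cfsg.Agent.Lib.Helper2.Psu26
import Cfsg.Agent.Lib.Helper2.Psln27

set_option autoImplicit false
set_option linter.unusedSimpArgs false
set_option linter.unusedVariables false
set_option linter.unusedSectionVars false

/-! Field automorphisms of the symplectic groups, part 15: the conformal symplectic group in
matrix form, the action of field automorphisms on it, and the standard automorphisms of the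
central quotient. -/

namespace Cfsg.Agent.Helper2.SpA

open Matrix Cfsg.Agent.Helper2.Symp Cfsg.Agent.Helper2.PU
open Cfsg.Agent.Helper2.PN (fieldGLHom fieldGLHom_coe')
open scoped MatrixGroups

/-- square matrices of the symplectic size -/
abbrev Mt (m : ℕ) (F : Type*) : Type _ := Matrix (Fin m ⊕ Fin m) (Fin m ⊕ Fin m) F

section matform

variable {m : ℕ} {F : Type*} [Field F]

theorem Bf_mulVec_mulVec (A : Mt m F) (u v : Fin m ⊕ Fin m → F) :
    Bf (A *ᵥ u) (A *ᵥ v) = u ⬝ᵥ ((Aᵀ * Matrix.J (Fin m) F * A) *ᵥ v) := by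
  rw [Bf_def]
  conv_rhs => rw [← Matrix.mulVec_mulVec, ← Matrix.mulVec_mulVec, Matrix.dotProduct_mulVec,
    Matrix.vecMul_transpose]

theorem mat_eq_of_dot {ι : Type*} [Fintype ι] [DecidableEq ι] {M M' : Matrix ι ι F}
    (h : ∀ u v : ι → F, u ⬝ᵥ (M *ᵥ v) = u ⬝ᵥ (M' *ᵥ v)) : M = M' := by
  ext i j
  have := h (Pi.single i 1) (Pi.single j 1)
  simpa [Matrix.mulVec_single_one, single_dotProduct] using this

theorem J_map_hom {F₀ : Type*} [Field F₀] (j : F₀ →+* F) :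
    (Matrix.J (Fin m) F₀).map j = Matrix.J (Fin m) F := by
  ext a b
  rcases a with a | a <;> rcases b with b | b <;>
    simp [Matrix.J, Matrix.fromBlocks, Matrix.one_apply, Matrix.neg_apply]

theorem J_map (σ : F ≃+* F) : (Matrix.J (Fin m) F).map σ = Matrix.J (Fin m) F :=
  J_map_hom (σ : F →+* F)

theorem dot_smul_J (c : F) (u v : Fin m ⊕ Fin m → F) :
    u ⬝ᵥ ((c • Matrix.J (Fin m) F) *ᵥ v) = c * Bf u v := by
  rw [Bf_def, Matrix.smul_mulVec, dotProduct_smul, smul_eq_mul]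

/-- the conformal symplectic group in matrix form -/
theorem GSp_mat {g : GL (Fin m ⊕ Fin m) F} {c : F}
    (hc : ∀ u v : Fin m ⊕ Fin m → F, Bf ((g : Mt m F) *ᵥ u) ((g : Mt m F) *ᵥ v) = c * Bf u v) :
    (g : Mt m F)ᵀ * Matrix.J (Fin m) F * (g : Mt m F) = c • Matrix.J (Fin m) F := by
  apply mat_eq_of_dot
  intro u v
  rw [← Bf_mulVec_mulVec, hc, dot_smul_J]

theorem conformal_of_mat {A : Mt m F} {c : F}
    (h : Aᵀ * Matrix.J (Fin m) F * A = c • Matrix.J (Fin m) F) (u v : Fin m ⊕ Fin m → F) :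
    Bf (A *ᵥ u) (A *ᵥ v) = c * Bf u v := by
  rw [Bf_mulVec_mulVec, h, dot_smul_J]

/-- the multiplier of an element of the conformal symplectic group is unique -/
theorem multiplier_unique (hm : 0 < m) {A : Mt m F} {c c' : F}
    (h : ∀ u v : Fin m ⊕ Fin m → F, Bf (A *ᵥ u) (A *ᵥ v) = c * Bf u v)
    (h' : ∀ u v : Fin m ⊕ Fin m → F, Bf (A *ᵥ u) (A *ᵥ v) = c' * Bf u v) : c = c' := by
  have h1 := h (fV ⟨0, hm⟩) (eV ⟨0, hm⟩)
  rw [h', Bf_fV_eV, mul_one, mul_one] at h1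
  exact h1.symm

end matform

section fieldaction

variable {m : ℕ} {F : Type*} [Field F]

theorem fieldGLHom_mem_GSp (σ : RingAut F) {g : GL (Fin m ⊕ Fin m) F} (hg : g ∈ Cfsg.GSp m F) :
    fieldGLHom σ g ∈ Cfsg.GSp m F := by
  obtain ⟨c, hc⟩ := (mem_GSp_iff g).1 hg
  rw [mem_GSp_iff]
  refine ⟨Units.map (σ : F →* F) c, fun u v => ?_⟩
  rw [fieldGLHom_coe', ← comp_symm_comp σ u, ← comp_symm_comp σ v, map_mulVec_comp,
    map_mulVec_comp, Bf_comp_ringEquiv, Bf_comp_ringEquiv, hc, map_mul]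
  rfl

/-- field automorphisms acting on the conformal symplectic group -/
def sigG (σ : RingAut F) : Cfsg.GSp m F →* Cfsg.GSp m F where
  toFun g := ⟨fieldGLHom σ g.1, fieldGLHom_mem_GSp σ g.2⟩
  map_one' := Subtype.ext (map_one (fieldGLHom σ))
  map_mul' a b := Subtype.ext (map_mul (fieldGLHom σ) a.1 b.1)

theorem sigG_coe (σ : RingAut F) (g : Cfsg.GSp m F) :
    ((sigG σ g : Cfsg.GSp m F) : GL (Fin m ⊕ Fin m) F) = fieldGLHom σ g.1 := rfl

theorem sigG_val (σ : RingAut F) (g : Cfsg.GSp m F) :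
    (((sigG σ g : Cfsg.GSp m F) : GL (Fin m ⊕ Fin m) F) : Mt m F) =
      ((g : GL (Fin m ⊕ Fin m) F) : Mt m F).map σ := rfl

theorem sigG_one (g : Cfsg.GSp m F) : sigG (1 : RingAut F) g = g := by
  apply Subtype.ext
  rw [sigG_coe, map_one]
  rfl

theorem sigG_mul (σ τ : RingAut F) (g : Cfsg.GSp m F) :
    sigG (σ * τ) g = sigG σ (sigG τ g) := by
  apply Subtype.ext
  rw [sigG_coe, map_mul]
  rfl

end fieldaction

section stdaut

variable {m : ℕ} {F : Type*} [Field F] [Finite F]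

omit [Finite F] in
theorem stdHom_injective (g : GL (Fin m ⊕ Fin m) F) (hg : g ∈ Cfsg.GSp m F) (σ : F ≃+* F) :
    Function.Injective (stdHom g hg σ) := by
  rw [injective_iff_map_eq_one]
  intro s hs
  have h1 := stdHom_spec g hg σ s
  rw [hs] at h1
  have h2 : (s : Mt m F).map σ = 1 := by
    have h3 : ((g⁻¹ : GL (Fin m ⊕ Fin m) F) : Mt m F) *
        (((1 : Matrix.symplecticGroup (Fin m) F) : Mt m F) * (g : Mt m F)) =
        ((g⁻¹ : GL (Fin m ⊕ Fin m) F) : Mt m F) * ((g : Mt m F) * (s : Mt m F).map σ) := by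
      rw [h1]
    rw [← Matrix.mul_assoc _ (g : Mt m F), GL_inv_mul_coe, Matrix.one_mul] at h3
    rw [← h3]
    change ((g⁻¹ : GL (Fin m ⊕ Fin m) F) : Mt m F) * ((1 : Mt m F) * (g : Mt m F)) = 1
    rw [Matrix.one_mul, GL_inv_mul_coe]
  apply Subtype.ext
  change (s : Mt m F) = 1
  ext i j
  have h3 := congrFun (congrFun h2 i) j
  rw [Matrix.map_apply] at h3
  apply σ.injective
  rw [h3, Matrix.one_apply]
  split_ifs <;> simp

theorem finite_symp' : Finite (Matrix.symplecticGroup (Fin m) F) := by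
  have : Finite (Matrix (Fin m ⊕ Fin m) (Fin m ⊕ Fin m) F) := inferInstance
  exact Finite.of_injective (fun g : Matrix.symplecticGroup (Fin m) F => g.1)
    Subtype.val_injective

/-- the standard automorphism of the symplectic group -/
noncomputable def stdAut (g : GL (Fin m ⊕ Fin m) F) (hg : g ∈ Cfsg.GSp m F) (σ : F ≃+* F) :
    MulAut (Matrix.symplecticGroup (Fin m) F) :=
  have := finite_symp' (m := m) (F := F)
  MulEquiv.ofBijective (stdHom g hg σ)
    ⟨stdHom_injective g hg σ, Finite.injective_iff_surjective.1 (stdHom_injective g hg σ)⟩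

theorem stdAut_apply (g : GL (Fin m ⊕ Fin m) F) (hg : g ∈ Cfsg.GSp m F) (σ : F ≃+* F)
    (s : Matrix.symplecticGroup (Fin m) F) : stdAut g hg σ s = stdHom g hg σ s := rfl

/-- the standard automorphism of the central quotient -/
noncomputable def stdAutQ (g : GL (Fin m ⊕ Fin m) F) (hg : g ∈ Cfsg.GSp m F) (σ : F ≃+* F) :
    MulAut (PGq m F) :=
  Cfsg.Agent.Helper2.quotientCenterCongr (stdAut g hg σ)

theorem stdAutQ_mk (g : GL (Fin m ⊕ Fin m) F) (hg : g ∈ Cfsg.GSp m F) (σ : F ≃+* F)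
    (s : Matrix.symplecticGroup (Fin m) F) :
    stdAutQ g hg σ (mkq s) = mkq (stdHom g hg σ s) := rfl

omit [Finite F] in
theorem stdHom_comp {g g' : GL (Fin m ⊕ Fin m) F} (hg : g ∈ Cfsg.GSp m F)
    (hg' : g' ∈ Cfsg.GSp m F) (σ σ' : RingAut F) (s : Matrix.symplecticGroup (Fin m) F) :
    stdHom g hg σ (stdHom g' hg' σ' s) =
      stdHom (g * fieldGLHom σ g') ((Cfsg.GSp m F).mul_mem hg (fieldGLHom_mem_GSp σ hg'))
        (σ * σ') s := by
  apply eq_stdHom_of_spec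
  rw [Matrix.GeneralLinearGroup.coe_mul, fieldGLHom_coe', ← Matrix.mul_assoc, stdHom_spec,
    Matrix.mul_assoc, ← map_mul_ringEquiv, stdHom_spec, map_mul_ringEquiv, map_map_ringEquiv,
    Matrix.mul_assoc]

theorem stdAutQ_mul {g g' : GL (Fin m ⊕ Fin m) F} (hg : g ∈ Cfsg.GSp m F)
    (hg' : g' ∈ Cfsg.GSp m F) (σ σ' : RingAut F) :
    stdAutQ g hg σ * stdAutQ g' hg' σ' =
      stdAutQ (g * fieldGLHom σ g') ((Cfsg.GSp m F).mul_mem hg (fieldGLHom_mem_GSp σ hg'))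
        (σ * σ') := by
  ext x
  obtain ⟨s, rfl⟩ := mkq_surjective x
  rw [MulAut.mul_apply, stdAutQ_mk, stdAutQ_mk, stdAutQ_mk, stdHom_comp]

omit [Finite F] in
theorem stdHom_one (s : Matrix.symplecticGroup (Fin m) F) :
    stdHom (1 : GL (Fin m ⊕ Fin m) F) (Cfsg.GSp m F).one_mem (1 : RingAut F) s = s := by
  symm
  apply eq_stdHom_of_spec
  rw [Units.val_one, Matrix.mul_one, Matrix.one_mul]
  ext i j
  rfl

theorem stdAutQ_one :
    stdAutQ (1 : GL (Fin m ⊕ Fin m) F) (Cfsg.GSp m F).one_mem (1 : RingAut F) = 1 := by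
  ext x
  obtain ⟨s, rfl⟩ := mkq_surjective x
  rw [stdAutQ_mk, stdHom_one, MulAut.one_apply]

theorem stdAutQ_congr {g g' : GL (Fin m ⊕ Fin m) F} (hg : g ∈ Cfsg.GSp m F)
    (hg' : g' ∈ Cfsg.GSp m F) {σ σ' : RingAut F} (h1 : g = g') (h2 : σ = σ') :
    stdAutQ g hg σ = stdAutQ g' hg' σ' := by
  subst h1 h2
  rfl

/-- inner automorphisms are standard -/
theorem stdAutQ_toGL (y : Matrix.symplecticGroup (Fin m) F) :
    stdAutQ (toGL y) (toGL_mem_GSp y) (1 : RingAut F) = MulAut.conj (mkq y) := by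
  ext x
  obtain ⟨s, rfl⟩ := mkq_surjective x
  rw [stdAutQ_mk, mkq_conj]
  congr 1

/-- scalar multiples induce the same automorphism -/
theorem stdAutQ_of_smul {g g' : GL (Fin m ⊕ Fin m) F} (hg : g ∈ Cfsg.GSp m F)
    (hg' : g' ∈ Cfsg.GSp m F) (c : F) (h : (g' : Mt m F) = c • (g : Mt m F)) (σ : RingAut F) :
    stdAutQ g' hg' σ = stdAutQ g hg σ := by
  ext x
  obtain ⟨s, rfl⟩ := mkq_surjective x
  rw [stdAutQ_mk, stdAutQ_mk]
  congr 1
  symm
  apply eq_stdHom_of_spec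
  rw [h, Matrix.mul_smul, Matrix.smul_mul, stdHom_spec]

theorem stdAutQ_inv {g : GL (Fin m ⊕ Fin m) F} (hg : g ∈ Cfsg.GSp m F) (σ : RingAut F) :
    (stdAutQ g hg σ)⁻¹ =
      stdAutQ (fieldGLHom σ⁻¹ g⁻¹) (fieldGLHom_mem_GSp σ⁻¹ ((Cfsg.GSp m F).inv_mem hg)) σ⁻¹ := by
  rw [inv_eq_iff_mul_eq_one, stdAutQ_mul, ← stdAutQ_one]
  apply stdAutQ_congr
  · rw [← MulAut.mul_apply, ← map_mul, mul_inv_cancel, map_one, MulAut.one_apply, mul_inv_cancel]
  · exact mul_inv_cancel σ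

end stdaut

end Cfsg.Agent.Helper2.SpA
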