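import Mathlib
import Cfsg.Agent.Lib.Helper2.Spa15

set_option autoImplicit false
set_option linter.unusedSimpArgs false
set_option linter.unusedVariables false
set_option linter.unusedSectionVars false

/-! Field automorphisms of the symplectic groups, part 16: a standard automorphism is trivial
only if the field automorphism is trivial and the matrix is scalar. -/

namespace Cfsg.Agent.Helper2.SpA

open Matrix Cfsg.Agent.Helper2.Symp Cfsg.Agent.Helper2.PU
open Cfsg.Agent.Helper2.PN (fieldGLHom fieldGLHom_coe')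
open scoped MatrixGroups

section eigen

variable {m : ℕ} {F : Type*} [Field F]

/-- eigenvalues of an additive map on independent eigenvectors agree when every vector is an
eigenvector -/
theorem eig_eq {T : (Fin m ⊕ Fin m → F) → (Fin m ⊕ Fin m → F)}
    (hadd : ∀ x y, T (x + y) = T x + T y)
    (heig : ∀ v, v ≠ 0 → ∃ l : F, T v = l • v)
    {u v : Fin m ⊕ Fin m → F} (hu0 : u ≠ 0) (hind : ∀ a : F, v ≠ a • u) {lu lv : F}
    (hu : T u = lu • u) (hv : T v = lv • v) : lv = lu := by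
  have h0 : u + v ≠ 0 := by
    intro h
    apply hind (-1)
    rw [neg_one_smul]
    exact eq_neg_of_add_eq_zero_right h
  obtain ⟨l', hl'⟩ := heig _ h0
  rw [hadd, hu, hv, smul_add] at hl'
  obtain ⟨h1, h2⟩ := smul_eq_of_indep hu0 hind hl'
  rw [h2, h1]

/-- an additive map for which every vector is an eigenvector is a scalar -/
theorem scalar_of_eig {T : (Fin m ⊕ Fin m → F) → (Fin m ⊕ Fin m → F)}
    (hadd : ∀ x y, T (x + y) = T x + T y)
    (heig : ∀ v, v ≠ 0 → ∃ l : F, T v = l • v)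
    {e f : Fin m ⊕ Fin m → F} (hfe : Bf f e = 1) :
    ∃ l : F, ∀ v, v ≠ 0 → T v = l • v := by
  have he0 : e ≠ 0 := by
    rintro rfl
    rw [Bf_zero_right] at hfe
    exact zero_ne_one hfe
  have hf0 : f ≠ 0 := by
    rintro rfl
    rw [Bf_zero_left] at hfe
    exact zero_ne_one hfe
  have hfe_ind : ∀ a : F, f ≠ a • e := by
    intro a h
    have h1 : Bf f e = 0 := by
      conv_lhs => rw [h]
      rw [Bf_smul_left, Bf_self, mul_zero]
    rw [hfe] at h1
    exact one_ne_zero h1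
  obtain ⟨le, hle⟩ := heig e he0
  obtain ⟨lf, hlf⟩ := heig f hf0
  have hlfe : lf = le := eig_eq hadd heig he0 hfe_ind hle hlf
  refine ⟨le, fun v hv0 => ?_⟩
  obtain ⟨lv, hlv⟩ := heig v hv0
  by_cases hind : ∀ a : F, v ≠ a • e
  · rw [hlv, eig_eq hadd heig he0 hind hle hlv]
  · have hex : ∃ a : F, v = a • e := by
      by_contra hcon
      apply hind
      intro a ha
      exact hcon ⟨a, ha⟩
    obtain ⟨a, ha⟩ := hex
    have ha0 : a ≠ 0 := by
      rintro rfl
      rw [zero_smul] at ha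
      exact hv0 ha
    have hind' : ∀ b : F, v ≠ b • f := by
      intro b h
      have h1 : Bf f v = 0 := by
        rw [h, Bf_smul_right, Bf_self, mul_zero]
      rw [ha, Bf_smul_right, hfe, mul_one] at h1
      exact ha0 h1
    rw [hlv, eig_eq hadd heig hf0 hind' hlf hlv, hlfe]

end eigen

section kernel

variable {m : ℕ} {F : Type*} [Field F] [Finite F] (p : ℕ) [Fact p.Prime] [CharP F p]

include p in
/-- a semilinear similarity inducing the trivial automorphism fixes every point -/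
theorem semiMap_eig_of_eq_one (hm : 0 < m) {g : GL (Fin m ⊕ Fin m) F} (hg : g ∈ Cfsg.GSp m F)
    (σ : RingAut F) (h : stdAutQ g hg σ = 1) {v : Fin m ⊕ Fin m → F} (hv0 : v ≠ 0) :
    ∃ l : F, semiMap g σ v = l • v := by
  obtain ⟨c, hc⟩ := (mem_GSp_iff g).1 hg
  have hfe : Bf (fV (⟨0, hm⟩ : Fin m) : Fin m ⊕ Fin m → F) (eV ⟨0, hm⟩) = 1 := Bf_fV_eV _
  have h1 : mkq (stdHom g hg σ (tv v 1)) = mkq (tv v 1) := by
    rw [← stdAutQ_mk, h, MulAut.one_apply]
  rw [stdHom_tv g hg σ hc] at h1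
  have h2 := mkq_inj_of_pow p hfe (a := 1) (b := 1)
    (pow_of_mem_rootGroup p (mem_rootGroup.2 ⟨_, rfl⟩))
    (pow_of_mem_rootGroup p (mem_rootGroup.2 ⟨_, rfl⟩)) h1
  have h3 : tv v (1 : F) ∈ rootGroup (semiMap g σ v) := by
    rw [← h2]
    exact mem_rootGroup.2 ⟨_, rfl⟩
  obtain ⟨l, hl⟩ := smul_of_tv_mem_rootGroup hv0 one_ne_zero h3
  have hl0 : l ≠ 0 := by
    rintro rfl
    rw [zero_smul] at hl
    exact hv0 hl
  refine ⟨l⁻¹, ?_⟩
  conv_rhs => rw [hl]
  rw [smul_smul, inv_mul_cancel₀ hl0, one_smul]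

include p in
/-- **kernel of the standard automorphism construction** -/
theorem of_stdAutQ_eq_one (hm : 0 < m) {g : GL (Fin m ⊕ Fin m) F} (hg : g ∈ Cfsg.GSp m F)
    (σ : RingAut F) (h : stdAutQ g hg σ = 1) :
    σ = 1 ∧ ∃ c : F, (g : Mt m F) = c • (1 : Mt m F) := by
  obtain ⟨c, hc⟩ := (mem_GSp_iff g).1 hg
  obtain ⟨e, he⟩ : ∃ e : Fin m ⊕ Fin m → F, e = eV ⟨0, hm⟩ := ⟨_, rfl⟩
  obtain ⟨f, hf⟩ : ∃ f : Fin m ⊕ Fin m → F, f = fV ⟨0, hm⟩ := ⟨_, rfl⟩
  have hfe : Bf f e = 1 := by rw [he, hf]; exact Bf_fV_eV _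
  have he0 : e ≠ 0 := by
    rintro rfl
    rw [Bf_zero_right] at hfe
    exact zero_ne_one hfe
  obtain ⟨l, hl⟩ := scalar_of_eig (T := semiMap g σ) (semiMap_add g σ)
    (fun v hv0 => semiMap_eig_of_eq_one p hm hg σ h hv0) hfe
  have hf0 : f ≠ 0 := by
    rintro rfl
    rw [Bf_zero_left] at hfe
    exact zero_ne_one hfe
  have hl0 : l ≠ 0 := by
    rintro rfl
    have h1 := semiMap_Bf hc σ f e
    rw [hl f hf0, zero_smul, Bf_zero_left, hfe, map_one, mul_one] at h1
    exact c.ne_zero h1.symm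
  have hσ : σ = 1 := by
    ext a
    rw [RingAut.one_apply]
    by_cases ha0 : a = 0
    · rw [ha0, map_zero]
    · have hae : a • e ≠ 0 := smul_ne_zero ha0 he0
      have h1 := hl (a • e) hae
      rw [semiMap_smul, hl e he0, smul_smul, smul_smul] at h1
      have h2 : (σ a * l - l * a) • e = 0 := by rw [sub_smul, h1, sub_self]
      rcases smul_eq_zero.1 h2 with h3 | h3
      · have h4 : (σ a - a) * l = 0 := by linear_combination h3
        rcases mul_eq_zero.1 h4 with h5 | h5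
        · exact sub_eq_zero.1 h5
        · exact absurd h5 hl0
      · exact absurd h3 he0
  refine ⟨hσ, l, ?_⟩
  rw [Matrix.ext_iff_mulVec]
  intro x
  rw [Matrix.smul_mulVec, Matrix.one_mulVec]
  have h1 : semiMap g σ x = (g : Mt m F) *ᵥ x := by
    unfold semiMap
    rw [hσ]
    rfl
  rw [← h1]
  by_cases hx0 : x = 0
  · rw [hx0, smul_zero]
    have := semiMap_smul g σ (0 : F) (0 : Fin m ⊕ Fin m → F)
    rw [zero_smul, map_zero, zero_smul] at this
    exact this
  · exact hl x hx0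

end kernel

end Cfsg.Agent.Helper2.SpA
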