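import Mathlib
import Cfsg.Agent.Lib.Helper2.Spa16

set_option autoImplicit false
set_option linter.unusedSimpArgs false
set_option linter.unusedVariables false
set_option linter.unusedSectionVars false

/-! Field automorphisms of the symplectic groups, part 17: the action of the conformal
symplectic group, the standard field automorphisms, and the predicates of the statements. -/

namespace Cfsg.Agent.Helper2.SpA

open Matrix Cfsg.Agent.Helper2.Symp Cfsg.Agent.Helper2.PU
open Cfsg.Agent.Helper2.PN (fieldGLHom fieldGLHom_coe' mnorm mnorm_zero mnorm_succ)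
open scoped MatrixGroups

section homs

variable {m : ℕ} {F : Type*} [Field F] [Finite F]

/-- the conformal symplectic group acts on the central quotient of the symplectic group -/
noncomputable def psiS : Cfsg.GSp m F →* MulAut (PGq m F) where
  toFun g := stdAutQ g.1 g.2 (1 : RingAut F)
  map_one' := stdAutQ_one
  map_mul' a b := by
    refine Eq.trans ?_ (stdAutQ_mul a.2 b.2 1 1).symm
    apply stdAutQ_congr
    · rw [map_one, MulAut.one_apply]
      rfl
    · exact (mul_one _).symm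

theorem psiS_apply (g : Cfsg.GSp m F) : psiS g = stdAutQ g.1 g.2 (1 : RingAut F) := rfl

theorem psiS_mk (g : Cfsg.GSp m F) (s : Matrix.symplecticGroup (Fin m) F) :
    psiS g (mkq s) = mkq (stdHom g.1 g.2 (1 : RingAut F) s) := rfl

/-- the standard field automorphisms -/
noncomputable def phiS : RingAut F →* MulAut (PGq m F) where
  toFun σ := stdAutQ (1 : GL (Fin m ⊕ Fin m) F) (Cfsg.GSp m F).one_mem σ
  map_one' := stdAutQ_one
  map_mul' σ τ := by
    refine Eq.trans ?_ (stdAutQ_mul (Cfsg.GSp m F).one_mem (Cfsg.GSp m F).one_mem σ τ).symm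
    apply stdAutQ_congr
    · rw [map_one, mul_one]
    · rfl

theorem phiS_apply (σ : RingAut F) :
    phiS (m := m) σ = stdAutQ (1 : GL (Fin m ⊕ Fin m) F) (Cfsg.GSp m F).one_mem σ := rfl

theorem phiS_mk (σ : RingAut F) (s : Matrix.symplecticGroup (Fin m) F) :
    phiS σ (mkq s) = mkq (stdHom (1 : GL (Fin m ⊕ Fin m) F) (Cfsg.GSp m F).one_mem σ s) := rfl

theorem psiS_mul_phiS (g : Cfsg.GSp m F) (σ : RingAut F) :
    psiS g * phiS σ = stdAutQ g.1 g.2 σ := by
  refine Eq.trans (stdAutQ_mul g.2 (Cfsg.GSp m F).one_mem 1 σ) ?_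
  apply stdAutQ_congr
  · rw [map_one, mul_one]
  · exact one_mul σ

theorem phiS_mul_psiS (σ : RingAut F) (g : Cfsg.GSp m F) :
    phiS σ * psiS g = psiS (sigG σ g) * phiS σ := by
  rw [psiS_mul_phiS]
  refine Eq.trans (stdAutQ_mul (Cfsg.GSp m F).one_mem g.2 σ 1) ?_
  apply stdAutQ_congr
  · rw [one_mul]
    rfl
  · exact mul_one σ

/-- partial norms in the conformal symplectic group -/
def gnormS (σ : RingAut F) (g : Cfsg.GSp m F) : ℕ → Cfsg.GSp m F
  | 0 => 1
  | (i + 1) => g * sigG σ (gnormS σ g i)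

omit [Finite F] in
theorem gnormS_zero (σ : RingAut F) (g : Cfsg.GSp m F) : gnormS σ g 0 = 1 := rfl

omit [Finite F] in
theorem gnormS_succ (σ : RingAut F) (g : Cfsg.GSp m F) (i : ℕ) :
    gnormS σ g (i + 1) = g * sigG σ (gnormS σ g i) := rfl

omit [Finite F] in
theorem gnormS_val (σ : RingAut F) (g : Cfsg.GSp m F) (i : ℕ) :
    (((gnormS σ g i : Cfsg.GSp m F) : GL (Fin m ⊕ Fin m) F) : Mt m F) =
      mnorm σ ((g : GL (Fin m ⊕ Fin m) F) : Mt m F) i := by
  induction i with
  | zero => rfl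
  | succ i ih =>
    rw [gnormS_succ, mnorm_succ, ← ih]
    rfl

theorem pow_psiS_mul_phiS (σ : RingAut F) (g : Cfsg.GSp m F) (k : ℕ) :
    (psiS g * phiS σ) ^ k = psiS (gnormS σ g k) * phiS (σ ^ k) := by
  induction k with
  | zero => rw [pow_zero, gnormS_zero, pow_zero, map_one, map_one, one_mul]
  | succ k ih =>
    rw [pow_succ', ih, gnormS_succ, map_mul, pow_succ', map_mul]
    have h1 := phiS_mul_psiS σ (gnormS σ g k)
    calc psiS g * phiS σ * (psiS (gnormS σ g k) * phiS (σ ^ k))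
        = psiS g * (phiS σ * psiS (gnormS σ g k)) * phiS (σ ^ k) := by group
      _ = psiS g * psiS (sigG σ (gnormS σ g k)) * (phiS σ * phiS (σ ^ k)) := by
        rw [h1]; group

/-- inner automorphisms come from the symplectic group -/
theorem conj_mkq_eq_psiS (y : Matrix.symplecticGroup (Fin m) F) :
    MulAut.conj (mkq y) = psiS ⟨toGL y, toGL_mem_GSp y⟩ := by
  rw [psiS_apply, stdAutQ_toGL]

theorem inn_le_range_psiS : Cfsg.Inn (PGq m F) ≤ (psiS (m := m) (F := F)).range := by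
  rintro _ ⟨x, rfl⟩
  obtain ⟨y, rfl⟩ := mkq_surjective x
  exact ⟨_, (conj_mkq_eq_psiS y).symm⟩

/-- conjugates of inner-diagonal automorphisms by standard automorphisms -/
theorem conj_stdAutQ_mem_range {g : GL (Fin m ⊕ Fin m) F} (hg : g ∈ Cfsg.GSp m F)
    (σ : RingAut F) (h : Cfsg.GSp m F) :
    stdAutQ g hg σ * psiS h * (stdAutQ g hg σ)⁻¹ ∈ (psiS (m := m) (F := F)).range := by
  rw [stdAutQ_inv, psiS_apply, stdAutQ_mul, stdAutQ_mul]
  refine ⟨⟨_, (Cfsg.GSp m F).mul_mem ((Cfsg.GSp m F).mul_mem hg (fieldGLHom_mem_GSp σ h.2))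
    (fieldGLHom_mem_GSp (σ * 1) (fieldGLHom_mem_GSp σ⁻¹ ((Cfsg.GSp m F).inv_mem hg)))⟩, ?_⟩
  rw [psiS_apply]
  apply stdAutQ_congr
  · rfl
  · rw [mul_one, mul_inv_cancel]

end homs

section preds

variable {m : ℕ} {F : Type*} [Field F] [Finite F]

theorem isInnDiagPSp_iff (β : MulAut (PGq m F)) :
    Cfsg.IsInnerDiagonalAutPSp β ↔ β ∈ (psiS (m := m) (F := F)).range := by
  constructor
  · rintro ⟨g, hg, h⟩
    refine ⟨⟨g, hg⟩, ?_⟩
    ext x
    obtain ⟨s, rfl⟩ := mkq_surjective x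
    rw [psiS_mk]
    symm
    apply h
    rfl
  · rintro ⟨g, rfl⟩
    refine ⟨g.1, g.2, ?_⟩
    intro s s' h
    change psiS g (mkq s) = mkq s'
    rw [psiS_mk]
    congr 1
    symm
    exact Subtype.ext h

theorem inndiagPSp_eq : Cfsg.inndiagPSp m F = (psiS (m := m) (F := F)).range := by
  unfold Cfsg.inndiagPSp Cfsg.autSubgroupOf
  have : {β : MulAut (Cfsg.PSp m F) | Cfsg.IsInnerDiagonalAutPSp β} =
      (((psiS (m := m) (F := F)).range : Subgroup (MulAut (PGq m F))) :
        Set (MulAut (PGq m F))) := by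
    ext β
    exact isInnDiagPSp_iff β
  rw [this, Subgroup.closure_eq]

theorem isStdFieldAutPSp_iff (σ : F ≃+* F) (β : MulAut (PGq m F)) :
    Cfsg.IsStdFieldAutPSp σ β ↔ β = phiS σ := by
  constructor
  · intro h
    ext x
    obtain ⟨s, rfl⟩ := mkq_surjective x
    rw [phiS_mk]
    apply h
    rw [stdHom_coe, Units.val_one, Matrix.one_mul, inv_one, Units.val_one, Matrix.mul_one]
  · rintro rfl s s' h
    change phiS σ (mkq s) = mkq s'
    rw [phiS_mk]
    congr 1
    symm
    apply Subtype.ext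
    rw [stdHom_coe, Units.val_one, Matrix.one_mul, inv_one, Units.val_one, Matrix.mul_one]
    exact h

end preds

section withkernel

variable {m : ℕ} {F : Type*} [Field F] [Finite F] (p : ℕ) [Fact p.Prime] [CharP F p]

include p

/-- uniqueness of the standard form -/
theorem stdAutQ_eq (hm : 0 < m) {g g' : GL (Fin m ⊕ Fin m) F} (hg : g ∈ Cfsg.GSp m F)
    (hg' : g' ∈ Cfsg.GSp m F) {σ σ' : RingAut F} (h : stdAutQ g hg σ = stdAutQ g' hg' σ') :
    σ = σ' ∧ ∃ c : F, (g : Mt m F) = c • (g' : Mt m F) := by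
  have h1 : stdAutQ g hg σ * (stdAutQ g' hg' σ')⁻¹ = 1 := by
    rw [h, mul_inv_cancel]
  rw [stdAutQ_inv, stdAutQ_mul] at h1
  obtain ⟨hσ, c, hc⟩ := of_stdAutQ_eq_one p hm _ _ h1
  have hσ' : σ = σ' := mul_inv_eq_one.1 hσ
  refine ⟨hσ', c, ?_⟩
  subst hσ'
  rw [← MulAut.mul_apply, ← map_mul, mul_inv_cancel, map_one, MulAut.one_apply,
    Matrix.GeneralLinearGroup.coe_mul] at hc
  calc (g : Mt m F) = (g : Mt m F) * (((g'⁻¹ : GL (Fin m ⊕ Fin m) F) : Mt m F) * (g' : Mt m F)) := by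
        rw [GL_inv_mul_coe, Matrix.mul_one]
    _ = ((g : Mt m F) * ((g'⁻¹ : GL (Fin m ⊕ Fin m) F) : Mt m F)) * (g' : Mt m F) := by
        rw [Matrix.mul_assoc]
    _ = c • (g' : Mt m F) := by rw [hc, Matrix.smul_mul, Matrix.one_mul]

theorem eq_of_psiS_mul_phiS_eq (hm : 0 < m) {g g' : Cfsg.GSp m F} {σ σ' : RingAut F}
    (h : psiS g * phiS σ = psiS g' * phiS σ') :
    σ = σ' ∧ ∃ c : F, ((g : GL (Fin m ⊕ Fin m) F) : Mt m F) =
      c • ((g' : GL (Fin m ⊕ Fin m) F) : Mt m F) := by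
  rw [psiS_mul_phiS, psiS_mul_phiS] at h
  exact stdAutQ_eq p hm _ _ h

theorem psiS_eq_one_iff (hm : 0 < m) (g : Cfsg.GSp m F) :
    psiS g = 1 ↔ ∃ c : F, ((g : GL (Fin m ⊕ Fin m) F) : Mt m F) = c • (1 : Mt m F) := by
  constructor
  · intro h
    have h1 : psiS g * phiS 1 = psiS 1 * phiS 1 := by
      rw [h, map_one psiS]
    obtain ⟨-, c, hc⟩ := eq_of_psiS_mul_phiS_eq p hm h1
    exact ⟨c, hc⟩
  · rintro ⟨c, hc⟩
    rw [psiS_apply, ← stdAutQ_one]
    exact stdAutQ_of_smul (Cfsg.GSp m F).one_mem g.2 c hc 1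

theorem phiS_injective (hm : 0 < m) : Function.Injective (phiS (m := m) (F := F)) := by
  intro σ σ' h
  have h1 : psiS (1 : Cfsg.GSp m F) * phiS σ = psiS (1 : Cfsg.GSp m F) * phiS σ' := by
    rw [h]
  exact (eq_of_psiS_mul_phiS_eq p hm h1).1

theorem orderOf_phiS (hm : 0 < m) (σ : RingAut F) : orderOf (phiS (m := m) σ) = orderOf σ :=
  orderOf_injective _ (phiS_injective p hm) σ

end withkernel

section normal

variable {m : ℕ} {F : Type*} [Field F] [Finite F]

/-- in characteristic two every element is a square -/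
theorem exists_sq_of_two (h2 : (2 : F) = 0) (c : F) : ∃ d : F, d * d = c := by
  have hinj : Function.Injective (fun x : F => x * x) := by
    intro x y h
    have h' : x * x = y * y := h
    have h1 : (x - y) * (x - y) = 0 := by
      linear_combination h' + (y * y - x * y) * h2
    rcases mul_self_eq_zero.1 h1 with h3
    exact sub_eq_zero.1 h3
  exact Finite.injective_iff_surjective.1 hinj c

/-- in characteristic two the conformal symplectic group is generated by the symplectic group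
and the scalars -/
theorem exists_symp_of_two (h2 : (2 : F) = 0) (g : Cfsg.GSp m F) :
    ∃ (s : Matrix.symplecticGroup (Fin m) F) (d : F),
      ((g : GL (Fin m ⊕ Fin m) F) : Mt m F) = d • (s : Mt m F) := by
  obtain ⟨c, hc⟩ := (mem_GSp_iff g.1).1 g.2
  obtain ⟨d, hd⟩ := exists_sq_of_two h2 (c : F)
  have hd0 : d ≠ 0 := by
    rintro rfl
    rw [mul_zero] at hd
    exact c.ne_zero hd.symm
  have hA : d⁻¹ • ((g : GL (Fin m ⊕ Fin m) F) : Mt m F) ∈ Matrix.symplecticGroup (Fin m) F := by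
    apply mem_symplecticGroup_of_Bf
    intro u v
    rw [Matrix.smul_mulVec, Matrix.smul_mulVec, Bf_smul_left, Bf_smul_right, hc, ← hd]
    field_simp
  refine ⟨⟨_, hA⟩, d, ?_⟩
  rw [smul_smul, mul_inv_cancel₀ hd0, one_smul]

theorem range_psiS_eq_inn (h2 : (2 : F) = 0) :
    (psiS (m := m) (F := F)).range = Cfsg.Inn (PGq m F) := by
  apply le_antisymm
  · rintro _ ⟨g, rfl⟩
    obtain ⟨s, d, hd⟩ := exists_symp_of_two h2 g
    refine ⟨mkq s, ?_⟩
    rw [conj_mkq_eq_psiS, psiS_apply, psiS_apply]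
    exact (stdAutQ_of_smul (toGL_mem_GSp s) g.2 d hd 1).symm
  · exact inn_le_range_psiS

/-- the inner-diagonal group is normal in the automorphism group -/
theorem normal_range_psiS (p : ℕ) [Fact p.Prime] [CharP F p] (hm : 2 ≤ m) :
    ((psiS (m := m) (F := F)).range).Normal := by
  by_cases h2 : (2 : F) = 0
  · rw [range_psiS_eq_inn h2]
    infer_instance
  · constructor
    rintro _ ⟨h, rfl⟩ α
    obtain ⟨σ, g, hg, hα⟩ := aut_Sp_main p hm (fun _ => h2) α
    have hα' : α = stdAutQ g hg σ := by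
      ext x
      obtain ⟨s, rfl⟩ := mkq_surjective x
      rw [hα, stdAutQ_mk]
    rw [hα']
    exact conj_stdAutQ_mem_range hg σ h

end normal

end Cfsg.Agent.Helper2.SpA
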