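import Mathlib
import Cfsg.Agent.Lib.Helper2.Spa17

set_option autoImplicit false
set_option linter.unusedSimpArgs false
set_option linter.unusedVariables false
set_option linter.unusedSectionVars false

/-! Field automorphisms of the symplectic groups, part 18: the centralizer of a standard field
automorphism, and conjugacy in its coset. -/

namespace Cfsg.Agent.Helper2.SpA

open Matrix Cfsg.Agent.Helper2.Symp Cfsg.Agent.Helper2.PU
open Cfsg.Agent.Helper2.PN (fieldGLHom fieldGLHom_coe' mnorm mnorm_zero mnorm_succ exists_descent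
  hmin_of_orderOf pnorm_mul pnorm_one exists_pnorm_eq)
open Cfsg.Agent.Helper13.FAut (pnorm pnorm_zero pnorm_succ hilbert90)
open scoped MatrixGroups

section scalars

variable {m : ℕ} {F : Type*} [Field F]

theorem scalar_val {ι : Type*} [Fintype ι] [DecidableEq ι] (d : Fˣ) :
    ((Matrix.GeneralLinearGroup.scalar ι d : GL ι F) : Matrix ι ι F) =
      (d : F) • (1 : Matrix ι ι F) := by
  rw [Matrix.GeneralLinearGroup.coe_scalar, Matrix.scalar_apply, Matrix.smul_one_eq_diagonal]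

/-- the scalar matrices in the conformal symplectic group -/
noncomputable def scalG : Fˣ →* Cfsg.GSp m F where
  toFun d := ⟨Matrix.GeneralLinearGroup.scalar (Fin m ⊕ Fin m) d, by
    rw [mem_GSp_iff]
    refine ⟨d * d, fun u v => ?_⟩
    rw [scalar_val, Matrix.smul_mulVec, Matrix.smul_mulVec, Matrix.one_mulVec,
      Matrix.one_mulVec, Bf_smul_left, Bf_smul_right, Units.val_mul, mul_assoc]⟩
  map_one' := Subtype.ext (map_one _)
  map_mul' a b := Subtype.ext (map_mul _ a b)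

theorem scalG_val (d : Fˣ) :
    (((scalG d : Cfsg.GSp m F) : GL (Fin m ⊕ Fin m) F) : Mt m F) = (d : F) • (1 : Mt m F) :=
  scalar_val d

theorem scalG_mul_val (d : Fˣ) (g : Cfsg.GSp m F) :
    (((scalG d * g : Cfsg.GSp m F) : GL (Fin m ⊕ Fin m) F) : Mt m F) =
      (d : F) • ((g : GL (Fin m ⊕ Fin m) F) : Mt m F) := by
  rw [Subgroup.coe_mul, Matrix.GeneralLinearGroup.coe_mul, scalG_val, Matrix.smul_mul,
    Matrix.one_mul]

theorem map_pow_of_twist' {ι : Type*} [Fintype ι] [DecidableEq ι] (σ : RingAut F)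
    (M : Matrix ι ι F) (l : F) (h : M.map σ = l • M) (i : ℕ) :
    M.map (σ ^ i : F ≃+* F) = pnorm σ l i • M := by
  induction i with
  | zero => rw [pow_zero, map_one_ringAut, pnorm_zero, one_smul]
  | succ i ih =>
    rw [pow_succ', ← map_map_ringEquiv, ih, map_smul_ringEquiv, h, smul_smul, pnorm_succ, mul_comm]

theorem smul_cancel_of_unit {ι : Type*} [Fintype ι] [DecidableEq ι] [Nonempty ι]
    {M : Matrix ι ι F} (hM : IsUnit M) {c c' : F} (h : c • M = c' • M) : c = c' := by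
  obtain ⟨u, rfl⟩ := hM
  have h1 : (c • (u : Matrix ι ι F)) * ((u⁻¹ : (Matrix ι ι F)ˣ) : Matrix ι ι F) =
      (c' • (u : Matrix ι ι F)) * ((u⁻¹ : (Matrix ι ι F)ˣ) : Matrix ι ι F) := by rw [h]
  rw [Matrix.smul_mul, Matrix.smul_mul, Units.mul_inv] at h1
  obtain ⟨i⟩ := ‹Nonempty ι›
  have h2 := congrFun (congrFun h1 i) i
  simpa using h2

theorem GL_isUnit {ι : Type*} [Fintype ι] [DecidableEq ι] (g : GL ι F) :
    IsUnit (g : Matrix ι ι F) := ⟨g, rfl⟩

theorem nonempty_idx (hm : 0 < m) : Nonempty (Fin m ⊕ Fin m) := ⟨Sum.inl ⟨0, hm⟩⟩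

theorem congr_form_mul (A X : Mt m F) {c : F}
    (hA : Aᵀ * Matrix.J (Fin m) F * A = c • Matrix.J (Fin m) F) :
    (A * X)ᵀ * Matrix.J (Fin m) F * (A * X) = c • (Xᵀ * Matrix.J (Fin m) F * X) := by
  calc (A * X)ᵀ * Matrix.J (Fin m) F * (A * X)
      = Xᵀ * (Aᵀ * Matrix.J (Fin m) F * A) * X := by
        rw [Matrix.transpose_mul]
        simp only [Matrix.mul_assoc]
    _ = c • (Xᵀ * Matrix.J (Fin m) F * X) := by
        rw [hA, Matrix.mul_smul, Matrix.smul_mul]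

end scalars

/-- the hypotheses on the field automorphism -/
structure SigHypS {F : Type*} [Field F] (σ : F ≃+* F) (r : ℕ) (m : ℕ) : Prop where
  hr : 0 < r
  hord : orderOf σ = r
  hAlt : ∀ K : Mt m F, (∀ v : Fin m ⊕ Fin m → F, v ⬝ᵥ (K *ᵥ v) = 0) → K.map σ = K → IsUnit K →
    ∃ k : Mt m F, k.map σ = k ∧ kᵀ * K * k = Matrix.J (Fin m) F

section fix

variable {m : ℕ} {F : Type*} [Field F]

/-- the elements fixed by a field automorphism -/
def GSfix (σ : RingAut F) : Subgroup (Cfsg.GSp m F) :=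
  MonoidHom.eqLocus (sigG σ) (MonoidHom.id _)

theorem mem_GSfix (σ : RingAut F) (g : Cfsg.GSp m F) : g ∈ GSfix σ ↔ sigG σ g = g := Iff.rfl

theorem mem_GSfix_iff (σ : RingAut F) (g : Cfsg.GSp m F) :
    g ∈ GSfix σ ↔ ((g : GL (Fin m ⊕ Fin m) F) : Mt m F).map σ =
      ((g : GL (Fin m ⊕ Fin m) F) : Mt m F) := by
  rw [mem_GSfix]
  constructor
  · intro h
    have := congrArg (fun x : Cfsg.GSp m F => ((x : GL (Fin m ⊕ Fin m) F) : Mt m F)) h
    exact this
  · intro h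
    apply Subtype.ext
    apply Units.ext
    exact h

end fix

section withhyp

variable {m : ℕ} {F : Type*} [Field F] [Finite F] (p : ℕ) [Fact p.Prime] [CharP F p]

theorem psiS_eq_one_of_scalar (g : Cfsg.GSp m F)
    (h : ∃ c : F, ((g : GL (Fin m ⊕ Fin m) F) : Mt m F) = c • (1 : Mt m F)) : psiS g = 1 := by
  obtain ⟨c, hc⟩ := h
  rw [psiS_apply, ← stdAutQ_one]
  exact stdAutQ_of_smul (Cfsg.GSp m F).one_mem g.2 c hc 1

theorem psiS_scalG (d : Fˣ) : psiS (scalG (m := m) d) = 1 :=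
  psiS_eq_one_of_scalar _ ⟨_, scalG_val d⟩

include p

/-- the preimage of the centralizer of a standard field automorphism -/
theorem comap_centralizer_phiS (hm : 0 < m) (σ : RingAut F) (r : ℕ) (hr : 0 < r)
    (hord : orderOf σ = r) :
    (Subgroup.centralizer {phiS (m := m) σ}).comap psiS = (psiS (m := m)).ker ⊔ GSfix σ := by
  have hne : Nonempty (Fin m ⊕ Fin m) := nonempty_idx hm
  have hσr : σ ^ r = 1 := hord ▸ pow_orderOf_eq_one σ
  have hmin := hmin_of_orderOf σ r hord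
  apply le_antisymm
  · intro g hg
    rw [Subgroup.mem_comap, Subgroup.mem_centralizer_singleton_iff, phiS_mul_psiS] at hg
    obtain ⟨-, l, hl⟩ := eq_of_psiS_mul_phiS_eq p hm hg.symm
    rw [sigG_val] at hl
    have h3 := map_pow_of_twist' σ _ l hl r
    rw [hσr, map_one_ringAut] at h3
    have h4 : pnorm σ l r = 1 := by
      have h5 : (1 : F) • ((g : GL (Fin m ⊕ Fin m) F) : Mt m F) =
          pnorm σ l r • ((g : GL (Fin m ⊕ Fin m) F) : Mt m F) := by
        rw [one_smul]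
        exact h3
      exact (smul_cancel_of_unit (GL_isUnit _) h5).symm
    obtain ⟨d, hd0, hd⟩ := hilbert90 σ r hr hσr hmin l h4
    have hgz : g = scalG (Units.mk0 d hd0)⁻¹ * (scalG (Units.mk0 d hd0) * g) := by
      rw [← mul_assoc, ← map_mul, inv_mul_cancel, map_one, one_mul]
    rw [hgz]
    apply Subgroup.mul_mem_sup
    · rw [MonoidHom.mem_ker]
      exact psiS_scalG _
    · rw [mem_GSfix_iff, scalG_mul_val, Units.val_mk0, map_smul_ringEquiv, hl, smul_smul,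
        mul_comm, hd]
  · apply sup_le
    · intro g hg
      rw [Subgroup.mem_comap, MonoidHom.mem_ker.1 hg]
      exact Subgroup.one_mem _
    · intro g hg
      rw [mem_GSfix] at hg
      rw [Subgroup.mem_comap, Subgroup.mem_centralizer_singleton_iff, phiS_mul_psiS, hg]

/-- **conjugacy in the coset of a standard field automorphism** -/
theorem exists_conj_phiS (hm : 0 < m) (σ : RingAut F) (r : ℕ) (hS : SigHypS σ r m)
    (g : Cfsg.GSp m F) (hg : (psiS g * phiS σ) ^ r = 1) :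
    ∃ h : Cfsg.GSp m F, psiS g * phiS σ = psiS h * phiS σ * (psiS h)⁻¹ := by
  have hne : Nonempty (Fin m ⊕ Fin m) := nonempty_idx hm
  have hσr : σ ^ r = 1 := hS.hord ▸ pow_orderOf_eq_one σ
  have hmin := hmin_of_orderOf σ r hS.hord
  rw [pow_psiS_mul_phiS, hσr, map_one, mul_one, psiS_eq_one_iff p hm, gnormS_val] at hg
  obtain ⟨c, hc⟩ := hg
  obtain ⟨G, hG⟩ : ∃ G : Mt m F, G = ((g : GL (Fin m ⊕ Fin m) F) : Mt m F) := ⟨_, rfl⟩
  rw [← hG] at hc
  have hGu : IsUnit G := by rw [hG]; exact GL_isUnit _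
  -- `c` is fixed and nonzero
  have hσc : σ c = c := by
    have h1 : mnorm σ G (r + 1) = σ c • G := by
      rw [mnorm_succ, hc, map_smul_ringEquiv, map_one_ringEquiv, Matrix.mul_smul, Matrix.mul_one]
    have h2 : mnorm σ G (r + 1) = c • G := by
      rw [mnorm_succ', hσr, map_one_ringAut, hc, Matrix.smul_mul, Matrix.one_mul]
    rw [h1] at h2
    exact smul_cancel_of_unit hGu h2
  have hc0 : c ≠ 0 := by
    rintro rfl
    have h1 : IsUnit (mnorm σ G r) := by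
      rw [hG, ← gnormS_val]
      exact GL_isUnit _
    rw [hc, zero_smul] at h1
    exact not_isUnit_zero h1
  obtain ⟨a, ha0, ha⟩ := exists_pnorm_eq σ r hS.hr hσr hmin c hc0 hσc
  obtain ⟨g', hg'⟩ : ∃ g' : Cfsg.GSp m F, g' = scalG (Units.mk0 a ha0)⁻¹ * g := ⟨_, rfl⟩
  obtain ⟨G', hG'⟩ : ∃ G' : Mt m F, G' = ((g' : GL (Fin m ⊕ Fin m) F) : Mt m F) := ⟨_, rfl⟩
  have hG'val : G' = a⁻¹ • G := by
    rw [hG', hg', scalG_mul_val, Units.val_inv_eq_inv_val, Units.val_mk0, hG]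
  have hn1 : mnorm σ G' r = 1 := by
    have h1 : pnorm σ a⁻¹ r * pnorm σ a r = 1 := by
      rw [← pnorm_mul, inv_mul_cancel₀ ha0, pnorm_one]
    rw [hG'val, mnorm_smul, hc, smul_smul, ← ha, h1, one_smul]
  obtain ⟨h₀, hu, hh⟩ := exists_descent σ G' r hS.hr hσr hmin hn1
  obtain ⟨μ, hμ⟩ := (mem_GSp_iff g'.1).1 g'.2
  have hμmat : G'ᵀ * Matrix.J (Fin m) F * G' = (μ : F) • Matrix.J (Fin m) F := by
    rw [hG']
    exact GSp_mat hμ
  have hμ0 : (μ : F) ≠ 0 := μ.ne_zero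
  obtain ⟨K, hK⟩ : ∃ K : Mt m F, K = h₀ᵀ * Matrix.J (Fin m) F * h₀ := ⟨_, rfl⟩
  have hKalt : ∀ v : Fin m ⊕ Fin m → F, v ⬝ᵥ (K *ᵥ v) = 0 := by
    intro v
    rw [hK, ← Bf_mulVec_mulVec, Bf_self]
  have hKσ : K = (μ : F) • K.map σ := by
    have h1 : K.map σ = (h₀.map σ)ᵀ * Matrix.J (Fin m) F * h₀.map σ := by
      rw [hK, map_mul_ringEquiv, map_mul_ringEquiv, J_map, Matrix.transpose_map]
    rw [h1, ← congr_form_mul G' (h₀.map σ) hμmat, hh, hK]
  have hKu : IsUnit K := by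
    rw [Matrix.isUnit_iff_isUnit_det] at hu ⊢
    rw [hK, Matrix.det_mul, Matrix.det_mul, Matrix.det_transpose]
    exact (hu.mul (Matrix.isUnit_det_J (Fin m) F)).mul hu
  have hKσ' : K.map σ = (μ : F)⁻¹ • K := by
    conv_rhs => rw [hKσ]
    rw [smul_smul, inv_mul_cancel₀ hμ0, one_smul]
  have hμn : pnorm σ (μ : F) r = 1 := by
    have h3 := map_pow_of_twist' σ K _ hKσ' r
    rw [hσr, map_one_ringAut] at h3
    have h5 : (1 : F) • K = pnorm σ (μ : F)⁻¹ r • K := by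
      rw [one_smul]
      exact h3
    have h6 : pnorm σ (μ : F)⁻¹ r = 1 := (smul_cancel_of_unit hKu h5).symm
    have h7 : pnorm σ (μ : F)⁻¹ r * pnorm σ (μ : F) r = 1 := by
      rw [← pnorm_mul, inv_mul_cancel₀ hμ0, pnorm_one]
    rw [h6, one_mul] at h7
    exact h7
  obtain ⟨ν, hν0, hν⟩ := hilbert90 σ r hS.hr hσr hmin (μ : F) hμn
  obtain ⟨K', hK'⟩ : ∃ K' : Mt m F, K' = ν⁻¹ • K := ⟨_, rfl⟩
  have hK'σ : K'.map σ = K' := by
    rw [hK', map_smul_ringEquiv, hKσ', smul_smul, map_inv₀, ← mul_inv, mul_comm (σ ν), hν]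
  have hK'alt : ∀ v : Fin m ⊕ Fin m → F, v ⬝ᵥ (K' *ᵥ v) = 0 := by
    intro v
    rw [hK', Matrix.smul_mulVec, dotProduct_smul, hKalt, smul_zero]
  have hK'u : IsUnit K' := by
    rw [Matrix.isUnit_iff_isUnit_det] at hKu ⊢
    rw [hK', Matrix.det_smul]
    exact (IsUnit.pow _ (isUnit_iff_ne_zero.2 (inv_ne_zero hν0))).mul hKu
  obtain ⟨k, hkσ, hk⟩ := hS.hAlt K' hK'alt hK'σ hK'u
  obtain ⟨h', hh'⟩ : ∃ h' : Mt m F, h' = h₀ * k := ⟨_, rfl⟩
  have hh'mat : h'ᵀ * Matrix.J (Fin m) F * h' = ν • Matrix.J (Fin m) F := by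
    have h1 : h'ᵀ * Matrix.J (Fin m) F * h' = kᵀ * K * k := by
      rw [hh', hK, Matrix.transpose_mul]
      simp only [Matrix.mul_assoc]
    have h2 : K = ν • K' := by
      rw [hK', smul_smul, mul_inv_cancel₀ hν0, one_smul]
    rw [h1, h2, Matrix.mul_smul, Matrix.smul_mul, hk]
  obtain ⟨hGL, hGLmem, hGLval⟩ := exists_GL_of_conformal hν0 (conformal_of_mat hh'mat)
  obtain ⟨y, hy⟩ : ∃ y : Cfsg.GSp m F, y = ⟨hGL, hGLmem⟩ := ⟨_, rfl⟩
  have hyval : ((y : GL (Fin m ⊕ Fin m) F) : Mt m F) = h' := by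
    rw [hy]
    exact hGLval
  have hkey : g' * sigG σ y = y := by
    apply Subtype.ext
    apply Units.ext
    change ((g' : GL (Fin m ⊕ Fin m) F) : Mt m F) *
      (((sigG σ y : Cfsg.GSp m F) : GL (Fin m ⊕ Fin m) F) : Mt m F) = _
    rw [sigG_val, hyval, ← hG', hh', map_mul_ringEquiv, hkσ, ← Matrix.mul_assoc, hh]
  have h9 : psiS g = psiS g' := by
    rw [hg', map_mul, psiS_scalG, one_mul]
  have h10 : g' = y * sigG σ y⁻¹ := by
    rw [map_inv, eq_mul_inv_iff_mul_eq]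
    exact hkey
  have h11 := phiS_mul_psiS σ y⁻¹
  refine ⟨y, ?_⟩
  rw [h9, h10, map_mul]
  calc psiS y * psiS (sigG σ y⁻¹) * phiS σ
      = psiS y * (psiS (sigG σ y⁻¹) * phiS σ) := by group
    _ = psiS y * phiS σ * (psiS y)⁻¹ := by
      rw [← h11, map_inv]; group

end withhyp

end Cfsg.Agent.Helper2.SpA
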