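import Mathlib
import Cfsg.Agent.Lib.Helper2.Spa18
import Cfsg.Agent.Lib.Helper28.SympIso
import Cfsg.Agent.Lib.Helper2.Psu27

set_option autoImplicit false
set_option linter.unusedSimpArgs false
set_option linter.unusedVariables false
set_option linter.unusedSectionVars false

/-! Field automorphisms of the symplectic groups, part 19: descent to the fixed field of a field
automorphism, and the centralizer of a standard field automorphism. -/

namespace Cfsg.Agent.Helper2.SpA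

open Matrix Cfsg.Agent.Helper2.Symp Cfsg.Agent.Helper2.PU
open Cfsg.Agent.Helper2.PN (fieldGLHom fieldGLHom_coe')
open scoped MatrixGroups

/-- descent data: a copy `F₀` of the fixed field of `σ` -/
structure DescS {F F₀ : Type*} [Field F] [Field F₀] (σ : F ≃+* F) (j : F₀ →+* F) : Prop where
  hfix : ∀ x, σ x = x → ∃ a, j a = x
  hjfix : ∀ a, σ (j a) = j a

section descent

variable {F F₀ : Type*} [Field F] [Field F₀] {σ : F ≃+* F} {j : F₀ →+* F}
  {ι : Type*} [Fintype ι] [DecidableEq ι]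

theorem DescS.exists_of_fixed (D : DescS σ j) {M : Matrix ι ι F} (hM : M.map σ = M) :
    ∃ M₀ : Matrix ι ι F₀, M₀.map j = M := by
  have hfix : ∀ a b, σ (M a b) = M a b := by
    intro a b
    exact congrFun (congrFun hM a) b
  choose c hc using fun a b => D.hfix _ (hfix a b)
  refine ⟨Matrix.of c, ?_⟩
  ext a b
  rw [Matrix.map_apply, Matrix.of_apply, hc]

theorem DescS.map_fixed (D : DescS σ j) (M₀ : Matrix ι ι F₀) :
    (M₀.map j).map σ = M₀.map j := by
  ext a b
  simp only [Matrix.map_apply, D.hjfix]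

theorem dot_congr {R : Type*} [CommRing R] (P K : Matrix ι ι R) (u v : ι → R) :
    (P *ᵥ u) ⬝ᵥ (K *ᵥ (P *ᵥ v)) = u ⬝ᵥ ((Pᵀ * K * P) *ᵥ v) := by
  conv_rhs => rw [← Matrix.mulVec_mulVec, ← Matrix.mulVec_mulVec, Matrix.dotProduct_mulVec,
    Matrix.vecMul_transpose]

theorem map_mulVec_hom (M : Matrix ι ι F₀) (y : ι → F₀) :
    M.map j *ᵥ (j ∘ y) = j ∘ (M *ᵥ y) := by
  funext i
  exact (RingHom.map_mulVec j M y i).symm

theorem map_smul_hom (c : F₀) (M : Matrix ι ι F₀) : (c • M).map j = j c • M.map j := by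
  ext a b
  simp only [Matrix.map_apply, Matrix.smul_apply, smul_eq_mul, map_mul]

end descent

section sighyp

variable {F F₀ : Type*} [Field F] [Field F₀] {σ : F ≃+* F} {j : F₀ →+* F} {m : ℕ}

/-- a nondegenerate alternating matrix is congruent to the standard one -/
theorem exists_congr_J (K₀ : Mt m F₀) (halt : ∀ v : Fin m ⊕ Fin m → F₀, v ⬝ᵥ (K₀ *ᵥ v) = 0)
    (hdet : K₀.det ≠ 0) : ∃ P : Mt m F₀, Pᵀ * K₀ * P = Matrix.J (Fin m) F₀ := by
  set B : LinearMap.BilinForm F₀ (Fin m ⊕ Fin m → F₀) := Matrix.toBilin' K₀ with hB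
  have hAlt : B.IsAlt := by
    intro v
    rw [hB, Matrix.toBilin'_apply']
    exact halt v
  have hnd : B.Nondegenerate :=
    LinearMap.BilinForm.nondegenerate_toBilin'_of_det_ne_zero' K₀ hdet
  have hfin : Module.finrank F₀ (Fin m ⊕ Fin m → F₀) = 2 * m := by
    rw [Module.finrank_fintype_fun_eq_card, Fintype.card_sum, Fintype.card_fin]
    ring
  obtain ⟨e, he⟩ := Cfsg.Agent.Helper28.SympIso.exists_symp_equiv B hAlt hnd m hfin
  refine ⟨LinearMap.toMatrix' e.symm.toLinearMap, ?_⟩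
  apply mat_eq_of_dot
  intro u v
  rw [← dot_congr, LinearMap.toMatrix'_mulVec, LinearMap.toMatrix'_mulVec]
  have h1 := he (e.symm u) (e.symm v)
  rw [LinearEquiv.apply_symm_apply, LinearEquiv.apply_symm_apply,
    Cfsg.Agent.Helper28.SympIso.sympBil_apply, hB, Matrix.toBilin'_apply'] at h1
  exact h1.symm

/-- the hypotheses on `σ` follow from descent data -/
theorem DescS.sigHypS (D : DescS σ j) (r : ℕ) (hr : 0 < r) (hord : orderOf σ = r) :
    SigHypS σ r m := by
  refine ⟨hr, hord, ?_⟩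
  intro K hKalt hKσ hKu
  obtain ⟨K₀, rfl⟩ := D.exists_of_fixed hKσ
  have halt₀ : ∀ v : Fin m ⊕ Fin m → F₀, v ⬝ᵥ (K₀ *ᵥ v) = 0 := by
    intro v
    apply j.injective
    rw [map_zero, RingHom.map_dotProduct, ← map_mulVec_hom]
    exact hKalt _
  have hdet : K₀.det ≠ 0 := by
    rw [Matrix.isUnit_iff_isUnit_det, det_map_j, isUnit_iff_ne_zero] at hKu
    intro h
    rw [h, map_zero] at hKu
    exact hKu rfl
  obtain ⟨P, hP⟩ := exists_congr_J K₀ halt₀ hdet
  refine ⟨P.map j, D.map_fixed _, ?_⟩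
  rw [← Matrix.transpose_map, ← map_ringHom_mul, ← map_ringHom_mul, hP, J_map_hom]

end sighyp

section mapj

variable {m : ℕ} {F F₀ : Type*} [Field F] [Field F₀] {σ : RingAut F} (j : F₀ →+* F)

theorem map_mem_GSp {g₀ : GL (Fin m ⊕ Fin m) F₀} (hg₀ : g₀ ∈ Cfsg.GSp m F₀) :
    Matrix.GeneralLinearGroup.map j g₀ ∈ Cfsg.GSp m F := by
  obtain ⟨c, hc⟩ := (mem_GSp_iff g₀).1 hg₀
  have h1 := GSp_mat hc
  rw [mem_GSp_iff]
  refine ⟨Units.map (j : F₀ →* F) c, ?_⟩
  apply conformal_of_mat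
  change ((g₀ : Mt m F₀).map j)ᵀ * Matrix.J (Fin m) F * (g₀ : Mt m F₀).map j =
    (j (c : F₀)) • Matrix.J (Fin m) F
  rw [← J_map_hom j, ← Matrix.transpose_map, ← map_ringHom_mul, ← map_ringHom_mul, h1,
    map_smul_hom]

/-- the embedding of the conformal symplectic group of a subfield -/
def mapJ : Cfsg.GSp m F₀ →* Cfsg.GSp m F where
  toFun g₀ := ⟨Matrix.GeneralLinearGroup.map j g₀.1, map_mem_GSp j g₀.2⟩
  map_one' := Subtype.ext (map_one _)
  map_mul' a b := Subtype.ext (map_mul _ a.1 b.1)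

theorem mapJ_val (g₀ : Cfsg.GSp m F₀) :
    (((mapJ j g₀ : Cfsg.GSp m F) : GL (Fin m ⊕ Fin m) F) : Mt m F) =
      ((g₀ : GL (Fin m ⊕ Fin m) F₀) : Mt m F₀).map j := rfl

variable {j}

theorem range_mapJ (hm : 0 < m) (D : DescS σ j) : (mapJ (m := m) j).range = GSfix σ := by
  have hne : Nonempty (Fin m ⊕ Fin m) := nonempty_idx hm
  ext g
  rw [MonoidHom.mem_range, mem_GSfix_iff]
  constructor
  · rintro ⟨g₀, rfl⟩
    rw [mapJ_val]
    exact D.map_fixed _
  · intro hg
    obtain ⟨M₀, hM₀⟩ := D.exists_of_fixed hg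
    obtain ⟨c, hc⟩ := (mem_GSp_iff g.1).1 g.2
    have h1 := GSp_mat hc
    have hσc : σ (c : F) = c := by
      have h2 : (σ (c : F)) • Matrix.J (Fin m) F = (c : F) • Matrix.J (Fin m) F := by
        have h3 : (((g : GL (Fin m ⊕ Fin m) F) : Mt m F)ᵀ * Matrix.J (Fin m) F *
            ((g : GL (Fin m ⊕ Fin m) F) : Mt m F)).map σ =
            ((c : F) • Matrix.J (Fin m) F).map σ := by rw [h1]
        rw [map_mul_ringEquiv, map_mul_ringEquiv, J_map, Matrix.transpose_map, hg, h1,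
          map_smul_ringEquiv, J_map] at h3
        exact h3.symm
      have hJu : IsUnit (Matrix.J (Fin m) F) := by
        rw [Matrix.isUnit_iff_isUnit_det]
        exact Matrix.isUnit_det_J (Fin m) F
      exact smul_cancel_of_unit hJu h2
    obtain ⟨c₀, hc₀⟩ := D.hfix _ hσc
    have hc₀0 : c₀ ≠ 0 := by
      rintro rfl
      rw [map_zero] at hc₀
      exact c.ne_zero hc₀.symm
    have h4 : M₀ᵀ * Matrix.J (Fin m) F₀ * M₀ = c₀ • Matrix.J (Fin m) F₀ := by
      apply map_ringHom_injective (j := j)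
      simp only []
      rw [map_ringHom_mul, map_ringHom_mul, Matrix.transpose_map, hM₀, map_smul_hom, J_map_hom,
        hc₀]
      exact h1
    obtain ⟨g₀, hg₀mem, hg₀val⟩ := exists_GL_of_conformal hc₀0 (conformal_of_mat h4)
    refine ⟨⟨g₀, hg₀mem⟩, ?_⟩
    apply Subtype.ext
    apply Units.ext
    change ((g₀ : GL (Fin m ⊕ Fin m) F₀) : Mt m F₀).map j = _
    rw [hg₀val, hM₀]

theorem mapJ_scalar_iff (hm : 0 < m) (g₀ : Cfsg.GSp m F₀) :
    (∃ c : F, (((mapJ j g₀ : Cfsg.GSp m F) : GL (Fin m ⊕ Fin m) F) : Mt m F) =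
        c • (1 : Mt m F)) ↔
      ∃ c₀ : F₀, ((g₀ : GL (Fin m ⊕ Fin m) F₀) : Mt m F₀) = c₀ • (1 : Mt m F₀) := by
  have hne : Nonempty (Fin m ⊕ Fin m) := nonempty_idx hm
  constructor
  · rintro ⟨c, hc⟩
    obtain ⟨i₀⟩ := hne
    refine ⟨((g₀ : GL (Fin m ⊕ Fin m) F₀) : Mt m F₀) i₀ i₀, ?_⟩
    apply map_ringHom_injective (j := j)
    simp only []
    rw [← mapJ_val j, hc]
    have h1 : c = j (((g₀ : GL (Fin m ⊕ Fin m) F₀) : Mt m F₀) i₀ i₀) := by
      have := congrFun (congrFun hc i₀) i₀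
      rw [mapJ_val, Matrix.map_apply, Matrix.smul_apply, Matrix.one_apply_eq, smul_eq_mul,
        mul_one] at this
      exact this.symm
    ext a b
    rw [Matrix.map_apply, Matrix.smul_apply, Matrix.smul_apply, Matrix.one_apply,
      Matrix.one_apply, h1]
    split_ifs <;> simp
  · rintro ⟨c₀, hc₀⟩
    refine ⟨j c₀, ?_⟩
    rw [mapJ_val, hc₀]
    ext a b
    rw [Matrix.map_apply, Matrix.smul_apply, Matrix.smul_apply, Matrix.one_apply,
      Matrix.one_apply]
    split_ifs <;> simp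

end mapj

section central

variable {m : ℕ} {F F₀ : Type*} [Field F] [Finite F] [Field F₀] {σ : RingAut F} {j : F₀ →+* F}
  (p : ℕ) [Fact p.Prime] [CharP F p]

theorem inf_centralizer_eq_map (x : MulAut (PGq m F)) (C : Subgroup (Cfsg.GSp m F))
    (hC : (Subgroup.centralizer {x}).comap psiS = (psiS (m := m)).ker ⊔ C) :
    (psiS (m := m)).range ⊓ Subgroup.centralizer {x} = C.map psiS := by
  ext y
  rw [Subgroup.mem_inf]
  constructor
  · rintro ⟨⟨g, rfl⟩, hc⟩
    have hg : g ∈ (Subgroup.centralizer {x}).comap psiS := hc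
    rw [hC, ← SetLike.mem_coe, Subgroup.normal_mul, Set.mem_mul] at hg
    obtain ⟨z, hz, g₁, hg₁, rfl⟩ := hg
    refine ⟨g₁, hg₁, ?_⟩
    rw [map_mul, MonoidHom.mem_ker.1 hz, one_mul]
  · rintro ⟨g, hg, rfl⟩
    refine ⟨⟨g, rfl⟩, ?_⟩
    have : g ∈ (Subgroup.centralizer {x}).comap psiS := by
      rw [hC]
      exact Subgroup.mem_sup_right hg
    exact this

include p in
/-- the centralizer of a standard field automorphism in the inner-diagonal group -/
theorem centralizer_phiS_equiv (hm : 0 < m) (D : DescS σ j) (r : ℕ) (hr : 0 < r)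
    (hord : orderOf σ = r) :
    Nonempty (↥((psiS (m := m)).range ⊓ Subgroup.centralizer {phiS (m := m) σ}) ≃*
      Cfsg.PGSp m F₀) := by
  rw [inf_centralizer_eq_map _ _ (comap_centralizer_phiS p hm σ r hr hord)]
  set η : Cfsg.GSp m F₀ →* MulAut (PGq m F) := (psiS (m := m)).comp (mapJ j) with hη
  have hrange : η.range = (GSfix (m := m) σ).map psiS := by
    rw [hη, MonoidHom.range_comp, range_mapJ hm D]
  have hker : η.ker = (Cfsg.Geo.scalars (Fin m ⊕ Fin m) F₀).subgroupOf (Cfsg.GSp m F₀) := by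
    ext g₀
    rw [MonoidHom.mem_ker, hη, MonoidHom.comp_apply, psiS_eq_one_iff p hm,
      mapJ_scalar_iff hm, Subgroup.mem_subgroupOf, Cfsg.Geo.mem_scalars_iff]
    constructor
    · rintro ⟨c₀, hc₀⟩
      have h0 : c₀ ≠ 0 := by
        rintro rfl
        have hne : Nonempty (Fin m ⊕ Fin m) := nonempty_idx hm
        have h1 : IsUnit ((g₀ : GL (Fin m ⊕ Fin m) F₀) : Mt m F₀) := GL_isUnit _
        rw [hc₀, zero_smul] at h1
        exact not_isUnit_zero h1
      exact ⟨Units.mk0 c₀ h0, hc₀⟩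
    · rintro ⟨c, hc⟩
      exact ⟨c, hc⟩
  rw [← hrange]
  have e1 : (Cfsg.GSp m F₀ ⧸ η.ker) ≃* η.range := QuotientGroup.quotientKerEquivRange η
  have e2 : (Cfsg.GSp m F₀ ⧸ η.ker) ≃* Cfsg.PGSp m F₀ :=
    QuotientGroup.quotientMulEquivOfEq hker
  exact ⟨e1.symm.trans e2⟩

end central

end Cfsg.Agent.Helper2.SpA
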