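import Mathlib
import Cfsg.Agent.Lib.Helper2.Spa19

set_option autoImplicit false
set_option linter.unusedSimpArgs false
set_option linter.unusedVariables false
set_option linter.unusedSectionVars false

/-! Field automorphisms of the symplectic groups, part 20: the multiplier of the conformal
symplectic group and the class count of a standard field automorphism. -/

namespace Cfsg.Agent.Helper2.SpA

open Matrix Cfsg.Agent.Helper2.Symp Cfsg.Agent.Helper2.PU
open Cfsg.Agent.Helper2.PN (fieldGLHom fieldGLHom_coe' ufix mem_ufix)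
open scoped MatrixGroups

section multiplier

variable {m : ℕ} {F : Type*} [Field F]

/-- the value of the multiplier -/
def mulVal (hm : 0 < m) (g : Cfsg.GSp m F) : F :=
  Bf (((g : GL (Fin m ⊕ Fin m) F) : Mt m F) *ᵥ fV ⟨0, hm⟩)
    (((g : GL (Fin m ⊕ Fin m) F) : Mt m F) *ᵥ eV ⟨0, hm⟩)

theorem mulVal_eq (hm : 0 < m) (g : Cfsg.GSp m F) {c : F}
    (hc : ∀ u v : Fin m ⊕ Fin m → F,
      Bf (((g : GL (Fin m ⊕ Fin m) F) : Mt m F) *ᵥ u)
        (((g : GL (Fin m ⊕ Fin m) F) : Mt m F) *ᵥ v) = c * Bf u v) : mulVal hm g = c := by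
  unfold mulVal
  rw [hc, Bf_fV_eV, mul_one]

theorem mulVal_spec (hm : 0 < m) (g : Cfsg.GSp m F) (u v : Fin m ⊕ Fin m → F) :
    Bf (((g : GL (Fin m ⊕ Fin m) F) : Mt m F) *ᵥ u)
      (((g : GL (Fin m ⊕ Fin m) F) : Mt m F) *ᵥ v) = mulVal hm g * Bf u v := by
  obtain ⟨c, hc⟩ := (mem_GSp_iff g.1).1 g.2
  rw [mulVal_eq hm g hc, hc]

theorem mulVal_ne_zero (hm : 0 < m) (g : Cfsg.GSp m F) : mulVal hm g ≠ 0 := by
  obtain ⟨c, hc⟩ := (mem_GSp_iff g.1).1 g.2
  rw [mulVal_eq hm g hc]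
  exact c.ne_zero

/-- the multiplier of the conformal symplectic group -/
noncomputable def mulS (hm : 0 < m) : Cfsg.GSp m F →* Fˣ where
  toFun g := Units.mk0 (mulVal hm g) (mulVal_ne_zero hm g)
  map_one' := by
    apply Units.ext
    rw [Units.val_mk0, Units.val_one]
    apply mulVal_eq
    intro u v
    rw [Subgroup.coe_one, Units.val_one, Matrix.one_mulVec, Matrix.one_mulVec, one_mul]
  map_mul' a b := by
    apply Units.ext
    rw [Units.val_mul, Units.val_mk0, Units.val_mk0, Units.val_mk0]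
    apply mulVal_eq
    intro u v
    rw [Subgroup.coe_mul, Matrix.GeneralLinearGroup.coe_mul, ← Matrix.mulVec_mulVec,
      ← Matrix.mulVec_mulVec, mulVal_spec hm a, mulVal_spec hm b, mul_assoc]

theorem mulS_val (hm : 0 < m) (g : Cfsg.GSp m F) : ((mulS hm g : Fˣ) : F) = mulVal hm g := rfl

theorem mulS_eq (hm : 0 < m) (g : Cfsg.GSp m F) {c : F}
    (hc : ∀ u v : Fin m ⊕ Fin m → F,
      Bf (((g : GL (Fin m ⊕ Fin m) F) : Mt m F) *ᵥ u)
        (((g : GL (Fin m ⊕ Fin m) F) : Mt m F) *ᵥ v) = c * Bf u v) :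
    ((mulS hm g : Fˣ) : F) = c := mulVal_eq hm g hc

theorem mulS_spec (hm : 0 < m) (g : Cfsg.GSp m F) (u v : Fin m ⊕ Fin m → F) :
    Bf (((g : GL (Fin m ⊕ Fin m) F) : Mt m F) *ᵥ u)
      (((g : GL (Fin m ⊕ Fin m) F) : Mt m F) *ᵥ v) = ((mulS hm g : Fˣ) : F) * Bf u v :=
  mulVal_spec hm g u v

/-- multiplier of a scalar multiple -/
theorem mulS_of_smul (hm : 0 < m) {g g' : Cfsg.GSp m F} {c : F}
    (h : ((g' : GL (Fin m ⊕ Fin m) F) : Mt m F) = c • ((g : GL (Fin m ⊕ Fin m) F) : Mt m F)) :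
    ((mulS hm g' : Fˣ) : F) = c * c * ((mulS hm g : Fˣ) : F) := by
  apply mulS_eq
  intro u v
  rw [h, Matrix.smul_mulVec, Matrix.smul_mulVec, Bf_smul_left, Bf_smul_right, mulS_spec hm g]
  ring

theorem mulS_scalG (hm : 0 < m) (d : Fˣ) : mulS hm (scalG (m := m) d) = d ^ 2 := by
  apply Units.ext
  rw [Units.val_pow_eq_pow_val]
  apply mulS_eq
  intro u v
  rw [scalG_val, Matrix.smul_mulVec, Matrix.smul_mulVec, Matrix.one_mulVec, Matrix.one_mulVec,
    Bf_smul_left, Bf_smul_right]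
  ring

theorem mulS_sigG (hm : 0 < m) (σ : RingAut F) (g : Cfsg.GSp m F) :
    ((mulS hm (sigG σ g) : Fˣ) : F) = σ ((mulS hm g : Fˣ) : F) := by
  apply mulS_eq
  intro u v
  rw [sigG_val, ← comp_symm_comp σ u, ← comp_symm_comp σ v, map_mulVec_comp, map_mulVec_comp,
    Bf_comp_ringEquiv, Bf_comp_ringEquiv, mulS_spec hm g, map_mul]

theorem mulS_toGL (hm : 0 < m) (y : Matrix.symplecticGroup (Fin m) F) :
    mulS hm ⟨toGL y, toGL_mem_GSp y⟩ = 1 := by
  apply Units.ext
  rw [Units.val_one]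
  apply mulS_eq
  intro u v
  change Bf ((toGL y : Mt m F) *ᵥ u) ((toGL y : Mt m F) *ᵥ v) = _
  rw [toGL_coe, Bf_mulVec y.2, one_mul]

end multiplier

section diag

variable {m : ℕ} {F : Type*} [Field F]

/-- the diagonal matrix with a given multiplier -/
def dgMat (t : F) : Mt m F :=
  Matrix.fromBlocks (t • (1 : Matrix (Fin m) (Fin m) F)) 0 0 1

theorem dgMat_form (t : F) :
    (dgMat (m := m) t)ᵀ * Matrix.J (Fin m) F * dgMat t = t • Matrix.J (Fin m) F := by
  unfold dgMat Matrix.J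
  rw [Matrix.fromBlocks_transpose, Matrix.fromBlocks_multiply, Matrix.fromBlocks_multiply,
    Matrix.fromBlocks_smul]
  simp

theorem dgMat_map (σ : F ≃+* F) (t : F) : (dgMat (m := m) t).map σ = dgMat (σ t) := by
  unfold dgMat
  rw [Matrix.fromBlocks_map]
  congr 1
  · ext a b
    simp only [Matrix.map_apply, Matrix.smul_apply, Matrix.one_apply, smul_eq_mul, map_mul]
    split_ifs <;> simp
  · ext a b
    simp
  · ext a b
    simp
  · ext a b
    simp only [Matrix.map_apply, Matrix.one_apply]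
    split_ifs <;> simp

theorem exists_dgS (t : Fˣ) : ∃ g : Cfsg.GSp m F,
    ((g : GL (Fin m ⊕ Fin m) F) : Mt m F) = dgMat (t : F) := by
  obtain ⟨g, hg, hval⟩ := exists_GL_of_conformal t.ne_zero (conformal_of_mat (dgMat_form (t : F)))
  exact ⟨⟨g, hg⟩, hval⟩

theorem mulS_of_dgMat (hm : 0 < m) (t : Fˣ) (g : Cfsg.GSp m F)
    (hg : ((g : GL (Fin m ⊕ Fin m) F) : Mt m F) = dgMat (t : F)) : mulS hm g = t := by
  apply Units.ext
  apply mulS_eq
  intro u v
  rw [hg]
  exact conformal_of_mat (dgMat_form (t : F)) u v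

theorem mulS_surjective (hm : 0 < m) : Function.Surjective (mulS (m := m) (F := F) hm) := by
  intro t
  obtain ⟨g, hg⟩ := exists_dgS (m := m) t
  exact ⟨g, mulS_of_dgMat hm t g hg⟩

/-- the multipliers of the fixed elements -/
theorem map_mulS_GSfix (hm : 0 < m) (σ : RingAut F) :
    (GSfix (m := m) σ).map (mulS hm) = ufix σ := by
  ext t
  constructor
  · rintro ⟨g, hg, rfl⟩
    rw [SetLike.mem_coe, mem_GSfix] at hg
    rw [mem_ufix, ← mulS_sigG, hg]
  · intro ht
    rw [mem_ufix] at ht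
    obtain ⟨g, hg⟩ := exists_dgS (m := m) t
    refine ⟨g, ?_, mulS_of_dgMat hm t g hg⟩
    rw [SetLike.mem_coe, mem_GSfix_iff, hg, dgMat_map, ht]

end diag

section count

variable {m : ℕ} {F : Type*} [Field F] [Finite F] (p : ℕ) [Fact p.Prime] [CharP F p]

include p

/-- the preimage of the inner automorphisms -/
theorem comap_psiS_inn (hm : 0 < m) :
    (Cfsg.Inn (PGq m F)).comap (psiS (m := m)) =
      ((powMonoidHom 2 : Fˣ →* Fˣ).range).comap (mulS hm) := by
  ext g
  rw [Subgroup.mem_comap, Subgroup.mem_comap]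
  constructor
  · rintro ⟨x, hx⟩
    obtain ⟨y, rfl⟩ := mkq_surjective x
    rw [conj_mkq_eq_psiS] at hx
    have h1 : psiS g * phiS 1 = psiS ⟨toGL y, toGL_mem_GSp y⟩ * phiS 1 := by rw [hx]
    obtain ⟨-, c, hc⟩ := eq_of_psiS_mul_phiS_eq p hm h1
    have h2 := mulS_of_smul hm hc
    rw [mulS_toGL, Units.val_one, mul_one] at h2
    have hc0 : c ≠ 0 := by
      rintro rfl
      rw [mul_zero] at h2
      exact (mulS hm g).ne_zero h2
    refine ⟨Units.mk0 c hc0, ?_⟩
    apply Units.ext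
    rw [powMonoidHom_apply, Units.val_pow_eq_pow_val, Units.val_mk0, h2, pow_two]
  · rintro ⟨w, hw⟩
    have hw' : ((mulS hm g : Fˣ) : F) = (w : F) * (w : F) := by
      rw [← hw, powMonoidHom_apply, Units.val_pow_eq_pow_val, pow_two]
    have hw0 : (w : F) ≠ 0 := w.ne_zero
    have hA : (w : F)⁻¹ • ((g : GL (Fin m ⊕ Fin m) F) : Mt m F) ∈
        Matrix.symplecticGroup (Fin m) F := by
      apply mem_symplecticGroup_of_Bf
      intro u v
      rw [Matrix.smul_mulVec, Matrix.smul_mulVec, Bf_smul_left, Bf_smul_right, mulS_spec hm g, hw']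
      field_simp
    refine ⟨mkq ⟨_, hA⟩, ?_⟩
    rw [conj_mkq_eq_psiS, psiS_apply, psiS_apply]
    refine (stdAutQ_of_smul (toGL_mem_GSp _) g.2 (w : F) ?_ 1).symm
    rw [toGL_coe]
    change _ = (w : F) • ((w : F)⁻¹ • ((g : GL (Fin m ⊕ Fin m) F) : Mt m F))
    rw [smul_smul, mul_inv_cancel₀ hw0, one_smul]

/-- the multipliers of the scalar elements -/
theorem map_mulS_ker (hm : 0 < m) :
    ((psiS (m := m) (F := F)).ker).map (mulS hm) = (powMonoidHom 2 : Fˣ →* Fˣ).range := by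
  ext t
  constructor
  · rintro ⟨g, hg, rfl⟩
    rw [SetLike.mem_coe, MonoidHom.mem_ker, psiS_eq_one_iff p hm] at hg
    obtain ⟨c, hc⟩ := hg
    have hc' : ((g : GL (Fin m ⊕ Fin m) F) : Mt m F) =
        c • (((1 : Cfsg.GSp m F) : GL (Fin m ⊕ Fin m) F) : Mt m F) := by
      rw [hc]
      rfl
    have h2 := mulS_of_smul hm hc'
    rw [map_one, Units.val_one, mul_one] at h2
    have hc0 : c ≠ 0 := by
      rintro rfl
      rw [mul_zero] at h2
      exact (mulS hm g).ne_zero h2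
    refine ⟨Units.mk0 c hc0, ?_⟩
    apply Units.ext
    rw [powMonoidHom_apply, Units.val_pow_eq_pow_val, Units.val_mk0, h2, pow_two]
  · rintro ⟨w, rfl⟩
    refine ⟨scalG w, ?_, ?_⟩
    · rw [SetLike.mem_coe, MonoidHom.mem_ker]
      exact psiS_scalG w
    · rw [mulS_scalG, powMonoidHom_apply]

/-- the class-splitting count in terms of multipliers -/
theorem splitClassCount_eq (hm : 0 < m) (x : MulAut (PGq m F)) (C : Subgroup (Cfsg.GSp m F))
    (hC : (Subgroup.centralizer {x}).comap psiS = (psiS (m := m)).ker ⊔ C) :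
    Cfsg.splitClassCount (psiS (m := m)).range (Cfsg.Inn (PGq m F)) x =
      ((powMonoidHom 2 : Fˣ →* Fˣ).range ⊔ C.map (mulS hm)).index := by
  rw [Cfsg.Agent.Helper2.PN.splitClassCount_eq_index psiS _ inn_le_range_psiS x, hC,
    comap_psiS_inn p hm]
  set R := (powMonoidHom 2 : Fˣ →* Fˣ).range with hR
  have hker : (mulS (m := m) (F := F) hm).ker ≤ R.comap (mulS hm) ⊔ ((psiS (m := m)).ker ⊔ C) := by
    refine le_trans ?_ le_sup_left
    intro g hg
    rw [Subgroup.mem_comap, MonoidHom.mem_ker.mp hg]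
    exact R.one_mem
  rw [← Subgroup.index_map_eq _ (mulS_surjective hm) hker, Subgroup.map_sup,
    Subgroup.map_comap_eq_self_of_surjective (mulS_surjective hm), Subgroup.map_sup,
    map_mulS_ker p hm, ← sup_assoc, sup_idem]

/-- the class count of a standard field automorphism -/
theorem splitClassCount_phiS (hm : 0 < m) (σ : RingAut F) (r : ℕ) (hr : 0 < r)
    (hord : orderOf σ = r) :
    Cfsg.splitClassCount (psiS (m := m)).range (Cfsg.Inn (PGq m F)) (phiS σ) =
      Nat.gcd 2 (ufix σ).index := by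
  rw [splitClassCount_eq p hm _ _ (comap_centralizer_phiS p hm σ r hr hord),
    map_mulS_GSfix hm, Cfsg.Agent.Helper2.PN.index_pow_sup]

end count

end Cfsg.Agent.Helper2.SpA
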