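import Mathlib
import Cfsg.Agent.Lib.Helper2.Spa20
import Cfsg.Agent.Lib.Helper2.OutCongr

set_option autoImplicit false
set_option linter.unusedSimpArgs false
set_option linter.unusedVariables false
set_option linter.unusedSectionVars false

/-! Field automorphisms of the symplectic groups, part 21: the theorems on field automorphism
classes of the projective symplectic groups. -/

namespace Cfsg.Agent.Helper2.SpA

open Matrix Cfsg.Agent.Helper2.Symp Cfsg.Agent.Helper2.PU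
open Cfsg.Agent.Helper2.PN (fieldGLHom fieldGLHom_coe' ufix mem_ufix jEmb jEmb_apply jEmb_fixed
  exists_jEmb_eq index_ufix)
open Cfsg.Agent.Helper13.FAut (fixedField mem_fixedField card_fixedField)
open scoped MatrixGroups

section numeric

theorem gcd_two_geom (q₀ r : ℕ) (hq₀ : 2 ≤ q₀) (hr : 0 < r) :
    Nat.gcd 2 ((q₀ ^ r - 1) / (q₀ - 1)) = Nat.gcd (Nat.gcd 2 (q₀ ^ r - 1)) r := by
  rw [← Nat.geomSum_eq hq₀ r]
  have hpos : 1 ≤ q₀ ^ r := Nat.one_le_pow _ _ (by omega)
  rcases Nat.even_or_odd q₀ with he | ho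
  · have h1 : Odd (∑ k ∈ Finset.range r, q₀ ^ k) := by
      obtain ⟨n, rfl⟩ : ∃ n, r = n + 1 := ⟨r - 1, by omega⟩
      rw [Finset.sum_range_succ', pow_zero]
      apply Even.add_one
      apply Finset.even_sum
      intro k _
      exact (Nat.even_pow.2 ⟨he, by omega⟩)
    have h2 : Odd (q₀ ^ r - 1) := by
      have h3 : Even (q₀ ^ r) := Nat.even_pow.2 ⟨he, by omega⟩
      exact Nat.Even.sub_odd hpos h3 odd_one
    have h4 : Nat.gcd 2 (∑ k ∈ Finset.range r, q₀ ^ k) = 1 := by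
      rw [← Nat.coprime_iff_gcd_eq_one, Nat.coprime_two_left]
      exact h1
    have h5 : Nat.gcd 2 (q₀ ^ r - 1) = 1 := by
      rw [← Nat.coprime_iff_gcd_eq_one, Nat.coprime_two_left]
      exact h2
    rw [h4, h5, Nat.gcd_one_left]
  · have h1 : ((∑ k ∈ Finset.range r, q₀ ^ k : ℕ) : ZMod 2) = (r : ZMod 2) := by
      have hq : (q₀ : ZMod 2) = 1 := by
        rw [← Nat.cast_one, ZMod.natCast_eq_natCast_iff']
        rw [Nat.odd_iff] at ho
        rw [ho]
      push_cast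
      rw [hq]
      simp
    have h2 : (∑ k ∈ Finset.range r, q₀ ^ k) % 2 = r % 2 :=
      (ZMod.natCast_eq_natCast_iff' _ _ 2).1 h1
    have h3 : Even (q₀ ^ r - 1) := by
      have h4 : Odd (q₀ ^ r) := ho.pow
      exact Nat.Odd.sub_odd h4 odd_one
    have h5 : Nat.gcd 2 (q₀ ^ r - 1) = 2 := Nat.gcd_eq_left (even_iff_two_dvd.1 h3)
    rw [h5, Nat.gcd_rec 2 (∑ k ∈ Finset.range r, q₀ ^ k), Nat.gcd_rec 2 r, h2]

end numeric

section general

variable {m : ℕ} {F : Type*} [Field F]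

/-- the fixed field gives descent data -/
theorem descS_fixedField (σ : RingAut F) : DescS σ (fixedField σ).subtype := by
  refine ⟨?_, ?_⟩
  · intro x hx
    exact ⟨⟨x, (mem_fixedField σ x).2 hx⟩, rfl⟩
  · intro a
    exact (mem_fixedField σ _).1 a.2

theorem sigHypS_of_order (σ : RingAut F) (r : ℕ) (hr : 0 < r) (hord : orderOf σ = r) :
    SigHypS σ r m :=
  (descS_fixedField σ).sigHypS r hr hord

variable [Finite F] (p : ℕ) [Fact p.Prime] [CharP F p]

include p

theorem normal_inndiagPSp (hm : 2 ≤ m) : (Cfsg.inndiagPSp m F).Normal := by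
  rw [inndiagPSp_eq]
  exact normal_range_psiS p hm

/-- conjugacy in the coset of a field automorphism -/
theorem conj_iff_Sp (hm : 2 ≤ m) (x δ : MulAut (Cfsg.PSp m F))
    (hx : Cfsg.IsFieldAutClassPSp x) {r : ℕ} (hr : r.Prime) (hxr : orderOf x = r)
    (hδ : δ ∈ Cfsg.inndiagPSp m F) :
    orderOf (δ * x) = r ↔ Cfsg.IsConjUnder (Cfsg.inndiagPSp m F) x (δ * x) := by
  have hm0 : 0 < m := by omega
  have hG : (Cfsg.inndiagPSp m F).Normal := normal_inndiagPSp p hm
  constructor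
  · intro h
    obtain ⟨α, σ, hσ1, hα⟩ := hx
    rw [isStdFieldAutPSp_iff] at hα
    have hord : orderOf σ = r := by
      rw [← orderOf_phiS (m := m) p hm0 σ, ← hα, ← hxr]
      exact (MulAut.conj α).orderOf_eq x
    apply Cfsg.Agent.Helper2.PN.isConjUnder_of_core (Cfsg.inndiagPSp m F) α x δ r hδ ?_ h
    intro δ₀ hδ₀ h0
    rw [hα] at h0 ⊢
    rw [inndiagPSp_eq] at hδ₀
    obtain ⟨g, rfl⟩ := hδ₀
    have hpow : (psiS g * phiS σ) ^ r = 1 := by
      rw [← h0]
      exact pow_orderOf_eq_one _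
    obtain ⟨k, hk⟩ := exists_conj_phiS p hm0 σ r (sigHypS_of_order σ r hr.pos hord) g hpow
    refine ⟨psiS k, ?_, hk⟩
    rw [inndiagPSp_eq]
    exact ⟨k, rfl⟩
  · rintro ⟨h, -, heq⟩
    rw [heq, ← hxr]
    exact (MulAut.conj h).orderOf_eq x

/-- the centralizer and the class count of a field automorphism -/
theorem field_class_Sp {F₀ : Type*} [Field F₀] (hm : 2 ≤ m) (x : MulAut (Cfsg.PSp m F))
    (hx : Cfsg.IsFieldAutClassPSp x) {r : ℕ} (hr : r.Prime) (hxr : orderOf x = r)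
    (hD : ∀ σ : RingAut F, orderOf σ = r → ∃ j : F₀ →+* F, DescS σ j) :
    Nonempty (↥(Cfsg.inndiagPSp m F ⊓ Subgroup.centralizer {x}) ≃* Cfsg.PGSp m F₀) ∧
    ∃ σ : RingAut F, orderOf σ = r ∧
      Cfsg.splitClassCount (Cfsg.inndiagPSp m F) (Cfsg.Inn (Cfsg.PSp m F)) x =
        Nat.gcd 2 (ufix σ).index := by
  have hm0 : 0 < m := by omega
  have hG : (Cfsg.inndiagPSp m F).Normal := normal_inndiagPSp p hm
  obtain ⟨α, σ, hσ1, hα⟩ := hx
  rw [isStdFieldAutPSp_iff] at hα
  have hord : orderOf σ = r := by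
    rw [← orderOf_phiS (m := m) p hm0 σ, ← hα, ← hxr]
    exact (MulAut.conj α).orderOf_eq x
  obtain ⟨j, D⟩ := hD σ hord
  constructor
  · have e2 := Cfsg.Agent.Helper2.PN.centralizerInfEquiv (Cfsg.inndiagPSp m F) α x
    rw [hα] at e2
    obtain ⟨e1⟩ := centralizer_phiS_equiv p hm0 D r hr.pos hord
    rw [inndiagPSp_eq] at e2 ⊢
    exact ⟨e2.trans e1⟩
  · refine ⟨σ, hord, ?_⟩
    rw [← Cfsg.Agent.Helper2.PN.splitClassCount_conj _ _ α x, hα, inndiagPSp_eq,
      splitClassCount_phiS p hm0 σ r hr.pos hord]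

end general

section concrete

variable {F : Type*} [Field F] [Fintype F] {F₀ : Type*} [Field F₀] [Fintype F₀]

/-- descent data for finite fields -/
theorem exists_descS {p f r : ℕ} [Fact p.Prime] (hF : Fintype.card F = p ^ f)
    (σ : RingAut F) (hr : r.Prime) (hord : orderOf σ = r)
    (hF₀ : Fintype.card F₀ = p ^ (f / r)) :
    r ∣ f ∧ (∃ j : F₀ →+* F, DescS σ j) ∧ (ufix σ).index = (p ^ f - 1) / (p ^ (f / r) - 1) := by
  have hrf : r ∣ f := by
    have h1 := orderOf_dvd_natCard σ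
    rw [hord, Cfsg.Agent.Helper2.OutCongr.card_ringEquiv hF] at h1
    exact h1
  have hcardfix : Nat.card (fixedField σ) = p ^ (f / r) :=
    card_fixedField σ r (p ^ (f / r)) hr.pos hord
      (by rw [hF, ← pow_mul, Nat.div_mul_cancel hrf])
  have : Fintype (fixedField σ) := Fintype.ofFinite _
  have e : F₀ ≃+* fixedField σ :=
    FiniteField.ringEquivOfCardEq (by rw [hF₀, ← Nat.card_eq_fintype_card, hcardfix])
  refine ⟨hrf, ⟨jEmb σ e, ?_, ?_⟩, ?_⟩
  · intro x hx
    exact exists_jEmb_eq σ e x hx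
  · intro a
    exact jEmb_fixed σ e a
  · rw [index_ufix, hcardfix, Nat.card_eq_fintype_card, hF]

end concrete

end Cfsg.Agent.Helper2.SpA
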