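import Mathlib
import Cfsg.Agent.Lib.Helper2.Spa21

set_option autoImplicit false
set_option linter.unusedSimpArgs false
set_option linter.unusedVariables false
set_option linter.unusedSectionVars false

/-! Automorphisms of the symplectic groups, part 22: the group of standard automorphisms and
its order. -/

namespace Cfsg.Agent.Helper2.SpA

open Matrix Cfsg.Agent.Helper2.Symp Cfsg.Agent.Helper2.PU
open Cfsg.Agent.Helper2.PN (fieldGLHom fieldGLHom_coe')
open scoped MatrixGroups

section gam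

variable {m : ℕ} {F : Type*} [Field F] [Finite F]

/-- the group of standard automorphisms -/
def GamS (m : ℕ) (F : Type*) [Field F] [Finite F] : Subgroup (MulAut (PGq m F)) where
  carrier := {α | ∃ (σ : RingAut F) (g : GL (Fin m ⊕ Fin m) F) (hg : g ∈ Cfsg.GSp m F),
    α = stdAutQ g hg σ}
  one_mem' := ⟨1, 1, (Cfsg.GSp m F).one_mem, stdAutQ_one.symm⟩
  mul_mem' := by
    rintro _ _ ⟨σ, g, hg, rfl⟩ ⟨σ', g', hg', rfl⟩
    exact ⟨σ * σ', _, _, stdAutQ_mul hg hg' σ σ'⟩
  inv_mem' := by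
    rintro _ ⟨σ, g, hg, rfl⟩
    exact ⟨σ⁻¹, _, _, stdAutQ_inv hg σ⟩

theorem mem_GamS (α : MulAut (PGq m F)) :
    α ∈ GamS m F ↔ ∃ (σ : RingAut F) (g : GL (Fin m ⊕ Fin m) F) (hg : g ∈ Cfsg.GSp m F),
      α = stdAutQ g hg σ := Iff.rfl

theorem stdAutQ_mem_GamS {g : GL (Fin m ⊕ Fin m) F} (hg : g ∈ Cfsg.GSp m F) (σ : RingAut F) :
    stdAutQ g hg σ ∈ GamS m F := ⟨σ, g, hg, rfl⟩

theorem range_psiS_le_GamS : (psiS (m := m) (F := F)).range ≤ GamS m F := by
  rintro _ ⟨g, rfl⟩
  exact ⟨1, g.1, g.2, rfl⟩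

theorem inn_le_GamS : Cfsg.Inn (PGq m F) ≤ GamS m F :=
  le_trans inn_le_range_psiS range_psiS_le_GamS

theorem phiS_mem_GamS (σ : RingAut F) : phiS (m := m) σ ∈ GamS m F :=
  ⟨σ, 1, (Cfsg.GSp m F).one_mem, rfl⟩

/-- the standard automorphisms are all automorphisms, outside the exceptional case -/
theorem GamS_eq_top (p : ℕ) [Fact p.Prime] [CharP F p] (hm : 2 ≤ m)
    (h4 : m = 2 → (2 : F) ≠ 0) : GamS m F = ⊤ := by
  rw [eq_top_iff]
  intro α _
  obtain ⟨σ, g, hg, hα⟩ := aut_Sp_main p hm h4 α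
  refine ⟨σ, g, hg, ?_⟩
  ext x
  obtain ⟨s, rfl⟩ := mkq_surjective x
  rw [hα, stdAutQ_mk]

end gam

section piG

variable {m : ℕ} {F : Type*} [Field F] [Finite F] (p : ℕ) [Fact p.Prime] [CharP F p]
  (hm : 0 < m)

include p hm

theorem exists_piG (α : GamS m F) :
    ∃ σ : RingAut F, ∃ (g : GL (Fin m ⊕ Fin m) F) (hg : g ∈ Cfsg.GSp m F),
      (α : MulAut (PGq m F)) = stdAutQ g hg σ := α.2

/-- the field automorphism of a standard automorphism, as a function -/
noncomputable def piGFun (α : GamS m F) : RingAut F :=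
  Classical.choose (exists_piG p hm α)

theorem piGFun_spec (α : GamS m F) :
    ∃ (g : GL (Fin m ⊕ Fin m) F) (hg : g ∈ Cfsg.GSp m F),
      (α : MulAut (PGq m F)) = stdAutQ g hg (piGFun p hm α) :=
  Classical.choose_spec (exists_piG p hm α)

theorem piGFun_eq (α : GamS m F) {g : GL (Fin m ⊕ Fin m) F} (hg : g ∈ Cfsg.GSp m F)
    (σ : RingAut F) (h : (α : MulAut (PGq m F)) = stdAutQ g hg σ) : piGFun p hm α = σ := by
  obtain ⟨g', hg', h'⟩ := piGFun_spec p hm α
  rw [h] at h'
  exact (stdAutQ_eq p hm hg hg' h').1.symm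

/-- the field automorphism of a standard automorphism -/
noncomputable def piG : GamS m F →* RingAut F :=
  MonoidHom.mk' (piGFun p hm) (by
    intro α β
    obtain ⟨g, hg, h⟩ := piGFun_spec p hm α
    obtain ⟨g', hg', h'⟩ := piGFun_spec p hm β
    apply piGFun_eq p hm (α * β) ((Cfsg.GSp m F).mul_mem hg (fieldGLHom_mem_GSp _ hg'))
    rw [Subgroup.coe_mul, h, h', stdAutQ_mul])

theorem piG_eq (α : GamS m F) {g : GL (Fin m ⊕ Fin m) F} (hg : g ∈ Cfsg.GSp m F)
    (σ : RingAut F) (h : (α : MulAut (PGq m F)) = stdAutQ g hg σ) : piG p hm α = σ :=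
  piGFun_eq p hm α hg σ h

theorem piG_surjective : Function.Surjective (piG (m := m) (F := F) p hm) := by
  intro σ
  exact ⟨⟨phiS σ, phiS_mem_GamS σ⟩, piG_eq p hm _ (Cfsg.GSp m F).one_mem σ rfl⟩

theorem ker_piG :
    (piG (m := m) (F := F) p hm).ker = ((psiS (m := m) (F := F)).range).subgroupOf (GamS m F) := by
  ext α
  rw [MonoidHom.mem_ker, Subgroup.mem_subgroupOf]
  constructor
  · intro h
    obtain ⟨g, hg, hα⟩ := piGFun_spec p hm α
    refine ⟨⟨g, hg⟩, ?_⟩
    rw [psiS_apply, hα]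
    exact stdAutQ_congr hg hg rfl h.symm
  · rintro ⟨g, hg⟩
    exact piG_eq p hm α g.2 1 hg.symm

/-- the central quotient has trivial centre -/
theorem conj_injective_S :
    Function.Injective (MulAut.conj : PGq m F →* MulAut (PGq m F)) := by
  rw [injective_iff_map_eq_one]
  intro x hx
  obtain ⟨y, rfl⟩ := mkq_surjective x
  rw [conj_mkq_eq_psiS, psiS_eq_one_iff p hm] at hx
  obtain ⟨c, hc⟩ := hx
  have : mkq y = mkq 1 := by
    rw [mkq_eq_iff, mul_one, Subgroup.mem_center_iff]
    intro s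
    apply Subtype.ext
    have h1 : (y : Mt m F) = c • (1 : Mt m F) := hc
    have h2 : ((y⁻¹ : Matrix.symplecticGroup (Fin m) F) : Mt m F) * (y : Mt m F) = 1 := by
      have := congrArg (fun z : Matrix.symplecticGroup (Fin m) F => (z : Mt m F))
        (inv_mul_cancel y)
      exact this
    have hc0 : c ≠ 0 := by
      rintro rfl
      rw [h1, zero_smul, Matrix.mul_zero] at h2
      have hne : Nonempty (Fin m ⊕ Fin m) := nonempty_idx hm
      obtain ⟨i⟩ := hne
      have := congrFun (congrFun h2 i) i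
      simp at this
    have h3 : ((y⁻¹ : Matrix.symplecticGroup (Fin m) F) : Mt m F) = c⁻¹ • (1 : Mt m F) := by
      rw [h1, Matrix.mul_smul, Matrix.mul_one] at h2
      rw [← h2, smul_smul, inv_mul_cancel₀ hc0, one_smul]
    change (s : Mt m F) * ((y⁻¹ : Matrix.symplecticGroup (Fin m) F) : Mt m F) =
      ((y⁻¹ : Matrix.symplecticGroup (Fin m) F) : Mt m F) * (s : Mt m F)
    rw [h3, Matrix.mul_smul, Matrix.smul_mul, Matrix.mul_one, Matrix.one_mul]
  rw [this, map_one]

theorem card_inn : Nat.card (Cfsg.Inn (PGq m F)) = Nat.card (PGq m F) :=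
  (Nat.card_congr (MonoidHom.ofInjective (conj_injective_S p hm)).toEquiv).symm

/-- the order of the inner-diagonal group -/
theorem card_range_psiS :
    Nat.card (psiS (m := m) (F := F)).range =
      Nat.gcd 2 (Nat.card F - 1) * Nat.card (PGq m F) := by
  have h1 : (Cfsg.Inn (PGq m F)).relIndex (psiS (m := m) (F := F)).range =
      Nat.gcd 2 (Nat.card F - 1) := by
    rw [← Subgroup.index_comap, comap_psiS_inn p hm,
      Subgroup.index_comap_of_surjective _ (mulS_surjective hm),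
      IsCyclic.index_powMonoidHom_range, Nat.card_units, Nat.gcd_comm]
  have h2 := Subgroup.relIndex_mul_relIndex (H := (⊥ : Subgroup (MulAut (PGq m F))))
    (K := Cfsg.Inn (PGq m F)) (L := (psiS (m := m) (F := F)).range) bot_le inn_le_range_psiS
  rw [Subgroup.relIndex_bot_left, Subgroup.relIndex_bot_left, h1, card_inn p hm] at h2
  rw [← h2, mul_comm]

/-- the order of the group of standard automorphisms -/
theorem card_GamS :
    Nat.card (GamS m F) =
      Nat.gcd 2 (Nat.card F - 1) * Nat.card (RingAut F) * Nat.card (PGq m F) := by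
  have h3 := Subgroup.card_eq_card_quotient_mul_card_subgroup (piG (m := m) (F := F) p hm).ker
  rw [Nat.card_congr (QuotientGroup.quotientKerEquivOfSurjective _
    (piG_surjective p hm)).toEquiv, ker_piG p hm] at h3
  have h4 : Nat.card (((psiS (m := m) (F := F)).range).subgroupOf (GamS m F)) =
      Nat.card (psiS (m := m) (F := F)).range :=
    Nat.card_congr (Subgroup.subgroupOfEquivOfLe range_psiS_le_GamS).toEquiv
  rw [h3, h4, card_range_psiS p hm]
  ring

end piG

end Cfsg.Agent.Helper2.SpA
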