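import Mathlib
import Cfsg.Agent.Lib.Helper2.Spa22

set_option autoImplicit false
set_option linter.unusedSimpArgs false
set_option linter.unusedVariables false
set_option linter.unusedSectionVars false

/-! Automorphisms of the symplectic groups, part 23: characteristic two and dimension four.
The word property separates the long and short root elements from the mixed involutions. -/

namespace Cfsg.Agent.Helper2.SpA

open Matrix Cfsg.Agent.Helper2.Symp Cfsg.Agent.Helper2.PU
open scoped MatrixGroups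

section word

variable {m : ℕ} {F : Type*} [Field F]

/-- moving the orthogonal pair `(e, w)` to the orthogonal pair `(w, f)` -/
theorem exists_map_ew {e f w : Fin m ⊕ Fin m → F} (hfe : Bf f e = 1) (hw : InW e f w)
    (hw0 : w ≠ 0) : ∃ g : Matrix.symplecticGroup (Fin m) F, g • e = w ∧ g • w = f := by
  obtain ⟨w'', hw'', hw''w⟩ := exists_partner_inW hfe hw hw0
  obtain ⟨g₁, -, hg₁f, hg₁e⟩ := trans_pair (isND_top (m := m) (F := F))
    (Submodule.mem_top (x := f)) (Submodule.mem_top (x := e)) (Submodule.mem_top (x := w''))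
    (Submodule.mem_top (x := w)) hfe hw''w
  have hf0 : f ≠ 0 := ne_zero_of_Bf_eq_one hfe
  have hw₁ : InW w w'' (g₁ • w) := by
    constructor
    · have h1 : Bf (g₁ • w) (g₁ • e) = 0 := by rw [Bf_smul_smul, hw.1]
      rwa [hg₁e] at h1
    · have h1 : Bf (g₁ • w) (g₁ • f) = 0 := by rw [Bf_smul_smul, hw.2]
      rwa [hg₁f] at h1
  have hw₁0 : g₁ • w ≠ 0 := fun h => hw0 ((smul_eq_zero_iff' g₁ w).1 h)
  have hfW : InW w w'' f := ⟨hw.symm2, hw''.symm2⟩
  obtain ⟨g₂, hg₂, hg₂w⟩ := trans_vec (isND_Wsub hw''w) hw₁ hfW hw₁0 hf0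
  have hg₂e : g₂ • w = w :=
    smul_eq_of_mem_tvGroup hg₂ w (fun x hx => InW.symm1 hx)
  refine ⟨g₂ * g₁, ?_, ?_⟩
  · rw [mul_smul, hg₁e, hg₂e]
  · rw [mul_smul, hg₂w]

/-- the product of the two mixed involutions -/
theorem mixed_prod_smul {e f w : Fin m ⊕ Fin m → F} (hfe : Bf f e = 1) (hw : InW e f w) (s : F)
    (x : Fin m ⊕ Fin m → F) :
    (sgG e w s * sgG w f s) • x =
      x + Bf x w • f + (Bf x f + s * Bf x w + Bf x e + Bf x w) • w +
        (Bf x w + s * (Bf x e + Bf x w)) • e := by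
  rw [mul_smul, sgG_smul hw.2 s x, sgG_smul hw.symm1 s]
  simp only [Bf_add_left, Bf_smul_left, Bf_self, hfe, hw.1, hw.symm2, mul_zero, add_zero,
    mul_one]
  module

/-- in characteristic two, a mixed involution has a conjugate such that the product has order
four -/
theorem sg_word2 (h2 : (2 : F) = 0) {e f w : Fin m ⊕ Fin m → F} (hfe : Bf f e = 1)
    (hw : InW e f w) (hw0 : w ≠ 0) {s : F} (hs : s ≠ 0) :
    ∃ g : Matrix.symplecticGroup (Fin m) F,
      (sgG e w s * (g * sgG e w s * g⁻¹)) ^ 4 = 1 ∧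
      (sgG e w s * (g * sgG e w s * g⁻¹)) ^ 2 ≠ 1 := by
  obtain ⟨g, hge, hgw⟩ := exists_map_ew hfe hw hw0
  refine ⟨g, ?_⟩
  rw [conj_sgG, hge, hgw]
  have hdbl : ∀ x : Fin m ⊕ Fin m → F, x + x = 0 := by
    intro x
    rw [← two_smul F x, h2, zero_smul]
  have hdblF : ∀ x : F, x + x = 0 := by
    intro x
    linear_combination x * h2
  have hwse : Bf w (s • e) = 0 := by rw [Bf_smul_right, hw.1, mul_zero]
  have hsq : (sgG e w s * sgG w f s) ^ 2 = sgG w (s • e) s := by
    apply ext_smul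
    intro x
    rw [pow_two, mul_smul, mixed_prod_smul hfe hw s x, mixed_prod_smul hfe hw s,
      sgG_smul hwse s x]
    simp only [Bf_add_left, Bf_smul_left, Bf_smul_right, Bf_self, hfe, hw.1, hw.2, hw.symm1,
      hw.symm2, mul_zero, add_zero, mul_one, zero_add]
    have hef : Bf e f = -1 := by rw [Bf_skew, hfe]
    rw [hef]
    match_scalars
    · rfl
    · linear_combination (Bf x w) * h2
    · linear_combination (Bf x f + Bf x e + Bf x w - s * Bf x e) * h2
    · linear_combination (Bf x w + s * Bf x e + s * Bf x w) * h2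
  constructor
  · rw [show (4 : ℕ) = 2 * 2 from rfl, pow_mul, hsq, pow_two, sgG_mul hwse hwse, hdbl, hdblF,
      Bf_self, add_zero, sgG_zero]
  · rw [hsq]
    intro h1
    have h3 : sgG w (s • e) s • f = f := by rw [h1, one_smul]
    rw [sgG_smul hwse, hw.symm2, zero_smul, add_zero, Bf_smul_right, hfe, mul_one, mul_zero,
      add_zero, add_eq_left] at h3
    rcases smul_eq_zero.1 h3 with h4 | h4
    · exact hs h4
    · exact hw0 h4

/-- a mixed involution fails the word property -/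
theorem not_Tq_sg2 (h2 : (2 : F) = 0) {e f w : Fin m ⊕ Fin m → F}
    (hfe : Bf f e = 1) (hw : InW e f w) (hw0 : w ≠ 0) {s : F} (hs : s ≠ 0) :
    ¬ Tq (mkq (sgG e w s)) := by
  have := nonempty_of_pair hfe
  intro hT
  obtain ⟨g, h4, hne⟩ := sg_word2 h2 hfe hw hw0 hs
  have h5 := hT (mkq g)
  have e1 : mkq (sgG e w s) * (mkq g * mkq (sgG e w s) * (mkq g)⁻¹) =
      mkq (sgG e w s * (g * sgG e w s * g⁻¹)) := by
    simp only [map_mul, map_inv]
  rw [e1, ← map_pow, ← map_pow, h4, map_one] at h5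
  apply hne
  apply mkq_injective_of_two h2
  rw [h5 rfl, map_one]

end word

section short

variable {m : ℕ} {F : Type*} [Field F]

/-- the short root group of the isotropic line spanned by `e` and `w` -/
def Yg (e w : Fin m ⊕ Fin m → F) : Subgroup (Matrix.symplecticGroup (Fin m) F) where
  carrier := {g | g = 1 ∨ (Bf e w = 0 ∧ ∃ b : F, g = sgG e (b • w) 0)}
  one_mem' := Or.inl rfl
  mul_mem' := by
    rintro x y (rfl | ⟨hew, b, rfl⟩) (rfl | ⟨hew', b', rfl⟩)
    · exact Or.inl (mul_one 1)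
    · rw [one_mul]
      exact Or.inr ⟨hew', b', rfl⟩
    · rw [mul_one]
      exact Or.inr ⟨hew, b, rfl⟩
    · refine Or.inr ⟨hew, b + b', ?_⟩
      rw [sgG_mul (by rw [Bf_smul_right, hew, mul_zero]) (by rw [Bf_smul_right, hew, mul_zero]),
        Bf_smul_left, Bf_smul_right, Bf_self, mul_zero, mul_zero, add_zero, add_zero, add_smul]
  inv_mem' := by
    rintro x (rfl | ⟨hew, b, rfl⟩)
    · exact Or.inl inv_one
    · refine Or.inr ⟨hew, -b, ?_⟩
      rw [sgG_inv (by rw [Bf_smul_right, hew, mul_zero]), neg_zero, neg_smul]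

theorem mem_Yg {e w : Fin m ⊕ Fin m → F} (hew : Bf e w = 0)
    (g : Matrix.symplecticGroup (Fin m) F) : g ∈ Yg e w ↔ ∃ b : F, g = sgG e (b • w) 0 := by
  constructor
  · rintro (rfl | ⟨-, b, rfl⟩)
    · exact ⟨0, by rw [zero_smul, sgG_zero]⟩
    · exact ⟨b, rfl⟩
  · rintro ⟨b, rfl⟩
    exact Or.inr ⟨hew, b, rfl⟩

/-- the image of the short root group in the central quotient -/
noncomputable def Yb (e w : Fin m ⊕ Fin m → F) : Subgroup (PGq m F) := (Yg e w).map mkq

theorem Yg_conj (l : Matrix.symplecticGroup (Fin m) F) (e w : Fin m ⊕ Fin m → F) :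
    (Yg e w).map (MulAut.conj l).toMonoidHom = Yg (l • e) (l • w) := by
  ext g
  constructor
  · rintro ⟨x, (rfl | ⟨hew, b, rfl⟩), rfl⟩
    · rw [map_one]
      exact (Yg _ _).one_mem
    · refine Or.inr ⟨by rw [Bf_smul_smul, hew], b, ?_⟩
      rw [MulEquiv.coe_toMonoidHom, MulAut.conj_apply, conj_sgG, smul_smul']
  · rintro (rfl | ⟨hew, b, rfl⟩)
    · exact (Subgroup.map _ _).one_mem
    · rw [Bf_smul_smul] at hew
      refine ⟨sgG e (b • w) 0, Or.inr ⟨hew, b, rfl⟩, ?_⟩
      rw [MulEquiv.coe_toMonoidHom, MulAut.conj_apply, conj_sgG, smul_smul']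

theorem Yb_conj (l : Matrix.symplecticGroup (Fin m) F) (e w : Fin m ⊕ Fin m → F) :
    (Yb e w).map (MulAut.conj (mkq l)).toMonoidHom = Yb (l • e) (l • w) := by
  unfold Yb
  rw [← Yg_conj l e w, map_conj_mkq]

end short

end Cfsg.Agent.Helper2.SpA
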