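import Mathlib
import Cfsg.Agent.Lib.Helper2.Spa23

set_option autoImplicit false
set_option linter.unusedSimpArgs false
set_option linter.unusedVariables false
set_option linter.unusedSectionVars false

/-! Automorphisms of the symplectic groups, part 24: in characteristic two and dimension four an
automorphism normalising a Sylow subgroup maps the long root group to itself or to a short root
group. -/

namespace Cfsg.Agent.Helper2.SpA

open Matrix Cfsg.Agent.Helper2.Symp Cfsg.Agent.Helper2.PU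
open scoped MatrixGroups

section line

variable {F : Type*} [Field F]

/-- in dimension four a vector orthogonal to two hyperbolic pairs vanishes -/
theorem eq_zero_of_orth_basis {e f u u' x : Fin 2 ⊕ Fin 2 → F} (hfe : Bf f e = 1)
    (hu : InW e f u) (hu' : InW e f u') (huu : Bf u' u = 1)
    (h1 : Bf x e = 0) (h2 : Bf x f = 0) (h3 : Bf x u = 0) (h4 : Bf x u' = 0) : x = 0 := by
  let L : (Fin 2 ⊕ Fin 2 → F) →ₗ[F] (Fin 4 → F) :=
    LinearMap.pi ![BfL e, BfL f, BfL u, BfL u']
  have hrk : Module.finrank F (Fin 2 ⊕ Fin 2 → F) = Module.finrank F (Fin 4 → F) := by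
    rw [Module.finrank_fintype_fun_eq_card, Module.finrank_fintype_fun_eq_card]
    simp only [Fintype.card_fin, Fintype.card_sum]
  have hef : Bf e f = -1 := Bf_ef_of_fe hfe
  have huu' : Bf u u' = -1 := by rw [Bf_skew, huu]
  have hsurj : Function.Surjective L := by
    intro c
    refine ⟨c 0 • f + (-c 1) • e + c 2 • u' + (-c 3) • u, ?_⟩
    funext i
    fin_cases i
    · simp only [L, BfL, LinearMap.pi_apply, LinearMap.coe_mk, AddHom.coe_mk, Fin.zero_eta,
        Matrix.cons_val_zero, Bf_add_left, Bf_smul_left, hfe, Bf_self, hu.1, hu'.1]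
      ring
    · simp only [L, BfL, LinearMap.pi_apply, LinearMap.coe_mk, AddHom.coe_mk, Fin.mk_one,
        Matrix.cons_val_one, Matrix.cons_val_zero, Bf_add_left, Bf_smul_left, hef, Bf_self, hu.2,
        hu'.2]
      ring
    · simp only [L, BfL, LinearMap.pi_apply, LinearMap.coe_mk, AddHom.coe_mk, Fin.reduceFinMk,
        Matrix.cons_val, Bf_add_left, Bf_smul_left, huu, Bf_self, hu.symm1, hu.symm2]
      ring
    · simp only [L, BfL, LinearMap.pi_apply, LinearMap.coe_mk, AddHom.coe_mk, Fin.reduceFinMk,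
        Matrix.cons_val, Bf_add_left, Bf_smul_left, huu', Bf_self, hu'.symm1, hu'.symm2]
      ring
  have hinj : Function.Injective L :=
    (LinearMap.injective_iff_surjective_of_finrank_eq_finrank hrk).2 hsurj
  apply hinj
  rw [map_zero]
  funext i
  fin_cases i
  · simpa [L, BfL] using h1
  · simpa [L, BfL] using h2
  · simpa [L, BfL] using h3
  · simpa [L, BfL] using h4

/-- in dimension four, two orthogonal vectors of `W` are proportional -/
theorem line_of_orth {e f w w₁ : Fin 2 ⊕ Fin 2 → F} (hfe : Bf f e = 1) (hw : InW e f w)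
    (hw₁ : InW e f w₁) (hw₁0 : w₁ ≠ 0) (h : Bf w₁ w = 0) : ∃ b : F, w = b • w₁ := by
  obtain ⟨w', hw', hw'w⟩ := exists_partner_inW hfe hw₁ hw₁0
  refine ⟨Bf w' w, ?_⟩
  have hx : w - Bf w' w • w₁ = 0 := by
    apply eq_zero_of_orth_basis hfe hw₁ hw' hw'w
    · rw [Bf_sub_left, Bf_smul_left, hw.1, hw₁.1, mul_zero, sub_zero]
    · rw [Bf_sub_left, Bf_smul_left, hw.2, hw₁.2, mul_zero, sub_zero]
    · rw [Bf_sub_left, Bf_smul_left, Bf_self, mul_zero, sub_zero, Bf_skew, h, neg_zero]
    · rw [Bf_sub_left, Bf_smul_left, Bf_skew w w', Bf_skew w₁ w', hw'w]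
      ring
  exact sub_eq_zero.1 hx

end line

section kl

variable {F : Type*} [Field F] [Finite F] (p : ℕ) [Fact p.Prime] [CharP F p]

include p in
/-- the image of a long root element under an automorphism normalising a Sylow subgroup is a
long or a short root element -/
theorem map_tv_of_sylow (h2 : (2 : F) = 0) {e f : Fin 2 ⊕ Fin 2 → F}
    (hfe : Bf f e = 1) {P : Subgroup (Matrix.symplecticGroup (Fin 2) F)} (hP : IsPGroup p P)
    (hQP : Qg e ≤ P) (β : MulAut (PGq 2 F)) (hβ : (P.map mkq).map β.toMonoidHom = P.map mkq)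
    (a : F) :
    ∃ (w : Fin 2 ⊕ Fin 2 → F) (s : F), InW e f w ∧ (w = 0 ∨ s = 0) ∧
      β (mkq (tv e a)) = mkq (sgG e w s) := by
  have := nonempty_of_pair hfe
  have hx : tv e a ∈ rootGroup e := mem_rootGroup.2 ⟨a, rfl⟩
  have hxP : tv e a ∈ P := hQP (tv_mem_Qg e a)
  have h1 : β (mkq (tv e a)) ∈ P.map mkq := by
    rw [← hβ]
    exact ⟨_, ⟨_, hxP, rfl⟩, rfl⟩
  obtain ⟨z, hzP, hz⟩ := h1
  have hzc : ∀ g ∈ P, g * z = z * g := by
    intro g hg
    have h3 : mkq g ∈ (P.map mkq).map β.toMonoidHom := by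
      rw [hβ]
      exact ⟨g, hg, rfl⟩
    obtain ⟨g₀b, ⟨g₀, hg₀, rfl⟩, hg₀eq⟩ := h3
    rw [MulEquiv.coe_toMonoidHom] at hg₀eq
    have h4 := central_of_mem_rootGroup p hfe hP hQP hx hg₀
    apply mkq_injective_of_two h2
    rw [map_mul, map_mul, hz, ← hg₀eq, ← map_mul, ← map_mul, ← map_mul, ← map_mul, h4]
  have hzQ := mem_Qg_of_central p hfe hP hQP hzP (fun g hg => hzc g (hQP hg))
  obtain ⟨hW, hzeq⟩ := eq_sgG_of_mem_Qg hfe hzQ
  have hT : Tq (mkq z) := by
    rw [hz]
    exact Tq_map β (Tq_tv h2 e a)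
  refine ⟨wOf e f z, sOf e f z, hW, ?_, ?_⟩
  · by_contra hne
    rw [not_or] at hne
    rw [hzeq] at hT
    exact not_Tq_sg2 h2 hfe hW hne.1 hne.2 hT
  · rw [← hz, ← hzeq]

omit [Finite F] in
theorem sgG_inj {e f w w' : Fin 2 ⊕ Fin 2 → F} {s s' : F} (hfe : Bf f e = 1)
    (hw : InW e f w) (hw' : InW e f w') (h : sgG e w s = sgG e w' s') : w = w' ∧ s = s' := by
  constructor
  · have := congrArg (wOf e f) h
    rwa [wOf_sgG hfe hw, wOf_sgG hfe hw'] at this
  · have := congrArg (sOf e f) h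
    rwa [sOf_sgG hfe hw, sOf_sgG hfe hw'] at this

include p in
/-- **the dichotomy**: an automorphism normalising the image of a Sylow subgroup containing
`Qg e` maps the image of the long root group to itself or to the image of a short root group -/
theorem map_Xb_of_sylow2 (h2 : (2 : F) = 0) {e f : Fin 2 ⊕ Fin 2 → F}
    (hfe : Bf f e = 1) {P : Subgroup (Matrix.symplecticGroup (Fin 2) F)} (hP : IsPGroup p P)
    (hQP : Qg e ≤ P) (β : MulAut (PGq 2 F)) (hβ : (P.map mkq).map β.toMonoidHom = P.map mkq) :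
    (Xb e).map β.toMonoidHom = Xb e ∨
      ∃ w, InW e f w ∧ w ≠ 0 ∧ (Xb e).map β.toMonoidHom = Yb e w := by
  have hne := nonempty_of_pair hfe
  have he0 : e ≠ 0 := ne_zero_of_Bf_eq_one' hfe
  have hfinG := finite_symp (F := F) hfe
  have hfin : Finite (PGq 2 F) := Finite.of_surjective _ (mkq_surjective (m := 2) (F := F))
  have key := map_tv_of_sylow p h2 hfe hP hQP β hβ
  have hcardA : Nat.card ((Xb e).map β.toMonoidHom) = Nat.card (Xb e) :=
    Subgroup.card_map_of_injective β.injective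
  have hcardX : Nat.card F ≤ Nat.card (Xb e) := by
    apply Nat.card_le_card_of_injective
      (fun a : F => (⟨mkq (tv e a), ⟨_, mem_rootGroup.2 ⟨a, rfl⟩, rfl⟩⟩ : Xb e))
    intro a b hab
    have h1 : mkq (tv e a) = mkq (tv e b) := congrArg Subtype.val hab
    have h3 := mkq_injective_of_two h2 h1
    have h4 : tv e (a - b) = 1 := by
      rw [sub_eq_add_neg, ← tv_mul_tv, h3, tv_mul_tv, add_neg_cancel, tv_zero_right]
    exact sub_eq_zero.1 ((tv_eq_one_iff he0 _).1 h4)
  by_cases hall : ∀ a : F, β (mkq (tv e a)) ∈ Xb e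
  · left
    apply Subgroup.eq_of_le_of_card_ge
    · rintro _ ⟨y, ⟨x, hx, rfl⟩, rfl⟩
      obtain ⟨a, rfl⟩ := mem_rootGroup.1 hx
      exact hall a
    · rw [hcardA]
  · right
    rw [not_forall] at hall
    obtain ⟨a₁, ha₁⟩ := hall
    obtain ⟨w₁, s₁, hw₁, hor₁, heq₁⟩ := key a₁
    have hw₁0 : w₁ ≠ 0 := by
      rintro rfl
      apply ha₁
      rw [heq₁, ← tv_eq_sgG]
      exact ⟨_, mem_rootGroup.2 ⟨s₁, rfl⟩, rfl⟩
    have hs₁ : s₁ = 0 := by
      rcases hor₁ with h | h
      · exact absurd h hw₁0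
      · exact h
    subst hs₁
    refine ⟨w₁, hw₁, hw₁0, ?_⟩
    have hcardY : Nat.card (Yb e w₁) ≤ Nat.card F := by
      apply Nat.card_le_card_of_surjective
        (fun b : F => (⟨mkq (sgG e (b • w₁) 0),
          ⟨_, (mem_Yg hw₁.symm1 _).2 ⟨b, rfl⟩, rfl⟩⟩ : Yb e w₁))
      rintro ⟨_, ⟨g, hg, rfl⟩⟩
      obtain ⟨b, rfl⟩ := (mem_Yg hw₁.symm1 g).1 hg
      exact ⟨b, rfl⟩
    apply Subgroup.eq_of_le_of_card_ge
    · rintro _ ⟨y, ⟨x, hx, rfl⟩, rfl⟩
      obtain ⟨a, rfl⟩ := mem_rootGroup.1 hx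
      rw [MulEquiv.coe_toMonoidHom]
      obtain ⟨w, s, hw, hor, heq⟩ := key a
      obtain ⟨w', s', hw', hor', heq'⟩ := key (a + a₁)
      have h3 : sgG e w' s' = sgG e (w + w₁) (s + 0 + Bf w₁ w) := by
        apply mkq_injective_of_two h2
        rw [← heq', ← tv_mul_tv, map_mul, map_mul, heq, heq₁, ← map_mul,
          sgG_mul hw.symm1 hw₁.symm1]
      obtain ⟨h4, h5⟩ := sgG_inj hfe hw' (hw.add hw₁) h3
      rw [add_zero] at h5
      rw [heq]
      by_cases hw0 : w = 0
      · subst hw0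
        rw [zero_add] at h4
        rw [Bf_zero_right, add_zero] at h5
        have hs : s = 0 := by
          rcases hor' with h | h
          · exact absurd (h4 ▸ h) hw₁0
          · rw [← h5]; exact h
        subst hs
        rw [sgG_zero, map_one]
        exact (Yb e w₁).one_mem
      · have hs : s = 0 := by
          rcases hor with h | h
          · exact absurd h hw0
          · exact h
        subst hs
        rw [zero_add] at h5
        have hline : ∃ b : F, w = b • w₁ := by
          rcases hor' with h | h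
          · refine ⟨-1, ?_⟩
            rw [h4] at h
            rw [neg_one_smul]
            exact eq_neg_of_add_eq_zero_left h
          · rw [h5] at h
            exact line_of_orth hfe hw hw₁ hw₁0 h
        obtain ⟨b, rfl⟩ := hline
        exact ⟨_, (mem_Yg hw₁.symm1 _).2 ⟨b, rfl⟩, rfl⟩
    · rw [hcardA]
      exact le_trans hcardY hcardX

end kl

end Cfsg.Agent.Helper2.SpA
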