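import Mathlib
import Cfsg.Agent.Lib.Helper2.Spa24

set_option autoImplicit false
set_option linter.unusedSimpArgs false
set_option linter.unusedVariables false
set_option linter.unusedSectionVars false

/-! Automorphisms of the symplectic groups, part 25: in characteristic two and dimension four the
standard automorphisms form a subgroup of index at most two. -/

namespace Cfsg.Agent.Helper2.SpA

open Matrix Cfsg.Agent.Helper2.Symp Cfsg.Agent.Helper2.PU
open scoped MatrixGroups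

section single

variable {m : ℕ} {F : Type*} [Field F] [Finite F] (p : ℕ) [Fact p.Prime] [CharP F p]
  {e f : Fin m ⊕ Fin m → F} (hfe : Bf f e = 1)

include p hfe in
/-- an automorphism mapping the image of the root group of `e` to the image of a root group is,
up to an inner automorphism, one fixing the images of the root groups of `e` and `f` -/
theorem exists_normal_form_single (α : MulAut (PGq m F))
    (hB : ∃ x : Matrix.symplecticGroup (Fin m) F, (Xb e).map α.toMonoidHom = Xb (x • e)) :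
    ∃ (y : Matrix.symplecticGroup (Fin m) F) (α' : MulAut (PGq m F)),
      α = MulAut.conj (mkq y) * α' ∧
      (Xb e).map α'.toMonoidHom = Xb e ∧ (Xb f).map α'.toMonoidHom = Xb f := by
  have he0 : e ≠ 0 := ne_zero_of_Bf_eq_one' hfe
  have hf0 : f ≠ 0 := ne_zero_of_Bf_eq_one hfe
  obtain ⟨x₁, hx₁⟩ := hB
  rw [← Xb_conj x₁ e] at hx₁
  obtain ⟨α₁, hα₁⟩ : ∃ α₁ : MulAut (PGq m F), α₁ = (MulAut.conj (mkq x₁))⁻¹ * α := ⟨_, rfl⟩
  have hα₁e : (Xb e).map α₁.toMonoidHom = Xb e := by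
    rw [hα₁, map_mul_aut, hx₁]
    exact map_conj_inv_of_eq _ _ _ rfl
  obtain ⟨y₀, -, hy₀⟩ := trans_vec (isND_top (m := m) (F := F)) (Submodule.mem_top (x := e))
    (Submodule.mem_top (x := f)) he0 hf0
  obtain ⟨y', hy'⟩ := mkq_surjective (α₁ (mkq y₀))
  obtain ⟨v, hv⟩ : ∃ v, v = y' • e := ⟨_, rfl⟩
  have hα₁f : (Xb f).map α₁.toMonoidHom = Xb v := by
    rw [← hy₀, ← Xb_conj y₀ e, map_conj_comm, hα₁e, ← hy', Xb_conj y' e, hv]
  have hve : Bf v e ≠ 0 := Bf_ne_zero_of_map p hfe α₁ hα₁e hα₁f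
  obtain ⟨v', hv'⟩ : ∃ v', v' = (Bf v e)⁻¹ • v := ⟨_, rfl⟩
  have hv'e : Bf v' e = 1 := by rw [hv', Bf_smul_left, inv_mul_cancel₀ hve]
  obtain ⟨q, hq, hqf⟩ := exists_Qg_map hfe hv'e
  have hXv : Xb v = Xb (q • f) := by
    rw [hqf, hv', Xb_smul_vec v (inv_ne_zero hve)]
  refine ⟨x₁ * q, (MulAut.conj (mkq q))⁻¹ * α₁, ?_, ?_, ?_⟩
  · rw [hα₁, map_mul, map_mul]
    group
  · rw [map_mul_aut, hα₁e]
    apply map_conj_inv_of_eq
    rw [Xb_conj q e, hq.1]
  · rw [map_mul_aut, hα₁f, hXv]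
    apply map_conj_inv_of_eq
    rw [Xb_conj q f]

include p hfe in
/-- an automorphism mapping the image of the root group of `e` to the image of a root group is
standard -/
theorem mem_GamS_of_long (hd : ∃ d, InW e f d ∧ d ≠ 0)
    (hW4 : ∃ w w', InW e f w ∧ InW e f w' ∧ w ≠ 0 ∧ w' ≠ 0 ∧ w + w' ≠ 0 ∧ Bf w' w = 0)
    (α : MulAut (PGq m F))
    (hB : ∃ x : Matrix.symplecticGroup (Fin m) F, (Xb e).map α.toMonoidHom = Xb (x • e)) :
    α ∈ GamS m F := by
  obtain ⟨y, α', hα, hαe, hαf⟩ := exists_normal_form_single p hfe α hB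
  obtain ⟨σ, g₀, hg₀, h⟩ := eq_stdHom_of_normalised p hfe hd hW4 α' hαe hαf
  have h1 : α' ∈ GamS m F := by
    refine ⟨σ, g₀, hg₀, ?_⟩
    ext x
    obtain ⟨s, rfl⟩ := mkq_surjective x
    rw [h, stdAutQ_mk]
  rw [hα]
  exact (GamS m F).mul_mem (inn_le_GamS ⟨mkq y, rfl⟩) h1

end single

section idx

variable {F : Type*} [Field F] [Finite F] (p : ℕ) [Fact p.Prime] [CharP F p]

include p in
/-- every automorphism normalises, up to an inner automorphism, the image of a given Sylow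
subgroup -/
theorem exists_sylow_normal_form {m : ℕ} {e f : Fin m ⊕ Fin m → F} (hfe : Bf f e = 1)
    (P : Sylow p (Matrix.symplecticGroup (Fin m) F)) (α : MulAut (PGq m F)) :
    ∃ (x : Matrix.symplecticGroup (Fin m) F) (α₁ : MulAut (PGq m F)),
      α = MulAut.conj (mkq x) * α₁ ∧
      ((P : Subgroup (Matrix.symplecticGroup (Fin m) F)).map mkq).map α₁.toMonoidHom =
        (P : Subgroup (Matrix.symplecticGroup (Fin m) F)).map mkq := by
  have hfinG := finite_symp (F := F) hfe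
  have hfin : Finite (PGq m F) := Finite.of_surjective _ (mkq_surjective (m := m) (F := F))
  obtain ⟨xb, hxb⟩ := exists_conj_of_sylow p (P.mapSurjective (mkq_surjective (m := m) (F := F))) α
  obtain ⟨x, rfl⟩ := mkq_surjective xb
  rw [Sylow.coe_mapSurjective] at hxb
  refine ⟨x, (MulAut.conj (mkq x))⁻¹ * α, by rw [mul_inv_cancel_left], ?_⟩
  rw [map_mul_aut]
  have : ((P : Subgroup (Matrix.symplecticGroup (Fin m) F)).map mkq).map
      (α : MulAut (PGq m F)).toMonoidHom =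
      ((P : Subgroup (Matrix.symplecticGroup (Fin m) F)).map mkq).map
        (MulAut.conj (mkq x)).toMonoidHom := hxb
  rw [this]
  exact map_conj_inv_of_eq _ _ _ rfl

omit [Finite F] in
theorem Yb_ne_Xb (h2 : (2 : F) = 0) {e f w : Fin 2 ⊕ Fin 2 → F} (hfe : Bf f e = 1)
    (hw : InW e f w) (hw0 : w ≠ 0) : Yb e w ≠ Xb e := by
  have := nonempty_of_pair hfe
  intro h
  have h1 : mkq (sgG e w 0) ∈ Yb e w :=
    ⟨_, (mem_Yg hw.symm1 _).2 ⟨1, by rw [one_smul]⟩, rfl⟩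
  rw [h] at h1
  obtain ⟨x, hx, hxeq⟩ := h1
  obtain ⟨c, rfl⟩ := mem_rootGroup.1 hx
  have h3 := mkq_injective_of_two h2 hxeq
  rw [tv_eq_sgG] at h3
  exact hw0 (sgG_inj hfe InW.zero hw h3).1.symm

include p in
/-- **the standard automorphisms have index at most two**: the product of two non-standard
automorphisms is standard -/
theorem mul_mem_GamS_of_not_mem (h2 : (2 : F) = 0) {e f : Fin 2 ⊕ Fin 2 → F} (hfe : Bf f e = 1)
    (hlong : ∀ α : MulAut (PGq 2 F), (Xb e).map α.toMonoidHom = Xb e → α ∈ GamS 2 F)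
    (a b : MulAut (PGq 2 F)) (ha : a ∉ GamS 2 F) (hb : b ∉ GamS 2 F) : a * b ∈ GamS 2 F := by
  have hfinG := finite_symp (F := F) hfe
  obtain ⟨P, hQP⟩ := (isPGroup_Qg p e).exists_le_sylow
  obtain ⟨x, a₁, hax, ha₁P⟩ := exists_sylow_normal_form p hfe P a
  obtain ⟨y, b₁, hby, hb₁P⟩ := exists_sylow_normal_form p hfe P b
  have hinn : ∀ g : Matrix.symplecticGroup (Fin 2) F, MulAut.conj (mkq g) ∈ GamS 2 F :=
    fun g => inn_le_GamS ⟨mkq g, rfl⟩
  have ha₁ : a₁ ∉ GamS 2 F := by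
    intro h
    apply ha
    rw [hax]
    exact (GamS 2 F).mul_mem (hinn x) h
  have hb₁ : b₁ ∉ GamS 2 F := by
    intro h
    apply hb
    rw [hby]
    exact (GamS 2 F).mul_mem (hinn y) h
  have ha₁' : a₁⁻¹ ∉ GamS 2 F := fun h => ha₁ (by simpa using (GamS 2 F).inv_mem h)
  -- the three dichotomies
  obtain ⟨w', hw', hw'0, hA⟩ : ∃ w', InW e f w' ∧ w' ≠ 0 ∧
      (Xb e).map (a₁⁻¹ : MulAut (PGq 2 F)).toMonoidHom = Yb e w' := by
    rcases map_Xb_of_sylow2 p h2 hfe P.2 hQP a₁⁻¹ (map_inv_of_map_eq _ a₁ ha₁P) with h | h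
    · exact absurd (hlong _ h) ha₁'
    · exact h
  obtain ⟨w'', hw'', hw''0, hB⟩ : ∃ w'', InW e f w'' ∧ w'' ≠ 0 ∧
      (Xb e).map b₁.toMonoidHom = Yb e w'' := by
    rcases map_Xb_of_sylow2 p h2 hfe P.2 hQP b₁ hb₁P with h | h
    · exact absurd (hlong _ h) hb₁
    · exact h
  have hA' : (Yb e w').map a₁.toMonoidHom = Xb e := by
    rw [← hA, ← map_mul_aut, mul_inv_cancel]
    ext z
    simp
  obtain ⟨l, hl, hlw⟩ := trans_vec (isND_Wsub hfe) hw'' hw' hw''0 hw'0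
  have hle : l • e = e := smul_eq_of_mem_tvGroup hl e (fun x hx => InW.symm1 hx)
  have hδ : (Xb e).map (a₁ * MulAut.conj (mkq l) * b₁).toMonoidHom = Xb e := by
    rw [map_mul_aut, hB, map_mul_aut, Yb_conj, hle, hlw, hA']
  have hδmem := hlong _ hδ
  have hn : ∀ (φ : MulAut (PGq 2 F)) (g : Matrix.symplecticGroup (Fin 2) F),
      φ * MulAut.conj (mkq g) * φ⁻¹ ∈ GamS 2 F := by
    intro φ g
    apply inn_le_GamS
    exact (Cfsg.innNormal (PGq 2 F)).conj_mem _ ⟨mkq g, rfl⟩ φ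
  have heq : a * b = MulAut.conj (mkq x) * (a₁ * MulAut.conj (mkq y) * a₁⁻¹) *
      (a₁ * MulAut.conj (mkq l) * a₁⁻¹)⁻¹ * (a₁ * MulAut.conj (mkq l) * b₁) := by
    rw [hax, hby]
    group
  rw [heq]
  exact (GamS 2 F).mul_mem ((GamS 2 F).mul_mem ((GamS 2 F).mul_mem (hinn x) (hn a₁ y))
    ((GamS 2 F).inv_mem (hn a₁ l))) hδmem

end idx

end Cfsg.Agent.Helper2.SpA
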