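import Mathlib
import Cfsg.Agent.Lib.Helper2.Spa25

set_option autoImplicit false
set_option linter.unusedSimpArgs false
set_option linter.unusedVariables false
set_option linter.unusedSectionVars false

/-! Automorphisms of the symplectic groups, part 26: the exceptional endomorphism of the
four-dimensional symplectic group in characteristic two, built from the second exterior power
(the two by two minors). -/

namespace Cfsg.Agent.Helper2.SpA

open Matrix Cfsg.Agent.Helper2.Symp Cfsg.Agent.Helper2.PU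
open scoped MatrixGroups

section wedge

variable {F : Type*} [Field F]

/-- first index of the pair attached to a coordinate -/
def pos1 : Fin 2 ⊕ Fin 2 → Fin 2 ⊕ Fin 2 :=
  Sum.elim ![Sum.inl 0, Sum.inl 0] ![Sum.inr 0, Sum.inl 1]

/-- second index of the pair attached to a coordinate -/
def pos2 : Fin 2 ⊕ Fin 2 → Fin 2 ⊕ Fin 2 :=
  Sum.elim ![Sum.inl 1, Sum.inr 1] ![Sum.inr 1, Sum.inr 0]

/-- the relevant four coordinates of the exterior product of two vectors -/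
def wed (u v : Fin 2 ⊕ Fin 2 → F) : Fin 2 ⊕ Fin 2 → F :=
  fun i => u (pos1 i) * v (pos2 i) - u (pos2 i) * v (pos1 i)

theorem Bf_four (u v : Fin 2 ⊕ Fin 2 → F) :
    Bf u v = -(u (Sum.inl 0) * v (Sum.inr 0)) + u (Sum.inr 0) * v (Sum.inl 0)
      - u (Sum.inl 1) * v (Sum.inr 1) + u (Sum.inr 1) * v (Sum.inl 1) := by
  simp only [Bf_def, Matrix.J, dotProduct, Matrix.mulVec, Fintype.sum_sum_type,
    Fin.sum_univ_two, Matrix.fromBlocks_apply₁₁, Matrix.fromBlocks_apply₁₂,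
    Matrix.fromBlocks_apply₂₁, Matrix.fromBlocks_apply₂₂, Matrix.zero_apply, Matrix.neg_apply,
    Matrix.one_apply]
  simp
  ring

theorem wed_apply_a (u v : Fin 2 ⊕ Fin 2 → F) :
    wed u v (Sum.inl 0) = u (Sum.inl 0) * v (Sum.inl 1) - u (Sum.inl 1) * v (Sum.inl 0) := rfl

theorem wed_apply_b (u v : Fin 2 ⊕ Fin 2 → F) :
    wed u v (Sum.inl 1) = u (Sum.inl 0) * v (Sum.inr 1) - u (Sum.inr 1) * v (Sum.inl 0) := rfl

theorem wed_apply_c (u v : Fin 2 ⊕ Fin 2 → F) :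
    wed u v (Sum.inr 0) = u (Sum.inr 0) * v (Sum.inr 1) - u (Sum.inr 1) * v (Sum.inr 0) := rfl

theorem wed_apply_d (u v : Fin 2 ⊕ Fin 2 → F) :
    wed u v (Sum.inr 1) = u (Sum.inl 1) * v (Sum.inr 0) - u (Sum.inr 0) * v (Sum.inl 1) := rfl

/-- the form on exterior products of orthogonal vectors, in characteristic two -/
theorem Bf_wed_wed (h2 : (2 : F) = 0) {u v x y : Fin 2 ⊕ Fin 2 → F} (huv : Bf u v = 0)
    (hxy : Bf x y = 0) :
    Bf (wed u v) (wed x y) = Bf u x * Bf v y + Bf u y * Bf v x := by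
  rw [Bf_four] at huv hxy
  rw [Bf_four (wed u v), Bf_four u x, Bf_four v y, Bf_four u y, Bf_four v x]
  simp only [wed_apply_a, wed_apply_b, wed_apply_c, wed_apply_d]
  linear_combination
    (-(x (Sum.inl 0) * y (Sum.inr 0) - x (Sum.inr 0) * y (Sum.inl 0)) -
      (-(x (Sum.inl 0) * y (Sum.inr 0)) + x (Sum.inr 0) * y (Sum.inl 0)
        - x (Sum.inl 1) * y (Sum.inr 1) + x (Sum.inr 1) * y (Sum.inl 1))) * huv +
    (-(u (Sum.inl 0) * v (Sum.inr 0) - u (Sum.inr 0) * v (Sum.inl 0))) * hxy +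
    (-(u (Sum.inl 0) * v (Sum.inl 1) - u (Sum.inl 1) * v (Sum.inl 0)) *
        (x (Sum.inr 0) * y (Sum.inr 1) - x (Sum.inr 1) * y (Sum.inr 0))
      - (u (Sum.inl 0) * v (Sum.inr 1) - u (Sum.inr 1) * v (Sum.inl 0)) *
        (x (Sum.inl 1) * y (Sum.inr 0) - x (Sum.inr 0) * y (Sum.inl 1))
      - (u (Sum.inl 0) * v (Sum.inr 0) - u (Sum.inr 0) * v (Sum.inl 0)) *
        (x (Sum.inl 0) * y (Sum.inr 0) - x (Sum.inr 0) * y (Sum.inl 0))
      - (-(u (Sum.inl 0) * y (Sum.inr 0)) + u (Sum.inr 0) * y (Sum.inl 0)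
        - u (Sum.inl 1) * y (Sum.inr 1) + u (Sum.inr 1) * y (Sum.inl 1)) *
        (-(v (Sum.inl 0) * x (Sum.inr 0)) + v (Sum.inr 0) * x (Sum.inl 0)
        - v (Sum.inl 1) * x (Sum.inr 1) + v (Sum.inr 1) * x (Sum.inl 1))) * h2

/-- the matrix of two by two minors -/
def gamM (g : Mt 2 F) : Mt 2 F :=
  Matrix.of fun i j =>
    g (pos1 i) (pos1 j) * g (pos2 i) (pos2 j) - g (pos2 i) (pos1 j) * g (pos1 i) (pos2 j)

theorem gamM_apply (g : Mt 2 F) (i j : Fin 2 ⊕ Fin 2) :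
    gamM g i j =
      g (pos1 i) (pos1 j) * g (pos2 i) (pos2 j) - g (pos2 i) (pos1 j) * g (pos1 i) (pos2 j) := rfl

theorem gamM_mulVec_single (g : Mt 2 F) (j : Fin 2 ⊕ Fin 2) :
    gamM g *ᵥ Pi.single j 1 =
      wed (g *ᵥ Pi.single (pos1 j) 1) (g *ᵥ Pi.single (pos2 j) 1) := by
  funext i
  simp only [Matrix.mulVec_single_one, Matrix.col_apply, gamM_apply, wed]

theorem wed_single (j : Fin 2 ⊕ Fin 2) :
    wed (Pi.single (pos1 j) (1 : F)) (Pi.single (pos2 j) 1) = Pi.single j 1 := by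
  funext i
  rcases j with j | j <;> fin_cases j <;> rcases i with i | i <;> fin_cases i <;>
    simp [wed, pos1, pos2]

/-- the matrix of minors describes the action on exterior products of orthogonal vectors -/
theorem gamM_mulVec_wed (h2 : (2 : F) = 0) (g : Mt 2 F)
    (hrow : ∀ i, Bf (fun k => g (pos1 i) k) (fun k => g (pos2 i) k) = 0)
    {x y : Fin 2 ⊕ Fin 2 → F} (hxy : Bf x y = 0) :
    gamM g *ᵥ wed x y = wed (g *ᵥ x) (g *ᵥ y) := by
  rw [Bf_four] at hxy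
  funext i
  have h1 := hrow i
  rw [Bf_four] at h1
  rcases i with i | i <;> fin_cases i
  · simp only [Matrix.mulVec, dotProduct, Fintype.sum_sum_type, Fin.sum_univ_two, gamM_apply,
      wed, pos1, pos2, Sum.elim_inl, Sum.elim_inr, Matrix.cons_val_zero, Matrix.cons_val_one,
      Fin.zero_eta, Fin.mk_one] at h1 ⊢
    linear_combination (x (Sum.inl 1) * y (Sum.inr 1) - x (Sum.inr 1) * y (Sum.inl 1)) * h1 + (g (Sum.inl 0) (Sum.inl 0) * g (Sum.inl 1) (Sum.inr 0) - g (Sum.inl 0) (Sum.inr 0) * g (Sum.inl 1) (Sum.inl 0)) * hxy + ((g (Sum.inl 0) (Sum.inl 0) * g (Sum.inl 1) (Sum.inr 0) - g (Sum.inl 0) (Sum.inr 0) * g (Sum.inl 1) (Sum.inl 0)) * (x (Sum.inl 1) * y (Sum.inr 1) - x (Sum.inr 1) * y (Sum.inl 1))) * h2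
  · simp only [Matrix.mulVec, dotProduct, Fintype.sum_sum_type, Fin.sum_univ_two, gamM_apply,
      wed, pos1, pos2, Sum.elim_inl, Sum.elim_inr, Matrix.cons_val_zero, Matrix.cons_val_one,
      Fin.zero_eta, Fin.mk_one] at h1 ⊢
    linear_combination (x (Sum.inl 1) * y (Sum.inr 1) - x (Sum.inr 1) * y (Sum.inl 1)) * h1 + (g (Sum.inl 0) (Sum.inl 0) * g (Sum.inr 1) (Sum.inr 0) - g (Sum.inl 0) (Sum.inr 0) * g (Sum.inr 1) (Sum.inl 0)) * hxy + ((g (Sum.inl 0) (Sum.inl 0) * g (Sum.inr 1) (Sum.inr 0) - g (Sum.inl 0) (Sum.inr 0) * g (Sum.inr 1) (Sum.inl 0)) * (x (Sum.inl 1) * y (Sum.inr 1) - x (Sum.inr 1) * y (Sum.inl 1))) * h2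
  · simp only [Matrix.mulVec, dotProduct, Fintype.sum_sum_type, Fin.sum_univ_two, gamM_apply,
      wed, pos1, pos2, Sum.elim_inl, Sum.elim_inr, Matrix.cons_val_zero, Matrix.cons_val_one,
      Fin.zero_eta, Fin.mk_one] at h1 ⊢
    linear_combination (x (Sum.inl 1) * y (Sum.inr 1) - x (Sum.inr 1) * y (Sum.inl 1)) * h1 + (g (Sum.inr 0) (Sum.inl 0) * g (Sum.inr 1) (Sum.inr 0) - g (Sum.inr 0) (Sum.inr 0) * g (Sum.inr 1) (Sum.inl 0)) * hxy + ((g (Sum.inr 0) (Sum.inl 0) * g (Sum.inr 1) (Sum.inr 0) - g (Sum.inr 0) (Sum.inr 0) * g (Sum.inr 1) (Sum.inl 0)) * (x (Sum.inl 1) * y (Sum.inr 1) - x (Sum.inr 1) * y (Sum.inl 1))) * h2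
  · simp only [Matrix.mulVec, dotProduct, Fintype.sum_sum_type, Fin.sum_univ_two, gamM_apply,
      wed, pos1, pos2, Sum.elim_inl, Sum.elim_inr, Matrix.cons_val_zero, Matrix.cons_val_one,
      Fin.zero_eta, Fin.mk_one] at h1 ⊢
    linear_combination (x (Sum.inl 1) * y (Sum.inr 1) - x (Sum.inr 1) * y (Sum.inl 1)) * h1 + (g (Sum.inl 1) (Sum.inl 0) * g (Sum.inr 0) (Sum.inr 0) - g (Sum.inl 1) (Sum.inr 0) * g (Sum.inr 0) (Sum.inl 0)) * hxy + ((g (Sum.inl 1) (Sum.inl 0) * g (Sum.inr 0) (Sum.inr 0) - g (Sum.inl 1) (Sum.inr 0) * g (Sum.inr 0) (Sum.inl 0)) * (x (Sum.inl 1) * y (Sum.inr 1) - x (Sum.inr 1) * y (Sum.inl 1))) * h2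

end wedge

section hom

variable {F : Type*} [Field F]

theorem Bf_single_pos (i : Fin 2 ⊕ Fin 2) :
    Bf (Pi.single (pos1 i) (1 : F)) (Pi.single (pos2 i) 1) = 0 := by
  rcases i with i | i <;> fin_cases i <;> simp [Bf_four, pos1, pos2]

theorem Bf_rows (g : Matrix.symplecticGroup (Fin 2) F) (i : Fin 2 ⊕ Fin 2) :
    Bf (fun k => (g : Mt 2 F) (pos1 i) k) (fun k => (g : Mt 2 F) (pos2 i) k) = 0 := by
  have h1 := Bf_mulVec (SymplecticGroup.transpose_mem g.2) (Pi.single (pos1 i) 1)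
    (Pi.single (pos2 i) 1)
  rw [Matrix.mulVec_single_one, Matrix.mulVec_single_one, Bf_single_pos] at h1
  exact h1

theorem gamM_mul (h2 : (2 : F) = 0) (g h : Matrix.symplecticGroup (Fin 2) F) :
    gamM ((g : Mt 2 F) * (h : Mt 2 F)) = gamM (g : Mt 2 F) * gamM (h : Mt 2 F) := by
  apply Matrix.ext_of_mulVec_single
  intro j
  have h3 : Bf ((h : Mt 2 F) *ᵥ Pi.single (pos1 j) 1) ((h : Mt 2 F) *ᵥ Pi.single (pos2 j) 1) = 0 := by
    rw [Bf_mulVec h.2, Bf_single_pos]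
  rw [gamM_mulVec_single, ← Matrix.mulVec_mulVec, ← Matrix.mulVec_mulVec, ← Matrix.mulVec_mulVec,
    gamM_mulVec_single (h : Mt 2 F), gamM_mulVec_wed h2 (g : Mt 2 F) (Bf_rows g) h3]

theorem gamM_one : gamM (1 : Mt 2 F) = 1 := by
  apply Matrix.ext_of_mulVec_single
  intro j
  rw [gamM_mulVec_single, Matrix.one_mulVec, Matrix.one_mulVec, Matrix.one_mulVec, wed_single]

/-- a matrix preserving the form on the standard basis is symplectic -/
theorem mem_symplecticGroup_of_single {m : ℕ} {A : Matrix (Fin m ⊕ Fin m) (Fin m ⊕ Fin m) F}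
    (h : ∀ i j : Fin m ⊕ Fin m, Bf (A *ᵥ Pi.single i 1) (A *ᵥ Pi.single j 1) =
      Bf (Pi.single i (1 : F)) (Pi.single j 1)) :
    A ∈ Matrix.symplecticGroup (Fin m) F := by
  rw [SymplecticGroup.mem_iff']
  ext i j
  have h1 := h i j
  simp only [Bf_def] at h1
  rw [← Matrix.vecMul_transpose A (Pi.single i 1), ← Matrix.dotProduct_mulVec,
    Matrix.mulVec_mulVec, Matrix.mulVec_mulVec] at h1
  simpa [Matrix.mulVec_single_one, dotProduct_comm] using h1

theorem gamM_mem (h2 : (2 : F) = 0) (g : Matrix.symplecticGroup (Fin 2) F) :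
    gamM (g : Mt 2 F) ∈ Matrix.symplecticGroup (Fin 2) F := by
  apply mem_symplecticGroup_of_single
  intro i j
  have hi : Bf ((g : Mt 2 F) *ᵥ Pi.single (pos1 i) 1) ((g : Mt 2 F) *ᵥ Pi.single (pos2 i) 1) = 0 := by
    rw [Bf_mulVec g.2, Bf_single_pos]
  have hj : Bf ((g : Mt 2 F) *ᵥ Pi.single (pos1 j) 1) ((g : Mt 2 F) *ᵥ Pi.single (pos2 j) 1) = 0 := by
    rw [Bf_mulVec g.2, Bf_single_pos]
  rw [gamM_mulVec_single, gamM_mulVec_single, Bf_wed_wed h2 hi hj, Bf_mulVec g.2, Bf_mulVec g.2,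
    Bf_mulVec g.2, Bf_mulVec g.2, ← Bf_wed_wed h2 (Bf_single_pos i) (Bf_single_pos j), wed_single,
    wed_single]

/-- **the exceptional endomorphism** of the four-dimensional symplectic group in
characteristic two -/
noncomputable def gammaHom (h2 : (2 : F) = 0) :
    Matrix.symplecticGroup (Fin 2) F →* Matrix.symplecticGroup (Fin 2) F where
  toFun g := ⟨gamM (g : Mt 2 F), gamM_mem h2 g⟩
  map_one' := Subtype.ext gamM_one
  map_mul' g h := Subtype.ext (gamM_mul h2 g h)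

theorem gammaHom_coe (h2 : (2 : F) = 0) (g : Matrix.symplecticGroup (Fin 2) F) :
    ((gammaHom h2 g : Matrix.symplecticGroup (Fin 2) F) : Mt 2 F) = gamM (g : Mt 2 F) := rfl

/-- the action of the exceptional endomorphism on the standard basis -/
theorem gammaHom_smul_single (h2 : (2 : F) = 0) (g : Matrix.symplecticGroup (Fin 2) F)
    (j : Fin 2 ⊕ Fin 2) :
    gammaHom h2 g • (Pi.single j 1 : Fin 2 ⊕ Fin 2 → F) =
      wed (g • Pi.single (pos1 j) 1) (g • Pi.single (pos2 j) 1) :=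
  gamM_mulVec_single (g : Mt 2 F) j

/-- the action of the exceptional endomorphism on exterior products -/
theorem gammaHom_smul_wed (h2 : (2 : F) = 0) (g : Matrix.symplecticGroup (Fin 2) F)
    {x y : Fin 2 ⊕ Fin 2 → F} (hxy : Bf x y = 0) :
    gammaHom h2 g • wed x y = wed (g • x) (g • y) :=
  gamM_mulVec_wed h2 (g : Mt 2 F) (Bf_rows g) hxy

end hom

end Cfsg.Agent.Helper2.SpA
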