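import Mathlib
import Cfsg.Agent.Lib.Helper2.Spa26

set_option autoImplicit false
set_option linter.unusedSimpArgs false
set_option linter.unusedVariables false
set_option linter.unusedSectionVars false

/-! Automorphisms of the symplectic groups, part 27: the exceptional endomorphism interchanges
long and short root elements; it is injective. -/

namespace Cfsg.Agent.Helper2.SpA

open Matrix Cfsg.Agent.Helper2.Symp Cfsg.Agent.Helper2.PU
open scoped MatrixGroups

section values

variable {F : Type*} [Field F]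

theorem ext_smul_single {m : ℕ} {g h : Matrix.symplecticGroup (Fin m) F}
    (hgh : ∀ j : Fin m ⊕ Fin m, g • (Pi.single j 1 : Fin m ⊕ Fin m → F) = h • Pi.single j 1) :
    g = h :=
  Subtype.ext (Matrix.ext_of_mulVec_single hgh)

/-- the exceptional endomorphism maps a long root element to a short root element -/
theorem gammaHom_tv_e (h2 : (2 : F) = 0) (t : F) :
    gammaHom h2 (tv (eV (0 : Fin 2)) t) = sgG (eV (0 : Fin 2)) (t • eV (1 : Fin 2)) 0 := by
  have hew : Bf (eV (0 : Fin 2) : Fin 2 ⊕ Fin 2 → F) (t • eV (1 : Fin 2)) = 0 := by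
    rw [Bf_smul_right, Bf_eV_eV, mul_zero]
  apply ext_smul_single
  intro j
  rw [gammaHom_smul_single, sgG_smul hew, tv_smul, tv_smul]
  funext i
  rcases j with j | j <;> fin_cases j <;> rcases i with i | i <;> fin_cases i <;>
    simp [wed, pos1, pos2, Bf_four, eV]
  linear_combination (-t) * h2

/-- the exceptional endomorphism maps a short root element to a long root element -/
theorem gammaHom_sg_e (h2 : (2 : F) = 0) (t : F) :
    gammaHom h2 (sgG (eV (0 : Fin 2)) (t • eV (1 : Fin 2)) 0) = tv (eV (0 : Fin 2)) (t * t) := by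
  have hew : Bf (eV (0 : Fin 2) : Fin 2 ⊕ Fin 2 → F) (t • eV (1 : Fin 2)) = 0 := by
    rw [Bf_smul_right, Bf_eV_eV, mul_zero]
  apply ext_smul_single
  intro j
  rw [gammaHom_smul_single, sgG_smul hew, sgG_smul hew, tv_smul]
  funext i
  rcases j with j | j <;> fin_cases j <;> rcases i with i | i <;> fin_cases i <;>
    simp [wed, pos1, pos2, Bf_four, eV]
  linear_combination (-(t * t)) * h2

theorem gammaHom_tv_f (h2 : (2 : F) = 0) (t : F) :
    gammaHom h2 (tv (fV (0 : Fin 2)) t) = sgG (fV (0 : Fin 2)) (t • fV (1 : Fin 2)) 0 := by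
  have hew : Bf (fV (0 : Fin 2) : Fin 2 ⊕ Fin 2 → F) (t • fV (1 : Fin 2)) = 0 := by
    rw [Bf_smul_right, Bf_four]
    simp [fV]
  apply ext_smul_single
  intro j
  rw [gammaHom_smul_single, sgG_smul hew, tv_smul, tv_smul]
  funext i
  rcases j with j | j <;> fin_cases j <;> rcases i with i | i <;> fin_cases i <;>
    simp [wed, pos1, pos2, Bf_four, fV]
  linear_combination t * h2

/-- the square of the exceptional endomorphism on a long root group -/
theorem gammaHom_gammaHom_tv_e (h2 : (2 : F) = 0) (t : F) :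
    gammaHom h2 (gammaHom h2 (tv (eV (0 : Fin 2)) t)) = tv (eV (0 : Fin 2)) (t * t) := by
  rw [gammaHom_tv_e, gammaHom_sg_e]

/-- the images of two opposite long root elements do not commute -/
theorem gammaHom_not_comm (h2 : (2 : F) = 0) :
    gammaHom h2 (tv (eV (0 : Fin 2)) 1) * gammaHom h2 (tv (fV (0 : Fin 2)) 1) ≠
      gammaHom h2 (tv (fV (0 : Fin 2)) 1) * gammaHom h2 (tv (eV (0 : Fin 2)) 1) := by
  have hew : Bf (eV (0 : Fin 2) : Fin 2 ⊕ Fin 2 → F) ((1 : F) • eV (1 : Fin 2)) = 0 := by
    rw [Bf_smul_right, Bf_eV_eV, mul_zero]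
  have hew' : Bf (fV (0 : Fin 2) : Fin 2 ⊕ Fin 2 → F) ((1 : F) • fV (1 : Fin 2)) = 0 := by
    rw [Bf_smul_right, Bf_four]
    simp [fV]
  intro h
  rw [gammaHom_tv_e, gammaHom_tv_f] at h
  have h1 := congrArg (fun g : Matrix.symplecticGroup (Fin 2) F =>
    (g • (eV (0 : Fin 2) : Fin 2 ⊕ Fin 2 → F)) (Sum.inl 0)) h
  simp only [mul_smul, sgG_smul hew, sgG_smul hew'] at h1
  simp [Bf_four, eV, fV] at h1

end values

section inj

variable {F : Type*} [Field F]

open MulAction in
open scoped commutatorElement in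
/-- the exceptional endomorphism is injective -/
theorem gammaHom_injective (h2 : (2 : F) = 0) : Function.Injective (gammaHom h2) := by
  have hprim := isPreprimitive_proj (m := 2) (F := F)
  rw [← MonoidHom.ker_eq_bot_iff]
  obtain ⟨N, hN⟩ : ∃ N : Subgroup (Matrix.symplecticGroup (Fin 2) F), N = (gammaHom h2).ker :=
    ⟨_, rfl⟩
  have hNn : N.Normal := by
    rw [hN]
    exact MonoidHom.normal_ker _
  rw [← hN]
  by_cases hfix : fixedPoints N (Projectivization F (Fin 2 ⊕ Fin 2 → F)) = Set.univ
  · rw [eq_bot_iff]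
    intro g hgN
    have hgZ : g ∈ Subgroup.center (Matrix.symplecticGroup (Fin 2) F) := by
      apply mem_center_of_fixes
      intro p
      have hp : p ∈ fixedPoints N (Projectivization F (Fin 2 ⊕ Fin 2 → F)) := by rw [hfix]; trivial
      exact hp ⟨g, hgN⟩
    rw [Subgroup.mem_bot]
    have hneg : (-1 : F) = 1 := by linear_combination (-1 : F) * h2
    rcases (Cfsg.Agent.Helper2.Sp.mem_center_iff _).1 hgZ with h | h
    · exact h
    · rw [h]
      exact Cfsg.Agent.Helper2.Sp.negOne_eq_one_iff.2 hneg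
  · exfalso
    have h1 := (spIwasawa 2 F).commutator_le N hfix
    have h3 : ⁅tv (eV (0 : Fin 2) : Fin 2 ⊕ Fin 2 → F) 1, tv (fV (0 : Fin 2)) 1⁆ ∈ N := by
      apply h1
      rw [commutator_def]
      exact Subgroup.commutator_mem_commutator (Subgroup.mem_top _) (Subgroup.mem_top _)
    rw [hN, MonoidHom.mem_ker, commutatorElement_def, map_mul, map_mul, map_mul, map_inv,
      map_inv] at h3
    apply gammaHom_not_comm h2
    have h4 := congrArg (fun z => z * gammaHom h2 (tv (fV (0 : Fin 2)) 1) *
      gammaHom h2 (tv (eV (0 : Fin 2)) 1)) h3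
    simpa [mul_assoc] using h4

end inj

end Cfsg.Agent.Helper2.SpA
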