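import Mathlib
import Cfsg.Agent.Lib.Helper2.Spa27

set_option autoImplicit false
set_option linter.unusedSimpArgs false
set_option linter.unusedVariables false
set_option linter.unusedSectionVars false

/-! Automorphisms of the symplectic groups, part 28: the exceptional automorphism of the
four-dimensional projective symplectic group in characteristic two; it is not standard, and
short root elements satisfy the word property. -/

namespace Cfsg.Agent.Helper2.SpA

open Matrix Cfsg.Agent.Helper2.Symp Cfsg.Agent.Helper2.PU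
open scoped MatrixGroups

section bar

variable {F : Type*} [Field F] [Finite F]

/-- the exceptional automorphism of the symplectic group -/
noncomputable def gammaEquiv (h2 : (2 : F) = 0) :
    Matrix.symplecticGroup (Fin 2) F ≃* Matrix.symplecticGroup (Fin 2) F :=
  have := finite_symp' (m := 2) (F := F)
  MulEquiv.ofBijective (gammaHom h2)
    ⟨gammaHom_injective h2, Finite.surjective_of_injective (gammaHom_injective h2)⟩

theorem gammaEquiv_apply (h2 : (2 : F) = 0) (g : Matrix.symplecticGroup (Fin 2) F) :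
    gammaEquiv h2 g = gammaHom h2 g := rfl

omit [Finite F] in
/-- in characteristic two the central quotient map is an isomorphism -/
noncomputable def mkqEquiv (h2 : (2 : F) = 0) :
    Matrix.symplecticGroup (Fin 2) F ≃* PGq 2 F :=
  MulEquiv.ofBijective mkq ⟨mkq_injective_of_two h2, mkq_surjective⟩

omit [Finite F] in
theorem mkqEquiv_apply (h2 : (2 : F) = 0) (g : Matrix.symplecticGroup (Fin 2) F) :
    mkqEquiv h2 g = mkq g := rfl

/-- the exceptional automorphism of the projective symplectic group -/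
noncomputable def gammaBar (h2 : (2 : F) = 0) : MulAut (PGq 2 F) :=
  (mkqEquiv h2).symm.trans ((gammaEquiv h2).trans (mkqEquiv h2))

theorem gammaBar_mk (h2 : (2 : F) = 0) (g : Matrix.symplecticGroup (Fin 2) F) :
    gammaBar h2 (mkq g) = mkq (gammaHom h2 g) := by
  unfold gammaBar
  rw [MulEquiv.trans_apply, MulEquiv.trans_apply, ← mkqEquiv_apply h2 g,
    MulEquiv.symm_apply_apply, gammaEquiv_apply, mkqEquiv_apply]

omit [Finite F] in
theorem eV_zero_one_indep {v : Fin 2 ⊕ Fin 2 → F} {a b : F}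
    (h0 : (eV (0 : Fin 2) : Fin 2 ⊕ Fin 2 → F) = a • v)
    (h1 : (eV (1 : Fin 2) : Fin 2 ⊕ Fin 2 → F) = b • v) : False := by
  have h00 := congrFun h0 (Sum.inl 0)
  have h01 := congrFun h0 (Sum.inl 1)
  have h10 := congrFun h1 (Sum.inl 0)
  have h11 := congrFun h1 (Sum.inl 1)
  simp [eV] at h00 h01 h10 h11
  rcases h01 with h | h
  · rw [h] at h00
    simp at h00
  · rw [h] at h11
    simp at h11

/-- the exceptional automorphism is not standard -/
theorem gammaBar_not_mem_GamS (h2 : (2 : F) = 0) : gammaBar h2 ∉ GamS 2 F := by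
  rintro ⟨σ, g, hg, hγ⟩
  have h1 := congrArg (fun α : MulAut (PGq 2 F) => α (mkq (tv (eV (0 : Fin 2)) 1))) hγ
  simp only [gammaBar_mk, stdAutQ_mk] at h1
  obtain ⟨cu, hcu⟩ := (mem_GSp_iff g).1 hg
  rw [stdHom_tv g hg σ hcu, gammaHom_tv_e] at h1
  have h3 := mkq_injective_of_two h2 h1
  obtain ⟨v, hv⟩ : ∃ v, v = semiMap g σ (eV (0 : Fin 2)) := ⟨_, rfl⟩
  obtain ⟨c, hc⟩ : ∃ c, c = σ 1 / (cu : F) := ⟨_, rfl⟩
  rw [← hv, ← hc] at h3
  have hew : Bf (eV (0 : Fin 2) : Fin 2 ⊕ Fin 2 → F) ((1 : F) • eV (1 : Fin 2)) = 0 := by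
    rw [Bf_smul_right, Bf_eV_eV, mul_zero]
  have h4 := congrArg (fun s : Matrix.symplecticGroup (Fin 2) F =>
    s • (fV (0 : Fin 2) : Fin 2 ⊕ Fin 2 → F)) h3
  have h5 := congrArg (fun s : Matrix.symplecticGroup (Fin 2) F =>
    s • (fV (1 : Fin 2) : Fin 2 ⊕ Fin 2 → F)) h3
  simp only [sgG_smul hew, tv_smul] at h4 h5
  rw [add_assoc, add_right_inj] at h4 h5
  have h6 : (eV (1 : Fin 2) : Fin 2 ⊕ Fin 2 → F) = (c * Bf (fV (0 : Fin 2)) v) • v := by
    rw [← h4, Bf_fV_eV, Bf_smul_right]
    simp [Bf_four, eV, fV]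
  have h7 : (eV (0 : Fin 2) : Fin 2 ⊕ Fin 2 → F) = (c * Bf (fV (1 : Fin 2)) v) • v := by
    rw [← h5, Bf_smul_right, Bf_fV_eV]
    simp [Bf_four, eV, fV]
  exact eV_zero_one_indep h7 h6

end bar

end Cfsg.Agent.Helper2.SpA
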