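import Mathlib
import Cfsg.Agent.Lib.Helper2.Spa28

set_option autoImplicit false
set_option linter.unusedSimpArgs false
set_option linter.unusedVariables false
set_option linter.unusedSectionVars false

/-! Automorphisms of the symplectic groups, part 29: a normalised automorphism which maps short
root elements to short root elements is standard; in characteristic two and dimension four this
holds for every automorphism fixing the image of a long root group. -/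

namespace Cfsg.Agent.Helper2.SpA

open Matrix Cfsg.Agent.Helper2.Symp Cfsg.Agent.Helper2.PU
open scoped MatrixGroups

section form

variable {m : ℕ} {F : Type*} [Field F]
  {e f : Fin m ⊕ Fin m → F} (hfe : Bf f e = 1)
  {b : Matrix.symplecticGroup (Fin m) F → Matrix.symplecticGroup (Fin m) F} (hb : IsQAut e f b)
  (σ : F ≃+* F)
  (hσ : ∀ (c : F) (w : Fin m ⊕ Fin m → F), InW e f w →
    Amap e f b (c • w) = σ c • Amap e f b w)

include hfe hb hσ in
/-- the formula for the automorphism of `Qg e`, when short root elements go to short root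
elements -/
theorem IsQAut.b_formula_of_zero (hd : ∃ d, InW e f d ∧ d ≠ 0)
    (hzero : ∀ w, InW e f w → Sf e f b w 0 = 0) :
    ∃ k : F, k ≠ 0 ∧
      (∀ w w', InW e f w → InW e f w' →
        Bf (Amap e f b w) (Amap e f b w') = k * σ (Bf w w')) ∧
      ∀ w s, InW e f w → b (sgG e w s) = sgG e (Amap e f b w) (k * σ s) := by
  obtain ⟨k, hk0, hform⟩ := hb.form hfe σ hσ hd
  refine ⟨k, hk0, hform, ?_⟩
  have hrho : ∀ c : F, Sf e f b 0 c = k * σ c := by
    intro c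
    obtain ⟨d, hdW, hd0⟩ := hd
    obtain ⟨d', hd'W, hd'd⟩ := exists_partner_inW hfe hdW hd0
    have h3 := hb.Sf_mul hfe hdW (hd'W.smul c) 0 0
    rw [add_zero, zero_add, Bf_smul_left, hd'd, mul_one, hzero _ hdW, hzero _ (hd'W.smul c),
      add_zero, zero_add, hform _ _ (hd'W.smul c) hdW, Bf_smul_left, hd'd, mul_one,
      hb.Sf_split hfe (hdW.add (hd'W.smul c)), hzero _ (hdW.add (hd'W.smul c)), zero_add] at h3
    exact h3
  intro w s hw
  rw [hb.b_sgG hfe hw, hb.Sf_split hfe hw, hzero w hw, zero_add, hrho]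

include hfe hb in
theorem IsQAut.exists_matrix_of_zero [Finite F] (hd : ∃ d, InW e f d ∧ d ≠ 0)
    (hzero : ∀ w, InW e f w → Sf e f b w 0 = 0) :
    ∃ (σ : F ≃+* F) (g₀ : Matrix (Fin m ⊕ Fin m) (Fin m ⊕ Fin m) F) (k : F), k ≠ 0 ∧
      (∀ u v, Bf (g₀ *ᵥ u) (g₀ *ᵥ v) = k * Bf u v) ∧
      g₀ *ᵥ (σ ∘ e) = k • e ∧ g₀ *ᵥ (σ ∘ f) = f ∧
      ∀ x ∈ Qg e, (b x : Matrix (Fin m ⊕ Fin m) (Fin m ⊕ Fin m) F) * g₀ =
        g₀ * (x : Matrix (Fin m ⊕ Fin m) (Fin m ⊕ Fin m) F).map σ := by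
  obtain ⟨σ, hσ⟩ := hb.exists_ringEquiv hfe hd
  obtain ⟨k, hk0, hform, hbf⟩ := hb.b_formula_of_zero hfe σ hσ hd hzero
  refine ⟨σ, tauMat e f b σ k, k, hk0, hb.tauMat_Bf hfe σ hσ hk0 hform hbf, ?_, ?_, ?_⟩
  · rw [hb.tauMat_mulVec hfe σ hσ hk0 hform hbf, hb.tauMap_e hfe σ hσ hk0 hform hbf]
  · rw [hb.tauMat_mulVec hfe σ hσ hk0 hform hbf, hb.tauMap_f hfe σ hσ hk0 hform hbf]
  · intro x hx
    exact hb.tauMat_intertwine hfe σ hσ hk0 hform hbf hx

end form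

section final

variable {m : ℕ} {F : Type*} [Field F] [Finite F] (p : ℕ) [Fact p.Prime] [CharP F p]
  {e f : Fin m ⊕ Fin m → F} (hfe : Bf f e = 1) (hd : ∃ d, InW e f d ∧ d ≠ 0)

include p hfe hd

/-- a normalised automorphism mapping short root elements to short root elements is standard -/
theorem eq_stdHom_of_normalised_of_zero (α : MulAut (PGq m F))
    (hαe : (Xb e).map α.toMonoidHom = Xb e) (hαf : (Xb f).map α.toMonoidHom = Xb f)
    (hzero : ∀ w, InW e f w → Sf e f (bLift e α) w 0 = 0) :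
    ∃ (σ : F ≃+* F) (g : GL (Fin m ⊕ Fin m) F) (hg : g ∈ Cfsg.GSp m F),
      ∀ s : Matrix.symplecticGroup (Fin m) F, α (mkq s) = mkq (stdHom g hg σ s) := by
  have hb := isQAut_bLift p hfe hd α hαe hαf
  obtain ⟨σ, g₀, k, hk0, hconf, hge, hgf, hint⟩ := hb.exists_matrix_of_zero hfe hd hzero
  obtain ⟨g, hg, hgeq⟩ := exists_GL_of_conformal hk0 hconf
  refine ⟨σ, g, hg, ?_⟩
  obtain ⟨θ₁, hθ₁⟩ : ∃ θ₁ : Matrix.symplecticGroup (Fin m) F →* PGq m F,
      θ₁ = α.toMonoidHom.comp mkq := ⟨_, rfl⟩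
  obtain ⟨θ₂, hθ₂⟩ : ∃ θ₂ : Matrix.symplecticGroup (Fin m) F →* PGq m F,
      θ₂ = (mkq).comp (stdHom g hg σ) := ⟨_, rfl⟩
  have hQ : ∀ x ∈ Qg e, θ₁ x = θ₂ x := by
    intro x hx
    have hs : bLift e α x = stdHom g hg σ x :=
      eq_stdHom_of_spec g hg σ (by rw [hgeq]; exact hint x hx)
    rw [hθ₁, hθ₂, MonoidHom.comp_apply, MonoidHom.comp_apply, MulEquiv.coe_toMonoidHom,
      ← (bLift_spec p hfe hd α hαe hx).2, hs]
  have hb' : ∀ x ∈ rootGroup e, θ₁ x ∈ Xb e := by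
    intro x hx
    rw [hθ₁, ← hαe]
    exact ⟨_, ⟨x, hx, rfl⟩, rfl⟩
  have hc₁' : ∀ x ∈ rootGroup f, θ₁ x ∈ Xb f := by
    intro x hx
    rw [hθ₁, ← hαf]
    exact ⟨_, ⟨x, hx, rfl⟩, rfl⟩
  have hc₂' : ∀ x ∈ rootGroup f, θ₂ x ∈ Xb f := by
    intro x hx
    obtain ⟨c, rfl⟩ := mem_rootGroup.1 hx
    obtain ⟨cu, hcu⟩ := (mem_GSp_iff g).1 hg
    rw [hθ₂, MonoidHom.comp_apply, stdHom_tv g hg σ hcu]
    have h1 : semiMap g σ f = f := by
      unfold semiMap
      rw [hgeq]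
      exact hgf
    rw [h1]
    exact ⟨_, mem_rootGroup.2 ⟨_, rfl⟩, rfl⟩
  have hd' : ∀ x ∈ rootGroup e, θ₁ x = 1 → x = 1 := by
    intro x hx h1
    rw [hθ₁, MonoidHom.comp_apply, MulEquiv.coe_toMonoidHom] at h1
    have h2 : mkq x = mkq 1 := by
      apply α.injective
      rw [h1, map_one, map_one]
    exact mkq_inj_of_pow p hfe (pow_of_mem_rootGroup p hx) (a := 1) (b := 0) (one_pow _) h2
  have hK : MonoidHom.eqLocus θ₁ θ₂ = ⊤ := by
    apply eq_top_of_Qg_rootGroup hfe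
    · intro x hx
      exact hQ x hx
    · intro x hx
      exact agree_on_rootGroup_f p hfe θ₁ θ₂ hQ hb' hc₁' hc₂' hd' hx
  intro s
  have h1 : s ∈ MonoidHom.eqLocus θ₁ θ₂ := by
    rw [hK]
    exact Subgroup.mem_top s
  have h2 : θ₁ s = θ₂ s := h1
  rw [hθ₁, hθ₂] at h2
  exact h2

end final

end Cfsg.Agent.Helper2.SpA
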