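import Mathlib
import Cfsg.Agent.Lib.Helper2.Spa29

set_option autoImplicit false
set_option linter.unusedSimpArgs false
set_option linter.unusedVariables false
set_option linter.unusedSectionVars false

/-! Automorphisms of the symplectic groups, part 30: in characteristic two and dimension four the
standard automorphisms form a subgroup of index two in the automorphism group. -/

namespace Cfsg.Agent.Helper2.SpA

open Matrix Cfsg.Agent.Helper2.Symp Cfsg.Agent.Helper2.PU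
open scoped MatrixGroups

section short

variable {F : Type*} [Field F] [Finite F]

omit [Finite F] in
theorem Tq_conj {m : ℕ} {y : PGq m F} (hy : Tq y) (g : PGq m F) : Tq (g * y * g⁻¹) := by
  have h := Tq_map (MulAut.conj g) hy
  rwa [MulAut.conj_apply] at h

/-- short root elements satisfy the word property -/
theorem Tq_sg_short (h2 : (2 : F) = 0) {e f w : Fin 2 ⊕ Fin 2 → F} (hfe : Bf f e = 1)
    (hw : InW e f w) : Tq (mkq (sgG e w 0)) := by
  by_cases hw0 : w = 0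
  · rw [hw0, ← tv_eq_sgG]
    exact Tq_tv h2 e 0
  · have hfe₀ : Bf (fV (0 : Fin 2) : Fin 2 ⊕ Fin 2 → F) (eV 0) = 1 := Bf_fV_eV 0
    obtain ⟨g₁, -, hg₁f, hg₁e⟩ := trans_pair (isND_top (m := 2) (F := F))
      (Submodule.mem_top (x := (fV (0 : Fin 2) : Fin 2 ⊕ Fin 2 → F)))
      (Submodule.mem_top (x := (eV (0 : Fin 2) : Fin 2 ⊕ Fin 2 → F)))
      (Submodule.mem_top (x := f)) (Submodule.mem_top (x := e)) hfe₀ hfe
    have h10 : (1 : Fin 2) ≠ 0 := by decide
    have hW₁ : InW e f (g₁ • (eV (1 : Fin 2) : Fin 2 ⊕ Fin 2 → F)) := by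
      constructor
      · rw [← hg₁e, Bf_smul_smul]
        exact (inW_eV 1 0 h10).1
      · rw [← hg₁f, Bf_smul_smul]
        exact (inW_eV 1 0 h10).2
    have hne : g₁ • (eV (1 : Fin 2) : Fin 2 ⊕ Fin 2 → F) ≠ 0 :=
      fun h => eV_ne_zero (1 : Fin 2) ((smul_eq_zero_iff' g₁ _).1 h)
    obtain ⟨g₂, hg₂, hg₂w⟩ := trans_vec (isND_Wsub hfe) hW₁ hw hne hw0
    have hg₂e : g₂ • e = e := smul_eq_of_mem_tvGroup hg₂ e (fun x hx => InW.symm1 hx)
    have h3 : sgG e w 0 = (g₂ * g₁) * gammaHom h2 (tv (eV (0 : Fin 2)) 1) * (g₂ * g₁)⁻¹ := by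
      rw [gammaHom_tv_e, conj_sgG, mul_smul, hg₁e, hg₂e, one_smul, mul_smul, hg₂w]
    rw [h3, map_mul, map_mul, map_inv, ← gammaBar_mk]
    apply Tq_conj
    exact Tq_map (gammaBar h2) (Tq_tv h2 _ 1)

variable (p : ℕ) [Fact p.Prime] [CharP F p]

include p in
/-- an automorphism of the four-dimensional group in characteristic two which fixes the images
of the root groups of `e` and `f` maps short root elements to short root elements -/
theorem Sf_bLift_zero (h2 : (2 : F) = 0) {e f : Fin 2 ⊕ Fin 2 → F} (hfe : Bf f e = 1)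
    (hd : ∃ d, InW e f d ∧ d ≠ 0) (α : MulAut (PGq 2 F))
    (hαe : (Xb e).map α.toMonoidHom = Xb e) (hαf : (Xb f).map α.toMonoidHom = Xb f)
    (w : Fin 2 ⊕ Fin 2 → F) (hw : InW e f w) : Sf e f (bLift e α) w 0 = 0 := by
  have hb := isQAut_bLift p hfe hd α hαe hαf
  by_cases hw0 : w = 0
  · rw [hw0]
    exact hb.Sf_zero_zero hfe
  · by_contra hne
    have h1 := hb.b_sgG hfe hw 0
    have h3 := (bLift_spec p hfe hd α hαe (sgG_mem_Qg hw.symm1 (0 : F))).2
    have hT : Tq (α (mkq (sgG e w 0))) := Tq_map α (Tq_sg_short h2 hfe hw)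
    rw [← h3, h1] at hT
    have hA0 : Amap e f (bLift e α) w ≠ 0 := fun h => hw0 (hb.Amap_inj hfe hw h)
    exact not_Tq_sg2 h2 hfe (hb.Amap_inW hfe hw) hA0 hne hT

include p in
/-- in characteristic two and dimension four, an automorphism mapping the image of the standard
long root group to the image of a long root group is standard -/
theorem mem_GamS_of_long_four (h2 : (2 : F) = 0) (α : MulAut (PGq 2 F))
    (hB : ∃ x : Matrix.symplecticGroup (Fin 2) F,
      (Xb (eV (0 : Fin 2) : Fin 2 ⊕ Fin 2 → F)).map α.toMonoidHom = Xb (x • eV (0 : Fin 2))) :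
    α ∈ GamS 2 F := by
  have hfe : Bf (fV (0 : Fin 2) : Fin 2 ⊕ Fin 2 → F) (eV 0) = 1 := Bf_fV_eV 0
  have h10 : (1 : Fin 2) ≠ 0 := by decide
  have hd : ∃ d, InW (eV (0 : Fin 2) : Fin 2 ⊕ Fin 2 → F) (fV 0) d ∧ d ≠ 0 :=
    ⟨eV 1, inW_eV 1 0 h10, eV_ne_zero 1⟩
  obtain ⟨y, α', hα, hαe, hαf⟩ := exists_normal_form_single p hfe α hB
  obtain ⟨σ, g₀, hg₀, h⟩ := eq_stdHom_of_normalised_of_zero p hfe hd α' hαe hαf
    (Sf_bLift_zero p h2 hfe hd α' hαe hαf)
  have h1 : α' ∈ GamS 2 F := by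
    refine ⟨σ, g₀, hg₀, ?_⟩
    ext x
    obtain ⟨s, rfl⟩ := mkq_surjective x
    rw [h, stdAutQ_mk]
  rw [hα]
  exact (GamS 2 F).mul_mem (inn_le_GamS ⟨mkq y, rfl⟩) h1

include p in
/-- the product of two non-standard automorphisms is standard -/
theorem mul_mem_GamS_four (h2 : (2 : F) = 0) (a b : MulAut (PGq 2 F)) (ha : a ∉ GamS 2 F)
    (hb : b ∉ GamS 2 F) : a * b ∈ GamS 2 F := by
  have hfe : Bf (fV (0 : Fin 2) : Fin 2 ⊕ Fin 2 → F) (eV 0) = 1 := Bf_fV_eV 0
  apply mul_mem_GamS_of_not_mem p h2 hfe _ a b ha hb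
  intro α hα
  exact mem_GamS_of_long_four p h2 α ⟨1, by rw [one_smul]; exact hα⟩

include p in
/-- **the standard automorphisms have index two** -/
theorem index_GamS_four (h2 : (2 : F) = 0) : (GamS 2 F).index = 2 := by
  rw [Subgroup.index_eq_two_iff]
  refine ⟨gammaBar h2, fun b => ?_⟩
  by_cases hb : b ∈ GamS 2 F
  · refine Or.inr ⟨hb, fun h => ?_⟩
    apply gammaBar_not_mem_GamS h2
    have := (GamS 2 F).mul_mem ((GamS 2 F).inv_mem hb) h
    rwa [inv_mul_cancel_left] at this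
  · exact Or.inl ⟨mul_mem_GamS_four p h2 b _ hb (gammaBar_not_mem_GamS h2), hb⟩

end short

end Cfsg.Agent.Helper2.SpA
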