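import Mathlib
import Cfsg.Agent.Lib.Helper2.Spa30
import Cfsg.Agent.Lib.Helper2.OutCongr

set_option autoImplicit false
set_option linter.unusedSimpArgs false
set_option linter.unusedVariables false
set_option linter.unusedSectionVars false

/-! Automorphisms of the symplectic groups, part 31: the outer automorphism group of the
four-dimensional symplectic group in characteristic two is cyclic, generated by the class of the
exceptional automorphism. -/

namespace Cfsg.Agent.Helper2.SpA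

open Matrix Cfsg.Agent.Helper2.Symp Cfsg.Agent.Helper2.PU
open scoped MatrixGroups

section frob

variable {F : Type*} [Field F]

theorem tv_injective {m : ℕ} {v : Fin m ⊕ Fin m → F} (hv0 : v ≠ 0) {a b : F}
    (h : tv v a = tv v b) : a = b := by
  have h4 : tv v (a - b) = 1 := by
    rw [sub_eq_add_neg, ← tv_mul_tv, h, tv_mul_tv, add_neg_cancel, tv_zero_right]
  exact sub_eq_zero.1 ((tv_eq_one_iff hv0 _).1 h4)

/-- every automorphism of a finite field of characteristic two is a power of an automorphism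
which squares every element -/
theorem exists_pow_of_sq [Fintype F] [CharP F 2] (σ₀ : RingAut F) (hσ₀ : ∀ t, σ₀ t = t * t)
    (σ : RingAut F) : ∃ n : ℕ, σ = σ₀ ^ n := by
  let _ : Algebra (ZMod 2) F := ZMod.algebra F 2
  have hpow : ∀ (n : ℕ) (x : F), (σ₀ ^ n) x = x ^ (2 ^ n) := by
    intro n
    induction n with
    | zero => intro x; simp
    | succ n ih =>
      intro x
      rw [pow_succ, RingAut.mul_apply, hσ₀, ih, ← pow_two, ← pow_mul, pow_succ, mul_comm]
  obtain ⟨τ, hτ⟩ : ∃ τ : F ≃ₐ[ZMod 2] F, ∀ x, τ x = σ x := by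
    refine ⟨AlgEquiv.ofRingEquiv (f := σ) ?_, fun x => rfl⟩
    intro x
    have h3 : ((σ : F →+* F).comp (algebraMap (ZMod 2) F)) = algebraMap (ZMod 2) F :=
      Subsingleton.elim _ _
    exact RingHom.congr_fun h3 x
  obtain ⟨n, hn⟩ := (FiniteField.bijective_frobeniusAlgEquivOfAlgebraic_pow (ZMod 2) F).2 τ
  refine ⟨n.1, ?_⟩
  ext x
  rw [hpow, ← hτ, ← hn]
  change ((FiniteField.frobeniusAlgEquivOfAlgebraic (ZMod 2) F) ^ n.1) x = _
  rw [AlgEquiv.coe_pow, FiniteField.coe_frobeniusAlgEquivOfAlgebraic_iterate, ZMod.card]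

end frob

section out

variable {F : Type*} [Field F] [Finite F]

/-- the field automorphism attached to the square of the exceptional automorphism squares every
element -/
theorem sigma_gammaBar_sq (h2 : (2 : F) = 0) {σ₀ : RingAut F} {g₀ : GL (Fin 2 ⊕ Fin 2) F}
    (hg₀ : g₀ ∈ Cfsg.GSp 2 F) (hγ : gammaBar h2 * gammaBar h2 = stdAutQ g₀ hg₀ σ₀) (t : F) :
    σ₀ t = t * t := by
  have he0 : (eV (0 : Fin 2) : Fin 2 ⊕ Fin 2 → F) ≠ 0 := eV_ne_zero 0
  obtain ⟨cu, hcu⟩ := (mem_GSp_iff g₀).1 hg₀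
  obtain ⟨v, hv⟩ : ∃ v, v = semiMap g₀ σ₀ (eV (0 : Fin 2)) := ⟨_, rfl⟩
  have key : ∀ s : F, tv (eV (0 : Fin 2) : Fin 2 ⊕ Fin 2 → F) (s * s) = tv v (σ₀ s / (cu : F)) := by
    intro s
    have h1 := congrArg (fun α : MulAut (PGq 2 F) => α (mkq (tv (eV (0 : Fin 2)) s))) hγ
    simp only [MulAut.mul_apply, gammaBar_mk, stdAutQ_mk] at h1
    rw [stdHom_tv g₀ hg₀ σ₀ hcu, gammaHom_gammaHom_tv_e, ← hv] at h1
    exact mkq_injective_of_two h2 h1
  have hcu0 : (cu : F) ≠ 0 := cu.ne_zero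
  have h1 := key 1
  rw [map_one, mul_one] at h1
  have hv0 : v ≠ 0 := by
    rintro rfl
    rw [tv_zero_left] at h1
    exact one_ne_zero ((tv_eq_one_iff he0 _).1 h1)
  have hmem : tv v (1 / (cu : F)) ∈ rootGroup (eV (0 : Fin 2) : Fin 2 ⊕ Fin 2 → F) := by
    rw [← h1]
    exact mem_rootGroup.2 ⟨1, rfl⟩
  obtain ⟨c, hc⟩ := smul_of_tv_mem_rootGroup hv0 (one_div_ne_zero hcu0) hmem
  have key' : ∀ s : F, s * s = c * c * (σ₀ s / (cu : F)) := by
    intro s
    have := key s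
    rw [hc, tv_smul_vec] at this
    exact tv_injective he0 this
  have h3 := key' 1
  rw [map_one, mul_one] at h3
  have h4 := key' t
  rw [mul_div_assoc'] at h3 h4
  rw [eq_div_iff hcu0] at h3 h4
  have : (cu : F) * (σ₀ t - t * t) = 0 := by linear_combination (σ₀ t) * h3 - h4
  rcases mul_eq_zero.1 this with h | h
  · exact absurd h hcu0
  · exact sub_eq_zero.1 h

variable (p : ℕ) [Fact p.Prime] [CharP F p]

include p in
/-- **the outer automorphism group of `PSp_4(2^f)` is cyclic** -/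
theorem isCyclic_out_four (h2 : (2 : F) = 0) : IsCyclic (Cfsg.Out (PGq 2 F)) := by
  have hfin : Fintype F := Fintype.ofFinite F
  have h7 : p = 2 := by
    have h5 : ((2 : ℕ) : F) = 0 := by exact_mod_cast h2
    have h6 := (CharP.cast_eq_zero_iff F p 2).1 h5
    exact (Nat.prime_dvd_prime_iff_eq (Fact.out : p.Prime) Nat.prime_two).1 h6
  subst h7
  have hn := gammaBar_not_mem_GamS h2
  have hγ2 := mul_mem_GamS_four 2 h2 _ _ hn hn
  obtain ⟨σ₀, g₀, hg₀, hγ⟩ := hγ2
  have hσ₀ := sigma_gammaBar_sq h2 hg₀ hγ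
  obtain ⟨o, ho⟩ : ∃ o : Cfsg.Out (PGq 2 F), o = QuotientGroup.mk (gammaBar h2) := ⟨_, rfl⟩
  have hpsi : ∀ g : Cfsg.GSp 2 F, (QuotientGroup.mk (psiS g) : Cfsg.Out (PGq 2 F)) = 1 := by
    intro g
    rw [QuotientGroup.eq_one_iff, ← range_psiS_eq_inn h2]
    exact ⟨g, rfl⟩
  have hphi : (QuotientGroup.mk (phiS σ₀) : Cfsg.Out (PGq 2 F)) = o ^ 2 := by
    have h1 := congrArg (fun α : MulAut (PGq 2 F) =>
      (QuotientGroup.mk α : Cfsg.Out (PGq 2 F))) hγ
    simp only [← psiS_mul_phiS ⟨g₀, hg₀⟩ σ₀, QuotientGroup.mk_mul, hpsi, one_mul] at h1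
    rw [← h1, ho, pow_two]
  have key1 : ∀ α ∈ GamS 2 F, ∃ n : ℕ,
      (QuotientGroup.mk α : Cfsg.Out (PGq 2 F)) = o ^ (2 * n) := by
    rintro α ⟨σ, g, hg, rfl⟩
    obtain ⟨n, hn⟩ := exists_pow_of_sq σ₀ hσ₀ σ
    refine ⟨n, ?_⟩
    rw [← psiS_mul_phiS ⟨g, hg⟩ σ, QuotientGroup.mk_mul, hpsi, one_mul, hn, map_pow,
      QuotientGroup.mk_pow, hphi, pow_mul]
  refine ⟨⟨o, fun x => ?_⟩⟩
  obtain ⟨α, rfl⟩ := QuotientGroup.mk_surjective x
  by_cases hα : α ∈ GamS 2 F
  · obtain ⟨n, hn⟩ := key1 α hα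
    exact ⟨((2 * n : ℕ) : ℤ), by simp only [zpow_natCast, hn]⟩
  · obtain ⟨n, hn⟩ := key1 _ (mul_mem_GamS_four 2 h2 α _ hα (gammaBar_not_mem_GamS h2))
    refine ⟨((2 * n : ℕ) : ℤ) - 1, ?_⟩
    simp only [_root_.zpow_sub_one, zpow_natCast, ← hn, QuotientGroup.mk_mul, ← ho,
      mul_inv_cancel_right]

include p in
/-- the order of the outer automorphism group of `PSp_4(2^f)` -/
theorem card_out_four (h2 : (2 : F) = 0) :
    Nat.card (Cfsg.Out (PGq 2 F)) = 2 * Nat.card (RingAut F) := by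
  have h7 : p = 2 := by
    have h5 : ((2 : ℕ) : F) = 0 := by exact_mod_cast h2
    have h6 := (CharP.cast_eq_zero_iff F p 2).1 h5
    exact (Nat.prime_dvd_prime_iff_eq (Fact.out : p.Prime) Nat.prime_two).1 h6
  subst h7
  have hfinG := finite_symp' (m := 2) (F := F)
  have hfinQ : Finite (PGq 2 F) := Finite.of_surjective _ (mkq_surjective (m := 2) (F := F))
  have hpos : 0 < Nat.card (PGq 2 F) := Nat.card_pos
  have hG := card_GamS (m := 2) (F := F) 2 (by omega)
  have hidx := index_GamS_four (F := F) 2 h2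
  have h1 := (GamS 2 F).index_mul_card
  have h3 := Subgroup.card_eq_card_quotient_mul_card_subgroup (Cfsg.Inn (PGq 2 F))
  rw [card_inn 2 (by omega : 0 < 2)] at h3
  have hodd : Nat.gcd 2 (Nat.card F - 1) = 1 := by
    have hfin : Fintype F := Fintype.ofFinite F
    obtain ⟨n, hn⟩ := FiniteField.card F 2
    rw [Nat.card_eq_fintype_card, hn.2]
    have h8 : 1 ≤ 2 ^ (n : ℕ) := Nat.one_le_two_pow
    have h9 : Even (2 ^ (n : ℕ)) := (Nat.even_pow' n.ne_zero).2 even_two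
    have h10 : Odd (2 ^ (n : ℕ) - 1) := Nat.Even.sub_odd h8 h9 odd_one
    exact Nat.coprime_two_left.2 h10
  rw [hodd, one_mul] at hG
  rw [hidx, hG] at h1
  have h4 : Nat.card (Cfsg.Out (PGq 2 F)) * Nat.card (PGq 2 F) =
      (2 * Nat.card (RingAut F)) * Nat.card (PGq 2 F) := by
    rw [← h3, ← h1]
    ring
  exact Nat.eq_of_mul_eq_mul_right hpos h4

end out

end Cfsg.Agent.Helper2.SpA
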