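import Mathlib
import Cfsg.Agent.Lib.Helper2.Spa31

set_option autoImplicit false
set_option linter.unusedSimpArgs false
set_option linter.unusedVariables false
set_option linter.unusedSectionVars false

/-! Local balance for the symplectic groups, part 1: abstract lemmas on cores of centralizers of
automorphisms, and the embedding of the symplectic group over a subfield. -/

namespace Cfsg.Agent.Helper2.SpA

open Matrix Cfsg.Agent.Helper2.Symp Cfsg.Agent.Helper2.PU
open scoped MatrixGroups

section abstractcore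

variable {G : Type*} [Group G]

/-- the core prime to `ℓ` of a subgroup is nontrivial iff the subgroup normalises a nontrivial
subgroup of order prime to `ℓ` contained in it -/
theorem pPrimeCore_ne_bot_iff (ℓ : ℕ) (H : Subgroup G) :
    Cfsg.pPrimeCore ℓ ↥H ≠ ⊥ ↔ ∃ N : Subgroup G, N ≤ H ∧ N ≠ ⊥ ∧ (Nat.card N).Coprime ℓ ∧
      ∀ h ∈ H, ∀ n ∈ N, h * n * h⁻¹ ∈ N := by
  constructor
  · intro h
    unfold Cfsg.pPrimeCore at h
    rw [Ne, sSup_eq_bot, not_forall] at h
    obtain ⟨N', hN'⟩ := h
    rw [Classical.not_imp] at hN'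
    obtain ⟨⟨hnorm, hcop⟩, hne⟩ := hN'
    refine ⟨N'.map H.subtype, Subgroup.map_subtype_le N', ?_, ?_, ?_⟩
    · rw [Ne, Subgroup.map_eq_bot_iff_of_injective _ H.subtype_injective]
      exact hne
    · rw [Subgroup.card_map_of_injective H.subtype_injective]
      exact hcop
    · rintro h hh _ ⟨n', hn', rfl⟩
      refine ⟨⟨h, hh⟩ * n' * ⟨h, hh⟩⁻¹, hnorm.conj_mem n' hn' ⟨h, hh⟩, ?_⟩
      simp
  · rintro ⟨N, hNH, hne, hcop, hnorm⟩
    have hmem : N.subgroupOf H ∈ {N' : Subgroup ↥H | N'.Normal ∧ (Nat.card N').Coprime ℓ} := by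
      refine ⟨⟨?_⟩, ?_⟩
      · intro n' hn' h'
        rw [Subgroup.mem_subgroupOf] at hn' ⊢
        have := hnorm h'.1 h'.2 n'.1 hn'
        simpa using this
      · rw [Nat.card_congr (Subgroup.subgroupOfEquivOfLe hNH).toEquiv]
        exact hcop
    have hle : N.subgroupOf H ≤ Cfsg.pPrimeCore ℓ ↥H := le_sSup hmem
    have hne' : N.subgroupOf H ≠ ⊥ := by
      intro h0
      apply hne
      rw [eq_bot_iff]
      intro n hn
      have h1 : (⟨n, hNH hn⟩ : ↥H) ∈ N.subgroupOf H := hn
      rw [h0, Subgroup.mem_bot] at h1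
      rw [Subgroup.mem_bot]
      exact congrArg Subtype.val h1
    exact ne_bot_of_le_ne_bot hne' hle

end abstractcore

section autcore

variable {K : Type*} [Group K]

/-- conjugating an inner automorphism by an automorphism -/
theorem aut_conj_conj (a : MulAut K) (k : K) :
    a * MulAut.conj k * a⁻¹ = MulAut.conj (a k) := by
  ext y
  simp only [MulAut.mul_apply, MulAut.conj_apply, map_mul, map_inv, MulAut.apply_inv_self]

/-- the inner automorphisms of the fixed points of `x` form a subgroup of the centralizer of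
`x` normalised by it -/
theorem fix_conj_mem_centralizer (x : MulAut K) {k : K} (hk : x k = k) :
    MulAut.conj k ∈ Subgroup.centralizer {x} := by
  rw [Subgroup.mem_centralizer_singleton_iff]
  have h1 := aut_conj_conj x k
  rw [hk] at h1
  calc MulAut.conj k * x = (x * MulAut.conj k * x⁻¹) * x := by rw [h1]
    _ = x * MulAut.conj k := by group

theorem fix_of_conj_mem_centralizer (hZ : Function.Injective (MulAut.conj : K →* MulAut K))
    (x : MulAut K) {k : K} (hk : MulAut.conj k ∈ Subgroup.centralizer {x}) : x k = k := by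
  rw [Subgroup.mem_centralizer_singleton_iff] at hk
  have h1 := aut_conj_conj x k
  apply hZ
  rw [← h1, ← hk]
  group

/-- the fixed points of a conjugate automorphism -/
theorem eqLocus_conj (a φ : MulAut K) :
    MonoidHom.eqLocus (a * φ * a⁻¹).toMonoidHom (MonoidHom.id K) =
      (MonoidHom.eqLocus φ.toMonoidHom (MonoidHom.id K)).map a.toMonoidHom := by
  ext k
  constructor
  · intro hk
    have hk' : a (φ (a⁻¹ k)) = k := hk
    refine ⟨a⁻¹ k, ?_, MulAut.apply_inv_self K a k⟩
    change φ (a⁻¹ k) = a⁻¹ k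
    apply a.injective
    rw [hk', MulAut.apply_inv_self]
  · rintro ⟨k₀, hk₀, rfl⟩
    have hk₀' : φ k₀ = k₀ := hk₀
    change a (φ (a⁻¹ (a k₀))) = a k₀
    rw [MulAut.inv_apply_self, hk₀']

theorem card_eqLocus_conj (a φ : MulAut K) :
    Nat.card ↥(MonoidHom.eqLocus (a * φ * a⁻¹).toMonoidHom (MonoidHom.id K)) =
      Nat.card ↥(MonoidHom.eqLocus φ.toMonoidHom (MonoidHom.id K)) := by
  rw [eqLocus_conj, Subgroup.card_map_of_injective a.injective]

end autcore

end Cfsg.Agent.Helper2.SpA
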