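import Mathlib
import Cfsg.Agent.Lib.Helper2.Spa32

set_option autoImplicit false
set_option linter.unusedSimpArgs false
set_option linter.unusedVariables false
set_option linter.unusedSectionVars false

/-! Local balance for the symplectic groups, part 2: the symplectic matrices fixed by a field
automorphism, and the embedding of the symplectic group over the fixed field. -/

namespace Cfsg.Agent.Helper2.SpA

open Matrix Cfsg.Agent.Helper2.Symp Cfsg.Agent.Helper2.PU
open scoped MatrixGroups

section spfix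

variable {m : ℕ} {F : Type*} [Field F]

/-- a field automorphism acting on the symplectic group -/
noncomputable def sigSp (σ : RingAut F) :
    Matrix.symplecticGroup (Fin m) F →* Matrix.symplecticGroup (Fin m) F :=
  stdHom (1 : GL (Fin m ⊕ Fin m) F) (Cfsg.GSp m F).one_mem σ

theorem sigSp_coe (σ : RingAut F) (s : Matrix.symplecticGroup (Fin m) F) :
    ((sigSp σ s : Matrix.symplecticGroup (Fin m) F) : Mt m F) = (s : Mt m F).map σ := by
  unfold sigSp
  rw [stdHom_coe]
  simp

/-- the symplectic matrices fixed by a field automorphism -/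
noncomputable def SpFix (σ : RingAut F) : Subgroup (Matrix.symplecticGroup (Fin m) F) :=
  MonoidHom.eqLocus (sigSp σ) (MonoidHom.id _)

theorem mem_SpFix (σ : RingAut F) (s : Matrix.symplecticGroup (Fin m) F) :
    s ∈ SpFix σ ↔ sigSp σ s = s := Iff.rfl

theorem mem_SpFix_iff (σ : RingAut F) (s : Matrix.symplecticGroup (Fin m) F) :
    s ∈ SpFix σ ↔ (s : Mt m F).map σ = (s : Mt m F) := by
  rw [mem_SpFix, ← sigSp_coe]
  exact ⟨fun h => congrArg Subtype.val h, fun h => Subtype.ext h⟩

theorem sigSp_tv (σ : RingAut F) (v : Fin m ⊕ Fin m → F) (a : F) :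
    sigSp σ (tv v a) = tv (σ ∘ v) (σ a) := by
  unfold sigSp
  have hc : ∀ u v : Fin m ⊕ Fin m → F,
      Bf (((1 : GL (Fin m ⊕ Fin m) F) : Mt m F) *ᵥ u)
        (((1 : GL (Fin m ⊕ Fin m) F) : Mt m F) *ᵥ v) = ((1 : Fˣ) : F) * Bf u v := by
    intro u v
    simp
  rw [stdHom_tv _ _ σ hc]
  congr 1
  · unfold semiMap
    simp
  · simp

theorem tv_mem_SpFix (σ : RingAut F) {v : Fin m ⊕ Fin m → F} {a : F} (hv : σ ∘ v = v)
    (ha : σ a = a) : tv v a ∈ SpFix σ := by
  rw [mem_SpFix, sigSp_tv, hv, ha]

theorem comp_single (σ : RingAut F) (i : Fin m ⊕ Fin m) :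
    σ ∘ (Pi.single i (1 : F) : Fin m ⊕ Fin m → F) = Pi.single i 1 := by
  funext k
  by_cases hk : k = i
  · subst hk
    simp
  · simp [Pi.single_apply, hk]

end spfix

section mapsp

variable {m : ℕ} {F F₀ : Type*} [Field F] [Field F₀] (j : F₀ →+* F)

theorem mapHom_mem_symp (s : Matrix.symplecticGroup (Fin m) F₀) :
    (s : Mt m F₀).map j ∈ Matrix.symplecticGroup (Fin m) F := by
  rw [SymplecticGroup.mem_iff]
  have h1 := SymplecticGroup.mem_iff.1 s.2
  rw [← J_map_hom j, ← Matrix.transpose_map, ← map_ringHom_mul, ← map_ringHom_mul, h1]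

/-- the embedding of the symplectic group over a subfield -/
def mapSp : Matrix.symplecticGroup (Fin m) F₀ →* Matrix.symplecticGroup (Fin m) F where
  toFun s := ⟨(s : Mt m F₀).map j, mapHom_mem_symp j s⟩
  map_one' := Subtype.ext (map_ringHom_one (j := j))
  map_mul' a b := Subtype.ext (map_ringHom_mul (j := j) _ _)

theorem mapSp_coe (s : Matrix.symplecticGroup (Fin m) F₀) :
    ((mapSp j s : Matrix.symplecticGroup (Fin m) F) : Mt m F) = (s : Mt m F₀).map j := rfl

theorem mapSp_injective : Function.Injective (mapSp (m := m) j) := by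
  intro a b h
  apply Subtype.ext
  have h1 := congrArg Subtype.val h
  rw [mapSp_coe, mapSp_coe] at h1
  exact Matrix.map_injective j.injective h1

variable {j}

theorem range_mapSp {σ : RingAut F} (D : DescS σ j) : (mapSp (m := m) j).range = SpFix σ := by
  ext s
  rw [mem_SpFix_iff]
  constructor
  · rintro ⟨s₀, rfl⟩
    rw [mapSp_coe]
    exact D.map_fixed _
  · intro h
    obtain ⟨M₀, hM₀⟩ := D.exists_of_fixed h
    have hmem : M₀ ∈ Matrix.symplecticGroup (Fin m) F₀ := by
      rw [SymplecticGroup.mem_iff]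
      apply Matrix.map_injective j.injective
      change (M₀ * J (Fin m) F₀ * M₀ᵀ).map j = (J (Fin m) F₀).map j
      rw [map_ringHom_mul, map_ringHom_mul, Matrix.transpose_map, hM₀, J_map_hom j]
      exact SymplecticGroup.mem_iff.1 s.2
    exact ⟨⟨M₀, hmem⟩, Subtype.ext hM₀⟩

end mapsp

end Cfsg.Agent.Helper2.SpA
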