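import Mathlib
import Cfsg.Agent.Lib.Helper2.Spa33

set_option autoImplicit false
set_option linter.unusedSimpArgs false
set_option linter.unusedVariables false
set_option linter.unusedSectionVars false

/-! Local balance for the symplectic groups, part 3: the inner automorphisms attached to the
symplectic matrices fixed by a field automorphism. -/

namespace Cfsg.Agent.Helper2.SpA

open Matrix Cfsg.Agent.Helper2.Symp Cfsg.Agent.Helper2.PU
open scoped MatrixGroups

section theta

variable {m : ℕ} {F : Type*} [Field F] [Finite F]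

/-- the inner automorphism attached to a symplectic matrix -/
noncomputable def thetaS : Matrix.symplecticGroup (Fin m) F →* MulAut (PGq m F) :=
  (MulAut.conj : PGq m F →* MulAut (PGq m F)).comp mkq

theorem thetaS_apply (t : Matrix.symplecticGroup (Fin m) F) :
    thetaS t = MulAut.conj (mkq t) := rfl

theorem phiS_mkq (σ : RingAut F) (s : Matrix.symplecticGroup (Fin m) F) :
    phiS σ (mkq s) = mkq (sigSp σ s) := rfl

theorem phiS_mkq_of_mem {σ : RingAut F} {t : Matrix.symplecticGroup (Fin m) F}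
    (ht : t ∈ SpFix σ) : phiS σ (mkq t) = mkq t := by
  rw [phiS_mkq, (mem_SpFix σ t).1 ht]

theorem thetaS_mem_centralizer {σ : RingAut F} {t : Matrix.symplecticGroup (Fin m) F}
    (ht : t ∈ SpFix σ) : thetaS t ∈ Subgroup.centralizer {phiS (m := m) σ} :=
  fix_conj_mem_centralizer _ (phiS_mkq_of_mem ht)

theorem thetaS_mem_inn (t : Matrix.symplecticGroup (Fin m) F) :
    thetaS t ∈ Cfsg.Inn (PGq m F) := ⟨mkq t, rfl⟩

/-- a fixed point of the field automorphism normalises the image of the fixed matrices -/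
theorem conj_mkq_of_fixed {σ : RingAut F} {k : PGq m F} (hk : phiS σ k = k)
    {t : Matrix.symplecticGroup (Fin m) F} (ht : t ∈ SpFix σ) :
    ∃ t' ∈ SpFix σ, k * mkq t * k⁻¹ = mkq t' := by
  obtain ⟨s, rfl⟩ := mkq_surjective k
  rw [phiS_mkq, mkq_eq_iff] at hk
  obtain ⟨z, hz⟩ : ∃ z, z = (sigSp σ s)⁻¹ * s := ⟨_, rfl⟩
  rw [← hz] at hk
  have hs : sigSp σ s = s * z⁻¹ := by
    rw [hz]
    group
  have hzc := Subgroup.mem_center_iff.1 hk
  refine ⟨s * t * s⁻¹, ?_, by simp only [map_mul, map_inv]⟩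
  rw [mem_SpFix, map_mul, map_mul, map_inv, hs, (mem_SpFix σ t).1 ht]
  have h1 : z⁻¹ * t = t * z⁻¹ := by
    have := hzc t
    calc z⁻¹ * t = z⁻¹ * (t * z) * z⁻¹ := by group
      _ = z⁻¹ * (z * t) * z⁻¹ := by rw [this]
      _ = t * z⁻¹ := by group
  calc s * z⁻¹ * t * (s * z⁻¹)⁻¹ = s * (z⁻¹ * t) * z * s⁻¹ := by group
    _ = s * (t * z⁻¹) * z * s⁻¹ := by rw [h1]
    _ = s * t * s⁻¹ := by group

/-- the square of a central element of the symplectic group is trivial -/
theorem center_sq_eq_one (hm : 0 < m) {z : Matrix.symplecticGroup (Fin m) F}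
    (hz : z ∈ Subgroup.center (Matrix.symplecticGroup (Fin m) F)) : z * z = 1 := by
  have : Nonempty (Fin m) := ⟨⟨0, hm⟩⟩
  rcases (Cfsg.Agent.Helper2.Sp.mem_center_iff z).1 hz with h | h
  · rw [h, mul_one]
  · rw [h]
    apply Subtype.ext
    simp [Cfsg.Agent.Helper2.Sp.negOne_coe]

/-- an odd prime dividing the number of fixed points of a standard field automorphism divides
the order of the group of fixed symplectic matrices -/
theorem dvd_card_SpFix (hm : 0 < m) (σ : RingAut F) {ℓ : ℕ} (hℓ : ℓ.Prime) (hodd : ℓ ≠ 2)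
    (hdiv : ℓ ∣ Nat.card ↥(MonoidHom.eqLocus (phiS (m := m) σ).toMonoidHom
      (MonoidHom.id (PGq m F)))) :
    ℓ ∣ Nat.card ↥(SpFix (m := m) σ) := by
  have hfinG := finite_symp' (m := m) (F := F)
  have hfinQ : Finite (PGq m F) := Finite.of_surjective _ (mkq_surjective (m := m) (F := F))
  have hfact : Fact ℓ.Prime := ⟨hℓ⟩
  obtain ⟨x, hx⟩ := exists_prime_orderOf_dvd_card' ℓ hdiv
  obtain ⟨k, hkfix⟩ := x
  have hk : phiS σ k = k := hkfix
  have hordk : orderOf k = ℓ := by
    rw [← hx]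
    exact (Subgroup.orderOf_mk k hkfix).symm
  obtain ⟨s, rfl⟩ := mkq_surjective k
  rw [phiS_mkq, mkq_eq_iff] at hk
  obtain ⟨z, hz⟩ : ∃ z, z = (sigSp σ s)⁻¹ * s := ⟨_, rfl⟩
  rw [← hz] at hk
  have hs : sigSp σ s = s * z⁻¹ := by
    rw [hz]
    group
  have hzc := Subgroup.mem_center_iff.1 hk
  have hz2 := center_sq_eq_one hm hk
  have hzinv : z⁻¹ = z := inv_eq_of_mul_eq_one_left hz2
  have ht : s * s ∈ SpFix σ := by
    rw [mem_SpFix, map_mul, hs, hzinv]
    calc s * z * (s * z) = s * (z * s) * z := by group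
      _ = s * (s * z) * z := by rw [hzc s]
      _ = s * s * (z * z) := by group
      _ = s * s := by rw [hz2, mul_one]
  have hcop : Nat.Coprime (orderOf (mkq s)) 2 := by
    rw [hordk]
    exact (Nat.coprime_primes hℓ Nat.prime_two).2 hodd
  have h1 : orderOf (mkq (s * s)) = ℓ := by
    rw [map_mul, ← pow_two, hcop.orderOf_pow, hordk]
  have h2 : orderOf (mkq (s * s)) ∣ orderOf (s * s) := orderOf_map_dvd _ _
  have h3 : orderOf (s * s) ∣ Nat.card ↥(SpFix (m := m) σ) := by
    rw [← Subgroup.orderOf_mk (s * s) ht]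
    exact orderOf_dvd_natCard _
  rw [h1] at h2
  exact dvd_trans h2 h3

end theta

end Cfsg.Agent.Helper2.SpA
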