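import Mathlib
import Cfsg.Agent.Lib.Helper2.Spa34
import Cfsg.Agent.Lib.Helper13.FieldAutFixed

set_option autoImplicit false
set_option linter.unusedSimpArgs false
set_option linter.unusedVariables false
set_option linter.unusedSectionVars false

/-! Local balance for the symplectic groups, part 4: a standard automorphism fixing the images of
all symplectic matrices fixed by a field automorphism is a power of that field automorphism. -/

namespace Cfsg.Agent.Helper2.SpA

open Matrix Cfsg.Agent.Helper2.Symp Cfsg.Agent.Helper2.PU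
open Cfsg.Agent.Helper13.FAut (fixedField mem_fixedField)
open scoped MatrixGroups

section galois

variable {F : Type*} [Field F] [Finite F]

/-- an automorphism fixing the fixed field of `σ` pointwise is a power of `σ` -/
theorem mem_zpowers_of_fixes_fixedField (σ τ : RingAut F)
    (h : ∀ a, σ a = a → τ a = a) : τ ∈ Subgroup.zpowers σ := by
  have : Finite (RingAut F) :=
    Finite.of_injective (fun f : F ≃+* F => (f : F → F)) DFunLike.coe_injective
  let τa : F →ₐ[FixedPoints.subfield (Subgroup.zpowers (σ : RingAut F)) F] F :=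
    { toRingHom := (τ : F →+* F)
      commutes' := by
        intro a
        exact h a.1 ((mem_fixedField σ a.1).1 a.2) }
  obtain ⟨g, hg⟩ := (FixedPoints.toAlgHom_bijective (Subgroup.zpowers (σ : RingAut F)) F).2 τa
  have h1 : (g : RingAut F) = τ := by
    ext x
    have := DFunLike.congr_fun hg x
    exact this
  rw [← h1]
  exact g.2

end galois

section fixes

variable {m : ℕ} {F : Type*} [Field F] [Finite F] (p : ℕ) [Fact p.Prime] [CharP F p]

include p in
/-- **a standard automorphism fixing the image of every symplectic matrix fixed by `σ` is a power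
of the standard field automorphism of `σ`** -/
theorem mem_zpowers_of_fixes (hm : 2 ≤ m) (σ : RingAut F) (n : MulAut (PGq m F))
    (hn : n ∈ GamS m F) (hfix : ∀ t ∈ SpFix (m := m) σ, n (mkq t) = mkq t) :
    n ∈ Subgroup.zpowers (phiS (m := m) σ) := by
  obtain ⟨τ, g, hg, rfl⟩ := hn
  obtain ⟨cu, hcu⟩ := (mem_GSp_iff g).1 hg
  have hcu0 : (cu : F) ≠ 0 := cu.ne_zero
  obtain ⟨i₀, hi₀⟩ : ∃ i₀ : Fin m, i₀ = ⟨0, by omega⟩ := ⟨_, rfl⟩
  obtain ⟨i₁, hi₁⟩ : ∃ i₁ : Fin m, i₁ = ⟨1, by omega⟩ := ⟨_, rfl⟩
  have hfe : Bf (fV i₀ : Fin m ⊕ Fin m → F) (eV i₀) = 1 := Bf_fV_eV i₀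
  -- the key identity
  have key : ∀ (u : Fin m ⊕ Fin m → F) (a : F), σ ∘ u = u → σ a = a →
      tv (semiMap g τ u) (τ a / (cu : F)) = tv u a := by
    intro u a hu ha
    have h1 := hfix (tv u a) (tv_mem_SpFix σ hu ha)
    rw [stdAutQ_mk, stdHom_tv g hg τ hcu] at h1
    exact mkq_inj_of_pow p hfe (pow_of_mem_rootGroup p (mem_rootGroup.2 ⟨_, rfl⟩))
      (pow_of_mem_rootGroup p (mem_rootGroup.2 ⟨_, rfl⟩)) h1
  have hb0 : ∀ i : Fin m ⊕ Fin m, (Pi.single i (1 : F) : Fin m ⊕ Fin m → F) ≠ 0 := by
    intro i h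
    have := congrFun h i
    simp at this
  -- basis vectors are eigenvectors
  have hstep1 : ∀ u : Fin m ⊕ Fin m → F, σ ∘ u = u → u ≠ 0 →
      ∃ c : F, semiMap g τ u = c • u := by
    intro u hu hu0
    have h1 := key u 1 hu (map_one σ)
    rw [map_one] at h1
    have hv0 : semiMap g τ u ≠ 0 := by
      intro h0
      rw [h0, tv_zero_left] at h1
      exact one_ne_zero ((tv_eq_one_iff hu0 _).1 h1.symm)
    have hmem : tv (semiMap g τ u) (1 / (cu : F)) ∈ rootGroup u := by
      rw [h1]
      exact mem_rootGroup.2 ⟨1, rfl⟩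
    exact smul_of_tv_mem_rootGroup hv0 (one_div_ne_zero hcu0) hmem
  choose lam hlam using fun i : Fin m ⊕ Fin m => hstep1 (Pi.single i 1) (comp_single σ i) (hb0 i)
  have hstep2 : ∀ i k : Fin m ⊕ Fin m, i ≠ k → lam i = lam k := by
    intro i k hik
    have hu : σ ∘ ((Pi.single i (1 : F) : Fin m ⊕ Fin m → F) + Pi.single k 1) =
        Pi.single i 1 + Pi.single k 1 := by
      funext x
      simp only [Function.comp_apply, Pi.add_apply, map_add]
      have h1 := congrFun (comp_single σ i) x
      have h2 := congrFun (comp_single σ k) x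
      simp only [Function.comp_apply] at h1 h2
      rw [h1, h2]
    have hu0 : (Pi.single i (1 : F) : Fin m ⊕ Fin m → F) + Pi.single k 1 ≠ 0 := by
      intro h
      have := congrFun h i
      simp [Pi.single_apply, hik] at this
    obtain ⟨c, hc⟩ := hstep1 _ hu hu0
    rw [semiMap_add, hlam i, hlam k] at hc
    have hci := congrFun hc i
    have hck := congrFun hc k
    simp [Pi.single_apply, hik, Ne.symm hik] at hci hck
    rw [hci, hck]
  have hconst : ∀ i : Fin m ⊕ Fin m, lam i = lam (Sum.inl i₀) := by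
    intro i
    by_cases h : i = Sum.inl i₀
    · rw [h]
    · exact hstep2 i _ h
  -- the matrix is scalar
  have hscal : ((g : GL (Fin m ⊕ Fin m) F) : Mt m F) =
      lam (Sum.inl i₀) • (((1 : GL (Fin m ⊕ Fin m) F)) : Mt m F) := by
    apply Matrix.ext_of_mulVec_single
    intro i
    have h1 := hlam i
    unfold semiMap at h1
    rw [comp_single τ i] at h1
    rw [h1, hconst i, Matrix.smul_mulVec, Units.val_one, Matrix.one_mulVec]
  have hn : stdAutQ g hg τ = phiS τ := by
    rw [phiS_apply]
    exact stdAutQ_of_smul (Cfsg.GSp m F).one_mem hg _ hscal τ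
  -- the field automorphism fixes the fixed field
  have hτ : ∀ a, σ a = a → τ a = a := by
    intro a ha
    have key' : ∀ a, σ a = a →
        a = lam (Sum.inl i₀) * lam (Sum.inl i₀) * (τ a / (cu : F)) := by
      intro a ha
      have h1 := key (Pi.single (Sum.inl i₀) 1) a (comp_single σ _) ha
      rw [hlam, tv_smul_vec] at h1
      exact (tv_injective (hb0 _) h1).symm
    have h3 := key' 1 (map_one σ)
    rw [map_one] at h3
    have h4 := key' a ha
    rw [mul_div_assoc'] at h3 h4
    rw [eq_div_iff hcu0] at h3 h4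
    have : (cu : F) * (τ a - a) = 0 := by linear_combination (τ a) * h3 - h4
    rcases mul_eq_zero.1 this with h | h
    · exact absurd h hcu0
    · exact sub_eq_zero.1 h
  obtain ⟨k, hk⟩ := Subgroup.mem_zpowers_iff.1 (mem_zpowers_of_fixes_fixedField σ τ hτ)
  rw [hn, ← hk, map_zpow]
  exact Subgroup.zpow_mem_zpowers _ k

end fixes

end Cfsg.Agent.Helper2.SpA
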