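import Mathlib
import Cfsg.Agent.Lib.Helper2.PSLSimple
import Cfsg.Agent.Lib.Helper2.Psln28
import Cfsg.Agent.Lib.Helper2.Spa35

set_option autoImplicit false
set_option linter.unusedSimpArgs false
set_option linter.unusedVariables false
set_option linter.unusedSectionVars false

/-! Local balance for the linear groups, part 1: the Iwasawa structure of the special linear
group and consequences for normal subgroups. -/

namespace Cfsg.Agent.Helper2.PLB

open Matrix Matrix.SpecialLinearGroup
open scoped MatrixGroups LinearAlgebra.Projectivization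

section iwasawa

variable {ι F₀ : Type*} [DecidableEq ι] [Fintype ι] [Field F₀]

open MulAction in
/-- the Iwasawa structure of the special linear group acting on the projective space -/
noncomputable def slIwasawa [Nontrivial ι] :
    IwasawaStructure (Matrix.SpecialLinearGroup ι F₀) (ℙ F₀ (ι → F₀)) where
  T p := lineStab p.submodule
  is_comm p := by
    rw [← Projectivization.mk_rep p, Projectivization.submodule_mk]
    exact lineStab_isMulCommutative_of_span p.rep p.rep_nonzero
  is_conj g p := by
    rw [PSL.smul_submodule, Matrix.SpecialLinearGroup.lineStab_smul]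
  is_generator := Cfsg.Agent.Helper2.iSup_lineStab_eq_top

/-- a subgroup containing the elementary transvections is everything -/
theorem eq_top_of_transvection_mem [Nontrivial ι] (H : Subgroup (Matrix.SpecialLinearGroup ι F₀))
    (h : ∀ (i j : ι) (hij : i ≠ j) (c : F₀), transvection hij c ∈ H) : H = ⊤ := by
  rw [eq_top_iff]
  intro M _
  refine diagonal_transvection_induction' (fun M => M ∈ H) M ?_ ?_ ?_
  · intro i j hij c hc
    rw [Cfsg.Agent.Helper2.diag2n_eq_transvections hij c hc]
    exact mul_mem (mul_mem (mul_mem (h _ _ _ _) (h _ _ _ _)) (h _ _ _ _))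
      (mul_mem (mul_mem (h _ _ _ _) (h _ _ _ _)) (h _ _ _ _))
  · intro i j hij a
    exact h i j hij a
  · intro A B hA hB
    exact mul_mem hA hB

variable (p : ℕ) [Fact p.Prime] [CharP F₀ p]

include p in
/-- the `p`-th power of every element of the special linear group is in the commutator
subgroup -/
theorem pow_char_mem_commutator [Nontrivial ι] (s₀ : Matrix.SpecialLinearGroup ι F₀) :
    s₀ ^ p ∈ commutator (Matrix.SpecialLinearGroup ι F₀) := by
  rw [← Abelianization.ker_of, MonoidHom.mem_ker, map_pow]
  obtain ⟨ψ, hψ⟩ : ∃ ψ : Matrix.SpecialLinearGroup ι F₀ →*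
      Abelianization (Matrix.SpecialLinearGroup ι F₀),
      ψ = (powMonoidHom p).comp Abelianization.of := ⟨_, rfl⟩
  have hker : ψ.ker = ⊤ := by
    apply eq_top_of_transvection_mem
    intro i j hij c
    rw [MonoidHom.mem_ker, hψ, MonoidHom.comp_apply, powMonoidHom_apply, ← map_pow,
      Cfsg.Agent.Helper2.PN.transvection_pow_p p hij c, map_one]
  have h1 : s₀ ∈ ψ.ker := by
    rw [hker]
    trivial
  rw [MonoidHom.mem_ker, hψ, MonoidHom.comp_apply, powMonoidHom_apply] at h1
  exact h1

include p in
/-- a normal subgroup of the special linear group not fixing all the points contains every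
element of order prime to the characteristic -/
theorem mem_of_normal_of_coprime [Nontrivial ι] (M₀ : Subgroup (Matrix.SpecialLinearGroup ι F₀))
    [hM₀ : M₀.Normal]
    (hfix : MulAction.fixedPoints M₀ (ℙ F₀ (ι → F₀)) ≠ Set.univ)
    (t : Matrix.SpecialLinearGroup ι F₀) (k : ℕ) (hk : k.Coprime p) (ht : t ^ k = 1) :
    t ∈ M₀ := by
  have hcomm := (slIwasawa (ι := ι) (F₀ := F₀)).commutator_le M₀ hfix
  have h1 : t ^ p ∈ M₀ := hcomm (pow_char_mem_commutator p t)
  have h2 : t ^ k ∈ M₀ := by
    rw [ht]
    exact M₀.one_mem
  have h3 : t ^ (Nat.gcd p k) ∈ M₀ := by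
    rw [← zpow_natCast, Nat.gcd_eq_gcd_ab, _root_.zpow_add, _root_.zpow_mul, _root_.zpow_mul,
      zpow_natCast, zpow_natCast]
    exact M₀.mul_mem (M₀.zpow_mem h1 _) (M₀.zpow_mem h2 _)
  rw [Nat.Coprime.symm hk, pow_one] at h3
  exact h3

/-- an element of the special linear group fixing all the points is central -/
theorem mem_center_of_fixes (s : Matrix.SpecialLinearGroup ι F₀)
    (h : ∀ q : ℙ F₀ (ι → F₀), s • q = q) : s ∈ Subgroup.center (Matrix.SpecialLinearGroup ι F₀) := by
  rw [← Projectivization.SL_mulAction_ker, MonoidHom.mem_ker]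
  ext q
  exact h q

end iwasawa

end Cfsg.Agent.Helper2.PLB
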