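import Mathlib
import Cfsg.Agent.Lib.Helper2.Plb1
import Cfsg.Agent.Lib.Helper2.Spa32

set_option autoImplicit false
set_option linter.unusedSimpArgs false
set_option linter.unusedVariables false
set_option linter.unusedSectionVars false

/-! Local balance for the linear groups, part 2: the matrices fixed by a field automorphism, the
inner automorphisms attached to them, and the automorphisms fixing them. -/

namespace Cfsg.Agent.Helper2.PLB

open Matrix Matrix.SpecialLinearGroup Cfsg.Agent.Helper2.PN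
open Cfsg.Agent.Helper13.FAut (fixedField mem_fixedField)
open scoped MatrixGroups LinearAlgebra.Projectivization

section fixed

variable {ι : Type*} [Fintype ι] [DecidableEq ι] {F : Type*} [Field F]

/-- the matrices of determinant one fixed by a field automorphism -/
def SLfix (σ : RingAut F) : Subgroup (Matrix.SpecialLinearGroup ι F) :=
  MonoidHom.eqLocus ((fieldSLHom σ : MulAut (Matrix.SpecialLinearGroup ι F)).toMonoidHom)
    (MonoidHom.id _)

theorem mem_SLfix (σ : RingAut F) (s : Matrix.SpecialLinearGroup ι F) :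
    s ∈ SLfix σ ↔ fieldSLHom σ s = s := Iff.rfl

theorem transvection_mem_SLfix (σ : RingAut F) {i j : ι} (hij : i ≠ j) {c : F} (hc : σ c = c) :
    transvection hij c ∈ SLfix σ := by
  rw [mem_SLfix, fieldSLHom_transvection, hc]

/-- the inner automorphism attached to a matrix of determinant one -/
noncomputable def thetaL : Matrix.SpecialLinearGroup ι F →*
    MulAut (Matrix.ProjectiveSpecialLinearGroup ι F) :=
  (MulAut.conj : Matrix.ProjectiveSpecialLinearGroup ι F →* _).comp mkn

theorem thetaL_apply (t : Matrix.SpecialLinearGroup ι F) : thetaL t = MulAut.conj (mkn t) := rfl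

theorem thetaL_eq_Psi (t : Matrix.SpecialLinearGroup ι F) : thetaL t = Psi (toGL t) := by
  rw [thetaL_apply, Psi_toGL]

theorem phiF_mkn_of_mem {σ : RingAut F} {t : Matrix.SpecialLinearGroup ι F} (ht : t ∈ SLfix σ) :
    phiF σ (mkn t) = mkn t := by
  rw [phiF_mk, (mem_SLfix σ t).1 ht]

theorem thetaL_mem_centralizer {σ : RingAut F} {t : Matrix.SpecialLinearGroup ι F}
    (ht : t ∈ SLfix σ) : thetaL t ∈ Subgroup.centralizer {phiF (ι := ι) σ} :=
  Cfsg.Agent.Helper2.SpA.fix_conj_mem_centralizer _ (phiF_mkn_of_mem ht)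

theorem thetaL_mem_inn (t : Matrix.SpecialLinearGroup ι F) :
    thetaL t ∈ Cfsg.Inn (Matrix.ProjectiveSpecialLinearGroup ι F) := ⟨mkn t, rfl⟩

/-- a fixed point of the field automorphism normalises the image of the fixed matrices -/
theorem conj_mkn_of_fixed {σ : RingAut F} {k : Matrix.ProjectiveSpecialLinearGroup ι F}
    (hk : phiF σ k = k) {t : Matrix.SpecialLinearGroup ι F} (ht : t ∈ SLfix σ) :
    ∃ t' ∈ SLfix σ, k * mkn t * k⁻¹ = mkn t' := by
  obtain ⟨s, rfl⟩ := mkn_surjective k
  rw [phiF_mk, QuotientGroup.mk'_eq_mk'] at hk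
  obtain ⟨z, hk, hz⟩ := hk
  have hs : fieldSLHom σ s = s * z⁻¹ := by
    rw [eq_mul_inv_iff_mul_eq]
    exact hz
  have hzc := Subgroup.mem_center_iff.1 hk
  refine ⟨s * t * s⁻¹, ?_, by simp only [map_mul, map_inv]⟩
  rw [mem_SLfix, map_mul, map_mul, map_inv, hs, (mem_SLfix σ t).1 ht]
  have h1 : z⁻¹ * t = t * z⁻¹ := by
    have := hzc t
    calc z⁻¹ * t = z⁻¹ * (t * z) * z⁻¹ := by group
      _ = z⁻¹ * (z * t) * z⁻¹ := by rw [this]
      _ = t * z⁻¹ := by group
  calc s * z⁻¹ * t * (s * z⁻¹)⁻¹ = s * (z⁻¹ * t) * z * s⁻¹ := by group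
    _ = s * (t * z⁻¹) * z * s⁻¹ := by rw [h1]
    _ = s * t * s⁻¹ := by group

end fixed

section fixes

variable {ι : Type*} [Fintype ι] [DecidableEq ι] {F : Type*} [Field F]
  (p : ℕ) [Fact p.Prime] [CharP F p] [Nontrivial ι]

include p in
/-- a semilinear automorphism fixing the images of the elementary transvections with parameters
in a set containing `1` is a field automorphism fixing that set -/
theorem of_Phi_fixes (g : GL ι F) (τ : RingAut F) (S : Set F) (h1 : (1 : F) ∈ S)
    (h : ∀ {i j : ι} (hij : i ≠ j) (c : F), c ∈ S →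
      Phi (⟨g, τ⟩ : GamL ι F) (mkn (transvection hij c)) = mkn (transvection hij c)) :
    g ∈ Subgroup.center (GL ι F) ∧ ∀ c ∈ S, τ c = c := by
  have : Nonempty ι := inferInstance
  have key : ∀ {i j : ι} (hij : i ≠ j) (c : F), c ∈ S →
      g.1 * (transvection hij (τ c)).1 = (transvection hij c).1 * g.1 := by
    intro i j hij c hc
    have h1 := h hij c hc
    rw [Phi_mk, fieldSLHom_transvection] at h1
    have h2 : conjSL g (transvection hij (τ c)) = transvection hij c := by
      apply eq_of_mkn_eq_of_pow p _ _ 1 ?_ ?_ h1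
      · rw [pow_one, ← map_pow, transvection_pow_p, map_one]
      · rw [pow_one, transvection_pow_p]
    rw [← h2, conjSL_mul_eq]
  have hsc : g.1 ∈ Set.range (Matrix.scalar ι) := by
    apply mem_range_scalar_of_commute_single
    intro i j hij
    have := key hij 1 h1
    rw [map_one, transvection_coe, Matrix.mul_add, Matrix.add_mul, Matrix.mul_one,
      Matrix.one_mul] at this
    exact (add_left_cancel this).symm
  refine ⟨Matrix.GeneralLinearGroup.mem_center_iff_val_mem_range_scalar.mpr hsc, ?_⟩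
  obtain ⟨r, hr⟩ := hsc
  have hr0 : r ≠ 0 := by
    rintro rfl
    rw [map_zero] at hr
    have h1 : g.1 * (g⁻¹).1 = 1 := Units.mul_inv g
    rw [← hr, Matrix.zero_mul] at h1
    obtain ⟨i⟩ := ‹Nonempty ι›
    have := congrFun (congrFun h1 i) i
    simp at this
  obtain ⟨i, j, hij⟩ := exists_pair_ne ι
  intro c hc
  have := key hij c hc
  rw [← hr, transvection_coe, transvection_coe, Matrix.mul_add, Matrix.add_mul, Matrix.mul_one,
    Matrix.one_mul] at this
  have h4 : (Matrix.scalar ι r) * single i j (τ c) = single i j c * (Matrix.scalar ι r) :=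
    add_left_cancel this
  have h3 := congrFun (congrFun h4 i) j
  rw [Matrix.scalar_apply, Matrix.diagonal_mul, Matrix.mul_diagonal, Matrix.single_apply_same,
    Matrix.single_apply_same] at h3
  have : r * (τ c - c) = 0 := by linear_combination h3
  exact sub_eq_zero.mp ((mul_eq_zero.mp this).resolve_left hr0)

end fixes

section tau

variable {m : ℕ} {F : Type*} [Field F] (p : ℕ) [Fact p.Prime] [CharP F p]

include p in
theorem tau_aux' (g : GL (Fin (m + 2)) F) (σ : RingAut F) {j : Fin (m + 2)}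
    (hj : (0 : Fin (m + 2)) ≠ j)
    (h : Phi (⟨g, σ⟩ : GamL (Fin (m + 2)) F) (mkn (transvection hj 1)) =
      tauAut (mkn (transvection hj 1)))
    {a : Fin (m + 2)} (ha : a ≠ j) : (g.1 *ᵥ (ee 0 : Fin (m + 2) → F)) a = 0 := by
  have h1 := h
  rw [Phi_mk, fieldSLHom_transvection, map_one, tauAut_mk] at h1
  have h2 : conjSL g (transvection hj (1 : F)) = invTr (transvection hj 1) := by
    apply eq_of_mkn_eq_of_pow p _ _ 1 ?_ ?_ h1
    · rw [pow_one, ← map_pow, transvection_pow_p, map_one]
    · rw [pow_one, ← map_pow, transvection_pow_p, map_one]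
  have h3 : (conjSL g (transvection hj (1 : F))).1 = (invTr (transvection hj (1 : F))).1 := by
    rw [h2]
  rw [transvection_eq_tv, invTr_tv, conjSL_coe, tv_coe, tv_coe,
    conj_one_add _ _ (Units.mul_inv g)] at h3
  have h4 := add_left_cancel h3
  have e1 := congrFun (congrFun h4 j) 0
  have e2 := congrFun (congrFun h4 a) 0
  rw [vecMulVec_apply, vecMulVec_apply] at e1 e2
  rw [Pi.single_eq_same, Pi.neg_apply, Pi.single_eq_same] at e1
  rw [Pi.single_eq_of_ne ha, zero_mul] at e2
  have hne : ((Pi.single j (1 : F) : Fin (m + 2) → F) ᵥ* ((g⁻¹ : GL (Fin (m + 2)) F) :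
      Matrix (Fin (m + 2)) (Fin (m + 2)) F)) 0 ≠ 0 := by
    intro h0
    rw [h0, mul_zero] at e1
    have : (1 : F) = 0 := by linear_combination e1
    exact one_ne_zero this
  exact (mul_eq_zero.mp e2).resolve_right hne

include p in
/-- no semilinear automorphism agrees with the inverse transpose on the elementary transvections
with parameter `1`, when `n ≥ 3` -/
theorem not_agree_tau (hm : 1 ≤ m) (g : GL (Fin (m + 2)) F) (σ : RingAut F)
    (h : ∀ {j : Fin (m + 2)} (hj : (0 : Fin (m + 2)) ≠ j),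
      Phi (⟨g, σ⟩ : GamL (Fin (m + 2)) F) (mkn (transvection hj 1)) =
        tauAut (mkn (transvection hj 1))) : False := by
  obtain ⟨k, h0k, hk1⟩ := Cfsg.Agent.Helper2.exists_third (ι := Fin (m + 2))
    (by rw [Fintype.card_fin]; omega) 0 1
  have h01 : (0 : Fin (m + 2)) ≠ 1 := Fin.zero_ne_one
  have hz : g.1 *ᵥ (ee 0 : Fin (m + 2) → F) = 0 := by
    funext a
    by_cases ha : a = 1
    · subst ha
      exact tau_aux' p g σ h0k (h h0k) hk1.symm
    · exact tau_aux' p g σ h01 (h h01) ha
  have h2 : (ee 0 : Fin (m + 2) → F) = 0 := by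
    have : ((g⁻¹ : GL (Fin (m + 2)) F) : Matrix (Fin (m + 2)) (Fin (m + 2)) F) *ᵥ
        (g.1 *ᵥ (ee 0 : Fin (m + 2) → F)) = ((g⁻¹ : GL (Fin (m + 2)) F) :
        Matrix (Fin (m + 2)) (Fin (m + 2)) F) *ᵥ 0 := by rw [hz]
    rwa [mulVec_mulVec, Units.inv_mul, one_mulVec, mulVec_zero] at this
  exact ee_ne_zero 0 h2

end tau

section zpowers

variable {n : ℕ} {F : Type*} [Field F] [Finite F] (p : ℕ) [Fact p.Prime] [CharP F p]

include p in
/-- **an automorphism fixing the image of every matrix fixed by `σ` is a power of the standard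
field automorphism of `σ`** -/
theorem mem_zpowers_of_fixes (hn : 2 ≤ n) (σ : RingAut F)
    (a : MulAut (Matrix.ProjectiveSpecialLinearGroup (Fin n) F))
    (hfix : ∀ t ∈ SLfix (ι := Fin n) σ, a (mkn t) = mkn t) :
    a ∈ Subgroup.zpowers (phiF (ι := Fin n) σ) := by
  have hnt : Nontrivial (Fin n) := Fin.nontrivial_iff_two_le.mpr hn
  have hfinF : Fintype F := Fintype.ofFinite F
  rcases aut_cases p hn a with ⟨g, τ, rfl⟩ | ⟨h3, g, τ, rfl⟩
  · rw [← Phi_eq] at hfix
    obtain ⟨hg, hτ⟩ := of_Phi_fixes p g τ {c | σ c = c} (map_one σ)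
      (fun hij c hc => hfix _ (transvection_mem_SLfix σ hij hc))
    rw [Psi_of_mem_center hg, one_mul]
    obtain ⟨k, hk⟩ := Subgroup.mem_zpowers_iff.1
      (Cfsg.Agent.Helper2.SpA.mem_zpowers_of_fixes_fixedField σ τ hτ)
    rw [← hk, map_zpow]
    exact Subgroup.zpow_mem_zpowers _ k
  · exfalso
    obtain ⟨m, rfl⟩ : ∃ m, n = m + 2 := ⟨n - 2, by omega⟩
    -- the inverse of the semilinear part agrees with the inverse transpose on fixed matrices
    have key : ∀ t ∈ SLfix (ι := Fin (m + 2)) σ,
        ((Psi g * phiF τ)⁻¹ : MulAut (Matrix.ProjectiveSpecialLinearGroup (Fin (m + 2)) F))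
          (mkn t) = tauAut (mkn t) := by
      intro t ht
      have h1 := hfix t ht
      rw [MulAut.mul_apply] at h1
      rw [MulAut.inv_apply, MulEquiv.symm_apply_eq]
      exact h1.symm
    obtain ⟨⟨g', τ'⟩, hg'⟩ : (Psi g * phiF τ)⁻¹ ∈ (Phi (ι := Fin (m + 2)) (F := F)).range := by
      apply Subgroup.inv_mem
      rw [← Phi_eq]
      exact ⟨_, rfl⟩
    apply not_agree_tau p (by omega) g' τ'
    intro j hj
    rw [hg']
    exact key _ (transvection_mem_SLfix σ hj (map_one σ))

end zpowers

end Cfsg.Agent.Helper2.PLB
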