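import Mathlib
import Cfsg.Agent.Lib.Helper2.Plb2

set_option autoImplicit false
set_option linter.unusedSimpArgs false
set_option linter.unusedVariables false
set_option linter.unusedSectionVars false

/-! Local balance for the linear groups, part 3: elements of order a power of `ℓ` in the special
linear group over the fixed field. -/

namespace Cfsg.Agent.Helper2.PLB

open Matrix Matrix.SpecialLinearGroup Cfsg.Agent.Helper2.PN
open Cfsg.Agent.Helper13.FAut (fixedField mem_fixedField)
open scoped MatrixGroups LinearAlgebra.Projectivization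

section basic

variable {ι : Type*} [Fintype ι] [DecidableEq ι] {F : Type*} [Field F]
  (p : ℕ) [Fact p.Prime] [CharP F p] [Nontrivial ι]

include p in
/-- the projective special linear group has trivial centre -/
theorem conj_injective_L : Function.Injective
    (MulAut.conj : Matrix.ProjectiveSpecialLinearGroup ι F →* MulAut _) := by
  rw [injective_iff_map_eq_one]
  intro k hk
  obtain ⟨s, rfl⟩ := mkn_surjective k
  rw [← Psi_toGL, Psi_eq_one_iff p] at hk
  rw [QuotientGroup.mk'_apply, QuotientGroup.eq_one_iff, Subgroup.mem_center_iff]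
  intro t
  have h1 := Subgroup.mem_center_iff.1 hk (toGL t)
  rw [← map_mul, ← map_mul] at h1
  apply Subtype.ext
  have h2 := congrArg (fun g : GL ι F => (g : Matrix ι ι F)) h1
  exact h2

include p in
theorem thetaL_eq_one_iff (t : Matrix.SpecialLinearGroup ι F) :
    thetaL t = 1 ↔ t ∈ Subgroup.center (Matrix.SpecialLinearGroup ι F) := by
  rw [thetaL_apply, ← map_one (MulAut.conj : Matrix.ProjectiveSpecialLinearGroup ι F →* MulAut _),
    (conj_injective_L p).eq_iff, QuotientGroup.mk'_apply, QuotientGroup.eq_one_iff]

end basic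

section maps

variable {ι : Type*} [Fintype ι] [DecidableEq ι] {F F₀ : Type*} [Field F] [Field F₀]

/-- the special linear group over a subfield -/
abbrev mapSL (j : F₀ →+* F) : Matrix.SpecialLinearGroup ι F₀ →* Matrix.SpecialLinearGroup ι F :=
  Matrix.SpecialLinearGroup.map j

theorem mapSL_coe (j : F₀ →+* F) (s : Matrix.SpecialLinearGroup ι F₀) :
    (mapSL j s).1 = s.1.map j := rfl

theorem mapSL_injective (j : F₀ →+* F) : Function.Injective (mapSL (ι := ι) j) := by
  intro s t h
  apply Subtype.ext
  have h1 : (mapSL j s).1 = (mapSL j t).1 := by rw [h]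
  rw [mapSL_coe, mapSL_coe] at h1
  ext a b
  have h2 := congrFun (congrFun h1 a) b
  rw [Matrix.map_apply, Matrix.map_apply] at h2
  exact j.injective h2

theorem toGL_mapSL (j : F₀ →+* F) (s : Matrix.SpecialLinearGroup ι F₀) :
    toGL (mapSL j s) = Matrix.GeneralLinearGroup.map j (toGL s) := by
  apply Units.ext
  rfl

theorem mapSL_mem_SLfix (σ : RingAut F) (e : F₀ ≃+* fixedField σ)
    (s : Matrix.SpecialLinearGroup ι F₀) : mapSL (jEmb σ e) s ∈ SLfix σ := by
  rw [mem_SLfix]
  apply Subtype.ext
  rw [fieldSLHom_coe', mapSL_coe]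
  ext a b
  rw [Matrix.map_apply, Matrix.map_apply]
  exact jEmb_fixed σ e _

theorem range_mapSL (σ : RingAut F) (e : F₀ ≃+* fixedField σ) :
    (mapSL (ι := ι) (jEmb σ e)).range = SLfix σ := by
  apply le_antisymm
  · rintro _ ⟨s, rfl⟩
    exact mapSL_mem_SLfix σ e s
  · intro t ht
    rw [mem_SLfix] at ht
    have hfix : ∀ a b, σ (t.1 a b) = t.1 a b := by
      intro a b
      have h1 : (fieldSLHom σ t).1 a b = t.1 a b := by rw [ht]
      rw [fieldSLHom_coe', Matrix.map_apply] at h1
      exact h1
    choose c hc using fun a b => exists_jEmb_eq σ e _ (hfix a b)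
    have hmap : (Matrix.of c).map (jEmb σ e) = t.1 := by
      ext a b
      rw [Matrix.map_apply, Matrix.of_apply, hc]
    have hdet : (Matrix.of c).det = 1 := by
      apply (jEmb σ e).injective
      rw [RingHom.map_det, RingHom.mapMatrix_apply, hmap, map_one]
      exact t.2
    refine ⟨⟨Matrix.of c, hdet⟩, ?_⟩
    apply Subtype.ext
    exact hmap

/-- a central element of the special linear group over the subfield is central in the big one -/
theorem mapSL_mem_center (j : F₀ →+* F) {s : Matrix.SpecialLinearGroup ι F₀}
    (hs : s ∈ Subgroup.center (Matrix.SpecialLinearGroup ι F₀)) :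
    mapSL j s ∈ Subgroup.center (Matrix.SpecialLinearGroup ι F) := by
  rw [Matrix.SpecialLinearGroup.mem_center_iff] at hs ⊢
  obtain ⟨r, hr, hrs⟩ := hs
  refine ⟨j r, by rw [← map_pow, hr, map_one], ?_⟩
  rw [mapSL_coe, ← hrs]
  ext a b
  rw [Matrix.map_apply, Matrix.scalar_apply, Matrix.scalar_apply, Matrix.diagonal_apply,
    Matrix.diagonal_apply]
  split_ifs
  · rfl
  · rw [map_zero]

/-- an element of the special linear group over the subfield which becomes central is central -/
theorem mem_center_of_mapSL (j : F₀ →+* F) {s : Matrix.SpecialLinearGroup ι F₀}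
    (hs : mapSL j s ∈ Subgroup.center (Matrix.SpecialLinearGroup ι F)) :
    s ∈ Subgroup.center (Matrix.SpecialLinearGroup ι F₀) := by
  rw [Subgroup.mem_center_iff] at hs ⊢
  intro t
  apply mapSL_injective j
  rw [map_mul, map_mul]
  exact hs _

end maps

end Cfsg.Agent.Helper2.PLB
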