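import Mathlib
import Cfsg.Agent.Lib.Helper2.Plb3

set_option autoImplicit false
set_option linter.unusedSimpArgs false
set_option linter.unusedVariables false
set_option linter.unusedSectionVars false

/-! Local balance for the linear groups, part 4: existence of a non-central element of order a
power of `ℓ` among the fixed matrices, when `ℓ` divides the number of fixed points. -/

namespace Cfsg.Agent.Helper2.PLB

open Matrix Matrix.SpecialLinearGroup Cfsg.Agent.Helper2.PN
open Cfsg.Agent.Helper13.FAut (fixedField mem_fixedField)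
open scoped MatrixGroups LinearAlgebra.Projectivization

section explicit

variable {F₀ : Type*} [Field F₀]

theorem diag2n_pow {ι : Type*} [Fintype ι] [DecidableEq ι] {i j : ι} (hij : i ≠ j) (a : F₀)
    (ha : a ≠ 0) (k : ℕ) : (diag2n hij a ha) ^ k = diag2n hij (a ^ k) (pow_ne_zero k ha) := by
  apply Subtype.ext
  rw [coe_pow, diag2n_coe, diag2n_coe, Matrix.diagonal_pow]
  congr 1
  funext x
  rw [Pi.pow_apply]
  split_ifs
  · rfl
  · rw [inv_pow]
  · rw [one_pow]

theorem diag2n_one {ι : Type*} [Fintype ι] [DecidableEq ι] {i j : ι} (hij : i ≠ j)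
    (h1 : (1 : F₀) ≠ 0) : diag2n hij (1 : F₀) h1 = 1 := by
  apply Subtype.ext
  rw [diag2n_coe, coe_one]
  ext a b
  rw [Matrix.diagonal_apply, Matrix.one_apply]
  split_ifs <;> simp

/-- the Weyl element of `SL₂` -/
def wEl : SL(2, F₀) := ⟨!![0, 1; -1, 0], by simp [Matrix.det_fin_two]⟩

theorem wEl_pow_four : (wEl : SL(2, F₀)) ^ 4 = 1 := by
  apply Subtype.ext
  rw [coe_pow, coe_one]
  have h2 : (!![0, 1; -1, 0] : Matrix (Fin 2) (Fin 2) F₀) * !![0, 1; -1, 0] = -1 := by
    ext a b
    fin_cases a <;> fin_cases b <;> simp [Matrix.mul_apply, Fin.sum_univ_two]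
  change (!![0, 1; -1, 0] : Matrix (Fin 2) (Fin 2) F₀) ^ 4 = 1
  rw [show (4 : ℕ) = 2 + 2 from rfl, pow_add, pow_two, h2]
  simp

theorem wEl_coe : (wEl : SL(2, F₀)).1 0 1 = 1 := by
  change (!![0, 1; -1, 0] : Matrix (Fin 2) (Fin 2) F₀) 0 1 = 1
  simp

end explicit

section ell

variable {n : ℕ} {F F₀ : Type*} [Field F] [Finite F] [Field F₀] [Finite F₀]
  (p : ℕ) [Fact p.Prime] [CharP F p]

/-- an element of the special linear group over the subfield with a nonzero off-diagonal entry, or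
two distinct diagonal entries, has a nontrivial inner automorphism -/
theorem thetaL_mapSL_ne_one_of_entry [Nontrivial (Fin n)] (j : F₀ →+* F)
    (t : Matrix.SpecialLinearGroup (Fin n) F₀)
    (h : (∃ a b, a ≠ b ∧ t.1 a b ≠ 0) ∨ ∃ a b, t.1 a a ≠ t.1 b b) :
    t ∉ Subgroup.center (Matrix.SpecialLinearGroup (Fin n) F₀) := by
  intro hc
  rw [Matrix.SpecialLinearGroup.mem_center_iff] at hc
  obtain ⟨r, -, hr⟩ := hc
  rcases h with ⟨a, b, hab, h1⟩ | ⟨a, b, h1⟩
  · apply h1
    rw [← hr, Matrix.scalar_apply, Matrix.diagonal_apply_ne _ hab]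
  · apply h1
    rw [← hr, Matrix.scalar_apply, Matrix.diagonal_apply_eq, Matrix.diagonal_apply_eq]

include p in
/-- **existence of a non-central element of `ℓ`-power order** -/
theorem exists_ell_elt (hn : 2 ≤ n) (σ : RingAut F) (e : F₀ ≃+* fixedField σ) {ℓ : ℕ}
    (hℓ : ℓ.Prime) (hℓp : ℓ ≠ p) (r : ℕ) (hr : 0 < r) (hσ : orderOf σ = r)
    (hdiv : ℓ ∣ Nat.card ↥(MonoidHom.eqLocus (phiF (ι := Fin n) σ).toMonoidHom
      (MonoidHom.id (Matrix.ProjectiveSpecialLinearGroup (Fin n) F)))) :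
    ∃ (t₁ : Matrix.SpecialLinearGroup (Fin n) F₀) (a : ℕ), t₁ ^ (ℓ ^ a) = 1 ∧
      t₁ ∉ Subgroup.center (Matrix.SpecialLinearGroup (Fin n) F₀) := by
  have hnt : Nontrivial (Fin n) := Fin.nontrivial_iff_two_le.mpr hn
  have hfact : Fact ℓ.Prime := ⟨hℓ⟩
  have hfinF₀ : Fintype F₀ := Fintype.ofFinite F₀
  have hfinF : Fintype F := Fintype.ofFinite F
  by_cases hA : ℓ ∣ Nat.card F₀ˣ
  · -- an element of order `ℓ` in the multiplicative group of the subfield
    obtain ⟨ζ, hζ⟩ := exists_prime_orderOf_dvd_card' ℓ hA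
    have hζ1 : ζ ≠ 1 := by
      intro h
      rw [h, orderOf_one] at hζ
      exact hℓ.one_lt.ne hζ
    have hζℓ : (ζ : F₀) ^ ℓ = 1 := by
      rw [← Units.val_pow_eq_pow_val, ← hζ, pow_orderOf_eq_one, Units.val_one]
    by_cases hcase : 3 ≤ n ∨ ℓ ≠ 2
    · obtain ⟨i0, hi0⟩ : ∃ i0 : Fin n, i0 = ⟨0, by omega⟩ := ⟨_, rfl⟩
      obtain ⟨i1, hi1⟩ : ∃ i1 : Fin n, i1 = ⟨1, by omega⟩ := ⟨_, rfl⟩
      have h01 : i0 ≠ i1 := by
        rw [hi0, hi1]
        intro h
        have := congrArg Fin.val h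
        simp at this
      refine ⟨diag2n h01 (ζ : F₀) ζ.ne_zero, 1, ?_, ?_⟩
      · rw [pow_one, diag2n_pow]
        simp only [hζℓ]
        exact diag2n_one h01 _
      · apply thetaL_mapSL_ne_one_of_entry (F := F) (jEmb σ e)
        right
        rcases hcase with h3 | h2
        · obtain ⟨i2, hi2⟩ : ∃ i2 : Fin n, i2 = ⟨2, by omega⟩ := ⟨_, rfl⟩
          have h20 : i2 ≠ i0 := by
            rw [hi0, hi2]
            intro h
            have := congrArg Fin.val h
            simp at this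
          have h21 : i2 ≠ i1 := by
            rw [hi1, hi2]
            intro h
            have := congrArg Fin.val h
            simp at this
          refine ⟨i0, i2, ?_⟩
          rw [diag2n_coe, Matrix.diagonal_apply_eq, Matrix.diagonal_apply_eq, if_pos rfl,
            if_neg h20, if_neg h21]
          intro h
          exact hζ1 (Units.ext h)
        · refine ⟨i0, i1, ?_⟩
          rw [diag2n_coe, Matrix.diagonal_apply_eq, Matrix.diagonal_apply_eq, if_pos rfl,
            if_neg h01.symm, if_pos rfl]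
          intro h
          have h3 : (ζ : F₀) ^ 2 = 1 := by
            rw [pow_two]
            nth_rewrite 2 [h]
            exact mul_inv_cancel₀ ζ.ne_zero
          have h4 : ζ ^ 2 = 1 := by
            apply Units.ext
            rw [Units.val_pow_eq_pow_val, h3, Units.val_one]
          have h5 := orderOf_dvd_of_pow_eq_one h4
          rw [hζ] at h5
          exact h2 ((Nat.prime_dvd_prime_iff_eq hℓ Nat.prime_two).1 h5)
    · push Not at hcase
      obtain ⟨hn3, rfl⟩ := hcase
      obtain rfl : n = 2 := by omega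
      refine ⟨wEl, 2, ?_, ?_⟩
      · rw [show (2 : ℕ) ^ 2 = 4 from rfl]
        exact wEl_pow_four
      · apply thetaL_mapSL_ne_one_of_entry (F := F) (jEmb σ e)
        left
        refine ⟨0, 1, by decide, ?_⟩
        rw [wEl_coe]
        exact one_ne_zero
  · -- the generic case: the order of the multiplicative group is prime to `ℓ`
    have hfinP : Finite (Matrix.ProjectiveSpecialLinearGroup (Fin n) F) :=
      Finite.of_surjective _ (mkn_surjective (ι := Fin n) (F := F))
    obtain ⟨x, hx⟩ := exists_prime_orderOf_dvd_card' ℓ hdiv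
    obtain ⟨k, hkfix⟩ := x
    have hk : phiF σ k = k := hkfix
    have hordk : orderOf k = ℓ := by
      rw [← hx]
      exact (Subgroup.orderOf_mk k hkfix).symm
    obtain ⟨s, rfl⟩ := mkn_surjective k
    have hcent : Psi (toGL s) ∈ Subgroup.centralizer {phiF (ι := Fin n) σ} := by
      rw [Psi_toGL]
      exact Cfsg.Agent.Helper2.SpA.fix_conj_mem_centralizer _ hk
    have hmem : toGL s ∈ (Subgroup.centralizer {phiF (ι := Fin n) σ}).comap Psi := hcent
    rw [comap_centralizer_phiF p σ r hr hσ, ← SetLike.mem_coe, Subgroup.normal_mul,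
      Set.mem_mul] at hmem
    obtain ⟨z, hz, g₁, hg₁, hzg⟩ := hmem
    rw [← range_map_jEmb σ e] at hg₁
    obtain ⟨g₀, rfl⟩ := hg₁
    obtain ⟨c, hc⟩ : ∃ c : MulAut (Matrix.ProjectiveSpecialLinearGroup (Fin n) F),
        c = Psi (Matrix.GeneralLinearGroup.map (jEmb σ e) g₀) := ⟨_, rfl⟩
    have hc' : c = MulAut.conj (mkn s) := by
      rw [hc, ← Psi_toGL, ← hzg, map_mul, Psi_of_mem_center hz, one_mul]
    have hordc : orderOf c = ℓ := by
      rw [hc', orderOf_injective _ (conj_injective_L p) (mkn s), hordk]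
    obtain ⟨N, hN⟩ : ∃ N : ℕ, N = Nat.card F₀ˣ := ⟨_, rfl⟩
    rw [← hN] at hA
    have hdetN : Matrix.GeneralLinearGroup.det (g₀ ^ N) = 1 := by
      rw [map_pow, hN]
      exact pow_card_eq_one'
    obtain ⟨t₁, ht₁⟩ : ∃ t₁ : Matrix.SpecialLinearGroup (Fin n) F₀, toGL t₁ = g₀ ^ N := by
      refine ⟨⟨((g₀ ^ N : GL (Fin n) F₀) : Matrix (Fin n) (Fin n) F₀), ?_⟩, ?_⟩
      · have := congrArg Units.val hdetN
        exact this
      · apply Units.ext
        rfl
    have hθ : thetaL (mapSL (jEmb σ e) t₁) = c ^ N := by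
      rw [thetaL_eq_Psi, toGL_mapSL, ht₁, map_pow, map_pow, hc]
    refine ⟨t₁, 1, ?_, ?_⟩
    · -- the `ℓ`-th power is trivial
      have h1 : c ^ ℓ = 1 := by rw [← hordc, pow_orderOf_eq_one]
      rw [hc, ← map_pow, ← map_pow, Psi_eq_one_iff p, map_jEmb_mem_center_iff,
        Matrix.GeneralLinearGroup.center_eq_range_scalar] at h1
      obtain ⟨u, hu⟩ := h1
      have h2 : (g₀ ^ N) ^ ℓ = 1 := by
        rw [← pow_mul, mul_comm, pow_mul, ← hu, ← map_pow, hN, pow_card_eq_one', map_one]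
      rw [pow_one]
      have h3 : toGL (t₁ ^ ℓ) = toGL 1 := by rw [map_pow, ht₁, h2, map_one]
      apply Subtype.ext
      have h4 := congrArg (fun g : GL (Fin n) F₀ => (g : Matrix (Fin n) (Fin n) F₀)) h3
      exact h4
    · intro hcen
      have h1 : thetaL (mapSL (jEmb σ e) t₁) = 1 :=
        (thetaL_eq_one_iff p _).2 (mapSL_mem_center _ hcen)
      rw [hθ] at h1
      have h2 := orderOf_dvd_of_pow_eq_one h1
      rw [hordc] at h2
      exact hA h2

end ell

end Cfsg.Agent.Helper2.PLB
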