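import Mathlib
import Cfsg.Agent.Lib.Helper2.Plb4

set_option autoImplicit false
set_option linter.unusedSimpArgs false
set_option linter.unusedVariables false
set_option linter.unusedSectionVars false

/-! Local balance for the linear groups, part 5: the criterion for field automorphisms. -/

namespace Cfsg.Agent.Helper2.PLB

open Matrix Matrix.SpecialLinearGroup Cfsg.Agent.Helper2.PN Cfsg.Agent.Helper2.SpA
open Cfsg.Agent.Helper13.FAut (fixedField mem_fixedField)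
open scoped MatrixGroups LinearAlgebra.Projectivization

section iwasawa

variable {n : ℕ} {F F₀ : Type*} [Field F] [Finite F] [Field F₀] [Finite F₀]
  (p : ℕ) [Fact p.Prime] [CharP F p]

include p in
/-- **the Iwasawa argument**: a subgroup of order prime to `ℓ` normalised by the inner
automorphisms of the fixed matrices contains none of them but the identity -/
theorem thetaL_eq_one_of_mem (hn : 2 ≤ n) (σ : RingAut F) (e : F₀ ≃+* fixedField σ) {ℓ : ℕ}
    (hℓ : ℓ.Prime) (hℓp : ℓ ≠ p) (r : ℕ) (hr : 0 < r) (hσ : orderOf σ = r)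
    (N₁ : Subgroup (MulAut (Matrix.ProjectiveSpecialLinearGroup (Fin n) F)))
    (hnorm : ∀ t ∈ SLfix (ι := Fin n) σ, ∀ a ∈ N₁, thetaL t * a * (thetaL t)⁻¹ ∈ N₁)
    (hcop : (Nat.card N₁).Coprime ℓ)
    (hdiv : ℓ ∣ Nat.card ↥(MonoidHom.eqLocus (phiF (ι := Fin n) σ).toMonoidHom
      (MonoidHom.id (Matrix.ProjectiveSpecialLinearGroup (Fin n) F))))
    {t : Matrix.SpecialLinearGroup (Fin n) F} (ht : t ∈ SLfix σ) (htN : thetaL t ∈ N₁) :
    thetaL t = 1 := by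
  have hnt : Nontrivial (Fin n) := Fin.nontrivial_iff_two_le.mpr hn
  have hcharF₀ : CharP F₀ p := RingHom.charP (jEmb σ e) (jEmb σ e).injective p
  obtain ⟨θ₀, hθ₀⟩ : ∃ θ₀ : Matrix.SpecialLinearGroup (Fin n) F₀ →*
      MulAut (Matrix.ProjectiveSpecialLinearGroup (Fin n) F),
      θ₀ = (thetaL (ι := Fin n) (F := F)).comp (mapSL (jEmb σ e)) := ⟨_, rfl⟩
  have hθ₀a : ∀ s₀, θ₀ s₀ = thetaL (mapSL (jEmb σ e) s₀) := by
    intro s₀
    rw [hθ₀]
    rfl
  obtain ⟨M₀, hM₀⟩ : ∃ M₀ : Subgroup (Matrix.SpecialLinearGroup (Fin n) F₀),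
      M₀ = N₁.comap θ₀ := ⟨_, rfl⟩
  have hM₀n : M₀.Normal := by
    constructor
    intro s hs h
    rw [hM₀, Subgroup.mem_comap] at hs ⊢
    rw [map_mul, map_mul, map_inv, hθ₀a h]
    exact hnorm _ (mapSL_mem_SLfix σ e h) _ hs
  obtain ⟨s₀, rfl⟩ : ∃ s₀, mapSL (jEmb σ e) s₀ = t := by
    have : t ∈ (mapSL (ι := Fin n) (jEmb σ e)).range := by rw [range_mapSL]; exact ht
    exact this
  by_cases hfix : MulAction.fixedPoints M₀ (ℙ F₀ (Fin n → F₀)) = Set.univ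
  · have hs₀M : s₀ ∈ M₀ := by
      rw [hM₀, Subgroup.mem_comap, hθ₀a]
      exact htN
    have hgZ : s₀ ∈ Subgroup.center (Matrix.SpecialLinearGroup (Fin n) F₀) := by
      apply mem_center_of_fixes
      intro q
      have hq : q ∈ MulAction.fixedPoints M₀ (ℙ F₀ (Fin n → F₀)) := by
        rw [hfix]; trivial
      exact hq ⟨s₀, hs₀M⟩
    exact (thetaL_eq_one_iff p _).2 (mapSL_mem_center _ hgZ)
  · exfalso
    obtain ⟨t₁, a, ht₁, hnc⟩ := exists_ell_elt p hn σ e hℓ hℓp r hr hσ hdiv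
    have hcopk : (ℓ ^ a).Coprime p :=
      Nat.Coprime.pow_left a ((Nat.coprime_primes hℓ (Fact.out : p.Prime)).2 hℓp)
    have ht₁M : t₁ ∈ M₀ := mem_of_normal_of_coprime p M₀ hfix t₁ (ℓ ^ a) hcopk ht₁
    rw [hM₀, Subgroup.mem_comap] at ht₁M
    have h1 : orderOf (θ₀ t₁) ∣ ℓ ^ a := by
      apply orderOf_dvd_of_pow_eq_one
      rw [← map_pow, ht₁, map_one]
    have h2 : orderOf (θ₀ t₁) ∣ Nat.card N₁ := by
      rw [← Subgroup.orderOf_mk (θ₀ t₁) ht₁M]
      exact orderOf_dvd_natCard _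
    have h3 : orderOf (θ₀ t₁) = 1 :=
      Nat.eq_one_of_dvd_coprimes (Nat.Coprime.pow_right a hcop) h2 h1
    have h4 : θ₀ t₁ = 1 := orderOf_eq_one_iff.1 h3
    rw [hθ₀a, thetaL_eq_one_iff p] at h4
    exact hnc (mem_center_of_mapSL _ h4)

end iwasawa

section core

variable {n : ℕ} {F : Type*} [Field F] [Finite F] (p : ℕ) [Fact p.Prime] [CharP F p]

include p in
theorem fix_of_comm_eq_oneL [Nontrivial (Fin n)]
    {a : MulAut (Matrix.ProjectiveSpecialLinearGroup (Fin n) F)}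
    {t : Matrix.SpecialLinearGroup (Fin n) F} (h : a * thetaL t * a⁻¹ * (thetaL t)⁻¹ = 1) :
    a (mkn t) = mkn t := by
  rw [thetaL_apply, aut_conj_conj, mul_inv_eq_one] at h
  exact conj_injective_L p h

include p in
/-- **the core theorem for a standard field automorphism** -/
theorem core_phiL (hn : 2 ≤ n) (σ : RingAut F) {ℓ : ℕ} (hℓ : ℓ.Prime) (hℓp : ℓ ≠ p)
    (hord : orderOf σ = ℓ) (N : Subgroup (MulAut (Matrix.ProjectiveSpecialLinearGroup (Fin n) F)))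
    (hNC : N ≤ Subgroup.centralizer {phiF (ι := Fin n) σ})
    (hnorm : ∀ t ∈ SLfix (ι := Fin n) σ, ∀ a ∈ N, thetaL t * a * (thetaL t)⁻¹ ∈ N)
    (hcop : (Nat.card N).Coprime ℓ)
    (hdiv : ℓ ∣ Nat.card ↥(MonoidHom.eqLocus (phiF (ι := Fin n) σ).toMonoidHom
      (MonoidHom.id (Matrix.ProjectiveSpecialLinearGroup (Fin n) F)))) : N = ⊥ := by
  have hnt : Nontrivial (Fin n) := Fin.nontrivial_iff_two_le.mpr hn
  have hfin₀ : Finite (fixedField σ) := inferInstance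
  -- elements of `N` in the cyclic group generated by the field automorphism are trivial
  have hcyc : ∀ a ∈ N, a ∈ Subgroup.zpowers (phiF (ι := Fin n) σ) → a = 1 := by
    intro a haN haz
    obtain ⟨k, rfl⟩ := Subgroup.mem_zpowers_iff.1 haz
    have h1 : (phiF (ι := Fin n) σ ^ k) ^ ℓ = 1 := by
      rw [← zpow_natCast, ← _root_.zpow_mul, mul_comm, _root_.zpow_mul, zpow_natCast, ← hord,
        ← orderOf_phiF (n := n) p σ, pow_orderOf_eq_one, _root_.one_zpow]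
    have h2 : orderOf (phiF (ι := Fin n) σ ^ k) ∣ ℓ := orderOf_dvd_of_pow_eq_one h1
    have h3 : orderOf (phiF (ι := Fin n) σ ^ k) ∣ Nat.card N := by
      rw [← Subgroup.orderOf_mk _ haN]
      exact orderOf_dvd_natCard _
    exact orderOf_eq_one_iff.1 (Nat.eq_one_of_dvd_coprimes hcop h3 h2)
  have hfixone : ∀ a ∈ N, (∀ t ∈ SLfix (ι := Fin n) σ, a (mkn t) = mkn t) → a = 1 := by
    intro a haN hfix
    exact hcyc a haN (mem_zpowers_of_fixes p hn σ a hfix)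
  -- the inner part
  obtain ⟨N₁, hN₁⟩ : ∃ N₁ : Subgroup (MulAut (Matrix.ProjectiveSpecialLinearGroup (Fin n) F)),
      N₁ = N ⊓ Cfsg.Inn (Matrix.ProjectiveSpecialLinearGroup (Fin n) F) := ⟨_, rfl⟩
  have hnorm₁ : ∀ t ∈ SLfix (ι := Fin n) σ, ∀ a ∈ N₁, thetaL t * a * (thetaL t)⁻¹ ∈ N₁ := by
    intro t ht a ha
    rw [hN₁] at ha ⊢
    exact ⟨hnorm t ht a ha.1,
      (Cfsg.innNormal (Matrix.ProjectiveSpecialLinearGroup (Fin n) F)).conj_mem a ha.2 (thetaL t)⟩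
  have hcop₁ : (Nat.card N₁).Coprime ℓ := by
    have h1 : Nat.card N₁ ∣ Nat.card N := by
      rw [hN₁]
      exact Subgroup.card_dvd_of_le inf_le_left
    exact Nat.Coprime.coprime_dvd_left h1 hcop
  have hI := fun (t : Matrix.SpecialLinearGroup (Fin n) F) (ht : t ∈ SLfix (ι := Fin n) σ)
      (htN : thetaL t ∈ N₁) =>
    thetaL_eq_one_of_mem (F₀ := fixedField σ) p hn σ (RingEquiv.refl _) hℓ hℓp ℓ hℓ.pos hord N₁
      hnorm₁ hcop₁ hdiv ht htN
  have hN₁bot : ∀ a₁ ∈ N₁, a₁ = 1 := by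
    intro a₁ ha₁
    have ha₁' := ha₁
    rw [hN₁] at ha₁'
    obtain ⟨ha₁N, k, hk⟩ := ha₁'
    have hkfix : phiF (ι := Fin n) σ k = k := by
      apply fix_of_conj_mem_centralizer (conj_injective_L p)
      rw [hk]
      exact hNC ha₁N
    apply hfixone a₁ ha₁N
    intro t ht
    apply fix_of_comm_eq_oneL p
    obtain ⟨t', ht', htt'⟩ := conj_mkn_of_fixed hkfix ht
    have h1 : a₁ * thetaL t * a₁⁻¹ = thetaL t' := by
      rw [← hk, thetaL_apply, thetaL_apply, ← map_inv, ← map_mul, ← map_mul, htt']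
    have h2 : a₁ * thetaL t * a₁⁻¹ * (thetaL t)⁻¹ = thetaL (t' * t⁻¹) := by
      rw [h1, map_mul, map_inv]
    rw [h2]
    apply hI _ ((SLfix σ).mul_mem ht' ((SLfix σ).inv_mem ht))
    rw [← h2]
    have h3 : a₁ * thetaL t * a₁⁻¹ * (thetaL t)⁻¹ = a₁ * (thetaL t * a₁⁻¹ * (thetaL t)⁻¹) := by
      group
    rw [h3]
    exact N₁.mul_mem ha₁ (hnorm₁ t ht _ (N₁.inv_mem ha₁))
  -- the general case
  rw [eq_bot_iff]
  intro a haN
  rw [Subgroup.mem_bot]
  apply hfixone a haN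
  intro t ht
  apply fix_of_comm_eq_oneL p
  apply hN₁bot
  rw [hN₁]
  constructor
  · have h3 : a * thetaL t * a⁻¹ * (thetaL t)⁻¹ = a * (thetaL t * a⁻¹ * (thetaL t)⁻¹) := by
      group
    rw [h3]
    exact N.mul_mem haN (hnorm t ht _ (N.inv_mem haN))
  · exact (Cfsg.Inn (Matrix.ProjectiveSpecialLinearGroup (Fin n) F)).mul_mem
      ((Cfsg.innNormal (Matrix.ProjectiveSpecialLinearGroup (Fin n) F)).conj_mem _
        (thetaL_mem_inn t) a)
      ((Cfsg.Inn (Matrix.ProjectiveSpecialLinearGroup (Fin n) F)).inv_mem (thetaL_mem_inn t))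

end core

end Cfsg.Agent.Helper2.PLB
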