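import Mathlib
import Cfsg.Agent.Lib.Helper2.Plb5

set_option autoImplicit false
set_option linter.unusedSimpArgs false
set_option linter.unusedVariables false
set_option linter.unusedSectionVars false

/-! Local balance for the linear groups, part 6: the criterion for automorphisms of prime order
in the group generated by the inner-diagonal and the field automorphisms. -/

namespace Cfsg.Agent.Helper2.PLB

open Matrix Matrix.SpecialLinearGroup Cfsg.Agent.Helper2.PN Cfsg.Agent.Helper2.SpA
open Cfsg.Agent.Helper13.FAut (fixedField mem_fixedField)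
open scoped MatrixGroups LinearAlgebra.Projectivization

section final

variable {n : ℕ} {F : Type*} [Field F] [Finite F] (p : ℕ) [Fact p.Prime] [CharP F p]

include p in
/-- an automorphism `Psi g * phiF σ` of prime order which is not inner-diagonal is conjugate,
under the inner-diagonal group, to a standard field automorphism -/
theorem exists_conj_phiF_of_prime (hn : 2 ≤ n) (g : GL (Fin n) F) (σ : RingAut F) {ℓ : ℕ}
    (hℓ : ℓ.Prime) (hord : orderOf (Psi g * phiF (ι := Fin n) σ) = ℓ)
    (hnot : ¬ Cfsg.IsInnerDiagonalAutPSL (Psi g * phiF (ι := Fin n) σ)) :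
    ∃ (a : MulAut (Matrix.ProjectiveSpecialLinearGroup (Fin n) F)),
      orderOf σ = ℓ ∧ Psi g * phiF (ι := Fin n) σ = a * phiF σ * a⁻¹ := by
  have hnt : Nontrivial (Fin n) := Fin.nontrivial_iff_two_le.mpr hn
  have hxℓ : (Psi g * phiF (ι := Fin n) σ) ^ ℓ = 1 := by rw [← hord]; exact pow_orderOf_eq_one _
  have hσ1 : σ ≠ 1 := by
    rintro rfl
    apply hnot
    rw [map_one, mul_one]
    exact isInnerDiagonal_Psi g
  have hσℓ : σ ^ ℓ = 1 := by
    have h1 := hxℓ
    rw [pow_Psi_mul_phiF] at h1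
    have h2 : Psi (gnorm σ g ℓ) * phiF (ι := Fin n) (σ ^ ℓ) =
        Psi (1 : GL (Fin n) F) * phiF (ι := Fin n) (1 : RingAut F) := by
      rw [h1, map_one, map_one, one_mul]
    exact (eq_of_Psi_mul_phiF_eq p h2).1
  have hordσ : orderOf σ = ℓ := by
    have h1 : orderOf σ ∣ ℓ := orderOf_dvd_of_pow_eq_one hσℓ
    rcases (Nat.dvd_prime hℓ).1 h1 with h | h
    · exact absurd (orderOf_eq_one_iff.1 h) hσ1
    · exact h
  obtain ⟨h, hh⟩ := exists_conj_phiF p σ ℓ hℓ.pos hordσ g hxℓ
  exact ⟨Psi h, hordσ, hh⟩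

include p in
theorem mkn_transvection_ne_one (hn : 2 ≤ n) :
    mkn (transvection (show (⟨0, by omega⟩ : Fin n) ≠ ⟨1, by omega⟩ from
      fun h => by simpa using congrArg Fin.val h) (1 : F)) ≠ 1 := by
  intro h1
  rw [QuotientGroup.mk'_apply, QuotientGroup.eq_one_iff] at h1
  exact one_ne_zero ((transvection_mem_center_iff _ (1 : F)).mp h1)

include p in
/-- **the criterion**, for a conjugate of a standard field automorphism of prime order -/
theorem core_criterionL (hn : 2 ≤ n)
    (A : Subgroup (MulAut (Matrix.ProjectiveSpecialLinearGroup (Fin n) F)))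
    (hinn : ∀ k : Matrix.ProjectiveSpecialLinearGroup (Fin n) F, MulAut.conj k ∈ A) {ℓ : ℕ}
    (hℓ : ℓ.Prime) (hℓp : ℓ ≠ p)
    (a : MulAut (Matrix.ProjectiveSpecialLinearGroup (Fin n) F)) (σ : RingAut F)
    (hord : orderOf σ = ℓ) :
    (∃ N : Subgroup (MulAut (Matrix.ProjectiveSpecialLinearGroup (Fin n) F)),
      N ≤ A ⊓ Subgroup.centralizer {a * phiF σ * a⁻¹} ∧ N ≠ ⊥ ∧ (Nat.card N).Coprime ℓ ∧
      ∀ h ∈ A ⊓ Subgroup.centralizer {a * phiF σ * a⁻¹}, ∀ n ∈ N, h * n * h⁻¹ ∈ N) ↔
    Nat.Coprime ℓ (Nat.card ↥(MonoidHom.eqLocus (a * phiF σ * a⁻¹).toMonoidHom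
      (MonoidHom.id (Matrix.ProjectiveSpecialLinearGroup (Fin n) F)))) := by
  have hnt : Nontrivial (Fin n) := Fin.nontrivial_iff_two_le.mpr hn
  obtain ⟨x, hx⟩ : ∃ x : MulAut (Matrix.ProjectiveSpecialLinearGroup (Fin n) F),
      x = a * phiF σ * a⁻¹ := ⟨_, rfl⟩
  rw [← hx]
  constructor
  · rintro ⟨N, hNC, hne, hcop, hnorm⟩
    rw [hℓ.coprime_iff_not_dvd]
    intro hdvd
    rw [hx, card_eqLocus_conj] at hdvd
    apply hne
    -- transport to the standard field automorphism
    obtain ⟨N', hN'⟩ : ∃ N' : Subgroup (MulAut (Matrix.ProjectiveSpecialLinearGroup (Fin n) F)),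
        N' = N.map (MulAut.conj a⁻¹).toMonoidHom := ⟨_, rfl⟩
    have hmem' : ∀ n', n' ∈ N' ↔ a * n' * a⁻¹ ∈ N := by
      intro n'
      rw [hN']
      constructor
      · rintro ⟨n, hn, rfl⟩
        simp only [MulEquiv.coe_toMonoidHom, MulAut.conj_apply, inv_inv]
        have : a * (a⁻¹ * n * a) * a⁻¹ = n := by group
        rw [this]
        exact hn
      · intro h
        refine ⟨a * n' * a⁻¹, h, ?_⟩
        simp only [MulEquiv.coe_toMonoidHom, MulAut.conj_apply, inv_inv]
        group
    have hN'bot : N' = ⊥ := by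
      apply core_phiL p hn σ hℓ hℓp hord N'
      · intro n' hn'
        have h1 : a * n' * a⁻¹ ∈ Subgroup.centralizer {x} := (hNC ((hmem' n').1 hn')).2
        rw [Subgroup.mem_centralizer_singleton_iff, hx] at h1
        rw [Subgroup.mem_centralizer_singleton_iff]
        calc n' * phiF σ = a⁻¹ * (a * n' * a⁻¹ * (a * phiF σ * a⁻¹)) * a := by group
          _ = a⁻¹ * (a * phiF σ * a⁻¹ * (a * n' * a⁻¹)) * a := by rw [h1]
          _ = phiF σ * n' := by group
      · intro t ht n' hn'
        rw [hmem']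
        have hc : a * thetaL t * a⁻¹ ∈ A ⊓ Subgroup.centralizer {x} := by
          refine Subgroup.mem_inf.2 ⟨?_, ?_⟩
          · rw [thetaL_apply, aut_conj_conj]
            exact hinn _
          · have h1 := thetaL_mem_centralizer (σ := σ) ht
            rw [Subgroup.mem_centralizer_singleton_iff] at h1
            rw [Subgroup.mem_centralizer_singleton_iff, hx]
            calc a * thetaL t * a⁻¹ * (a * phiF σ * a⁻¹) = a * (thetaL t * phiF σ) * a⁻¹ := by
                  group
              _ = a * (phiF σ * thetaL t) * a⁻¹ := by rw [h1]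
              _ = a * phiF σ * a⁻¹ * (a * thetaL t * a⁻¹) := by group
        have h2 := hnorm _ hc _ ((hmem' n').1 hn')
        have h3 : a * (thetaL t * n' * (thetaL t)⁻¹) * a⁻¹ =
            a * thetaL t * a⁻¹ * (a * n' * a⁻¹) * (a * thetaL t * a⁻¹)⁻¹ := by group
        rw [h3]
        exact h2
      · rw [hN', Subgroup.card_map_of_injective (MulAut.conj a⁻¹).injective]
        exact hcop
      · exact hdvd
    rw [hN', Subgroup.map_eq_bot_iff_of_injective _ (MulAut.conj a⁻¹).injective] at hN'bot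
    exact hN'bot
  · intro hcop
    obtain ⟨Fx, hFx⟩ : ∃ Fx : Subgroup (Matrix.ProjectiveSpecialLinearGroup (Fin n) F),
        Fx = MonoidHom.eqLocus x.toMonoidHom
          (MonoidHom.id (Matrix.ProjectiveSpecialLinearGroup (Fin n) F)) := ⟨_, rfl⟩
    have hFxmem : ∀ k, k ∈ Fx ↔ x k = k := by
      intro k
      rw [hFx]
      rfl
    rw [← hFx] at hcop
    refine ⟨Fx.map (MulAut.conj : Matrix.ProjectiveSpecialLinearGroup (Fin n) F →* MulAut _),
      ?_, ?_, ?_, ?_⟩
    · rintro _ ⟨k, hk, rfl⟩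
      exact Subgroup.mem_inf.2 ⟨hinn k, fix_conj_mem_centralizer x ((hFxmem k).1 hk)⟩
    · intro hbot
      rw [Subgroup.map_eq_bot_iff_of_injective _ (conj_injective_L p)] at hbot
      have hij : (⟨0, by omega⟩ : Fin n) ≠ ⟨1, by omega⟩ :=
        fun h => by simpa using congrArg Fin.val h
      have h1 : a (mkn (transvection hij (1 : F))) ∈ Fx := by
        rw [hFxmem, hx]
        simp only [MulAut.mul_apply, MulAut.inv_apply_self]
        rw [phiF_mkn_of_mem (transvection_mem_SLfix σ hij (map_one σ))]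
      rw [hbot, Subgroup.mem_bot] at h1
      apply mkn_transvection_ne_one (F := F) p hn
      apply a.injective
      rw [h1, map_one]
    · rw [Subgroup.card_map_of_injective (conj_injective_L p)]
      exact hcop.symm
    · rintro c hc' _ ⟨k, hk, rfl⟩
      have hc : c ∈ Subgroup.centralizer {x} := (Subgroup.mem_inf.1 hc').2
      rw [Subgroup.mem_centralizer_singleton_iff] at hc
      have hk' : k ∈ Fx := hk
      have hk2 : x k = k := (hFxmem k).1 hk'
      refine ⟨c k, (hFxmem _).2 ?_, (aut_conj_conj c k).symm⟩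
      have h1 : (x * c) k = (c * x) k := by rw [hc]
      rw [MulAut.mul_apply, MulAut.mul_apply, hk2] at h1
      exact h1

end final

end Cfsg.Agent.Helper2.PLB
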