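import Mathlib
import Cfsg.Agent.Lib.Helper2.Plb6
import Cfsg.Agent.Lib.Helper22.PPrimeCore

set_option autoImplicit false
set_option linter.unusedSimpArgs false
set_option linter.unusedVariables false
set_option linter.unusedSectionVars false

/-! Local balance for the linear groups, part 7: an abstract criterion for the triviality of the
core of the centralizer of an automorphism. -/

namespace Cfsg.Agent.Helper2.PLB

open Cfsg.Agent.Helper2.SpA

section charcore

variable {G : Type*} [Group G] [Finite G]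

/-- conjugation by a normalising element as an automorphism of a subgroup -/
def conjSub (C : Subgroup G) (d : G) (h1 : ∀ c ∈ C, d * c * d⁻¹ ∈ C)
    (h2 : ∀ c ∈ C, d⁻¹ * c * d ∈ C) : ↥C ≃* ↥C where
  toFun c := ⟨d * c.1 * d⁻¹, h1 c.1 c.2⟩
  invFun c := ⟨d⁻¹ * c.1 * d, h2 c.1 c.2⟩
  left_inv c := by
    apply Subtype.ext
    show d⁻¹ * (d * c.1 * d⁻¹) * d = c.1
    group
  right_inv c := by
    apply Subtype.ext
    show d * (d⁻¹ * c.1 * d) * d⁻¹ = c.1
    group
  map_mul' a b := by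
    apply Subtype.ext
    show d * (a.1 * b.1) * d⁻¹ = (d * a.1 * d⁻¹) * (d * b.1 * d⁻¹)
    group

/-- the largest normal subgroup of odd order of a subgroup, as a subgroup of the group -/
def oddCoreSub (ℓ : ℕ) (C : Subgroup G) : Subgroup G := (Cfsg.pPrimeCore ℓ ↥C).map C.subtype

theorem oddCoreSub_le (ℓ : ℕ) (C : Subgroup G) : oddCoreSub ℓ C ≤ C := Subgroup.map_subtype_le _

theorem card_oddCoreSub (ℓ : ℕ) (C : Subgroup G) : (Nat.card (oddCoreSub ℓ C)).Coprime ℓ := by
  unfold oddCoreSub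
  rw [Subgroup.card_map_of_injective C.subtype_injective]
  exact Cfsg.Agent.Helper22.card_pPrimeCore_coprime ℓ

theorem le_oddCoreSub (ℓ : ℕ) (C N : Subgroup G) (hNC : N ≤ C)
    (hnorm : ∀ c ∈ C, ∀ x ∈ N, c * x * c⁻¹ ∈ N) (hcard : (Nat.card N).Coprime ℓ) :
    N ≤ oddCoreSub ℓ C := by
  intro x hx
  have h1 : N.subgroupOf C ≤ Cfsg.pPrimeCore ℓ ↥C := by
    apply Cfsg.Agent.Helper22.le_pPrimeCore
    · constructor
      intro n hn c
      rw [Subgroup.mem_subgroupOf] at hn ⊢
      have := hnorm c.1 c.2 n.1 hn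
      simpa using this
    · rw [Nat.card_congr (Subgroup.subgroupOfEquivOfLe hNC).toEquiv]
      exact hcard
  exact ⟨⟨x, hNC hx⟩, h1 (by rw [Subgroup.mem_subgroupOf]; exact hx), rfl⟩

theorem conj_mem_oddCoreSub (ℓ : ℕ) (C : Subgroup G) (d : G) (h1 : ∀ c ∈ C, d * c * d⁻¹ ∈ C)
    (h2 : ∀ c ∈ C, d⁻¹ * c * d ∈ C) {x : G} (hx : x ∈ oddCoreSub ℓ C) :
    d * x * d⁻¹ ∈ oddCoreSub ℓ C := by
  obtain ⟨y, hy, rfl⟩ := hx
  have h3 := Cfsg.Agent.Helper22.pPrimeCore_map_equiv ℓ (conjSub C d h1 h2)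
  have h4 : conjSub C d h1 h2 y ∈ Cfsg.pPrimeCore ℓ ↥C := by
    rw [← h3]
    exact ⟨y, hy, rfl⟩
  exact ⟨_, h4, rfl⟩

end charcore

section criterion

variable {K : Type*} [Group K] [Finite K]

/-- **abstract criterion**: let `β` be an automorphism of `K` and `L` its fixed points. If the
inner automorphisms from `L` contain no non-trivial subgroup of odd order invariant under the
centralizer of `β`, and no automorphism of odd order fixes `L` pointwise, then the
centralizer of `β` in any group of automorphisms containing the inner ones has no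
non-trivial normal subgroup of odd order. -/
theorem core_bot_of_fix (ℓ : ℕ) (hinj : Function.Injective (MulAut.conj : K →* MulAut K))
    (A : Subgroup (MulAut K)) (hinn : ∀ k : K, MulAut.conj k ∈ A) (β : MulAut K)
    (H1 : ∀ R : Subgroup (MulAut K),
      R ≤ (MonoidHom.eqLocus β.toMonoidHom (MonoidHom.id K)).map MulAut.conj →
      (Nat.card R).Coprime ℓ →
      (∀ d ∈ Subgroup.centralizer {β}, ∀ x ∈ R, d * x * d⁻¹ ∈ R) → R = ⊥)
    (H2 : ∀ a : MulAut K, (orderOf a).Coprime ℓ →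
      (∀ k, β k = k → a k = k) → a = 1)
    (N : Subgroup (MulAut K)) (hN : N ≤ A ⊓ Subgroup.centralizer {β})
    (hcard : (Nat.card N).Coprime ℓ)
    (hnorm : ∀ h ∈ A ⊓ Subgroup.centralizer {β}, ∀ x ∈ N, h * x * h⁻¹ ∈ N) : N = ⊥ := by
  have hfin : Finite (MulAut K) := by
    have : Fintype K := Fintype.ofFinite K
    classical
    infer_instance
  obtain ⟨L, hL⟩ : ∃ L, L = MonoidHom.eqLocus β.toMonoidHom (MonoidHom.id K) := ⟨_, rfl⟩
  have hmemL : ∀ k, k ∈ L ↔ β k = k := fun k => by rw [hL]; exact Iff.rfl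
  obtain ⟨C, hC⟩ : ∃ C, C = L.map (MulAut.conj : K →* MulAut K) := ⟨_, rfl⟩
  have hCH : C ≤ A ⊓ Subgroup.centralizer {β} := by
    rw [hC]
    rintro _ ⟨k, hk, rfl⟩
    exact ⟨hinn k, fix_conj_mem_centralizer β ((hmemL k).1 hk)⟩
  -- the centralizer of `β` normalises `C`
  have hCnorm : ∀ d ∈ Subgroup.centralizer {β}, ∀ c ∈ C, d * c * d⁻¹ ∈ C := by
    intro d hd c hc
    rw [hC] at hc ⊢
    obtain ⟨k, hk, rfl⟩ := hc
    refine ⟨d k, ?_, (aut_conj_conj d k).symm⟩
    have hk : β k = k := (hmemL k).1 hk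
    apply (hmemL (d k)).2
    rw [Subgroup.mem_centralizer_singleton_iff] at hd
    have : (β * d) k = (d * β) k := by rw [hd]
    rw [MulAut.mul_apply, MulAut.mul_apply, hk] at this
    exact this
  have hR := H1 (oddCoreSub ℓ C) (by rw [← hL, ← hC]; exact oddCoreSub_le ℓ C)
    (card_oddCoreSub ℓ C)
    (fun d hd x hx => conj_mem_oddCoreSub ℓ C d (hCnorm d hd)
      (fun c hc => by
        have := hCnorm d⁻¹ (Subgroup.inv_mem _ hd) c hc
        rwa [inv_inv] at this) hx)
  have hN0 : N ⊓ C = ⊥ := by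
    rw [eq_bot_iff, ← hR]
    apply le_oddCoreSub ℓ C (N ⊓ C) inf_le_right
    · intro c hc x hx
      exact ⟨hnorm c (hCH hc) x hx.1, Subgroup.mul_mem _ (Subgroup.mul_mem _ hc hx.2)
        (Subgroup.inv_mem _ hc)⟩
    · exact Nat.Coprime.coprime_dvd_left (Subgroup.card_dvd_of_le inf_le_left) hcard
  rw [eq_bot_iff]
  intro a ha
  rw [Subgroup.mem_bot]
  apply H2 a
  · have h1 : orderOf a ∣ Nat.card N := by
      have := orderOf_dvd_natCard (⟨a, ha⟩ : ↥N)
      rwa [Subgroup.orderOf_mk] at this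
    exact Nat.Coprime.coprime_dvd_left h1 hcard
  · intro k hk
    have hac : a ∈ Subgroup.centralizer {β} := (hN ha).2
    have hak : β (a k) = a k := by
      rw [Subgroup.mem_centralizer_singleton_iff] at hac
      have : (β * a) k = (a * β) k := by rw [hac]
      rw [MulAut.mul_apply, MulAut.mul_apply, hk] at this
      exact this
    have hkC : MulAut.conj k ∈ A ⊓ Subgroup.centralizer {β} :=
      ⟨hinn k, fix_conj_mem_centralizer β hk⟩
    have h1 : MulAut.conj (a k * k⁻¹) ∈ N ⊓ C := by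
      have e1 : MulAut.conj (a k * k⁻¹) = a * (MulAut.conj k * a⁻¹ * (MulAut.conj k)⁻¹) := by
        rw [map_mul, ← aut_conj_conj a k, map_inv]
        group
      constructor
      · rw [e1]
        exact Subgroup.mul_mem _ ha (hnorm _ hkC _ (Subgroup.inv_mem _ ha))
      · rw [hC]
        refine ⟨a k * k⁻¹, ?_, rfl⟩
        exact Subgroup.mul_mem _ ((hmemL _).2 hak) (Subgroup.inv_mem _ ((hmemL _).2 hk))
    rw [hN0, Subgroup.mem_bot] at h1
    have h2 : a k * k⁻¹ = 1 := hinj (h1.trans (map_one _).symm)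
    exact mul_inv_eq_one.1 h2

end criterion

end Cfsg.Agent.Helper2.PLB
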