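import Mathlib
import Cfsg.Agent.Lib.Helper2.Pgeo11

set_option autoImplicit false
set_option linter.unusedSimpArgs false
set_option linter.unusedVariables false
set_option linter.unusedSectionVars false

/-! Eigenspace decomposition of a space with a symmetric form under an isometric involution
(characteristic different from two): projections, restricted forms, extension of maps of the
fixed space by the identity or by zero. -/

namespace Cfsg.Agent.Helper2.GInvAB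

open Cfsg.Agent.Helper2.PGeo Module

variable {F : Type*} [Field F] {V : Type*} [AddCommGroup V] [Module F V]
  {B : V →ₗ[F] V →ₗ[F] F}

/-- fixed space of a linear map -/
def fixS (γ : V →ₗ[F] V) : Submodule F V := LinearMap.ker (γ - LinearMap.id)

theorem mem_fixS {γ : V →ₗ[F] V} {v : V} : v ∈ fixS γ ↔ γ v = v := by
  rw [fixS, LinearMap.mem_ker, LinearMap.sub_apply, LinearMap.id_apply, sub_eq_zero]

theorem fixS_neg_eq (γ : V →ₗ[F] V) : fixS (-γ) = LinearMap.ker (γ + LinearMap.id) := by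
  ext v
  rw [mem_fixS, LinearMap.mem_ker, LinearMap.add_apply, LinearMap.id_apply, LinearMap.neg_apply]
  rw [neg_eq_iff_add_eq_zero]

/-- an isometric involution in characteristic different from two -/
structure IsInv (B : V →ₗ[F] V →ₗ[F] F) (γ : V →ₗ[F] V) : Prop where
  two : (2 : F) ≠ 0
  sq : ∀ v, γ (γ v) = v
  iso : ∀ u v, B (γ u) (γ v) = B u v

namespace IsInv

variable {γ : V →ₗ[F] V}

theorem neg (hγ : IsInv B γ) : IsInv B (-γ) := by
  refine ⟨hγ.two, fun v => ?_, fun u v => ?_⟩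
  · rw [LinearMap.neg_apply, LinearMap.neg_apply, map_neg, neg_neg, hγ.sq]
  · show B (-(γ u)) (-(γ v)) = B u v
    rw [map_neg, map_neg, LinearMap.neg_apply, neg_neg, hγ.iso]

/-- the projection onto the fixed space, as a map to the big space -/
noncomputable def pr (γ : V →ₗ[F] V) : V →ₗ[F] V := (2 : F)⁻¹ • (LinearMap.id + γ)

theorem pr_apply (γ : V →ₗ[F] V) (v : V) : pr γ v = (2 : F)⁻¹ • (v + γ v) := rfl

theorem pr_mem (hγ : IsInv B γ) (v : V) : pr γ v ∈ fixS γ := by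
  rw [mem_fixS, pr_apply, map_smul, map_add, hγ.sq, add_comm]

theorem pr_add_pr (hγ : IsInv B γ) (v : V) : pr γ v + pr (-γ) v = v := by
  rw [pr_apply, pr_apply, LinearMap.neg_apply, ← smul_add]
  have h1 : v + γ v + (v + -γ v) = (2 : F) • v := by rw [two_smul]; abel
  rw [h1, smul_smul, inv_mul_cancel₀ hγ.two, one_smul]

theorem pr_sub_pr (hγ : IsInv B γ) (v : V) : pr γ v - pr (-γ) v = γ v := by
  rw [pr_apply, pr_apply, LinearMap.neg_apply, ← smul_sub]
  have h1 : v + γ v - (v + -γ v) = (2 : F) • γ v := by rw [two_smul]; abel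
  rw [h1, smul_smul, inv_mul_cancel₀ hγ.two, one_smul]

theorem pr_of_mem (hγ : IsInv B γ) {v : V} (hv : v ∈ fixS γ) : pr γ v = v := by
  rw [mem_fixS] at hv
  rw [pr_apply, hv, ← two_smul F v, smul_smul, inv_mul_cancel₀ hγ.two, one_smul]

theorem pr_of_mem_neg (hγ : IsInv B γ) {v : V} (hv : v ∈ fixS (-γ)) : pr γ v = 0 := by
  rw [mem_fixS, LinearMap.neg_apply] at hv
  have h1 : γ v = -v := neg_eq_iff_eq_neg.1 hv
  rw [pr_apply, h1, add_neg_cancel, smul_zero]

theorem pr_neg_of_mem (hγ : IsInv B γ) {v : V} (hv : v ∈ fixS γ) : pr (-γ) v = 0 := by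
  rw [mem_fixS] at hv
  rw [pr_apply, LinearMap.neg_apply, hv, add_neg_cancel, smul_zero]

theorem pr_gamma (hγ : IsInv B γ) (v : V) : pr γ (γ v) = pr γ v := by
  rw [pr_apply, pr_apply, hγ.sq, add_comm]

theorem pr_neg_gamma (hγ : IsInv B γ) (v : V) : pr (-γ) (γ v) = -pr (-γ) v := by
  rw [pr_apply, pr_apply, LinearMap.neg_apply, LinearMap.neg_apply, hγ.sq, ← smul_neg]
  congr 1
  abel

theorem gamma_of_mem_neg {v : V} (hv : v ∈ fixS (-γ)) : γ v = -v := by
  rw [mem_fixS, LinearMap.neg_apply] at hv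
  exact neg_eq_iff_eq_neg.1 hv

/-- the two eigenspaces are orthogonal -/
theorem orth (hγ : IsInv B γ) {u v : V} (hu : u ∈ fixS γ) (hv : v ∈ fixS (-γ)) : B u v = 0 := by
  have h1 := hγ.iso u v
  rw [mem_fixS.1 hu, gamma_of_mem_neg hv, map_neg] at h1
  have h2 : (2 : F) * B u v = 0 := by linear_combination -h1
  rcases mul_eq_zero.1 h2 with h3 | h3
  · exact absurd h3 hγ.two
  · exact h3

theorem orth' (hγ : IsInv B γ) {u v : V} (hu : u ∈ fixS (-γ)) (hv : v ∈ fixS γ) : B u v = 0 := by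
  have h1 := hγ.iso u v
  rw [mem_fixS.1 hv, gamma_of_mem_neg hu, map_neg, LinearMap.neg_apply] at h1
  have h2 : (2 : F) * B u v = 0 := by linear_combination -h1
  rcases mul_eq_zero.1 h2 with h3 | h3
  · exact absurd h3 hγ.two
  · exact h3

/-- splitting the form along the eigenspaces -/
theorem form_split (hγ : IsInv B γ) {u₁ v₁ u₂ v₂ : V} (hu₁ : u₁ ∈ fixS γ) (hv₁ : v₁ ∈ fixS γ)
    (hu₂ : u₂ ∈ fixS (-γ)) (hv₂ : v₂ ∈ fixS (-γ)) :
    B (u₁ + u₂) (v₁ + v₂) = B u₁ v₁ + B u₂ v₂ := by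
  rw [map_add, map_add, LinearMap.add_apply, LinearMap.add_apply, hγ.orth hu₁ hv₂,
    hγ.orth' hu₂ hv₁]
  ring

theorem isCompl (hγ : IsInv B γ) : IsCompl (fixS γ) (fixS (-γ)) := by
  constructor
  · rw [Submodule.disjoint_def]
    intro v h1 h2
    have h3 := hγ.pr_of_mem h1
    rw [hγ.pr_of_mem_neg h2] at h3
    exact h3.symm
  · rw [codisjoint_iff, eq_top_iff]
    intro v _
    rw [← hγ.pr_add_pr v]
    exact Submodule.add_mem_sup (hγ.pr_mem v) (hγ.neg.pr_mem v)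

theorem finrank_add [FiniteDimensional F V] (hγ : IsInv B γ) :
    finrank F (fixS γ) + finrank F (fixS (-γ)) = finrank F V :=
  Submodule.finrank_add_eq_of_isCompl hγ.isCompl

/-- the projection onto the fixed space -/
noncomputable def projF (hγ : IsInv B γ) : V →ₗ[F] fixS γ :=
  LinearMap.codRestrict (fixS γ) (pr γ) hγ.pr_mem

theorem projF_coe (hγ : IsInv B γ) (v : V) : (hγ.projF v : V) = pr γ v := rfl

theorem projF_of_mem (hγ : IsInv B γ) (v : fixS γ) : hγ.projF (v : V) = v :=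
  Subtype.ext (hγ.pr_of_mem v.2)

/-- the restricted form on the fixed space -/
noncomputable def Br (B : V →ₗ[F] V →ₗ[F] F) (γ : V →ₗ[F] V) :
    fixS γ →ₗ[F] fixS γ →ₗ[F] F :=
  B.domRestrict₁₂ (fixS γ) (fixS γ)

theorem Br_apply (u v : fixS γ) : Br B γ u v = B u v := rfl

theorem isEpsForm_Br (hγ : IsInv B γ) (h : IsEpsForm B 1) : IsEpsForm (Br B γ) 1 := by
  refine ⟨h.two, h.sig, h.eps, fun x y => h.symm x y, ?_⟩
  intro w hw
  apply Subtype.ext
  apply h.nondeg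
  intro v
  rw [← hγ.pr_add_pr v, map_add, hγ.orth w.2 (hγ.neg.pr_mem v), add_zero]
  exact hw ⟨pr γ v, hγ.pr_mem v⟩

/-- a non-singular vector in a non-zero fixed space -/
theorem exists_nonsing_fix (hγ : IsInv B γ) (h : IsEpsForm B 1) (hne : ∃ v ∈ fixS γ, v ≠ 0) :
    ∃ u ∈ fixS γ, B u u ≠ 0 := by
  have h1 : ¬ ((∀ c : F, (RingHom.id F) c = c) ∧ (1 : F) = -1) := by
    rintro ⟨-, h2⟩
    apply h.two
    linear_combination h2
  obtain ⟨v, hv, hv0⟩ := hne
  obtain ⟨e, he⟩ := exists_nonsing (hγ.isEpsForm_Br h) h1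
    ⟨⟨v, hv⟩, fun h3 => hv0 (congrArg Subtype.val h3)⟩
  exact ⟨e, e.2, he⟩

/-- extension of an endomorphism of the fixed space by the identity on the other eigenspace -/
noncomputable def extL (hγ : IsInv B γ) (g : fixS γ →ₗ[F] fixS γ) : V →ₗ[F] V :=
  (fixS γ).subtype ∘ₗ g ∘ₗ hγ.projF + pr (-γ)

theorem extL_apply (hγ : IsInv B γ) (g : fixS γ →ₗ[F] fixS γ) (v : V) :
    hγ.extL g v = (g (hγ.projF v) : V) + pr (-γ) v := rfl

theorem extL_of_mem (hγ : IsInv B γ) (g : fixS γ →ₗ[F] fixS γ) (v : fixS γ) :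
    hγ.extL g (v : V) = g v := by
  rw [extL_apply, hγ.projF_of_mem, hγ.pr_neg_of_mem v.2, add_zero]

theorem extL_of_mem_neg (hγ : IsInv B γ) (g : fixS γ →ₗ[F] fixS γ) {v : V}
    (hv : v ∈ fixS (-γ)) : hγ.extL g v = v := by
  have h1 : hγ.projF v = 0 := Subtype.ext (hγ.pr_of_mem_neg hv)
  rw [extL_apply, h1, map_zero, hγ.neg.pr_of_mem hv]
  simp

theorem projF_extL (hγ : IsInv B γ) (g : fixS γ →ₗ[F] fixS γ) (v : V) :
    hγ.projF (hγ.extL g v) = g (hγ.projF v) := by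
  rw [extL_apply, map_add, hγ.projF_of_mem]
  have h1 : hγ.projF (pr (-γ) v) = 0 := Subtype.ext (hγ.pr_of_mem_neg (hγ.neg.pr_mem v))
  rw [h1, add_zero]

theorem pr_neg_extL (hγ : IsInv B γ) (g : fixS γ →ₗ[F] fixS γ) (v : V) :
    pr (-γ) (hγ.extL g v) = pr (-γ) v := by
  rw [extL_apply, map_add, hγ.pr_neg_of_mem (g _).2, zero_add, hγ.neg.pr_of_mem (hγ.neg.pr_mem v)]

theorem extL_comp (hγ : IsInv B γ) (g g' : fixS γ →ₗ[F] fixS γ) (v : V) :
    hγ.extL g (hγ.extL g' v) = hγ.extL (g ∘ₗ g') v := by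
  rw [extL_apply, projF_extL, pr_neg_extL, extL_apply]
  rfl

theorem extL_id (hγ : IsInv B γ) (v : V) : hγ.extL LinearMap.id v = v := by
  rw [extL_apply, LinearMap.id_apply, projF_coe, hγ.pr_add_pr]

theorem extL_gamma (hγ : IsInv B γ) (g : fixS γ →ₗ[F] fixS γ) (v : V) :
    hγ.extL g (γ v) = γ (hγ.extL g v) := by
  have h1 : hγ.projF (γ v) = hγ.projF v := Subtype.ext (hγ.pr_gamma v)
  rw [extL_apply, extL_apply, h1, hγ.pr_neg_gamma, map_add, mem_fixS.1 (g _).2,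
    gamma_of_mem_neg (hγ.neg.pr_mem v)]

theorem extL_iso (hγ : IsInv B γ) (g : fixS γ →ₗ[F] fixS γ)
    (hg : ∀ u v, Br B γ (g u) (g v) = Br B γ u v) (u v : V) :
    B (hγ.extL g u) (hγ.extL g v) = B u v := by
  rw [extL_apply, extL_apply, hγ.form_split (g _).2 (g _).2 (hγ.neg.pr_mem u) (hγ.neg.pr_mem v)]
  have h1 := hg (hγ.projF u) (hγ.projF v)
  rw [Br_apply, Br_apply] at h1
  rw [h1, projF_coe, projF_coe, ← hγ.form_split (hγ.pr_mem u) (hγ.pr_mem v) (hγ.neg.pr_mem u)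
    (hγ.neg.pr_mem v), hγ.pr_add_pr, hγ.pr_add_pr]

/-- extension of an automorphism of the fixed space by the identity -/
noncomputable def extE (hγ : IsInv B γ) (g : fixS γ ≃ₗ[F] fixS γ) : V ≃ₗ[F] V :=
  LinearEquiv.ofLinearMap (hγ.extL g) (hγ.extL g.symm)
    (by
      ext v
      rw [LinearMap.comp_apply, extL_comp, LinearMap.id_apply]
      have h1 : (g : fixS γ →ₗ[F] fixS γ) ∘ₗ (g.symm : fixS γ →ₗ[F] fixS γ) = LinearMap.id := by
        ext w; simp
      rw [h1, extL_id])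
    (by
      ext v
      rw [LinearMap.comp_apply, extL_comp, LinearMap.id_apply]
      have h1 : (g.symm : fixS γ →ₗ[F] fixS γ) ∘ₗ (g : fixS γ →ₗ[F] fixS γ) = LinearMap.id := by
        ext w; simp
      rw [h1, extL_id])

theorem extE_apply (hγ : IsInv B γ) (g : fixS γ ≃ₗ[F] fixS γ) (v : V) :
    hγ.extE g v = hγ.extL g v := rfl

theorem extE_inv_apply (hγ : IsInv B γ) (g : fixS γ ≃ₗ[F] fixS γ) (v : V) :
    (hγ.extE g)⁻¹ v = hγ.extL g.symm v := rfl

/-- extension of an endomorphism of the fixed space by zero -/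
noncomputable def ext0 (hγ : IsInv B γ) (N : fixS γ →ₗ[F] fixS γ) : V →ₗ[F] V :=
  (fixS γ).subtype ∘ₗ N ∘ₗ hγ.projF

theorem ext0_apply (hγ : IsInv B γ) (N : fixS γ →ₗ[F] fixS γ) (v : V) :
    hγ.ext0 N v = (N (hγ.projF v) : V) := rfl

theorem ext0_of_mem (hγ : IsInv B γ) (N : fixS γ →ₗ[F] fixS γ) (v : fixS γ) :
    hγ.ext0 N (v : V) = N v := by
  rw [ext0_apply, hγ.projF_of_mem]

theorem ext0_ext0 (hγ : IsInv B γ) (N N' : fixS γ →ₗ[F] fixS γ) (v : V) :
    hγ.ext0 N (hγ.ext0 N' v) = (N (N' (hγ.projF v)) : V) := by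
  rw [ext0_apply, ext0_apply, hγ.projF_of_mem]

theorem ext0_gamma (hγ : IsInv B γ) (N : fixS γ →ₗ[F] fixS γ) (v : V) :
    hγ.ext0 N (γ v) = γ (hγ.ext0 N v) := by
  have h1 : hγ.projF (γ v) = hγ.projF v := Subtype.ext (hγ.pr_gamma v)
  rw [ext0_apply, ext0_apply, h1, mem_fixS.1 (N _).2]

theorem add_ext0 (hγ : IsInv B γ) (N : fixS γ →ₗ[F] fixS γ) (v : V) :
    v + hγ.ext0 N v = hγ.extL (LinearMap.id + N) v := by
  rw [extL_apply, ext0_apply, LinearMap.add_apply, LinearMap.id_apply, Submodule.coe_add,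
    projF_coe]
  nth_rewrite 1 [← hγ.pr_add_pr v]
  abel

end IsInv

end Cfsg.Agent.Helper2.GInvAB
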