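import Mathlib
import Cfsg.Agent.Lib.Helper2.GInvA1
import Cfsg.Agent.Lib.Helper17.GInv1

set_option autoImplicit false
set_option linter.unusedSimpArgs false
set_option linter.unusedVariables false
set_option linter.unusedSectionVars false

/-! Package (alpha): groups and semilinear maps commuting with an isometric involution whose
eigenspaces both have odd dimension. -/

namespace Cfsg.Agent.Helper2.GInvAB

open Cfsg.Agent.Helper2.PGeo Module

variable {F : Type*} [Field F] {V : Type*} [AddCommGroup V] [Module F V]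
  {B : V →ₗ[F] V →ₗ[F] F} {γ : V →ₗ[F] V}

theorem equiv_inv_apply_self (m : V ≃ₗ[F] V) (v : V) : m (m⁻¹ v) = v := by
  rw [← LinearEquiv.mul_apply, mul_inv_cancel]; rfl

theorem equiv_inv_self_apply (m : V ≃ₗ[F] V) (v : V) : m⁻¹ (m v) = v := by
  rw [← LinearEquiv.mul_apply, inv_mul_cancel]; rfl

theorem inv_comm_gamma (m : V ≃ₗ[F] V) (hm : ∀ v, m (γ v) = γ (m v)) (v : V) :
    m⁻¹ (γ v) = γ (m⁻¹ v) := by
  apply m.injective
  rw [equiv_inv_apply_self, hm, equiv_inv_apply_self]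

/-- restriction of an automorphism commuting with the involution to the fixed space -/
noncomputable def resE (m : V ≃ₗ[F] V) (hm : ∀ v, m (γ v) = γ (m v)) :
    fixS γ ≃ₗ[F] fixS γ :=
  LinearEquiv.ofLinearMap
    ((m : V →ₗ[F] V).restrict (p := fixS γ) (q := fixS γ) (fun v hv => by
      rw [mem_fixS] at hv ⊢
      show γ (m v) = m v
      rw [← hm, hv]))
    (((m⁻¹ : V ≃ₗ[F] V) : V →ₗ[F] V).restrict (p := fixS γ) (q := fixS γ) (fun v hv => by
      rw [mem_fixS] at hv ⊢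
      show γ (m⁻¹ v) = m⁻¹ v
      rw [← inv_comm_gamma m hm, hv]))
    (by
      ext v
      exact equiv_inv_apply_self m v)
    (by
      ext v
      exact equiv_inv_self_apply m v)

theorem resE_coe (m : V ≃ₗ[F] V) (hm : ∀ v, m (γ v) = γ (m v)) (v : fixS γ) :
    (resE m hm v : V) = m v := rfl

/-- the group induced on the fixed space -/
def resGrp (γ : V →ₗ[F] V) (M : Subgroup (V ≃ₗ[F] V)) : Subgroup (fixS γ ≃ₗ[F] fixS γ) where
  carrier := {f | ∃ m ∈ M, ∀ v : fixS γ, (f v : V) = m v}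
  one_mem' := ⟨1, M.one_mem, fun v => rfl⟩
  mul_mem' := by
    rintro f f' ⟨m, hm, hf⟩ ⟨m', hm', hf'⟩
    refine ⟨m * m', M.mul_mem hm hm', fun v => ?_⟩
    rw [LinearEquiv.mul_apply, LinearEquiv.mul_apply, hf, hf']
  inv_mem' := by
    rintro f ⟨m, hm, hf⟩
    refine ⟨m⁻¹, M.inv_mem hm, fun v => ?_⟩
    apply m.injective
    rw [equiv_inv_apply_self, ← hf, equiv_inv_apply_self]

theorem mem_resGrp {M : Subgroup (V ≃ₗ[F] V)} {f : fixS γ ≃ₗ[F] fixS γ} :
    f ∈ resGrp γ M ↔ ∃ m ∈ M, ∀ v : fixS γ, (f v : V) = m v := Iff.rfl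

theorem pow_coe_of_coe (f : fixS γ ≃ₗ[F] fixS γ) (m : V ≃ₗ[F] V)
    (hf : ∀ v : fixS γ, (f v : V) = m v) (k : ℕ) (v : fixS γ) : ((f ^ k) v : V) = (m ^ k) v := by
  induction k generalizing v with
  | zero => rw [pow_zero, pow_zero]; rfl
  | succ k ih =>
    rw [pow_succ, pow_succ, LinearEquiv.mul_apply, LinearEquiv.mul_apply, ih, hf]

/-- (alpha)-H1 on one eigenspace -/
theorem scalar_on_fix [Finite F] [FiniteDimensional F V] (h : IsEpsForm B 1) (hγ : IsInv B γ)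
    (hodd : Odd (finrank F (fixS γ)))
    (M : Subgroup (V ≃ₗ[F] V)) (hM : M ≤ sim B)
    (hcomm : ∀ m ∈ M, ∀ v, m (γ v) = γ (m v))
    (hnorm : ∀ g : V ≃ₗ[F] V, (∀ u v, B (g u) (g v) = B u v) → (∀ v, g (γ v) = γ (g v)) →
      ∀ m ∈ M, g * m * g⁻¹ ∈ M)
    (hoddM : ∀ m ∈ M, ∃ k : ℕ, Odd k ∧ ∃ c : F, ∀ v, (m ^ k) v = c • v) :
    ∀ m ∈ M, ∃ a : F, ∀ v ∈ fixS γ, m v = a • v := by
  have key := Cfsg.Agent.Helper17.GInv.scalar_of_odd_normal_iso (hγ.isEpsForm_Br h) hodd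
    (resGrp γ M) ?_ ?_ ?_
  · intro m hm
    obtain ⟨a, ha⟩ := key (resE m (hcomm m hm)) ⟨m, hm, fun v => rfl⟩
    refine ⟨a, fun v hv => ?_⟩
    have h1 := congrArg Subtype.val (ha ⟨v, hv⟩)
    exact h1
  · rintro f ⟨m, hm, hf⟩
    obtain ⟨c, hc0, hc⟩ := hM hm
    refine ⟨c, hc0, fun u v => ?_⟩
    rw [IsInv.Br_apply, IsInv.Br_apply, hf, hf, hc]
  · rintro g hg f ⟨m, hm, hf⟩
    refine ⟨hγ.extE g * m * (hγ.extE g)⁻¹,
      hnorm (hγ.extE g) (hγ.extL_iso g hg) (hγ.extL_gamma g) m hm, fun v => ?_⟩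
    rw [LinearEquiv.mul_apply, LinearEquiv.mul_apply, LinearEquiv.mul_apply, LinearEquiv.mul_apply,
      IsInv.extE_inv_apply, IsInv.extE_apply, hγ.extL_of_mem, ← hf, hγ.extL_of_mem]
    rfl
  · rintro f ⟨m, hm, hf⟩
    obtain ⟨k, hk, c, hc⟩ := hoddM m hm
    refine ⟨k, hk, c, fun v => Subtype.ext ?_⟩
    rw [pow_coe_of_coe f m hf, hc]
    rfl

/-- (alpha)-H2 on one eigenspace of dimension at least three -/
theorem rigid_on_fix [Finite F] [FiniteDimensional F V] (h : IsEpsForm B 1) (hγ : IsInv B γ)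
    (hdim : 3 ≤ finrank F (fixS γ))
    (τ : F →+* F) (T : V →+ V) (hT : ∀ (c : F) (v : V), T (c • v) = τ c • T v)
    (hTinj : Function.Injective T) (hTγ : ∀ v, T (γ v) = γ (T v))
    (hcomm : ∀ N : V →ₗ[F] V, (∀ v, N (γ v) = γ (N v)) →
      (∀ u v, B (u + N u) (v + N v) = B u v) → (∀ v, N (N (N v)) = 0) →
      ∀ v, T (N v) = N (T v)) :
    (∀ c, τ c = c) ∧ ∃ l : F, ∀ v ∈ fixS γ, T v = l • v := by
  have hmem : ∀ v : fixS γ, T v ∈ fixS γ := by
    intro v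
    rw [mem_fixS, ← hTγ, mem_fixS.1 v.2]
  obtain ⟨Tp, hTp⟩ : ∃ Tp : fixS γ →+ fixS γ, ∀ v, (Tp v : V) = T v :=
    ⟨{ toFun := fun v => ⟨T v, hmem v⟩
       map_zero' := Subtype.ext (map_zero T)
       map_add' := fun u v => Subtype.ext (map_add T (u : V) (v : V)) }, fun v => rfl⟩
  have key := Cfsg.Agent.Helper17.GInv.rigid_of_commute (hγ.isEpsForm_Br h) hdim τ Tp ?_ ?_ ?_
  · obtain ⟨h1, l, hl⟩ := key
    refine ⟨h1, l, fun v hv => ?_⟩
    have h2 := congrArg Subtype.val (hl ⟨v, hv⟩)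
    rw [hTp] at h2
    exact h2
  · intro c v
    apply Subtype.ext
    rw [hTp, Submodule.coe_smul, hT, Submodule.coe_smul, hTp]
  · intro u v huv
    apply Subtype.ext
    apply hTinj
    rw [← hTp, ← hTp, huv]
  · intro N hN1 hN3 v
    have h1 := hcomm (hγ.ext0 N) (hγ.ext0_gamma N) ?_ ?_ (v : V)
    · apply Subtype.ext
      rw [hTp, ← hγ.ext0_of_mem, h1, ← hTp, hγ.ext0_of_mem]
    · intro u w
      rw [hγ.add_ext0, hγ.add_ext0]
      apply hγ.extL_iso
      intro u' w'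
      exact hN1 u' w'
    · intro w
      rw [hγ.ext0_ext0, hγ.ext0_apply, hγ.projF_of_mem, hN3]
      rfl

/-- a semilinear map with trivial field automorphism is a scalar on an invariant line -/
theorem scalar_on_line [FiniteDimensional F V] (hγ : IsInv B γ)
    (hdim : finrank F (fixS γ) = 1)
    (T : V →+ V) (hT : ∀ (c : F) (v : V), T (c • v) = c • T v)
    (hTγ : ∀ v, T (γ v) = γ (T v)) :
    ∃ l : F, ∀ v ∈ fixS γ, T v = l • v := by
  obtain ⟨e, he0, he⟩ := finrank_eq_one_iff'.1 hdim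
  have hmem : T e ∈ fixS γ := by
    rw [mem_fixS, ← hTγ, mem_fixS.1 e.2]
  obtain ⟨l, hl⟩ := he ⟨T e, hmem⟩
  have hl' : l • (e : V) = T e := congrArg Subtype.val hl
  refine ⟨l, fun v hv => ?_⟩
  obtain ⟨c, hc⟩ := he ⟨v, hv⟩
  have hc' : c • (e : V) = v := congrArg Subtype.val hc
  rw [← hc', hT, ← hl', smul_comm]

/-- combining the two eigenspaces -/
theorem combine (h : IsEpsForm B 1) (hγ : IsInv B γ) (hnep : ∃ v ∈ fixS γ, v ≠ 0)
    (hneq : ∃ v ∈ fixS (-γ), v ≠ 0) (T : V → V) (hadd : ∀ u v, T (u + v) = T u + T v)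
    (a b μ : F) (ha : ∀ v ∈ fixS γ, T v = a • v) (hb : ∀ v ∈ fixS (-γ), T v = b • v)
    (hμ : ∀ u v, B (T u) (T v) = μ * B u v) :
    (∀ v, T v = a • v) ∨ (∀ v, T v = a • γ v) := by
  obtain ⟨u, hu, huu⟩ := hγ.exists_nonsing_fix h hnep
  obtain ⟨w, hw, hww⟩ := hγ.neg.exists_nonsing_fix h hneq
  have h1 : a * a = μ := by
    have h2 := hμ u u
    rw [ha u hu] at h2
    simp only [map_smul, LinearMap.smul_apply, smul_eq_mul] at h2
    have h3 : (a * a - μ) * B u u = 0 := by linear_combination h2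
    rcases mul_eq_zero.1 h3 with h4 | h4
    · linear_combination h4
    · exact absurd h4 huu
  have h2 : b * b = μ := by
    have h2 := hμ w w
    rw [hb w hw] at h2
    simp only [map_smul, LinearMap.smul_apply, smul_eq_mul] at h2
    have h3 : (b * b - μ) * B w w = 0 := by linear_combination h2
    rcases mul_eq_zero.1 h3 with h4 | h4
    · linear_combination h4
    · exact absurd h4 hww
  have h3 : (b - a) * (b + a) = 0 := by linear_combination h2 - h1
  have hT : ∀ v, T v = a • IsInv.pr γ v + b • IsInv.pr (-γ) v := by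
    intro v
    nth_rewrite 1 [← hγ.pr_add_pr v]
    rw [hadd, ha _ (hγ.pr_mem v), hb _ (hγ.neg.pr_mem v)]
  rcases mul_eq_zero.1 h3 with h4 | h4
  · left
    intro v
    have h5 : b = a := by linear_combination h4
    rw [hT, h5, ← smul_add, hγ.pr_add_pr]
  · right
    intro v
    have h5 : b = -a := by linear_combination h4
    rw [hT, h5, neg_smul, ← sub_eq_add_neg, ← smul_sub, hγ.pr_sub_pr]

theorem exists_ne_of_finrank_pos [FiniteDimensional F V] (W : Submodule F V)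
    (hW : 0 < finrank F W) : ∃ v ∈ W, v ≠ 0 := by
  obtain ⟨w, hw⟩ := (Module.finrank_pos_iff_exists_ne_zero (R := F) (M := W)).1 hW
  exact ⟨w, w.2, fun h => hw (Subtype.ext h)⟩

/-- **(α)-H1** -/
theorem alpha_H1 [Finite F] [FiniteDimensional F V] (h : IsEpsForm B 1) (γ : V →ₗ[F] V)
    (hγ2 : ∀ v, γ (γ v) = v)
    (hγiso : ∀ u v, B (γ u) (γ v) = B u v)
    (hodd : Odd (finrank F (LinearMap.ker (γ + LinearMap.id))))
    (heven : Even (finrank F V))
    (M : Subgroup (V ≃ₗ[F] V)) (hM : M ≤ sim B)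
    (hcomm : ∀ m ∈ M, ∀ v, m (γ v) = γ (m v))
    (hnorm : ∀ g : V ≃ₗ[F] V, (∀ u v, B (g u) (g v) = B u v) → (∀ v, g (γ v) = γ (g v)) →
      ∀ m ∈ M, g * m * g⁻¹ ∈ M)
    (hoddM : ∀ m ∈ M, ∃ k : ℕ, Odd k ∧ ∃ c : F, ∀ v, (m ^ k) v = c • v) :
    ∀ m ∈ M, ∃ s : F, (∀ v, m v = s • v) ∨ (∀ v, m v = s • γ v) := by
  have hγ : IsInv B γ := ⟨h.two, hγ2, hγiso⟩
  rw [← fixS_neg_eq] at hodd
  have hsum := hγ.finrank_add
  have hoddp : Odd (finrank F (fixS γ)) := by
    rcases Nat.even_or_odd (finrank F (fixS γ)) with h1 | h1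
    · exfalso
      have h2 : Odd (finrank F V) := by rw [← hsum]; exact h1.add_odd hodd
      exact (Nat.not_even_iff_odd.2 h2) heven
    · exact h1
  have hneg : ∀ (g : V ≃ₗ[F] V), (∀ v, g ((-γ) v) = (-γ) (g v)) → ∀ v, g (γ v) = γ (g v) := by
    intro g hg v
    have h1 := hg v
    rw [LinearMap.neg_apply, LinearMap.neg_apply, map_neg, neg_inj] at h1
    exact h1
  have hneg' : ∀ (g : V ≃ₗ[F] V), (∀ v, g (γ v) = γ (g v)) → ∀ v, g ((-γ) v) = (-γ) (g v) := by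
    intro g hg v
    rw [LinearMap.neg_apply, LinearMap.neg_apply, map_neg, hg]
  have kp := scalar_on_fix h hγ hoddp M hM hcomm hnorm hoddM
  have kq := scalar_on_fix h hγ.neg hodd M hM (fun m hm => hneg' m (hcomm m hm))
    (fun g hg1 hg2 => hnorm g hg1 (hneg g hg2)) hoddM
  intro m hm
  obtain ⟨a, ha⟩ := kp m hm
  obtain ⟨b, hb⟩ := kq m hm
  obtain ⟨μ, -, hμ⟩ := hM hm
  have hnep := exists_ne_of_finrank_pos (fixS γ) hoddp.pos
  have hneq := exists_ne_of_finrank_pos (fixS (-γ)) hodd.pos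
  exact ⟨a, combine h hγ hnep hneq m (fun u v => map_add m u v) a b μ ha hb hμ⟩

/-- **(α)-H2** -/
theorem alpha_H2 [Finite F] [FiniteDimensional F V] (h : IsEpsForm B 1) (γ : V →ₗ[F] V)
    (hγ2 : ∀ v, γ (γ v) = v)
    (hγiso : ∀ u v, B (γ u) (γ v) = B u v)
    (hodd : Odd (finrank F (LinearMap.ker (γ + LinearMap.id))))
    (heven : Even (finrank F V)) (hdim : 4 ≤ finrank F V)
    (τ : F →+* F) (T : V →+ V) (hT : ∀ (c : F) (v : V), T (c • v) = τ c • T v)
    (hTinj : Function.Injective T) (hTγ : ∀ v, T (γ v) = γ (T v))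
    (hsim : (∀ c, τ c = c) → ∃ μ : F, ∀ u v, B (T u) (T v) = μ * B u v)
    (hcomm : ∀ N : V →ₗ[F] V, (∀ v, N (γ v) = γ (N v)) →
      (∀ u v, B (u + N u) (v + N v) = B u v) → (∀ v, N (N (N v)) = 0) →
      ∀ v, T (N v) = N (T v)) :
    (∀ c, τ c = c) ∧ ∃ s : F, (∀ v, T v = s • v) ∨ (∀ v, T v = s • γ v) := by
  have hγ : IsInv B γ := ⟨h.two, hγ2, hγiso⟩
  rw [← fixS_neg_eq] at hodd
  have hsum := hγ.finrank_add
  have hoddp : Odd (finrank F (fixS γ)) := by
    rcases Nat.even_or_odd (finrank F (fixS γ)) with h1 | h1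
    · exfalso
      have h2 : Odd (finrank F V) := by rw [← hsum]; exact h1.add_odd hodd
      exact (Nat.not_even_iff_odd.2 h2) heven
    · exact h1
  have hTγ' : ∀ v, T ((-γ) v) = (-γ) (T v) := by
    intro v
    rw [LinearMap.neg_apply, LinearMap.neg_apply, map_neg, hTγ]
  have hcomm' : ∀ N : V →ₗ[F] V, (∀ v, N ((-γ) v) = (-γ) (N v)) →
      (∀ u v, B (u + N u) (v + N v) = B u v) → (∀ v, N (N (N v)) = 0) →
      ∀ v, T (N v) = N (T v) := by
    intro N hN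
    apply hcomm N
    intro v
    have h1 := hN v
    rw [LinearMap.neg_apply, LinearMap.neg_apply, map_neg, neg_inj] at h1
    exact h1
  have rp := fun hd => rigid_on_fix h hγ hd τ T hT hTinj hTγ hcomm
  have rq := fun hd => rigid_on_fix h hγ.neg hd τ T hT hTinj hTγ' hcomm'
  have hτ : ∀ c, τ c = c := by
    by_cases hd : 3 ≤ finrank F (fixS γ)
    · exact (rp hd).1
    · have hd' : 3 ≤ finrank F (fixS (-γ)) := by
        obtain ⟨k, hk⟩ := hoddp
        obtain ⟨k', hk'⟩ := hodd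
        omega
      exact (rq hd').1
  have hT' : ∀ (c : F) (v : V), T (c • v) = c • T v := by
    intro c v
    rw [hT, hτ]
  have sp : ∃ l : F, ∀ v ∈ fixS γ, T v = l • v := by
    by_cases hd : 3 ≤ finrank F (fixS γ)
    · exact (rp hd).2
    · have h1 : finrank F (fixS γ) = 1 := by
        obtain ⟨k, hk⟩ := hoddp
        omega
      exact scalar_on_line hγ h1 T hT' hTγ
  have sq : ∃ l : F, ∀ v ∈ fixS (-γ), T v = l • v := by
    by_cases hd : 3 ≤ finrank F (fixS (-γ))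
    · exact (rq hd).2
    · have h1 : finrank F (fixS (-γ)) = 1 := by
        obtain ⟨k, hk⟩ := hodd
        omega
      exact scalar_on_line hγ.neg h1 T hT' hTγ'
  obtain ⟨a, ha⟩ := sp
  obtain ⟨b, hb⟩ := sq
  obtain ⟨μ, hμ⟩ := hsim hτ
  have hnep := exists_ne_of_finrank_pos (fixS γ) hoddp.pos
  have hneq := exists_ne_of_finrank_pos (fixS (-γ)) hodd.pos
  exact ⟨hτ, a, combine h hγ hnep hneq T (fun u v => map_add T u v) a b μ ha hb hμ⟩

end Cfsg.Agent.Helper2.GInvAB
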