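import Mathlib
import Cfsg.Agent.Lib.Helper2.Pgeo11

set_option autoImplicit false
set_option linter.unusedSimpArgs false
set_option linter.unusedVariables false
set_option linter.unusedSectionVars false

/-! A symmetric form over `F` on a module over a quadratic extension `E = F(θ)` with `θ`
self-adjoint: the associated `E`-bilinear form. -/

namespace Cfsg.Agent.Helper2.GInvAB

open Cfsg.Agent.Helper2.PGeo Module

variable {F : Type*} [Field F] {E : Type*} [Field E] [Algebra F E]
  {V : Type*} [AddCommGroup V] [Module F V] [Module E V] [IsScalarTower F E V]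
  {B : V →ₗ[F] V →ₗ[F] F}

/-- the data of a self-adjoint generator of a quadratic extension -/
structure QData (B : V →ₗ[F] V →ₗ[F] F) (θ : E) (c : F) : Prop where
  sq : θ * θ = algebraMap F E c
  nsq : ¬ IsSquare c
  span : ∀ e : E, ∃ a b : F, e = algebraMap F E a + b • θ
  adj : ∀ u v, B (θ • u) v = B u (θ • v)

namespace QData

variable {θ : E} {c : F}

theorem c_ne_zero (D : QData B θ c) : c ≠ 0 := by
  rintro rfl
  exact D.nsq ⟨0, by ring⟩

theorem indep0 (D : QData B θ c) {a b : F} (h : algebraMap F E a + b • θ = 0) :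
    a = 0 ∧ b = 0 := by
  have hinj := (algebraMap F E).injective
  by_cases hb : b = 0
  · subst hb
    rw [zero_smul, add_zero] at h
    exact ⟨hinj (by rw [h, map_zero]), rfl⟩
  · exfalso
    have hb' : algebraMap F E b ≠ 0 := fun h0 => hb (hinj (by rw [h0, map_zero]))
    have h1 : θ = algebraMap F E (-a / b) := by
      rw [Algebra.smul_def] at h
      rw [map_div₀, map_neg]
      field_simp
      linear_combination h
    apply D.nsq
    refine ⟨-a / b, hinj ?_⟩
    rw [← D.sq, map_mul, ← h1]

theorem indep (D : QData B θ c) {a b a' b' : F}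
    (h : algebraMap F E a + b • θ = algebraMap F E a' + b' • θ) : a = a' ∧ b = b' := by
  have h1 : algebraMap F E (a - a') + (b - b') • θ = 0 := by
    rw [map_sub, sub_smul]
    linear_combination h
  obtain ⟨h2, h3⟩ := D.indep0 h1
  exact ⟨sub_eq_zero.1 h2, sub_eq_zero.1 h3⟩

theorem smul_eq (a b : F) (v : V) (θ : E) :
    (algebraMap F E a + b • θ) • v = a • v + b • θ • v := by
  rw [add_smul, algebraMap_smul, smul_assoc]

theorem theta_theta_smul (D : QData B θ c) (v : V) : θ • θ • v = c • v := by
  rw [smul_smul, D.sq, algebraMap_smul]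

theorem finite_E [Finite F] (D : QData B θ c) : Finite E := by
  have hsurj : Function.Surjective (fun p : F × F => algebraMap F E p.1 + p.2 • θ) := by
    intro e
    obtain ⟨a, b, hab⟩ := D.span e
    exact ⟨(a, b), hab.symm⟩
  exact Finite.of_surjective _ hsurj

/-- the `E`-valued form -/
noncomputable def BEf (B : V →ₗ[F] V →ₗ[F] F) (θ : E) (c : F) (u v : V) : E :=
  algebraMap F E (B u v) + (c⁻¹ * B (θ • u) v) • θ

theorem BEf_add_left (u u' v : V) : BEf B θ c (u + u') v = BEf B θ c u v + BEf B θ c u' v := by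
  unfold BEf
  rw [smul_add, map_add, map_add, LinearMap.add_apply, LinearMap.add_apply, map_add, mul_add,
    add_smul]
  abel

theorem BEf_symm (h : IsEpsForm B 1) (D : QData B θ c) (u v : V) :
    BEf B θ c u v = BEf B θ c v u := by
  have hs : ∀ x y, B x y = B y x := by
    intro x y
    have := h.symm y x
    rw [one_mul] at this
    exact this
  unfold BEf
  rw [hs u v, D.adj u v, hs u (θ • v)]

theorem BEf_smulF_left (a : F) (u v : V) :
    BEf B θ c (a • u) v = algebraMap F E a * BEf B θ c u v := by
  unfold BEf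
  have h1 : B (a • u) v = a * B u v := by rw [map_smul, LinearMap.smul_apply, smul_eq_mul]
  have h2 : B (θ • a • u) v = a * B (θ • u) v := by
    rw [smul_comm θ a u, map_smul, LinearMap.smul_apply, smul_eq_mul]
  rw [h1, h2, Algebra.smul_def, Algebra.smul_def, map_mul, map_mul, map_mul, map_mul]
  ring

theorem BEf_theta_left (D : QData B θ c) (u v : V) :
    BEf B θ c (θ • u) v = θ * BEf B θ c u v := by
  unfold BEf
  have h0 : B (θ • θ • u) v = c * B u v := by
    rw [D.theta_theta_smul, map_smul, LinearMap.smul_apply, smul_eq_mul]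
  rw [h0, Algebra.smul_def, Algebra.smul_def, map_mul, map_mul, map_mul]
  have hc : algebraMap F E c ≠ 0 := by
    intro h0
    exact D.c_ne_zero ((algebraMap F E).injective (by rw [h0, map_zero]))
  have h1 : algebraMap F E c⁻¹ * algebraMap F E c = 1 := by
    rw [map_inv₀, inv_mul_cancel₀ hc]
  linear_combination (algebraMap F E (B u v) * θ - algebraMap F E (B (θ • u) v)) * h1 -
    (algebraMap F E c⁻¹ * algebraMap F E (B (θ • u) v)) * D.sq

theorem BEf_smul_left (D : QData B θ c) (e : E) (u v : V) :
    BEf B θ c (e • u) v = e * BEf B θ c u v := by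
  obtain ⟨a, b, rfl⟩ := D.span e
  rw [smul_eq, BEf_add_left, BEf_smulF_left, BEf_smulF_left, D.BEf_theta_left, Algebra.smul_def]
  ring

/-- the `E`-bilinear form attached to the data -/
noncomputable def BE (h : IsEpsForm B 1) (D : QData B θ c) : V →ₗ[E] V →ₗ[E] E :=
  LinearMap.mk₂ E (BEf B θ c) BEf_add_left (fun e u v => D.BEf_smul_left e u v)
    (fun u v v' => by
      rw [BEf_symm h D u (v + v'), BEf_add_left, BEf_symm h D v u, BEf_symm h D v' u])
    (fun e u v => by
      rw [BEf_symm h D u (e • v), D.BEf_smul_left, BEf_symm h D v u]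
      rfl)

theorem BE_apply (h : IsEpsForm B 1) (D : QData B θ c) (u v : V) :
    BE h D u v = algebraMap F E (B u v) + (c⁻¹ * B (θ • u) v) • θ := rfl

theorem isEpsForm_BE (h : IsEpsForm B 1) (D : QData B θ c) : IsEpsForm (BE h D) 1 := by
  have hinj := (algebraMap F E).injective
  refine ⟨?_, fun a => rfl, Or.inl rfl, fun x y => ?_, ?_⟩
  · intro h2
    apply h.two
    apply hinj
    rw [map_ofNat, h2, map_zero]
  · rw [one_mul]
    exact BEf_symm h D y x
  · intro x hx
    apply h.nondeg
    intro y
    have h1 := hx y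
    rw [BE_apply] at h1
    have h2 : algebraMap F E (B x y) + (c⁻¹ * B (θ • x) y) • θ = 0 := h1
    exact (D.indep0 h2).1

/-- an `E`-linear `F`-similitude is an `E`-similitude -/
theorem BE_sim (h : IsEpsForm B 1) (D : QData B θ c) (f : V → V)
    (hf : ∀ v, f (θ • v) = θ • f v) (μ : F) (hμ : ∀ u v, B (f u) (f v) = μ * B u v) (u v : V) :
    BE h D (f u) (f v) = algebraMap F E μ * BE h D u v := by
  rw [BE_apply, BE_apply, ← hf, hμ, hμ, Algebra.smul_def, Algebra.smul_def, map_mul, map_mul,
    map_mul, map_mul]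
  ring

/-- an `E`-isometry is an `F`-isometry -/
theorem iso_of_BE_iso (h : IsEpsForm B 1) (D : QData B θ c) {u v u' v' : V}
    (hf : BE h D u v = BE h D u' v') : B u v = B u' v' := by
  rw [BE_apply, BE_apply] at hf
  exact (D.indep hf).1

/-- scalars whose square lies in the small field -/
theorem scalar_cases (D : QData B θ c) (h2 : (2 : F) ≠ 0) (l : E) (μ : F)
    (hl : l * l = algebraMap F E μ) :
    ∃ s : F, l = algebraMap F E s ∨ l = s • θ := by
  obtain ⟨a, b, rfl⟩ := D.span l
  have h1 : algebraMap F E (a * a + b * b * c) + (2 * a * b) • θ =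
      algebraMap F E μ + (0 : F) • θ := by
    rw [zero_smul, add_zero, ← hl, Algebra.smul_def, Algebra.smul_def, map_add, map_mul, map_mul,
      map_mul, map_mul, map_mul, map_ofNat]
    linear_combination (-(algebraMap F E b * algebraMap F E b)) * D.sq
  obtain ⟨-, h3⟩ := D.indep h1
  have h4 : a * b = 0 := by
    have : (2 : F) * (a * b) = 0 := by linear_combination h3
    rcases mul_eq_zero.1 this with h5 | h5
    · exact absurd h5 h2
    · exact h5
  rcases mul_eq_zero.1 h4 with h5 | h5
  · refine ⟨b, Or.inr ?_⟩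
    rw [h5, map_zero, zero_add]
  · refine ⟨a, Or.inl ?_⟩
    rw [h5, zero_smul, add_zero]

/-- the square of a scalar similitude -/
theorem sq_eq_of_scalar (h : IsEpsForm B 1) (D : QData B θ c) (f : V → V) (l : E)
    (hl : ∀ v, f v = l • v) (μ : F) (hμ : ∀ u v, B (f u) (f v) = μ * B u v)
    (hV : ∃ v : V, v ≠ 0) : l * l = algebraMap F E μ := by
  have h1 : ¬ ((∀ e : E, (RingHom.id E) e = e) ∧ (1 : E) = -1) := by
    rintro ⟨-, h2⟩
    apply (isEpsForm_BE h D).two
    linear_combination h2
  obtain ⟨u, hu⟩ := exists_nonsing (isEpsForm_BE h D) h1 hV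
  have hf : ∀ v, f (θ • v) = θ • f v := by
    intro v
    rw [hl, hl, smul_comm]
  have h2 := BE_sim h D f hf μ hμ u u
  rw [hl] at h2
  simp only [map_smul, LinearMap.smul_apply, smul_eq_mul] at h2
  have h3 : (l * l - algebraMap F E μ) * BE h D u u = 0 := by linear_combination h2
  rcases mul_eq_zero.1 h3 with h4 | h4
  · linear_combination h4
  · exact absurd h4 hu

end QData

end Cfsg.Agent.Helper2.GInvAB
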