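import Mathlib
import Cfsg.Agent.Lib.Helper2.GInvB1
import Cfsg.Agent.Lib.Helper17.GInv1

set_option autoImplicit false
set_option linter.unusedSimpArgs false
set_option linter.unusedVariables false
set_option linter.unusedSectionVars false

/-! Package (beta): groups and semilinear maps commuting with a self-adjoint generator of a
quadratic extension. -/

namespace Cfsg.Agent.Helper2.GInvAB

open Cfsg.Agent.Helper2.PGeo Module

variable {F : Type*} [Field F] {E : Type*} [Field E] [Algebra F E]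
  {V : Type*} [AddCommGroup V] [Module F V] [Module E V] [IsScalarTower F E V]
  {B : V →ₗ[F] V →ₗ[F] F} {θ : E} {c : F}

theorem equivE_inv_apply_self (m : V ≃ₗ[E] V) (v : V) : m (m⁻¹ v) = v := by
  rw [← LinearEquiv.mul_apply, mul_inv_cancel]; rfl

theorem equivF_inv_apply_self (m : V ≃ₗ[F] V) (v : V) : m (m⁻¹ v) = v := by
  rw [← LinearEquiv.mul_apply, mul_inv_cancel]; rfl

/-- an automorphism over the small field commuting with the generator is linear over the big
field -/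
noncomputable def upE (D : QData B θ c) (m : V ≃ₗ[F] V) (hm : ∀ v, m (θ • v) = θ • m v) :
    V ≃ₗ[E] V where
  toFun := m
  map_add' := m.map_add
  map_smul' := fun e v => by
    obtain ⟨a, b, rfl⟩ := D.span e
    simp only [RingHom.id_apply]
    rw [QData.smul_eq, QData.smul_eq, map_add, map_smul, map_smul, hm]
  invFun := m.symm
  left_inv := m.left_inv
  right_inv := m.right_inv

theorem upE_apply (D : QData B θ c) (m : V ≃ₗ[F] V) (hm : ∀ v, m (θ • v) = θ • m v) (v : V) :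
    upE D m hm v = m v := rfl

/-- the group of automorphisms over the big field lying in a given group -/
def extGrp (M : Subgroup (V ≃ₗ[F] V)) : Subgroup (V ≃ₗ[E] V) where
  carrier := {f | ∃ m ∈ M, ∀ v : V, f v = m v}
  one_mem' := ⟨1, M.one_mem, fun v => rfl⟩
  mul_mem' := by
    rintro f f' ⟨m, hm, hf⟩ ⟨m', hm', hf'⟩
    refine ⟨m * m', M.mul_mem hm hm', fun v => ?_⟩
    rw [LinearEquiv.mul_apply, LinearEquiv.mul_apply, hf, hf']
  inv_mem' := by
    rintro f ⟨m, hm, hf⟩
    refine ⟨m⁻¹, M.inv_mem hm, fun v => ?_⟩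
    apply m.injective
    rw [equivF_inv_apply_self, ← hf, equivE_inv_apply_self]

theorem powE_of_eq (f : V ≃ₗ[E] V) (m : V ≃ₗ[F] V)
    (hf : ∀ v : V, f v = m v) (k : ℕ) (v : V) : (f ^ k) v = (m ^ k) v := by
  induction k generalizing v with
  | zero => rw [pow_zero, pow_zero]; rfl
  | succ k ih =>
    rw [pow_succ, pow_succ, LinearEquiv.mul_apply, LinearEquiv.mul_apply, ih, hf]

/-- **(β)-H1** -/
theorem beta_H1 [Finite F] [FiniteDimensional F V] (h : IsEpsForm B 1) (θ : E) (c : F)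
    (hθ : θ * θ = algebraMap F E c)
    (hnsq : ¬ IsSquare c) (hE : ∀ e : E, ∃ a b : F, e = algebraMap F E a + b • θ)
    (hadj : ∀ u v, B (θ • u) v = B u (θ • v))
    (hodd : Odd (finrank E V))
    (M : Subgroup (V ≃ₗ[F] V)) (hM : M ≤ sim B)
    (hcomm : ∀ m ∈ M, ∀ v, m (θ • v) = θ • m v)
    (hnorm : ∀ g : V ≃ₗ[F] V, (∀ u v, B (g u) (g v) = B u v) → (∀ v, g (θ • v) = θ • g v) →
      ∀ m ∈ M, g * m * g⁻¹ ∈ M)
    (hoddM : ∀ m ∈ M, ∃ k : ℕ, Odd k ∧ ∃ s : F, ∀ v, (m ^ k) v = s • v) :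
    ∀ m ∈ M, ∃ s : F, (∀ v, m v = s • v) ∨ (∀ v, m v = s • θ • v) := by
  have D : QData B θ c := ⟨hθ, hnsq, hE, hadj⟩
  have : Finite E := D.finite_E
  have : FiniteDimensional E V := Module.Finite.of_restrictScalars_finite F E V
  have key := Cfsg.Agent.Helper17.GInv.scalar_of_odd_normal_iso (QData.isEpsForm_BE h D) hodd
    (extGrp M) ?_ ?_ ?_
  · intro m hm
    obtain ⟨e, he⟩ := key (upE D m (hcomm m hm)) ⟨m, hm, fun v => rfl⟩
    obtain ⟨μ, -, hμ⟩ := hM hm
    have hV : ∃ v : V, v ≠ 0 := by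
      have h1 : 0 < finrank E V := hodd.pos
      exact (Module.finrank_pos_iff_exists_ne_zero (R := E) (M := V)).1 h1
    have h1 := QData.sq_eq_of_scalar h D m e he μ hμ hV
    obtain ⟨s, hs | hs⟩ := D.scalar_cases h.two e μ h1
    · refine ⟨s, Or.inl fun v => ?_⟩
      have h2 := he v
      rw [upE_apply, hs, algebraMap_smul] at h2
      exact h2
    · refine ⟨s, Or.inr fun v => ?_⟩
      have h2 := he v
      rw [upE_apply, hs, smul_assoc] at h2
      exact h2
  · rintro f ⟨m, hm, hf⟩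
    obtain ⟨μ, hμ0, hμ⟩ := hM hm
    refine ⟨algebraMap F E μ, ?_, fun u v => ?_⟩
    · intro h0
      exact hμ0 ((algebraMap F E).injective (by rw [h0, map_zero]))
    · refine QData.BE_sim h D f (fun v => map_smul f θ v) μ (fun u v => ?_) u v
      rw [hf, hf, hμ]
  · rintro g hg f ⟨m, hm, hf⟩
    refine ⟨g.restrictScalars F * m * (g.restrictScalars F)⁻¹,
      hnorm (g.restrictScalars F) (fun u v => QData.iso_of_BE_iso h D (hg u v))
        (fun v => map_smul g θ v) m hm, fun v => ?_⟩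
    rw [LinearEquiv.mul_apply, LinearEquiv.mul_apply, LinearEquiv.mul_apply,
      LinearEquiv.mul_apply, hf]
    rfl
  · rintro f ⟨m, hm, hf⟩
    obtain ⟨k, hk, s, hs⟩ := hoddM m hm
    refine ⟨k, hk, algebraMap F E s, fun v => ?_⟩
    rw [powE_of_eq f m hf, hs, algebraMap_smul]

/-- **(β)-H2** -/
theorem beta_H2 [Finite F] [FiniteDimensional F V] (h : IsEpsForm B 1) (θ : E) (c : F)
    (hθ : θ * θ = algebraMap F E c)
    (hnsq : ¬ IsSquare c) (hE : ∀ e : E, ∃ a b : F, e = algebraMap F E a + b • θ)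
    (hadj : ∀ u v, B (θ • u) v = B u (θ • v))
    (hdim : 3 ≤ finrank E V)
    (τ' : E →+* E) (T : V →+ V) (hT : ∀ (e : E) (v : V), T (e • v) = τ' e • T v)
    (hTinj : Function.Injective T)
    (hsim : (∀ e, τ' e = e) → ∃ μ : F, ∀ u v, B (T u) (T v) = μ * B u v)
    (hcomm : ∀ N : V →ₗ[F] V, (∀ v, N (θ • v) = θ • N v) →
      (∀ u v, B (u + N u) (v + N v) = B u v) → (∀ v, N (N (N v)) = 0) →
      ∀ v, T (N v) = N (T v)) :
    (∀ e, τ' e = e) ∧ ∃ s : F, (∀ v, T v = s • v) ∨ (∀ v, T v = s • θ • v) := by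
  have D : QData B θ c := ⟨hθ, hnsq, hE, hadj⟩
  have : Finite E := D.finite_E
  have : FiniteDimensional E V := Module.Finite.of_restrictScalars_finite F E V
  have key := Cfsg.Agent.Helper17.GInv.rigid_of_commute (QData.isEpsForm_BE h D) hdim τ' T hT
    hTinj ?_
  · obtain ⟨hτ, l, hl⟩ := key
    obtain ⟨μ, hμ⟩ := hsim hτ
    have hV : ∃ v : V, v ≠ 0 := by
      have h1 : 0 < finrank E V := by omega
      exact (Module.finrank_pos_iff_exists_ne_zero (R := E) (M := V)).1 h1
    have h1 := QData.sq_eq_of_scalar h D T l hl μ hμ hV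
    refine ⟨hτ, ?_⟩
    obtain ⟨s, hs | hs⟩ := D.scalar_cases h.two l μ h1
    · refine ⟨s, Or.inl fun v => ?_⟩
      rw [hl, hs, algebraMap_smul]
    · refine ⟨s, Or.inr fun v => ?_⟩
      rw [hl, hs, smul_assoc]
  · intro N hN1 hN3 v
    exact hcomm (N.restrictScalars F) (fun v => map_smul N θ v)
      (fun u v => QData.iso_of_BE_iso h D (hN1 u v)) hN3 v

end Cfsg.Agent.Helper2.GInvAB
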