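import Mathlib
import Cfsg.Agent.Lib.Helper2.GInvA2
import Cfsg.Agent.Lib.Helper2.GInvB2

set_option autoImplicit false
set_option linter.unusedSimpArgs false
set_option linter.unusedVariables false
set_option linter.unusedSectionVars false
set_option linter.style.haveILetI false

/-! The wrapper unifying packages (alpha) and (beta): a self-adjoint similitude `g` with
`g² = c`. -/

namespace Cfsg.Agent.Helper2.GInvAbs

open Cfsg.Agent.Helper2.PGeo Module Polynomial

variable {F : Type*} [Field F] {V : Type*} [AddCommGroup V] [Module F V]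
  {B : V →ₗ[F] V →ₗ[F] F}

theorem selfadj (g : V →ₗ[F] V) (c : F) (hc : c ≠ 0)
    (hg2 : ∀ v, g (g v) = c • v) (hsim : ∀ u v, B (g u) (g v) = c * B u v) (u v : V) :
    B (g u) v = B u (g v) := by
  have h1 := hsim u (c⁻¹ • g v)
  rw [map_smul, hg2, smul_smul, inv_mul_cancel₀ hc, one_smul, map_smul, smul_eq_mul,
    ← mul_assoc, mul_inv_cancel₀ hc, one_mul] at h1
  exact h1

section Sq

variable (g : V →ₗ[F] V) (c d : F)

theorem d_ne_zero (hd : d * d = c) (hc : c ≠ 0) : d ≠ 0 := by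
  rintro rfl
  exact hc (by rw [← hd, mul_zero])

theorem gam_apply (v : V) : (d⁻¹ • g) v = d⁻¹ • g v := rfl

theorem g_eq_gam (hd : d * d = c) (hc : c ≠ 0) (v : V) : g v = d • (d⁻¹ • g) v := by
  rw [gam_apply, smul_smul, mul_inv_cancel₀ (d_ne_zero c d hd hc), one_smul]

theorem gam_gam (hd : d * d = c) (hc : c ≠ 0) (hg2 : ∀ v, g (g v) = c • v) (v : V) :
    (d⁻¹ • g) ((d⁻¹ • g) v) = v := by
  have hd0 := d_ne_zero c d hd hc
  rw [gam_apply, gam_apply, map_smul, hg2, smul_smul, smul_smul, ← hd]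
  have : d⁻¹ * d⁻¹ * (d * d) = 1 := by field_simp
  rw [this, one_smul]

theorem gam_iso (hd : d * d = c) (hc : c ≠ 0) (hsim : ∀ u v, B (g u) (g v) = c * B u v)
    (u v : V) : B ((d⁻¹ • g) u) ((d⁻¹ • g) v) = B u v := by
  have hd0 := d_ne_zero c d hd hc
  rw [gam_apply, gam_apply, map_smul, map_smul, LinearMap.smul_apply, smul_eq_mul, smul_eq_mul,
    hsim, ← hd]
  field_simp

/-- commuting with `g` and with `d⁻¹ g` are the same -/
theorem comm_gam_iff {W : Type*} [FunLike W V V] [AddMonoidHomClass W V V] (f : W)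
    (hf : ∀ (a : F) (v : V), f (a • v) = a • f v)
    (hd : d * d = c) (hc : c ≠ 0) :
    (∀ v, f ((d⁻¹ • g) v) = (d⁻¹ • g) (f v)) ↔ ∀ v, f (g v) = g (f v) := by
  have hd0 := d_ne_zero c d hd hc
  constructor
  · intro h v
    rw [g_eq_gam g c d hd hc v, hf, h, ← g_eq_gam g c d hd hc]
  · intro h v
    rw [gam_apply, gam_apply, hf, h]

end Sq

section SqCase

variable [Finite F] [FiniteDimensional F V]

theorem sq_H1 (h : IsEpsForm B 1) (g : V →ₗ[F] V) (c : F) (hc : c ≠ 0)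
    (hg2 : ∀ v, g (g v) = c • v) (hsim : ∀ u v, B (g u) (g v) = c * B u v)
    (m : ℕ) (hdim : finrank F V = 2 * (m + 1))
    (d : F) (hd : d * d = c)
    (hα : Odd (finrank F (LinearMap.ker (d⁻¹ • g + LinearMap.id))))
    (M : Subgroup (V ≃ₗ[F] V)) (hM : M ≤ sim B)
    (hcomm : ∀ f ∈ M, ∀ v, f (g v) = g (f v))
    (hnorm : ∀ k : V ≃ₗ[F] V, (∀ u v, B (k u) (k v) = B u v) → (∀ v, k (g v) = g (k v)) →
      ∀ f ∈ M, k * f * k⁻¹ ∈ M)
    (hoddM : ∀ f ∈ M, ∃ k : ℕ, Odd k ∧ ∃ s : F, ∀ v, (f ^ k) v = s • v) :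
    ∀ f ∈ M, ∃ s : F, (∀ v, f v = s • v) ∨ (∀ v, f v = s • g v) := by
  have key := Cfsg.Agent.Helper2.GInvAB.alpha_H1 h (d⁻¹ • g) (gam_gam g c d hd hc hg2)
    (gam_iso g c d hd hc hsim) hα (by rw [hdim]; exact even_two_mul _) M hM ?_ ?_ hoddM
  · intro f hf
    obtain ⟨s, hs | hs⟩ := key f hf
    · exact ⟨s, Or.inl hs⟩
    · refine ⟨s * d⁻¹, Or.inr fun v => ?_⟩
      rw [hs v, gam_apply, smul_smul]
  · intro f hf
    exact (comm_gam_iff g c d f (fun a v => map_smul f a v) hd hc).2 (hcomm f hf)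
  · intro k hk hkg f hf
    exact hnorm k hk ((comm_gam_iff g c d k (fun a v => map_smul k a v) hd hc).1 hkg) f hf

theorem sq_H2 (h : IsEpsForm B 1) (g : V →ₗ[F] V) (c : F) (hc : c ≠ 0)
    (hg2 : ∀ v, g (g v) = c • v) (hsim : ∀ u v, B (g u) (g v) = c * B u v)
    (m : ℕ) (hm : 3 ≤ m) (hdim : finrank F V = 2 * (m + 1))
    (d : F) (hd : d * d = c)
    (hα : Odd (finrank F (LinearMap.ker (d⁻¹ • g + LinearMap.id))))
    (τ : F →+* F) (T : V →+ V) (hT : ∀ (a : F) (v : V), T (a • v) = τ a • T v)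
    (hTinj : Function.Injective T) (z : F) (hTg : ∀ v, T (g v) = z • g (T v))
    (hTsim : ∃ μ : F, ∀ u v, B (T u) (T v) = μ * τ (B u v))
    (hcomm : ∀ N : V →ₗ[F] V, (∀ v, N (g v) = g (N v)) →
      (∀ u v, B (u + N u) (v + N v) = B u v) → (∀ v, N (N (N v)) = 0) →
      ∀ v, T (N v) = N (T v)) :
    (∀ a, τ (τ a) = a) ∧ ∃ s : F, (∀ v, T (T v) = s • v) ∨ (∀ v, T (T v) = s • g v) := by
  have hd0 := d_ne_zero c d hd hc
  have hτd : τ d ≠ 0 := fun h0 => hd0 ((map_eq_zero τ).1 h0)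
  -- a nonzero vector
  have hV : ∃ v : V, v ≠ 0 := by
    have h1 : 0 < finrank F V := by rw [hdim]; omega
    exact (Module.finrank_pos_iff_exists_ne_zero (R := F) (M := V)).1 h1
  obtain ⟨v0, hv0⟩ := hV
  have hTv0 : T v0 ≠ 0 := fun h0 => hv0 (hTinj (by rw [h0, map_zero]))
  set w : F := (τ d)⁻¹ * z * d with hw
  have hTγ : ∀ v, T ((d⁻¹ • g) v) = w • (d⁻¹ • g) (T v) := by
    intro v
    rw [gam_apply, gam_apply, hT, hTg, smul_smul, smul_smul, map_inv₀, hw]
    congr 1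
    field_simp
  have hww : w * w = 1 := by
    have h1 : T ((d⁻¹ • g) ((d⁻¹ • g) v0)) = (w * w) • T v0 := by
      rw [hTγ, hTγ, map_smul, smul_smul, gam_gam g c d hd hc hg2]
    rw [gam_gam g c d hd hc hg2] at h1
    have h2 : (w * w - 1) • T v0 = 0 := by rw [sub_smul, one_smul, ← h1, sub_self]
    rcases smul_eq_zero.1 h2 with h3 | h3
    · exact sub_eq_zero.1 h3
    · exact absurd h3 hTv0
  have hτw : τ w = w := by
    have h1 : (w - 1) * (w + 1) = 0 := by linear_combination hww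
    rcases mul_eq_zero.1 h1 with h2 | h2
    · have : w = 1 := sub_eq_zero.1 h2
      rw [this, map_one]
    · have : w = -1 := eq_neg_of_add_eq_zero_left h2
      rw [this, map_neg, map_one]
  -- the square of `T`
  set T' : V →+ V := T.comp T with hT'
  have hT'app : ∀ v, T' v = T (T v) := fun v => rfl
  have hT'lin : ∀ (a : F) (v : V), T' (a • v) = (τ.comp τ) a • T' v := by
    intro a v
    rw [hT'app, hT'app, hT, hT]; rfl
  have hT'inj : Function.Injective T' := hTinj.comp hTinj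
  have hT'γ : ∀ v, T' ((d⁻¹ • g) v) = (d⁻¹ • g) (T' v) := by
    intro v
    rw [hT'app, hT'app, hTγ, hT, hTγ, smul_smul, hτw, hww, one_smul]
  obtain ⟨μ, hμ⟩ := hTsim
  have key := Cfsg.Agent.Helper2.GInvAB.alpha_H2 h (d⁻¹ • g) (gam_gam g c d hd hc hg2)
    (gam_iso g c d hd hc hsim) hα (by rw [hdim]; exact even_two_mul _) (by rw [hdim]; omega)
    (τ.comp τ) T' hT'lin hT'inj hT'γ ?_ ?_
  · obtain ⟨hττ, s, hs | hs⟩ := key
    · exact ⟨hττ, s, Or.inl hs⟩
    · refine ⟨hττ, s * d⁻¹, Or.inr fun v => ?_⟩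
      rw [← hT'app, hs v, gam_apply, smul_smul]
  · intro hττ
    refine ⟨μ * τ μ, fun u v => ?_⟩
    rw [hT'app, hT'app, hμ, hμ, map_mul]
    have := hττ (B u v)
    rw [RingHom.comp_apply] at this
    rw [this, mul_assoc]
  · intro N hN hNiso hN3 v
    have hNg := (comm_gam_iff g c d N (fun a v => map_smul N a v) hd hc).1 hN
    rw [hT'app, hT'app, hcomm N hNg hNiso hN3, hcomm N hNg hNiso hN3]

end SqCase

section Generic

variable {E : Type*} [Field E] [Algebra F E] [Module E V] [IsScalarTower F E V]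
  [Finite F] [FiniteDimensional F V]

theorem finrank_E_V (m : ℕ) (hdim : finrank F V = 2 * (m + 1)) (hrank : finrank F E = 2) :
    finrank E V = m + 1 := by
  have h1 := Module.finrank_mul_finrank F E V
  rw [hrank, hdim] at h1
  omega

theorem gen_H1 (h : IsEpsForm B 1) (g : V →ₗ[F] V) (c : F) (hc : c ≠ 0)
    (hg2 : ∀ v, g (g v) = c • v) (hsim : ∀ u v, B (g u) (g v) = c * B u v)
    (m : ℕ) (hdim : finrank F V = 2 * (m + 1)) (hnsq : ¬ IsSquare c) (hβ : Odd (m + 1))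
    (θ : E) (hθ : θ * θ = algebraMap F E c)
    (hE : ∀ e : E, ∃ a b : F, e = algebraMap F E a + b • θ)
    (hrank : finrank F E = 2) (hθg : ∀ v : V, θ • v = g v)
    (M : Subgroup (V ≃ₗ[F] V)) (hM : M ≤ sim B)
    (hcomm : ∀ f ∈ M, ∀ v, f (g v) = g (f v))
    (hnorm : ∀ k : V ≃ₗ[F] V, (∀ u v, B (k u) (k v) = B u v) → (∀ v, k (g v) = g (k v)) →
      ∀ f ∈ M, k * f * k⁻¹ ∈ M)
    (hoddM : ∀ f ∈ M, ∃ k : ℕ, Odd k ∧ ∃ s : F, ∀ v, (f ^ k) v = s • v) :
    ∀ f ∈ M, ∃ s : F, (∀ v, f v = s • v) ∨ (∀ v, f v = s • g v) := by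
  have hadj : ∀ u v, B (θ • u) v = B u (θ • v) := by
    intro u v
    rw [hθg, hθg]
    exact selfadj g c hc hg2 hsim u v
  have hodd : Odd (finrank E V) := by
    rw [finrank_E_V (F := F) m hdim hrank]; exact hβ
  have key := Cfsg.Agent.Helper2.GInvAB.beta_H1 h θ c hθ hnsq hE hadj hodd M hM ?_ ?_ hoddM
  · intro f hf
    obtain ⟨s, hs | hs⟩ := key f hf
    · exact ⟨s, Or.inl hs⟩
    · refine ⟨s, Or.inr fun v => ?_⟩
      rw [hs v, hθg]
  · intro f hf v
    rw [hθg, hθg]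
    exact hcomm f hf v
  · intro k hk hkθ f hf
    refine hnorm k hk (fun v => ?_) f hf
    rw [← hθg, ← hθg]
    exact hkθ v

theorem tau_c (g : V →ₗ[F] V) (c : F) (hg2 : ∀ v, g (g v) = c • v)
    (τ : F →+* F) (T : V →+ V) (hT : ∀ (a : F) (v : V), T (a • v) = τ a • T v)
    (z : F) (hTg : ∀ v, T (g v) = z • g (T v)) (v0 : V) (hv0 : T v0 ≠ 0) :
    τ c = z * z * c := by
  have h1 : T (g (g v0)) = τ c • T v0 := by rw [hg2, hT]
  have h2 : T (g (g v0)) = (z * z * c) • T v0 := by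
    rw [hTg, hTg, map_smul, hg2, smul_smul, smul_smul]
  have h3 : (τ c - z * z * c) • T v0 = 0 := by rw [sub_smul, ← h1, ← h2, sub_self]
  rcases smul_eq_zero.1 h3 with h4 | h4
  · exact sub_eq_zero.1 h4
  · exact absurd h4 hv0

theorem gen_H2 (h : IsEpsForm B 1) (g : V →ₗ[F] V) (c : F) (hc : c ≠ 0)
    (hg2 : ∀ v, g (g v) = c • v) (hsim : ∀ u v, B (g u) (g v) = c * B u v)
    (m : ℕ) (hm : 3 ≤ m) (hdim : finrank F V = 2 * (m + 1)) (hnsq : ¬ IsSquare c)
    (θ : E) (hθ : θ * θ = algebraMap F E c)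
    (hE : ∀ e : E, ∃ a b : F, e = algebraMap F E a + b • θ)
    (hrank : finrank F E = 2) (hθg : ∀ v : V, θ • v = g v)
    (τ : F →+* F) (T : V →+ V) (hT : ∀ (a : F) (v : V), T (a • v) = τ a • T v)
    (hTinj : Function.Injective T) (z : F) (hTg : ∀ v, T (g v) = z • g (T v))
    (τ' : E →+* E)
    (hτ' : ∀ a b : F, τ' (algebraMap F E a + b • θ) = algebraMap F E (τ a) + (τ b * z) • θ)
    (hTsim : ∃ μ : F, ∀ u v, B (T u) (T v) = μ * τ (B u v))
    (hcomm : ∀ N : V →ₗ[F] V, (∀ v, N (g v) = g (N v)) →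
      (∀ u v, B (u + N u) (v + N v) = B u v) → (∀ v, N (N (N v)) = 0) →
      ∀ v, T (N v) = N (T v)) :
    (∀ a, τ (τ a) = a) ∧ ∃ s : F, (∀ v, T (T v) = s • v) ∨ (∀ v, T (T v) = s • g v) := by
  have hadj : ∀ u v, B (θ • u) v = B u (θ • v) := by
    intro u v
    rw [hθg, hθg]
    exact selfadj g c hc hg2 hsim u v
  have hdimE : 3 ≤ finrank E V := by
    rw [finrank_E_V (F := F) m hdim hrank]; omega
  have hinj := (algebraMap F E).injective
  have hτid : (∀ e, τ' e = e) → ∀ a, τ a = a := by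
    intro hτ a
    have h1 := hτ' a 0
    rw [hτ, map_zero, zero_mul, zero_smul, add_zero, add_zero] at h1
    exact (hinj h1).symm
  have hT' : ∀ (e : E) (v : V), T (e • v) = τ' e • T v := by
    intro e v
    obtain ⟨a, b, rfl⟩ := hE e
    rw [hτ', Cfsg.Agent.Helper2.GInvAB.QData.smul_eq, Cfsg.Agent.Helper2.GInvAB.QData.smul_eq,
      map_add, hT, hT, hθg, hθg, hTg, smul_smul]
  obtain ⟨μ, hμ⟩ := hTsim
  have key := Cfsg.Agent.Helper2.GInvAB.beta_H2 h θ c hθ hnsq hE hadj hdimE τ' T hT' hTinj ?_ ?_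
  · obtain ⟨hτ, s, hs | hs⟩ := key
    · have hτ1 := hτid hτ
      refine ⟨fun a => by rw [hτ1, hτ1], s * s, Or.inl fun v => ?_⟩
      rw [hs v, hT, hτ1, hs v, smul_smul]
    · have hτ1 := hτid hτ
      refine ⟨fun a => by rw [hτ1, hτ1], s * s * c, Or.inl fun v => ?_⟩
      rw [hs v, hT, hτ1, hθg, hs (g v), hθg, hg2, smul_smul, smul_smul]
  · intro hτ
    have hτ1 := hτid hτ
    exact ⟨μ, fun u v => by rw [hμ, hτ1]⟩
  · intro N hN hNiso hN3 v
    refine hcomm N (fun v => ?_) hNiso hN3 v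
    rw [← hθg, ← hθg]
    exact hN v

end Generic

section Adj

variable (c : F)

/-- the quadratic polynomial -/
noncomputable def qpoly : F[X] := X ^ 2 - C c

theorem qpoly_monic : (qpoly c).Monic := monic_X_pow_sub_C c (by norm_num)

theorem qpoly_natDegree : (qpoly c).natDegree = 2 := natDegree_X_pow_sub_C

theorem qpoly_irreducible (hnsq : ¬ IsSquare c) : Irreducible (qpoly c) := by
  apply irreducible_of_degree_le_three_of_not_isRoot
  · rw [qpoly_natDegree]; decide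
  · intro x hx
    apply hnsq
    refine ⟨x, ?_⟩
    have h1 : x ^ 2 - c = 0 := by simpa [qpoly, IsRoot] using hx
    linear_combination -h1

theorem eval₂_qpoly {S : Type*} [CommRing S] (i : F →+* S) (x : S) :
    (qpoly c).eval₂ i x = x ^ 2 - i c := by
  unfold qpoly
  rw [eval₂_sub, eval₂_pow, eval₂_X, eval₂_C]

theorem aeval_qpoly (g : V →ₗ[F] V) (hg2 : ∀ v, g (g v) = c • v) :
    aeval g (qpoly c) = 0 := by
  unfold qpoly
  rw [map_sub, map_pow, aeval_X, aeval_C]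
  ext v
  simp only [LinearMap.sub_apply, pow_two, Module.End.mul_apply, hg2, Module.algebraMap_end_apply,
    sub_self, LinearMap.zero_apply]

/-- the action of the quadratic extension through `g` -/
noncomputable def phi (g : V →ₗ[F] V) (hg2 : ∀ v, g (g v) = c • v) :
    AdjoinRoot (qpoly c) →+* Module.End F V :=
  Ideal.Quotient.lift (Ideal.span {qpoly c})
    ((aeval g : F[X] →ₐ[F] Module.End F V) : F[X] →+* Module.End F V) (by
    intro a ha
    obtain ⟨b, rfl⟩ := Ideal.mem_span_singleton.1 ha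
    rw [RingHom.coe_coe, map_mul, aeval_qpoly c g hg2, zero_mul])

theorem phi_mk (g : V →ₗ[F] V) (hg2 : ∀ v, g (g v) = c • v) (p : F[X]) :
    phi c g hg2 (AdjoinRoot.mk (qpoly c) p) = aeval g p :=
  Ideal.Quotient.lift_mk _ _ _

theorem phi_root (g : V →ₗ[F] V) (hg2 : ∀ v, g (g v) = c • v) :
    phi c g hg2 (AdjoinRoot.root (qpoly c)) = g := by
  rw [AdjoinRoot.root, phi_mk, aeval_X]

theorem phi_of (g : V →ₗ[F] V) (hg2 : ∀ v, g (g v) = c • v) (a : F) :
    phi c g hg2 (AdjoinRoot.of (qpoly c) a) = algebraMap F (Module.End F V) a := by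
  rw [← AdjoinRoot.mk_C a, phi_mk, aeval_C]

/-- the module structure over the quadratic extension -/
@[reducible] noncomputable def modE (g : V →ₗ[F] V) (hg2 : ∀ v, g (g v) = c • v) :
    Module (AdjoinRoot (qpoly c)) V := Module.compHom V (phi c g hg2)

theorem modE_smul (g : V →ₗ[F] V) (hg2 : ∀ v, g (g v) = c • v) (e : AdjoinRoot (qpoly c))
    (v : V) : letI := modE c g hg2; e • v = phi c g hg2 e v := rfl

theorem tower (g : V →ₗ[F] V) (hg2 : ∀ v, g (g v) = c • v) :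
    letI := modE c g hg2; IsScalarTower F (AdjoinRoot (qpoly c)) V := by
  let _ := modE c g hg2
  refine IsScalarTower.of_algebraMap_smul fun a v => ?_
  rw [modE_smul, AdjoinRoot.algebraMap_eq, phi_of, Module.algebraMap_end_apply]

theorem root_smul (g : V →ₗ[F] V) (hg2 : ∀ v, g (g v) = c • v) (v : V) :
    letI := modE c g hg2; AdjoinRoot.root (qpoly c) • v = g v := by
  let _ := modE c g hg2
  rw [modE_smul, phi_root]

theorem root_sq :
    AdjoinRoot.root (qpoly c) * AdjoinRoot.root (qpoly c)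
      = algebraMap F (AdjoinRoot (qpoly c)) c := by
  have h1 := AdjoinRoot.eval₂_root (qpoly c)
  rw [eval₂_qpoly] at h1
  rw [AdjoinRoot.algebraMap_eq]
  linear_combination h1

theorem span_root (e : AdjoinRoot (qpoly c)) :
    ∃ a b : F, e = algebraMap F (AdjoinRoot (qpoly c)) a + b • AdjoinRoot.root (qpoly c) := by
  obtain ⟨p, rfl⟩ := AdjoinRoot.mk_surjective e
  have hm := qpoly_monic c
  have h1 : AdjoinRoot.mk (qpoly c) p = AdjoinRoot.mk (qpoly c) (p %ₘ qpoly c) := by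
    rw [AdjoinRoot.mk_eq_mk, modByMonic_eq_sub_mul_div, sub_sub_cancel]
    exact dvd_mul_right _ _
  have h2 : (p %ₘ qpoly c).natDegree ≤ 1 := by
    by_cases h0 : p %ₘ qpoly c = 0
    · rw [h0, natDegree_zero]; exact zero_le_one
    · have := natDegree_modByMonic_lt p hm (by
        intro h1
        have := qpoly_natDegree c
        rw [h1, natDegree_one] at this
        omega)
      rw [qpoly_natDegree] at this
      omega
  have h3 := eq_X_add_C_of_natDegree_le_one h2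
  refine ⟨(p %ₘ qpoly c).coeff 0, (p %ₘ qpoly c).coeff 1, ?_⟩
  rw [h1, h3, map_add, map_mul, AdjoinRoot.mk_C, AdjoinRoot.mk_C, AdjoinRoot.mk_X,
    AdjoinRoot.algebraMap_eq, Algebra.smul_def, AdjoinRoot.algebraMap_eq, add_comm]
  simp

theorem finrank_QE : finrank F (AdjoinRoot (qpoly c)) = 2 := by
  rw [(AdjoinRoot.powerBasis' (qpoly_monic c)).finrank, AdjoinRoot.powerBasis'_dim,
    qpoly_natDegree]

/-- the lifted field endomorphism -/
noncomputable def tauE (τ : F →+* F) (z : F) (hτc : τ c = z * z * c) :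
    AdjoinRoot (qpoly c) →+* AdjoinRoot (qpoly c) :=
  AdjoinRoot.lift ((algebraMap F (AdjoinRoot (qpoly c))).comp τ)
    (z • AdjoinRoot.root (qpoly c)) (by
    rw [eval₂_qpoly, RingHom.comp_apply, hτc, Algebra.smul_def, mul_pow,
      pow_two (AdjoinRoot.root _), root_sq, map_mul, map_mul]
    ring)

theorem tauE_apply (τ : F →+* F) (z : F) (hτc : τ c = z * z * c) (a b : F) :
    tauE c τ z hτc (algebraMap F (AdjoinRoot (qpoly c)) a + b • AdjoinRoot.root (qpoly c))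
      = algebraMap F (AdjoinRoot (qpoly c)) (τ a) + (τ b * z) • AdjoinRoot.root (qpoly c) := by
  rw [map_add, Algebra.smul_def, map_mul, AdjoinRoot.algebraMap_eq]
  unfold tauE
  rw [AdjoinRoot.lift_of, AdjoinRoot.lift_of, AdjoinRoot.lift_root, Algebra.smul_def,
    Algebra.smul_def, RingHom.comp_apply, RingHom.comp_apply, AdjoinRoot.algebraMap_eq, map_mul]
  ring

end Adj

section Final

variable [Finite F] [FiniteDimensional F V]

/-- abstract H1: a group `M` of similitudes, of odd order modulo scalars, commuting with `g` and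
normalised by the isometries commuting with `g`, lies in `F* ∪ F* g`. -/
theorem abs_H1 (h : IsEpsForm B 1) (g : V →ₗ[F] V) (c : F) (hc : c ≠ 0)
    (hg2 : ∀ v, g (g v) = c • v) (hsim : ∀ u v, B (g u) (g v) = c * B u v)
    (m : ℕ) (hm : 3 ≤ m) (hdim : finrank F V = 2 * (m + 1))
    (hα : ∀ d : F, d * d = c → Odd (finrank F (LinearMap.ker (d⁻¹ • g + LinearMap.id))))
    (hβ : ¬ IsSquare c → Odd (m + 1))
    (M : Subgroup (V ≃ₗ[F] V)) (hM : M ≤ sim B)
    (hcomm : ∀ f ∈ M, ∀ v, f (g v) = g (f v))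
    (hnorm : ∀ k : V ≃ₗ[F] V, (∀ u v, B (k u) (k v) = B u v) → (∀ v, k (g v) = g (k v)) →
      ∀ f ∈ M, k * f * k⁻¹ ∈ M)
    (hoddM : ∀ f ∈ M, ∃ k : ℕ, Odd k ∧ ∃ s : F, ∀ v, (f ^ k) v = s • v) :
    ∀ f ∈ M, ∃ s : F, (∀ v, f v = s • v) ∨ (∀ v, f v = s • g v) := by
  by_cases hsq : IsSquare c
  · obtain ⟨d, hd⟩ := hsq
    exact sq_H1 h g c hc hg2 hsim m hdim d hd.symm (hα d hd.symm) M hM hcomm hnorm hoddM
  · haveI : Fact (Irreducible (qpoly c)) := ⟨qpoly_irreducible c hsq⟩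
    letI : Module (AdjoinRoot (qpoly c)) V := modE c g hg2
    haveI : IsScalarTower F (AdjoinRoot (qpoly c)) V := tower c g hg2
    exact gen_H1 (E := AdjoinRoot (qpoly c)) h g c hc hg2 hsim m hdim hsq (hβ hsq)
      (AdjoinRoot.root (qpoly c)) (root_sq c) (span_root c) (finrank_QE c)
      (root_smul c g hg2) M hM hcomm hnorm hoddM

/-- abstract H2: a `τ`-semilinear injective semi-similitude `T` with `T g = z g T` which commutes
with the unipotent isometries commuting with `g`: then `τ² = 1` and `T²` lies in `F* ∪ F* g`. -/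
theorem abs_H2 (h : IsEpsForm B 1) (g : V →ₗ[F] V) (c : F) (hc : c ≠ 0)
    (hg2 : ∀ v, g (g v) = c • v) (hsim : ∀ u v, B (g u) (g v) = c * B u v)
    (m : ℕ) (hm : 3 ≤ m) (hdim : finrank F V = 2 * (m + 1))
    (hα : ∀ d : F, d * d = c → Odd (finrank F (LinearMap.ker (d⁻¹ • g + LinearMap.id))))
    (hβ : ¬ IsSquare c → Odd (m + 1))
    (τ : F →+* F) (T : V →+ V) (hT : ∀ (a : F) (v : V), T (a • v) = τ a • T v)
    (hTinj : Function.Injective T) (z : F) (hTg : ∀ v, T (g v) = z • g (T v))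
    (hTsim : ∃ μ : F, ∀ u v, B (T u) (T v) = μ * τ (B u v))
    (hcomm : ∀ N : V →ₗ[F] V, (∀ v, N (g v) = g (N v)) →
      (∀ u v, B (u + N u) (v + N v) = B u v) → (∀ v, N (N (N v)) = 0) →
      ∀ v, T (N v) = N (T v)) :
    (∀ a, τ (τ a) = a) ∧ ∃ s : F, (∀ v, T (T v) = s • v) ∨ (∀ v, T (T v) = s • g v) := by
  by_cases hsq : IsSquare c
  · obtain ⟨d, hd⟩ := hsq
    exact sq_H2 h g c hc hg2 hsim m hm hdim d hd.symm (hα d hd.symm) τ T hT hTinj z hTg hTsim
      hcomm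
  · have hV : ∃ v : V, v ≠ 0 := by
      have h1 : 0 < finrank F V := by rw [hdim]; omega
      exact (Module.finrank_pos_iff_exists_ne_zero (R := F) (M := V)).1 h1
    obtain ⟨v0, hv0⟩ := hV
    have hTv0 : T v0 ≠ 0 := fun h0 => hv0 (hTinj (by rw [h0, map_zero]))
    have hτc := tau_c g c hg2 τ T hT z hTg v0 hTv0
    haveI : Fact (Irreducible (qpoly c)) := ⟨qpoly_irreducible c hsq⟩
    letI : Module (AdjoinRoot (qpoly c)) V := modE c g hg2
    haveI : IsScalarTower F (AdjoinRoot (qpoly c)) V := tower c g hg2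
    exact gen_H2 (E := AdjoinRoot (qpoly c)) h g c hc hg2 hsim m hm hdim hsq
      (AdjoinRoot.root (qpoly c)) (root_sq c) (span_root c) (finrank_QE c)
      (root_smul c g hg2) τ T hT hTinj z hTg (tauE c τ z hτc) (tauE_apply c τ z hτc) hTsim hcomm

end Final

end Cfsg.Agent.Helper2.GInvAbs
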