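import Mathlib
import Cfsg.Agent.Lib.Helper6.WeilDefs
import Cfsg.Agent.Lib.Helper23.LSABS

/-!
# S2347 piece LOWER (helper2): the Landazuri-Seitz lower bound for `Sp_{2n}(q)`, `q` odd
-/

set_option autoImplicit false

namespace Cfsg.Agent.Helper6.Weil

open Matrix

variable {n : ℕ} {F : Type*} [Field F] [Fintype F]

theorem lower_symmChar_zero (ψ : AddChar F ℂ) :
    symmChar ψ (0 : Matrix (Fin n) (Fin n) F) = 1 := by
  apply DFunLike.ext
  intro S
  rw [symmChar_apply, Matrix.zero_mul, Matrix.trace_zero, AddChar.map_zero_eq_one]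
  rfl

theorem lower_symmChar_conj (ψ : AddChar F ℂ) (T : Matrix (Fin n) (Fin n) F) (h : GL (Fin n) F)
    (S : symmAdd n F) :
    symmChar ψ ((h : Matrix (Fin n) (Fin n) F) * T * (h : Matrix (Fin n) (Fin n) F)ᵀ) (cjS h S) =
      symmChar ψ T S := by
  rw [symmChar_apply, symmChar_apply, cjS_coe]
  congr 1
  have h1 : (h : Matrix (Fin n) (Fin n) F)ᵀ * ((h⁻¹ : GL (Fin n) F) : Matrix (Fin n) (Fin n) F)ᵀ
      = 1 := by
    rw [← Matrix.transpose_mul, ← Units.val_mul, inv_mul_cancel, Units.val_one,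
      Matrix.transpose_one]
  have h2 : ((h⁻¹ : GL (Fin n) F) : Matrix (Fin n) (Fin n) F) * (h : Matrix (Fin n) (Fin n) F)
      = 1 := by
    rw [← Units.val_mul, inv_mul_cancel, Units.val_one]
  calc Matrix.trace ((h : Matrix (Fin n) (Fin n) F) * T * (h : Matrix (Fin n) (Fin n) F)ᵀ *
        (((h⁻¹ : GL (Fin n) F) : Matrix (Fin n) (Fin n) F)ᵀ * (S : Matrix (Fin n) (Fin n) F) *
          ((h⁻¹ : GL (Fin n) F) : Matrix (Fin n) (Fin n) F)))
      = Matrix.trace ((h : Matrix (Fin n) (Fin n) F) * (T *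
          ((h : Matrix (Fin n) (Fin n) F)ᵀ * ((h⁻¹ : GL (Fin n) F) : Matrix (Fin n) (Fin n) F)ᵀ) *
          (S : Matrix (Fin n) (Fin n) F) *
          ((h⁻¹ : GL (Fin n) F) : Matrix (Fin n) (Fin n) F))) := by
        simp only [Matrix.mul_assoc]
    _ = Matrix.trace (T * (S : Matrix (Fin n) (Fin n) F) *
          ((h⁻¹ : GL (Fin n) F) : Matrix (Fin n) (Fin n) F) * (h : Matrix (Fin n) (Fin n) F)) := by
        rw [h1, Matrix.mul_one, Matrix.trace_mul_comm]
    _ = Matrix.trace (T * (S : Matrix (Fin n) (Fin n) F)) := by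
        rw [Matrix.mul_assoc (T * (S : Matrix (Fin n) (Fin n) F)), h2, Matrix.mul_one]

/-- PIECE LOWER: the lower bound for the degree of a representation which is nontrivial on some `xL S` -/
theorem lower_bound (hn : 2 ≤ n) (hodd : Odd (Fintype.card F))
    (horbit : ∀ T : Matrix (Fin n) (Fin n) F, Tᵀ = T → T ≠ 0 →
      (Fintype.card F ^ n - 1) / 2 ≤
        {T' : Matrix (Fin n) (Fin n) F | ∃ h : GL (Fin n) F,
          T' = (h : Matrix (Fin n) (Fin n) F) * T * (h : Matrix (Fin n) (Fin n) F)ᵀ}.ncard)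
    (hchar : ∀ (ψ : AddChar F ℂ), ψ ≠ 1 → ∀ lam : AddChar (symmAdd n F) ℂ,
      ∃ T : symmAdd n F, lam = symmChar ψ (T : Matrix (Fin n) (Fin n) F))
    (hinj : ∀ (ψ : AddChar F ℂ), ψ ≠ 1 → ∀ T T' : Matrix (Fin n) (Fin n) F, Tᵀ = T → T'ᵀ = T' →
      symmChar ψ T = symmChar ψ T' → T = T')
    (hxl0 : xL (0 : symmAdd n F) = 1)
    (hxladd : ∀ S T : symmAdd n F, xL (S + T) = xL S * xL T)
    (hconj : ∀ (h : GL (Fin n) F) (S : symmAdd n F), dG h * xL S = xL (cjS h S) * dG h)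
    (hcjsurj : ∀ h : GL (Fin n) F, Function.Surjective (cjS (n := n) (F := F) h))
    {U : Type*} [AddCommGroup U] [Module ℂ U] [FiniteDimensional ℂ U]
    (ρ : Representation ℂ (Matrix.symplecticGroup (Fin n) F) U)
    (hne : ∃ S : symmAdd n F, ρ (xL S) ≠ 1) :
    (Fintype.card F ^ n - 1) / 2 ≤ Module.finrank ℂ U := by
  classical
  haveI : Fintype (symmAdd n F) := Fintype.ofFinite _
  obtain ⟨S₁, hS₁⟩ := hne
  let T : symmAdd n F → U →ₗ[ℂ] U := fun S => ρ (xL S)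
  have hT0 : T 0 = 1 := by
    show ρ (xL 0) = 1
    rw [hxl0, map_one]
  have hTadd : ∀ a b, T (a + b) = T a * T b := by
    intro a b
    show ρ (xL (a + b)) = ρ (xL a) * ρ (xL b)
    rw [hxladd, map_mul]
  obtain ⟨ψ₀, hψ₀1⟩ := (AddChar.exists_apply_ne_zero (α := F) (a := 1)).2 one_ne_zero
  have hψ₀ : ψ₀ ≠ 1 := by
    rintro rfl
    exact hψ₀1 rfl
  refine Cfsg.Agent.Helper18.LS.abs_bound T hT0 hTadd S₁ hS₁ _
    {σ | ∃ h : GL (Fin n) F, σ = cjS h} ?_ ?_
  · rintro σ ⟨h, rfl⟩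
    refine ⟨hcjsurj h, ρ (dG h), ?_, ?_⟩
    · intro v w hvw
      have h1 : ∀ u : U, ρ (dG h)⁻¹ (ρ (dG h) u) = u := by
        intro u
        rw [← Module.End.mul_apply, ← map_mul, inv_mul_cancel, map_one, Module.End.one_apply]
      rw [← h1 v, ← h1 w, hvw]
    · intro a v
      show ρ (dG h) (ρ (xL a) v) = ρ (xL (cjS h a)) (ρ (dG h) v)
      rw [← Module.End.mul_apply, ← Module.End.mul_apply, ← map_mul, ← map_mul, hconj]
  · intro lam hlam
    obtain ⟨T₀, rfl⟩ := hchar ψ₀ hψ₀ lam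
    have hT₀ne : (T₀ : Matrix (Fin n) (Fin n) F) ≠ 0 := by
      intro h0
      apply hlam
      rw [h0]
      exact lower_symmChar_zero ψ₀
    have hT₀s : (T₀ : Matrix (Fin n) (Fin n) F)ᵀ = T₀ := T₀.2
    have hO := horbit T₀ hT₀s hT₀ne
    set O : Set (Matrix (Fin n) (Fin n) F) := {T' : Matrix (Fin n) (Fin n) F | ∃ h : GL (Fin n) F,
      T' = (h : Matrix (Fin n) (Fin n) F) * T₀ * (h : Matrix (Fin n) (Fin n) F)ᵀ} with hOdef
    have hOfin : O.Finite := Set.toFinite O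
    refine ⟨hOfin.toFinset.image (fun T' => symmChar ψ₀ T'), ?_, ?_⟩
    · rw [Finset.card_image_of_injOn, ← Set.ncard_eq_toFinset_card O hOfin]
      · exact hO
      · intro T₁ hT₁ T₂ hT₂ h12
        rw [Set.Finite.coe_toFinset] at hT₁ hT₂
        obtain ⟨h₁, rfl⟩ := hT₁
        obtain ⟨h₂, rfl⟩ := hT₂
        apply hinj ψ₀ hψ₀ _ _ _ _ h12
        · rw [Matrix.transpose_mul, Matrix.transpose_mul, Matrix.transpose_transpose, hT₀s,
            Matrix.mul_assoc]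
        · rw [Matrix.transpose_mul, Matrix.transpose_mul, Matrix.transpose_transpose, hT₀s,
            Matrix.mul_assoc]
    · intro ψ' hψ'
      rw [Finset.mem_image] at hψ'
      obtain ⟨T', hT', rfl⟩ := hψ'
      rw [Set.Finite.mem_toFinset] at hT'
      obtain ⟨h, rfl⟩ := hT'
      refine ⟨cjS h, ⟨h, rfl⟩, ?_⟩
      intro a
      exact (lower_symmChar_conj ψ₀ _ h a).symm

end Cfsg.Agent.Helper6.Weil
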