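import Mathlib
import Cfsg.Agent.Lib.Helper18.SLADefs

/-!
# S5060 (helper18's farm-out), piece GENERIC (helper2)

`exists_normal_pair`: over an infinite field `k`, for `ζ ≠ 0` there is `w ≠ 0` such that `w` and `ζ w`
are both normal with respect to the power basis `pb`.
-/

set_option autoImplicit false
set_option linter.unusedSectionVars false
set_option linter.unusedVariables false

namespace Cfsg.Agent.Helper18.SLA

open Matrix Polynomial

variable {k F : Type*} [Field k] [Field F] [Algebra k F]

/-! ### functions which are polynomial along lines -/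

/-- `f : F → k` is polynomial along every line -/
def generic_Lin (f : F → k) : Prop :=
  ∀ x y : F, ∃ q : k[X], ∀ e : k, f (x + e • y) = q.eval e

theorem generic_lin_mul {f g : F → k} (hf : generic_Lin f) (hg : generic_Lin g) :
    generic_Lin (fun w => f w * g w) := by
  intro x y
  obtain ⟨q, hq⟩ := hf x y
  obtain ⟨r, hr⟩ := hg x y
  refine ⟨q * r, fun e => ?_⟩
  rw [eval_mul, ← hq e, ← hr e]

theorem generic_lin_one : generic_Lin (fun _ : F => (1 : k)) :=
  fun _ _ => ⟨1, fun e => by rw [eval_one]⟩

theorem generic_lin_prod {ι : Type*} (s : Finset ι) (f : ι → F → k)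
    (hf : ∀ i ∈ s, generic_Lin (f i)) : generic_Lin (fun w => ∏ i ∈ s, f i w) := by
  classical
  induction s using Finset.induction_on with
  | empty =>
    simp only [Finset.prod_empty]
    exact generic_lin_one
  | insert a s ha ih =>
    have h1 := generic_lin_mul (hf a (Finset.mem_insert_self a s))
      (ih (fun i hi => hf i (Finset.mem_insert_of_mem hi)))
    intro x y
    obtain ⟨q, hq⟩ := h1 x y
    refine ⟨q, fun e => ?_⟩
    show ∏ i ∈ insert a s, f i (x + e • y) = eval e q
    rw [Finset.prod_insert ha]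
    exact hq e

/-- the determinant of a matrix depending `k`-linearly on `w` is polynomial along lines -/
theorem generic_lin_det {j : ℕ} (L : F → Matrix (Fin j) (Fin j) k)
    (hadd : ∀ x y, L (x + y) = L x + L y) (hsmul : ∀ (e : k) (x : F), L (e • x) = e • L x) :
    generic_Lin (fun w => (L w).det) := by
  intro x y
  set N : Matrix (Fin j) (Fin j) k[X] := (L x).map C + (X : k[X]) • (L y).map C with hN
  refine ⟨N.det, fun e => ?_⟩
  have h1 : (evalRingHom e).mapMatrix N = L (x + e • y) := by
    rw [hadd, hsmul]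
    ext a b
    simp only [hN, RingHom.mapMatrix_apply, Matrix.map_apply, Matrix.add_apply, Matrix.smul_apply,
      coe_evalRingHom, eval_add, eval_C, smul_eq_mul, eval_mul, eval_X]
  have h2 := RingHom.map_det (evalRingHom e) N
  rw [h1] at h2
  show (L (x + e • y)).det = eval e N.det
  rw [← h2]
  rfl

theorem generic_exists_common [Infinite k] {f g : F → k} (hf : generic_Lin f)
    (hg : generic_Lin g) {x₀ y₀ : F} (hfx : f x₀ ≠ 0) (hgy : g y₀ ≠ 0) :
    ∃ z : F, f z ≠ 0 ∧ g z ≠ 0 := by
  obtain ⟨q, hq⟩ := hf x₀ (y₀ - x₀)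
  obtain ⟨r, hr⟩ := hg x₀ (y₀ - x₀)
  have hq0 : q ≠ 0 := by
    intro h
    have := hq 0
    rw [zero_smul, add_zero, h, eval_zero] at this
    exact hfx this
  have hr0 : r ≠ 0 := by
    intro h
    have := hr 1
    rw [one_smul, add_sub_cancel, h, eval_zero] at this
    exact hgy this
  have hqr : q * r ≠ 0 := mul_ne_zero hq0 hr0
  by_contra hcon
  push Not at hcon
  apply hqr
  apply Polynomial.funext
  intro e
  rw [eval_zero, eval_mul, ← hq e, ← hr e]
  by_cases h : f (x₀ + e • (y₀ - x₀)) = 0
  · rw [h, zero_mul]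
  · rw [hcon _ h, mul_zero]

/-- finitely many functions, polynomial along lines and each nonzero somewhere, have a common point
of nonvanishing when `k` is infinite -/
theorem generic_exists_forall_ne_zero [Infinite k] {ι : Type*} (s : Finset ι) (f : ι → F → k)
    (hf : ∀ i ∈ s, generic_Lin (f i)) (hne : ∀ i ∈ s, ∃ x : F, f i x ≠ 0) :
    ∃ z : F, ∀ i ∈ s, f i z ≠ 0 := by
  classical
  induction s using Finset.induction_on with
  | empty => exact ⟨0, fun i hi => absurd hi (Finset.notMem_empty i)⟩
  | insert a s ha ih =>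
    obtain ⟨z, hz⟩ := ih (fun i hi => hf i (Finset.mem_insert_of_mem hi))
      (fun i hi => hne i (Finset.mem_insert_of_mem hi))
    obtain ⟨x, hx⟩ := hne a (Finset.mem_insert_self a s)
    have hg : generic_Lin (fun w => ∏ i ∈ s, f i w) :=
      generic_lin_prod s f (fun i hi => hf i (Finset.mem_insert_of_mem hi))
    have hgz : (fun w => ∏ i ∈ s, f i w) z ≠ 0 := Finset.prod_ne_zero_iff.mpr hz
    obtain ⟨z', h1, h2⟩ := generic_exists_common (hf a (Finset.mem_insert_self a s)) hg hx hgz
    refine ⟨z', fun i hi => ?_⟩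
    rcases Finset.mem_insert.mp hi with rfl | hi
    · exact h1
    · exact Finset.prod_ne_zero_iff.mp h2 i hi

/-! ### the Hankel-type matrices -/

theorem generic_cf_sum (pb : PowerBasis k F) {ι : Type*} (s : Finset ι) (g : ι → F) (i : ℕ) :
    cf pb (∑ l ∈ s, g l) i = ∑ l ∈ s, cf pb (g l) i := by
  classical
  induction s using Finset.induction_on with
  | empty => simp [cf_zero]
  | insert a s ha ih => rw [Finset.sum_insert ha, Finset.sum_insert ha, cf_add, ih]

/-- the matrix of the coordinates `n - j + a` of `w α^b` (`a, b < j`) -/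
noncomputable def generic_hank (pb : PowerBasis k F) (j : ℕ) (w : F) : Matrix (Fin j) (Fin j) k :=
  fun a b => cf pb (w * pb.gen ^ (b : ℕ)) (pb.dim - j + (a : ℕ))

theorem generic_hank_add (pb : PowerBasis k F) (j : ℕ) (x y : F) :
    generic_hank pb j (x + y) = generic_hank pb j x + generic_hank pb j y := by
  ext a b
  simp only [generic_hank, Matrix.add_apply]
  rw [add_mul, cf_add]

theorem generic_hank_smul (pb : PowerBasis k F) (j : ℕ) (e : k) (x : F) :
    generic_hank pb j (e • x) = e • generic_hank pb j x := by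
  ext a b
  simp only [generic_hank, Matrix.smul_apply, smul_eq_mul]
  rw [smul_mul_assoc, cf_smul]

theorem generic_hank_pow (pb : PowerBasis k F) {j : ℕ} (hj : j ≤ pb.dim) :
    generic_hank pb j (pb.gen ^ (pb.dim - j)) = 1 := by
  ext a b
  simp only [generic_hank]
  rw [← pow_add, cf_pow pb (by have := b.2; omega), Matrix.one_apply]
  by_cases hab : a = b
  · rw [if_pos hab, if_pos (by rw [hab])]
  · rw [if_neg hab, if_neg]
    intro h
    apply hab
    apply Fin.ext
    omega

/-- elements of `P pb j` are combinations of `1, α, …, α^(j-1)` -/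
theorem generic_eq_sum_of_mem_P (pb : PowerBasis k F) {j : ℕ} (hj : j ≤ pb.dim) {p : F}
    (hp : p ∈ P pb j) : p = ∑ b : Fin j, cf pb p (b : ℕ) • pb.gen ^ (b : ℕ) := by
  have h1 : p = ∑ l ∈ Finset.range j, cf pb p l • pb.gen ^ l := by
    conv_lhs => rw [sum_cf pb p]
    have hsub : Finset.range j ⊆ Finset.range pb.dim := Finset.range_subset_range.mpr hj
    symm
    apply Finset.sum_subset hsub
    intro l _ hl2
    rw [hp l (by simpa using hl2), zero_smul]
  rw [Finset.sum_range] at h1
  exact h1

theorem generic_of_det_ne_zero (pb : PowerBasis k F) {j : ℕ} (hj : j ≤ pb.dim) (w : F)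
    (h : (generic_hank pb j w).det ≠ 0) :
    ∀ p ∈ P pb j, w * p ∈ P pb (pb.dim - j) → p = 0 := by
  intro p hp hwp
  have hsum := generic_eq_sum_of_mem_P pb hj hp
  have hmv : generic_hank pb j w *ᵥ (fun b : Fin j => cf pb p (b : ℕ)) = 0 := by
    ext a
    rw [Matrix.mulVec, dotProduct, Pi.zero_apply]
    have h1 : w * p = ∑ b : Fin j, cf pb p (b : ℕ) • (w * pb.gen ^ (b : ℕ)) := by
      conv_lhs => rw [hsum]
      rw [Finset.mul_sum]
      apply Finset.sum_congr rfl
      intro b _
      rw [mul_smul_comm]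
    have h2 := hwp (pb.dim - j + (a : ℕ)) (by omega)
    rw [h1, generic_cf_sum] at h2
    rw [← h2]
    apply Finset.sum_congr rfl
    intro b _
    rw [cf_smul, mul_comm]
    rfl
  have hc := Matrix.eq_zero_of_mulVec_eq_zero h hmv
  rw [hsum]
  apply Finset.sum_eq_zero
  intro b _
  have := congrFun hc b
  simp only [Pi.zero_apply] at this
  rw [this, zero_smul]

/-! ### the piece -/

theorem exists_normal_pair [Infinite k] (pb : PowerBasis k F) (ζ : F) (hζ : ζ ≠ 0) :
    ∃ w : F, w ≠ 0 ∧ Normal pb w ∧ Normal pb (ζ * w) := by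
  classical
  by_cases hn : pb.dim ≤ 1
  · refine ⟨1, one_ne_zero, ?_, ?_⟩
    · intro j h1 h2
      omega
    · intro j h1 h2
      omega
  push Not at hn
  have hα : pb.gen ≠ 0 := by
    intro h0
    have h1 := pb.basis.ne_zero ⟨1, hn⟩
    rw [pb.basis_eq_pow] at h1
    apply h1
    show pb.gen ^ 1 = 0
    rw [pow_one, h0]
  set cs : Fin 4 → F := ![1, pb.gen, ζ, pb.gen * ζ] with hcs
  have hcs0 : ∀ t, cs t ≠ 0 := by
    intro t
    fin_cases t
    · exact one_ne_zero
    · exact hα
    · exact hζ
    · exact mul_ne_zero hα hζ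
  set s : Finset (ℕ × Fin 4) := (Finset.Ico 1 pb.dim) ×ˢ (Finset.univ : Finset (Fin 4)) with hs
  set f : ℕ × Fin 4 → F → k := fun i w => (generic_hank pb i.1 (cs i.2 * w)).det with hf
  have hlin : ∀ i ∈ s, generic_Lin (f i) := by
    intro i _
    apply generic_lin_det (fun w => generic_hank pb i.1 (cs i.2 * w))
    · intro x y
      show generic_hank pb i.1 (cs i.2 * (x + y)) = _
      rw [mul_add, generic_hank_add]
    · intro e x
      show generic_hank pb i.1 (cs i.2 * (e • x)) = _
      rw [mul_smul_comm, generic_hank_smul]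
  have hne : ∀ i ∈ s, ∃ x : F, f i x ≠ 0 := by
    intro i hi
    rw [hs, Finset.mem_product, Finset.mem_Ico] at hi
    refine ⟨(cs i.2)⁻¹ * pb.gen ^ (pb.dim - i.1), ?_⟩
    show (generic_hank pb i.1 (cs i.2 * ((cs i.2)⁻¹ * pb.gen ^ (pb.dim - i.1)))).det ≠ 0
    rw [← mul_assoc, mul_inv_cancel₀ (hcs0 i.2), one_mul, generic_hank_pow pb hi.1.2.le,
      Matrix.det_one]
    exact one_ne_zero
  obtain ⟨z, hz⟩ := generic_exists_forall_ne_zero s f hlin hne
  have key : ∀ j, 1 ≤ j → j < pb.dim → ∀ t : Fin 4,
      ∀ p ∈ P pb j, cs t * z * p ∈ P pb (pb.dim - j) → p = 0 := by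
    intro j h1 h2 t
    apply generic_of_det_ne_zero pb h2.le
    have hmem : (j, t) ∈ s := by
      rw [hs, Finset.mem_product, Finset.mem_Ico]
      exact ⟨⟨h1, h2⟩, Finset.mem_univ _⟩
    exact hz (j, t) hmem
  have hN1 : Normal pb z := by
    intro j h1 h2
    constructor
    · intro p hp hwp
      apply key j h1 h2 0 p hp
      have : cs 0 * z * p = z * p := by
        rw [hcs]
        simp
      rw [this]
      exact hwp
    · intro p hp hwp
      apply key j h1 h2 1 p hp
      have : cs 1 * z * p = pb.gen * z * p := by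
        rw [hcs]
        simp
      rw [this]
      exact hwp
  have hN2 : Normal pb (ζ * z) := by
    intro j h1 h2
    constructor
    · intro p hp hwp
      apply key j h1 h2 2 p hp
      have : cs 2 * z * p = ζ * z * p := by
        rw [hcs]
        simp
      rw [this]
      exact hwp
    · intro p hp hwp
      apply key j h1 h2 3 p hp
      have : cs 3 * z * p = pb.gen * (ζ * z) * p := by
        rw [hcs]
        simp [mul_assoc]
      rw [this]
      exact hwp
  refine ⟨z, ?_, hN1, hN2⟩
  intro hz0
  have h1 := (hN1 1 le_rfl hn).1 1 ?_ ?_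
  · exact one_ne_zero h1
  · have := pow_mem_P pb (l := 0) (j := 1) (by omega) (by omega)
    rwa [pow_zero] at this
  · rw [hz0, zero_mul]
    exact Submodule.zero_mem _

end Cfsg.Agent.Helper18.SLA
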