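import Mathlib
import Cfsg.Agent.Lib.Helper20.A3Defs
import Cfsg.Agent.Lib.Helper2.A3QuadLib

/-! S3117 piece F2 (for helper20): four zeros on `2^4`: the zero set is closed under products. -/

set_option autoImplicit false
set_option linter.unusedSectionVars false
set_option linter.unusedVariables false

namespace Cfsg.Agent.Helper20.A3

section Forms

variable {W : Type*} [Group W] [Finite W]

/-- **A3-F2.** Four zeros on `2^4`: the zero set is closed under multiplication. -/
theorem zer_mul_of_card_four (hW : ∀ w : W, w * w = 1) (Q : W → ZMod 2) (hQ : IsQuad Q)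
    (hcard : Nat.card W = 16) (h4 : Nat.card (zer Q) = 4) :
    ∀ x ∈ zer Q, ∀ y ∈ zer Q, x * y ∈ zer Q := by
  obtain ⟨e, he, hQA⟩ := quadlib_transport hW Q hQ 4 (by rw [hcard]; norm_num)
  obtain ⟨q0, q1, q2, q3, b01, b02, b03, b12, b13, b23, hP⟩ := quadlib_param4 hQA
  rw [quadlib_card_zer Q e] at h4
  have h1 : (Finset.univ.filter (fun v : Fin 4 → ZMod 2 => Q (e v) = 0)) =
      (Finset.univ.filter (fun v : Fin 4 → ZMod 2 =>
        quadlib_P4 q0 q1 q2 q3 b01 b02 b03 b12 b13 b23 v = 0)) := by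
    apply Finset.filter_congr
    intro v _
    rw [← hP v]
  rw [h1] at h4
  intro x hx y hy
  rw [mem_zer] at hx hy ⊢
  have hx' : quadlib_P4 q0 q1 q2 q3 b01 b02 b03 b12 b13 b23 (e.symm x) = 0 := by
    rw [← hP]
    show Q (e (e.symm x)) = 0
    rw [e.apply_symm_apply]
    exact hx
  have hy' : quadlib_P4 q0 q1 q2 q3 b01 b02 b03 b12 b13 b23 (e.symm y) = 0 := by
    rw [← hP]
    show Q (e (e.symm y)) = 0
    rw [e.apply_symm_apply]
    exact hy
  have h := quadlib_f2_dec q0 q1 q2 q3 b01 b02 b03 b12 b13 b23 h4 _ _ hx' hy'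
  rw [← hP] at h
  have h2 : Q (e (e.symm x + e.symm y)) = 0 := h
  rw [he, e.apply_symm_apply, e.apply_symm_apply] at h2
  exact h2

end Forms

end Cfsg.Agent.Helper20.A3
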