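import Mathlib
import Cfsg.Agent.Lib.Helper20.A3Defs
import Cfsg.Agent.Lib.Helper14.A3Q1

/-! S3117 shared fibre-counting lemmas (helper2, for helper20's pieces S16 and W8B). -/

set_option autoImplicit false
set_option linter.unusedSectionVars false
set_option linter.unusedVariables false
set_option linter.style.haveILetI false

namespace Cfsg.Agent.Helper20.A3

section Abs

variable {W U : Type*} [Group W] [Group U] [Finite W] [Finite U]

/-- A group of order `4` is `{1, a, b, c}`. -/
theorem fiblib_three (hU4 : Nat.card U = 4) :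
    ∃ a b c : U, a ≠ 1 ∧ b ≠ 1 ∧ c ≠ 1 ∧ a ≠ b ∧ a ≠ c ∧ b ≠ c ∧
      ∀ u : U, u = 1 ∨ u = a ∨ u = b ∨ u = c := by
  classical
  haveI : Fintype U := Fintype.ofFinite U
  have h4 : (Finset.univ : Finset U).card = 4 := by
    rw [Finset.card_univ, ← Nat.card_eq_fintype_card]
    exact hU4
  have h3 : ((Finset.univ : Finset U).erase 1).card = 3 := by
    rw [Finset.card_erase_of_mem (Finset.mem_univ _), h4]
  obtain ⟨a, b, c, hab, hac, hbc, hs⟩ := Finset.card_eq_three.mp h3
  have hmem : ∀ u : U, u ≠ 1 ↔ u = a ∨ u = b ∨ u = c := by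
    intro u
    have h : u ∈ (Finset.univ : Finset U).erase 1 ↔ u ∈ ({a, b, c} : Finset U) := by rw [hs]
    simp only [Finset.mem_erase, Finset.mem_univ, and_true, Finset.mem_insert,
      Finset.mem_singleton] at h
    exact h
  refine ⟨a, b, c, (hmem a).mpr (Or.inl rfl), (hmem b).mpr (Or.inr (Or.inl rfl)),
    (hmem c).mpr (Or.inr (Or.inr rfl)), hab, hac, hbc, ?_⟩
  intro u
  by_cases hu : u = 1
  · exact Or.inl hu
  · exact Or.inr ((hmem u).mp hu)

/-- The fibre over `1` of an anisotropic quadratic map is `{1}`. -/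
theorem fiblib_fibre_one (hU : ∀ u : U, u * u = 1) (q : W → U) (hq : IsQuadMap q)
    (hn0 : n0 q = 0) : Nat.card {w : W // q w = 1} = 1 := by
  have hempty : IsEmpty {w : W // w ≠ 1 ∧ q w = 1} := by
    unfold n0 at hn0
    rcases Nat.card_eq_zero.mp hn0 with h | h
    · exact h
    · exact absurd (inferInstance : Finite {w : W // w ≠ 1 ∧ q w = 1}) (not_finite_iff_infinite.mpr h)
  have h1 : q 1 = 1 := q_one hU q hq
  rw [Nat.card_eq_one_iff_unique]
  refine ⟨⟨?_⟩, ⟨⟨1, h1⟩⟩⟩
  intro x y
  have hx : x.1 = 1 := by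
    by_contra hne
    exact hempty.false ⟨x.1, hne, x.2⟩
  have hy : y.1 = 1 := by
    by_contra hne
    exact hempty.false ⟨y.1, hne, y.2⟩
  exact Subtype.ext (hx.trans hy.symm)

/-- The fibres partition `W`. -/
theorem fiblib_card_sum [Fintype U] (q : W → U) :
    Nat.card W = ∑ u : U, Nat.card {w : W // q w = u} := by
  rw [← Nat.card_sigma]
  exact Nat.card_congr (Equiv.sigmaFiberEquiv q).symm

/-- The fibre count for `#U = 4`, anisotropic. -/
theorem fiblib_count (hU : ∀ u : U, u * u = 1) (q : W → U) (hq : IsQuadMap q)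
    (hn0 : n0 q = 0) (a b c : U) (ha : a ≠ 1) (hb : b ≠ 1) (hc : c ≠ 1) (hab : a ≠ b)
    (hac : a ≠ c) (hbc : b ≠ c) (hall : ∀ u : U, u = 1 ∨ u = a ∨ u = b ∨ u = c) :
    Nat.card W = 1 + Nat.card {w : W // q w = a} + Nat.card {w : W // q w = b} +
      Nat.card {w : W // q w = c} := by
  classical
  haveI : Fintype U := Fintype.ofFinite U
  have huniv : (Finset.univ : Finset U) = {1, a, b, c} := by
    ext u
    simp only [Finset.mem_univ, Finset.mem_insert, Finset.mem_singleton, true_iff]
    exact hall u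
  rw [fiblib_card_sum q, huniv]
  rw [Finset.sum_insert, Finset.sum_insert, Finset.sum_insert, Finset.sum_singleton,
    fiblib_fibre_one hU q hq hn0]
  · ring
  · simpa using hbc
  · simp only [Finset.mem_insert, Finset.mem_singleton, not_or]
    exact ⟨hab, hac⟩
  · simp only [Finset.mem_insert, Finset.mem_singleton, not_or]
    exact ⟨ha.symm, hb.symm, hc.symm⟩

end Abs

end Cfsg.Agent.Helper20.A3
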