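import Mathlib
import Cfsg.Agent.Lib.Helper20.A3Defs
import Cfsg.Agent.Lib.Helper2.A3FibLib
import Cfsg.Agent.Lib.Helper9.A3LAM
import Cfsg.Agent.Lib.Helper14.A3QL
import Cfsg.Agent.Lib.Helper14.A3ZER
import Cfsg.Agent.Lib.Helper22.A3F1

/-! S3117 piece S16 (helper2, for helper20): order `16`, `#U = 4`, anisotropic: the fibre
sizes are `(3,3,9)`, `(3,5,7)` or `(5,5,5)`. -/

set_option autoImplicit false
set_option linter.unusedSectionVars false
set_option linter.unusedVariables false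

namespace Cfsg.Agent.Helper20.A3

section Abs

variable {W U : Type*} [Group W] [Group U] [Finite W] [Finite U]

/-- The possible sizes of a fibre over `u ≠ 1`. -/
theorem s16_fibre_cases (hW : ∀ w : W, w * w = 1) (hU : ∀ u : U, u * u = 1) (q : W → U)
    (hq : IsQuadMap q) (hcard : Nat.card W = 16) (hU4 : Nat.card U = 4) (hn0 : n0 q = 0)
    (u : U) (hu : u ≠ 1) :
    Nat.card {w : W // q w = u} = 3 ∨ Nat.card {w : W // q w = u} = 5 ∨
      Nat.card {w : W // q w = u} = 7 ∨ Nat.card {w : W // q w = u} = 9 ∨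
      Nat.card {w : W // q w = u} = 11 ∨ Nat.card {w : W // q w = u} = 15 := by
  obtain ⟨l, hl⟩ := exists_char hU hU4 u hu
  have hQ := isQuad_comp hU q hq l
  have hz := card_zer_comp hU q hq hn0 u hu l hl
  have hF := zer_card_sixteen hW _ hQ hcard
  omega

/-- **A3-S16.** Order `16`, `#U = 4`, anisotropic: the fibre sizes are `(3,3,9)`, `(3,5,7)`
or `(5,5,5)`. -/
theorem sixteen_cases (hW : ∀ w : W, w * w = 1) (hU : ∀ u : U, u * u = 1) (q : W → U)
    (hq : IsQuadMap q) (hcard : Nat.card W = 16) (hU4 : Nat.card U = 4) (hn0 : n0 q = 0) :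
    (∃ u : U, u ≠ 1 ∧ Nat.card {w : W // q w = u} = 3 ∧
        ∃ v : U, v ≠ 1 ∧ Nat.card {w : W // q w = v} ≠ 3) ∨
      (∀ u : U, u ≠ 1 → Nat.card {w : W // q w = u} = 5) := by
  obtain ⟨a, b, c, ha, hb, hc, hab, hac, hbc, hall⟩ := fiblib_three hU4
  have hsum := fiblib_count hU q hq hn0 a b c ha hb hc hab hac hbc hall
  rw [hcard] at hsum
  have hA := s16_fibre_cases hW hU q hq hcard hU4 hn0 a ha
  have hB := s16_fibre_cases hW hU q hq hcard hU4 hn0 b hb
  have hC := s16_fibre_cases hW hU q hq hcard hU4 hn0 c hc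
  by_cases h5 : Nat.card {w : W // q w = a} = 5 ∧ Nat.card {w : W // q w = b} = 5 ∧
      Nat.card {w : W // q w = c} = 5
  · right
    intro u hu
    rcases hall u with h | h | h | h
    · exact absurd h hu
    · rw [h]; exact h5.1
    · rw [h]; exact h5.2.1
    · rw [h]; exact h5.2.2
  · left
    by_cases h3a : Nat.card {w : W // q w = a} = 3
    · refine ⟨a, ha, h3a, ?_⟩
      by_cases h3b : Nat.card {w : W // q w = b} = 3
      · exact ⟨c, hc, by omega⟩
      · exact ⟨b, hb, h3b⟩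
    · by_cases h3b : Nat.card {w : W // q w = b} = 3
      · exact ⟨b, hb, h3b, a, ha, h3a⟩
      · have h3c : Nat.card {w : W // q w = c} = 3 := by omega
        exact ⟨c, hc, h3c, a, ha, h3a⟩

end Abs

end Cfsg.Agent.Helper20.A3
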