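import Mathlib
import Cfsg.Agent.Lib.Helper20.A3Defs
import Cfsg.Agent.Lib.Helper2.A3FibLib
import Cfsg.Agent.Lib.Helper2.A3P8
import Cfsg.Agent.Lib.Helper9.A3LAM
import Cfsg.Agent.Lib.Helper14.A3QL
import Cfsg.Agent.Lib.Helper14.A3ZER
import Cfsg.Agent.Lib.Helper18.A3CLOS

/-! S3117 piece W8B (helper2, for helper20): order `8`, `#U = 4`, anisotropic: there is an
invariant subgroup of order at most `4`. -/

set_option autoImplicit false
set_option linter.unusedSectionVars false
set_option linter.unusedVariables false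
set_option linter.style.haveILetI false

namespace Cfsg.Agent.Helper20.A3

section Abs

variable {W U : Type*} [Group W] [Group U] [Finite W] [Finite U]

/-- The fibres over `u ≠ 1` have odd size. -/
theorem w8b_fibre_odd (hW : ∀ w : W, w * w = 1) (hU : ∀ u : U, u * u = 1) (q : W → U)
    (hq : IsQuadMap q) (hcard : Nat.card W = 8) (hU4 : Nat.card U = 4) (hn0 : n0 q = 0)
    (u : U) (hu : u ≠ 1) : Nat.card {w : W // q w = u} % 2 = 1 := by
  obtain ⟨l, hl⟩ := exists_char hU hU4 u hu
  have hQ := isQuad_comp hU q hq l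
  have hz := card_zer_comp hU q hq hn0 u hu l hl
  have hE := zer_even_of_card_eight hW _ hQ hcard
  rw [hz] at hE
  obtain ⟨k, hk⟩ := hE
  omega

/-- An equivariant automorphism maps fibres bijectively onto fibres. -/
theorem w8b_fibre_equiv (q : W → U) (g : MulAut W) (h : MulAut U)
    (hgh : ∀ w, q (g w) = h (q w)) (t : W) :
    Nat.card {w : W // q w = q (g t)} = Nat.card {w : W // q w = q t} := by
  symm
  apply Nat.card_congr
  refine Equiv.subtypeEquiv g.toEquiv ?_
  intro w
  show q w = q t ↔ q (g w) = q (g t)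
  rw [hgh, hgh]
  exact (h.injective.eq_iff).symm

/-- **A3-W8B.** Order `8`, `#U = 4`, anisotropic. -/
theorem exists_inv_eight_four (hW : ∀ w : W, w * w = 1) (hU : ∀ u : U, u * u = 1) (q : W → U)
    (hq : IsQuadMap q) (R : Subgroup (MulAut W))
    (hR : ∀ g ∈ R, ∃ h : MulAut U, ∀ w, q (g w) = h (q w))
    (hcard : Nat.card W = 8) (hU4 : Nat.card U = 4) (hcount : n0 q = 0) :
    ∃ N : Subgroup W, N ≠ ⊥ ∧ Nat.card N ≤ 4 ∧ ∀ g ∈ R, ∀ n ∈ N, g n ∈ N := by
  classical
  haveI : Fintype U := Fintype.ofFinite U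
  obtain ⟨a, b, c, ha, hb, hc, hab, hac, hbc, hall⟩ := fiblib_three hU4
  have hsum := fiblib_count hU q hq hcount a b c ha hb hc hab hac hbc hall
  rw [hcard] at hsum
  have hA := w8b_fibre_odd hW hU q hq hcard hU4 hcount a ha
  have hB := w8b_fibre_odd hW hU q hq hcard hU4 hcount b hb
  have hC := w8b_fibre_odd hW hU q hq hcard hU4 hcount c hc
  have hq1 : q 1 = 1 := q_one hU q hq
  -- some fibre over a nontrivial element is a singleton, and some is not
  have hex1 : ∃ u : U, u ≠ 1 ∧ Nat.card {w : W // q w = u} = 1 := by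
    by_cases h1 : Nat.card {w : W // q w = a} = 1
    · exact ⟨a, ha, h1⟩
    · by_cases h2 : Nat.card {w : W // q w = b} = 1
      · exact ⟨b, hb, h2⟩
      · exact ⟨c, hc, by omega⟩
  have hexn : ∃ u : U, u ≠ 1 ∧ Nat.card {w : W // q w = u} ≠ 1 := by
    by_cases h1 : Nat.card {w : W // q w = a} = 1
    · by_cases h2 : Nat.card {w : W // q w = b} = 1
      · exact ⟨c, hc, by omega⟩
      · exact ⟨b, hb, h2⟩
    · exact ⟨a, ha, h1⟩
  obtain ⟨u1, hu1, hs1⟩ := hex1
  obtain ⟨u0, hu0, hs0⟩ := hexn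
  set T : Set W := {w | w ≠ 1 ∧ Nat.card {w' : W // q w' = q w} = 1} with hT
  have hT1 : ∀ t ∈ T, t ≠ 1 := fun t ht => ht.1
  have hTne : T.Nonempty := by
    have hne : Nonempty {w : W // q w = u1} := by
      by_contra hemp
      rw [not_nonempty_iff] at hemp
      rw [Nat.card_eq_zero.mpr (Or.inl hemp)] at hs1
      exact absurd hs1 (by norm_num)
    obtain ⟨⟨w, hw⟩⟩ := hne
    refine ⟨w, ?_, ?_⟩
    · intro h1
      rw [h1, hq1] at hw
      exact hu1 hw.symm
    · rw [hw]
      exact hs1
  have hTR : ∀ g ∈ R, ∀ t ∈ T, g t ∈ T := by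
    intro g hg t ht
    obtain ⟨h, hgh⟩ := hR g hg
    refine ⟨?_, ?_⟩
    · intro h1
      apply ht.1
      apply g.injective
      rw [h1, map_one]
    · rw [w8b_fibre_equiv q g h hgh t]
      exact ht.2
  have hTcard : Nat.card T ≤ 2 := by
    have h2 : (((Finset.univ : Finset U).erase 1).erase u0).card = 2 := by
      rw [Finset.card_erase_of_mem, Finset.card_erase_of_mem (Finset.mem_univ _),
        Finset.card_univ, ← Nat.card_eq_fintype_card, hU4]
      rw [Finset.mem_erase]
      exact ⟨hu0, Finset.mem_univ _⟩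
    have hmap : ∀ t : T, q t.1 ∈ ((Finset.univ : Finset U).erase 1).erase u0 := by
      intro t
      rw [Finset.mem_erase, Finset.mem_erase]
      refine ⟨?_, ?_, Finset.mem_univ _⟩
      · intro h
        apply hs0
        rw [← h]
        exact t.2.2
      · intro h
        have hc1 := t.2.2
        rw [h] at hc1
        rw [Nat.card_eq_one_iff_unique] at hc1
        obtain ⟨hsub, _⟩ := hc1
        have heq : (⟨t.1, h⟩ : {w' : W // q w' = 1}) = ⟨1, hq1⟩ := Subsingleton.elim _ _
        exact t.2.1 (Subtype.mk.inj heq)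
    let f : T → {u : U // u ∈ ((Finset.univ : Finset U).erase 1).erase u0} :=
      fun t => ⟨q t.1, hmap t⟩
    have hf : Function.Injective f := by
      intro t t' htt
      have hqq : q t.1 = q t'.1 := congrArg Subtype.val htt
      have hc1 := t.2.2
      rw [Nat.card_eq_one_iff_unique] at hc1
      obtain ⟨hsub, _⟩ := hc1
      have heq : (⟨t.1, rfl⟩ : {w' : W // q w' = q t.1}) = ⟨t'.1, hqq.symm⟩ :=
        Subsingleton.elim _ _
      have hv : t.1 = t'.1 := Subtype.mk.inj heq
      exact Subtype.ext hv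
    calc Nat.card T ≤ Nat.card {u : U // u ∈ ((Finset.univ : Finset U).erase 1).erase u0} :=
          Nat.card_le_card_of_injective f hf
      _ = 2 := by
          rw [Nat.card_eq_fintype_card, Fintype.card_coe, h2]
  exact exists_inv_of_small_set hW R (by rw [hcard]) T hT1 hTne hTcard hTR

end Abs

end Cfsg.Agent.Helper20.A3
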