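import Mathlib
import Cfsg.Agent.Lib.Helper2.SzAut1

set_option autoImplicit false
set_option linter.unusedSectionVars false
set_option linter.unusedSimpArgs false
set_option linter.unusedVariables false

namespace Cfsg.Agent.Helper2.Sz

open Matrix Cfsg.Agent.S0335
open scoped Pointwise

/-- an automorphism mapping a subgroup of a finite group into itself maps it onto itself -/
theorem mem_iff_of_maps {G : Type*} [Group G] [Finite G] (β : MulAut G) (H : Subgroup G)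
    (h : ∀ x ∈ H, β x ∈ H) (x : G) : β x ∈ H ↔ x ∈ H := by
  constructor
  · intro hx
    have hinj : Function.Injective (fun y : H => (⟨β y, h y y.2⟩ : H)) := by
      intro y z hyz
      apply Subtype.ext
      apply β.injective
      exact congrArg Subtype.val hyz
    obtain ⟨y, hy⟩ := (Finite.injective_iff_surjective.1 hinj) ⟨β x, hx⟩
    have h1 : β y = β x := congrArg Subtype.val hy
    have h2 : (y : G) = x := β.injective h1
    rw [← h2]
    exact y.2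
  · exact h x

variable {F : Type*} [Field F] [Fintype F] {m : ℕ} (S : SzData F m)

namespace SzData

theorem DgSz_mem_stabilizer (u : Fˣ) :
    S.DgSz u ∈ MulAction.stabilizer (Cfsg.Sz F m) (pInf F) := by
  rw [MulAction.mem_stabilizer_iff, Subgroup.smul_def]
  exact S.Dg_smul_pInf u

theorem WgSz_mul_WgSz : S.WgSz * S.WgSz = 1 := Subtype.ext Wg_mul_Wg

theorem WgSz_inv : S.WgSz⁻¹ = S.WgSz := Subtype.ext Wg_inv

theorem WgSz_DgSz_WgSz (u : Fˣ) : S.WgSz * S.DgSz u * S.WgSz = S.DgSz u⁻¹ :=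
  Subtype.ext (S.Wg_Dg_Wg u)

include S in
/-- an automorphism preserving the unipotent subgroup preserves the Borel subgroup -/
theorem maps_stabilizer (hm : 1 ≤ m) (hF : Fintype.card F = 2 ^ (2 * m + 1))
    (β : MulAut (Cfsg.Sz F m)) (hQ : ∀ x ∈ S.QSz, β x ∈ S.QSz) :
    ∀ b ∈ MulAction.stabilizer (Cfsg.Sz F m) (pInf F),
      β b ∈ MulAction.stabilizer (Cfsg.Sz F m) (pInf F) := by
  intro b hb
  rw [← S.normalizer_QSz hm hF] at hb ⊢
  rw [Subgroup.mem_normalizer_iff] at hb ⊢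
  intro h
  obtain ⟨h', rfl⟩ := β.surjective h
  rw [mem_iff_of_maps β S.QSz hQ, ← map_inv, ← map_mul, ← map_mul, mem_iff_of_maps β S.QSz hQ]
  exact hb h'

include S in
/-- every automorphism is, up to an inner automorphism, one preserving the unipotent subgroup
and the torus -/
theorem exists_normalize (hm : 1 ≤ m) (hF : Fintype.card F = 2 ^ (2 * m + 1))
    (α : MulAut (Cfsg.Sz F m)) :
    ∃ g : Cfsg.Sz F m, (∀ x ∈ S.QSz, ((MulAut.conj g)⁻¹ * α) x ∈ S.QSz) ∧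
      (∀ u : Fˣ, ((MulAut.conj g)⁻¹ * α) (S.DgSz u) ∈ S.DgSz.range) := by
  have hfact : Fact (Nat.Prime 2) := ⟨Nat.prime_two⟩
  -- first step: the unipotent subgroup
  obtain ⟨g₁, hg₁⟩ := S.exists_conj_QSz hm hF (α • S.QSylow hm hF)
  rw [Sylow.pointwise_smul_def, S.coe_QSylow] at hg₁
  obtain ⟨α₁, hα₁def⟩ : ∃ α₁ : MulAut (Cfsg.Sz F m), α₁ = (MulAut.conj g₁)⁻¹ * α := ⟨_, rfl⟩
  have hα₁ : ∀ x, α₁ x = g₁⁻¹ * α x * g₁ := by
    intro x
    rw [hα₁def, MulAut.mul_apply, MulAut.conj_inv_apply]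
  have hQ₁ : ∀ x ∈ S.QSz, α₁ x ∈ S.QSz := by
    intro x hx
    have h1 : α • x ∈ α • S.QSz := Subgroup.smul_mem_pointwise_smul x α S.QSz hx
    rw [hg₁, Subgroup.mem_smul_pointwise_iff_exists] at h1
    obtain ⟨y, hy, hyx⟩ := h1
    rw [MulAut.smul_def, MulAut.smul_def, MulAut.conj_apply] at hyx
    rw [hα₁, ← hyx]
    have e : g₁⁻¹ * (g₁ * y * g₁⁻¹) * g₁ = y := by group
    rw [e]
    exact hy
  have hB₁ := S.maps_stabilizer hm hF α₁ hQ₁
  -- second step: the torus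
  obtain ⟨U, hUdef⟩ : ∃ U : Subgroup (Cfsg.Sz F m), U = (α₁.toMonoidHom.comp S.DgSz).range :=
    ⟨_, rfl⟩
  have hinj : Function.Injective (α₁.toMonoidHom.comp S.DgSz) := by
    intro u v huv
    exact S.DgSz_injective (α₁.injective huv)
  have hUc : IsCyclic U := by
    rw [hUdef]
    exact isCyclic_of_surjective (α₁.toMonoidHom.comp S.DgSz).rangeRestrict
      (MonoidHom.rangeRestrict_surjective _)
  have hUk : Nat.card U = 2 ^ (2 * m + 1) - 1 := by
    have h1 : Nat.card U = Nat.card Fˣ := by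
      rw [hUdef]
      exact (Nat.card_congr (MonoidHom.ofInjective hinj).toEquiv).symm
    rw [h1, Nat.card_units, Nat.card_eq_fintype_card, hF]
  obtain ⟨g₂, hg₂⟩ := S.exists_conj_range_of_split hm hF hUc hUk
  have hUB : ∀ z ∈ U, z ∈ MulAction.stabilizer (Cfsg.Sz F m) (pInf F) := by
    intro z hz
    rw [hUdef] at hz
    obtain ⟨u, rfl⟩ := hz
    exact hB₁ _ (S.DgSz_mem_stabilizer u)
  -- a nontrivial element of the torus
  have hcard : 1 < Nat.card Fˣ := by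
    rw [Nat.card_units, Nat.card_eq_fintype_card, hF]
    have : 2 ^ 3 ≤ 2 ^ (2 * m + 1) := Nat.pow_le_pow_right (by norm_num) (by omega)
    omega
  have hnt : Nontrivial Fˣ := (Finite.one_lt_card_iff_nontrivial).1 hcard
  obtain ⟨v₀, hv₀⟩ := exists_ne (1 : Fˣ)
  have hfix : S.Dg v₀ • ((g₂⁻¹ : Cfsg.Sz F m) : SpecialLinearGroup (Fin 4) F) • pInf F =
      ((g₂⁻¹ : Cfsg.Sz F m) : SpecialLinearGroup (Fin 4) F) • pInf F := by
    have h1 : g₂ * S.DgSz v₀ * g₂⁻¹ ∈ U := by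
      rw [hg₂]
      have e : g₂⁻¹ * (g₂ * S.DgSz v₀ * g₂⁻¹) * g₂ = S.DgSz v₀ := by group
      rw [e]
      exact ⟨v₀, rfl⟩
    have h2 := hUB _ h1
    rw [MulAction.mem_stabilizer_iff, Subgroup.smul_def] at h2
    have e : ((g₂ * S.DgSz v₀ * g₂⁻¹ : Cfsg.Sz F m) : SpecialLinearGroup (Fin 4) F) =
        (g₂ : SpecialLinearGroup (Fin 4) F) * S.Dg v₀ *
          ((g₂⁻¹ : Cfsg.Sz F m) : SpecialLinearGroup (Fin 4) F) := rfl
    rw [e, mul_smul, mul_smul] at h2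
    have h3 : ((g₂⁻¹ : Cfsg.Sz F m) : SpecialLinearGroup (Fin 4) F) •
        (g₂ : SpecialLinearGroup (Fin 4) F) • S.Dg v₀ •
          ((g₂⁻¹ : Cfsg.Sz F m) : SpecialLinearGroup (Fin 4) F) • pInf F =
        ((g₂⁻¹ : Cfsg.Sz F m) : SpecialLinearGroup (Fin 4) F) • pInf F := by rw [h2]
    rw [← mul_smul, ← mul_smul] at h3
    have e2 : ((g₂⁻¹ : Cfsg.Sz F m) : SpecialLinearGroup (Fin 4) F) *
        (g₂ : SpecialLinearGroup (Fin 4) F) = 1 := by
      rw [← Subgroup.coe_mul, inv_mul_cancel, Subgroup.coe_one]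
    rw [e2, one_mul] at h3
    exact h3
  have hpt := S.Dg_fix_of_ne_one hv₀ (smul_mem_of_mem_Sz (g₂⁻¹).2 S.pInf_mem) hfix
  -- the conjugating element can be taken in the Borel subgroup
  have hg₃ : ∃ g₃ : Cfsg.Sz F m, g₃ ∈ MulAction.stabilizer (Cfsg.Sz F m) (pInf F) ∧
      ∀ z ∈ U, g₃⁻¹ * z * g₃ ∈ S.DgSz.range := by
    rcases hpt with hpt | hpt
    · refine ⟨g₂, ?_, fun z hz => (hg₂ z).1 hz⟩
      have h1 : g₂⁻¹ ∈ MulAction.stabilizer (Cfsg.Sz F m) (pInf F) := by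
        rw [MulAction.mem_stabilizer_iff, Subgroup.smul_def]
        exact hpt
      have h2 := Subgroup.inv_mem _ h1
      rwa [inv_inv] at h2
    · refine ⟨g₂ * S.WgSz, ?_, ?_⟩
      · have h1 : (g₂ * S.WgSz)⁻¹ ∈ MulAction.stabilizer (Cfsg.Sz F m) (pInf F) := by
          rw [MulAction.mem_stabilizer_iff, Subgroup.smul_def, _root_.mul_inv_rev, S.WgSz_inv]
          have e : ((S.WgSz * g₂⁻¹ : Cfsg.Sz F m) : SpecialLinearGroup (Fin 4) F) =
              Wg F * ((g₂⁻¹ : Cfsg.Sz F m) : SpecialLinearGroup (Fin 4) F) := rfl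
          rw [e, mul_smul, hpt, S.Wg_smul_pt_zero]
        have h2 := Subgroup.inv_mem _ h1
        rwa [inv_inv] at h2
      · intro z hz
        obtain ⟨u, hu⟩ := (hg₂ z).1 hz
        refine ⟨u⁻¹, ?_⟩
        rw [← S.WgSz_DgSz_WgSz, hu, _root_.mul_inv_rev, S.WgSz_inv]
        group
  obtain ⟨g₃, hg₃B, hg₃U⟩ := hg₃
  refine ⟨g₁ * g₃, ?_, ?_⟩
  · intro x hx
    rw [MulAut.mul_apply, MulAut.conj_inv_apply]
    have h1 := hQ₁ x hx
    rw [hα₁] at h1
    have h2 := S.conj_mem_QSz hm hF (Subgroup.inv_mem _ hg₃B) h1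
    rw [inv_inv] at h2
    have e : (g₁ * g₃)⁻¹ * α x * (g₁ * g₃) = g₃⁻¹ * (g₁⁻¹ * α x * g₁) * g₃ := by group
    rw [e]
    exact h2
  · intro u
    rw [MulAut.mul_apply, MulAut.conj_inv_apply]
    have h1 : α₁ (S.DgSz u) ∈ U := by
      rw [hUdef]
      exact ⟨u, rfl⟩
    have h2 := hg₃U _ h1
    rw [hα₁] at h2
    have e : (g₁ * g₃)⁻¹ * α (S.DgSz u) * (g₁ * g₃) =
        g₃⁻¹ * (g₁⁻¹ * α (S.DgSz u) * g₁) * g₃ := by group
    rw [e]
    exact h2

end SzData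

end Cfsg.Agent.Helper2.Sz
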