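import Mathlib
import Cfsg.Agent.Lib.Helper2.SzAut2

set_option autoImplicit false
set_option linter.unusedSectionVars false
set_option linter.unusedSimpArgs false
set_option linter.unusedVariables false

namespace Cfsg.Agent.Helper2.Sz

open Matrix Cfsg.Agent.S0335

variable {F : Type*} [Field F] [Fintype F] {m : ℕ} (S : SzData F m)

namespace SzData

include S in
/-- an automorphism fixing the torus elementwise and the unipotent subgroup modulo its centre
fixes the unipotent subgroup elementwise -/
theorem eq_of_fix_torus (hm : 1 ≤ m) (hF : Fintype.card F = 2 ^ (2 * m + 1))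
    (γ : MulAut (Cfsg.Sz F m)) (hD : ∀ u, γ (S.DgSz u) = S.DgSz u)
    (hQ : ∀ a b, ∃ b', γ (S.TgSz a b) = S.TgSz a b') :
    ∀ a b, γ (S.TgSz a b) = S.TgSz a b := by
  choose k hk using hQ
  have hmul : ∀ a b c d, k (a + c) (b + d + S.s a * c) = k a b + k c d + S.s a * c := by
    intro a b c d
    have h1 : γ (S.TgSz a b * S.TgSz c d) = γ (S.TgSz a b) * γ (S.TgSz c d) := map_mul γ _ _
    rw [S.TgSz_mul, hk, hk, hk, S.TgSz_mul] at h1
    exact (S.TgSz_injective h1).2
  have h00 : k 0 0 = 0 := by
    have h1 : γ (S.TgSz 0 0) = 1 := by rw [S.TgSz_zero, map_one]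
    rw [hk, S.TgSz_eq_one_iff] at h1
    exact h1.2
  have hsplit : ∀ a b, k a b = k a 0 + k 0 b := by
    intro a b
    have h1 := hmul a 0 0 b
    rw [add_zero, zero_add, mul_zero, add_zero, add_zero] at h1
    exact h1
  have hh_add : ∀ b d, k 0 (b + d) = k 0 b + k 0 d := by
    intro b d
    have h1 := hmul 0 b 0 d
    rw [add_zero, map_zero, zero_mul, add_zero, add_zero] at h1
    exact h1
  have hconj : ∀ (u : Fˣ) (a b : F),
      k (S.s u * a) (S.s u * (u : F) ^ 2 * b) = S.s u * (u : F) ^ 2 * k a b := by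
    intro u a b
    have h1 : γ (S.DgSz u * S.TgSz a b) = γ (S.DgSz u) * γ (S.TgSz a b) := map_mul γ _ _
    rw [S.DgSz_TgSz, map_mul, hD, hk, hk, S.DgSz_TgSz] at h1
    exact (S.TgSz_injective (mul_right_cancel h1)).2
  have hh_lin : ∀ e b : F, e ≠ 0 → k 0 (e * b) = e * k 0 b := by
    intro e b he
    obtain ⟨u, hu⟩ := S.exists_unit_eq he
    have h1 := hconj u 0 b
    rw [mul_zero, hu] at h1
    exact h1
  have hg : ∀ a c, k (a + c) 0 + k 0 (S.s a * c) = k a 0 + k c 0 + S.s a * c := by
    intro a c
    have h1 := hmul a 0 c 0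
    rw [add_zero, zero_add, hsplit] at h1
    exact h1
  obtain ⟨t, ht⟩ := S.exists_not_fix hF hm
  have ht0 : t ≠ 0 := by
    rintro rfl
    apply ht
    rw [map_zero, add_zero]
  have ht1 : t ≠ 1 := by
    rintro rfl
    apply ht
    rw [map_one]
    exact S.add_self 1
  -- the action on the centre is trivial
  have hh1 : k 0 1 = 1 := by
    have h1 := hg 1 t
    have h2 := hg t 1
    rw [map_one, one_mul] at h1
    rw [mul_one] at h2
    have h3 : k 0 (S.s t + t) = S.s t + t := by
      rw [hh_add]
      rw [add_comm t 1] at h2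
      linear_combination h1 + h2 + (-k (1 + t) 0 + k 1 0 + k t 0) * S.h2
    have h4 := hh_lin (S.s t + t) 1 ht
    rw [mul_one, h3] at h4
    have h5 : (S.s t + t) * (k 0 1 - 1) = 0 := by linear_combination -h4
    rcases mul_eq_zero.1 h5 with h | h
    · exact absurd h ht
    · exact sub_eq_zero.1 h
  have hh : ∀ b, k 0 b = b := by
    intro b
    by_cases hb : b = 0
    · rw [hb, h00]
    · have h1 := hh_lin b 1 hb
      rw [mul_one, hh1, mul_one] at h1
      exact h1
  -- the remaining part is additive and semilinear, hence zero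
  have hg_add : ∀ a c, k (a + c) 0 = k a 0 + k c 0 := by
    intro a c
    have h1 := hg a c
    rw [hh] at h1
    exact add_right_cancel h1
  have hg_s : ∀ u : Fˣ, k (S.s u) 0 = S.s u * (u : F) ^ 2 * k 1 0 := by
    intro u
    have h1 := hconj u 1 0
    rw [mul_one, mul_zero] at h1
    exact h1
  have hst : S.s t ≠ t ^ 2 := by
    intro h
    have h1 : S.s (S.s t) = S.s t := by rw [S.hs, h]
    rcases S.eq_zero_or_one_of_fix h1 with h2 | h2
    · exact ht0 ((map_eq_zero S.s).1 h2)
    · apply ht1
      apply S.s_injective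
      rw [h2, map_one]
  have hγ₀ : k 1 0 = 0 := by
    have ht10 : t + 1 ≠ 0 := by
      intro h
      apply ht1
      linear_combination h - S.add_self 1
    have h1 := hg_s (Units.mk0 t ht0)
    have h2 := hg_s (Units.mk0 (t + 1) ht10)
    rw [Units.val_mk0] at h1 h2
    rw [map_add, map_one, hg_add, h1] at h2
    have h3 : (S.s t + t ^ 2) * k 1 0 = 0 := by
      linear_combination -h2 - (S.s t * t + t) * k 1 0 * S.h2
    rcases mul_eq_zero.1 h3 with h | h
    · exfalso
      apply hst
      linear_combination h - S.add_self (t ^ 2)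
    · exact h
  have hg0 : ∀ a, k a 0 = 0 := by
    intro a
    by_cases ha : a = 0
    · rw [ha, h00]
    · obtain ⟨u, hu⟩ := S.exists_unit_s_eq ha
      rw [← hu, hg_s, hγ₀, mul_zero]
  intro a b
  rw [hk, hsplit, hg0, hh, zero_add]

end SzData

end Cfsg.Agent.Helper2.Sz
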