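import Mathlib
import Cfsg.Agent.Lib.Helper2.SzAut3

set_option autoImplicit false
set_option linter.unusedSectionVars false
set_option linter.unusedSimpArgs false
set_option linter.unusedVariables false

namespace Cfsg.Agent.Helper2.Sz

open Matrix Cfsg.Agent.S0335

variable {F : Type*} [Field F] [Fintype F] {m : ℕ} (S : SzData F m)

namespace SzData

theorem conj_DgSz_TgSz (v : Fˣ) (a b : F) :
    S.DgSz v * S.TgSz a b * (S.DgSz v)⁻¹ =
      S.TgSz (S.s v * a) (S.s v * (v : F) ^ 2 * b) := by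
  rw [S.DgSz_TgSz, mul_inv_cancel_right]

include S in
/-- an automorphism preserving the unipotent subgroup and the torus agrees, up to a torus element
and a field automorphism, with the identity on the torus and on the unipotent subgroup modulo
its centre -/
theorem exists_field_aut (hm : 1 ≤ m) (hF : Fintype.card F = 2 ^ (2 * m + 1))
    (β : MulAut (Cfsg.Sz F m)) (hQ : ∀ x ∈ S.QSz, β x ∈ S.QSz)
    (hD : ∀ u : Fˣ, β (S.DgSz u) ∈ S.DgSz.range) :
    ∃ (v : Fˣ) (φ : F ≃+* F),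
      (∀ u, ((MulAut.conj (S.DgSz v) * S.fieldAut hm hF φ)⁻¹ * β) (S.DgSz u) = S.DgSz u) ∧
      (∀ a b, ∃ b', ((MulAut.conj (S.DgSz v) * S.fieldAut hm hF φ)⁻¹ * β) (S.TgSz a b) =
        S.TgSz a b') := by
  classical
  have hQ' : ∀ a b, ∃ a' b', β (S.TgSz a b) = S.TgSz a' b' :=
    fun a b => S.mem_QSz_iff.1 (hQ _ (S.TgSz_mem a b))
  choose fa fb hfab using hQ'
  choose τ hτ using hD
  have hmul : ∀ a b c d, fa (a + c) (b + d + S.s a * c) = fa a b + fa c d ∧
      fb (a + c) (b + d + S.s a * c) = fb a b + fb c d + S.s (fa a b) * fa c d := by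
    intro a b c d
    have h1 : β (S.TgSz a b * S.TgSz c d) = β (S.TgSz a b) * β (S.TgSz c d) := map_mul β _ _
    rw [S.TgSz_mul, hfab, hfab, hfab, S.TgSz_mul] at h1
    exact S.TgSz_injective h1
  have h00 : fa 0 0 = 0 ∧ fb 0 0 = 0 := by
    have h1 : β (S.TgSz 0 0) = 1 := by rw [S.TgSz_zero, map_one]
    rw [hfab, S.TgSz_eq_one_iff] at h1
    exact h1
  have hZ : ∀ b, fa 0 b = 0 := by
    intro b
    have h1 := (hmul 0 b 0 b).2
    rw [add_zero, S.add_self, map_zero, zero_mul, add_zero, h00.2, S.add_self, zero_add] at h1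
    rcases mul_eq_zero.1 h1.symm with h | h
    · exact (map_eq_zero S.s).1 h
    · exact h
  have hsplit : ∀ a b, fa a b = fa a 0 ∧ fb a b = fb a 0 + fb 0 b := by
    intro a b
    have h1 := hmul a 0 0 b
    rw [add_zero, zero_add, mul_zero, add_zero, hZ, add_zero, mul_zero, add_zero] at h1
    exact h1
  have hf_add : ∀ a c, fa (a + c) 0 = fa a 0 + fa c 0 := by
    intro a c
    have h1 := (hmul a 0 c 0).1
    rw [(hsplit _ _).1] at h1
    exact h1
  have hg : ∀ a c, fb (a + c) 0 + fb 0 (S.s a * c) =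
      fb a 0 + fb c 0 + S.s (fa a 0) * fa c 0 := by
    intro a c
    have h1 := (hmul a 0 c 0).2
    rw [add_zero, zero_add, (hsplit _ _).2] at h1
    exact h1
  have hh_add : ∀ b d, fb 0 (b + d) = fb 0 b + fb 0 d := by
    intro b d
    have h1 := (hmul 0 b 0 d).2
    rw [add_zero, map_zero, zero_mul, add_zero, hZ, hZ, mul_zero, add_zero] at h1
    exact h1
  have hh_inj : ∀ b, fb 0 b = 0 → b = 0 := by
    intro b hb
    have h1 : β (S.TgSz 0 b) = 1 := by
      rw [hfab, hZ, hb, S.TgSz_zero]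
    have h2 : S.TgSz 0 b = 1 := (map_eq_one_iff β β.injective).1 h1
    exact (S.TgSz_eq_one_iff.1 h2).2
  have hf_inj : ∀ a, fa a 0 = 0 → a = 0 := by
    intro a ha
    have h1 := hg a a
    rw [S.add_self, h00.2, zero_add, S.add_self, zero_add, ha, mul_zero] at h1
    have h2 := hh_inj _ h1
    rcases mul_eq_zero.1 h2 with h | h
    · exact (map_eq_zero S.s).1 h
    · exact h
  have hτ_mul : ∀ u v, τ (u * v) = τ u * τ v := by
    intro u v
    apply S.DgSz_injective
    rw [hτ, map_mul, map_mul, map_mul, hτ, hτ]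
  have hconj : ∀ (u : Fˣ) (a : F), fa (S.s u * a) 0 = S.s (τ u) * fa a 0 := by
    intro u a
    have h1 : β (S.DgSz u * S.TgSz a 0) = β (S.DgSz u) * β (S.TgSz a 0) := map_mul β _ _
    rw [S.DgSz_TgSz, map_mul, ← hτ, hfab, hfab, S.DgSz_TgSz] at h1
    have h2 := (S.TgSz_injective (mul_right_cancel h1)).1
    rw [mul_zero, (hsplit _ _).1] at h2
    exact h2
  obtain ⟨c, hcdef⟩ : ∃ c : F, c = fa 1 0 := ⟨_, rfl⟩
  have hc : c ≠ 0 := by
    intro h0
    rw [hcdef] at h0
    exact one_ne_zero (hf_inj 1 h0)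
  have hfs : ∀ u : Fˣ, fa (S.s u) 0 = S.s (τ u) * c := by
    intro u
    have h1 := hconj u 1
    rw [mul_one, ← hcdef] at h1
    exact h1
  -- the field automorphism
  obtain ⟨φ₀, hφ₀⟩ : ∃ φ₀ : F →+* F, ∀ x, φ₀ x = fa (S.s x) 0 * c⁻¹ := by
    refine ⟨{ toFun := fun x => fa (S.s x) 0 * c⁻¹
              map_one' := ?_
              map_mul' := ?_
              map_zero' := ?_
              map_add' := ?_ }, fun x => rfl⟩
    · show fa (S.s 1) 0 * c⁻¹ = 1
      rw [map_one, ← hcdef, mul_inv_cancel₀ hc]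
    · intro x y
      show fa (S.s (x * y)) 0 * c⁻¹ = fa (S.s x) 0 * c⁻¹ * (fa (S.s y) 0 * c⁻¹)
      by_cases hx : x = 0
      · rw [hx, zero_mul, map_zero, h00.1, zero_mul, zero_mul]
      by_cases hy : y = 0
      · rw [hy, mul_zero, map_zero, h00.1, zero_mul, mul_zero]
      have h1 := hfs (Units.mk0 x hx * Units.mk0 y hy)
      have h2 := hfs (Units.mk0 x hx)
      have h3 := hfs (Units.mk0 y hy)
      rw [Units.val_mul, Units.val_mk0, Units.val_mk0, hτ_mul, Units.val_mul] at h1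
      simp only [map_mul] at h1
      rw [Units.val_mk0] at h2 h3
      rw [map_mul S.s x y, h1, h2, h3]
      field_simp
    · show fa (S.s 0) 0 * c⁻¹ = 0
      rw [map_zero, h00.1, zero_mul]
    · intro x y
      show fa (S.s (x + y)) 0 * c⁻¹ = fa (S.s x) 0 * c⁻¹ + fa (S.s y) 0 * c⁻¹
      rw [map_add, hf_add, add_mul]
  have hφ₀bij : Function.Bijective φ₀ := Finite.injective_iff_bijective.1 φ₀.injective
  have hsbij : Function.Bijective S.s :=
    Finite.injective_iff_bijective.1 S.s_injective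
  obtain ⟨sE, hsE⟩ : ∃ sE : F ≃+* F, ∀ x, sE x = S.s x :=
    ⟨RingEquiv.ofBijective S.s hsbij, fun x => rfl⟩
  obtain ⟨φ, hφdef⟩ : ∃ φ : F ≃+* F, φ = (RingEquiv.ofBijective φ₀ hφ₀bij).trans sE.symm :=
    ⟨_, rfl⟩
  have hφ : ∀ x, S.s (φ x) = φ₀ x := by
    intro x
    rw [hφdef, RingEquiv.trans_apply, ← hsE, RingEquiv.apply_symm_apply]
    rfl
  have hτφ : ∀ u : Fˣ, (τ u : F) = φ u := by
    intro u
    apply S.s_injective
    rw [hφ, hφ₀, hfs, mul_assoc, mul_inv_cancel₀ hc, mul_one]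
  have hfφ : ∀ y, fa y 0 = c * φ y := by
    intro y
    obtain ⟨x, rfl⟩ := hsbij.2 y
    rw [S.map_s, hφ, hφ₀, mul_comm, inv_mul_cancel_right₀ hc]
  obtain ⟨v, hv⟩ := S.exists_unit_s_eq hc
  have hv0 : (v : F) ≠ 0 := v.ne_zero
  refine ⟨v, φ, ?_, ?_⟩
  · intro u
    rw [MulAut.mul_apply]
    have h1 : β (S.DgSz u) = (MulAut.conj (S.DgSz v) * S.fieldAut hm hF φ) (S.DgSz u) := by
      rw [MulAut.mul_apply, S.fieldAut_DgSz, MulAut.conj_apply, ← map_mul, ← map_inv, ← map_mul,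
        mul_comm v, mul_inv_cancel_right, ← hτ]
      congr 1
      apply Units.ext
      rw [hτφ]
      rfl
    rw [h1, MulAut.inv_apply_self]
  · intro a b
    obtain ⟨b', hb'⟩ : ∃ b' : F, c * (v : F) ^ 2 * φ b' = fb a 0 + fb 0 b := by
      refine ⟨φ.symm ((fb a 0 + fb 0 b) / (c * (v : F) ^ 2)), ?_⟩
      rw [RingEquiv.apply_symm_apply]
      field_simp
    refine ⟨b', ?_⟩
    rw [MulAut.mul_apply]
    have h1 : β (S.TgSz a b) = (MulAut.conj (S.DgSz v) * S.fieldAut hm hF φ) (S.TgSz a b') := by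
      rw [MulAut.mul_apply, S.fieldAut_TgSz, MulAut.conj_apply, S.conj_DgSz_TgSz, hfab,
        (hsplit a b).1, (hsplit a b).2, hfφ, hv, hb']
    rw [h1, MulAut.inv_apply_self]

end SzData

end Cfsg.Agent.Helper2.Sz
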