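import Mathlib
import Cfsg.Agent.Lib.Helper2.SzAut4
import Cfsg.Agent.Lib.Helper2.OutCongr

set_option autoImplicit false
set_option linter.unusedSectionVars false
set_option linter.unusedSimpArgs false
set_option linter.unusedVariables false

namespace Cfsg.Agent.Helper2.Sz

open Matrix Cfsg.Agent.S0335

variable {F : Type*} [Field F] [Fintype F] {m : ℕ} (S : SzData F m)

namespace SzData

include S in
theorem exists_unit_ne_one (hm : 1 ≤ m) (hF : Fintype.card F = 2 ^ (2 * m + 1)) :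
    ∃ u : Fˣ, u ≠ 1 := by
  have hcard : 1 < Nat.card Fˣ := by
    rw [Nat.card_units, Nat.card_eq_fintype_card, hF]
    have : 2 ^ 3 ≤ 2 ^ (2 * m + 1) := Nat.pow_le_pow_right (by norm_num) (by omega)
    omega
  have hnt : Nontrivial Fˣ := (Finite.one_lt_card_iff_nontrivial).1 hcard
  exact exists_ne (1 : Fˣ)

include S in
/-- an automorphism fixing the Borel subgroup elementwise is trivial -/
theorem eq_one_of_fix_borel (hm : 1 ≤ m) (hF : Fintype.card F = 2 ^ (2 * m + 1))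
    (γ : MulAut (Cfsg.Sz F m)) (hD : ∀ u, γ (S.DgSz u) = S.DgSz u)
    (hQ : ∀ a b, γ (S.TgSz a b) = S.TgSz a b) : γ = 1 := by
  have hB : ∀ b ∈ MulAction.stabilizer (Cfsg.Sz F m) (pInf F), γ b = b := by
    intro b hb
    obtain ⟨a, c, u, rfl⟩ := (S.mem_stabilizer_pInf_iff hm hF).1 hb
    rw [map_mul, hQ, hD]
  obtain ⟨w', hw'def⟩ : ∃ w' : Cfsg.Sz F m, w' = γ S.WgSz := ⟨_, rfl⟩
  have hw'sq : w' * w' = 1 := by
    rw [hw'def, ← map_mul, S.WgSz_mul_WgSz, map_one]
  obtain ⟨u₀, hu₀⟩ := S.exists_unit_ne_one hm hF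
  have hu₀' : u₀⁻¹ ≠ 1 := by
    intro h
    apply hu₀
    rw [← inv_inv u₀, h, inv_one]
  have hw'D : w' * S.DgSz u₀ = S.DgSz u₀⁻¹ * w' := by
    have h1 : w' * S.DgSz u₀ * w' = S.DgSz u₀⁻¹ := by
      rw [hw'def]
      conv_lhs => rw [← hD u₀]
      rw [← map_mul, ← map_mul, S.WgSz_DgSz_WgSz, hD]
    calc w' * S.DgSz u₀ = w' * S.DgSz u₀ * (w' * w') := by rw [hw'sq, mul_one]
      _ = (w' * S.DgSz u₀ * w') * w' := by group
      _ = S.DgSz u₀⁻¹ * w' := by rw [h1]
  have hw'p : (w' : SpecialLinearGroup (Fin 4) F) • pInf F = S.pt 0 0 := by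
    have hfix : S.Dg u₀⁻¹ • ((w' : SpecialLinearGroup (Fin 4) F) • pInf F) =
        (w' : SpecialLinearGroup (Fin 4) F) • pInf F := by
      have h1 : S.Dg u₀⁻¹ * (w' : SpecialLinearGroup (Fin 4) F) =
          (w' : SpecialLinearGroup (Fin 4) F) * S.Dg u₀ := (congrArg Subtype.val hw'D).symm
      rw [← mul_smul, h1, mul_smul, S.Dg_smul_pInf]
    rcases S.Dg_fix_of_ne_one hu₀' (smul_mem_of_mem_Sz w'.2 S.pInf_mem) hfix with h | h
    · exfalso
      have h1 : w' ∈ MulAction.stabilizer (Cfsg.Sz F m) (pInf F) := by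
        rw [MulAction.mem_stabilizer_iff, Subgroup.smul_def]
        exact h
      have h2 : γ w' = γ S.WgSz := by rw [hB w' h1, hw'def]
      have h3 : w' = S.WgSz := γ.injective h2
      rw [h3] at h
      have h4 : Wg F • pInf F = pInf F := h
      rw [S.Wg_smul_pInf] at h4
      exact S.pt_ne_pInf 0 0 h4
    · exact h
  -- the images of the point at infinity agree
  have hpInf : ∀ g : Cfsg.Sz F m, ((γ g : Cfsg.Sz F m) : SpecialLinearGroup (Fin 4) F) • pInf F =
      (g : SpecialLinearGroup (Fin 4) F) • pInf F := by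
    intro g
    rcases S.exists_decomp hm hF g.2 with ⟨a, b, u, hg⟩ | ⟨a, b, c, d, u, hg⟩
    · have hg' : g = S.TgSz a b * S.DgSz u := Subtype.ext hg
      rw [hg', map_mul, hQ, hD]
    · have hg' : g = S.TgSz a b * S.WgSz * (S.TgSz c d * S.DgSz u) := Subtype.ext hg
      rw [hg', map_mul, map_mul, map_mul, hQ, hQ, hD, ← hw'def]
      have e1 : ((S.TgSz a b * w' * (S.TgSz c d * S.DgSz u) : Cfsg.Sz F m) :
          SpecialLinearGroup (Fin 4) F) =
          S.Tg a b * (w' : SpecialLinearGroup (Fin 4) F) * (S.Tg c d * S.Dg u) := rfl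
      have e2 : ((S.TgSz a b * S.WgSz * (S.TgSz c d * S.DgSz u) : Cfsg.Sz F m) :
          SpecialLinearGroup (Fin 4) F) =
          S.Tg a b * Wg F * (S.Tg c d * S.Dg u) := rfl
      have e3 : (S.Tg c d * S.Dg u) • pInf F = pInf F := S.Tg_Dg_smul_pInf c d u
      have eL : (S.Tg a b * (w' : SpecialLinearGroup (Fin 4) F) * (S.Tg c d * S.Dg u)) • pInf F =
          S.Tg a b • S.pt 0 0 := by
        rw [mul_smul, e3, mul_smul, hw'p]
      have eR : (S.Tg a b * Wg F * (S.Tg c d * S.Dg u)) • pInf F = S.Tg a b • S.pt 0 0 := by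
        rw [mul_smul, e3, mul_smul, S.Wg_smul_pInf]
      rw [e1, e2, eL, eR]
  -- hence the images of all points agree
  have hall : ∀ g : Cfsg.Sz F m, ∀ p ∈ Cfsg.suzukiOvoid F m,
      ((γ g : Cfsg.Sz F m) : SpecialLinearGroup (Fin 4) F) • p =
        (g : SpecialLinearGroup (Fin 4) F) • p := by
    intro g p hp
    rw [← S.orbit_pInf] at hp
    obtain ⟨h, hh⟩ := hp
    have e1 : p = (h : SpecialLinearGroup (Fin 4) F) • pInf F := hh.symm
    rw [e1]
    conv_lhs => rw [← hpInf h]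
    rw [← mul_smul, ← mul_smul, ← Subgroup.coe_mul, ← map_mul, hpInf]
    rfl
  apply MulEquiv.ext
  intro g
  rw [MulAut.one_apply]
  have h1 : ((g⁻¹ * γ g : Cfsg.Sz F m) : SpecialLinearGroup (Fin 4) F) = 1 := by
    apply S.eq_one_of_forall_fix hm hF (g⁻¹ * γ g).2
    intro p hp
    have e : ((g⁻¹ * γ g : Cfsg.Sz F m) : SpecialLinearGroup (Fin 4) F) =
        (g : SpecialLinearGroup (Fin 4) F)⁻¹ * ((γ g : Cfsg.Sz F m) : SpecialLinearGroup (Fin 4) F) :=
      rfl
    rw [e, mul_smul, hall g p hp, inv_smul_smul]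
  have h2 : g⁻¹ * γ g = 1 := Subtype.ext h1
  exact (inv_mul_eq_one.1 h2).symm

include S in
/-- a nontrivial field automorphism is not inner -/
theorem eq_one_of_fieldAut_inner (hm : 1 ≤ m) (hF : Fintype.card F = 2 ^ (2 * m + 1))
    (φ : F ≃+* F) (g : Cfsg.Sz F m) (h : MulAut.conj g = S.fieldAut hm hF φ) : φ = 1 := by
  have hQ : ∀ x ∈ S.QSz, (MulAut.conj g) x ∈ S.QSz := by
    intro x hx
    obtain ⟨a, b, rfl⟩ := S.mem_QSz_iff.1 hx
    rw [h, S.fieldAut_TgSz]
    exact S.TgSz_mem _ _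
  have hgB : g ∈ MulAction.stabilizer (Cfsg.Sz F m) (pInf F) := by
    rw [← S.normalizer_QSz hm hF, Subgroup.mem_normalizer_iff]
    intro x
    have h1 := mem_iff_of_maps (MulAut.conj g) S.QSz hQ x
    rw [MulAut.conj_apply] at h1
    exact h1.symm
  obtain ⟨a, b, u, hg⟩ := (S.mem_stabilizer_pInf_iff hm hF).1 hgB
  obtain ⟨v₀, hv₀⟩ := S.exists_unit_ne_one hm hF
  have hv₀' : Units.map (φ : F →* F) v₀ ≠ 1 := by
    intro h1
    apply hv₀
    apply Units.ext
    have h2 : φ (v₀ : F) = 1 := congrArg Units.val h1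
    rw [Units.val_one]
    exact (φ.injective (h2.trans (map_one φ).symm))
  have hgD : g * S.DgSz v₀ = S.DgSz (Units.map (φ : F →* F) v₀) * g := by
    have h1 : (MulAut.conj g) (S.DgSz v₀) = S.DgSz (Units.map (φ : F →* F) v₀) := by
      rw [h, S.fieldAut_DgSz]
    rw [MulAut.conj_apply] at h1
    rw [← h1]
    group
  have hfix : S.Dg (Units.map (φ : F →* F) v₀) • S.pt a b = S.pt a b := by
    have h1 : S.Dg (Units.map (φ : F →* F) v₀) * (g : SpecialLinearGroup (Fin 4) F) =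
        (g : SpecialLinearGroup (Fin 4) F) * S.Dg v₀ := (congrArg Subtype.val hgD).symm
    have h2 : (g : SpecialLinearGroup (Fin 4) F) • S.pt 0 0 = S.pt a b := by
      rw [hg]
      exact S.Tg_Dg_smul_pt_zero a b u
    rw [← h2, ← mul_smul, h1, mul_smul, S.Dg_smul_pt_zero]
  have hab : a = 0 ∧ b = 0 := by
    rcases S.Dg_fix_of_ne_one hv₀' (S.pt_mem a b) hfix with h1 | h1
    · exact absurd h1 (S.pt_ne_pInf a b)
    · exact S.pt_injective h1
  obtain ⟨rfl, rfl⟩ := hab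
  rw [S.TgSz_zero, one_mul] at hg
  have hu : S.s u = 1 := by
    have h1 : (MulAut.conj g) (S.TgSz 1 0) = S.TgSz 1 0 := by
      rw [h, S.fieldAut_TgSz, map_one, map_zero]
    rw [MulAut.conj_apply, hg, S.conj_DgSz_TgSz] at h1
    have h2 := (S.TgSz_injective h1).1
    rw [mul_one] at h2
    exact h2
  apply RingEquiv.ext
  intro x
  have h1 : (MulAut.conj g) (S.TgSz x 0) = S.TgSz (φ x) 0 := by
    rw [h, S.fieldAut_TgSz, map_zero]
  rw [MulAut.conj_apply, hg, S.conj_DgSz_TgSz, hu, one_mul] at h1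
  exact (S.TgSz_injective h1).1.symm

include S in
/-- the outer automorphism group of the Suzuki group consists of the field automorphisms -/
theorem card_out (hm : 1 ≤ m) (hF : Fintype.card F = 2 ^ (2 * m + 1)) :
    Nat.card (Cfsg.Out (Cfsg.Sz F m)) = 2 * m + 1 := by
  have hfact : Fact (Nat.Prime 2) := ⟨Nat.prime_two⟩
  rw [← Cfsg.Agent.Helper2.OutCongr.card_ringEquiv (F := F) (p := 2) hF]
  symm
  apply Nat.card_eq_of_bijective
    ((QuotientGroup.mk' (Cfsg.Inn (Cfsg.Sz F m))).comp (S.fieldAut hm hF))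
  constructor
  · rw [injective_iff_map_eq_one]
    intro φ hφ
    rw [MonoidHom.comp_apply, QuotientGroup.mk'_apply, QuotientGroup.eq_one_iff] at hφ
    obtain ⟨g, hg⟩ := hφ
    exact S.eq_one_of_fieldAut_inner hm hF φ g hg
  · intro x
    obtain ⟨α, rfl⟩ := QuotientGroup.mk_surjective x
    obtain ⟨g, hgQ, hgD⟩ := S.exists_normalize hm hF α
    obtain ⟨v, φ, hγD, hγQ⟩ := S.exists_field_aut hm hF _ hgQ hgD
    have hγQ' := S.eq_of_fix_torus hm hF _ hγD hγQ
    have hγ := S.eq_one_of_fix_borel hm hF _ hγD hγQ'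
    refine ⟨φ, ?_⟩
    have hα : α = MulAut.conj g * MulAut.conj (S.DgSz v) * S.fieldAut hm hF φ := by
      have h1 : (MulAut.conj g)⁻¹ * α = MulAut.conj (S.DgSz v) * S.fieldAut hm hF φ :=
        inv_mul_eq_one.1 hγ |>.symm
      rw [mul_assoc, ← h1, mul_inv_cancel_left]
    rw [MonoidHom.comp_apply, QuotientGroup.mk'_apply, hα, QuotientGroup.mk_mul]
    have h2 : ((MulAut.conj g * MulAut.conj (S.DgSz v) : MulAut (Cfsg.Sz F m)) :
        Cfsg.Out (Cfsg.Sz F m)) = 1 := by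
      rw [QuotientGroup.eq_one_iff, ← map_mul]
      exact ⟨_, rfl⟩
    rw [h2, one_mul]

end SzData

end Cfsg.Agent.Helper2.Sz
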