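import Mathlib
import Cfsg.Agent.Lib.Helper20.A5QDefs

set_option autoImplicit false
set_option linter.unusedSectionVars false
set_option linter.unusedVariables false

/-!
S3106 pieces COMMSQ, SQN, MINN, QCARD (generic facts).
-/

namespace Cfsg.Agent.Helper20.A5Q

open Cfsg.Agent.Helper22.SecRank

section Generic

variable {Y : Type*} [Group Y] [Finite Y]

/-- **A5Q-COMMSQ.** Commutators are products of squares. -/
theorem comm_mem_Sq (P : Subgroup Y) (x y : Y) (hx : x ∈ P) (hy : y ∈ P) :
    x * y * x⁻¹ * y⁻¹ ∈ Sq P := by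
  have e : x * y * x⁻¹ * y⁻¹ = x ^ 2 * (x⁻¹ * y) ^ 2 * (y⁻¹) ^ 2 := by
    rw [pow_two, pow_two, pow_two]; group
  rw [e]
  exact (Sq P).mul_mem ((Sq P).mul_mem (sq_mem_Sq hx)
    (sq_mem_Sq (P.mul_mem (P.inv_mem hx) hy))) (sq_mem_Sq (P.inv_mem hy))

/-- **A5Q-SQN.** -/
theorem Sq_normal (P : Subgroup Y) (hP : P.Normal) : (Sq P).Normal := by
  constructor
  intro n hn g
  exact Sq_conj (K := P) (K' := P) (g := g) (fun x hx => hP.conj_mem x hx g) n hn

end Generic

section Setting

variable {Y : Type*} [Group Y] [Finite Y] {P : Subgroup Y}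

/-- **A5Q-MINN.** Existence of a minimal normal subgroup below a nontrivial normal subgroup. -/
theorem exists_min_normal (N : Subgroup Y) (hN : N.Normal) (hN1 : N ≠ ⊥) :
    ∃ U : Subgroup Y, U.Normal ∧ U ≤ N ∧ U ≠ ⊥ ∧
      ∀ K : Subgroup Y, K.Normal → K ≤ U → K = ⊥ ∨ K = U := by
  classical
  have key : ∀ n : ℕ, ∀ M : Subgroup Y, Nat.card M = n → M.Normal → M ≠ ⊥ →
      ∃ U : Subgroup Y, U.Normal ∧ U ≤ M ∧ U ≠ ⊥ ∧
        ∀ K : Subgroup Y, K.Normal → K ≤ U → K = ⊥ ∨ K = U := by
    intro n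
    induction n using Nat.strong_induction_on with
    | _ n ih =>
      intro M hM hMn hM1
      by_cases hmin : ∀ K : Subgroup Y, K.Normal → K ≤ M → K = ⊥ ∨ K = M
      · exact ⟨M, hMn, le_rfl, hM1, hmin⟩
      · push Not at hmin
        obtain ⟨K, hKn, hKM, hK1, hK2⟩ := hmin
        have hlt : Nat.card K < n := by
          rw [← hM]
          have hle : Nat.card K ≤ Nat.card M := Subgroup.card_le_of_le hKM
          rcases Nat.lt_or_ge (Nat.card K) (Nat.card M) with h | h
          · exact h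
          · exfalso
            apply hK2
            exact Subgroup.eq_of_le_of_card_ge hKM h
        obtain ⟨U, hUn, hUK, hU1, hUmin⟩ := ih (Nat.card K) hlt K rfl hKn hK1
        exact ⟨U, hUn, hUK.trans hKM, hU1, hUmin⟩
  exact key _ N rfl hN hN1

/-- **A5Q-QCARD.** -/
theorem card_eq_card_map_mul (N : Subgroup Y) [N.Normal] (K : Subgroup Y) (hNK : N ≤ K) :
    Nat.card K = Nat.card (K.map (QuotientGroup.mk' N)) * Nat.card N := by
  classical
  let f : ↥K →* ↥(K.map (QuotientGroup.mk' N)) := (QuotientGroup.mk' N).subgroupMap K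
  have hf : Function.Surjective f := (QuotientGroup.mk' N).subgroupMap_surjective K
  have hker : f.ker = N.subgroupOf K := by
    ext ⟨x, hx⟩
    rw [MonoidHom.mem_ker, Subgroup.mem_subgroupOf]
    constructor
    · intro h
      have h' := congrArg Subtype.val h
      simp only [f, MonoidHom.subgroupMap_apply_coe, Subgroup.coe_one] at h'
      exact (QuotientGroup.eq_one_iff x).mp h'
    · intro h
      apply Subtype.ext
      simp only [f, MonoidHom.subgroupMap_apply_coe, Subgroup.coe_one]
      exact (QuotientGroup.eq_one_iff x).mpr h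
  have h1 : Nat.card ↥K = Nat.card (↥K ⧸ f.ker) * Nat.card f.ker :=
    Subgroup.card_eq_card_quotient_mul_card_subgroup f.ker
  have h2 : Nat.card (↥K ⧸ f.ker) = Nat.card ↥(K.map (QuotientGroup.mk' N)) :=
    Nat.card_congr (QuotientGroup.quotientKerEquivOfSurjective f hf).toEquiv
  have h3 : Nat.card f.ker = Nat.card N := by
    rw [hker]
    exact Nat.card_congr (Subgroup.subgroupOfEquivOfLe hNK).toEquiv
  rw [h1, h2, h3]

end Setting

end Cfsg.Agent.Helper20.A5Q
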