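import Mathlib
import Cfsg.Agent.Lib.Helper20.A5QDefs
import Cfsg.Agent.Lib.Helper2.A5QCOMMSQ
import Cfsg.Agent.Lib.Helper19.A5QCF0

set_option autoImplicit false
set_option linter.unusedSectionVars false
set_option linter.unusedVariables false

/-!
S3106 piece S2B.
-/

namespace Cfsg.Agent.Helper20.A5Q

open Cfsg.Agent.Helper22.SecRank

section Setting

variable {Y : Type*} [Group Y] [Finite Y] {P : Subgroup Y}

/-- **A5Q-S2B.** -/
theorem s2b_contra (h : A5S Y P) (U : Subgroup Y) (hUn : U.Normal) (hUΦ : U ≤ Sq P)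
    (hmin : ∀ K : Subgroup Y, K.Normal → K ≤ U → K = ⊥ ∨ K = U)
    (hU : Nat.card U = 16) (hΦ : Nat.card (Sq P) = 32) : False := by
  classical
  have hPn : P.Normal := h.normal
  have hΦn : (Sq P).Normal := Sq_normal P hPn
  have hΦP : Sq P ≤ P := Sq_le P
  have hU1 : U ≠ ⊥ := by
    intro hb
    rw [hb, Subgroup.card_bot] at hU
    omega
  obtain ⟨hcen, hexp, -⟩ := min_normal_facts h U hUn hUΦ hU1 hmin
  -- index two
  have hidx : (U.subgroupOf (Sq P)).index = 2 := by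
    have h1 : Nat.card (U.subgroupOf (Sq P)) = 16 := by
      rw [← hU]; exact Nat.card_congr (Subgroup.subgroupOfEquivOfLe hUΦ).toEquiv
    have h2 := (U.subgroupOf (Sq P)).card_mul_index
    rw [h1, hΦ] at h2
    omega
  have hmul : ∀ a ∈ Sq P, ∀ b ∈ Sq P, (a * b ∈ U ↔ (a ∈ U ↔ b ∈ U)) := by
    intro a ha b hb
    have := Subgroup.mul_mem_iff_of_index_two hidx (a := ⟨a, ha⟩) (b := ⟨b, hb⟩)
    simpa [Subgroup.mem_subgroupOf] using this
  have hsqU : ∀ a ∈ Sq P, a ^ 2 ∈ U := by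
    intro a ha
    rw [pow_two, hmul a ha a ha]
  -- `Sq P` is abelian
  have hab : ∀ a ∈ Sq P, ∀ b ∈ Sq P, a * b = b * a := by
    intro a ha b hb
    by_cases haU : a ∈ U
    · exact hcen a haU b (hΦP hb)
    by_cases hbU : b ∈ U
    · exact (hcen b hbU a (hΦP ha)).symm
    have h1 : a⁻¹ * b ∈ U := by
      rw [hmul a⁻¹ ((Sq P).inv_mem ha) b hb]
      constructor
      · intro h'; exact absurd ((Subgroup.inv_mem_iff U).mp h') haU
      · intro h'; exact absurd h' hbU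
    have h2 := hcen _ h1 a (hΦP ha)
    calc a * b = a * (a * (a⁻¹ * b)) * a⁻¹ * a := by group
      _ = a * ((a⁻¹ * b) * a) * a⁻¹ * a := by rw [h2]
      _ = b * a := by group
  -- the subgroup of squares
  let T : Subgroup Y :=
    { carrier := {z | ∃ x ∈ Sq P, z = x ^ 2}
      one_mem' := ⟨1, (Sq P).one_mem, by simp⟩
      mul_mem' := by
        rintro _ _ ⟨x, hx, rfl⟩ ⟨y, hy, rfl⟩
        refine ⟨x * y, (Sq P).mul_mem hx hy, ?_⟩
        have := hab x hx y hy
        calc x ^ 2 * y ^ 2 = x * (x * y) * y := by rw [pow_two, pow_two]; group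
          _ = x * (y * x) * y := by rw [this]
          _ = (x * y) ^ 2 := by rw [pow_two]; group
      inv_mem' := by
        rintro _ ⟨x, hx, rfl⟩
        exact ⟨x⁻¹, (Sq P).inv_mem hx, by rw [inv_pow]⟩ }
  have hTn : T.Normal := by
    constructor
    rintro _ ⟨x, hx, rfl⟩ g
    refine ⟨g * x * g⁻¹, hΦn.conj_mem x hx g, ?_⟩
    rw [pow_two, pow_two]; group
  have hTU : T ≤ U := by
    rintro _ ⟨x, hx, rfl⟩
    exact hsqU x hx
  -- a representative outside `U`
  have hex : ∃ φ₀ ∈ Sq P, φ₀ ∉ U := by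
    by_contra hne
    push Not at hne
    have : Sq P ≤ U := hne
    have h1 := Subgroup.card_le_of_le this
    omega
  obtain ⟨φ₀, hφ₀, hφ₀U⟩ := hex
  have hTsub : (T : Set Y) ⊆ {1, φ₀ ^ 2} := by
    rintro _ ⟨x, hx, rfl⟩
    by_cases hxU : x ∈ U
    · left; exact hexp x hxU
    · right
      have h1 : φ₀⁻¹ * x ∈ U := by
        rw [hmul φ₀⁻¹ ((Sq P).inv_mem hφ₀) x hx]
        constructor
        · intro h'; exact absurd ((Subgroup.inv_mem_iff U).mp h') hφ₀U
        · intro h'; exact absurd h' hxU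
      have h2 := hcen _ h1 φ₀ (hΦP hφ₀)
      have h3 := hexp _ h1
      show x ^ 2 = φ₀ ^ 2
      calc x ^ 2 = φ₀ * ((φ₀⁻¹ * x) * φ₀) * (φ₀⁻¹ * x) := by rw [pow_two]; group
        _ = φ₀ * (φ₀ * (φ₀⁻¹ * x)) * (φ₀⁻¹ * x) := by rw [h2]
        _ = φ₀ ^ 2 * (φ₀⁻¹ * x) ^ 2 := by rw [pow_two, pow_two]; group
        _ = φ₀ ^ 2 := by rw [h3, mul_one]
  have hTcard : Nat.card T ≤ 2 := by
    have h1 : Nat.card (T : Set Y) ≤ Nat.card ({1, φ₀ ^ 2} : Set Y) :=
      Nat.card_mono (Set.toFinite _) hTsub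
    have h2 : Nat.card ({1, φ₀ ^ 2} : Set Y) ≤ 2 := by
      rw [Nat.card_coe_set_eq]
      have := Set.ncard_insert_le (1 : Y) ({φ₀ ^ 2} : Set Y)
      rw [Set.ncard_singleton] at this
      exact this
    exact h1.trans h2
  rcases hmin T hTn hTU with hT | hT
  · -- exponent two: rank
    have hsq : ∀ k ∈ Sq P, k ^ 2 ∈ (⊥ : Subgroup Y) := by
      intro k hk
      rw [← hT]
      exact ⟨k, hk, rfl⟩
    have hnorm : Sq P ≤ Subgroup.normalizer (((⊥ : Subgroup Y) : Subgroup Y) : Set Y) := by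
      apply le_normalizer_of_conj
      intro k _ m hm
      rw [Subgroup.mem_bot] at hm ⊢
      rw [hm]; group
    have := h.rank (Sq P) ⊥ bot_le hnorm hsq
    rw [Subgroup.card_bot, hΦ] at this
    omega
  · rw [hT, hU] at hTcard
    omega

end Setting

end Cfsg.Agent.Helper20.A5Q
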