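import Mathlib
import Cfsg.Agent.Lib.Helper20.A5QDefs
import Cfsg.Agent.Lib.Helper15.A5QVCARD

set_option autoImplicit false
set_option linter.unusedSectionVars false
set_option linter.unusedVariables false

/-!
S3106 piece T0.
-/

namespace Cfsg.Agent.Helper20.A5Q

open Cfsg.Agent.Helper22.SecRank

section Setting

variable {Y : Type*} [Group Y] [Finite Y] {P : Subgroup Y}

/-- **A5Q-T0.** -/
theorem elem_of_Sq_bot (h : A5S Y P) (h1 : Sq P = ⊥) :
    (∀ a b : ↥P, a * b = b * a) ∧ (∀ a : ↥P, a ^ 2 = 1) ∧ Nat.card P = 16 := by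
  have hsq : ∀ a : ↥P, a ^ 2 = 1 := by
    intro a
    apply Subtype.ext
    have : (a : Y) ^ 2 ∈ Sq P := sq_mem_Sq a.2
    rw [h1, Subgroup.mem_bot] at this
    simpa using this
  refine ⟨comm_of_sq hsq, hsq, ?_⟩
  have := card_P h
  rw [h1, Subgroup.card_bot, mul_one] at this
  exact this

end Setting

end Cfsg.Agent.Helper20.A5Q
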