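import Mathlib
import Cfsg.Agent.Lib.Helper20.A5QDefs
import Cfsg.Agent.Lib.Helper2.A5QCOMMSQ

set_option autoImplicit false
set_option linter.unusedSectionVars false
set_option linter.unusedVariables false

/-!
S3106 piece T4H: the section of rank `5`.
-/

namespace Cfsg.Agent.Helper20.A5Q

open Cfsg.Agent.Helper22.SecRank

section Setting

variable {Y : Type*} [Group Y] [Finite Y] {P : Subgroup Y}

/-- **A5Q-T4H.** The section of rank `5`. -/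
theorem top4_section (h : A5S Y P) (hcen : ∀ u ∈ Sq P, ∀ x ∈ P, u * x = x * u)
    (hexp : ∀ u ∈ Sq P, u ^ 2 = 1) (t : Y) (ht : t ∉ P) (ht2 : t ^ 2 ∈ Sq P)
    (B : Subgroup Y) (hB : ∀ b : Y, b ∈ B ↔ (b ∈ P ∧ t * b * t⁻¹ * b⁻¹ ∈ Sq P))
    (hBcard : Nat.card B = 4 * Nat.card (Sq P)) (hcard : Nat.card (Sq P) = 16)
    (K₀ : Subgroup Y) (hK : ∀ w : Y, w ∈ K₀ ↔ (w ∈ Sq P ∧ t * w * t⁻¹ = w))
    (hKcard : Nat.card K₀ = 4) : False := by
  have hPn : P.Normal := h.normal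
  have hΦn : (Sq P).Normal := Sq_normal P hPn
  have hΦP : Sq P ≤ P := Sq_le P
  -- `Sq P ≤ B`
  have hΦB : Sq P ≤ B := by
    intro w hw
    rw [hB]
    exact ⟨hΦP hw, (Sq P).mul_mem (hΦn.conj_mem w hw t) ((Sq P).inv_mem hw)⟩
  -- `t` normalizes `B`
  have htB : ∀ g ∈ B, t * g * t⁻¹ ∈ B := by
    intro g hg
    rw [hB] at hg ⊢
    refine ⟨hPn.conj_mem g hg.1 t, ?_⟩
    have e : t * (t * g * t⁻¹) * t⁻¹ * (t * g * t⁻¹)⁻¹ = t * (t * g * t⁻¹ * g⁻¹) * t⁻¹ := by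
      group
    rw [e]
    exact hΦn.conj_mem _ hg.2 t
  have ht2B : t ^ 2 ∈ B := hΦB ht2
  -- key facts about `b ∈ B`
  have hcfix : ∀ b ∈ B, t * (t * b * t⁻¹ * b⁻¹) * t⁻¹ = t * b * t⁻¹ * b⁻¹ := by
    intro b hb
    have hbP : b ∈ P := ((hB b).mp hb).1
    have hc : t * b * t⁻¹ * b⁻¹ ∈ Sq P := ((hB b).mp hb).2
    have h1 : t ^ 2 * b = b * t ^ 2 := hcen _ ht2 b hbP
    have hc2 : (t * b * t⁻¹ * b⁻¹) ^ 2 = 1 := hexp _ hc
    have hcinv : (t * b * t⁻¹ * b⁻¹)⁻¹ = t * b * t⁻¹ * b⁻¹ := by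
      rw [inv_eq_iff_mul_eq_one, ← pow_two]; exact hc2
    have e1 : t * (t * b * t⁻¹ * b⁻¹) * t⁻¹ = (t ^ 2 * b) * (t ^ 2)⁻¹ * (t * b * t⁻¹)⁻¹ := by
      rw [pow_two]; group
    rw [e1, h1]
    have e2 : b * t ^ 2 * (t ^ 2)⁻¹ * (t * b * t⁻¹)⁻¹ = (t * b * t⁻¹ * b⁻¹)⁻¹ := by group
    rw [e2, hcinv]
  have hsqfix : ∀ b ∈ B, t * b ^ 2 * t⁻¹ = b ^ 2 := by
    intro b hb
    have hbP : b ∈ P := ((hB b).mp hb).1
    have hc : t * b * t⁻¹ * b⁻¹ ∈ Sq P := ((hB b).mp hb).2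
    have hc2 : (t * b * t⁻¹ * b⁻¹) ^ 2 = 1 := hexp _ hc
    have hcb : (t * b * t⁻¹ * b⁻¹) * b = b * (t * b * t⁻¹ * b⁻¹) := hcen _ hc b hbP
    have e1 : t * b ^ 2 * t⁻¹ = ((t * b * t⁻¹ * b⁻¹) * b) * ((t * b * t⁻¹ * b⁻¹) * b) := by
      rw [pow_two]; group
    rw [e1]
    calc (t * b * t⁻¹ * b⁻¹) * b * ((t * b * t⁻¹ * b⁻¹) * b)
        = (t * b * t⁻¹ * b⁻¹) * (b * (t * b * t⁻¹ * b⁻¹)) * b := by group
      _ = (t * b * t⁻¹ * b⁻¹) * ((t * b * t⁻¹ * b⁻¹) * b) * b := by rw [hcb]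
      _ = (t * b * t⁻¹ * b⁻¹) ^ 2 * b ^ 2 := by rw [pow_two, pow_two]; group
      _ = b ^ 2 := by rw [hc2, one_mul]
  have ht2fix : t * t ^ 2 * t⁻¹ = t ^ 2 := by group
  -- the subgroup `H`
  let H : Subgroup Y := ext2 B t htB ht2B
  have hBH : B ≤ H := fun x hx => Or.inl hx
  have htH : t ∈ H := by
    right
    rw [mul_inv_cancel]; exact B.one_mem
  have hK₀Φ : K₀ ≤ Sq P := fun w hw => ((hK w).mp hw).1
  have hK₀H : K₀ ≤ H := fun w hw => hBH (hΦB (hK₀Φ hw))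
  -- squares
  have hsq : ∀ k ∈ H, k ^ 2 ∈ K₀ := by
    intro k hk
    rcases hk with hk | hk
    · rw [hK]
      exact ⟨sq_mem_Sq ((hB k).mp hk).1, hsqfix k hk⟩
    · -- `k = b * t`
      set b := k * t⁻¹ with hbdef
      have hkb : k = b * t := by rw [hbdef]; group
      have hbP : b ∈ P := ((hB b).mp hk).1
      have hc : t * b * t⁻¹ * b⁻¹ ∈ Sq P := ((hB b).mp hk).2
      have hcb : (t * b * t⁻¹ * b⁻¹) * b = b * (t * b * t⁻¹ * b⁻¹) := hcen _ hc b hbP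
      have e : k ^ 2 = (t * b * t⁻¹ * b⁻¹) * b ^ 2 * t ^ 2 := by
        rw [hkb]
        calc (b * t) ^ 2 = (b * (t * b * t⁻¹ * b⁻¹)) * b * t ^ 2 := by
              rw [pow_two, pow_two]; group
          _ = ((t * b * t⁻¹ * b⁻¹) * b) * b * t ^ 2 := by rw [hcb]
          _ = (t * b * t⁻¹ * b⁻¹) * b ^ 2 * t ^ 2 := by rw [pow_two]; group
      rw [e, hK]
      refine ⟨(Sq P).mul_mem ((Sq P).mul_mem hc (sq_mem_Sq hbP)) ht2, ?_⟩
      have e2 : t * ((t * b * t⁻¹ * b⁻¹) * b ^ 2 * t ^ 2) * t⁻¹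
          = (t * (t * b * t⁻¹ * b⁻¹) * t⁻¹) * (t * b ^ 2 * t⁻¹) * (t * t ^ 2 * t⁻¹) := by group
      rw [e2, hcfix b hk, hsqfix b hk, ht2fix]
  -- `H` normalizes `K₀` (it centralizes it)
  have hnorm : H ≤ Subgroup.normalizer (K₀ : Set Y) := by
    apply le_normalizer_of_conj
    intro k hk m hm
    have hmΦ : m ∈ Sq P := hK₀Φ hm
    have hmt : t * m * t⁻¹ = m := ((hK m).mp hm).2
    rcases hk with hk | hk
    · have hkP : k ∈ P := ((hB k).mp hk).1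
      have : k * m * k⁻¹ = m := by
        have := hcen m hmΦ k hkP
        calc k * m * k⁻¹ = (m * k) * k⁻¹ := by rw [this]
          _ = m := by group
      rw [this]; exact hm
    · set b := k * t⁻¹ with hbdef
      have hkb : k = b * t := by rw [hbdef]; group
      have hbP : b ∈ P := ((hB b).mp hk).1
      have : k * m * k⁻¹ = m := by
        rw [hkb]
        have h1 := hcen m hmΦ b hbP
        calc b * t * m * (b * t)⁻¹ = b * (t * m * t⁻¹) * b⁻¹ := by group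
          _ = b * m * b⁻¹ := by rw [hmt]
          _ = (m * b) * b⁻¹ := by rw [h1]
          _ = m := by group
      rw [this]; exact hm
  have hrank := h.rank H K₀ hK₀H hnorm hsq
  -- `|H| ≥ 2 |B|`
  have hBne : B ≠ H := by
    intro hEq
    have : t ∈ B := hEq ▸ htH
    exact ht ((hB t).mp this).1
  have hdvd : Nat.card B ∣ Nat.card H := Subgroup.card_dvd_of_le hBH
  obtain ⟨m, hm⟩ := hdvd
  have hHpos : 0 < Nat.card H := Nat.card_pos
  have hm1 : m ≠ 1 := by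
    intro h1
    apply hBne
    apply Subgroup.eq_of_le_of_card_ge hBH
    rw [hm, h1, mul_one]
  have hm0 : m ≠ 0 := by
    intro h0
    rw [h0, mul_zero] at hm
    omega
  have hm2 : 2 ≤ m := by omega
  have : 2 * Nat.card B ≤ Nat.card H := by
    rw [hm]; nlinarith
  rw [hBcard, hcard] at this
  rw [hKcard] at hrank
  omega

end Setting

end Cfsg.Agent.Helper20.A5Q
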