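import Mathlib
import Cfsg.Agent.Lib.Helper20.A5QDefs
import Cfsg.Agent.Lib.Helper2.A5QCOMMSQ
import Cfsg.Agent.Lib.Helper19.A5QCF0
import Cfsg.Agent.Lib.Helper18.A5QD10

set_option autoImplicit false
set_option linter.unusedSectionVars false
set_option linter.unusedVariables false
set_option linter.style.haveILetI false

/-!
S3106 piece T4K.
-/

namespace Cfsg.Agent.Helper20.A5Q

open Cfsg.Agent.Helper22.SecRank

section Setting

variable {Y : Type*} [Group Y] [Finite Y] {P : Subgroup Y}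

/-- an element of order `5` is not in a `2`-subgroup -/
theorem t4k_not_mem (hP : IsPGroup 2 P) (f : Y) (hf : orderOf f = 5) : f ∉ P := by
  intro hfP
  obtain ⟨k, hk⟩ := hP ⟨f, hfP⟩
  have h1 : f ^ (2 ^ k) = 1 := by
    have := congrArg Subtype.val hk
    simpa using this
  have h2 : orderOf f ∣ 2 ^ k := orderOf_dvd_of_pow_eq_one h1
  rw [hf] at h2
  have h3 : (5 : ℕ) ∣ 2 := Nat.Prime.dvd_of_dvd_pow (by norm_num) h2
  omega

/-- **A5Q-T4K.** `C_Φ(t)` when `Φ(P)` is minimal normal of order `16`. -/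
theorem exists_fixW (h : A5S Y P) (hcard : Nat.card (Sq P) = 16)
    (hmin : ∀ K : Subgroup Y, K.Normal → K ≤ Sq P → K = ⊥ ∨ K = Sq P)
    (f : Y) (hf : orderOf f = 5) (t : Y) (ht : t ∉ P)
    (ht2 : t ^ 2 ∈ P) (hinv : t * f * t⁻¹ * f ∈ P) :
    ∃ K₀ : Subgroup Y, (∀ w : Y, w ∈ K₀ ↔ (w ∈ Sq P ∧ t * w * t⁻¹ = w)) ∧ Nat.card K₀ = 4 := by
  classical
  have hPn : P.Normal := h.normal
  haveI hΦn : (Sq P).Normal := Sq_normal P hPn
  have hΦP : Sq P ≤ P := Sq_le P
  have hΦ1 : Sq P ≠ ⊥ := by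
    intro hb
    rw [hb, Subgroup.card_bot] at hcard
    omega
  obtain ⟨hcen, hexp, -⟩ := min_normal_facts h (Sq P) hΦn le_rfl hΦ1 hmin
  have hW : ∀ w : ↥(Sq P), w * w = 1 := by
    intro w
    apply Subtype.ext
    have := hexp w.1 w.2
    rw [pow_two] at this
    simpa using this
  -- elements of `P` act trivially
  have htriv : ∀ p ∈ P, MulAut.conjNormal (H := Sq P) p = 1 := by
    intro p hp
    ext w
    rw [MulAut.conjNormal_apply, MulAut.one_apply]
    have := hcen w.1 w.2 p hp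
    calc p * (w : Y) * p⁻¹ = ((w : Y) * p) * p⁻¹ := by rw [this]
      _ = w := by group
  set φ : MulAut ↥(Sq P) := MulAut.conjNormal (H := Sq P) f with hφdef
  set τ : MulAut ↥(Sq P) := MulAut.conjNormal (H := Sq P) t with hτdef
  have hφ5 : φ ^ 5 = 1 := by
    rw [hφdef, ← map_pow, ← hf, pow_orderOf_eq_one, map_one]
  have hτ : τ * τ = 1 := by
    rw [hτdef, ← map_mul, ← pow_two]
    exact htriv _ ht2
  have hinv' : τ * φ * τ⁻¹ = φ⁻¹ := by
    have h1 : τ * φ * τ⁻¹ * φ = 1 := by
      rw [hτdef, hφdef, ← map_inv, ← map_mul, ← map_mul, ← map_mul]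
      exact htriv _ hinv
    exact eq_inv_of_mul_eq_one_left h1
  have hfP : f ∉ P := t4k_not_mem h.pgroup f hf
  have hφ : φ ≠ 1 := by
    intro hφ1
    -- `f` centralizes `Sq P`
    have hfc : f ∈ Subgroup.centralizer ((Sq P : Subgroup Y) : Set Y) := by
      rw [Subgroup.mem_centralizer_iff]
      intro w hw
      have h1 : φ ⟨w, hw⟩ = ⟨w, hw⟩ := by rw [hφ1, MulAut.one_apply]
      have h2 := congrArg Subtype.val h1
      rw [hφdef, MulAut.conjNormal_apply] at h2
      simp only at h2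
      calc w * f = (f * w * f⁻¹) * f := by rw [h2]
        _ = f * w := by group
    have hCn : (Subgroup.centralizer ((Sq P : Subgroup Y) : Set Y)).Normal := inferInstance
    have hPC : P ≤ Subgroup.centralizer ((Sq P : Subgroup Y) : Set Y) := by
      intro p hp
      rw [Subgroup.mem_centralizer_iff]
      intro w hw
      exact hcen w hw p hp
    rcases h.simple _ hCn hPC with hC | hC
    · exact hfP (hC ▸ hfc)
    · -- `Sq P` is central in `Y`
      have hcenY : ∀ w ∈ Sq P, ∀ g : Y, g * w = w * g := by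
        intro w hw g
        have hg : g ∈ Subgroup.centralizer ((Sq P : Subgroup Y) : Set Y) := by
          rw [hC]; exact Subgroup.mem_top g
        rw [Subgroup.mem_centralizer_iff] at hg
        exact (hg w hw).symm
      obtain ⟨u, huΦ, hu1⟩ : ∃ u ∈ Sq P, u ≠ 1 := by
        by_contra hne
        push Not at hne
        apply hΦ1
        rw [eq_bot_iff]
        intro w hw
        rw [Subgroup.mem_bot]
        exact hne w hw
      have hZn : (Subgroup.zpowers u).Normal := by
        constructor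
        intro n hn g
        obtain ⟨k, rfl⟩ := Subgroup.mem_zpowers_iff.mp hn
        have hk : u ^ k ∈ Sq P := (Sq P).zpow_mem huΦ k
        have := hcenY _ hk g
        have e : g * u ^ k * g⁻¹ = u ^ k := by
          calc g * u ^ k * g⁻¹ = (u ^ k * g) * g⁻¹ := by rw [this]
            _ = u ^ k := by group
        rw [e]
        exact Subgroup.zpow_mem_zpowers u k
      have hZle : Subgroup.zpowers u ≤ Sq P := by
        rw [Subgroup.zpowers_le]; exact huΦ
      rcases hmin _ hZn hZle with hZ | hZ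
      · apply hu1
        have : u ∈ Subgroup.zpowers u := Subgroup.mem_zpowers u
        rw [hZ, Subgroup.mem_bot] at this
        exact this
      · have h1 : Nat.card (Subgroup.zpowers u) = orderOf u := Nat.card_zpowers u
        have h2 : orderOf u ∣ 2 := orderOf_dvd_of_pow_eq_one (hexp u huΦ)
        have h3 : orderOf u ≤ 2 := Nat.le_of_dvd (by norm_num) h2
        rw [hZ, hcard] at h1
        omega
  have hcardW : Nat.card ↥(Sq P) = 16 := hcard
  obtain ⟨h4, -, -⟩ := d10_fixed hW hcardW φ τ hφ5 hφ hτ hinv'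
  have hmem : ∀ w : Y, w ∈ Sq P ⊓ Subgroup.centralizer {t} ↔ (w ∈ Sq P ∧ t * w * t⁻¹ = w) := by
    intro w
    rw [Subgroup.mem_inf, Subgroup.mem_centralizer_iff]
    constructor
    · rintro ⟨hw, hc⟩
      refine ⟨hw, ?_⟩
      have := hc t rfl
      calc t * w * t⁻¹ = (w * t) * t⁻¹ := by rw [this]
        _ = w := by group
    · rintro ⟨hw, hc⟩
      refine ⟨hw, ?_⟩
      intro x hx
      rw [Set.mem_singleton_iff] at hx
      rw [hx]
      calc t * w = (t * w * t⁻¹) * t := by group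
        _ = w * t := by rw [hc]
  have hτapp : ∀ w : ↥(Sq P), ((τ w : ↥(Sq P)) : Y) = t * (w : Y) * t⁻¹ :=
    fun w => MulAut.conjNormal_apply (H := Sq P) t w
  refine ⟨Sq P ⊓ Subgroup.centralizer {t}, hmem, ?_⟩
  rw [← h4]
  refine Nat.card_congr ⟨fun x => ⟨⟨x.1, ((hmem x.1).mp x.2).1⟩, ?_⟩,
    fun x => ⟨x.1.1, (hmem x.1.1).mpr ⟨x.1.2, ?_⟩⟩, ?_, ?_⟩
  · apply Subtype.ext
    rw [hτapp]
    exact ((hmem x.1).mp x.2).2
  · have h1 := congrArg Subtype.val x.2
    rw [hτapp] at h1
    exact h1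
  · intro x; rfl
  · intro x; rfl

end Setting

end Cfsg.Agent.Helper20.A5Q
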