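import Mathlib
import Cfsg.Agent.Lib.Helper20.A5QDefs

set_option autoImplicit false
set_option linter.unusedSectionVars false
set_option linter.unusedVariables false

/-!
S3106 piece TR: transport of `IsQ8D8` along an isomorphism.
-/

namespace Cfsg.Agent.Helper20.A5Q

open Cfsg.Agent.Helper22.SecRank

section TwoGroups

variable {C : Type*} [Group C] [Finite C]

theorem tr_map_center {G G' : Type*} [Group G] [Group G'] (ε : G ≃* G') :
    (Subgroup.center G).map ε.toMonoidHom = Subgroup.center G' := by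
  ext x
  rw [Subgroup.mem_map, Subgroup.mem_center_iff]
  constructor
  · rintro ⟨z, hz, rfl⟩ g
    rw [Subgroup.mem_center_iff] at hz
    have := congrArg ε (hz (ε.symm g))
    simpa using this
  · intro hx
    refine ⟨ε.symm x, ?_, by simp⟩
    rw [Subgroup.mem_center_iff]
    intro g
    apply ε.injective
    simpa using hx (ε g)

/-- **A5Q-TR.** Transport of the structure along an isomorphism. -/
theorem IsQ8D8.of_equiv {G G' : Type*} [Group G] [Group G'] (ε : G ≃* G') (h : IsQ8D8 G) :
    IsQ8D8 G' := by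
  obtain ⟨hcard, A, B, ⟨eA⟩, ⟨eB⟩, hcomm, hsup, hinf⟩ := h
  refine ⟨by rw [← hcard]; exact Nat.card_congr ε.symm.toEquiv, A.map ε.toMonoidHom,
    B.map ε.toMonoidHom, ⟨(ε.subgroupMap A).symm.trans eA⟩, ⟨(ε.subgroupMap B).symm.trans eB⟩,
    ?_, ?_, ?_⟩
  · rintro _ ⟨a, ha, rfl⟩ _ ⟨b, hb, rfl⟩
    have := congrArg ε (hcomm a ha b hb)
    simpa using this
  · rw [← Subgroup.map_sup, hsup]
    ext x
    simp only [Subgroup.mem_map, Subgroup.mem_top, true_and, iff_true]
    exact ⟨ε.symm x, by simp⟩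
  · rw [← tr_map_center ε, ← hinf]
    exact (Subgroup.map_inf _ _ ε.toMonoidHom ε.injective).symm

end TwoGroups

end Cfsg.Agent.Helper20.A5Q
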