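import Mathlib
import Cfsg.Agent.Lib.Helper8.ABDefs

/-!
# S3301 piece AB-LEMD: an element of `C(u)` acting on `Q` by `e ↦ e` or `e ↦ e u` lies in `Q`
-/

set_option autoImplicit false

namespace Cfsg.Agent.Helper8.AB

open Cfsg.Agent.Helper8.XS

/-- the subgroup `D` of all elements of `C(u)` acting on `Q` by `e ↦ e` or `e ↦ e u` -/
def ablemd_D {G : Type*} [Group G] (u : G) (Q : Subgroup G) (huu : u * u = 1) : Subgroup G where
  carrier := {d | d * u = u * d ∧ ∀ e ∈ Q, d * e * d⁻¹ = e ∨ d * e * d⁻¹ = e * u}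
  one_mem' := by
    refine ⟨by simp, fun e _ => Or.inl (by simp)⟩
  mul_mem' := by
    rintro a b ⟨hau, ha⟩ ⟨hbu, hb⟩
    have hau' : a * u * a⁻¹ = u := by rw [hau]; group
    refine ⟨by rw [mul_assoc, hbu, ← mul_assoc, hau, mul_assoc], fun e he => ?_⟩
    have h1 : a * b * e * (a * b)⁻¹ = a * (b * e * b⁻¹) * a⁻¹ := by group
    rw [h1]
    rcases hb e he with h | h
    · rw [h]; exact ha e he
    · rw [h]
      have h2 : a * (e * u) * a⁻¹ = (a * e * a⁻¹) * (a * u * a⁻¹) := by group
      rw [h2, hau']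
      rcases ha e he with h' | h'
      · rw [h']; exact Or.inr rfl
      · rw [h', mul_assoc, huu, mul_one]; exact Or.inl rfl
  inv_mem' := by
    rintro a ⟨hau, ha⟩
    have hau' : a⁻¹ * u = u * a⁻¹ := by
      calc a⁻¹ * u = a⁻¹ * (u * a) * a⁻¹ := by group
        _ = a⁻¹ * (a * u) * a⁻¹ := by rw [hau]
        _ = u * a⁻¹ := by group
    refine ⟨hau', fun e he => ?_⟩
    rw [inv_inv]
    rcases ha e he with h | h
    · left
      calc a⁻¹ * e * a = a⁻¹ * (a * e * a⁻¹) * a := by rw [h]
        _ = e := by group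
    · right
      have h3 : a⁻¹ * e * a * u = e := by
        calc a⁻¹ * e * a * u = a⁻¹ * (e * u) * a := by
              rw [mul_assoc (a⁻¹ * e), hau, ← mul_assoc, mul_assoc a⁻¹ e u]
          _ = a⁻¹ * (a * e * a⁻¹) * a := by rw [h]
          _ = e := by group
      calc a⁻¹ * e * a = a⁻¹ * e * a * (u * u) := by rw [huu, mul_one]
        _ = (a⁻¹ * e * a * u) * u := by group
        _ = e * u := by rw [h3]

/-- PIECE AB-LEMD -/
theorem mem_of_central_action {G : Type*} [Group G] {u : G} {Q : Subgroup G} (l : Loc u Q)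
    (t : G) (htu : t * u = u * t)
    (hact : ∀ e ∈ Q, t * e * t⁻¹ = e ∨ t * e * t⁻¹ = e * u) : t ∈ Q := by
  have huu := l.xs.hzz
  have htD : t ∈ ablemd_D u Q huu := ⟨htu, hact⟩
  refine l.hmax (ablemd_D u Q huu) (fun m hm => hm.1) ?_ ?_ htD
  · -- normal in `C(u)`
    intro h hh m hm
    have hh' : h⁻¹ * u = u * h⁻¹ := by
      calc h⁻¹ * u = h⁻¹ * (u * h) * h⁻¹ := by group
        _ = h⁻¹ * (h * u) * h⁻¹ := by rw [hh]
        _ = u * h⁻¹ := by group
    have hhu : h * u * h⁻¹ = u := by rw [hh]; group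
    refine ⟨?_, fun e he => ?_⟩
    · calc h * m * h⁻¹ * u = h * m * (h⁻¹ * u) := by group
        _ = h * m * (u * h⁻¹) := by rw [hh']
        _ = h * (m * u) * h⁻¹ := by group
        _ = h * (u * m) * h⁻¹ := by rw [hm.1]
        _ = (h * u) * m * h⁻¹ := by group
        _ = (u * h) * m * h⁻¹ := by rw [hh]
        _ = u * (h * m * h⁻¹) := by group
    · have he' : h⁻¹ * e * h ∈ Q := by
        have := l.hn h⁻¹ hh' e he
        rwa [inv_inv] at this
      have h1 : h * m * h⁻¹ * e * (h * m * h⁻¹)⁻¹ = h * (m * (h⁻¹ * e * h) * m⁻¹) * h⁻¹ := by group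
      rw [h1]
      rcases hm.2 _ he' with h2 | h2
      · left; rw [h2]; group
      · right; rw [h2]
        calc h * (h⁻¹ * e * h * u) * h⁻¹ = e * (h * u * h⁻¹) := by group
          _ = e * u := by rw [hhu]
  · -- a `2`-group: fourth powers are trivial
    intro d
    refine ⟨2, ?_⟩
    obtain ⟨d, hdu, hd⟩ := d
    have hcent : ∀ e ∈ Q, (d * d) * e = e * (d * d) := by
      intro e he
      have h1 : d * d * e * (d * d)⁻¹ = e := by
        have h2 : d * d * e * (d * d)⁻¹ = d * (d * e * d⁻¹) * d⁻¹ := by group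
        have hdu' : d * u * d⁻¹ = u := by rw [hdu]; group
        rw [h2]
        rcases hd e he with h | h
        · rw [h]
          rcases hd e he with h' | h'
          · exact h'
          · exact h
        · rw [h]
          have h3 : d * (e * u) * d⁻¹ = (d * e * d⁻¹) * (d * u * d⁻¹) := by group
          rw [h3, hdu', h, mul_assoc, huu, mul_one]
      calc d * d * e = (d * d * e * (d * d)⁻¹) * (d * d) := by group
        _ = e * (d * d) := by rw [h1]
    have hddQ : d * d ∈ Q := l.hcent _ hcent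
    have h4 : (d * d) * (d * d) = 1 := by
      rcases l.xs.hcenter _ hddQ hcent with h | h
      · rw [h, mul_one]
      · rw [h, huu]
    apply Subtype.ext
    simp only [Subgroup.coe_pow, Subgroup.coe_one]
    calc d ^ 2 ^ 2 = (d * d) * (d * d) := by
          norm_num [pow_succ, mul_assoc]
      _ = 1 := h4

end Cfsg.Agent.Helper8.AB
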