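import Mathlib
import Cfsg.Agent.Lib.Helper8.ABDefs
import Cfsg.Agent.Lib.Helper2.ABLEMD

/-!
# S3301 piece AB-LEMT: for an involution `t ∈ C(u) \ Q`, the centralizer `C_Q(t)` has index at least `4` in `Q`
-/

set_option autoImplicit false

namespace Cfsg.Agent.Helper8.AB

open Cfsg.Agent.Helper8.XS

/-- the hard case: `e'` does not commute with `t` and `Q = F ∪ e' F` -/
theorem ablemt_core {G : Type*} [Group G] {u : G} {Q : Subgroup G} (l : Loc u Q)
    (t : G) (htt : t * t = 1) (htu : t * u = u * t) (htQ : t ∉ Q)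
    (e' : G) (he' : e' ∈ Q) (het : ¬ e' * t = t * e')
    (hF : ∀ e ∈ Q, e * t = t * e ∨ e'⁻¹ * e * t = t * (e'⁻¹ * e)) : False := by
  obtain ⟨c, hc⟩ : ∃ c, c = e'⁻¹ * (t * e' * t⁻¹) := ⟨_, rfl⟩
  have hcQ : c ∈ Q := by
    rw [hc]; exact Q.mul_mem (Q.inv_mem he') (l.hn t htu e' he')
  have hte' : t * e' * t⁻¹ = e' * c := by rw [hc]; group
  have hc1 : c ≠ 1 := by
    intro h
    apply het
    have h1 : t * e' * t⁻¹ = e' := by rw [hte', h, mul_one]
    calc e' * t = (t * e' * t⁻¹) * t := by rw [h1]
      _ = t * e' := by group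
  have hutc : t * u * t⁻¹ = u := by rw [htu]; group
  -- (1) `c` commutes with `F`
  have hcF : ∀ f ∈ Q, f * t = t * f → c * f = f * c := by
    intro f hf hft
    have htf : t * f * t⁻¹ = f := by rw [← hft]; group
    rcases l.xs.hcomm f hf e' he' with h | h
    · have h1 : f * (e' * c) = (e' * c) * f := by
        calc f * (e' * c) = (t * f * t⁻¹) * (t * e' * t⁻¹) := by rw [htf, hte']
          _ = t * (f * e') * t⁻¹ := by group
          _ = t * (e' * f) * t⁻¹ := by rw [h]
          _ = (t * e' * t⁻¹) * (t * f * t⁻¹) := by group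
          _ = (e' * c) * f := by rw [htf, hte']
      have h2 : e' * (f * c) = e' * (c * f) := by
        calc e' * (f * c) = (e' * f) * c := by group
          _ = (f * e') * c := by rw [h]
          _ = f * (e' * c) := by group
          _ = (e' * c) * f := h1
          _ = e' * (c * f) := by group
      exact (mul_left_cancel h2).symm
    · have h1 : f * (e' * c) = u * ((e' * c) * f) := by
        calc f * (e' * c) = (t * f * t⁻¹) * (t * e' * t⁻¹) := by rw [htf, hte']
          _ = t * (f * e') * t⁻¹ := by group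
          _ = t * (u * (e' * f)) * t⁻¹ := by rw [h]
          _ = (t * u * t⁻¹) * ((t * e' * t⁻¹) * (t * f * t⁻¹)) := by group
          _ = u * ((e' * c) * f) := by rw [htf, hte', hutc]
      have h2 : u * (e' * (f * c)) = u * (e' * (c * f)) := by
        calc u * (e' * (f * c)) = (u * (e' * f)) * c := by group
          _ = (f * e') * c := by rw [h]
          _ = f * (e' * c) := by group
          _ = u * ((e' * c) * f) := h1
          _ = u * (e' * (c * f)) := by group
      exact (mul_left_cancel (mul_left_cancel h2)).symm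
  -- (2) `t` inverts `c`
  have htc : t * c * t⁻¹ = c⁻¹ := by
    have h1 : t * c * t⁻¹ = (t * e' * t⁻¹)⁻¹ * ((t * t) * e' * (t * t)⁻¹) := by rw [hc]; group
    rw [h1, htt, hte']; group
  by_cases hce : c * e' = e' * c
  · -- `c` is central in `Q`, so `c = u` and `t` acts centrally
    have hcen : ∀ e ∈ Q, c * e = e * c := by
      intro e he
      rcases hF e he with h | h
      · exact hcF e he h
      · have h1 := hcF (e'⁻¹ * e) (Q.mul_mem (Q.inv_mem he') he) h
        calc c * e = (c * e') * (e'⁻¹ * e) := by group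
          _ = (e' * c) * (e'⁻¹ * e) := by rw [hce]
          _ = e' * (c * (e'⁻¹ * e)) := by group
          _ = e' * ((e'⁻¹ * e) * c) := by rw [h1]
          _ = e * c := by group
    have hcu : c = u := by
      rcases l.xs.hcenter c hcQ hcen with h | h
      · exact absurd h hc1
      · exact h
    apply htQ
    apply mem_of_central_action l t htu
    intro e he
    rcases hF e he with h | h
    · left; rw [← h]; group
    · right
      have htf : t * (e'⁻¹ * e) * t⁻¹ = e'⁻¹ * e := by rw [← h]; group
      calc t * e * t⁻¹ = (t * e' * t⁻¹) * (t * (e'⁻¹ * e) * t⁻¹) := by group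
        _ = (e' * u) * (e'⁻¹ * e) := by rw [htf, hte', hcu]
        _ = e' * (u * (e'⁻¹ * e)) := by group
        _ = e' * ((e'⁻¹ * e) * u) := by
            rw [l.xs.hcen (e'⁻¹ * e) (Q.mul_mem (Q.inv_mem he') he)]
        _ = e * u := by group
  · -- `c` does not commute with `e'`
    have hct : c * t = t * c := by
      rcases hF c hcQ with h | h
      · exact h
      · exfalso
        apply hce
        have h1 := hcF (e'⁻¹ * c) (Q.mul_mem (Q.inv_mem he') hcQ) h
        have h2 : c * e'⁻¹ = e'⁻¹ * c := by
          have h3 : c * e'⁻¹ * c = e'⁻¹ * c * c := by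
            calc c * e'⁻¹ * c = c * (e'⁻¹ * c) := by group
              _ = e'⁻¹ * c * c := h1
          exact mul_right_cancel h3
        calc c * e' = e' * (e'⁻¹ * c) * e' := by group
          _ = e' * (c * e'⁻¹) * e' := by rw [h2]
          _ = e' * c := by group
    have hcc : c * c = 1 := by
      have h1 : t * c * t⁻¹ = c := by rw [← hct]; group
      rw [h1] at htc
      exact mul_eq_one_iff_eq_inv.2 htc
    have hsq : (e' * c) * (e' * c) = e' * e' := by
      have hee : t * (e' * e') * t⁻¹ = e' * e' := by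
        rcases l.xs.hsq e' he' with h | h
        · rw [h]; group
        · rw [h, htu]; group
      calc (e' * c) * (e' * c) = (t * e' * t⁻¹) * (t * e' * t⁻¹) := by rw [hte']
        _ = t * (e' * e') * t⁻¹ := by group
        _ = e' * e' := hee
    apply hce
    have h1 : c * e' * c = e' := by
      have h2 : e' * (c * e' * c) = e' * e' := by rw [← hsq]; group
      exact mul_left_cancel h2
    calc c * e' = (c * e' * c) * c⁻¹ := by group
      _ = e' * c⁻¹ := by rw [h1]
      _ = e' * c := by rw [inv_eq_of_mul_eq_one_left hcc]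

/-- PIECE AB-LEMT -/
theorem cent_index_ge_four {G : Type*} [Group G] {u : G} {Q : Subgroup G} (l : Loc u Q)
    (t : G) (htt : t * t = 1) (htu : t * u = u * t) (htQ : t ∉ Q) :
    ∀ e' ∈ Q, ∃ e ∈ Q, e * t ≠ t * e ∧ (e'⁻¹ * e) * t ≠ t * (e'⁻¹ * e) := by
  intro e' he'
  by_contra hcon
  push Not at hcon
  have hF : ∀ e ∈ Q, e * t = t * e ∨ e'⁻¹ * e * t = t * (e'⁻¹ * e) := by
    intro e he
    by_cases h : e * t = t * e
    · exact Or.inl h
    · exact Or.inr (hcon e he h)
  have hex : ∃ e₁ ∈ Q, e₁ * t ≠ t * e₁ := by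
    by_contra hno
    push Not at hno
    exact htQ (l.hcent t (fun e he => (hno e he).symm))
  by_cases het : e' * t = t * e'
  · obtain ⟨e₁, he₁, hne⟩ := hex
    apply hne
    have h1 := hcon e₁ he₁ hne
    calc e₁ * t = e' * ((e'⁻¹ * e₁) * t) := by group
      _ = e' * (t * (e'⁻¹ * e₁)) := by rw [h1]
      _ = (e' * t) * (e'⁻¹ * e₁) := by group
      _ = (t * e') * (e'⁻¹ * e₁) := by rw [het]
      _ = t * e₁ := by group
  · exact ablemt_core l t htt htu htQ e' he' het hF

end Cfsg.Agent.Helper8.AB
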