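import Mathlib
import Cfsg.Agent.Lib.Helper8.ABDefs

/-!
# S3301 piece AB-NIL: `conj - 1` is nilpotent on the elementary abelian `2`-group `Q / F`
-/

set_option autoImplicit false

namespace Cfsg.Agent.Helper8.AB

section nil

variable {G : Type*} [Group G]

/-- `κ_v x = v⁻¹ x⁻¹ v x` -/
def abnil_k (v x : G) : G := v⁻¹ * x⁻¹ * v * x

theorem abnil_normal (Q F : Subgroup G)
    (hcomm : ∀ x ∈ Q, ∀ w ∈ Q, x * w * x⁻¹ * w⁻¹ ∈ F) (hFQ : F ≤ Q)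
    (x : G) (hx : x ∈ Q) (f : G) (hf : f ∈ F) : x * f * x⁻¹ ∈ F := by
  have := F.mul_mem (hcomm x hx f (hFQ hf)) hf
  simpa [mul_assoc] using this

theorem abnil_kQ (Q : Subgroup G) (v : G) (hvQ : ∀ x ∈ Q, v⁻¹ * x * v ∈ Q) (x : G) (hx : x ∈ Q) :
    abnil_k v x ∈ Q := by
  have := Q.mul_mem (hvQ x⁻¹ (Q.inv_mem hx)) hx
  exact this

theorem abnil_sq (Q F : Subgroup G) (hsq : ∀ x ∈ Q, x * x ∈ F)
    (v : G) (hvQ : ∀ x ∈ Q, v⁻¹ * x * v ∈ Q) (x : G) (hx : x ∈ Q) :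
    (abnil_k v (abnil_k v x) ∈ F ↔ abnil_k (v ^ 2) x ∈ F) := by
  have ha : v⁻¹ * x * v ∈ Q := hvQ x hx
  have hb : v⁻¹ * (v⁻¹ * x * v) * v ∈ Q := hvQ _ ha
  have hc : (v⁻¹ * x * v)⁻¹ * (v⁻¹ * (v⁻¹ * x * v) * v) ∈ Q := Q.mul_mem (Q.inv_mem ha) hb
  have hcc := hsq _ hc
  have heq : abnil_k v (abnil_k v x) =
      ((v⁻¹ * x * v)⁻¹ * (v⁻¹ * (v⁻¹ * x * v) * v) * ((v⁻¹ * x * v)⁻¹ * (v⁻¹ * (v⁻¹ * x * v) * v))) *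
        abnil_k (v ^ 2) x := by
    unfold abnil_k
    rw [pow_two]
    group
  rw [heq]
  exact F.mul_mem_cancel_left hcc

theorem abnil_shift (Q F : Subgroup G) (hFQ : F ≤ Q)
    (hcomm : ∀ x ∈ Q, ∀ w ∈ Q, x * w * x⁻¹ * w⁻¹ ∈ F)
    (w : G) (hwF : ∀ x ∈ F, w⁻¹ * x * w ∈ F) (f : G) (hf : f ∈ F) (y : G) (hy : y ∈ Q) :
    (abnil_k w (f * y) ∈ F ↔ abnil_k w y ∈ F) := by
  have h1 : w⁻¹ * f⁻¹ * w * f ∈ F := F.mul_mem (hwF f⁻¹ (F.inv_mem hf)) hf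
  have h2 : y⁻¹ * (w⁻¹ * f⁻¹ * w * f) * y ∈ F := by
    have := abnil_normal Q F hcomm hFQ y⁻¹ (Q.inv_mem hy) _ h1
    rwa [inv_inv] at this
  have heq : abnil_k w (f * y) = abnil_k w y * (y⁻¹ * (w⁻¹ * f⁻¹ * w * f) * y) := by
    unfold abnil_k
    group
  rw [heq]
  exact F.mul_mem_cancel_right h2

theorem abnil_main (Q F : Subgroup G) (hFQ : F ≤ Q)
    (hsq : ∀ x ∈ Q, x * x ∈ F) (hcomm : ∀ x ∈ Q, ∀ w ∈ Q, x * w * x⁻¹ * w⁻¹ ∈ F) (k : ℕ) :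
    ∀ v : G, v ^ 2 ^ k = 1 → (∀ x ∈ Q, v⁻¹ * x * v ∈ Q) → (∀ x ∈ F, v⁻¹ * x * v ∈ F) →
      ∀ e₀ ∈ Q, abnil_k v e₀ ∉ F → ∃ e ∈ Q, abnil_k v e ∉ F ∧ abnil_k (v ^ 2) e ∈ F := by
  induction k with
  | zero =>
    intro v hv hvQ hvF e₀ he₀ h0
    exfalso
    apply h0
    rw [pow_zero, pow_one] at hv
    subst hv
    unfold abnil_k
    simp
  | succ k ih =>
    intro v hv hvQ hvF e₀ he₀ h0
    by_cases h2 : abnil_k (v ^ 2) e₀ ∈ F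
    · exact ⟨e₀, he₀, h0, h2⟩
    · have hv2 : (v ^ 2) ^ 2 ^ k = 1 := by
        rw [← pow_mul, ← pow_succ']
        exact hv
      have hv2Q : ∀ x ∈ Q, (v ^ 2)⁻¹ * x * v ^ 2 ∈ Q := by
        intro x hx
        have := hvQ _ (hvQ x hx)
        have h : (v ^ 2)⁻¹ * x * v ^ 2 = v⁻¹ * (v⁻¹ * x * v) * v := by
          rw [pow_two]; group
        rw [h]; exact this
      have hv2F : ∀ x ∈ F, (v ^ 2)⁻¹ * x * v ^ 2 ∈ F := by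
        intro x hx
        have := hvF _ (hvF x hx)
        have h : (v ^ 2)⁻¹ * x * v ^ 2 = v⁻¹ * (v⁻¹ * x * v) * v := by
          rw [pow_two]; group
        rw [h]; exact this
      obtain ⟨e₁, he₁, h3, h4⟩ := ih (v ^ 2) hv2 hv2Q hv2F e₀ he₀ h2
      -- `y := κ_{v²} e₁ ∉ F`, `κ_{v²} y ∈ F`
      have hyQ : abnil_k (v ^ 2) e₁ ∈ Q := abnil_kQ Q _ hv2Q e₁ he₁
      have hy2 : abnil_k (v ^ 2) (abnil_k (v ^ 2) e₁) ∈ F :=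
        (abnil_sq Q F hsq (v ^ 2) hv2Q e₁ he₁).2 h4
      by_cases h5 : abnil_k v (abnil_k (v ^ 2) e₁) ∈ F
      · -- `e := κ_v e₁`
        have hk1Q : abnil_k v e₁ ∈ Q := abnil_kQ Q _ hvQ e₁ he₁
        have hkk : abnil_k v (abnil_k v e₁) ∉ F := fun h => h3 ((abnil_sq Q F hsq v hvQ e₁ he₁).1 h)
        refine ⟨abnil_k v e₁, hk1Q, hkk, ?_⟩
        rw [← abnil_sq Q F hsq v hvQ _ hk1Q]
        -- `κ_v (κ_v e₁) = f * y`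
        have ha : v⁻¹ * e₁ * v ∈ Q := hvQ e₁ he₁
        have hb : v⁻¹ * (v⁻¹ * e₁ * v) * v ∈ Q := hvQ _ ha
        have hc : (v⁻¹ * e₁ * v)⁻¹ * (v⁻¹ * (v⁻¹ * e₁ * v) * v) ∈ Q := Q.mul_mem (Q.inv_mem ha) hb
        have hcc := hsq _ hc
        have heq : abnil_k v (abnil_k v e₁) =
            ((v⁻¹ * e₁ * v)⁻¹ * (v⁻¹ * (v⁻¹ * e₁ * v) * v) *
              ((v⁻¹ * e₁ * v)⁻¹ * (v⁻¹ * (v⁻¹ * e₁ * v) * v))) * abnil_k (v ^ 2) e₁ := by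
          unfold abnil_k
          rw [pow_two]
          group
        rw [heq]
        exact (abnil_shift Q F hFQ hcomm v hvF _ hcc _ hyQ).2 h5
      · exact ⟨abnil_k (v ^ 2) e₁, hyQ, h5, hy2⟩

end nil

/-- PIECE AB-NIL -/
theorem exists_two_cycle {G : Type*} [Group G] (Q F : Subgroup G) (hFQ : F ≤ Q)
    (hsq : ∀ x ∈ Q, x * x ∈ F) (hcomm : ∀ x ∈ Q, ∀ w ∈ Q, x * w * x⁻¹ * w⁻¹ ∈ F)
    (v : G) (k : ℕ) (hv : v ^ 2 ^ k = 1) (hvQ : ∀ x ∈ Q, v⁻¹ * x * v ∈ Q)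
    (hvF : ∀ x ∈ F, v⁻¹ * x * v ∈ F)
    (e₀ : G) (he₀ : e₀ ∈ Q) (h0 : v⁻¹ * e₀⁻¹ * v * e₀ ∉ F) :
    ∃ e ∈ Q, v⁻¹ * e⁻¹ * v * e ∉ F ∧ (v ^ 2)⁻¹ * e⁻¹ * v ^ 2 * e ∈ F :=
  abnil_main Q F hFQ hsq hcomm k v hv hvQ hvF e₀ he₀ h0

end Cfsg.Agent.Helper8.AB
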