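import Mathlib

set_option autoImplicit false
set_option linter.style.haveILetI false
set_option linter.unusedVariables false

open Equiv Equiv.Perm MulAction Subgroup

namespace Cfsg.Agent.Helper2.AG

section general

variable {β : Type*} [Fintype β] [DecidableEq β]

namespace JORDAN

theorem ncard_compl_support {g : Perm β} {p k : ℕ} (hgp : g.support.card = p)
    (hcard : Fintype.card β = p + k) : Set.ncard ((g.support : Set β)ᶜ) = k := by
  apply Nat.add_left_cancel (n := p)
  rw [← hcard, ← hgp, ← Set.ncard_coe_finset, Set.ncard_add_ncard_compl,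
    Nat.card_eq_fintype_card]

theorem isPreprimitive_fixing (G : Subgroup (Perm β)) {p : ℕ} (hp : p.Prime) {g : Perm β}
    (hgc : g.IsCycle) (hgp : g.support.card = p) (hg : g ∈ G) :
    IsPreprimitive (fixingSubgroup G ((g.support : Set β)ᶜ))
      (SubMulAction.ofFixingSubgroup G ((g.support : Set β)ᶜ)) := by
  have := isPretransitive_of_isCycle_mem hgc hg
  apply IsPreprimitive.of_prime_card
  have h1 : ((SubMulAction.ofFixingSubgroup G ((g.support : Set β)ᶜ) : Set β)) =
      (g.support : Set β) := by
    ext x
    simp [SubMulAction.mem_ofFixingSubgroup_iff]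
  have h2 : Nat.card (SubMulAction.ofFixingSubgroup G ((g.support : Set β)ᶜ)) = p := by
    have h3 : Nat.card (SubMulAction.ofFixingSubgroup G ((g.support : Set β)ᶜ)) =
        Set.ncard ((SubMulAction.ofFixingSubgroup G ((g.support : Set β)ᶜ) : Set β)) :=
      Nat.card_coe_set_eq _
    rw [h3, h1, Set.ncard_coe_finset, hgp]
  rw [h2]
  exact hp

end JORDAN

/-- JORDAN3 -/
theorem isMultiplyPretransitive_three_of_cycle (G : Subgroup (Perm β))
    (hG : IsPreprimitive G β) {p : ℕ} (hp : p.Prime) {g : Perm β} (hgc : g.IsCycle)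
    (hgp : g.support.card = p) (hg : g ∈ G) (hcard : Fintype.card β = p + 2) :
    IsMultiplyPretransitive G β 3 := by
  have hsc : Set.ncard ((g.support : Set β)ᶜ) = 1 + 1 := JORDAN.ncard_compl_support hgp hcard
  have h := hG.isMultiplyPreprimitive hsc
    (by rw [Nat.card_eq_fintype_card, hcard]; have := hp.two_le; omega)
    (JORDAN.isPreprimitive_fixing G hp hgc hgp hg)
  exact IsMultiplyPreprimitive.isMultiplyPretransitive (M := G) (α := β) (n := 3)

/-- JORDAN2 -/
theorem isMultiplyPretransitive_two_of_cycle (G : Subgroup (Perm β))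
    (hG : IsPreprimitive G β) {p : ℕ} (hp : p.Prime) {g : Perm β} (hgc : g.IsCycle)
    (hgp : g.support.card = p) (hg : g ∈ G) (hcard : Fintype.card β = p + 1) :
    IsMultiplyPretransitive G β 2 := by
  have hsc : Set.ncard ((g.support : Set β)ᶜ) = 0 + 1 := JORDAN.ncard_compl_support hgp hcard
  have := isPretransitive_of_isCycle_mem hgc hg
  exact hG.is_two_pretransitive hsc
    (by rw [Nat.card_eq_fintype_card, hcard]; have := hp.two_le; omega) this

end general

end Cfsg.Agent.Helper2.AG
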