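import Mathlib

set_option autoImplicit false
set_option linter.style.haveILetI false
set_option linter.unusedVariables false
set_option linter.unusedSectionVars false

open Equiv Equiv.Perm MulAction Subgroup

namespace Cfsg.Agent.Helper2.AG

theorem not_isPrimePow_of_two_three {n : ℕ} (h2 : 2 ∣ n) (h3 : 3 ∣ n) : ¬ IsPrimePow n := by
  intro h
  rw [isPrimePow_nat_iff] at h
  obtain ⟨p, k, hp, hk, rfl⟩ := h
  have e2 := (Nat.prime_dvd_prime_iff_eq Nat.prime_two hp).mp (Nat.prime_two.dvd_of_dvd_pow h2)
  have e3 := (Nat.prime_dvd_prime_iff_eq Nat.prime_three hp).mp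
    (Nat.prime_three.dvd_of_dvd_pow h3)
  omega

section

variable {β : Type*} [Fintype β] [DecidableEq β]

/-- the order of a `k`-transitive group is a multiple of `n!/(n-k)!` -/
theorem descFactorial_dvd_card (G : Subgroup (Perm β)) {k : ℕ}
    (hk : IsMultiplyPretransitive G β k) (hkn : k ≤ Fintype.card β) :
    ∃ c : ℕ, Nat.card G * (Fintype.card β - k).factorial = c * (Fintype.card β).factorial := by
  obtain ⟨t, _, ht⟩ := Finset.exists_subset_card_eq (s := (Finset.univ : Finset β))
    (n := k) (by simpa using hkn)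
  have hs : Set.ncard (t : Set β) = k := by rw [Set.ncard_coe_finset, ht]
  have h := hk.index_of_fixingSubgroup_mul hs
  rw [Nat.card_eq_fintype_card] at h
  refine ⟨Nat.card (fixingSubgroup G (t : Set β)), ?_⟩
  rw [← Subgroup.card_mul_index (fixingSubgroup G (t : Set β)), mul_assoc, h]

end

end Cfsg.Agent.Helper2.AG
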