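import Mathlib
import Cfsg.Agent.S0713
import Cfsg.Agent.Lib.Helper2.AGJORDAN
import Cfsg.Agent.Lib.Helper7.AGSWAP
import Cfsg.Agent.Lib.Helper12.AGNLX
import Cfsg.Agent.Lib.Helper6.AGTRANSFER
import Cfsg.Agent.Lib.Helper12.AGSHARP3
import Cfsg.Agent.Lib.Helper22.AGFIVESYL
import Cfsg.Agent.Lib.Helper3.AGFIVETHREE
import Cfsg.Agent.Lib.Helper2.AGUtil
set_option autoImplicit false
set_option linter.style.haveILetI false
set_option linter.unusedVariables false

open Equiv Equiv.Perm MulAction Subgroup

namespace Cfsg.Agent.Helper2.AG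

section T13

variable {β : Type*} [Fintype β] [DecidableEq β]

/-- FIVE -/
theorem alt_le_of_order_five (hβ : Fintype.card β = 13) (K : Subgroup (Perm β))
    (hK : IsPreprimitive K β) [IsMultiplyPretransitive K β 3] {z : Perm β} (hz : z ∈ K)
    (hz5 : orderOf z = 5) : alternatingGroup β ≤ K := by
  by_cases h5c : ∃ w ∈ K, w.IsCycle ∧ w.support.card = 5
  · obtain ⟨w, hw, hwc, hw5⟩ := h5c
    exact Cfsg.Agent.S0713.result K hK (p := 5) (by norm_num) (by omega) (by omega) hwc hw5 hw
  · push Not at h5c
    obtain ⟨k, hk⟩ := cycleType_prime_order (σ := z) (by rw [hz5]; norm_num)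
    rw [hz5] at hk
    have hsum : z.support.card = (k + 1) * 5 := by
      rw [← sum_cycleType, hk]; simp; ring
    have hle : z.support.card ≤ 13 := hβ ▸ z.support.card_le_univ
    have hk1 : k = 1 := by
      rcases Nat.eq_zero_or_pos k with h0 | h0
      · exfalso
        subst h0
        have hc : z.IsCycle := by
          rw [← card_cycleType_eq_one, hk]; simp
        exact h5c z hz hc (by omega)
      · omega
    have hsupp : z.support.card = 10 := by rw [hsum, hk1]
    obtain ⟨w, hw, hw3⟩ := exists_three_cycle_of_order_five hβ K hz hz5 hsupp (by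
      intro P hPK hPs hP25
      obtain ⟨k, hk, hkc, hk5⟩ := exists_five_cycle_of_card_25 P hP25 z.support hsupp hPs
      exact h5c k (hPK hk) hkc hk5)
    exact alternatingGroup_le_of_isPreprimitive_of_isThreeCycle_mem hK hw3 hw

/-- T13 -/
theorem alt_le_of_eleven_cycle_thirteen (hβ : Fintype.card β = 13) (K : Subgroup (Perm β))
    (hK : IsPreprimitive K β) (hKalt : K ≤ alternatingGroup β) {g : Perm β}
    (hgc : g.IsCycle) (hg11 : g.support.card = 11) (hg : g ∈ K) :
    alternatingGroup β ≤ K := by
  haveI h3 : IsMultiplyPretransitive K β 3 :=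
    isMultiplyPretransitive_three_of_cycle K hK (p := 11) (by norm_num) hgc hg11 hg (by omega)
  haveI h2 : IsMultiplyPretransitive K β 2 :=
    isMultiplyPretransitive_of_le (n := 3) (by norm_num)
      (by rw [Nat.card_eq_fintype_card, hβ]; norm_num)
  by_cases h5 : 5 ∣ Nat.card K
  · haveI : Fact (Nat.Prime 5) := ⟨by norm_num⟩
    obtain ⟨z, hz⟩ := exists_prime_orderOf_dvd_card' 5 h5
    exact alt_le_of_order_five hβ K hK (z := (z : Perm β)) z.2
      (by rw [Subgroup.orderOf_coe]; exact hz)
  · exfalso
    have hcompl : (g.supportᶜ).card = 2 := by rw [Finset.card_compl, hβ, hg11]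
    obtain ⟨a, b, hab, hab'⟩ := Finset.card_eq_two.mp hcompl
    have ha : g a = a := by
      have : a ∈ g.supportᶜ := by rw [hab']; simp
      simpa using this
    have hb : g b = b := by
      have : b ∈ g.supportᶜ := by rw [hab']; simp
      simpa using this
    obtain ⟨n, hn, hnX, hna, hnb⟩ := exists_swap_normalizer hβ K hgc hg11 hg hab ha hb
    have hN := normalizer_fix_le hβ K hKalt h5 hgc hg11 hg hab ha hb hn hnX hna hnb
    have hcard := card_eq_of_normalizer_fix_le hβ K hgc hg11 hg hab ha hb hN
    have hpp := isPrimePow_card_of_sharp3 K (by omega) (by rw [hcard, hβ])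
    rw [hβ] at hpp
    exact not_isPrimePow_of_two_three (by norm_num) (by norm_num) hpp

end T13

end Cfsg.Agent.Helper2.AG
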