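import Mathlib
import Cfsg.Agent.S0494
import Cfsg.Agent.Lib.Helper2.AGJORDAN
import Cfsg.Agent.Lib.Helper21.AGTRANS
import Cfsg.Agent.Lib.Helper21.AGPRIM
import Cfsg.Agent.Lib.Helper26.S4150ALTIDX
import Cfsg.Agent.Lib.Helper26.S4150SHARP2
import Cfsg.Agent.Lib.Helper7.AGT6SIMPLE
import Cfsg.Agent.Lib.Helper2.AGUtil

set_option autoImplicit false
set_option linter.style.haveILetI false
set_option linter.unusedVariables false

open Equiv Equiv.Perm MulAction Subgroup

namespace Cfsg.Agent.Helper2.AG

section T6

variable {β : Type*} [Fintype β] [DecidableEq β]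

/-- T6 -/
theorem exists_alt_equiv_six (hβ : Fintype.card β = 6) (x y : Perm β)
    (hx : x.cycleType = {3, 3}) (hyc : y.IsCycle) (hy5 : y.support.card = 5) :
    ∃ d : ℕ, 5 ≤ d ∧
      Nonempty (closure ({x, y} : Set (Perm β)) ≃* alternatingGroup (Fin d)) := by
  set H := closure ({x, y} : Set (Perm β)) with hHdef
  have hxH : x ∈ H := subset_closure (by simp)
  have hyH : y ∈ H := subset_closure (by simp)
  have hxsupp : x.support.card = 6 := by rw [← sum_cycleType, hx]; rfl
  have hxfpf : ∀ a, x a ≠ a := by
    have hu : x.support = Finset.univ := Finset.eq_univ_of_card _ (by rw [hxsupp, hβ])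
    intro a
    have : a ∈ x.support := by rw [hu]; simp
    simpa using this
  have hmeet : ∀ a : β, ∃ k : ℕ, (x ^ k) a ∈ y.support := by
    intro a
    by_cases ha : a ∈ y.support
    · exact ⟨0, by simpa using ha⟩
    · refine ⟨1, ?_⟩
      by_contra hxa
      rw [pow_one] at hxa
      have hcompl : (y.supportᶜ).card = 1 := by rw [Finset.card_compl, hβ, hy5]
      rw [Finset.card_eq_one] at hcompl
      obtain ⟨u, hu⟩ := hcompl
      have h1 : a ∈ y.supportᶜ := by simpa using ha
      have h2 : x a ∈ y.supportᶜ := by simpa using hxa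
      rw [hu, Finset.mem_singleton] at h1 h2
      exact hxfpf a (h2.trans h1.symm)
  haveI htr : IsPretransitive H β := isPretransitive_closure_pair x y hyc hmeet
  have hprim : IsPreprimitive H β :=
    isPreprimitive_of_prime_cycle H (q := 5) (by norm_num) hyc hy5 hyH (by omega)
  haveI h2 : IsMultiplyPretransitive H β 2 :=
    isMultiplyPretransitive_two_of_cycle H hprim (p := 5) (by norm_num) hyc hy5 hyH (by omega)
  have hHalt : H ≤ alternatingGroup β := by
    rw [hHdef, closure_le]
    intro z hz
    rcases hz with rfl | rfl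
    · rw [SetLike.mem_coe, mem_alternatingGroup, sign_of_cycleType, hx]
      decide
    · rw [SetLike.mem_coe, mem_alternatingGroup, hyc.sign, hy5]
      decide
  by_cases hle : alternatingGroup β ≤ H
  · refine ⟨6, by norm_num, ⟨?_⟩⟩
    have heq : H = alternatingGroup β := le_antisymm hHalt hle
    exact (MulEquiv.subgroupCongr heq).trans
      (Equiv.altCongrHom ((Fintype.equivFin β).trans (finCongr hβ)))
  · have h1 := card_mul_le_of_not_alt_le (by omega) H hHalt hle
    obtain ⟨c, hc⟩ := descFactorial_dvd_card H h2 (by omega)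
    rw [hβ] at hc h1
    have hf6 : Nat.factorial 6 = 720 := by decide
    have hf4 : Nat.factorial (6 - 2) = 24 := by decide
    rw [hf6] at hc h1
    rw [hf4] at hc
    have hpos : 0 < Nat.card H := Nat.card_pos
    have hc12 : c = 1 ∨ c = 2 := by omega
    rcases hc12 with rfl | rfl
    · exfalso
      have h30 : Nat.card H = 30 := by omega
      have hpp := isPrimePow_card_of_sharp2 H (by omega) (by rw [h30, hβ])
      rw [hβ] at hpp
      exact not_isPrimePow_of_two_three (by norm_num) (by norm_num) hpp
    · have h60 : Nat.card H = 60 := by omega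
      haveI := isSimpleGroup_of_card_sixty_of_two_trans hβ H h60
      obtain ⟨e⟩ := Cfsg.Agent.S0494.result (G := H) h60
      exact ⟨5, le_refl 5, ⟨e⟩⟩

end T6

end Cfsg.Agent.Helper2.AG
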