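import Mathlib
import Cfsg.Agent.Lib.Helper2.AGJORDAN
import Cfsg.Agent.Lib.Helper26.S4150ALTIDX
import Cfsg.Agent.Lib.Helper12.AGSHARP3
import Cfsg.Agent.Lib.Helper2.AGUtil
set_option autoImplicit false
set_option linter.style.haveILetI false
set_option linter.unusedVariables false

open Equiv Equiv.Perm MulAction Subgroup

namespace Cfsg.Agent.Helper2.AG

/-- T7 -/
theorem alt_le_of_five_cycle_seven {β : Type*} [Fintype β] [DecidableEq β]
    (hβ : Fintype.card β = 7) (K : Subgroup (Perm β)) (hK : IsPreprimitive K β)
    (hKalt : K ≤ alternatingGroup β) {g : Perm β} (hgc : g.IsCycle)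
    (hg5 : g.support.card = 5) (hg : g ∈ K) : alternatingGroup β ≤ K := by
  haveI h3 : IsMultiplyPretransitive K β 3 :=
    isMultiplyPretransitive_three_of_cycle K hK (p := 5) (by norm_num) hgc hg5 hg (by omega)
  by_contra hne
  have h1 := card_mul_le_of_not_alt_le (by omega) K hKalt hne
  obtain ⟨c, hc⟩ := descFactorial_dvd_card K h3 (by omega)
  rw [hβ] at hc h1
  haveI : Nontrivial β := by
    rw [← Fintype.one_lt_card_iff_nontrivial]; omega
  have halt : Nat.card (alternatingGroup β) = 2520 := by
    rw [nat_card_alternatingGroup, Nat.card_eq_fintype_card, hβ]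
    decide
  have hdvd : Nat.card K ∣ 2520 := halt ▸ Subgroup.card_dvd_of_le hKalt
  have hf7 : Nat.factorial 7 = 5040 := by decide
  have hf4 : Nat.factorial (7 - 3) = 24 := by decide
  rw [hf7] at hc h1
  rw [hf4] at hc
  have hK210 : Nat.card K = 210 := by
    have hc1 : Nat.card K = c * 210 := by omega
    have hcpos : 0 < Nat.card K := Nat.card_pos
    have : c = 1 := by
      rcases Nat.lt_or_ge c 2 with h | h
      · rcases Nat.eq_zero_or_pos c with h0 | h0
        · subst h0; omega
        · omega
      · exfalso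
        have : 2 * 210 ≤ c * 210 := Nat.mul_le_mul_right _ h
        omega
    rw [hc1, this]
  have hpp := isPrimePow_card_of_sharp3 K (by omega) (by rw [hK210, hβ])
  rw [hβ] at hpp
  exact not_isPrimePow_of_two_three (by norm_num) (by norm_num) hpp

end Cfsg.Agent.Helper2.AG
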