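import Mathlib
import Cfsg.Agent.S0713
import Cfsg.Agent.Lib.Helper21.AGCYC
import Cfsg.Agent.Lib.Helper21.AGTRANS
import Cfsg.Agent.Lib.Helper21.AGPRIM
import Cfsg.Agent.Lib.Helper2.AGT7
import Cfsg.Agent.Lib.Helper2.AGT13
import Cfsg.Agent.Lib.Helper2.AGT6
set_option autoImplicit false
set_option linter.style.haveILetI false
set_option linter.unusedVariables false
set_option linter.unusedSectionVars false

open Equiv Equiv.Perm MulAction Subgroup

namespace Cfsg.Agent.Helper2.AG

section core

variable {β : Type*} [Fintype β] [DecidableEq β]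

theorem sign_eq_one_of_orderOf_odd {x : Perm β} (hodd : Odd (orderOf x)) : Perm.sign x = 1 := by
  rcases Int.units_eq_one_or (Perm.sign x) with h | h
  · exact h
  · exfalso
    have h1 : Perm.sign (x ^ orderOf x) = 1 := by rw [pow_orderOf_eq_one]; simp
    rw [map_pow, h, hodd.neg_one_pow] at h1
    exact absurd h1 (by decide)

/-- a point moved by `x` of prime order `p` has `p` distinct images under the powers of `x` -/
theorem pow_apply_injOn {p : ℕ} (hp : p.Prime) {x : Perm β} (hx : orderOf x = p) {a : β}
    (ha : x a ≠ a) {i j : ℕ} (hi : i < p) (hj : j < p) (hij : (x ^ i) a = (x ^ j) a) :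
    i = j := by
  by_contra hne
  wlog hlt : i < j generalizing i j
  · exact this hj hi hij.symm (Ne.symm hne) (by omega)
  obtain ⟨d, rfl⟩ : ∃ d, j = i + d := ⟨j - i, by omega⟩
  have hd0 : 0 < d := by omega
  have hfix : (x ^ d) a = a := by
    have h1 : (x ^ (i + d)) a = (x ^ i) ((x ^ d) a) := by rw [pow_add, Perm.mul_apply]
    rw [h1] at hij
    exact ((x ^ i).injective hij).symm
  have hcop : Nat.Coprime d (orderOf x) := by
    rw [hx, Nat.coprime_comm]
    exact (Nat.Prime.coprime_iff_not_dvd hp).mpr (by
      intro hdvd; have := Nat.le_of_dvd hd0 hdvd; omega)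
  obtain ⟨e, he⟩ := exists_pow_eq_self_of_coprime hcop
  have h2 : ((x ^ d) ^ e) a = a := Perm.pow_apply_eq_self_of_apply_eq_self hfix e
  rw [he] at h2
  exact ha h2

/-- every point can be pushed into `supp y` by a power of `x` -/
theorem exists_pow_mem_support {p q : ℕ} (hp : p.Prime) (hpq : p < q)
    (hd : Fintype.card β ≤ 2 * p) {x y : Perm β} (hx : orderOf x = p)
    (hyq : y.support.card = q) (hcov : ∀ a : β, a ∈ x.support ∨ a ∈ y.support) (a : β) :
    ∃ k : ℕ, (x ^ k) a ∈ y.support := by
  by_cases hay : a ∈ y.support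
  · exact ⟨0, by simpa using hay⟩
  · have hax : x a ≠ a := by
      have := (hcov a).resolve_right hay
      simpa using this
    by_contra hcon
    push Not at hcon
    -- p distinct points outside supp y
    have hinj : Function.Injective (fun k : Fin p => (⟨(x ^ (k : ℕ)) a, by
        simpa using hcon k⟩ : {b // b ∈ y.supportᶜ})) := by
      intro i j hij
      have h1 : (x ^ (i : ℕ)) a = (x ^ (j : ℕ)) a := by
        simpa using congrArg Subtype.val hij
      exact Fin.ext (pow_apply_injOn hp hx hax i.2 j.2 h1)
    have hle := Fintype.card_le_of_injective _ hinj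
    rw [Fintype.card_fin, Fintype.card_coe, Finset.card_compl, hyq] at hle
    have := hp.pos
    omega

/-- CORE -/
theorem core {p q : ℕ} (hp : p.Prime) (hq : q.Prime)
    (hpq : p < q) (hqd : q ≤ Fintype.card β) (hd : Fintype.card β ≤ 2 * p)
    (htwin : q = p + 2 → p = 3 ∨ p = 5 ∨ p = 11)
    (h2p : Fintype.card β = 2 * p → q + 3 ≤ Fintype.card β ∨ (p = 3 ∧ q = 5))
    (h5 : 5 ≤ Fintype.card β) (x y : Perm β) (hx : orderOf x = p) (hy : orderOf y = q)
    (hcov : ∀ a : β, a ∈ x.support ∨ a ∈ y.support) :
    ∃ d : ℕ, 5 ≤ d ∧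
      Nonempty (closure ({x, y} : Set (Perm β)) ≃* alternatingGroup (Fin d)) := by
  have hp3 : 3 ≤ p := by
    have := hp.two_le
    by_contra h
    have : p = 2 := by omega
    omega
  have hpodd : Odd p := hp.odd_of_ne_two (by omega)
  have hqodd : Odd q := hq.odd_of_ne_two (by omega)
  -- y is a q-cycle
  obtain ⟨hyc, hyq⟩ : y.IsCycle ∧ y.support.card = q := by
    rcases cycle_or_two_of_prime_order hq y hy (by omega) with h | ⟨h, _⟩
    · exact h
    · omega
  set K := closure ({x, y} : Set (Perm β)) with hKdef
  have hxK : x ∈ K := subset_closure (by simp)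
  have hyK : y ∈ K := subset_closure (by simp)
  have hKalt : K ≤ alternatingGroup β := by
    rw [hKdef, closure_le]
    intro z hz
    rcases hz with rfl | rfl
    · exact mem_alternatingGroup.mpr (sign_eq_one_of_orderOf_odd (by rw [hx]; exact hpodd))
    · exact mem_alternatingGroup.mpr (sign_eq_one_of_orderOf_odd (by rw [hy]; exact hqodd))
  haveI htr : IsPretransitive K β :=
    isPretransitive_closure_pair x y hyc (exists_pow_mem_support hp hpq hd hx hyq hcov)
  have hprim : IsPreprimitive K β :=
    isPreprimitive_of_prime_cycle K hq hyc hyq hyK (by omega)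
  -- reduce to `alternatingGroup β ≤ K`
  have hfin : alternatingGroup β ≤ K → ∃ d : ℕ, 5 ≤ d ∧
      Nonempty (K ≃* alternatingGroup (Fin d)) := by
    intro hle
    have heq : K = alternatingGroup β := le_antisymm hKalt hle
    refine ⟨Fintype.card β, h5, ⟨?_⟩⟩
    exact (MulEquiv.subgroupCongr heq).trans (Equiv.altCongrHom (Fintype.equivFin β))
  rcases cycle_or_two_of_prime_order hp x hx hd with ⟨hxc, hxp⟩ | ⟨hcard, hct⟩
  · -- x is a p-cycle
    apply hfin
    by_cases h3 : p = 3
    · have h3c : x.IsThreeCycle := card_support_eq_three_iff.mp (by rw [hxp, h3])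
      exact alternatingGroup_le_of_isPreprimitive_of_isThreeCycle_mem hprim h3c hxK
    by_cases hJ : p + 3 ≤ Fintype.card β
    · exact Cfsg.Agent.S0713.result K hprim hp h5 hJ hxc hxp hxK
    · -- card β = q = p + 2
      have hqp : q = p + 2 := by
        rcases hpodd with ⟨i, hi⟩
        rcases hqodd with ⟨j, hj⟩
        omega
      have hcard : Fintype.card β = p + 2 := by omega
      rcases htwin hqp with h | h | h
      · exact absurd h h3
      · subst h
        exact alt_le_of_five_cycle_seven hcard K hprim hKalt hxc hxp hxK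
      · subst h
        exact alt_le_of_eleven_cycle_thirteen hcard K hprim hKalt hxc hxp hxK
  · -- x is a product of two p-cycles
    rcases h2p hcard with hJ | ⟨h3, h5'⟩
    · apply hfin
      exact Cfsg.Agent.S0713.result K hprim hq h5 hJ hyc hyq hyK
    · subst h3; subst h5'
      exact exists_alt_equiv_six hcard x y hct hyc hyq

end core

end Cfsg.Agent.Helper2.AG
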