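import Mathlib
import Cfsg.Agent.Lib.Helper25.AGNTREAL
import Cfsg.Agent.Lib.Helper14.AGNTBINOM
import Cfsg.Agent.Lib.Helper14.AGNTSMALL
set_option autoImplicit false
set_option linter.style.haveILetI false
set_option linter.unusedVariables false

namespace Cfsg.Agent.Helper2.AG

/-- the arithmetic conditions on the pair of primes -/
def Good (p q m : ℕ) : Prop :=
  p.Prime ∧ q.Prime ∧ p < q ∧ m ≤ 2 * p ∧ q ≤ m ∧
    (q = p + 2 → p = 3 ∨ p = 5 ∨ p = 11) ∧
    (m = 2 * p → q + 3 ≤ m ∨ (p = 3 ∧ q = 5))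

/-- at least three primes in `(n, 2n]` for `n ≥ 9` -/
theorem three_primes {n : ℕ} (h9 : 9 ≤ n) :
    3 ≤ ((Finset.Ioc n (2 * n)).filter Nat.Prime).card := by
  rcases lt_or_ge n 2048 with h | h
  · exact three_primes_small h9 h
  · by_contra hlt
    push Not at hlt
    have h1 := centralBinom_le_of_few_primes (n := n) (by omega) (by omega)
    have h2 := Nat.four_pow_lt_mul_centralBinom n (by omega)
    have h3 := nat_main_ineq h
    have h4 : n * Nat.centralBinom n ≤
        n * ((2 * n) ^ Nat.sqrt (2 * n) * 4 ^ (2 * n / 3) * (2 * n) ^ 2) :=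
      Nat.mul_le_mul_left _ h1
    omega

theorem exists_good_large (m : ℕ) (hm : 18 ≤ m) : ∃ p q : ℕ, Good p q m := by
  have h9 : 9 ≤ m / 2 := by omega
  have h3 := three_primes h9
  set S := (Finset.Ioc (m / 2) (2 * (m / 2))).filter Nat.Prime with hS
  have hne : S.Nonempty := by
    rw [← Finset.card_pos]; omega
  obtain ⟨a, b, c, ha, hb, hc, hab, hac, hbc⟩ := Finset.two_lt_card_iff.mp (by omega : 2 < S.card)
  have hmem : ∀ x ∈ S, x.Prime ∧ m / 2 < x ∧ x ≤ 2 * (m / 2) := by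
    intro x hx
    rw [hS, Finset.mem_filter, Finset.mem_Ioc] at hx
    exact ⟨hx.2, hx.1.1, hx.1.2⟩
  have hodd : ∀ x ∈ S, x % 2 = 1 := by
    intro x hx
    obtain ⟨hxp, hx1, hx2⟩ := hmem x hx
    rcases hxp.eq_two_or_odd with h2 | h2
    · omega
    · exact h2
  have hpS := Finset.min'_mem S hne
  have hqS := Finset.max'_mem S hne
  have hle : ∀ x ∈ S, S.min' hne ≤ x ∧ x ≤ S.max' hne := fun x hx =>
    ⟨Finset.min'_le S x hx, Finset.le_max' S x hx⟩
  obtain ⟨hp, hp1, hp2⟩ := hmem _ hpS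
  obtain ⟨hq, hq1, hq2⟩ := hmem _ hqS
  have ha' := hle a ha
  have hb' := hle b hb
  have hc' := hle c hc
  have hao := hodd a ha
  have hbo := hodd b hb
  have hco := hodd c hc
  have hpo := hodd _ hpS
  have hqo := hodd _ hqS
  refine ⟨S.min' hne, S.max' hne, hp, hq, ?_, ?_, ?_, ?_, ?_⟩
  · omega
  · omega
  · omega
  · intro h; omega
  · intro h; omega

theorem exists_good (m : ℕ) (hm : 5 ≤ m) : ∃ p q : ℕ, Good p q m := by
  rcases lt_or_ge m 18 with h | h
  · interval_cases m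
    · exact ⟨3, 5, by unfold Good; norm_num⟩
    · exact ⟨3, 5, by unfold Good; norm_num⟩
    · exact ⟨5, 7, by unfold Good; norm_num⟩
    · exact ⟨5, 7, by unfold Good; norm_num⟩
    · exact ⟨5, 7, by unfold Good; norm_num⟩
    · exact ⟨5, 7, by unfold Good; norm_num⟩
    · exact ⟨7, 11, by unfold Good; norm_num⟩
    · exact ⟨7, 11, by unfold Good; norm_num⟩
    · exact ⟨7, 11, by unfold Good; norm_num⟩
    · exact ⟨7, 11, by unfold Good; norm_num⟩
    · exact ⟨11, 13, by unfold Good; norm_num⟩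
    · exact ⟨11, 13, by unfold Good; norm_num⟩
    · exact ⟨13, 17, by unfold Good; norm_num⟩
  · exact exists_good_large m h

end Cfsg.Agent.Helper2.AG
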