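import Mathlib
import Cfsg.Agent.Lib.Helper2.AGNT
import Cfsg.Agent.Lib.Helper2.AGCore
import Cfsg.Agent.Lib.Helper22.AGRESTRICT
import Cfsg.Agent.Lib.Helper21.AGCYC
set_option autoImplicit false
set_option linter.style.haveILetI false
set_option linter.unusedVariables false

open Equiv Equiv.Perm MulAction Subgroup

namespace Cfsg.Agent.Helper2.AG

/-- MAIN_GT -/
theorem main_gt {m p q : ℕ} (hm : 5 ≤ m) (hgood : Good p q m)
    (x y : alternatingGroup (Fin m)) (hx : orderOf x = p) (hy : orderOf y = q) :
    ∃ d : ℕ, 5 ≤ d ∧ Nonempty (Subgroup.closure ({x, y} : Set (alternatingGroup (Fin m))) ≃*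
      alternatingGroup (Fin d)) := by
  obtain ⟨hp, hq, hpq, hm2p, hqm, htwin, h2p⟩ := hgood
  have hx0 : orderOf (x : Perm (Fin m)) = p := by rw [Subgroup.orderOf_coe]; exact hx
  have hy0 : orderOf (y : Perm (Fin m)) = q := by rw [Subgroup.orderOf_coe]; exact hy
  -- move to `Perm (Fin m)`
  have e1 : closure ({x, y} : Set (alternatingGroup (Fin m))) ≃*
      closure ({(x : Perm (Fin m)), (y : Perm (Fin m))} : Set (Perm (Fin m))) := by
    have h1 := (closure ({x, y} : Set (alternatingGroup (Fin m)))).equivMapOfInjective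
      (alternatingGroup (Fin m)).subtype Subtype.coe_injective
    have h2 : (closure ({x, y} : Set (alternatingGroup (Fin m)))).map
        (alternatingGroup (Fin m)).subtype =
        closure ({(x : Perm (Fin m)), (y : Perm (Fin m))} : Set (Perm (Fin m))) := by
      rw [MonoidHom.map_closure, Set.image_pair]
      rfl
    exact h1.trans (MulEquiv.subgroupCongr h2)
  obtain ⟨s, x', y', hs, hcx, hcy, hcov, ⟨e2⟩⟩ :=
    exists_restrict (x : Perm (Fin m)) (y : Perm (Fin m))
  have hx' : orderOf x' = p := by rw [← lcm_cycleType, hcx, lcm_cycleType, hx0]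
  have hy' : orderOf y' = q := by rw [← lcm_cycleType, hcy, lcm_cycleType, hy0]
  have hyq : (y : Perm (Fin m)).support.card = q := by
    rcases cycle_or_two_of_prime_order hq (y : Perm (Fin m)) hy0
      (by rw [Fintype.card_fin]; omega) with h | ⟨h, _⟩
    · exact h.2
    · rw [Fintype.card_fin] at h; omega
  have hcard : Fintype.card s = s.card := Fintype.card_coe s
  have hqs : q ≤ s.card := by
    rw [← hyq, hs]
    exact Finset.card_le_card Finset.subset_union_right
  have hsm : s.card ≤ m := by
    have := Finset.card_le_univ s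
    rwa [Fintype.card_fin] at this
  have hp3 : 3 ≤ p := by
    have := hp.two_le
    omega
  have hq5 : 5 ≤ q := by
    by_contra h
    have : q = 4 := by omega
    subst this
    exact absurd hq (by norm_num)
  obtain ⟨d, hd5, ⟨e3⟩⟩ := core (β := s) hp hq hpq (by omega) (by omega) htwin
    (by
      intro h
      have hm' : m = 2 * p := by omega
      rcases h2p hm' with h' | h'
      · left; omega
      · right; exact h')
    (by omega) x' y' hx' hy' hcov
  exact ⟨d, hd5, ⟨e1.trans (e2.trans e3)⟩⟩

end Cfsg.Agent.Helper2.AG
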