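import Mathlib
import Cfsg.Agent.Lib.Helper2.AICDefs

/-!
# S2202 : definitions for Parts C, E, F1 (helper2): the quotient `C_G(Z) / Z`
-/

set_option autoImplicit false

namespace Cfsg.Agent.Helper2.AIC

variable {G : Type*} [Group G]

/-- `Z` inside its centralizer -/
abbrev ZH (Z : Subgroup G) : Subgroup ↥(Subgroup.centralizer (Z : Set G)) :=
  Z.subgroupOf (Subgroup.centralizer (Z : Set G))

theorem mem_ZH {Z : Subgroup G} {x : ↥(Subgroup.centralizer (Z : Set G))} :
    x ∈ ZH Z ↔ (x : G) ∈ Z := Subgroup.mem_subgroupOf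

instance ZH_normal (Z : Subgroup G) : (ZH Z).Normal := by
  constructor
  intro n hn g
  rw [mem_ZH] at hn ⊢
  have hg := g.2
  rw [Subgroup.mem_centralizer_iff] at hg
  have : ((g * n * g⁻¹ : ↥(Subgroup.centralizer (Z : Set G))) : G) = (n : G) := by
    push_cast
    rw [← hg _ hn]
    group
  rw [this]
  exact hn

/-- the quotient `C_G(Z) / Z` -/
abbrev HQ (Z : Subgroup G) : Type _ := ↥(Subgroup.centralizer (Z : Set G)) ⧸ ZH Z

end Cfsg.Agent.Helper2.AIC
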