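import Mathlib
import Cfsg.Agent.Lib.Helper2.AICDefs
import Cfsg.Agent.Lib.Helper2.AICDefs2
import Cfsg.Agent.Lib.Helper2.AICGEN
import Cfsg.Agent.Lib.Helper2.AICBAS1
import Cfsg.Agent.Lib.Helper4.AICBAS2
import Cfsg.Agent.Lib.Helper13.AICINV
import Cfsg.Agent.Lib.Helper1.AICQLIFT
import Cfsg.Agent.Lib.Helper23.AICE5

/-!
# S2202, PIECES E3 + E4 (helper2)
-/

set_option autoImplicit false
set_option linter.unusedSectionVars false
set_option linter.unusedVariables false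

namespace Cfsg.Agent.Helper2.AIC

variable {G : Type*} [Group G] [Finite G]

/-- elements of `P` centralize `Z ≤ K_P` -/
theorem e3_mem_centralizer (c : Cfg G) {Z : Subgroup G} {P : Sylow 2 G} (hZP : Z ≤ Kn P) {s : G}
    (hs : s ∈ P) : s ∈ Subgroup.centralizer (Z : Set G) := by
  rw [Subgroup.mem_centralizer_iff]
  intro z hz
  have hzC := c.Kn_le_Cn P (hZP hz)
  rw [Subgroup.mem_centralizer_iff] at hzC
  exact (hzC s hs).symm

/-- elements of `C_P` centralize `Z ≤ K_P` -/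
theorem e3_Cn_le_centralizer (c : Cfg G) {Z : Subgroup G} {P : Sylow 2 G} (hZP : Z ≤ Kn P) {x : G}
    (hx : x ∈ Cn P) : x ∈ Subgroup.centralizer (Z : Set G) := by
  rw [Subgroup.mem_centralizer_iff]
  intro z hz
  exact c.comm_Cn P z (c.Kn_le_Cn P (hZP hz)) x hx

theorem e3_odd_card (c : Cfg G) {Z : Subgroup G} {P : Sylow 2 G} (hZP : Z ≤ Kn P) :
    Odd (Nat.card Z) :=
  Odd.of_dvd_nat (c.odd_card_Kn P) (Subgroup.card_dvd_of_le hZP)

theorem e3_odd_card_ZH (c : Cfg G) {Z : Subgroup G} {P : Sylow 2 G} (hZP : Z ≤ Kn P) :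
    Odd (Nat.card (ZH Z)) := by
  have hle : Z ≤ Subgroup.centralizer (Z : Set G) := by
    intro z hz
    exact e3_Cn_le_centralizer c hZP (c.Kn_le_Cn P (hZP hz))
  have e := Subgroup.subgroupOfEquivOfLe hle
  have : Nat.card (ZH Z) = Nat.card Z := Nat.card_congr e.toEquiv
  rw [this]
  exact e3_odd_card c hZP

omit [Finite G] in
theorem e3_mk_eq {Z : Subgroup G} {x y : ↥(Subgroup.centralizer (Z : Set G))}
    (h : (QuotientGroup.mk x : HQ Z) = QuotientGroup.mk y) : ∃ z ∈ Z, (y : G) = (x : G) * z := by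
  rw [QuotientGroup.eq, mem_ZH] at h
  refine ⟨_, h, ?_⟩
  push_cast
  group

/-- PIECE E3 -/
theorem noncomm_HQ (c : Cfg G) {Z : Subgroup G} {P Q : Sylow 2 G} (h : P ≠ Q) (hZP : Z ≤ Kn P)
    (hZQ : Z ≤ Kn Q) : ∃ s t : HQ Z, orderOf s = 2 ∧ orderOf t = 2 ∧ s * t ≠ t * s := by
  obtain ⟨s, hsP, hso⟩ := c.exists_inv P
  obtain ⟨t, htQ, hto⟩ := c.exists_inv Q
  have hsH := e3_mem_centralizer c hZP hsP
  have htH := e3_mem_centralizer c hZQ htQ
  refine ⟨QuotientGroup.mk ⟨s, hsH⟩, QuotientGroup.mk ⟨t, htH⟩, e5_orderOf_mk c hZP hsP hso hsH,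
    e5_orderOf_mk c hZQ htQ hto htH, ?_⟩
  intro hcomm
  have hs'o : orderOf (⟨s, hsH⟩ : ↥(Subgroup.centralizer (Z : Set G))) = 2 := by
    rw [Subgroup.orderOf_mk]; exact hso
  obtain ⟨x, hxs, hxt⟩ := exists_centralizer_lift (ZH Z) (e3_odd_card_ZH c hZP) hs'o hcomm.symm
  obtain ⟨z, hz, htz⟩ := e3_mk_eq hxt
  have htz' : t = (x : G) * z := htz
  have hxs' : (x : G) * s = s * (x : G) := by
    have := congrArg Subtype.val hxs
    simpa using this
  have hxC : (x : G) ∈ Cn P := by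
    rw [← c.centralizer_eq hsP hso, Subgroup.mem_centralizer_singleton_iff]
    exact hxs'
  have htC : t ∈ Cn P := by
    rw [htz']
    exact Subgroup.mul_mem _ hxC (c.Kn_le_Cn P (hZP hz))
  have htP : t ∈ P := c.mem_sylow_of_mem_Cn htC (k := 1) (by rw [hto]; norm_num)
  have ht1 := c.ti h htP htQ
  rw [ht1, orderOf_one] at hto
  norm_num at hto

/-- lifting an odd-order element of a centralizer of an involution -/
theorem e4_lift (c : Cfg G) {Z : Subgroup G} {P : Sylow 2 G} (hZP : Z ≤ Kn P)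
    {s' : ↥(Subgroup.centralizer (Z : Set G))} (hs' : orderOf s' = 2) {R : Sylow 2 G}
    (hsR : (s' : G) ∈ R) {xb : HQ Z} (hxodd : Odd (orderOf xb))
    (hx : xb * (QuotientGroup.mk s' : HQ Z) = QuotientGroup.mk s' * xb) :
    Z ≤ Kn R ∧ ∃ x1 : ↥(Subgroup.centralizer (Z : Set G)),
      (QuotientGroup.mk x1 : HQ Z) = xb ∧ (x1 : G) ∈ Kn R := by
  have hso : orderOf (s' : G) = 2 := by rw [Subgroup.orderOf_coe]; exact hs'
  have hZR : Z ≤ Kn R := by
    refine c.le_Kn_of_centralized hZP hso hsR ?_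
    intro z hz
    have := s'.2
    rw [Subgroup.mem_centralizer_iff] at this
    rw [← this z hz]
    group
  refine ⟨hZR, ?_⟩
  obtain ⟨x1, hx1s, hx1⟩ := exists_centralizer_lift (ZH Z) (e3_odd_card_ZH c hZP) hs' hx
  refine ⟨x1, hx1, ?_⟩
  have hx1s' : (x1 : G) * (s' : G) = (s' : G) * (x1 : G) := by
    have := congrArg Subtype.val hx1s
    simpa using this
  have hxC : (x1 : G) ∈ Cn R := by
    rw [← c.centralizer_eq hsR hso, Subgroup.mem_centralizer_singleton_iff]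
    exact hx1s'
  obtain ⟨a, haR, k, hkK, hak⟩ := c.Cn_eq_mul hxC
  set m := orderOf xb with hm
  -- `x1 ^ m ∈ Z`
  have hpow : ((x1 : G)) ^ m ∈ Z := by
    have h1 : (QuotientGroup.mk (x1 ^ m) : HQ Z) = 1 := by
      rw [QuotientGroup.mk_pow, hx1, hm, pow_orderOf_eq_one]
    rw [QuotientGroup.eq_one_iff, mem_ZH] at h1
    simpa using h1
  have hcomm : Commute a k :=
    c.comm_Cn R a (c.sylow_le_Cn R haR) k (c.Kn_le_Cn R hkK)
  have hpow2 : (x1 : G) ^ m = a ^ m * k ^ m := by rw [hak, hcomm.mul_pow]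
  have ham : a ^ m ∈ Kn R := by
    have : a ^ m = (x1 : G) ^ m * (k ^ m)⁻¹ := by rw [hpow2]; group
    rw [this]
    exact Subgroup.mul_mem _ (hZR hpow) (Subgroup.inv_mem _ (Subgroup.pow_mem _ hkK m))
  have ham_odd : Odd (orderOf (a ^ m)) := ((c.mem_Kn_iff R).1 ham).2
  obtain ⟨j, hj⟩ := bas2_orderOf_of_mem haR
  have ham1 : a ^ m = 1 := by
    apply inv_eq_one_of_odd_of_two_pow ham_odd (n := j)
    rw [← pow_mul, mul_comm, pow_mul, ← hj, pow_orderOf_eq_one, one_pow]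
  -- `orderOf a ∣ m` odd and a power of two
  have ha1 : a = 1 := by
    have hd : orderOf a ∣ m := orderOf_dvd_of_pow_eq_one ham1
    have hodd_a : Odd (orderOf a) := Odd.of_dvd_nat hxodd hd
    apply inv_eq_one_of_odd_of_two_pow hodd_a (n := j)
    rw [← hj, pow_orderOf_eq_one]
  rw [hak, ha1, one_mul]
  exact hkK

/-- PIECE E4 -/
theorem halpha_HQ (c : Cfg G) {Z : Subgroup G} {P : Sylow 2 G} (hZP : Z ≤ Kn P)
    (hZmax : ∀ R1 R2 : Sylow 2 G, R1 ≠ R2 → Z ≤ Kn R1 → Z ≤ Kn R2 → Kn R1 ⊓ Kn R2 = Z) :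
    ∀ s t x : HQ Z, orderOf s = 2 → orderOf t = 2 → s * t ≠ t * s → Odd (orderOf x) →
      x * s = s * x → x * t = t * x → x = 1 := by
  intro sb tb xb hsb htb hst hxodd hxs hxt
  have hoddZ : Odd (Nat.card (ZH Z)) := e3_odd_card_ZH c hZP
  obtain ⟨s', hs'o, hs'⟩ := exists_inv_lift (ZH Z) hoddZ hsb
  obtain ⟨t', ht'o, ht'⟩ := exists_inv_lift (ZH Z) hoddZ htb
  have hso : orderOf (s' : G) = 2 := by rw [Subgroup.orderOf_coe]; exact hs'o
  have hto : orderOf (t' : G) = 2 := by rw [Subgroup.orderOf_coe]; exact ht'o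
  obtain ⟨Rs, hsR⟩ := exists_sylow_of_orderOf_two hso
  obtain ⟨Rt, htR⟩ := exists_sylow_of_orderOf_two hto
  have hRne : Rs ≠ Rt := by
    intro hR
    apply hst
    rw [← hs', ← ht', ← QuotientGroup.mk_mul, ← QuotientGroup.mk_mul]
    congr 1
    apply Subtype.ext
    push_cast
    exact c.comm_sylow Rs _ hsR _ (hR ▸ htR)
  rw [← hs'] at hxs
  rw [← ht'] at hxt
  obtain ⟨hZs, x1, hx1, hx1K⟩ := e4_lift c hZP hs'o hsR hxodd hxs
  obtain ⟨hZt, x2, hx2, hx2K⟩ := e4_lift c hZP ht'o htR hxodd hxt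
  obtain ⟨z, hz, hzx⟩ := e3_mk_eq (hx2.trans hx1.symm)
  have hx1t : (x1 : G) ∈ Kn Rt := by
    rw [hzx]
    exact Subgroup.mul_mem _ hx2K (hZt hz)
  have hx1Z : (x1 : G) ∈ Z := by
    have hmem : (x1 : G) ∈ Kn Rs ⊓ Kn Rt := ⟨hx1K, hx1t⟩
    have heq := hZmax Rs Rt hRne hZs hZt
    exact heq ▸ hmem
  rw [← hx1, QuotientGroup.eq_one_iff, mem_ZH]
  exact hx1Z

end Cfsg.Agent.Helper2.AIC
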