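import Mathlib
import Cfsg.Agent.Lib.Helper2.AICDefs
import Cfsg.Agent.Lib.Helper2.AICGEN
import Cfsg.Agent.Lib.Helper2.AICBAS1
import Cfsg.Agent.Lib.Helper4.AICBAS2
import Cfsg.Agent.Lib.Helper25.AICD2
import Cfsg.Agent.Lib.Helper16.AICD5B
import Cfsg.Agent.Lib.Helper23.AICD6
import Cfsg.Agent.Lib.Helper23.AICD7

/-!
# S2202, PART D : blocks (helper2; pieces by helper16, helper23, helper25)
-/

set_option autoImplicit false
set_option linter.unusedSectionVars false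

namespace Cfsg.Agent.Helper2.AIC

variable {G : Type*} [Group G] [Finite G]

/-- PART D : if `K_P = K_Q` for two distinct Sylow 2-subgroups then all `K_R` coincide -/
theorem partD (c : Cfg G) {P0 Q0 : Sylow 2 G} (h0 : P0 ≠ Q0) (hK : Kn P0 = Kn Q0) :
    ∀ R : Sylow 2 G, Kn R = Kn P0 := by
  by_contra hcon
  push Not at hcon
  have hne : ∃ R : Sylow 2 G, Kn R ≠ Kn P0 := hcon
  obtain ⟨R, hR⟩ := hne
  -- an involution outside X
  obtain ⟨u, hu⟩ : ∃ u : G, u ∈ R ∧ orderOf u = 2 := c.exists_inv R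
  have huX : u ∉ Subgroup.normalizer ((Kn P0 : Subgroup G) : Set G) := by
    intro h
    exact hR (inv_normalizer_Kn c hu.2 h hu.1).1
  obtain ⟨R1, R2, h1, h2, h12, hK1, hK2, hfix⟩ := Dp_three_fix c h0 hK ⟨R, hR⟩ hu.2 huX
  have e1 := Dn_eq_of_fix c ⟨R, hR⟩ hu.2 huX h1 hK1 (hfix.trans inf_le_left)
  have e2 := Dn_eq_of_fix c ⟨R, hR⟩ hu.2 huX h2 hK2 (hfix.trans inf_le_right)
  exact block_no_three_fix c h1 h2 h12 hK1 hK2 (e1.trans e2.symm)

end Cfsg.Agent.Helper2.AIC
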