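import Mathlib
import Cfsg.Agent.Lib.Helper2.AICDefs
import Cfsg.Agent.Lib.Helper2.AICDefs2
import Cfsg.Agent.Lib.Helper2.AICGEN
import Cfsg.Agent.Lib.Helper2.AICBAS1
import Cfsg.Agent.Lib.Helper2.AICE34
import Cfsg.Agent.Lib.Helper2.AICPartD
import Cfsg.Agent.Lib.Helper1.AICQLIFT
import Cfsg.Agent.Lib.Helper1.AICF1B
import Cfsg.Agent.Lib.Helper23.AICE5
import Cfsg.Agent.Lib.Helper23.AICF1A
import Cfsg.Agent.Lib.Helper24.AICELEM
import Cfsg.Agent.Lib.Helper24.AICEMAX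
import Cfsg.Agent.Lib.Helper24.AICE1
import Cfsg.Agent.Lib.Helper24.AICE2
import Cfsg.Agent.Lib.Helper25.AICD4
import Cfsg.Agent.Lib.Helper27.AICB6
import Cfsg.Agent.S1230

/-!
# S2202, PARTS E and F1 (helper2; pieces by helper1, helper23, helper24, helper27 and many others)
`partE` : `K_P = N` for all `P`, `N` normal central of odd order, `P` of exponent 2.
`partF1` : `G / N` is `PSL₂(F)`.
-/

set_option autoImplicit false
set_option linter.unusedSectionVars false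

namespace Cfsg.Agent.Helper2.AIC

variable {G : Type*} [Group G] [Finite G]

/-! ### PART E assembly -/
theorem partE_aux (c : Cfg G) {P Q : Sylow 2 G} (h : P ≠ Q)
    (hmax : ∀ P' Q' : Sylow 2 G, P' ≠ Q' →
      Nat.card (Kn P' ⊓ Kn Q' : Subgroup G) ≤ Nat.card (Kn P ⊓ Kn Q : Subgroup G)) :
    Kn P = Kn Q ∧ ∀ x ∈ P, x ^ 2 = 1 := by
  set Z : Subgroup G := Kn P ⊓ Kn Q with hZ
  have hZP : Z ≤ Kn P := inf_le_left
  have hZQ : Z ≤ Kn Q := inf_le_right
  have hodd : Odd (Nat.card Z) := by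
    have h1 : Nat.card Z ∣ Nat.card (Kn P) := Subgroup.card_dvd_of_le hZP
    exact Odd.of_dvd_nat (c.odd_card_Kn P) h1
  have hZmax : ∀ R1 R2 : Sylow 2 G, R1 ≠ R2 → Z ≤ Kn R1 → Z ≤ Kn R2 → Kn R1 ⊓ Kn R2 = Z := by
    intro R1 R2 hR h1 h2
    have hle : Z ≤ Kn R1 ⊓ Kn R2 := le_inf h1 h2
    exact (Subgroup.eq_of_le_of_card_ge hle (hmax R1 R2 hR)).symm
  have hyp := hyp_HQ c hodd
  have cq : Cfg (HQ Z) := Cfg.of_elem hyp (klein_HQ c hZP) (noncomm_HQ c h hZP hZQ)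
  have hα := hα_of_elem cq (halpha_HQ c hZP hZmax)
  have hB := partB cq hα
  have h1 := Kn_le_of_sq c hZP hB
  have h2 := Kn_le_of_sq c hZQ hB
  refine ⟨?_, h1.2⟩
  exact le_antisymm (h1.1.trans hZQ) (h2.1.trans hZP)

/-- PART E -/
theorem partE (c : Cfg G) : ∃ N : Subgroup G, N.Normal ∧ Odd (Nat.card N) ∧
    (∀ n ∈ N, ∀ g : G, g * n = n * g) ∧ (∀ P : Sylow 2 G, Kn P = N) ∧
    ∀ P : Sylow 2 G, ∀ x ∈ P, x ^ 2 = 1 := by
  obtain ⟨P, Q, h, hmax⟩ := exists_max_pair c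
  obtain ⟨hK, hel⟩ := partE_aux c h hmax
  have hall := partD c h hK
  have hnorm : ∀ g : G, g ∈ Subgroup.normalizer ((Kn P : Subgroup G) : Set G) := by
    intro g
    rw [Subgroup.mem_normalizer_iff]
    intro x
    have h1 : ∀ (g' y : G), y ∈ Kn P → g' * y * g'⁻¹ ∈ Kn P := by
      intro g' y hy
      have := (conj_mem_Kn P g' y).2 hy
      rw [hall (g' • P)] at this
      exact this
    constructor
    · exact h1 g x
    · intro hx
      have := h1 g⁻¹ _ hx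
      have e : g⁻¹ * (g * x * g⁻¹) * g⁻¹⁻¹ = x := by group
      rw [e] at this
      exact this
  refine ⟨Kn P, ⟨?_⟩, c.odd_card_Kn P, ?_, hall, ?_⟩
  · intro n hn g
    have := (conj_mem_Kn P g n).2 hn
    rw [hall (g • P)] at this
    exact this
  · intro n hn g
    exact Kn_central_X c h hK (hnorm g) hn
  · intro R x hx
    obtain ⟨g, hg⟩ := MulAction.exists_smul_eq G P R
    subst hg
    have hx' := (gen_mem_smul_iff P g x).1 hx
    have := hel _ hx'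
    have e : x = g * (g⁻¹ * x * g) * g⁻¹ := by group
    rw [e]
    have e2 : (g * (g⁻¹ * x * g) * g⁻¹) ^ 2 = g * (g⁻¹ * x * g) ^ 2 * g⁻¹ := by
      rw [pow_two, pow_two]; group
    rw [e2, this]
    group

/-! ## PART F1 : the quotient is `PSL₂(F)` -/

/-! ### assembly -/
theorem partF1 (c : Cfg G) {N : Subgroup G} (hodd : Odd (Nat.card N))
    (hcen : ∀ n ∈ N, ∀ g : G, g * n = n * g) (hK : ∀ P : Sylow 2 G, Kn P = N)
    (hel : ∀ P : Sylow 2 G, ∀ x ∈ P, x ^ 2 = 1) :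
    ∃ (F : Type) (_ : Field F) (_ : Fintype F), 4 ≤ Fintype.card F ∧ CharP F 2 ∧
      ∃ φ : G →* Matrix.ProjectiveSpecialLinearGroup (Fin 2) F, Function.Surjective φ ∧
        φ.ker = N := by
  obtain ⟨P⟩ : Nonempty (Sylow 2 G) := inferInstance
  obtain ⟨Q, hQ⟩ := c.nn P
  have hZP : N ≤ Kn P := (hK P).ge
  have hZQ : N ≤ Kn Q := (hK Q).ge
  have hyp := hyp_HQ c hodd
  have cq : Cfg (HQ N) := Cfg.of_elem hyp (klein_HQ c hZP) (noncomm_HQ c hQ.symm hZP hZQ)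
  obtain ⟨T⟩ : Nonempty (Sylow 2 (HQ N)) := inferInstance
  have hsq := sq_HQ c hK hel
  obtain ⟨F, iF, iFt, hcard, ⟨e⟩⟩ := Cfsg.Agent.S1230.result T (cq.nc T) (cq.not_normal T)
    (fun t ht => ⟨⟨⟨fun x y => Subtype.ext (hyp t ht x.1 x.2 y.1 y.2)⟩⟩, hsq t ht⟩)
  obtain ⟨k, hk2, hk⟩ := four_le_card_of_not_cyclic (T := T) T.2 (cq.nc T)
  have hcardF : Fintype.card F = 2 ^ k := by rw [hcard, hk]
  refine ⟨F, iF, iFt, ?_, charP_two_of_card (by omega) hcardF, ?_⟩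
  · rw [hcardF]
    calc 4 = 2 ^ 2 := by norm_num
      _ ≤ 2 ^ k := Nat.pow_le_pow_right (by norm_num) hk2
  · have hmem : ∀ g : G, g ∈ Subgroup.centralizer (N : Set G) := by
      intro g
      rw [Subgroup.mem_centralizer_iff]
      intro n hn
      exact (hcen n hn g).symm
    let toH : G →* ↥(Subgroup.centralizer (N : Set G)) :=
      (MonoidHom.id G).codRestrict _ hmem
    let φ : G →* Matrix.ProjectiveSpecialLinearGroup (Fin 2) F :=
      (e.toMonoidHom).comp ((QuotientGroup.mk' (ZH N)).comp toH)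
    refine ⟨φ, ?_, ?_⟩
    · intro y
      obtain ⟨x, hx⟩ := QuotientGroup.mk'_surjective (ZH N) (e.symm y)
      refine ⟨(x : G), ?_⟩
      show e (QuotientGroup.mk' (ZH N) (toH (x : G))) = y
      have : toH (x : G) = x := Subtype.ext rfl
      rw [this, hx]
      simp
    · ext g
      rw [MonoidHom.mem_ker]
      show e (QuotientGroup.mk' (ZH N) (toH g)) = 1 ↔ g ∈ N
      rw [EmbeddingLike.map_eq_one_iff, QuotientGroup.mk'_apply, QuotientGroup.eq_one_iff, mem_ZH]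
      rfl

end Cfsg.Agent.Helper2.AIC
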