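import Mathlib

/-!
# Alternative rings: associator identities and Artin's theorem on words in two letters
(support for S1786 TI-ALG).
-/

set_option autoImplicit false

namespace Cfsg.Agent.Helper2.Alt

variable {R : Type*} [NonUnitalNonAssocRing R]

/-- left and right alternative laws -/
def IsAlt (R : Type*) [NonUnitalNonAssocRing R] : Prop :=
  (∀ x y : R, x * (x * y) = (x * x) * y) ∧ (∀ x y : R, (y * x) * x = y * (x * x))

theorem asc_add_left (x x' y z : R) :
    associator (x + x') y z = associator x y z + associator x' y z := by
  simp only [associator, add_mul]; abel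

theorem asc_add_mid (x y y' z : R) :
    associator x (y + y') z = associator x y z + associator x y' z := by
  simp only [associator, add_mul, mul_add]; abel

theorem asc_add_right (x y z z' : R) :
    associator x y (z + z') = associator x y z + associator x y z' := by
  simp only [associator, mul_add]; abel

theorem asc_xxy (h : IsAlt R) (x y : R) : associator x x y = 0 := by
  simp only [associator, h.1 x y, sub_self]

theorem asc_yxx (h : IsAlt R) (x y : R) : associator y x x = 0 := by
  simp only [associator, h.2 x y, sub_self]

theorem asc_swap12 (h : IsAlt R) (x y z : R) : associator x y z = - associator y x z := by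
  have := asc_xxy h (x + y) z
  rw [asc_add_left, asc_add_mid, asc_add_mid, asc_xxy h, asc_xxy h] at this
  rw [eq_neg_iff_add_eq_zero]
  simpa using this

theorem asc_swap23 (h : IsAlt R) (x y z : R) : associator x y z = - associator x z y := by
  have := asc_yxx h (y + z) x
  rw [asc_add_mid, asc_add_right, asc_add_right, asc_yxx h, asc_yxx h] at this
  rw [eq_neg_iff_add_eq_zero]
  simpa using this

theorem asc_cyc (h : IsAlt R) (x y z : R) : associator x y z = associator y z x := by
  rw [asc_swap12 h x y z, asc_swap23 h y x z, neg_neg]

theorem asc_swap13 (h : IsAlt R) (x y z : R) : associator x y z = - associator z y x := by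
  rw [asc_cyc h x y z, asc_swap12 h y z x]

theorem asc_xyx (h : IsAlt R) (x y : R) : associator x y x = 0 := by
  rw [asc_swap12 h, asc_yxx h, neg_zero]

/-- (1): from the cocycle identity at `(x,x,y,z)`. -/
theorem asc_sq (h : IsAlt R) (x y z : R) :
    associator (x * x) y z = x * associator x y z + associator x (x * y) z := by
  have := associator_cocycle x x y z
  rw [asc_xxy h, asc_xxy h, zero_mul] at this
  have h2 : associator (x * x) y z = x * associator x y z + associator x (x * y) z - 0 + 0 - 
      (x * associator x y z - associator (x * x) y z + associator x (x * y) z - 0 + 0) := by abel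
  rw [this] at h2
  simpa using h2

/-- (1'): direct expansion. -/
theorem asc_sq' (h : IsAlt R) (x y z : R) :
    associator (x * x) y z = associator x y z * x - associator x (z * x) y := by
  have e1 : associator y z (x * x) = associator y z x * x + associator y (z * x) x := by
    simp only [associator, sub_mul, ← h.2 x (y * z), ← h.2 x z]
    abel
  rw [asc_cyc h (x * x) y z, e1, ← asc_cyc h x y z, ← asc_cyc h x y (z * x), asc_swap23 h x y (z * x)]
  abel

theorem asc_B' (h : IsAlt R) (x y z : R) : associator x (z * x) y + x * associator x y z = 0 := by
  -- A(x,y,z) = -B(x,z,y)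
  have hA : ∀ y z : R, associator x (x * y) z - associator x y z * x
      = - (associator x (z * x) y - x * associator x z y) := by
    intro y z
    have e1 := asc_sq h x y z
    have e2 := asc_sq' h x y z
    have e3 : associator x z y = - associator x y z := asc_swap23 h x z y
    rw [e3, mul_neg]
    have : associator x (x * y) z = associator x y z * x - associator x (z * x) y - x * associator x y z := by
      rw [← e2, e1]; abel
    rw [this]; abel
  have e := associator_cocycle x y x z
  rw [asc_xyx h, zero_mul] at e
  have s1 : associator (x * y) x z = - associator x (x * y) z := asc_swap12 h _ _ _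
  have s2 : associator x y (x * z) = - associator x (x * z) y := asc_swap23 h _ _ _
  have s3 : associator y x z = - associator x y z := asc_swap12 h _ _ _
  have s4 : associator x z y = - associator x y z := asc_swap23 h _ _ _
  rw [s1, s2, s3, mul_neg] at e
  have a1 := hA y z
  have a2 := hA z y
  rw [s4] at a1
  rw [s4] at a2
  -- a1 : asc x (x*y) z - asc x y z * x = -(asc x (z*x) y - x * (-asc x y z))
  -- a2 : asc x (x*z) y - (-asc x y z) * x = -(asc x (y*x) z - x * asc x y z)
  have t1 : associator x (x * y) z = associator x y z * x - (associator x (z * x) y + x * associator x y z) := by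
    have : associator x (x * y) z = (associator x (x * y) z - associator x y z * x) + associator x y z * x := by abel
    rw [this, a1]; simp only [mul_neg]; abel
  have t2 : associator x (x * z) y = - (associator x y z * x) - (associator x (y * x) z - x * associator x y z) := by
    have : associator x (x * z) y = (associator x (x * z) y - (-associator x y z) * x) + (-associator x y z) * x := by abel
    rw [this, a2]; simp only [neg_mul]; abel
  rw [t1, t2] at e
  -- e : -(x * asc x y z) - -(asc x y z * x - (asc x (z*x) y + x*asc x y z)) + asc x (y*x) z - -(-(..) - (...)) + 0 = 0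
  have : associator x (z * x) y + x * associator x y z = 0 := by
    have e' := e
    have : associator x (z * x) y + x * associator x y z =
      -(-(x * associator x y z) - -(associator x y z * x - (associator x (z * x) y + x * associator x y z)) +
        associator x (y * x) z - -(-(associator x y z * x) - (associator x (y * x) z - x * associator x y z)) + 0) := by
      abel
    rw [this, e', neg_zero]
  exact this

theorem asc_B (h : IsAlt R) (x y z : R) : associator x (y * x) z = x * associator x y z := by
  have := asc_B' h x z y
  rw [asc_swap23 h x z y, mul_neg] at this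
  exact (sub_eq_zero.mp (by rw [← this]; abel))

theorem asc_A (h : IsAlt R) (x y z : R) : associator x (x * y) z = associator x y z * x := by
  have e1 := asc_sq h x y z
  have e2 := asc_sq' h x y z
  have e3 := asc_B h x z y
  rw [asc_swap23 h x z y, mul_neg] at e3
  rw [e3] at e2
  have : associator x (x * y) z = (x * associator x y z + associator x (x * y) z) - x * associator x y z := by abel
  rw [this, ← e1, e2]; abel

/-- linearisation of `asc_A` in `x`. -/
theorem asc_A_lin (h : IsAlt R) (x w y z : R) :
    associator x (w * y) z + associator w (x * y) z
      = associator x y z * w + associator w y z * x := by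
  have e := asc_A h (x + w) y z
  rw [add_mul, asc_add_left, asc_add_mid, asc_add_mid, asc_add_left, add_mul, mul_add, mul_add,
    asc_A h x y z, asc_A h w y z] at e
  have : associator x (w * y) z + associator w (x * y) z =
      (associator x y z * x + associator x (w * y) z + (associator w (x * y) z + associator w y z * w))
      - associator x y z * x - associator w y z * w := by abel
  rw [this, e]; abel


/-- nonassociative words in two letters -/
inductive AWord : Type
  | of (i : Bool) : AWord
  | mul (u v : AWord) : AWord

namespace AWord

def len : AWord → ℕ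
  | of _ => 1
  | mul u v => u.len + v.len

def fl : AWord → Bool
  | of i => i
  | mul u _ => u.fl

def ev (a b : R) : AWord → R
  | of i => cond i a b
  | mul u v => u.ev a b * v.ev a b

theorem len_pos (u : AWord) : 0 < u.len := by
  induction u with
  | of i => simp [len]
  | mul u v hu hv => simp only [len]; omega

theorem eq_of_of_len (u : AWord) (h : u.len = 1) : u = of u.fl := by
  cases u with
  | of i => rfl
  | mul u v =>
    have := len_pos u; have := len_pos v
    simp only [len] at h; omega

/-- first-letter extraction -/
theorem extract (a b : R) (u : AWord)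
    (H : ∀ u1 u2 u3 : AWord, u1.len + u2.len + u3.len ≤ u.len →
      associator (u1.ev a b) (u2.ev a b) (u3.ev a b) = 0)
    (h2 : 2 ≤ u.len) :
    ∃ v : AWord, v.len + 1 = u.len ∧ u.ev a b = (of u.fl).ev a b * v.ev a b := by
  induction u with
  | of i => simp [len] at h2
  | mul u1 u2 ih1 _ =>
    by_cases h1 : u1.len = 1
    · refine ⟨u2, ?_, ?_⟩
      · simp only [len]; omega
      · have := eq_of_of_len u1 h1
        simp only [ev, fl]
        conv_lhs => rw [this]
        simp only [ev]
    · have hp := len_pos u1
      have hp2 := len_pos u2
      obtain ⟨v1, hv1, hev⟩ := ih1 (fun w1 w2 w3 hw => H w1 w2 w3 (by simp only [len]; omega)) (by omega)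
      refine ⟨mul v1 u2, ?_, ?_⟩
      · simp only [len]; omega
      · have hz := H (of u1.fl) v1 u2 (by simp only [len]; omega)
        simp only [ev, fl] at hev ⊢
        rw [hev]
        have := sub_eq_zero.mp hz
        simp only [ev] at this
        exact this

end AWord

open AWord in
/-- core case of Artin's induction: the first two words start with the same letter -/
theorem artin_core (h : IsAlt R) (a b : R) (n : ℕ)
    (IH : ∀ u1 u2 u3 : AWord, u1.len + u2.len + u3.len < n →
      associator (u1.ev a b) (u2.ev a b) (u3.ev a b) = 0)
    (u1 u2 u3 : AWord) (hn : u1.len + u2.len + u3.len = n) (hfl : u1.fl = u2.fl) :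
    associator (u1.ev a b) (u2.ev a b) (u3.ev a b) = 0 := by
  have p1 := len_pos u1
  have p2 := len_pos u2
  have p3 := len_pos u3
  set c : R := (of u1.fl).ev a b with hc
  by_cases h1 : u1.len = 1
  · have e1 : u1.ev a b = c := by
      conv_lhs => rw [eq_of_of_len u1 h1]
    by_cases h2 : u2.len = 1
    · have e2 : u2.ev a b = c := by
        conv_lhs => rw [eq_of_of_len u2 h2, ← hfl]
      rw [e1, e2, asc_xxy h]
    · obtain ⟨v2, hv2, hev2⟩ := extract a b u2 (fun w1 w2 w3 hw => IH w1 w2 w3 (by omega)) (by omega)
      rw [← hfl, ← hc] at hev2
      rw [e1, hev2, asc_A h]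
      have := IH (of u1.fl) v2 u3 (by simp only [len]; omega)
      rw [← hc] at this
      rw [this, zero_mul]
  · obtain ⟨v1, hv1, hev1⟩ := extract a b u1 (fun w1 w2 w3 hw => IH w1 w2 w3 (by omega)) (by omega)
    rw [← hc] at hev1
    by_cases h2 : u2.len = 1
    · have e2 : u2.ev a b = c := by
        conv_lhs => rw [eq_of_of_len u2 h2, ← hfl]
      rw [e2, asc_swap12 h, hev1, asc_A h]
      have := IH (of u1.fl) v1 u3 (by simp only [len]; omega)
      rw [← hc] at this
      rw [this, zero_mul, neg_zero]
    · obtain ⟨v2, hv2, hev2⟩ := extract a b u2 (fun w1 w2 w3 hw => IH w1 w2 w3 (by omega)) (by omega)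
      rw [← hfl, ← hc] at hev2
      have key := asc_A_lin h c (c * v1.ev a b) (v2.ev a b) (u3.ev a b)
      -- asc c ((c v1) v2) z + asc (c v1) (c v2) z = asc c v2 z * (c v1) + asc (c v1) v2 z * c
      have z1 : associator c (v2.ev a b) (u3.ev a b) = 0 := by
        have := IH (of u1.fl) v2 u3 (by simp only [len]; omega)
        rwa [← hc] at this
      have z2 : associator (c * v1.ev a b) (v2.ev a b) (u3.ev a b) = 0 := by
        have := IH u1 v2 u3 (by omega)
        rwa [hev1] at this
      have z3 : associator c (v1.ev a b) (v2.ev a b) = 0 := by
        have := IH (of u1.fl) v1 v2 (by simp only [len]; omega)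
        rwa [← hc] at this
      have z4 : associator c (v1.ev a b * v2.ev a b) (u3.ev a b) = 0 := by
        have := IH (of u1.fl) (mul v1 v2) u3 (by simp only [len]; omega)
        rw [← hc] at this
        simpa only [ev] using this
      have e3 : (c * v1.ev a b) * v2.ev a b = c * (v1.ev a b * v2.ev a b) := sub_eq_zero.mp z3
      rw [z1, z2, zero_mul, zero_mul, add_zero, e3, asc_A h, z4, zero_mul, zero_add] at key
      rw [hev1, hev2, key]

open AWord in
/-- **Artin's theorem** on words: all associators of words in two letters vanish. -/
theorem artin_words (h : IsAlt R) (a b : R) : ∀ n : ℕ, ∀ u1 u2 u3 : AWord,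
    u1.len + u2.len + u3.len ≤ n → associator (u1.ev a b) (u2.ev a b) (u3.ev a b) = 0 := by
  intro n
  induction n using Nat.strong_induction_on with
  | _ n ih =>
    intro u1 u2 u3 hle
    rcases Nat.lt_or_ge (u1.len + u2.len + u3.len) n with hlt | hge
    · exact ih _ hlt u1 u2 u3 le_rfl
    · have hn : u1.len + u2.len + u3.len = n := le_antisymm hle hge
      have IH : ∀ w1 w2 w3 : AWord, w1.len + w2.len + w3.len < n →
          associator (w1.ev a b) (w2.ev a b) (w3.ev a b) = 0 :=
        fun w1 w2 w3 hw => ih _ hw w1 w2 w3 le_rfl
      by_cases h12 : u1.fl = u2.fl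
      · exact artin_core h a b n IH u1 u2 u3 hn h12
      · by_cases h13 : u1.fl = u3.fl
        · rw [asc_swap23 h, artin_core h a b n IH u1 u3 u2 (by omega) h13, neg_zero]
        · have h23 : u2.fl = u3.fl := by
            cases h1 : u1.fl <;> cases h2 : u2.fl <;> cases h3 : u3.fl <;> simp_all
          rw [asc_cyc h, artin_core h a b n IH u2 u3 u1 (by omega) h23]

end Cfsg.Agent.Helper2.Alt
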