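import Mathlib
import Cfsg.Agent.Lib.Helper2.PSLMapEquiv

set_option autoImplicit false

namespace Cfsg.Agent.Helper2

/-- an isomorphism of groups induces an isomorphism of the commutator subgroups -/
theorem nonempty_commutator_mulEquiv {G H : Type*} [Group G] [Group H] (e : G ≃* H) :
    Nonempty (commutator G ≃* commutator H) := by
  have h : (commutator G).map e.toMonoidHom = commutator H := by
    rw [commutator_def, Subgroup.map_commutator, ← MonoidHom.range_eq_map,
      MonoidHom.range_eq_top.2 e.surjective, commutator_def]
  exact ⟨(e.subgroupMap (commutator G)).trans (MulEquiv.subgroupCongr h)⟩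

/-- if `G ≅ S_n`, `n ≥ 5`, then the central quotient of `G'` is `A_n` -/
theorem nonempty_commutator_quotient_center_equiv_alt {G : Type*} [Group G] (n : ℕ) (h5 : 5 ≤ n)
    (e : G ≃* Equiv.Perm (Fin n)) :
    Nonempty ((commutator G) ⧸ Subgroup.center (commutator G) ≃* alternatingGroup (Fin n)) := by
  obtain ⟨e3⟩ := nonempty_commutator_mulEquiv e
  have h5' : 5 ≤ Nat.card (Fin n) := by simpa using h5
  have e4 : commutator (Equiv.Perm (Fin n)) ≃* alternatingGroup (Fin n) :=
    MulEquiv.subgroupCongr (alternatingGroup.commutator_perm_eq h5')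
  have e5 : commutator G ≃* alternatingGroup (Fin n) := e3.trans e4
  have e6 := quotientCenterCongr e5
  have hc : Subgroup.center (alternatingGroup (Fin n)) = ⊥ :=
    alternatingGroup.center_eq_bot (by omega)
  have e7 : alternatingGroup (Fin n) ⧸ Subgroup.center (alternatingGroup (Fin n)) ≃*
      alternatingGroup (Fin n) :=
    (QuotientGroup.quotientMulEquivOfEq hc).trans (QuotientGroup.quotientBot)
  exact ⟨e6.trans e7⟩

end Cfsg.Agent.Helper2
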