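import Mathlib
import Cfsg.Agent.Lib.Helper2.AltArtin

/-!
# Finite alternative rings without zero divisors are commutative; commutative alternative rings of characteristic 2 are associative
(support for S1786 TI-ALG; uses Artin on words from AltArtin + Wedderburn from Mathlib).
-/

set_option autoImplicit false

namespace Cfsg.Agent.Helper2.Alt

section
variable {R : Type*} [NonUnitalNonAssocRing R]

theorem asc_zero_left (y z : R) : associator 0 y z = 0 := by simp [associator]
theorem asc_zero_mid (x z : R) : associator x 0 z = 0 := by simp [associator]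
theorem asc_zero_right (x y : R) : associator x y 0 = 0 := by simp [associator]

theorem asc_neg_left (x y z : R) : associator (-x) y z = - associator x y z := by
  simp only [associator, neg_mul]; abel
theorem asc_neg_mid (x y z : R) : associator x (-y) z = - associator x y z := by
  simp only [associator, neg_mul, mul_neg]; abel
theorem asc_neg_right (x y z : R) : associator x y (-z) = - associator x y z := by
  simp only [associator, mul_neg]; abel

end

section
variable {R : Type*} [NonAssocRing R]

/-- words in `a, b` together with `1` -/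
def wordSet (a b : R) : Set R := {1} ∪ Set.range (AWord.ev a b)

/-- additive span of the words in `a, b` and `1` -/
def wordSpan (a b : R) : AddSubgroup R := AddSubgroup.closure (wordSet a b)

theorem wordSet_mul (a b : R) {x y : R} (hx : x ∈ wordSet a b) (hy : y ∈ wordSet a b) :
    x * y ∈ wordSet a b := by
  rcases hx with hx | ⟨u, rfl⟩
  · rw [Set.mem_singleton_iff.mp hx, one_mul]; exact hy
  rcases hy with hy | ⟨v, rfl⟩
  · rw [Set.mem_singleton_iff.mp hy, mul_one]; exact Or.inr ⟨u, rfl⟩
  · exact Or.inr ⟨AWord.mul u v, rfl⟩

theorem wordSpan_mul (a b : R) {x y : R} (hx : x ∈ wordSpan a b) (hy : y ∈ wordSpan a b) :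
    x * y ∈ wordSpan a b := by
  unfold wordSpan at *
  induction hx, hy using AddSubgroup.closure_induction₂ with
  | mem x y hx hy => exact AddSubgroup.subset_closure (wordSet_mul a b hx hy)
  | zero_left x hx => rw [zero_mul]; exact AddSubgroup.zero_mem _
  | zero_right x hx => rw [mul_zero]; exact AddSubgroup.zero_mem _
  | add_left x y z hx hy hz h1 h2 => rw [add_mul]; exact AddSubgroup.add_mem _ h1 h2
  | add_right y z x hy hz hx h1 h2 => rw [mul_add]; exact AddSubgroup.add_mem _ h1 h2
  | neg_left x y hx hy h1 => rw [neg_mul]; exact AddSubgroup.neg_mem _ h1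
  | neg_right x y hx hy h1 => rw [mul_neg]; exact AddSubgroup.neg_mem _ h1

theorem one_mem_wordSpan (a b : R) : (1 : R) ∈ wordSpan a b :=
  AddSubgroup.subset_closure (Or.inl rfl)

theorem left_mem_wordSpan (a b : R) : a ∈ wordSpan a b :=
  AddSubgroup.subset_closure (Or.inr ⟨AWord.of true, rfl⟩)

theorem right_mem_wordSpan (a b : R) : b ∈ wordSpan a b :=
  AddSubgroup.subset_closure (Or.inr ⟨AWord.of false, rfl⟩)

theorem wordSet_asc (h : IsAlt R) (a b : R) {x y z : R} (hx : x ∈ wordSet a b)
    (hy : y ∈ wordSet a b) (hz : z ∈ wordSet a b) : associator x y z = 0 := by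
  rcases hx with hx | ⟨u, rfl⟩
  · rw [Set.mem_singleton_iff.mp hx]; simp [associator]
  rcases hy with hy | ⟨v, rfl⟩
  · rw [Set.mem_singleton_iff.mp hy]; simp [associator]
  rcases hz with hz | ⟨w, rfl⟩
  · rw [Set.mem_singleton_iff.mp hz]; simp [associator]
  exact artin_words h a b _ u v w le_rfl

theorem wordSpan_asc (h : IsAlt R) (a b : R) {x y z : R} (hx : x ∈ wordSpan a b)
    (hy : y ∈ wordSpan a b) (hz : z ∈ wordSpan a b) : associator x y z = 0 := by
  unfold wordSpan at *
  induction hx using AddSubgroup.closure_induction with
  | zero => exact asc_zero_left _ _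
  | add x x' _ _ h1 h2 => rw [asc_add_left, h1, h2, add_zero]
  | neg x _ h1 => rw [asc_neg_left, h1, neg_zero]
  | mem x hx =>
    induction hy using AddSubgroup.closure_induction with
    | zero => exact asc_zero_mid _ _
    | add y y' _ _ h1 h2 => rw [asc_add_mid, h1, h2, add_zero]
    | neg y _ h1 => rw [asc_neg_mid, h1, neg_zero]
    | mem y hy =>
      induction hz using AddSubgroup.closure_induction with
      | zero => exact asc_zero_right _ _
      | add z z' _ _ h1 h2 => rw [asc_add_right, h1, h2, add_zero]
      | neg z _ h1 => rw [asc_neg_right, h1, neg_zero]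
      | mem z hz => exact wordSet_asc h a b hx hy hz

/-- the (associative) ring structure on the span of the words in `a, b` -/
@[reducible] noncomputable def wordSpanRing (h : IsAlt R) (a b : R) : Ring (wordSpan a b) :=
  { (inferInstance : AddCommGroup (wordSpan a b)) with
    mul := fun x y => ⟨x.1 * y.1, wordSpan_mul a b x.2 y.2⟩
    one := ⟨1, one_mem_wordSpan a b⟩
    mul_assoc := fun x y z => Subtype.ext (sub_eq_zero.mp (wordSpan_asc h a b x.2 y.2 z.2))
    one_mul := fun x => Subtype.ext (one_mul x.1)
    mul_one := fun x => Subtype.ext (mul_one x.1)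
    left_distrib := fun x y z => Subtype.ext (mul_add x.1 y.1 z.1)
    right_distrib := fun x y z => Subtype.ext (add_mul x.1 y.1 z.1)
    zero_mul := fun x => Subtype.ext (zero_mul x.1)
    mul_zero := fun x => Subtype.ext (mul_zero x.1) }

/-- a finite alternative ring with `1 ≠ 0` and without zero divisors is commutative -/
theorem alt_comm [Finite R] (h : IsAlt R) (hnz : ∀ x y : R, x * y = 0 → x = 0 ∨ y = 0)
    (h01 : (1 : R) ≠ 0) (a b : R) : a * b = b * a := by
  let _ : Ring (wordSpan a b) := wordSpanRing h a b
  have : NoZeroDivisors (wordSpan a b) := ⟨by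
    intro x y hxy
    have : x.1 * y.1 = 0 := congrArg Subtype.val hxy
    rcases hnz _ _ this with h1 | h1
    · exact Or.inl (Subtype.ext h1)
    · exact Or.inr (Subtype.ext h1)⟩
  have : Nontrivial (wordSpan a b) := ⟨⟨1, 0, by
    intro h10
    exact h01 (congrArg Subtype.val h10)⟩⟩
  have : IsDomain (wordSpan a b) := NoZeroDivisors.to_isDomain _
  have hf := Finite.isDomain_to_isField (wordSpan a b)
  have := hf.mul_comm ⟨a, left_mem_wordSpan a b⟩ ⟨b, right_mem_wordSpan a b⟩
  exact congrArg Subtype.val this

/-- a commutative alternative ring of characteristic 2 is associative -/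
theorem alt_assoc (h : IsAlt R) (hc : ∀ a b : R, a * b = b * a) (h2 : ∀ x : R, x + x = 0)
    (x y z : R) : (x * y) * z = x * (y * z) := by
  have key : associator x y z - associator x z y + associator z x y = 0 := by
    simp only [associator]
    rw [hc z (x * y), hc (z * x) y, hc z x, hc (x * z) y, hc x (z * y), hc z y, hc x (y * z),
      hc y (x * z), hc x z]
    abel
  have e1 : associator x z y = - associator x y z := asc_swap23 h x z y
  have e2 : associator z x y = associator x y z := asc_cyc h z x y
  rw [e1, e2, sub_neg_eq_add] at key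
  have : associator x y z = 0 := by
    have h3 := h2 (associator x y z)
    rw [h3, zero_add] at key
    exact key
  exact sub_eq_zero.mp this

end

end Cfsg.Agent.Helper2.Alt
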