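import Mathlib
import Cfsg.Prelude.Def_Blocks
import Cfsg.Agent.Lib.Helper2.BRR1
import Cfsg.Agent.Lib.Helper2.BRR2

/-!
# S4503 (Brauer's `(p-1)/2` bound), reduction chapter, part 3: the minimal counterexample (helper2)

`reduction`: the statement of S4503 follows from
* `HypA p` (corollary of Step A): `|P| = p`, `N_G(P) = C_G(P)`, `ζ` faithful irreducible of degree
  `< (p-1)/2`  ⟹  `P ≤ Z(G)`;
* `HypCore p` (Steps A-E): no finite group `G` with `|P| = p`, `P` not normal, a faithful irreducible
  character of degree `< (p-1)/2`, all proper normal subgroups central, and `G` perfect.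
-/

set_option autoImplicit false
set_option linter.unusedSectionVars false
set_option linter.unusedVariables false
set_option linter.style.haveILetI false

namespace Cfsg.Agent.Helper2.BRR

open Cfsg Cfsg.Agent.Helper24 Subgroup
open scoped commutatorElement

universe u

/-- corollary of Step A used in the reduction -/
def HypA (p : ℕ) : Prop :=
  ∀ (G : Type u) [Group G] [Finite G] (P : Sylow p G) (ζ : IrrCharacter G),
    Nat.card P = p → (∀ g : G, (ζ : G → ℂ) g = (ζ : G → ℂ) 1 → g = 1) →
    2 * charDegree (ζ : G → ℂ) + 1 < p →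
    normalizer ((P : Subgroup G) : Set G) ≤ centralizer ((P : Subgroup G) : Set G) →
    (P : Subgroup G) ≤ center G

/-- the core: the reduced configuration is impossible -/
def HypCore (p : ℕ) : Prop :=
  ∀ (G : Type u) [Group G] [Finite G] (P : Sylow p G) (ζ : IrrCharacter G),
    Nat.card P = p → (∀ g : G, (ζ : G → ℂ) g = (ζ : G → ℂ) 1 → g = 1) →
    2 * charDegree (ζ : G → ℂ) + 1 < p →
    (∀ K : Subgroup G, K.Normal → K ≠ ⊤ → K ≤ center G) →
    commutator G = ⊤ →
    ¬ (P : Subgroup G).Normal → False

section Aux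

variable {G : Type u} [Group G]

/-- closed under conjugation by `H` (in one direction) implies normalised by `H` -/
theorem le_normalizer_of_conj_mem {H K : Subgroup G}
    (h : ∀ g ∈ H, ∀ x ∈ K, g * x * g⁻¹ ∈ K) : H ≤ normalizer (K : Set G) := by
  intro g hg
  rw [mem_normalizer_iff]
  intro x
  constructor
  · exact h g hg x
  · intro hx
    have := h g⁻¹ (H.inv_mem hg) _ hx
    have e : g⁻¹ * (g * x * g⁻¹) * g⁻¹⁻¹ = x := by group
    rwa [e] at this

theorem normal_of_le_center {P : Subgroup G} (h : P ≤ center G) : P.Normal := by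
  constructor
  intro a ha g
  have := mem_center_iff.mp (h ha) g
  rw [this, mul_assoc, mul_inv_cancel, mul_one]
  exact ha

end Aux

variable {p : ℕ} [hp : Fact p.Prime]

theorem reduction_aux (hA : HypA.{u} p) (hcore : HypCore.{u} p) :
    ∀ (n : ℕ) (G : Type u) [Group G] [Finite G], Nat.card G = n → p ∣ Nat.card G →
      ¬ p ^ 2 ∣ Nat.card G → (∀ H : Subgroup G, H.Normal → Nat.card H ≠ p) →
      ∀ χ : G → ℂ, IsCharacter G χ → (∀ g : G, χ g = χ 1 → g = 1) →
      p ≤ 2 * charDegree χ + 1 := by
  intro n
  induction n using Nat.strong_induction_on with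
  | _ n ih =>
  intro G _ _ hn hdiv hsq hnn χ hχ hf
  by_contra hlt
  push Not at hlt
  -- R3
  have hR3 : R3 p G := by
    intro H hH hpH
    have hlt' : Nat.card H < n := by
      rw [← hn]
      apply lt_of_le_of_ne (Subgroup.card_le_card_group H)
      intro heq
      exact hH (Subgroup.eq_top_of_card_eq H heq)
    obtain ⟨hχH, hfH, hdH⟩ := restrict_facts H hχ hf
    have hsqH : ¬ p ^ 2 ∣ Nat.card H := fun h => hsq (h.trans (Subgroup.card_subgroup_dvd_card H))
    by_contra hno
    have hnnH : ∀ K' : Subgroup H, K'.Normal → Nat.card K' ≠ p := by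
      intro K' hK'n hK'c
      apply hno
      refine ⟨K'.map H.subtype, Subgroup.map_subtype_le K', ?_, ?_⟩
      · rw [Subgroup.card_subtype, hK'c]
      · apply le_normalizer_of_conj_mem
        rintro g hg _ ⟨x, hx, rfl⟩
        refine ⟨(⟨g, hg⟩ : H) * x * (⟨g, hg⟩ : H)⁻¹, hK'n.conj_mem x hx _, ?_⟩
        simp
    have := ih (Nat.card H) hlt' H rfl hpH hsqH hnnH _ hχH hfH
    rw [hdH] at this
    omega
  -- a Sylow subgroup
  obtain ⟨P⟩ : Nonempty (Sylow p G) := Sylow.nonempty
  have hP : Nat.card (P : Subgroup G) = p := card_sylow hdiv hsq P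
  have hPnn : ¬ (P : Subgroup G).Normal := fun h => hnn P h hP
  -- the constituents
  obtain ⟨I, hIdeg, hIker⟩ := exists_constituents hχ
  -- a faithful constituent
  have hex : ∃ ζ ∈ I, ∀ g : G, (ζ : G → ℂ) g = (ζ : G → ℂ) 1 → g = 1 := by
    by_cases hcase : ∃ ζ ∈ I, ¬ ((P : Subgroup G) ⊔ kerOf ζ).Normal
    · obtain ⟨ζ, hζI, hζn⟩ := hcase
      refine ⟨ζ, hζI, ?_⟩
      set K := kerOf ζ with hKdef
      have hPK : ¬ (P : Subgroup G) ≤ K := by
        intro h
        apply hζn
        rw [sup_eq_right.mpr h]
        infer_instance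
      have hpK : ¬ p ∣ Nat.card K := fun h => hPK (le_of_normal_of_dvd hsq hP K h)
      -- the kernel is trivial
      have hKbot : K = ⊥ := by
        by_contra hKne
        have hcard := Subgroup.card_eq_card_quotient_mul_card_subgroup K
        have hK1 : 1 < Nat.card K := (Subgroup.one_lt_card_iff_ne_bot K).mpr hKne
        have hQpos : 0 < Nat.card (G ⧸ K) := Nat.card_pos
        have hlt' : Nat.card (G ⧸ K) < n := by
          rw [← hn, hcard]
          nlinarith
        have hdivQ : p ∣ Nat.card (G ⧸ K) := by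
          rw [hcard] at hdiv
          rcases (Nat.Prime.dvd_mul hp.out).mp hdiv with h | h
          · exact h
          · exact absurd h hpK
        have hsqQ : ¬ p ^ 2 ∣ Nat.card (G ⧸ K) := fun h =>
          hsq (h.trans ⟨Nat.card K, hcard⟩)
        obtain ⟨ψ, hψf, hψd⟩ := exists_faithful_quotient ζ
        have hψlt : ¬ p ≤ 2 * charDegree (ψ : G ⧸ K → ℂ) + 1 := by
          rw [hψd]
          have := hIdeg ζ hζI
          omega
        apply hψlt
        apply ih (Nat.card (G ⧸ K)) hlt' (G ⧸ K) rfl hdivQ hsqQ ?_ _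
          (isCharacter_of_isIrrCharacter ψ.2) hψf
        intro Hbar hHn hHc
        apply hζn
        -- the image of `P`
        set Pbar : Subgroup (G ⧸ K) := (P : Subgroup G).map (QuotientGroup.mk' K) with hPbar
        have hPbarp : IsPGroup p Pbar := (isPGroup_of_card_eq hP).map _
        have hle : Pbar ≤ Hbar := by
          apply le_of_le_normalizer hsqQ hHc hPbarp
          rw [normalizer_eq_top_iff.mpr hHn]
          exact le_top
        have hPbarc : Nat.card Pbar = p := by
          have hd : Nat.card Pbar ∣ p := hHc ▸ Subgroup.card_dvd_of_le hle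
          rcases hp.out.eq_one_or_self_of_dvd _ hd with h1 | h1
          · exfalso
            apply hPK
            have := (Subgroup.map_eq_bot_iff (P : Subgroup G)).mp (Subgroup.card_eq_one.mp h1)
            rwa [QuotientGroup.ker_mk'] at this
          · exact h1
        have heq : Pbar = Hbar := Subgroup.eq_of_le_of_card_ge hle (by rw [hPbarc, hHc])
        have hcm : (P : Subgroup G) ⊔ K = Hbar.comap (QuotientGroup.mk' K) := by
          rw [← heq, hPbar, Subgroup.comap_map_eq, QuotientGroup.ker_mk']
        rw [hcm]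
        exact hHn.comap _
      intro g hg
      have : g ∈ K := hg
      rw [hKbot, mem_bot] at this
      exact this
    · -- all `P K_ζ` are normal, hence everything: `G` is abelian
      exfalso
      push Not at hcase
      have hcomm : ∀ a b : G, ⁅a, b⁆ = 1 := by
        intro a b
        apply hf
        apply hIker
        intro ζ hζI
        have hn : ((P : Subgroup G) ⊔ kerOf ζ).Normal := hcase ζ hζI
        have htop : (P : Subgroup G) ⊔ kerOf ζ = ⊤ :=
          eq_top_of_normal_of_le hsq hnn hR3 hP _ le_sup_left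
        have ha : a ∈ (P : Subgroup G) ⊔ kerOf ζ := by rw [htop]; exact mem_top a
        have hb : b ∈ (P : Subgroup G) ⊔ kerOf ζ := by rw [htop]; exact mem_top b
        obtain ⟨x, hx, k, hk, rfl⟩ := mem_sup_of_normal_right.mp ha
        obtain ⟨y, hy, k', hk', rfl⟩ := mem_sup_of_normal_right.mp hb
        have hxy : x * y = y * x := comm_of_card_eq hP hx hy
        -- modulo the kernel
        have h1 : (QuotientGroup.mk' (kerOf ζ)) ⁅x * k, y * k'⁆ = 1 := by
          rw [map_commutatorElement, map_mul, map_mul]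
          have hk1 : (QuotientGroup.mk' (kerOf ζ)) k = 1 := (QuotientGroup.eq_one_iff k).mpr hk
          have hk2 : (QuotientGroup.mk' (kerOf ζ)) k' = 1 := (QuotientGroup.eq_one_iff k').mpr hk'
          rw [hk1, hk2, mul_one, mul_one, ← map_commutatorElement,
            commutatorElement_eq_one_iff_mul_comm.mpr hxy, map_one]
        exact (QuotientGroup.eq_one_iff _).mp h1
      apply hPnn
      constructor
      intro a ha g
      have := hcomm g a
      rw [commutatorElement_eq_one_iff_mul_comm] at this
      rw [this, mul_assoc, mul_inv_cancel, mul_one]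
      exact ha
  obtain ⟨ζ, hζI, hζf⟩ := hex
  have hζd : 2 * charDegree (ζ : G → ℂ) + 1 < p := by
    have := hIdeg ζ hζI
    omega
  have hNC : ¬ normalizer ((P : Subgroup G) : Set G) ≤ centralizer ((P : Subgroup G) : Set G) :=
    fun h => hPnn (normal_of_le_center (hA G P ζ hP hζf hζd h))
  have hR4 : ∀ K : Subgroup G, K.Normal → K ≠ ⊤ → K ≤ center G := by
    intro K hKn hK
    exact le_center_of_normal hsq hnn hR3 hP hNC K hK
  have hperf : commutator G = ⊤ := commutator_eq_top hsq hnn hR3 hP hR4
  exact hcore G P ζ hP hζf hζd hR4 hperf hPnn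

/-- **Reduction theorem for S4503.** -/
theorem reduction (hA : HypA.{u} p) (hcore : HypCore.{u} p) {G : Type u} [Group G] [Finite G]
    (hdiv : p ∣ Nat.card G) (hsq : ¬ p ^ 2 ∣ Nat.card G)
    (hnn : ∀ H : Subgroup G, H.Normal → Nat.card H ≠ p) (χ : G → ℂ) (hχ : IsCharacter G χ)
    (hfaith : ∀ g : G, χ g = χ 1 → g = 1) : p ≤ 2 * charDegree χ + 1 :=
  reduction_aux hA hcore (Nat.card G) G rfl hdiv hsq hnn χ hχ hfaith

end Cfsg.Agent.Helper2.BRR
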