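import Mathlib
import Cfsg.Agent.Lib.Helper3.BcgloBasic

set_option autoImplicit false

/-!
Piece A1 of the saturation criterion: if some conjugate of `P` has no map of normalizers onto `P`, then a
crossing configuration exists.
-/

namespace Cfsg.Agent.Helper2.BcgloA1

open Cfsg Cfsg.FusionSystem Cfsg.Agent.Helper25 Cfsg.Agent.Helper3.Bcglo

variable {Ω : Type*} [Group Ω] {S : Subgroup Ω}

theorem map_subgroupOf_eq_range {A P₁ : Subgroup Ω} (φ : A →* Ω) (hP₁A : P₁ ≤ A) :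
    (P₁.subgroupOf A).map φ = (φ.comp (Subgroup.inclusion hP₁A)).range := by
  ext y
  rw [mem_map_subgroupOf]
  constructor
  · rintro ⟨x, hK, hQ, rfl⟩
    exact ⟨⟨x, hQ⟩, rfl⟩
  · rintro ⟨x, rfl⟩
    exact ⟨x, hP₁A x.2, x.2, rfl⟩

theorem isConj_map (F : FusionSystem S) {A P₁ : Subgroup Ω} {φ : A →* Ω} (hφ : φ ∈ F.Hom A)
    (hP₁A : P₁ ≤ A) : F.IsConj P₁ ((P₁.subgroupOf A).map φ) :=
  ⟨φ.comp (Subgroup.inclusion hP₁A), restrict_mem F hP₁A hφ, (map_subgroupOf_eq_range φ hP₁A).symm⟩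

theorem card_map_subgroupOf (F : FusionSystem S) {A P₁ : Subgroup Ω} {φ : A →* Ω}
    (hφ : φ ∈ F.Hom A) (hP₁A : P₁ ≤ A) :
    Nat.card ((P₁.subgroupOf A).map φ : Subgroup Ω) = Nat.card P₁ := by
  rw [map_subgroupOf_eq_range φ hP₁A]
  exact (Nat.card_congr (homEquiv F (restrict_mem F hP₁A hφ)).toEquiv).symm

theorem hasNMap_self (F : FusionSystem S) {P : Subgroup Ω} (hP : P ≤ S) : HasNMap F P P := by
  refine ⟨(normalizerIn S P).subtype, subtype_mem F normalizerIn_le, fun x => x.2, ?_⟩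
  ext y
  rw [mem_map_subgroupOf]
  constructor
  · rintro ⟨x, hK, hQ, rfl⟩
    exact hQ
  · intro hy
    exact ⟨y, le_normalizerIn hP hy, hy, rfl⟩

theorem hasNMap_of_map (F : FusionSystem S) {P P₁ P₂ : Subgroup Ω}
    {τ : ↥(normalizerIn S P₂) →* Ω} (hτ : τ ∈ F.Hom (normalizerIn S P₂))
    (hval : ∀ x, τ x ∈ normalizerIn S P₁)
    (himg : (P₂.subgroupOf (normalizerIn S P₂)).map τ = P₁) (h : HasNMap F P P₁) :
    HasNMap F P P₂ := by
  obtain ⟨σ, hσ, hσv, hσi⟩ := h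
  refine ⟨σ.comp (τ.codRestrict _ hval), F.comp_mem hτ hσ hval, fun x => hσv _, ?_⟩
  ext y
  rw [mem_map_subgroupOf]
  constructor
  · rintro ⟨x, hK, hQ, rfl⟩
    have h1 : τ ⟨x, hK⟩ ∈ P₁ := by
      rw [← himg]
      exact ⟨⟨x, hK⟩, hQ, rfl⟩
    rw [← hσi]
    exact ⟨⟨τ ⟨x, hK⟩, hval _⟩, h1, rfl⟩
  · intro hy
    rw [← hσi] at hy
    obtain ⟨z, hz, rfl⟩ := hy
    have hz' : (z : Ω) ∈ (P₂.subgroupOf (normalizerIn S P₂)).map τ := by
      rw [himg]
      exact hz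
    obtain ⟨x, hx, hxz⟩ := hz'
    refine ⟨x, x.2, hx, ?_⟩
    show σ ⟨τ ⟨x, x.2⟩, _⟩ = σ z
    congr 1
    exact Subtype.ext hxz

theorem hasNMap_of_conj (F : FusionSystem S) {P P₁ P₂ : Subgroup Ω} {g : Ω} (hg : g ∈ S)
    (hP₁ : P₁ ≤ S) (h12 : ∀ y, y ∈ P₂ ↔ g⁻¹ * y * g ∈ P₁) (h : HasNMap F P P₁) :
    HasNMap F P P₂ := by
  have hP₂ : P₂ ≤ S := by
    intro y hy
    have h1 := hP₁ ((h12 y).mp hy)
    have e : y = g * (g⁻¹ * y * g) * g⁻¹ := by group
    rw [e]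
    exact S.mul_mem (S.mul_mem hg h1) (S.inv_mem hg)
  have hconj₁ : ∀ x ∈ P₁, g * x * g⁻¹ ∈ P₂ := by
    intro x hx
    rw [h12]
    have e : g⁻¹ * (g * x * g⁻¹) * g = x := by group
    rw [e]
    exact hx
  have hτ : conjHom (normalizerIn S P₂) g⁻¹ ∈ F.Hom (normalizerIn S P₂) :=
    F.conj_mem normalizerIn_le (S.inv_mem hg)
  refine hasNMap_of_map F hτ ?_ ?_ h
  · intro n
    rw [conjHom_apply, inv_inv, mem_normalizerIn]
    have hn := mem_normalizerIn.mp n.2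
    refine ⟨S.mul_mem (S.mul_mem (S.inv_mem hg) hn.1) hg, ?_⟩
    apply mem_normalizer_of_forall
    · intro x hx
      have h1 := hconj₁ x hx
      have h2 := (Subgroup.mem_normalizer_iff.mp hn.2 _).mp h1
      have h3 := (h12 _).mp h2
      have e : g⁻¹ * (n : Ω) * g * x * (g⁻¹ * (n : Ω) * g)⁻¹ =
          g⁻¹ * ((n : Ω) * (g * x * g⁻¹) * (n : Ω)⁻¹) * g := by group
      rw [e]
      exact h3
    · intro x hx
      have h1 := hconj₁ x hx
      have h2 := (Subgroup.mem_normalizer_iff.mp (Subgroup.inv_mem _ hn.2) _).mp h1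
      have h3 := (h12 _).mp h2
      have e : (g⁻¹ * (n : Ω) * g)⁻¹ * x * (g⁻¹ * (n : Ω) * g) =
          g⁻¹ * ((n : Ω)⁻¹ * (g * x * g⁻¹) * (n : Ω)⁻¹⁻¹) * g := by group
      rw [e]
      exact h3
  · ext y
    rw [mem_map_subgroupOf]
    constructor
    · rintro ⟨x, hK, hQ, rfl⟩
      rw [conjHom_apply, inv_inv]
      exact (h12 x).mp hQ
    · intro hy
      refine ⟨g * y * g⁻¹, le_normalizerIn hP₂ (hconj₁ y hy), hconj₁ y hy, ?_⟩
      rw [conjHom_apply]
      show g⁻¹ * (g * y * g⁻¹) * g⁻¹⁻¹ = y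
      group

/-- The restriction of a map of the system to the normalizer (inside its source) of a subgroup takes values in the
normalizer in `S` of the image of that subgroup. -/
theorem map_mem_normalizerIn (F : FusionSystem S) {A P₁ : Subgroup Ω} {φ : A →* Ω}
    (hφ : φ ∈ F.Hom A) (hP₁A : P₁ ≤ A) (r : A) (hr : (r : Ω) ∈ normalizerIn A P₁) :
    φ r ∈ normalizerIn S ((P₁.subgroupOf A).map φ) := by
  have hrN := (mem_normalizerIn.mp hr).2
  rw [mem_normalizerIn]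
  refine ⟨(F.le_of_mem hφ).2 r, ?_⟩
  apply mem_normalizer_of_forall
  · intro y hy
    rw [mem_map_subgroupOf] at hy ⊢
    obtain ⟨x, hK, hQ, rfl⟩ := hy
    have h1 : (r : Ω) * x * (r : Ω)⁻¹ ∈ P₁ := (Subgroup.mem_normalizer_iff.mp hrN x).mp hQ
    refine ⟨(r : Ω) * x * (r : Ω)⁻¹, hP₁A h1, h1, ?_⟩
    have e : (⟨(r : Ω) * x * (r : Ω)⁻¹, hP₁A h1⟩ : A) = r * ⟨x, hK⟩ * r⁻¹ := Subtype.ext rfl
    rw [e, map_mul, map_mul, map_inv]
  · intro y hy
    rw [mem_map_subgroupOf] at hy ⊢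
    obtain ⟨x, hK, hQ, rfl⟩ := hy
    have h1 : (r : Ω)⁻¹ * x * (r : Ω)⁻¹⁻¹ ∈ P₁ :=
      (Subgroup.mem_normalizer_iff.mp (Subgroup.inv_mem _ hrN) x).mp hQ
    refine ⟨(r : Ω)⁻¹ * x * (r : Ω)⁻¹⁻¹, hP₁A h1, h1, ?_⟩
    have e : (⟨(r : Ω)⁻¹ * x * (r : Ω)⁻¹⁻¹, hP₁A h1⟩ : A) = r⁻¹ * ⟨x, hK⟩ * r⁻¹⁻¹ :=
      Subtype.ext rfl
    rw [e]
    simp

theorem exists_cross [Finite S] {p : ℕ} [Fact p.Prime] {F : FusionSystem S} {P : Subgroup Ω}
    (h : Ctx F p P) {P' : Subgroup Ω} (hP' : F.IsConj P P') (hn : ¬ HasNMap F P P') :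
    ∃ (P₁ R₁ : Subgroup Ω) (θ₁ : R₁ →* Ω), IsCross F P P₁ R₁ θ₁ := by
  by_contra hno
  have hno' : ∀ (P₁ R₁ : Subgroup Ω) (θ₁ : R₁ →* Ω), ¬ IsCross F P P₁ R₁ θ₁ :=
    fun P₁ R₁ θ₁ hc => hno ⟨P₁, R₁, θ₁, hc⟩
  have key : ∀ {A : Subgroup Ω} {φ : A →* Ω}, φ ∈ F.Hom A →
      ∀ P₁ : Subgroup Ω, P₁ ≤ A → F.IsConj P P₁ →
        (HasNMap F P P₁ ↔ HasNMap F P ((P₁.subgroupOf A).map φ)) := by
    intro A φ hφ
    refine h.induction (fun A φ => ∀ P₁ : Subgroup Ω, P₁ ≤ A → F.IsConj P P₁ →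
        (HasNMap F P P₁ ↔ HasNMap F P ((P₁.subgroupOf A).map φ))) ?_ ?_ ?_ ?_ hφ
    · -- conjugation by an element of `S`
      intro A g hA hg P₁ hP₁A hc
      have hP₁S : P₁ ≤ S := hP₁A.trans hA
      have h12 : ∀ y, y ∈ (P₁.subgroupOf A).map (conjHom A g) ↔ g⁻¹ * y * g ∈ P₁ := by
        intro y
        rw [mem_map_subgroupOf]
        constructor
        · rintro ⟨x, hK, hQ, rfl⟩
          rw [conjHom_apply]
          have e : g⁻¹ * (g * x * g⁻¹) * g = x := by group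
          show g⁻¹ * (g * x * g⁻¹) * g ∈ P₁
          rw [e]
          exact hQ
        · intro hy
          refine ⟨g⁻¹ * y * g, hP₁A hy, hy, ?_⟩
          rw [conjHom_apply]
          show g * (g⁻¹ * y * g) * g⁻¹ = y
          group
      have hc2 := isConj_map F (F.conj_mem hA hg) hP₁A
      constructor
      · exact hasNMap_of_conj F hg hP₁S h12
      · refine hasNMap_of_conj F (S.inv_mem hg) (isConj_le_right F hc2) ?_
        intro y
        rw [h12]
        have e : g⁻¹ * (g⁻¹⁻¹ * y * g⁻¹) * g = y := by group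
        rw [e]
    · -- composition
      intro A B φ ψ hφ hψ hPrφ hPrψ hAB P₁ hP₁A hc
      have hc2 : F.IsConj P₁ ((P₁.subgroupOf A).map φ) := isConj_map F hφ hP₁A
      have hP₂B : (P₁.subgroupOf A).map φ ≤ B := by
        rintro _ ⟨x, -, rfl⟩
        exact hAB x
      have e : (P₁.subgroupOf A).map (ψ.comp (φ.codRestrict B hAB)) =
          (((P₁.subgroupOf A).map φ).subgroupOf B).map ψ := by
        ext y
        simp only [mem_map_subgroupOf]
        constructor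
        · rintro ⟨x, hK, hQ, rfl⟩
          exact ⟨φ ⟨x, hK⟩, hAB _, ⟨x, hK, hQ, rfl⟩, rfl⟩
        · rintro ⟨z, hzB, ⟨x, hK, hQ, rfl⟩, rfl⟩
          exact ⟨x, hK, hQ, rfl⟩
      rw [e]
      exact (hPrφ P₁ hP₁A hc).trans (hPrψ _ hP₂B (isConj_trans F hc hc2))
    · -- inverses
      intro A φ hφ hPrφ ψ hψ hinv P₁ hP₁ hc
      have hc2 : F.IsConj P₁ ((P₁.subgroupOf φ.range).map ψ) := isConj_map F hψ hP₁
      have hP₀A : (P₁.subgroupOf φ.range).map ψ ≤ A := by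
        rintro _ ⟨⟨_, x, rfl⟩, -, rfl⟩
        rw [hinv]
        exact x.2
      have e : (((P₁.subgroupOf φ.range).map ψ).subgroupOf A).map φ = P₁ := by
        ext y
        rw [mem_map_subgroupOf]
        constructor
        · rintro ⟨x, hK, hQ, rfl⟩
          rw [mem_map_subgroupOf] at hQ
          obtain ⟨z, hzr, hzP, hzx⟩ := hQ
          obtain ⟨x', rfl⟩ := hzr
          have hx' : (x' : Ω) = x := by
            rw [← hzx]
            exact (hinv x').symm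
          have e2 : (⟨x, hK⟩ : A) = x' := Subtype.ext hx'.symm
          rw [e2]
          exact hzP
        · intro hy
          obtain ⟨x, rfl⟩ := hP₁ hy
          refine ⟨x, x.2, ?_, rfl⟩
          rw [mem_map_subgroupOf]
          exact ⟨φ x, ⟨x, rfl⟩, hy, hinv x⟩
      have h3 := hPrφ _ hP₀A (isConj_trans F hc hc2)
      rw [e] at h3
      exact h3.symm
    · -- maps whose source is not conjugate to `P`
      intro A φ hφ hnc P₁ hP₁A hc
      have hAS : A ≤ S := (F.le_of_mem hφ).1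
      have hP₁S : P₁ ≤ S := hP₁A.trans hAS
      have hfinA : Finite A := finite_of_le_finite hAS
      have hne : P₁ ≠ A := by
        rintro rfl
        exact hnc hc
      obtain ⟨g, hgN, hgP⟩ :=
        exists_mem_normalizerIn_not_mem (S := A) (h.hS.to_le hAS) hP₁A hne
      have hP₁R : P₁ ≤ normalizerIn A P₁ := le_normalizerIn hP₁A
      have hR₁A : normalizerIn A P₁ ≤ A := normalizerIn_le
      have hR₁N : normalizerIn A P₁ ≤ normalizerIn S P₁ := fun x hx => ⟨hAS hx.1, hx.2⟩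
      have hfinR : Finite (normalizerIn A P₁) := finite_of_le_finite (hR₁A.trans hAS)
      have hcard : Nat.card P₁ < Nat.card (normalizerIn A P₁) := by
        by_contra hle
        push Not at hle
        have h4 := Subgroup.eq_of_le_of_card_ge hP₁R hle
        exact hgP (h4 ▸ hgN)
      have hc2 : F.IsConj P₁ ((P₁.subgroupOf A).map φ) := isConj_map F hφ hP₁A
      have hφ₁ : φ.comp (Subgroup.inclusion hR₁A) ∈ F.Hom (normalizerIn A P₁) :=
        restrict_mem F hR₁A hφ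
      have hval : ∀ x : ↥(normalizerIn A P₁), (φ.comp (Subgroup.inclusion hR₁A)) x ∈
          normalizerIn S ((P₁.subgroupOf A).map φ) :=
        fun x => map_mem_normalizerIn F hφ hP₁A ⟨x, hR₁A x.2⟩ x.2
      constructor
      · -- a map for `P₁` but none for its image
        intro h1
        by_contra h2
        obtain ⟨σ, hσ, hσv, hσi⟩ := h1
        obtain ⟨ψ₁, hψ₁, hψ₁inv, hψ₁r⟩ := exists_inv F hφ₁ rfl
        have hval2 : ∀ y : ↥(φ.comp (Subgroup.inclusion hR₁A)).range,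
            ψ₁ y ∈ normalizerIn S P₁ := by
          intro y
          obtain ⟨x, hx⟩ := MonoidHom.mem_range.mp y.2
          have hm : (φ.comp (Subgroup.inclusion hR₁A)) x ∈
              (φ.comp (Subgroup.inclusion hR₁A)).range := MonoidHom.mem_range.mpr ⟨x, rfl⟩
          have e1 : y = ⟨(φ.comp (Subgroup.inclusion hR₁A)) x, hm⟩ := Subtype.ext hx.symm
          have e2 : ψ₁ y = (x : Ω) := by
            rw [e1]
            exact hψ₁inv x hm
          rw [e2]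
          exact hR₁N x.2
        refine hno' ((P₁.subgroupOf A).map φ) (φ.comp (Subgroup.inclusion hR₁A)).range
          (σ.comp (ψ₁.codRestrict _ hval2)) ⟨isConj_trans F hc hc2, h2, ?_, ?_, ?_,
            F.comp_mem hψ₁ hσ hval2, ?_⟩
        · rintro _ ⟨x, hx, rfl⟩
          exact ⟨⟨x, hP₁R hx⟩, rfl⟩
        · rintro _ ⟨x, rfl⟩
          exact hval x
        · rw [card_map_subgroupOf F hφ hP₁A, ← Nat.card_congr (homEquiv F hφ₁).toEquiv]
          exact hcard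
        · ext y
          rw [mem_map_subgroupOf]
          constructor
          · rintro ⟨z, hzR, hzP, rfl⟩
            obtain ⟨x, hx, rfl⟩ := hzP
            have hx' : (x : Ω) ∈ P₁ := hx
            have e1 : ψ₁ ⟨φ x, hzR⟩ = (x : Ω) := hψ₁inv ⟨x, hP₁R hx'⟩ hzR
            rw [← hσi]
            refine ⟨⟨x, hR₁N (hP₁R hx')⟩, hx', ?_⟩
            show σ _ = σ ⟨ψ₁ ⟨φ x, hzR⟩, _⟩
            congr 1
            exact Subtype.ext e1.symm
          · intro hy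
            rw [← hσi] at hy
            obtain ⟨x, hx, rfl⟩ := hy
            have hx' : (x : Ω) ∈ P₁ := hx
            have hzR : φ ⟨x, hP₁A hx'⟩ ∈ (φ.comp (Subgroup.inclusion hR₁A)).range :=
              ⟨⟨x, hP₁R hx'⟩, rfl⟩
            refine ⟨φ ⟨x, hP₁A hx'⟩, hzR, ⟨⟨x, hP₁A hx'⟩, hx', rfl⟩, ?_⟩
            have e1 : ψ₁ ⟨φ ⟨x, hP₁A hx'⟩, hzR⟩ = (x : Ω) := hψ₁inv ⟨x, hP₁R hx'⟩ hzR
            show σ ⟨ψ₁ ⟨φ ⟨x, hP₁A hx'⟩, hzR⟩, _⟩ = σ x
            congr 1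
            exact Subtype.ext e1
      · -- a map for the image but none for `P₁`
        intro h2
        by_contra h1
        obtain ⟨σ, hσ, hσv, hσi⟩ := h2
        refine hno' P₁ (normalizerIn A P₁) (σ.comp ((φ.comp (Subgroup.inclusion hR₁A)).codRestrict _ hval))
          ⟨hc, h1, hP₁R, hR₁N, hcard, F.comp_mem hφ₁ hσ hval, ?_⟩
        ext y
        rw [mem_map_subgroupOf]
        constructor
        · rintro ⟨x, hK, hQ, rfl⟩
          rw [← hσi]
          refine ⟨⟨φ ⟨x, hP₁A hQ⟩, hval ⟨x, hK⟩⟩, ?_, rfl⟩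
          exact ⟨⟨x, hP₁A hQ⟩, hQ, rfl⟩
        · intro hy
          rw [← hσi] at hy
          obtain ⟨z, hz, rfl⟩ := hy
          obtain ⟨x, hx, hxz⟩ := hz
          have hx' : (x : Ω) ∈ P₁ := hx
          refine ⟨x, hP₁R hx', hx', ?_⟩
          show σ ⟨φ ⟨x, _⟩, _⟩ = σ z
          congr 1
          exact Subtype.ext hxz
  obtain ⟨φ₀, hφ₀, hr⟩ := hP'
  have h5 := key hφ₀ P le_rfl (isConj_refl F h.hP)
  have e : (P.subgroupOf P).map φ₀ = P' := by
    rw [Subgroup.subgroupOf_self, ← MonoidHom.range_eq_map]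
    exact hr
  rw [e] at h5
  exact hn (h5.mp (hasNMap_self F h.hP))

end Cfsg.Agent.Helper2.BcgloA1
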