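import Mathlib

set_option autoImplicit false

namespace Cfsg.Agent.Helper2

variable {G : Type*} [Group G]

theorem mul_self_of_orderOf_two {x : G} (hx : orderOf x = 2) : x * x = 1 := by
  have := pow_orderOf_eq_one x
  rw [hx, pow_two] at this
  exact this

theorem inv_eq_self_of_mul_self {x : G} (hx : x * x = 1) : x⁻¹ = x :=
  inv_eq_of_mul_eq_one_left hx

theorem ne_one_of_orderOf_two {x : G} (hx : orderOf x = 2) : x ≠ 1 := by
  intro h
  rw [h, orderOf_one] at hx
  exact absurd hx (by decide)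

theorem orderOf_two_of_mul_self {x : G} (hx : x * x = 1) (h1 : x ≠ 1) : orderOf x = 2 := by
  have : x ^ 2 = 1 := by rw [pow_two]; exact hx
  exact orderOf_eq_prime this h1

/-- an involution `x` inverts `x * y` when `y` is an involution -/
theorem dih_conj_left {x y : G} (hx : x * x = 1) (hy : y * y = 1) :
    x * (x * y) * x⁻¹ = (x * y)⁻¹ := by
  rw [inv_eq_self_of_mul_self hx, mul_inv_rev, inv_eq_self_of_mul_self hx, inv_eq_self_of_mul_self hy,
    ← mul_assoc, hx, one_mul]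

theorem dih_conj_right {x y : G} (hx : x * x = 1) (hy : y * y = 1) :
    y * (x * y) * y⁻¹ = (x * y)⁻¹ := by
  rw [inv_eq_self_of_mul_self hy, mul_inv_rev, inv_eq_self_of_mul_self hx, inv_eq_self_of_mul_self hy,
    mul_assoc, mul_assoc, hy, mul_one]

theorem dih_conj_left_zpow {x y : G} (hx : x * x = 1) (hy : y * y = 1) (j : ℤ) :
    x * (x * y) ^ j * x⁻¹ = (x * y) ^ (-j) := by
  have h := map_zpow (MulAut.conj x) (x * y) j
  simp only [MulAut.conj_apply] at h
  rw [h, dih_conj_left hx hy, inv_zpow, zpow_neg]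

theorem dih_conj_right_zpow {x y : G} (hx : x * x = 1) (hy : y * y = 1) (j : ℤ) :
    y * (x * y) ^ j * y⁻¹ = (x * y) ^ (-j) := by
  have h := map_zpow (MulAut.conj y) (x * y) j
  simp only [MulAut.conj_apply] at h
  rw [h, dih_conj_right hx hy, inv_zpow, zpow_neg]

/-- `x * r^j = r^(-j) * x` -/
theorem dih_swap {x y : G} (hx : x * x = 1) (hy : y * y = 1) (j : ℤ) :
    x * (x * y) ^ j = (x * y) ^ (-j) * x := by
  rw [← dih_conj_left_zpow hx hy j, inv_eq_self_of_mul_self hx, mul_assoc, mul_assoc, hx, mul_one]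

theorem dih_y_eq {x y : G} (hx : x * x = 1) : y = x * (x * y) := by
  rw [← mul_assoc, hx, one_mul]

theorem dih_y_eq' {x y : G} (hx : x * x = 1) (hy : y * y = 1) : y = (x * y) ^ (-1 : ℤ) * x := by
  rw [← dih_swap hx hy 1, zpow_one, ← mul_assoc, hx, one_mul]

/-- every element of `⟨x, y⟩` is `r^j` or `r^j x` -/
theorem dih_mem_closure {x y : G} (hx : x * x = 1) (hy : y * y = 1) {d : G}
    (hd : d ∈ Subgroup.closure ({x, y} : Set G)) :
    ∃ j : ℤ, d = (x * y) ^ j ∨ d = (x * y) ^ j * x := by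
  induction hd using Subgroup.closure_induction with
  | mem a ha =>
    rcases ha with rfl | ha
    · exact ⟨0, Or.inr (by simp)⟩
    · rw [Set.mem_singleton_iff] at ha
      subst ha
      exact ⟨-1, Or.inr (dih_y_eq' hx hy)⟩
  | one => exact ⟨0, Or.inl (by simp)⟩
  | mul a b _ _ iha ihb =>
    obtain ⟨i, hi | hi⟩ := iha <;> obtain ⟨j, hj | hj⟩ := ihb
    · exact ⟨i + j, Or.inl (by rw [hi, hj, zpow_add])⟩
    · exact ⟨i + j, Or.inr (by rw [hi, hj, zpow_add, mul_assoc])⟩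
    · refine ⟨i - j, Or.inr ?_⟩
      rw [hi, hj, mul_assoc, dih_swap hx hy j, ← mul_assoc, ← zpow_add, sub_eq_add_neg]
    · refine ⟨i - j, Or.inl ?_⟩
      rw [hi, hj, mul_assoc, ← mul_assoc x, dih_swap hx hy j, mul_assoc, hx, mul_one, ← zpow_add,
        sub_eq_add_neg]
  | inv a _ iha =>
    obtain ⟨i, hi | hi⟩ := iha
    · exact ⟨-i, Or.inl (by rw [hi, zpow_neg])⟩
    · refine ⟨i, Or.inr ?_⟩
      rw [hi, mul_inv_rev, inv_eq_self_of_mul_self hx, ← zpow_neg, dih_swap hx hy, neg_neg]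

theorem dih_zpow_mem_closure (x y : G) (j : ℤ) :
    (x * y) ^ j ∈ Subgroup.closure ({x, y} : Set G) := by
  apply Subgroup.zpow_mem
  apply Subgroup.mul_mem
  · exact Subgroup.subset_closure (by simp)
  · exact Subgroup.subset_closure (by simp)

/-- conjugating `x` by `r^j` -/
theorem dih_conj_x_by_zpow {x y : G} (hx : x * x = 1) (hy : y * y = 1) (j : ℤ) :
    (x * y) ^ j * x * ((x * y) ^ j)⁻¹ = (x * y) ^ (2 * j) * x := by
  rw [← zpow_neg, mul_assoc, dih_swap hx hy (-j), neg_neg, ← mul_assoc, ← zpow_add, two_mul]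

/-- conjugates of `x` by elements of `⟨x, y⟩` -/
theorem dih_conj_x {x y : G} (hx : x * x = 1) (hy : y * y = 1) {d : G}
    (hd : d ∈ Subgroup.closure ({x, y} : Set G)) :
    ∃ j : ℤ, d * x * d⁻¹ = (x * y) ^ (2 * j) * x := by
  obtain ⟨j, hj | hj⟩ := dih_mem_closure hx hy hd
  · exact ⟨j, by rw [hj, dih_conj_x_by_zpow hx hy]⟩
  · refine ⟨j, ?_⟩
    rw [hj, mul_inv_rev, inv_eq_self_of_mul_self hx]
    have : (x * y) ^ j * x * x * (x * ((x * y) ^ j)⁻¹) = (x * y) ^ j * x * ((x * y) ^ j)⁻¹ := by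
      rw [mul_assoc ((x * y) ^ j) x x, hx, mul_one, mul_assoc]
    rw [this, dih_conj_x_by_zpow hx hy]

end Cfsg.Agent.Helper2
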