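import Mathlib
import Cfsg.Agent.Lib.Helper2.Dihedral
import Cfsg.Agent.Lib.Helper2.ConjClass
import Cfsg.Agent.S0237
import Cfsg.Agent.S0238

set_option autoImplicit false

namespace Cfsg.Agent.Helper2

variable {G : Type*} [Group G]

/-- the number of ordered pairs of involutions with product `x` -/
noncomputable def invPairs (x : G) : ℕ :=
  Nat.card {p : G × G // orderOf p.1 = 2 ∧ orderOf p.2 = 2 ∧ p.1 * p.2 = x}

/-- the number of involutions -/
noncomputable def numInv (G : Type*) [Group G] : ℕ := Nat.card {t : G // orderOf t = 2}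

open Classical in
theorem sum_invPairs [Fintype G] : ∑ x : G, invPairs x = numInv G ^ 2 := by
  have h1 : numInv G ^ 2 = Nat.card ({t : G // orderOf t = 2} × {t : G // orderOf t = 2}) := by
    rw [Nat.card_prod, pow_two]; rfl
  rw [h1]
  let f : ({t : G // orderOf t = 2} × {t : G // orderOf t = 2}) → G := fun p => p.1.1 * p.2.1
  rw [← Nat.card_congr (Equiv.sigmaFiberEquiv f), Nat.card_sigma]
  apply Finset.sum_congr rfl
  intro x _
  unfold invPairs
  apply Nat.card_congr
  refine
    { toFun := fun p => ⟨(⟨p.1.1, p.2.1⟩, ⟨p.1.2, p.2.2.1⟩), p.2.2.2⟩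
      invFun := fun q => ⟨(q.1.1.1, q.1.2.1), q.1.1.2, q.1.2.2, q.2⟩
      left_inv := fun p => rfl
      right_inv := fun q => rfl }

theorem invPairs_one [Finite G] : invPairs (1 : G) = numInv G := by
  unfold invPairs numInv
  apply Nat.card_congr
  refine
    { toFun := fun p => ⟨p.1.1, p.2.1⟩
      invFun := fun t => ⟨(t.1, t.1), t.2, t.2, mul_self_of_orderOf_two t.2⟩
      left_inv := ?_
      right_inv := fun t => rfl }
  rintro ⟨⟨u, v⟩, hu, hv, huv⟩
  simp only at hu hv huv
  have : v = u := by
    have h1 := eq_inv_of_mul_eq_one_right huv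
    rw [h1, inv_eq_self_of_mul_self (mul_self_of_orderOf_two hu)]
  subst this
  rfl

/-- the extended centralizer `C*(x)` -/
def cstar (x : G) : Subgroup G where
  carrier := {g | g * x * g⁻¹ = x ∨ g * x * g⁻¹ = x⁻¹}
  one_mem' := Or.inl (by group)
  mul_mem' := by
    intro a b ha hb
    have key : a * b * x * (a * b)⁻¹ = a * (b * x * b⁻¹) * a⁻¹ := by group
    have hainv : a * x * a⁻¹ = x⁻¹ → a * x⁻¹ * a⁻¹ = x := by
      intro h
      have : a * x⁻¹ * a⁻¹ = (a * x * a⁻¹)⁻¹ := by group
      rw [this, h, inv_inv]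
    have hainv' : a * x * a⁻¹ = x → a * x⁻¹ * a⁻¹ = x⁻¹ := by
      intro h
      have : a * x⁻¹ * a⁻¹ = (a * x * a⁻¹)⁻¹ := by group
      rw [this, h]
    show _ ∨ _
    rw [key]
    rcases ha with ha | ha <;> rcases hb with hb | hb
    · left; rw [hb, ha]
    · right; rw [hb, hainv' ha]
    · right; rw [hb, ha]
    · left; rw [hb, hainv ha]
  inv_mem' := by
    intro a ha
    show _ ∨ _
    rcases ha with ha | ha
    · left
      have : a⁻¹ * x * a⁻¹⁻¹ = a⁻¹ * (a * x * a⁻¹) * a := by rw [ha]; group
      rw [this]; group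
    · right
      have h1 : x = a⁻¹ * x⁻¹ * a := by rw [← ha]; group
      have : a⁻¹ * x * a⁻¹⁻¹ = (a⁻¹ * x⁻¹ * a)⁻¹ := by group
      rw [this, ← h1]

theorem centralizer_le_cstar (x : G) : Subgroup.centralizer ({x} : Set G) ≤ cstar x := by
  intro g hg
  rw [Subgroup.mem_centralizer_singleton_iff] at hg
  left
  rw [hg]; group

theorem card_cstar [Finite G] (x : G) (hreal : IsConj x x⁻¹) (hne : x ≠ x⁻¹) :
    Nat.card (cstar x) = 2 * Nat.card (Subgroup.centralizer ({x} : Set G)) := by
  classical
  have h1 : Nat.card (cstar x) = Nat.card ({g : G // g * x * g⁻¹ = x} ⊕ {g : G // g * x * g⁻¹ = x⁻¹}) := by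
    apply Nat.card_congr
    refine
      { toFun := fun g => if h : g.1 * x * g.1⁻¹ = x then Sum.inl ⟨g.1, h⟩ else
          Sum.inr ⟨g.1, g.2.resolve_left h⟩
        invFun := fun s => Sum.elim (fun a => ⟨a.1, Or.inl a.2⟩) (fun b => ⟨b.1, Or.inr b.2⟩) s
        left_inv := ?_
        right_inv := ?_ }
    · intro g
      by_cases h : g.1 * x * g.1⁻¹ = x
      · simp [h]
      · simp [h]
    · rintro (a | b)
      · simp [a.2]
      · have : ¬ (b.1 * x * b.1⁻¹ = x) := by
          rw [b.2]; exact fun h => hne h.symm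
        simp [this]
  rw [h1, Nat.card_sum, Cfsg.Agent.S0237.result x hreal, two_mul]
  congr 1
  apply Nat.card_congr
  refine Equiv.subtypeEquivRight ?_
  intro g
  rw [Subgroup.mem_centralizer_singleton_iff]
  constructor
  · intro h
    calc g * x = (g * x * g⁻¹) * g := by group
      _ = x * g := by rw [h]
  · intro h
    rw [h]; group

end Cfsg.Agent.Helper2

namespace Cfsg.Agent.Helper2

variable {G : Type*} [Group G]

theorem centralizer_ne_top_of_not_mem_center (x : G) (hx : x ∉ Subgroup.center G) :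
    Subgroup.centralizer ({x} : Set G) ≠ ⊤ := by
  intro h
  apply hx
  rw [Subgroup.mem_center_iff]
  intro g
  have : g ∈ Subgroup.centralizer ({x} : Set G) := by rw [h]; exact Subgroup.mem_top g
  rw [Subgroup.mem_centralizer_singleton_iff] at this
  exact this

theorem invPairs_bound_involution [Finite G] (M : ℕ)
    (hM : ∀ H : Subgroup G, H ≠ ⊤ → Nat.card H ≤ M)
    (hz : ∀ t : G, orderOf t = 2 → t ∉ Subgroup.center G) (x : G) (hx : orderOf x = 2) :
    invPairs x + 2 ≤ M := by
  have h1 := (Cfsg.Agent.S0238.result x).2.2 hx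
  have h2 := hM _ (centralizer_ne_top_of_not_mem_center x (hz x hx))
  unfold invPairs
  omega

theorem invPairs_bound_other [Finite G] (M : ℕ)
    (hM : ∀ H : Subgroup G, H ≠ ⊤ → Nat.card H ≤ M)
    (h2 : ∀ H : Subgroup G, H.index ≠ 2) (x : G) (hx1 : x ≠ 1) (hx : orderOf x ≠ 2) :
    2 * invPairs x ≤ M := by
  by_cases hreal : IsConj x x⁻¹
  · have hne : x ≠ x⁻¹ := by
      intro h
      apply hx
      apply orderOf_two_of_mul_self _ hx1
      calc x * x = x⁻¹ * x := by rw [← h]
        _ = 1 := inv_mul_cancel x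
    have h1 := (Cfsg.Agent.S0238.result x).1
    have h3 := card_cstar x hreal hne
    have h4 : cstar x ≠ ⊤ := by
      intro h
      rw [h, Subgroup.card_top] at h3
      apply h2 (Subgroup.centralizer ({x} : Set G))
      have h5 := Subgroup.card_mul_index (Subgroup.centralizer ({x} : Set G))
      rw [h3] at h5
      have hpos : 0 < Nat.card (Subgroup.centralizer ({x} : Set G)) := Nat.card_pos
      have : Nat.card (Subgroup.centralizer ({x} : Set G)) * (Subgroup.centralizer ({x} : Set G)).index
          = Nat.card (Subgroup.centralizer ({x} : Set G)) * 2 := by rw [h5]; ring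
      exact Nat.eq_of_mul_eq_mul_left hpos this
    have h5 := hM _ h4
    unfold invPairs
    omega
  · have := (Cfsg.Agent.S0238.result x).2.1 hreal
    unfold invPairs
    rw [this]; omega

open Classical in
theorem brauer_fowler_core [Finite G] (M : ℕ)
    (hM : ∀ H : Subgroup G, H ≠ ⊤ → Nat.card H ≤ M)
    (h2 : ∀ H : Subgroup G, H.index ≠ 2)
    (hz : ∀ t : G, orderOf t = 2 → t ∉ Subgroup.center G)
    (hinv : ∃ t : G, orderOf t = 2) :
    2 * numInv G ^ 2 + 2 * numInv G ≤ (numInv G + Nat.card G - 1) * M ∧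
      Nat.card G ≤ numInv G * M := by
  haveI := Fintype.ofFinite G
  obtain ⟨t, ht⟩ := hinv
  have hM2 : 2 ≤ M := by
    have := invPairs_bound_involution M hM hz t ht
    omega
  set n := numInv G with hn
  set I : Finset G := Finset.univ.filter (fun x => orderOf x = 2) with hI
  set R : Finset G := Finset.univ.filter (fun x => x ≠ 1 ∧ orderOf x ≠ 2) with hR
  have hIcard : I.card = n := by
    rw [hn, numInv, Nat.card_eq_fintype_card, Fintype.card_subtype]
  -- partition
  have hpart : (Finset.univ : Finset G) = insert 1 (I ∪ R) := by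
    ext x
    simp only [Finset.mem_univ, Finset.mem_insert, Finset.mem_union, hI, hR, Finset.mem_filter,
      true_and, true_iff]
    by_cases h1 : x = 1
    · exact Or.inl h1
    · by_cases h2 : orderOf x = 2
      · exact Or.inr (Or.inl h2)
      · exact Or.inr (Or.inr ⟨h1, h2⟩)
  have hdisj : Disjoint I R := by
    rw [Finset.disjoint_left]
    intro x hx hx'
    simp only [hI, hR, Finset.mem_filter, Finset.mem_univ, true_and] at hx hx'
    exact hx'.2 hx
  have h1not : (1 : G) ∉ I ∪ R := by
    simp [hI, hR]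
  have hcard : Nat.card G = 1 + n + R.card := by
    rw [Nat.card_eq_fintype_card, ← Finset.card_univ, hpart, Finset.card_insert_of_notMem h1not,
      Finset.card_union_of_disjoint hdisj, hIcard]
    ring
  -- the sum
  have hsum : ∑ x : G, 2 * invPairs x = 2 * n ^ 2 := by
    rw [← Finset.mul_sum, sum_invPairs]
  have hsplit : ∑ x : G, 2 * invPairs x =
      2 * invPairs (1 : G) + (∑ x ∈ I, 2 * invPairs x + ∑ x ∈ R, 2 * invPairs x) := by
    rw [hpart, Finset.sum_insert h1not, Finset.sum_union hdisj]
  have hb1 : 2 * invPairs (1 : G) = 2 * n := by rw [invPairs_one]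
  have hbI : ∑ x ∈ I, 2 * invPairs x ≤ n * (2 * (M - 2)) := by
    rw [← hIcard, ← smul_eq_mul, ← Finset.sum_const]
    apply Finset.sum_le_sum
    intro x hx
    simp only [hI, Finset.mem_filter, Finset.mem_univ, true_and] at hx
    have := invPairs_bound_involution M hM hz x hx
    omega
  have hbR : ∑ x ∈ R, 2 * invPairs x ≤ R.card * M := by
    rw [← smul_eq_mul, ← Finset.sum_const]
    apply Finset.sum_le_sum
    intro x hx
    simp only [hR, Finset.mem_filter, Finset.mem_univ, true_and] at hx
    exact invPairs_bound_other M hM h2 x hx.1 hx.2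
  constructor
  · rw [hcard]
    obtain ⟨k, rfl⟩ : ∃ k, M = k + 2 := ⟨M - 2, by omega⟩
    simp only [Nat.add_sub_cancel] at hbI
    have e : n + (1 + n + R.card) - 1 = 2 * n + R.card := by omega
    rw [e]
    have : 2 * n ^ 2 ≤ 2 * n + (n * (2 * k) + R.card * (k + 2)) := by
      rw [← hsum, hsplit, hb1]
      omega
    nlinarith
  · have hclass := card_conj_class_mul_card_centralizer t
    have h3 : Nat.card {y : G // IsConj t y} ≤ n := by
      rw [hn, numInv]
      apply Nat.card_le_card_of_injective (fun y => (⟨y.1, ?_⟩ : {y : G // orderOf y = 2}))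
      · rintro ⟨a, ha⟩ ⟨b, hb⟩ h
        simp only [Subtype.mk.injEq] at h
        subst h; rfl
      · obtain ⟨c, hc⟩ := isConj_iff.mp y.2
        have := orderOf_injective (MulAut.conj c).toMonoidHom (MulAut.conj c).injective t
        simp only [MulEquiv.coe_toMonoidHom, MulAut.conj_apply] at this
        rw [← hc, this, ht]
    have h4 := hM _ (centralizer_ne_top_of_not_mem_center t (hz t ht))
    rw [← hclass]
    exact Nat.mul_le_mul h3 h4

end Cfsg.Agent.Helper2
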