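import Mathlib

/-!
# S4016, PIECE DIH (helper2): the order of a "dihedral" subgroup
-/

set_option autoImplicit false
set_option linter.style.haveILetI false
set_option linter.unusedVariables false

namespace Cfsg.Agent.Helper20.CS

open Subgroup

/-- PIECE DIH. -/
theorem card_closure_pair_dvd {H : Type*} [Group H] (g w : H) (k : ℕ) (hk : 0 < k) (hg : g ^ k = 1)
    (hw : w * w = 1) (hwg : w * g * w⁻¹ = g⁻¹) :
    Nat.card ↥(Subgroup.closure ({g, w} : Set H)) ∣ 2 * k := by
  set K : Subgroup H := Subgroup.closure ({g, w} : Set H) with hK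
  have hgK : g ∈ K := Subgroup.subset_closure (by simp)
  have hwK : w ∈ K := Subgroup.subset_closure (by simp)
  have hwinv : w⁻¹ = w := inv_eq_of_mul_eq_one_right hw
  -- `K` normalizes `zpowers g`
  have hnorm : K ≤ Subgroup.normalizer ((Subgroup.zpowers g : Subgroup H) : Set H) := by
    rw [hK, Subgroup.closure_le]
    intro x hx
    rcases hx with rfl | hx
    · exact Subgroup.le_normalizer (Subgroup.mem_zpowers x)
    · rw [Set.mem_singleton_iff] at hx
      subst hx
      rw [SetLike.mem_coe, Subgroup.mem_normalizer_iff]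
      have hconj : ∀ n : ℤ, x * g ^ n * x⁻¹ = (g ^ n)⁻¹ := by
        intro n
        have : x * g ^ n * x⁻¹ = (x * g * x⁻¹) ^ n := by
          rw [← MulAut.conj_apply, ← MulAut.conj_apply, map_zpow]
        rw [this, hwg, inv_zpow]
      intro h
      constructor
      · rintro ⟨n, rfl⟩
        rw [hconj n]
        exact Subgroup.inv_mem _ (Subgroup.zpow_mem _ (Subgroup.mem_zpowers g) n)
      · intro hh
        obtain ⟨n, hn⟩ := hh
        have : h = x * (x * h * x⁻¹) * x⁻¹ := by
          have e : x * (x * h * x⁻¹) * x⁻¹ = (x * x) * h * (x * x)⁻¹ := by group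
          rw [e, hw]; simp
        rw [this, ← hn, hconj n]
        exact Subgroup.inv_mem _ (Subgroup.zpow_mem _ (Subgroup.mem_zpowers g) n)
  haveI hN : ((Subgroup.zpowers g).subgroupOf K).Normal :=
    Subgroup.normal_subgroupOf_of_le_normalizer hnorm
  set A : Subgroup K := (Subgroup.zpowers g).subgroupOf K with hA
  have hle : Subgroup.zpowers g ≤ K := by
    rw [Subgroup.zpowers_le]; exact hgK
  -- order of `A`
  have hcardA : Nat.card A ∣ k := by
    have e := Subgroup.subgroupOfEquivOfLe hle
    rw [Nat.card_congr e.toEquiv, Nat.card_zpowers]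
    exact orderOf_dvd_of_pow_eq_one hg
  -- the quotient is generated by the image of `w`
  set wb : K ⧸ A := QuotientGroup.mk ⟨w, hwK⟩ with hwb
  have hwb2 : wb * wb = 1 := by
    rw [hwb, ← QuotientGroup.mk_mul]
    have : (⟨w, hwK⟩ : K) * ⟨w, hwK⟩ = 1 := Subtype.ext hw
    rw [this]; rfl
  have hall : ∀ (x : H) (hx : x ∈ K), (QuotientGroup.mk ⟨x, hx⟩ : K ⧸ A) = 1 ∨
      (QuotientGroup.mk ⟨x, hx⟩ : K ⧸ A) = wb := by
    intro x hx
    induction hx using Subgroup.closure_induction with
    | mem y hy =>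
      rcases hy with rfl | hy
      · left
        rw [QuotientGroup.eq_one_iff, hA, Subgroup.mem_subgroupOf]
        exact Subgroup.mem_zpowers y
      · rw [Set.mem_singleton_iff] at hy
        subst hy
        right; rfl
    | one => left; rfl
    | mul a b ha hb iha ihb =>
      have e : (QuotientGroup.mk ⟨a * b, Subgroup.mul_mem _ ha hb⟩ : K ⧸ A) =
          QuotientGroup.mk ⟨a, ha⟩ * QuotientGroup.mk ⟨b, hb⟩ := rfl
      rw [e]
      rcases iha with iha | iha <;> rcases ihb with ihb | ihb <;> rw [iha, ihb]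
      · left; simp
      · right; simp
      · right; simp
      · left; exact hwb2
    | inv a ha iha =>
      have e : (QuotientGroup.mk ⟨a⁻¹, Subgroup.inv_mem _ ha⟩ : K ⧸ A) =
          (QuotientGroup.mk ⟨a, ha⟩)⁻¹ := rfl
      rw [e]
      rcases iha with iha | iha <;> rw [iha]
      · left; simp
      · right; exact inv_eq_of_mul_eq_one_right hwb2
  have htop : Subgroup.zpowers wb = ⊤ := by
    rw [eq_top_iff]
    intro q _
    obtain ⟨⟨x, hx⟩, rfl⟩ := QuotientGroup.mk_surjective q
    rcases hall x hx with h | h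
    · have : ((⟨x, hx⟩ : K) : K ⧸ A) = 1 := h
      rw [this]; exact Subgroup.one_mem _
    · have : ((⟨x, hx⟩ : K) : K ⧸ A) = wb := h
      rw [this]; exact Subgroup.mem_zpowers wb
  have hcardQ : Nat.card (K ⧸ A) ∣ 2 := by
    have h1 : Nat.card (K ⧸ A) = Nat.card (⊤ : Subgroup (K ⧸ A)) := (Subgroup.card_top).symm
    rw [h1, ← htop, Nat.card_zpowers]
    apply orderOf_dvd_of_pow_eq_one
    rw [pow_two]; exact hwb2
  have hcard : Nat.card K = Nat.card (K ⧸ A) * Nat.card A :=
    Subgroup.card_eq_card_quotient_mul_card_subgroup A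
  rw [hcard]
  exact Nat.mul_dvd_mul hcardQ hcardA

end Cfsg.Agent.Helper20.CS
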