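import Mathlib
import Cfsg.Agent.Lib.Helper2.CSDIH

/-!
# S4016, PIECE SL2 (helper2): a nonabelian `p'`-subgroup of `SL₂(F)`, `char F = 2`, `|F| ≥ 4`, `p` odd
-/

set_option autoImplicit false
set_option linter.unusedVariables false
set_option linter.unusedSectionVars false
set_option linter.unusedSimpArgs false

namespace Cfsg.Agent.Helper20.CS

open Matrix

section
variable {F : Type} [Field F]

theorem sl2_ext (A B : SpecialLinearGroup (Fin 2) F)
    (h00 : (A : Matrix (Fin 2) (Fin 2) F) 0 0 = (B : Matrix (Fin 2) (Fin 2) F) 0 0)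
    (h01 : (A : Matrix (Fin 2) (Fin 2) F) 0 1 = (B : Matrix (Fin 2) (Fin 2) F) 0 1)
    (h10 : (A : Matrix (Fin 2) (Fin 2) F) 1 0 = (B : Matrix (Fin 2) (Fin 2) F) 1 0)
    (h11 : (A : Matrix (Fin 2) (Fin 2) F) 1 1 = (B : Matrix (Fin 2) (Fin 2) F) 1 1) : A = B := by
  apply Subtype.ext
  ext i j
  fin_cases i <;> fin_cases j <;> assumption

variable [CharP F 2]

theorem sl2_neg_one : (-1 : F) = 1 := CharTwo.neg_eq 1

/-- the swap matrix -/
def sl2W : SpecialLinearGroup (Fin 2) F :=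
  ⟨!![0, 1; 1, 0], by rw [Matrix.det_fin_two_of]; simp [sl2_neg_one]⟩

/-- the matrix `g_τ` -/
def sl2G (τ : F) : SpecialLinearGroup (Fin 2) F :=
  ⟨!![0, 1; 1, τ], by rw [Matrix.det_fin_two_of]; simp [sl2_neg_one]⟩

/-- the diagonal matrix `d_a` -/
def sl2D (a : F) (ha : a ≠ 0) : SpecialLinearGroup (Fin 2) F :=
  ⟨!![a, 0; 0, a⁻¹], by rw [Matrix.det_fin_two_of]; simp [ha]⟩

theorem sl2W_coe : ((sl2W : SpecialLinearGroup (Fin 2) F) : Matrix (Fin 2) (Fin 2) F) =
    !![0, 1; 1, 0] := rfl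
theorem sl2G_coe (τ : F) : ((sl2G τ : SpecialLinearGroup (Fin 2) F) : Matrix (Fin 2) (Fin 2) F) =
    !![0, 1; 1, τ] := rfl
theorem sl2D_coe (a : F) (ha : a ≠ 0) :
    ((sl2D a ha : SpecialLinearGroup (Fin 2) F) : Matrix (Fin 2) (Fin 2) F) = !![a, 0; 0, a⁻¹] := rfl

theorem sl2W_mul_self : (sl2W : SpecialLinearGroup (Fin 2) F) * sl2W = 1 := by
  apply sl2_ext <;>
    simp only [Matrix.SpecialLinearGroup.coe_mul, sl2W_coe, Matrix.SpecialLinearGroup.coe_one] <;>
    simp [Matrix.mul_apply, Fin.sum_univ_two]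

theorem sl2W_inv : (sl2W : SpecialLinearGroup (Fin 2) F)⁻¹ = sl2W :=
  inv_eq_of_mul_eq_one_right sl2W_mul_self

theorem sl2W_G (τ : F) : (sl2W : SpecialLinearGroup (Fin 2) F) * sl2G τ * sl2W⁻¹ = (sl2G τ)⁻¹ := by
  rw [sl2W_inv]
  apply sl2_ext <;>
    simp only [Matrix.SpecialLinearGroup.coe_mul, Matrix.SpecialLinearGroup.coe_inv, sl2W_coe, sl2G_coe,
      Matrix.adjugate_fin_two_of] <;>
    simp [Matrix.mul_apply, Fin.sum_univ_two, sl2_neg_one]

theorem sl2W_D (a : F) (ha : a ≠ 0) :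
    (sl2W : SpecialLinearGroup (Fin 2) F) * sl2D a ha * sl2W⁻¹ = (sl2D a ha)⁻¹ := by
  rw [sl2W_inv]
  apply sl2_ext <;>
    simp only [Matrix.SpecialLinearGroup.coe_mul, Matrix.SpecialLinearGroup.coe_inv, sl2W_coe, sl2D_coe,
      Matrix.adjugate_fin_two_of] <;>
    simp [Matrix.mul_apply, Fin.sum_univ_two, sl2_neg_one]

theorem sl2D_pow (a : F) (ha : a ≠ 0) (n : ℕ) :
    ((sl2D a ha) ^ n : SpecialLinearGroup (Fin 2) F) = sl2D (a ^ n) (pow_ne_zero n ha) := by
  induction n with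
  | zero =>
    apply sl2_ext <;> simp only [pow_zero, Matrix.SpecialLinearGroup.coe_one, sl2D_coe] <;> simp
  | succ n ih =>
    rw [pow_succ, ih]
    apply sl2_ext <;> simp only [Matrix.SpecialLinearGroup.coe_mul, sl2D_coe] <;>
      simp [Matrix.mul_apply, Fin.sum_univ_two, pow_succ, mul_inv]
    exact mul_comm _ _

/-- `g_1 ^ 3 = 1` -/
theorem sl2G_one_pow : (sl2G (1 : F)) ^ 3 = 1 := by
  have e : (sl2G (1 : F)) ^ 3 = sl2G 1 * sl2G 1 * sl2G 1 := by
    simp only [pow_succ, pow_zero, one_mul]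
  rw [e]
  apply sl2_ext <;> simp only [Matrix.SpecialLinearGroup.coe_mul, sl2G_coe, Matrix.SpecialLinearGroup.coe_one] <;>
    simp [Matrix.mul_apply, Fin.sum_univ_two, CharTwo.add_self_eq_zero]

theorem sl2G_sq_ne (τ : F) (hτ : τ ≠ 0) : sl2G τ * sl2G τ ≠ 1 := by
  intro h
  have h1 := congrArg (fun A : SpecialLinearGroup (Fin 2) F => (A : Matrix (Fin 2) (Fin 2) F) 0 1) h
  simp only [Matrix.SpecialLinearGroup.coe_mul, sl2G_coe, Matrix.SpecialLinearGroup.coe_one] at h1
  simp [Matrix.mul_apply, Fin.sum_univ_two] at h1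
  exact hτ h1

/-- `g_ω ^ 5 = 1` when `ω² + ω + 1 = 0` -/
theorem sl2G_omega_pow (ω : F) (hω : ω ^ 2 + ω + 1 = 0) : (sl2G ω) ^ 5 = 1 := by
  have hω2 : ω * ω = ω + 1 := by
    have : ω * ω = -(ω + 1) := by linear_combination hω
    rw [this, neg_add, CharTwo.neg_eq, CharTwo.neg_eq]
  have h2 : (2 : F) = 0 := CharTwo.two_eq_zero
  have e : (sl2G ω) ^ 5 = sl2G ω * sl2G ω * sl2G ω * sl2G ω * sl2G ω := by
    simp only [pow_succ, pow_zero, one_mul]
  rw [e]
  apply sl2_ext <;> simp only [Matrix.SpecialLinearGroup.coe_mul, sl2G_coe, Matrix.SpecialLinearGroup.coe_one] <;>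
    simp [Matrix.mul_apply, Fin.sum_univ_two]
  · linear_combination (ω + 1) * hω2 + (2 * ω) * h2
  · linear_combination (1 + ω * (ω + 1)) * hω2 + (ω + 1 + 2 * ω ^ 2) * h2
  · linear_combination (1 + ω * (ω + 1)) * hω2 + (ω + 1 + 2 * ω ^ 2) * h2
  · linear_combination ((ω + 1) + ω * (1 + ω * (ω + 1))) * hω2 +
      (2 * ω + ω * (ω + 1 + 2 * ω ^ 2)) * h2

theorem sl2D_one : sl2D (1 : F) one_ne_zero = 1 := by
  apply sl2_ext <;> simp only [Matrix.SpecialLinearGroup.coe_one, sl2D_coe] <;> simp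

theorem sl2D_sq_ne (a : F) (ha : a ≠ 0) (ha1 : a ≠ 1) : sl2D a ha * sl2D a ha ≠ 1 := by
  intro h
  have h1 := congrArg (fun A : SpecialLinearGroup (Fin 2) F => (A : Matrix (Fin 2) (Fin 2) F) 0 0) h
  simp only [Matrix.SpecialLinearGroup.coe_mul, sl2D_coe, Matrix.SpecialLinearGroup.coe_one] at h1
  simp [Matrix.mul_apply, Fin.sum_univ_two] at h1
  -- `a * a = 1` in characteristic two gives `a = 1`
  have h2 : (a + 1) * (a + 1) = 0 := by
    have : (a + 1) * (a + 1) = a * a + 1 + (a + a) := by ring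
    rw [this, h1, CharTwo.add_self_eq_zero, CharTwo.add_self_eq_zero, add_zero]
  have h3 : a + 1 = 0 := by
    rcases mul_eq_zero.mp h2 with h | h <;> exact h
  apply ha1
  have h4 := eq_neg_of_add_eq_zero_left h3
  rw [h4, sl2_neg_one]

end

section
variable {G : Type*} [Group G]

/-- the subgroup generated by `g` and an involution `w` inverting it -/
theorem sl2_pair {p : ℕ} (g w : G) (k : ℕ) (hk : 0 < k) (hg : g ^ k = 1) (hw : w * w = 1)
    (hwg : w * g * w⁻¹ = g⁻¹) (hgg : g * g ≠ 1) (hp : ¬ p ∣ 2 * k) :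
    ∃ H : Subgroup G, ¬ p ∣ Nat.card ↥H ∧ ∃ a ∈ H, ∃ b ∈ H, a * b ≠ b * a := by
  refine ⟨Subgroup.closure {g, w}, ?_, g, Subgroup.subset_closure (by simp), w,
    Subgroup.subset_closure (by simp), ?_⟩
  · intro h
    exact hp (h.trans (card_closure_pair_dvd g w k hk hg hw hwg))
  · intro hcomm
    apply hgg
    have h1 : w * g * w⁻¹ = g := by rw [← hcomm]; group
    rw [h1] at hwg
    calc g * g = g * g⁻¹ := by rw [← hwg]
      _ = 1 := mul_inv_cancel g

end

variable {p : ℕ} [Fact p.Prime]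

/-- PIECE SL2. -/
theorem sl2_nonabelian_p' {F : Type} [Field F] [Fintype F] [CharP F 2]
    (hF : 4 ≤ Fintype.card F) (hp2 : p ≠ 2) :
    ∃ H : Subgroup (Matrix.SpecialLinearGroup (Fin 2) F), ¬ p ∣ Nat.card ↥H ∧
      ∃ a ∈ H, ∃ b ∈ H, a * b ≠ b * a := by
  classical
  have hpp : p.Prime := Fact.out
  by_cases hp3 : p = 3
  · by_cases hω : ∃ ω : F, ω ^ 2 + ω + 1 = 0
    · obtain ⟨ω, hω⟩ := hω
      have hω0 : ω ≠ 0 := by
        intro h
        rw [h] at hω
        simp at hω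
      refine sl2_pair (sl2G ω) sl2W 5 (by norm_num) (sl2G_omega_pow ω hω) sl2W_mul_self
        (sl2W_G ω) (sl2G_sq_ne ω hω0) ?_
      rw [hp3]; norm_num
    · -- pick `a ≠ 0, 1`
      obtain ⟨a, ha0, ha1⟩ : ∃ a : F, a ≠ 0 ∧ a ≠ 1 := by
        by_contra hcon
        push Not at hcon
        have hsub : (Finset.univ : Finset F) ⊆ {0, 1} := by
          intro x _
          by_cases hx : x = 0
          · simp [hx]
          · simp [hcon x hx]
        have : Fintype.card F ≤ 2 := by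
          calc Fintype.card F = (Finset.univ : Finset F).card := rfl
            _ ≤ ({0, 1} : Finset F).card := Finset.card_le_card hsub
            _ ≤ 2 := Finset.card_le_two
        omega
      set u : Fˣ := Units.mk0 a ha0 with hu
      set k := orderOf u with hk
      have hkpos : 0 < k := orderOf_pos u
      have hak : a ^ k = 1 := by
        have h1 : u ^ k = 1 := pow_orderOf_eq_one u
        have h2 := congrArg Units.val h1
        simpa [hu] using h2
      have hgk : (sl2D a ha0) ^ k = 1 := by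
        rw [sl2D_pow]
        have : sl2D (a ^ k) (pow_ne_zero k ha0) = sl2D (1 : F) one_ne_zero := by
          apply sl2_ext <;> simp only [sl2D_coe] <;> simp [hak]
        rw [this, sl2D_one]
      refine sl2_pair (sl2D a ha0) sl2W k hkpos hgk sl2W_mul_self (sl2W_D a ha0)
        (sl2D_sq_ne a ha0 ha1) ?_
      rw [hp3]
      intro h3
      have h3k : 3 ∣ k := by
        have hcop : Nat.Coprime 3 2 := by norm_num
        exact hcop.dvd_of_dvd_mul_left h3
      -- an element of order three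
      obtain ⟨m, hm⟩ := h3k
      have hmpos : 0 < m := by
        rcases Nat.eq_zero_or_pos m with h | h
        · rw [h, mul_zero] at hm; omega
        · exact h
      have hb : orderOf (u ^ m) = 3 := by
        rw [orderOf_pow_of_dvd hmpos.ne' ⟨3, by rw [← hk, hm, mul_comm]⟩, ← hk, hm]
        exact Nat.mul_div_cancel _ hmpos
      set b : F := ((u ^ m : Fˣ) : F) with hbdef
      have hb3 : b ^ 3 = 1 := by
        have h1 : (u ^ m) ^ 3 = 1 := by rw [← hb]; exact pow_orderOf_eq_one _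
        have h2 := congrArg Units.val h1
        simpa [hbdef] using h2
      have hb1 : b ≠ 1 := by
        intro h
        have : u ^ m = 1 := Units.ext (by simpa [hbdef] using h)
        rw [this, orderOf_one] at hb
        norm_num at hb
      apply hω
      refine ⟨b, ?_⟩
      have hfac : (b - 1) * (b ^ 2 + b + 1) = 0 := by
        have : (b - 1) * (b ^ 2 + b + 1) = b ^ 3 - 1 := by ring
        rw [this, hb3, sub_self]
      rcases mul_eq_zero.mp hfac with h | h
      · exact absurd (sub_eq_zero.mp h) hb1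
      · exact h
  · refine sl2_pair (sl2G (1 : F)) sl2W 3 (by norm_num) sl2G_one_pow sl2W_mul_self
      (sl2W_G 1) (sl2G_sq_ne 1 one_ne_zero) ?_
    intro h
    have h6 : p ∣ 2 * 3 := h
    rcases (Nat.Prime.dvd_mul hpp).1 h6 with h | h
    · exact hp2 ((Nat.prime_dvd_prime_iff_eq hpp Nat.prime_two).1 h)
    · exact hp3 ((Nat.prime_dvd_prime_iff_eq hpp Nat.prime_three).1 h)

end Cfsg.Agent.Helper20.CS
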