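import Mathlib
import Cfsg.Agent.Lib.Helper2.CardSL

/-!
# S4016, PIECE SL2F2 (helper2): `|SL₂(F₂)| = 6`
-/

set_option autoImplicit false

namespace Cfsg.Agent.Helper20.CS

/-- PIECE SL2F2. -/
theorem card_sl2_of_card_lt_four {F : Type} [Field F] [Fintype F] [CharP F 2]
    (hF : Fintype.card F < 4) : Nat.card (Matrix.SpecialLinearGroup (Fin 2) F) = 6 := by
  obtain ⟨n, -, hn⟩ := FiniteField.card F 2
  have hn1 : (n : ℕ) = 1 := by
    have hpos : 0 < (n : ℕ) := n.pos
    by_contra hne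
    have h2 : 2 ≤ (n : ℕ) := by omega
    have : 2 ^ 2 ≤ 2 ^ (n : ℕ) := Nat.pow_le_pow_right (by norm_num) h2
    omega
  have hcard : Fintype.card F = 2 := by rw [hn, hn1]; norm_num
  have h := Cfsg.Agent.Helper2.card_SL_mul (F := F) 2 (by norm_num)
  rw [hcard] at h
  simp only [Fin.prod_univ_two, Fin.val_zero, Fin.val_one] at h
  norm_num at h
  exact h

end Cfsg.Agent.Helper20.CS
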