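import Mathlib
import Cfsg.Agent.Lib.Helper20.CSDefs
import Cfsg.Agent.Lib.Helper28.CSV4TI
import Cfsg.Agent.Lib.Helper28.CSV4SQ
import Cfsg.Agent.Lib.Helper21.V4Count
import Cfsg.Agent.Lib.Helper23.V4Residual

/-!
# S4016 piece V4ASM (helper2): the residual Klein four configuration dies
-/

set_option autoImplicit false
set_option linter.unusedSectionVars false
set_option linter.unusedVariables false

namespace Cfsg.Agent.Helper20.CS

open scoped commutatorElement

universe u

variable {G : Type u} [Group G] [Finite G]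

theorem v4_false (c : V4Cfg G) : False := by
  have : Fact (Nat.Prime 3) := ⟨Nat.prime_three⟩
  have hperf : commutator G = ⊤ := by
    have hs := c.simple
    rcases hs.eq_bot_or_eq_top_of_normal (commutator G) inferInstance with h | h
    · exfalso
      obtain ⟨a, b, hab⟩ := c.nonab
      apply hab
      rw [← commutatorElement_eq_one_iff_mul_comm]
      have hm : ⁅a, b⁆ ∈ commutator G := by
        rw [commutator_def]
        exact Subgroup.commutator_mem_commutator (Subgroup.mem_top a) (Subgroup.mem_top b)
      rw [h] at hm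
      exact Subgroup.mem_bot.mp hm
    · exact h
  obtain ⟨n, hn⟩ := (c.P.isPGroup').exists_card_eq
  have hodd : Odd (Nat.card ↥(c.P : Subgroup G)) := by
    rw [hn]
    exact Odd.pow (by decide)
  have hyP : ∀ x ∈ (c.P : Subgroup G), x * c.y = c.y * x := fun x hx => (c.y_cent x hx).symm
  have hlt := Cfsg.Agent.Helper21.V4C.v4_count_lt (c.P : Subgroup G) c.y
    (Nat.card ↥(c.P : Subgroup G)) rfl hodd c.y_ord hyP c.card_cent_y (v4_ti c) c.conj (v4_sq c)
  have hone : ∀ s t : G, orderOf s = 2 → orderOf t = 2 → IsConj s t := by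
    intro s t hs ht
    obtain ⟨g, rfl⟩ := c.conj s hs
    obtain ⟨h, rfl⟩ := c.conj t ht
    rw [isConj_iff]
    refine ⟨h * g⁻¹, ?_⟩
    group
  exact Cfsg.Agent.Helper23.V4R.v4_residual hperf c.S c.klein hone c.y c.y_mem c.y_ord
    (Nat.card ↥(c.P : Subgroup G)) c.card_cent_y c.card_cent_S hlt

end Cfsg.Agent.Helper20.CS
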