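import Mathlib
import Cfsg.Agent.Lib.Helper2.ExcIso
import Cfsg.Agent.Lib.Helper2.OrthOrders
import Cfsg.Agent.Lib.Helper2.CardSL
import Cfsg.Agent.Lib.Helper13.IsomTransfer
import Cfsg.Agent.Lib.Helper17.OmegaAll
import Cfsg.Agent.Lib.Helper17.SpinorIndex

set_option autoImplicit false
set_option linter.unusedSectionVars false
set_option linter.unusedSimpArgs false

namespace Cfsg.Agent.Helper2.Exc3

open Matrix Matrix.SpecialLinearGroup
open scoped MatrixGroups

variable {F : Type*} [Field F]

/-- the index type of the three-dimensional space -/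
abbrev K3 : Type := Unit ⊕ (Fin 1 ⊕ Fin 1)

/-- the trace-zero matrix with coordinates `v` -/
def toMat2 : (K3 → F) →ₗ[F] Matrix (Fin 2) (Fin 2) F where
  toFun v := !![v (.inl ()), v (.inr (.inl 0)); v (.inr (.inr 0)), -v (.inl ())]
  map_add' u v := by
    ext i j
    fin_cases i <;> fin_cases j <;> simp <;> ring
  map_smul' c v := by
    ext i j
    fin_cases i <;> fin_cases j <;> simp

/-- coordinates of a matrix -/
def coords : Matrix (Fin 2) (Fin 2) F →ₗ[F] (K3 → F) where
  toFun A := Sum.elim (fun _ => A 0 0) (Sum.elim (fun _ => A 0 1) (fun _ => A 1 0))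
  map_add' A B := by
    ext k
    rcases k with _ | k | k <;> simp
  map_smul' c A := by
    ext k
    rcases k with _ | k | k <;> simp

theorem coords_toMat2 (v : K3 → F) : coords (toMat2 v) = v := by
  ext k
  rcases k with ⟨⟩ | k | k
  · simp [coords, toMat2]
  · fin_cases k; simp [coords, toMat2]
  · fin_cases k; simp [coords, toMat2]

theorem toMat2_coords (A : Matrix (Fin 2) (Fin 2) F) (hA : A.trace = 0) :
    toMat2 (coords A) = A := by
  rw [Matrix.trace_fin_two] at hA
  ext i j
  fin_cases i <;> fin_cases j <;> simp [coords, toMat2]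
  linear_combination (-1 : F) * hA

theorem trace_toMat2 (v : K3 → F) : (toMat2 v).trace = 0 := by
  rw [Matrix.trace_fin_two]
  simp [toMat2]

theorem quadFormOdd_coords (A : Matrix (Fin 2) (Fin 2) F) (hA : A.trace = 0) :
    Cfsg.quadFormOdd 1 F (coords A) = -A.det := by
  rw [Matrix.trace_fin_two] at hA
  rw [Matrix.det_fin_two]
  simp only [Cfsg.quadFormOdd, coords, LinearMap.coe_mk, AddHom.coe_mk, Sum.elim_inl, Sum.elim_inr,
    Finset.univ_unique, Finset.sum_singleton]
  have : A 1 1 = -A 0 0 := by linear_combination hA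
  rw [this]
  ring

/-- the action of `SL₂` on trace-zero matrices in coordinates -/
noncomputable def rho (g : SL(2, F)) : (K3 → F) →ₗ[F] (K3 → F) :=
  coords ∘ₗ (LinearMap.mulRight F (g⁻¹ : SL(2, F)).1) ∘ₗ (LinearMap.mulLeft F g.1) ∘ₗ toMat2

theorem rho_apply (g : SL(2, F)) (v : K3 → F) :
    rho g v = coords (g.1 * toMat2 v * (g⁻¹ : SL(2, F)).1) := rfl

theorem trace_conj (g : SL(2, F)) (A : Matrix (Fin 2) (Fin 2) F) :
    (g.1 * A * (g⁻¹ : SL(2, F)).1).trace = A.trace := by
  have h : (g⁻¹ : SL(2, F)).1 * g.1 = 1 := by rw [← coe_mul, inv_mul_cancel, coe_one]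
  rw [Matrix.trace_mul_comm, ← Matrix.mul_assoc, h, Matrix.one_mul]

theorem det_conj (g : SL(2, F)) (A : Matrix (Fin 2) (Fin 2) F) :
    (g.1 * A * (g⁻¹ : SL(2, F)).1).det = A.det := by
  rw [Matrix.det_mul, Matrix.det_mul, g.2, (g⁻¹).2, one_mul, mul_one]

theorem rho_one (v : K3 → F) : rho (1 : SL(2, F)) v = v := by
  rw [rho_apply, inv_one, coe_one, Matrix.one_mul, Matrix.mul_one, coords_toMat2]

theorem rho_mul (g h : SL(2, F)) (v : K3 → F) : rho (g * h) v = rho g (rho h v) := by
  rw [rho_apply, rho_apply, rho_apply, toMat2_coords _ (by rw [trace_conj, trace_toMat2]),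
    _root_.mul_inv_rev, coe_mul, coe_mul]
  simp only [Matrix.mul_assoc]

theorem quadFormOdd_rho (g : SL(2, F)) (v : K3 → F) :
    Cfsg.quadFormOdd 1 F (rho g v) = Cfsg.quadFormOdd 1 F v := by
  rw [rho_apply, quadFormOdd_coords _ (by rw [trace_conj, trace_toMat2]), det_conj,
    ← quadFormOdd_coords _ (trace_toMat2 v), coords_toMat2]

/-- the homomorphism `SL₂(F) → O₃(F)` -/
theorem exists_hom (q : (K3 → F) → F) (hq : ∀ v, q v = Cfsg.quadFormOdd 1 F v) :
    ∃ φ : SL(2, F) →* Cfsg.isometryGroup F q,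
    ∀ g w, ((φ g : GL K3 F) : Matrix K3 K3 F) *ᵥ w = rho g w := by
  obtain ⟨φ, hφ⟩ := Cfsg.Agent.Helper13.exists_hom_isometry (fun g : SL(2, F) => rho g) rho_one
    rho_mul (LinearEquiv.refl F (K3 → F)) q (fun g v => by
      show q (rho g v) = q v
      rw [hq, hq, quadFormOdd_rho])
  exact ⟨φ, fun g w => hφ g w⟩

/-- a matrix commuting with the two nilpotent elementary matrices is scalar -/
theorem eq_one_or_neg_one_of_comm (g : SL(2, F))
    (h : ∀ w : K3 → F, g.1 * toMat2 w = toMat2 w * g.1) : g = 1 ∨ g = -1 := by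
  have h1 := h (Sum.elim (fun _ => 0) (Sum.elim (fun _ => 1) (fun _ => 0)))
  have h2 := h (Sum.elim (fun _ => 0) (Sum.elim (fun _ => 0) (fun _ => 1)))
  have e10 : g.1 1 0 = 0 := by
    have := congrFun (congrFun h1 1) 1
    simp [toMat2, Matrix.mul_apply, Fin.sum_univ_two] at this
    exact this
  have e01 : g.1 0 1 = 0 := by
    have := congrFun (congrFun h2 0) 0
    simp [toMat2, Matrix.mul_apply, Fin.sum_univ_two] at this
    exact this
  have e00 : g.1 0 0 = g.1 1 1 := by
    have := congrFun (congrFun h1 0) 1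
    simp [toMat2, Matrix.mul_apply, Fin.sum_univ_two] at this
    exact this
  have hdet := g.2
  rw [Matrix.det_fin_two, e10, e01, ← e00] at hdet
  have hsq : (g.1 0 0 - 1) * (g.1 0 0 + 1) = 0 := by linear_combination hdet
  rcases mul_eq_zero.1 hsq with h3 | h3
  · left
    apply Subtype.ext
    ext i j
    fin_cases i <;> fin_cases j <;> simp
    · linear_combination h3
    · exact e01
    · exact e10
    · rw [← e00]; linear_combination h3
  · right
    apply Subtype.ext
    ext i j
    fin_cases i <;> fin_cases j <;> simp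
    · linear_combination h3
    · exact e01
    · exact e10
    · rw [← e00]; linear_combination h3

section hom
variable {q : (K3 → F) → F} (φ : SL(2, F) →* Cfsg.isometryGroup F q)
  (hφ : ∀ g w, ((φ g : GL K3 F) : Matrix K3 K3 F) *ᵥ w = rho g w)

include hφ

theorem eq_one_or_neg_one_of_mem_ker {g : SL(2, F)} (hg : φ g = 1) : g = 1 ∨ g = -1 := by
  apply eq_one_or_neg_one_of_comm
  intro w
  have h1 := hφ g w
  rw [hg] at h1
  simp only [OneMemClass.coe_one, Units.val_one, Matrix.one_mulVec] at h1
  rw [rho_apply] at h1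
  have h2 : g.1 * toMat2 w * (g⁻¹ : SL(2, F)).1 = toMat2 w := by
    rw [← toMat2_coords _ (by rw [trace_conj, trace_toMat2] :
      (g.1 * toMat2 w * (g⁻¹ : SL(2, F)).1).trace = 0), ← h1]
  have h3 : (g⁻¹ : SL(2, F)).1 * g.1 = 1 := by rw [← coe_mul, inv_mul_cancel, coe_one]
  calc g.1 * toMat2 w = g.1 * toMat2 w * ((g⁻¹ : SL(2, F)).1 * g.1) := by rw [h3, Matrix.mul_one]
    _ = (g.1 * toMat2 w * (g⁻¹ : SL(2, F)).1) * g.1 := by simp only [Matrix.mul_assoc]
    _ = toMat2 w * g.1 := by rw [h2]

theorem card_ker_le : Nat.card φ.ker ≤ 2 := by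
  classical
  have hsub : (φ.ker : Set SL(2, F)) ⊆ ({1, -1} : Finset SL(2, F)) := by
    intro g hg
    rcases eq_one_or_neg_one_of_mem_ker φ hφ (MonoidHom.mem_ker.1 hg) with h | h <;> simp [h]
  calc Nat.card φ.ker = (φ.ker : Set SL(2, F)).ncard := Nat.card_coe_set_eq _
    _ ≤ (({1, -1} : Finset SL(2, F)) : Set SL(2, F)).ncard :=
        Set.ncard_le_ncard hsub (Finset.finite_toSet _)
    _ = ({1, -1} : Finset SL(2, F)).card := Set.ncard_coe_finset _
    _ ≤ 2 := Finset.card_le_two

theorem mem_center_of_comm (h2 : (2 : F) ≠ 0) {g : SL(2, F)}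
    (hg : ∀ x : SL(2, F), φ g * φ x = φ x * φ g) : g ∈ Subgroup.center SL(2, F) := by
  rw [Subgroup.mem_center_iff]
  intro x
  refine SL2.transvection_induction (fun A => A * g = g * A) ?_ ?_ x
  · intro i j hij c
    have h1 : φ (g * transvection hij c * g⁻¹ * (transvection hij c)⁻¹) = 1 := by
      rw [map_mul, map_mul, map_mul, map_inv, map_inv, hg, mul_inv_cancel_right, mul_inv_cancel]
    rcases eq_one_or_neg_one_of_mem_ker φ hφ h1 with h3 | h3
    · have : g * transvection hij c = (g * transvection hij c * g⁻¹ * (transvection hij c)⁻¹) *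
          (transvection hij c * g) := by group
      rw [this, h3, one_mul]
    · exfalso
      have h4 : g * transvection hij c * g⁻¹ = -transvection hij c := by
        have : g * transvection hij c * g⁻¹ =
            (g * transvection hij c * g⁻¹ * (transvection hij c)⁻¹) * transvection hij c := by group
        rw [this, h3]
        simp
      have h5 : (g * transvection hij c * g⁻¹).1.trace = (-transvection hij c).1.trace := by
        rw [h4]
      have h6 : (1 + Matrix.single i j c : Matrix (Fin 2) (Fin 2) F).trace = 2 := by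
        simp [Matrix.trace_add, hij]
      rw [coe_mul, coe_mul, trace_conj, coe_neg, Matrix.trace_neg, transvection_coe, h6] at h5
      apply h2
      have : (2 : F) * 2 = 0 := by linear_combination h5
      exact (mul_self_eq_zero.1 this)
  · intro A B hA hB
    rw [mul_assoc, hB, ← mul_assoc, hA, mul_assoc]

end hom

end Cfsg.Agent.Helper2.Exc3
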