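import Mathlib
import Cfsg.Agent.Lib.Helper2.ExcIso
import Cfsg.Agent.Lib.Helper2.Exc3
import Cfsg.Agent.Lib.Helper13.IsomTransfer
import Cfsg.Agent.Lib.Helper17.OmegaAll

set_option autoImplicit false
set_option linter.unusedSectionVars false
set_option linter.unusedSimpArgs false

namespace Cfsg.Agent.Helper2.Exc4

open Matrix Matrix.SpecialLinearGroup
open scoped MatrixGroups

variable {F : Type*} [Field F]

/-- the index type of the four-dimensional space -/
abbrev K4 : Type := Fin 2 ⊕ Fin 2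

/-- the matrix with coordinates `v` -/
def toMat4 : (K4 → F) →ₗ[F] Matrix (Fin 2) (Fin 2) F where
  toFun v := !![v (.inl 0), v (.inl 1); -v (.inr 1), v (.inr 0)]
  map_add' u v := by
    ext i j
    fin_cases i <;> fin_cases j <;> simp <;> ring
  map_smul' c v := by
    ext i j
    fin_cases i <;> fin_cases j <;> simp

/-- coordinates of a matrix -/
def coords4 : Matrix (Fin 2) (Fin 2) F →ₗ[F] (K4 → F) where
  toFun A := Sum.elim ![A 0 0, A 0 1] ![A 1 1, -A 1 0]
  map_add' A B := by
    ext k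
    rcases k with k | k <;> fin_cases k <;> simp <;> ring
  map_smul' c A := by
    ext k
    rcases k with k | k <;> fin_cases k <;> simp

theorem coords4_toMat4 (v : K4 → F) : coords4 (toMat4 v) = v := by
  ext k
  rcases k with k | k <;> fin_cases k <;> simp [coords4, toMat4]

theorem toMat4_coords4 (A : Matrix (Fin 2) (Fin 2) F) : toMat4 (coords4 A) = A := by
  ext i j
  fin_cases i <;> fin_cases j <;> simp [coords4, toMat4]

theorem plus_coords4 (A : Matrix (Fin 2) (Fin 2) F) :
    Cfsg.quadFormPlus 2 F (coords4 A) = A.det := by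
  rw [Matrix.det_fin_two]
  simp only [Cfsg.quadFormPlus, coords4, LinearMap.coe_mk, AddHom.coe_mk, Sum.elim_inl,
    Sum.elim_inr, Fin.sum_univ_two]
  simp
  ring

/-- the group `SL₂ × SL₂` -/
abbrev G4 (F : Type*) [Field F] : Type _ := SL(2, F) × SL(2, F)

/-- the action of `SL₂ × SL₂` on matrices in coordinates -/
noncomputable def rho (p : G4 F) : (K4 → F) →ₗ[F] (K4 → F) :=
  coords4 ∘ₗ (LinearMap.mulRight F (p.2⁻¹ : SL(2, F)).1) ∘ₗ (LinearMap.mulLeft F p.1.1) ∘ₗ toMat4

theorem rho_apply (p : G4 F) (v : K4 → F) :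
    rho p v = coords4 (p.1.1 * toMat4 v * (p.2⁻¹ : SL(2, F)).1) := rfl

theorem rho_one (v : K4 → F) : rho (1 : G4 F) v = v := by
  rw [rho_apply]
  simp [coords4_toMat4]

theorem rho_mul (p r : G4 F) (v : K4 → F) : rho (p * r) v = rho p (rho r v) := by
  rw [rho_apply, rho_apply, rho_apply, toMat4_coords4, Prod.fst_mul, Prod.snd_mul,
    _root_.mul_inv_rev, coe_mul, coe_mul]
  simp only [Matrix.mul_assoc]

theorem quadFormPlus_rho (p : G4 F) (v : K4 → F) :
    Cfsg.quadFormPlus 2 F (rho p v) = Cfsg.quadFormPlus 2 F v := by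
  rw [rho_apply, plus_coords4, Matrix.det_mul, Matrix.det_mul, p.1.2, (p.2⁻¹).2, one_mul, mul_one,
    ← plus_coords4, coords4_toMat4]

/-- the homomorphism `SL₂(F) × SL₂(F) → O⁺₄(F)` -/
theorem exists_hom (q : (K4 → F) → F) (hq : ∀ v, q v = Cfsg.quadFormPlus 2 F v) :
    ∃ φ : G4 F →* Cfsg.isometryGroup F q,
    ∀ g w, ((φ g : GL K4 F) : Matrix K4 K4 F) *ᵥ w = rho g w := by
  obtain ⟨φ, hφ⟩ := Cfsg.Agent.Helper13.exists_hom_isometry (fun g : G4 F => rho g) rho_one
    rho_mul (LinearEquiv.refl F (K4 → F)) q (fun g v => by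
      show q (rho g v) = q v
      rw [hq, hq, quadFormPlus_rho])
  exact ⟨φ, fun g w => hφ g w⟩

section hom
variable {q : (K4 → F) → F} (φ : G4 F →* Cfsg.isometryGroup F q)
  (hφ : ∀ g w, ((φ g : GL K4 F) : Matrix K4 K4 F) *ᵥ w = rho g w)

include hφ

theorem eq_of_mem_ker {p : G4 F} (hp : φ p = 1) :
    p = (1, 1) ∨ p = (-1, -1) := by
  have h0 : ∀ A : Matrix (Fin 2) (Fin 2) F, p.1.1 * A * (p.2⁻¹ : SL(2, F)).1 = A := by
    intro A
    have h1 := hφ p (coords4 A)
    rw [hp] at h1
    simp only [OneMemClass.coe_one, Units.val_one, Matrix.one_mulVec] at h1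
    rw [rho_apply, toMat4_coords4] at h1
    rw [← toMat4_coords4 (p.1.1 * A * (p.2⁻¹ : SL(2, F)).1), ← h1, toMat4_coords4]
  have h3 : (p.2⁻¹ : SL(2, F)).1 * p.2.1 = 1 := by rw [← coe_mul, inv_mul_cancel, coe_one]
  have h4 : ∀ A : Matrix (Fin 2) (Fin 2) F, p.1.1 * A = A * p.2.1 := by
    intro A
    calc p.1.1 * A = p.1.1 * A * ((p.2⁻¹ : SL(2, F)).1 * p.2.1) := by rw [h3, Matrix.mul_one]
      _ = (p.1.1 * A * (p.2⁻¹ : SL(2, F)).1) * p.2.1 := by simp only [Matrix.mul_assoc]
      _ = A * p.2.1 := by rw [h0]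
  have h5 : p.1 = p.2 := by
    apply Subtype.ext
    have := h4 1
    rwa [Matrix.mul_one, Matrix.one_mul] at this
  have h6 : p.1 = 1 ∨ p.1 = -1 := by
    apply Cfsg.Agent.Helper2.Exc3.eq_one_or_neg_one_of_comm
    intro w
    rw [h4, h5]
  rcases h6 with h | h
  · left; exact Prod.ext h (by rw [← h5, h])
  · right; exact Prod.ext h (by rw [← h5, h])

theorem card_ker_le : Nat.card φ.ker ≤ 2 := by
  classical
  have hsub : (φ.ker : Set (G4 F)) ⊆ ({(1, 1), (-1, -1)} : Finset (G4 F)) := by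
    intro g hg
    rcases eq_of_mem_ker φ hφ (MonoidHom.mem_ker.1 hg) with h | h <;> simp [h]
  calc Nat.card φ.ker = (φ.ker : Set (G4 F)).ncard := Nat.card_coe_set_eq _
    _ ≤ (({(1, 1), (-1, -1)} : Finset (G4 F)) : Set (G4 F)).ncard :=
        Set.ncard_le_ncard hsub (Finset.finite_toSet _)
    _ = ({(1, 1), (-1, -1)} : Finset (G4 F)).card := Set.ncard_coe_finset _
    _ ≤ 2 := Finset.card_le_two

theorem card_ker_eq_one (h2 : (2 : F) = 0) : Nat.card φ.ker = 1 := by
  rw [Subgroup.card_eq_one, eq_bot_iff]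
  intro g hg
  rw [Subgroup.mem_bot]
  have hneg : (-1 : SL(2, F)) = 1 := by
    apply Subtype.ext
    ext i k
    have : (-1 : F) = 1 := by linear_combination (-1 : F) * h2
    fin_cases i <;> fin_cases k <;> simp [this]
  rcases eq_of_mem_ker φ hφ (MonoidHom.mem_ker.1 hg) with h | h
  · rw [h]; rfl
  · rw [h, hneg]; rfl

theorem mem_center_of_comm {g : G4 F}
    (hg : ∀ x : G4 F, φ g * φ x = φ x * φ g) : g ∈ Subgroup.center (G4 F) := by
  have key : ∀ x : G4 F, g * x * g⁻¹ * x⁻¹ = (1, 1) ∨ g * x * g⁻¹ * x⁻¹ = (-1, -1) := by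
    intro x
    apply eq_of_mem_ker φ hφ
    rw [map_mul, map_mul, map_mul, map_inv, map_inv, hg, mul_inv_cancel_right, mul_inv_cancel]
  rw [Subgroup.mem_center_iff]
  intro x
  have hx : x = (x.1, 1) * (1, x.2) := by simp
  have h1 : (x.1, (1 : SL(2, F))) * g = g * (x.1, 1) := by
    have h3 : g * (x.1, 1) * g⁻¹ * (x.1, (1 : SL(2, F)))⁻¹ = 1 := by
      rcases key (x.1, 1) with h | h
      · exact h
      · have h4 := congrArg Prod.snd h
        simp only [Prod.snd_mul, Prod.snd_inv, mul_one, inv_one, mul_inv_cancel] at h4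
        rw [h, ← h4]; rfl
    have : g * (x.1, 1) = (g * (x.1, 1) * g⁻¹ * (x.1, (1 : SL(2, F)))⁻¹) * ((x.1, 1) * g) := by
      group
    rw [this, h3, one_mul]
  have h2 : ((1 : SL(2, F)), x.2) * g = g * (1, x.2) := by
    have h3 : g * (1, x.2) * g⁻¹ * ((1 : SL(2, F)), x.2)⁻¹ = 1 := by
      rcases key (1, x.2) with h | h
      · exact h
      · have h4 := congrArg Prod.fst h
        simp only [Prod.fst_mul, Prod.fst_inv, mul_one, inv_one, mul_inv_cancel] at h4
        rw [h, ← h4]; rfl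
    have : g * (1, x.2) = (g * (1, x.2) * g⁻¹ * ((1 : SL(2, F)), x.2)⁻¹) * ((1, x.2) * g) := by
      group
    rw [this, h3, one_mul]
  rw [hx, mul_assoc, h2, ← mul_assoc, h1, mul_assoc]

end hom

end Cfsg.Agent.Helper2.Exc4

namespace Cfsg.Agent.Helper2.Exc4

/-- the central quotient of a product is the product of the central quotients -/
theorem nonempty_prod_quotient_center (A B : Type*) [Group A] [Group B] :
    Nonempty ((A × B) ⧸ Subgroup.center (A × B) ≃*
      (A ⧸ Subgroup.center A) × (B ⧸ Subgroup.center B)) := by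
  set ψ : A × B →* (A ⧸ Subgroup.center A) × (B ⧸ Subgroup.center B) :=
    MonoidHom.prodMap (QuotientGroup.mk' (Subgroup.center A)) (QuotientGroup.mk' (Subgroup.center B))
    with hψ
  have hs : Function.Surjective ψ := by
    rintro ⟨a, b⟩
    obtain ⟨a', rfl⟩ := QuotientGroup.mk'_surjective _ a
    obtain ⟨b', rfl⟩ := QuotientGroup.mk'_surjective _ b
    exact ⟨(a', b'), rfl⟩
  have hker : ψ.ker = Subgroup.center (A × B) := by
    rw [Subgroup.center_prod]
    ext ⟨a, b⟩
    rw [MonoidHom.mem_ker, hψ, MonoidHom.prodMap_def, MonoidHom.prod_apply, Prod.mk_eq_one,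
      Subgroup.mem_prod]
    simp only [MonoidHom.coe_comp, MonoidHom.coe_fst, MonoidHom.coe_snd, Function.comp_apply,
      QuotientGroup.mk'_apply, QuotientGroup.eq_one_iff]
  exact ⟨(QuotientGroup.quotientMulEquivOfEq hker).symm.trans
    (QuotientGroup.quotientKerEquivOfSurjective ψ hs)⟩

end Cfsg.Agent.Helper2.Exc4

namespace Cfsg.Agent.Helper2.Exc4

open Matrix Matrix.SpecialLinearGroup QuadraticMap
open scoped MatrixGroups

/-- any homomorphism from `SL₂(q)`, `q ≥ 3`, to an orthogonal group has image in `Ω` -/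
theorem sl2_range_le_Omega {F : Type*} [Field F] [Fintype F] {ι : Type} [Fintype ι]
    [DecidableEq ι] (Q : QuadraticForm F (ι → F))
    (hQ : (polarBilin Q).Nondegenerate) (hex : Fintype.card F ≠ 2 ∨ Fintype.card ι ≠ 4)
    (hF : 3 ≤ Fintype.card F) (ψ : SL(2, F) →* Cfsg.isometryGroup F (⇑Q)) :
    ψ.range ≤ Cfsg.Omega F (⇑Q) := by
  classical
  by_cases h2 : (2 : F) = 0
  · obtain ⟨a, ha0, ha1⟩ : ∃ a : F, a ≠ 0 ∧ a ≠ 1 := by
      by_contra hcon0
      have hcon : ∀ a : F, a ≠ 0 → a = 1 := fun a ha => by_contra fun h1 => hcon0 ⟨a, ha, h1⟩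
      have hsub : (Finset.univ : Finset F) ⊆ {0, 1} := by
        intro a _
        by_cases ha : a = 0
        · simp [ha]
        · simp [hcon a ha]
      have := Finset.card_le_card hsub
      have h3 : ({0, 1} : Finset F).card ≤ 2 := Finset.card_le_two
      rw [Finset.card_univ] at this
      omega
    have hasq : a ^ 2 ≠ 1 := by
      intro h
      apply ha1
      have : (a - 1) ^ 2 = 0 := by linear_combination h - (a - 1) * h2
      have := pow_eq_zero_iff (two_ne_zero) |>.1 this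
      linear_combination this
    have hperf : commutator SL(2, F) = ⊤ := SL2.commutator_eq_top ha0 hasq
    rw [MonoidHom.range_eq_map, ← hperf, commutator_def, Subgroup.map_commutator]
    exact Subgroup.commutator_mono le_top le_top
  · rintro _ ⟨g, rfl⟩
    refine SL2.transvection_induction (fun A => ψ A ∈ Cfsg.Omega F (⇑Q)) ?_ ?_ g
    · intro i j hij c
      have : SpecialLinearGroup.transvection hij c =
          SpecialLinearGroup.transvection hij (c / 2) *
            SpecialLinearGroup.transvection hij (c / 2) := by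
        rw [← SpecialLinearGroup.transvection_add]
        congr 1
        field_simp
        ring
      show ψ _ ∈ _
      rw [this, map_mul]
      exact Cfsg.Agent.Helper17.Spinor.sq_mem_Omega _ hQ hex _
    · intro A B hA hB
      show ψ _ ∈ _
      rw [map_mul]
      exact Subgroup.mul_mem _ hA hB

end Cfsg.Agent.Helper2.Exc4
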