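import Mathlib
import Cfsg.Agent.Lib.Helper2.Exc6
import Cfsg.Agent.Lib.Helper2.SpCenter
import Cfsg.Agent.Lib.Helper2.SympPerfect

set_option autoImplicit false
set_option linter.unusedSectionVars false
set_option linter.unusedSimpArgs false

namespace Cfsg.Agent.Helper2.Exc5

open Matrix Cfsg.Agent.Helper2.Exc6

variable {F : Type*} [Field F]

/-- the index type of the five-dimensional space -/
abbrev K5 : Type := Unit ⊕ (Fin 2 ⊕ Fin 2)

/-- reindexing of the symplectic basis -/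
def e4 : Fin 2 ⊕ Fin 2 ≃ Fin 4 where
  toFun := Sum.elim ![0, 1] ![2, 3]
  invFun := ![Sum.inl 0, Sum.inl 1, Sum.inr 0, Sum.inr 1]
  left_inv := by decide
  right_inv := by decide

/-- reindexed matrix -/
def iota (g : Matrix (Fin 2 ⊕ Fin 2) (Fin 2 ⊕ Fin 2) F) : Matrix (Fin 4) (Fin 4) F :=
  g.submatrix e4.symm e4.symm

theorem iota_mul (g h : Matrix (Fin 2 ⊕ Fin 2) (Fin 2 ⊕ Fin 2) F) :
    iota (g * h) = iota g * iota h := by
  unfold iota
  rw [Matrix.submatrix_mul_equiv]

theorem iota_one : iota (1 : Matrix (Fin 2 ⊕ Fin 2) (Fin 2 ⊕ Fin 2) F) = 1 := by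
  unfold iota
  rw [Matrix.submatrix_one_equiv]

theorem iota_transpose (g : Matrix (Fin 2 ⊕ Fin 2) (Fin 2 ⊕ Fin 2) F) :
    iota gᵀ = (iota g)ᵀ := by
  unfold iota
  rw [Matrix.transpose_submatrix]

theorem iota_injective : Function.Injective (iota (F := F)) := by
  intro g h hgh
  ext a b
  have := congrFun (congrFun hgh (e4 a)) (e4 b)
  simpa [iota] using this

theorem iota_neg (g : Matrix (Fin 2 ⊕ Fin 2) (Fin 2 ⊕ Fin 2) F) : iota (-g) = -iota g := by
  unfold iota
  rfl

/-- the reindexed symplectic form -/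
def J4 : Matrix (Fin 4) (Fin 4) F := !![0, 0, -1, 0; 0, 0, 0, -1; 1, 0, 0, 0; 0, 1, 0, 0]

theorem iota_J : iota (Matrix.J (Fin 2) F) = J4 := by
  ext i j
  fin_cases i <;> fin_cases j <;> simp [iota, e4, J4, Matrix.J, Matrix.one_apply]

theorem isAlt_J4 : IsAlt (J4 (F := F)) := by
  constructor
  · intro i; fin_cases i <;> simp [J4]
  · intro i j; fin_cases i <;> fin_cases j <;> simp [J4]

/-- the Pfaffian -/
def pf (A : Matrix (Fin 4) (Fin 4) F) : F := Cfsg.quadFormPlus 3 F (coords A)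

theorem pf_eq (A : Matrix (Fin 4) (Fin 4) F) :
    pf A = A 0 1 * A 2 3 - A 0 2 * A 1 3 + A 0 3 * A 1 2 := plus_coords A

theorem pf_J4 : pf (J4 (F := F)) = -1 := by
  rw [pf_eq]
  simp [J4]

theorem iota_conj_J (g : Matrix.symplecticGroup (Fin 2) F) :
    iota g.1 * J4 * (iota g.1)ᵀ = J4 := by
  rw [← iota_J, ← iota_transpose, ← iota_mul, ← iota_mul,
    (SymplecticGroup.mem_iff.1 g.2)]

theorem det_iota (g : Matrix.symplecticGroup (Fin 2) F) : (iota g.1).det = 1 := by
  have h := pfaffian_conj (iota g.1) J4 isAlt_J4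
  rw [iota_conj_J] at h
  have h2 : pf (J4 (F := F)) = (iota g.1).det * pf J4 := h
  rw [pf_J4] at h2
  linear_combination h2

/-- the embedding `Sp₄ → SL₄` -/
def sigma : Matrix.symplecticGroup (Fin 2) F →* SpecialLinearGroup (Fin 4) F where
  toFun g := ⟨iota g.1, det_iota g⟩
  map_one' := by
    apply Subtype.ext
    exact iota_one
  map_mul' g h := by
    apply Subtype.ext
    exact iota_mul g.1 h.1

theorem sigma_coe (g : Matrix.symplecticGroup (Fin 2) F) : (sigma g).1 = iota g.1 := rfl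

/-- the linear functional cutting out the five-dimensional subspace -/
def lam (A : Matrix (Fin 4) (Fin 4) F) : F := A 0 2 + A 1 3

theorem lam_eq (A : Matrix (Fin 4) (Fin 4) F) : lam A = pf (A + J4) - pf A + 1 := by
  rw [pf_eq, pf_eq, lam]
  simp [J4]
  ring

theorem isAlt_add {A B : Matrix (Fin 4) (Fin 4) F} (hA : IsAlt A) (hB : IsAlt B) :
    IsAlt (A + B) := by
  constructor
  · intro i; rw [Matrix.add_apply, hA.1, hB.1, add_zero]
  · intro i j; rw [Matrix.add_apply, Matrix.add_apply, hA.2, hB.2]; ring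

theorem lam_conj (g : Matrix.symplecticGroup (Fin 2) F) (A : Matrix (Fin 4) (Fin 4) F)
    (hA : IsAlt A) : lam (iota g.1 * A * (iota g.1)ᵀ) = lam A := by
  rw [lam_eq, lam_eq]
  have h1 : iota g.1 * A * (iota g.1)ᵀ + J4 = iota g.1 * (A + J4) * (iota g.1)ᵀ := by
    rw [Matrix.mul_add, Matrix.add_mul, iota_conj_J]
  have h2 := pfaffian_conj (iota g.1) (A + J4) (isAlt_add hA isAlt_J4)
  have h3 := pfaffian_conj (iota g.1) A hA
  rw [det_iota, one_mul] at h2 h3
  rw [h1]
  show Cfsg.quadFormPlus 3 F (coords _) - Cfsg.quadFormPlus 3 F (coords _) + 1 = _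
  rw [h2, h3]
  rfl

/-- the embedding of the five-dimensional space -/
def jmap : (K5 → F) →ₗ[F] (K6 → F) where
  toFun w := Sum.elim ![w (.inr (.inl 0)), w (.inl ()), w (.inr (.inl 1))]
    ![w (.inr (.inr 0)), w (.inl ()), w (.inr (.inr 1))]
  map_add' u v := by
    ext k
    rcases k with k | k <;> fin_cases k <;> simp
  map_smul' c v := by
    ext k
    rcases k with k | k <;> fin_cases k <;> simp

/-- the projection to the five-dimensional space -/
def prmap : (K6 → F) →ₗ[F] (K5 → F) where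
  toFun v := Sum.elim (fun _ => v (.inl 1)) (Sum.elim ![v (.inl 0), v (.inl 2)]
    ![v (.inr 0), v (.inr 2)])
  map_add' u v := by
    ext k
    rcases k with k | k | k
    · simp
    · fin_cases k <;> simp
    · fin_cases k <;> simp
  map_smul' c v := by
    ext k
    rcases k with k | k | k
    · simp
    · fin_cases k <;> simp
    · fin_cases k <;> simp

theorem prmap_jmap (w : K5 → F) : prmap (jmap w) = w := by
  ext k
  rcases k with k | k | k
  · simp [prmap, jmap]
  · fin_cases k <;> simp [prmap, jmap]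
  · fin_cases k <;> simp [prmap, jmap]

theorem jmap_prmap (v : K6 → F) (hv : v (.inl 1) = v (.inr 1)) : jmap (prmap v) = v := by
  ext k
  rcases k with k | k <;> fin_cases k <;> simp [prmap, jmap, hv]

theorem lam_toAlt (v : K6 → F) : lam (toAlt v) = v (.inl 1) - v (.inr 1) := by
  simp [lam, toAlt]
  ring

theorem jmap_mem (w : K5 → F) : (jmap w) (.inl 1) = (jmap w) (.inr 1) := by
  simp [jmap]

theorem plus_jmap (w : K5 → F) : Cfsg.quadFormPlus 3 F (jmap w) = Cfsg.quadFormOdd 2 F w := by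
  simp [Cfsg.quadFormPlus, Cfsg.quadFormOdd, jmap, Fin.sum_univ_three, Fin.sum_univ_two]
  ring

/-- the subspace is invariant -/
theorem rho_mem (g : Matrix.symplecticGroup (Fin 2) F) (v : K6 → F)
    (hv : v (.inl 1) = v (.inr 1)) :
    (rho (sigma g) v) (.inl 1) = (rho (sigma g) v) (.inr 1) := by
  have h1 : lam (toAlt (rho (sigma g) v)) = 0 := by
    rw [rho_apply, toAlt_coords _ (isAlt_conj _ _ (isAlt_toAlt v)), sigma_coe,
      lam_conj g _ (isAlt_toAlt v), lam_toAlt, hv, sub_self]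
  rw [lam_toAlt] at h1
  linear_combination h1

/-- the action of `Sp₄` on the five-dimensional space -/
noncomputable def rho5 (g : Matrix.symplecticGroup (Fin 2) F) : (K5 → F) →ₗ[F] (K5 → F) :=
  prmap ∘ₗ rho (sigma g) ∘ₗ jmap

theorem rho5_apply (g : Matrix.symplecticGroup (Fin 2) F) (w : K5 → F) :
    rho5 g w = prmap (rho (sigma g) (jmap w)) := rfl

theorem jmap_rho5 (g : Matrix.symplecticGroup (Fin 2) F) (w : K5 → F) :
    jmap (rho5 g w) = rho (sigma g) (jmap w) := by
  rw [rho5_apply, jmap_prmap _ (rho_mem g _ (jmap_mem w))]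

theorem rho5_one (w : K5 → F) : rho5 (1 : Matrix.symplecticGroup (Fin 2) F) w = w := by
  rw [rho5_apply, map_one, rho_one, prmap_jmap]

theorem rho5_mul (g h : Matrix.symplecticGroup (Fin 2) F) (w : K5 → F) :
    rho5 (g * h) w = rho5 g (rho5 h w) := by
  rw [rho5_apply, rho5_apply, jmap_rho5, map_mul, rho_mul]

theorem quadFormOdd_rho5 (g : Matrix.symplecticGroup (Fin 2) F) (w : K5 → F) :
    Cfsg.quadFormOdd 2 F (rho5 g w) = Cfsg.quadFormOdd 2 F w := by
  rw [← plus_jmap, jmap_rho5, quadFormPlus_rho, plus_jmap]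

/-- the homomorphism `Sp₄(F) → O₅(F)` -/
theorem exists_hom (q : (K5 → F) → F) (hq : ∀ v, q v = Cfsg.quadFormOdd 2 F v) :
    ∃ φ : Matrix.symplecticGroup (Fin 2) F →* Cfsg.isometryGroup F q,
    ∀ g w, ((φ g : GL K5 F) : Matrix K5 K5 F) *ᵥ w = rho5 g w := by
  obtain ⟨φ, hφ⟩ := Cfsg.Agent.Helper13.exists_hom_isometry
    (fun g : Matrix.symplecticGroup (Fin 2) F => rho5 g) rho5_one
    rho5_mul (LinearEquiv.refl F (K5 → F)) q (fun g v => by
      show q (rho5 g v) = q v
      rw [hq, hq, quadFormOdd_rho5])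
  exact ⟨φ, fun g w => hφ g w⟩

section hom
variable {q : (K5 → F) → F} (φ : Matrix.symplecticGroup (Fin 2) F →* Cfsg.isometryGroup F q)
  (hφ : ∀ g w, ((φ g : GL K5 F) : Matrix K5 K5 F) *ᵥ w = rho5 g w)

include hφ

theorem coe_eq_one_or_neg_one_of_mem_ker (h2 : (2 : F) ≠ 0)
    {g : Matrix.symplecticGroup (Fin 2) F} (hg : φ g = 1) : g.1 = 1 ∨ g.1 = -1 := by
  have h1 : ∀ w, rho5 g w = w := by
    intro w
    have := hφ g w
    rw [hg] at this
    simpa using this.symm
  have h3 : ∀ w : K5 → F, rho (sigma g) (jmap w) = jmap w := fun w => by rw [← jmap_rho5, h1]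
  have h4 : rho (sigma g) (coords (J4 (F := F))) = coords J4 := by
    rw [rho_apply, toAlt_coords _ isAlt_J4, sigma_coe, iota_conj_J]
  have h5 : ∀ v : K6 → F, rho (sigma g) v = v := by
    intro v
    set c : F := (v (.inr 1) - v (.inl 1)) / 2 with hc
    have hmem : (v - c • coords (J4 (F := F))) (.inl 1) = (v - c • coords (J4 (F := F))) (.inr 1) := by
      simp [coords, J4]
      rw [hc]
      field_simp
      ring
    have hv : v = jmap (prmap (v - c • coords (J4 (F := F)))) + c • coords J4 := by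
      rw [jmap_prmap _ hmem]
      abel
    rw [hv, map_add, map_smul, h3, h4]
  have h6 := eq_one_or_neg_one_of_fix (sigma g) (fun w => by
    have := h5 w
    rw [rho_apply] at this
    rw [← toAlt_coords _ (isAlt_conj (sigma g).1 _ (isAlt_toAlt w)), this])
  rw [sigma_coe] at h6
  rcases h6 with h | h
  · left
    apply iota_injective
    rw [h, iota_one]
  · right
    apply iota_injective
    rw [h, iota_neg, iota_one]

theorem ker_le_center (h2 : (2 : F) ≠ 0) :
    φ.ker ≤ Subgroup.center (Matrix.symplecticGroup (Fin 2) F) := by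
  intro g hg
  rw [Subgroup.mem_center_iff]
  intro x
  apply Subtype.ext
  show x.1 * g.1 = g.1 * x.1
  rcases coe_eq_one_or_neg_one_of_mem_ker φ hφ h2 (MonoidHom.mem_ker.1 hg) with h | h <;> rw [h] <;>
    simp

theorem card_ker_le [Finite F] (h2 : (2 : F) ≠ 0) : Nat.card φ.ker ≤ 2 := by
  classical
  have hinj : Function.Injective
      (fun g : φ.ker => (g.1.1 : Matrix (Fin 2 ⊕ Fin 2) (Fin 2 ⊕ Fin 2) F)) := by
    intro a b hab
    exact Subtype.ext (Subtype.ext hab)
  have hsub : Set.range (fun g : φ.ker => (g.1.1 : Matrix (Fin 2 ⊕ Fin 2) (Fin 2 ⊕ Fin 2) F)) ⊆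
      (({1, -1} : Finset (Matrix (Fin 2 ⊕ Fin 2) (Fin 2 ⊕ Fin 2) F)) : Set _) := by
    rintro _ ⟨g, rfl⟩
    rcases coe_eq_one_or_neg_one_of_mem_ker φ hφ h2 (MonoidHom.mem_ker.1 g.2) with h | h <;>
      simp [h]
  calc Nat.card φ.ker = Nat.card (Set.range
        (fun g : φ.ker => (g.1.1 : Matrix (Fin 2 ⊕ Fin 2) (Fin 2 ⊕ Fin 2) F))) :=
        (Nat.card_range_of_injective hinj).symm
    _ = (Set.range
        (fun g : φ.ker => (g.1.1 : Matrix (Fin 2 ⊕ Fin 2) (Fin 2 ⊕ Fin 2) F))).ncard :=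
        Nat.card_coe_set_eq _
    _ ≤ (({1, -1} : Finset (Matrix (Fin 2 ⊕ Fin 2) (Fin 2 ⊕ Fin 2) F)) : Set _).ncard :=
        Set.ncard_le_ncard hsub (Finset.finite_toSet _)
    _ = ({1, -1} : Finset (Matrix (Fin 2 ⊕ Fin 2) (Fin 2 ⊕ Fin 2) F)).card :=
        Set.ncard_coe_finset _
    _ ≤ 2 := Finset.card_le_two

theorem mem_center_of_comm [Fintype F] (h2 : (2 : F) ≠ 0) (h3 : 3 ≤ Fintype.card F)
    {g : Matrix.symplecticGroup (Fin 2) F}
    (hg : ∀ x : Matrix.symplecticGroup (Fin 2) F, φ g * φ x = φ x * φ g) :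
    g ∈ Subgroup.center (Matrix.symplecticGroup (Fin 2) F) := by
  have hperf : commutator (Matrix.symplecticGroup (Fin 2) F) = ⊤ :=
    Cfsg.Agent.Helper2.Symp.commutator_symplecticGroup_eq_top 2 (Or.inr (Or.inl ⟨rfl, h3⟩))
  apply Cfsg.Agent.Helper2.Exc.mem_center_of_perfect hperf φ.rangeRestrict
  · rw [MonoidHom.ker_rangeRestrict]
    exact ker_le_center φ hφ h2
  · rw [Subgroup.mem_center_iff]
    rintro ⟨_, x, rfl⟩
    apply Subtype.ext
    exact (hg x).symm

theorem range_le_commutator [Fintype F] (h3 : 3 ≤ Fintype.card F) :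
    φ.range ≤ commutator (Cfsg.isometryGroup F q) := by
  have hperf : commutator (Matrix.symplecticGroup (Fin 2) F) = ⊤ :=
    Cfsg.Agent.Helper2.Symp.commutator_symplecticGroup_eq_top 2 (Or.inr (Or.inl ⟨rfl, h3⟩))
  rw [MonoidHom.range_eq_map, ← hperf, commutator_def, Subgroup.map_commutator]
  exact Subgroup.commutator_mono le_top le_top

end hom

end Cfsg.Agent.Helper2.Exc5
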