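import Mathlib
import Cfsg.Agent.Lib.Helper2.Exc6
import Cfsg.Agent.Lib.Helper2.ExcM4

set_option autoImplicit false
set_option linter.unusedSectionVars false
set_option linter.unusedSimpArgs false

namespace Cfsg.Agent.Helper2.ExcM6

open Matrix Cfsg.Agent.Helper2.Exc6

variable {R : Type*} [Field R]

/-- the Hodge star in coordinates -/
def swap6 (v : K6 → R) : K6 → R := fun k => v k.swap

theorem swap6_swap6 (v : K6 → R) : swap6 (swap6 v) = v := by
  ext k; simp [swap6]

/-- the Hodge star on matrices -/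
def star4 (A : Matrix (Fin 4) (Fin 4) R) : Matrix (Fin 4) (Fin 4) R := toAlt (swap6 (coords A))

theorem star4_00 (A : Matrix (Fin 4) (Fin 4) R) : star4 A 0 0 = 0 := by
  simp [star4, toAlt, swap6, coords]

theorem star4_01 (A : Matrix (Fin 4) (Fin 4) R) : star4 A 0 1 = A 2 3 := by
  simp [star4, toAlt, swap6, coords]

theorem star4_02 (A : Matrix (Fin 4) (Fin 4) R) : star4 A 0 2 = -A 1 3 := by
  simp [star4, toAlt, swap6, coords]

theorem star4_03 (A : Matrix (Fin 4) (Fin 4) R) : star4 A 0 3 = A 1 2 := by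
  simp [star4, toAlt, swap6, coords]

theorem star4_10 (A : Matrix (Fin 4) (Fin 4) R) : star4 A 1 0 = -A 2 3 := by
  simp [star4, toAlt, swap6, coords]

theorem star4_11 (A : Matrix (Fin 4) (Fin 4) R) : star4 A 1 1 = 0 := by
  simp [star4, toAlt, swap6, coords]

theorem star4_12 (A : Matrix (Fin 4) (Fin 4) R) : star4 A 1 2 = A 0 3 := by
  simp [star4, toAlt, swap6, coords]

theorem star4_13 (A : Matrix (Fin 4) (Fin 4) R) : star4 A 1 3 = -A 0 2 := by
  simp [star4, toAlt, swap6, coords]

theorem star4_20 (A : Matrix (Fin 4) (Fin 4) R) : star4 A 2 0 = A 1 3 := by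
  simp [star4, toAlt, swap6, coords]

theorem star4_21 (A : Matrix (Fin 4) (Fin 4) R) : star4 A 2 1 = -A 0 3 := by
  simp [star4, toAlt, swap6, coords]

theorem star4_22 (A : Matrix (Fin 4) (Fin 4) R) : star4 A 2 2 = 0 := by
  simp [star4, toAlt, swap6, coords]

theorem star4_23 (A : Matrix (Fin 4) (Fin 4) R) : star4 A 2 3 = A 0 1 := by
  simp [star4, toAlt, swap6, coords]

theorem star4_30 (A : Matrix (Fin 4) (Fin 4) R) : star4 A 3 0 = -A 1 2 := by
  simp [star4, toAlt, swap6, coords]

theorem star4_31 (A : Matrix (Fin 4) (Fin 4) R) : star4 A 3 1 = A 0 2 := by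
  simp [star4, toAlt, swap6, coords]

theorem star4_32 (A : Matrix (Fin 4) (Fin 4) R) : star4 A 3 2 = -A 0 1 := by
  simp [star4, toAlt, swap6, coords]

theorem star4_33 (A : Matrix (Fin 4) (Fin 4) R) : star4 A 3 3 = 0 := by
  simp [star4, toAlt, swap6, coords]

set_option maxHeartbeats 1600000 in
theorem star4_conj (g A : Matrix (Fin 4) (Fin 4) R) (hA : IsAlt A) :
    gᵀ * star4 (g * A * gᵀ) * g = g.det • star4 A := by
  obtain ⟨h1, h2⟩ := hA
  rw [det_fin_four']
  ext i j
  fin_cases i <;> fin_cases j <;>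
  · simp only [Fin.zero_eta, Fin.mk_one, Fin.reduceFinMk, Matrix.smul_apply, smul_eq_mul]
    rw [Matrix.mul_apply, Fin.sum_univ_four]
    simp only [Matrix.mul_apply (M := gᵀ), Fin.sum_univ_four, Matrix.transpose_apply,
      star4_00, star4_01, star4_02, star4_03, star4_10, star4_11, star4_12, star4_13, star4_20, star4_21, star4_22, star4_23, star4_30, star4_31, star4_32, star4_33]
    simp only [Matrix.mul_apply, Fin.sum_univ_four, Matrix.transpose_apply, h1]
    rw [h2 0 1, h2 0 2, h2 0 3, h2 1 2, h2 1 3, h2 2 3]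
    ring


open Cfsg.Agent.Helper2.ExcM4

variable {F K : Type*} [Field F] [Field K] {a b : F} (D : QData F K a b)

theorem coords_map (σ : K →+* K) (A : Matrix (Fin 4) (Fin 4) K) :
    coords (A.map σ) = fun k => σ (coords A k) := by
  ext k
  rcases k with k | k <;> fin_cases k <;> simp [coords]

theorem isAlt_map (σ : K →+* K) {A : Matrix (Fin 4) (Fin 4) K} (hA : IsAlt A) :
    IsAlt (A.map σ) := by
  constructor
  · intro i; rw [Matrix.map_apply, hA.1, map_zero]
  · intro i j; rw [Matrix.map_apply, Matrix.map_apply, hA.2, map_neg]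

theorem isAlt_star4 (A : Matrix (Fin 4) (Fin 4) K) : IsAlt (star4 A) := isAlt_toAlt _

/-- the twisted star commutes with the action of unitary matrices -/
theorem conj_star (σ : K →+* K) (g : Matrix (Fin 4) (Fin 4) K) (hU : gᵀ * g.map σ = 1)
    (hdet : g.det = 1) (B : Matrix (Fin 4) (Fin 4) K) (hB : IsAlt B) :
    g * star4 (B.map σ) * gᵀ = star4 ((g * B * gᵀ).map σ) := by
  have hm : (g.map σ).det = 1 := by
    have := RingHom.map_det σ g
    rw [hdet, map_one] at this
    exact this.symm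
  have h1 := star4_conj (g.map σ) (B.map σ) (isAlt_map σ hB)
  rw [hm, one_smul] at h1
  have h2 : g.map σ * gᵀ = 1 := (_root_.mul_eq_one_comm).1 hU
  have h3 : g * (g.map σ)ᵀ = 1 := by
    have := congrArg Matrix.transpose h2
    rwa [Matrix.transpose_mul, Matrix.transpose_transpose, Matrix.transpose_one] at this
  have h4 : (g * B * gᵀ).map σ = g.map σ * B.map σ * (g.map σ)ᵀ := by
    rw [Matrix.map_mul, Matrix.map_mul, Matrix.transpose_map]
  rw [h4, ← h1]
  calc g * ((g.map σ)ᵀ * star4 (g.map σ * B.map σ * (g.map σ)ᵀ) * g.map σ) * gᵀ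
      = (g * (g.map σ)ᵀ) * star4 (g.map σ * B.map σ * (g.map σ)ᵀ) * (g.map σ * gᵀ) := by
        simp only [Matrix.mul_assoc]
    _ = star4 (g.map σ * B.map σ * (g.map σ)ᵀ) := by rw [h2, h3, Matrix.one_mul, Matrix.mul_one]

/-- the semilinear involution -/
def tau (σ : K →+* K) (v : K6 → K) : K6 → K := fun k => σ (v k.swap)

theorem toAlt_tau (σ : K →+* K) (v : K6 → K) : toAlt (tau σ v) = star4 ((toAlt v).map σ) := by
  unfold star4
  rw [coords_map, coords_toAlt]
  rfl

theorem tau_rho (σ : K →+* K) (g : SpecialLinearGroup (Fin 4) K) (hU : g.1ᵀ * g.1.map σ = 1)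
    (v : K6 → K) : tau σ (rho g v) = rho g (tau σ v) := by
  have h1 : toAlt (tau σ (rho g v)) = toAlt (rho g (tau σ v)) := by
    rw [toAlt_tau, rho_apply, rho_apply, toAlt_coords _ (isAlt_conj _ _ (isAlt_toAlt v)),
      toAlt_coords _ (isAlt_conj _ _ (isAlt_toAlt _)), toAlt_tau,
      conj_star σ g.1 hU g.2 _ (isAlt_toAlt v)]
  have := congrArg coords h1
  rwa [coords_toAlt, coords_toAlt] at this

end Cfsg.Agent.Helper2.ExcM6
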