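import Mathlib
import Cfsg.Agent.Lib.Helper2.ExcStar
import Cfsg.Agent.Lib.Helper11.Unitary2
import Cfsg.Agent.Lib.Helper11.UnitarySimple
import Cfsg.Agent.Lib.Helper13.IsomTransfer
import Cfsg.Agent.Lib.Helper17.UnitaryOrthogonal

set_option autoImplicit false
set_option linter.unusedSectionVars false
set_option linter.unusedSimpArgs false

namespace Cfsg.Agent.Helper2.ExcM6

open Matrix Cfsg.Agent.Helper2.Exc6 Cfsg.Agent.Helper2.ExcM4

variable {F K : Type*} [Field F] [Field K] {a b : F} (D : QData F K a b)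

/-- the index type of the six-dimensional space -/
abbrev K6m : Type := (Fin 2 ⊕ Fin 2) ⊕ Fin 2

section psi
variable (ε : K)

/-- first auxiliary element -/
def xx (v : K6m → F) : K := D.emb (v (.inl (.inl 0))) + D.emb (v (.inl (.inl 1))) * D.t

/-- second auxiliary element -/
def nn (v : K6m → F) : K := D.emb (v (.inl (.inr 0))) * D.t - D.emb (v (.inl (.inr 1)))

/-- the discriminant -/
def dd : K := (D.t - D.σ D.t) ^ 2

/-- first coordinate -/
def al (v : K6m → F) : K := xx D v + D.t * nn D v / dd D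

/-- second coordinate -/
def be (v : K6m → F) : K := ε * (xx D v + D.σ D.t * nn D v / dd D)

/-- third coordinate -/
def ga (v : K6m → F) : K := D.emb (v (.inr 0)) + D.emb (v (.inr 1)) * D.t

/-- the embedding of the six-dimensional `F`-space -/
def Psi (v : K6m → F) : K6 → K :=
  Sum.elim ![al D v, be D ε v, ga D v] ![D.σ (al D v), D.σ (be D ε v), D.σ (ga D v)]

theorem dd_ne : dd D ≠ 0 := pow_ne_zero _ D.sub_ne

theorem σ_dd : D.σ (dd D) = dd D := by
  unfold dd
  rw [map_pow, map_sub, D.hσσ]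
  ring

theorem σ_xx (v : K6m → F) :
    D.σ (xx D v) = D.emb (v (.inl (.inl 0))) + D.emb (v (.inl (.inl 1))) * D.σ D.t := by
  unfold xx
  rw [map_add, map_mul, D.hσemb, D.hσemb]

theorem σ_nn (v : K6m → F) :
    D.σ (nn D v) = D.emb (v (.inl (.inr 0))) * D.σ D.t - D.emb (v (.inl (.inr 1))) := by
  unfold nn
  rw [map_sub, map_mul, D.hσemb, D.hσemb]

theorem norm_al_be (hε : ε * D.σ ε = -1) (v : K6m → F) :
    al D v * D.σ (al D v) + be D ε v * D.σ (be D ε v) =
      D.emb (v (.inl (.inl 0)) * v (.inl (.inr 0)) + v (.inl (.inl 1)) * v (.inl (.inr 1))) := by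
  have hd := dd_ne D
  unfold al be
  simp only [map_add, map_mul, map_div₀, σ_dd, σ_xx, σ_nn, D.hσσ]
  have e1 : ε * (xx D v + D.σ D.t * nn D v / dd D) *
      (D.σ ε * (D.emb (v (.inl (.inl 0))) + D.emb (v (.inl (.inl 1))) * D.σ D.t +
        D.t * (D.emb (v (.inl (.inr 0))) * D.σ D.t - D.emb (v (.inl (.inr 1)))) / dd D)) =
      -((xx D v + D.σ D.t * nn D v / dd D) *
      ((D.emb (v (.inl (.inl 0))) + D.emb (v (.inl (.inl 1))) * D.σ D.t +
        D.t * (D.emb (v (.inl (.inr 0))) * D.σ D.t - D.emb (v (.inl (.inr 1)))) / dd D))) := by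
    linear_combination ((xx D v + D.σ D.t * nn D v / dd D) *
      ((D.emb (v (.inl (.inl 0))) + D.emb (v (.inl (.inl 1))) * D.σ D.t +
        D.t * (D.emb (v (.inl (.inr 0))) * D.σ D.t - D.emb (v (.inl (.inr 1)))) / dd D))) * hε
  rw [e1]
  unfold xx nn
  field_simp
  unfold dd
  ring

theorem norm_ga (v : K6m → F) :
    ga D v * D.σ (ga D v) =
      D.emb (v (.inr 0) ^ 2 + a * v (.inr 0) * v (.inr 1) + b * v (.inr 1) ^ 2) := by
  simp only [ga, map_add, map_mul, map_pow, D.hσemb, ← D.ht1, ← D.ht2]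
  ring

theorem plus_Psi (hε : ε * D.σ ε = -1) (v : K6m → F) :
    Cfsg.quadFormPlus 3 K (Psi D ε v) = D.emb (Cfsg.quadFormMinus 2 F a b v) := by
  have h1 : Cfsg.quadFormPlus 3 K (Psi D ε v) =
      (al D v * D.σ (al D v) + be D ε v * D.σ (be D ε v)) + ga D v * D.σ (ga D v) := by
    simp [Cfsg.quadFormPlus, Psi, Fin.sum_univ_three]
  rw [h1, norm_al_be D ε hε, norm_ga, Cfsg.quadFormMinus, Fin.sum_univ_two, ← map_add]

theorem tau_Psi (v : K6m → F) : tau D.σ (Psi D ε v) = Psi D ε v := by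
  ext k
  rcases k with k | k <;> fin_cases k <;> simp [tau, Psi, D.hσσ]

theorem lin_indep {c₀ c₁ c₀' c₁' : F}
    (h : D.emb c₀ + D.emb c₁ * D.t = D.emb c₀' + D.emb c₁' * D.t) : c₀ = c₀' ∧ c₁ = c₁' := by
  have h' := congrArg D.σ h
  simp only [map_add, map_mul, D.hσemb] at h'
  have hne := D.sub_ne
  have e2 : D.emb c₁ = D.emb c₁' := by
    have : (D.emb c₁ - D.emb c₁') * (D.t - D.σ D.t) = 0 := by linear_combination h - h'
    rcases mul_eq_zero.1 this with h1 | h1
    · exact sub_eq_zero.1 h1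
    · exact absurd h1 hne
  have e1 : D.emb c₀ = D.emb c₀' := by
    rw [e2] at h
    exact add_right_cancel h
  exact ⟨D.emb_injective e1, D.emb_injective e2⟩

theorem xx_add (u v : K6m → F) : xx D (u + v) = xx D u + xx D v := by
  simp only [xx, Pi.add_apply, map_add]; ring

theorem nn_add (u v : K6m → F) : nn D (u + v) = nn D u + nn D v := by
  simp only [nn, Pi.add_apply, map_add]; ring

theorem xx_smul (c : F) (v : K6m → F) : xx D (c • v) = D.emb c * xx D v := by
  simp only [xx, Pi.smul_apply, smul_eq_mul, map_mul]; ring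

theorem nn_smul (c : F) (v : K6m → F) : nn D (c • v) = D.emb c * nn D v := by
  simp only [nn, Pi.smul_apply, smul_eq_mul, map_mul]; ring

theorem al_add (u v : K6m → F) : al D (u + v) = al D u + al D v := by
  simp only [al, xx_add, nn_add]; ring

theorem be_add (u v : K6m → F) : be D ε (u + v) = be D ε u + be D ε v := by
  simp only [be, xx_add, nn_add]; ring

theorem ga_add (u v : K6m → F) : ga D (u + v) = ga D u + ga D v := by
  simp only [ga, Pi.add_apply, map_add]; ring

theorem al_smul (c : F) (v : K6m → F) : al D (c • v) = D.emb c * al D v := by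
  simp only [al, xx_smul, nn_smul]; ring

theorem be_smul (c : F) (v : K6m → F) : be D ε (c • v) = D.emb c * be D ε v := by
  simp only [be, xx_smul, nn_smul]; ring

theorem ga_smul (c : F) (v : K6m → F) : ga D (c • v) = D.emb c * ga D v := by
  simp only [ga, Pi.smul_apply, smul_eq_mul, map_mul]; ring

theorem Psi_add (u v : K6m → F) : Psi D ε (u + v) = Psi D ε u + Psi D ε v := by
  ext k
  rcases k with k | k <;> fin_cases k <;> simp [Psi, al_add, be_add, ga_add]

theorem Psi_smul (c : F) (v : K6m → F) : Psi D ε (c • v) = D.emb c • Psi D ε v := by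
  ext k
  rcases k with k | k <;> fin_cases k <;> simp [Psi, al_smul, be_smul, ga_smul, D.hσemb]

theorem Psi_injective (hε : ε * D.σ ε = -1) : Function.Injective (Psi D ε) := by
  intro u v huv
  have hε0 : ε ≠ 0 := by
    rintro rfl
    rw [zero_mul] at hε
    exact zero_ne_one (neg_eq_zero.1 hε.symm).symm
  have h0 := congrFun huv (.inl 0)
  have h1 := congrFun huv (.inl 1)
  have h2 := congrFun huv (.inl 2)
  simp only [Psi, Sum.elim_inl, Matrix.cons_val_zero, Matrix.cons_val_one, Matrix.cons_val_two,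
    Matrix.cons_val_fin_one, Matrix.cons_val] at h0 h1 h2
  have h1' : xx D u + D.σ D.t * nn D u / dd D = xx D v + D.σ D.t * nn D v / dd D :=
    mul_left_cancel₀ hε0 h1
  have hd := dd_ne D
  have hne := D.sub_ne
  have hn : nn D u = nn D v := by
    have h3 : (D.t - D.σ D.t) * (nn D u - nn D v) / dd D = 0 := by
      unfold al at h0
      linear_combination h0 - h1'
    rw [div_eq_zero_iff] at h3
    rcases h3 with h3 | h3
    · rcases mul_eq_zero.1 h3 with h4 | h4
      · exact absurd h4 hne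
      · exact sub_eq_zero.1 h4
    · exact absurd h3 hd
  have hx : xx D u = xx D v := by
    unfold al at h0
    rw [hn] at h0
    exact add_right_cancel h0
  obtain ⟨e1, e2⟩ := lin_indep D hx
  have hn' : D.emb (-(u (.inl (.inr 1)))) + D.emb (u (.inl (.inr 0))) * D.t =
      D.emb (-(v (.inl (.inr 1)))) + D.emb (v (.inl (.inr 0))) * D.t := by
    unfold nn at hn
    rw [map_neg, map_neg]
    linear_combination hn
  obtain ⟨e3, e4⟩ := lin_indep D hn'
  obtain ⟨e5, e6⟩ := lin_indep D h2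
  ext k
  rcases k with (k | k) | k <;> fin_cases k
  · exact e1
  · exact e2
  · exact e4
  · exact neg_injective e3
  · exact e5
  · exact e6

theorem exists_of_tau [Fintype F] [Fintype K] {q : ℕ} (hF : Fintype.card F = q)
    (hK : Fintype.card K = q ^ 2) (hε : ε * D.σ ε = -1) {w : K6 → K} (hw : tau D.σ w = w) :
    ∃ v, Psi D ε v = w := by
  classical
  let f : (K6m → F) → {w : K6 → K // tau D.σ w = w} := fun v => ⟨Psi D ε v, tau_Psi D ε v⟩
  have hf : Function.Injective f := by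
    intro u v huv
    exact Psi_injective D ε hε (congrArg Subtype.val huv)
  let h : {w : K6 → K // tau D.σ w = w} → (Fin 3 → K) := fun w i => w.1 (.inl i)
  have hh : Function.Injective h := by
    intro w₁ w₂ h12
    apply Subtype.ext
    ext k
    rcases k with k | k
    · exact congrFun h12 k
    · have e1 := congrFun w₁.2 (.inr k)
      have e2 := congrFun w₂.2 (.inr k)
      simp only [tau, Sum.swap_inr] at e1 e2
      rw [← e1, ← e2]
      exact congrArg D.σ (congrFun h12 k)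
  have hcard : Nat.card {w : K6 → K // tau D.σ w = w} ≤ Nat.card (K6m → F) := by
    calc Nat.card {w : K6 → K // tau D.σ w = w} ≤ Nat.card (Fin 3 → K) :=
          Nat.card_le_card_of_injective h hh
      _ = Nat.card (K6m → F) := by
          rw [Nat.card_eq_fintype_card, Nat.card_eq_fintype_card, Fintype.card_fun,
            Fintype.card_fun, hK, hF]
          simp only [Fintype.card_fin, Fintype.card_sum]
          ring
  have hbij := Function.Injective.bijective_of_nat_card_le hf hcard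
  obtain ⟨v, hv⟩ := hbij.2 ⟨w, hw⟩
  exact ⟨v, congrArg Subtype.val hv⟩

end psi

/-- the full data for the unitary construction -/
structure UData (F K : Type*) [Field F] [Field K] (a b : F) (q : ℕ) extends QData F K a b where
  /-- an element of norm `-1` -/
  ε : K
  hε : ε * σ ε = -1
  hσq : ∀ x, σ x = x ^ q
  surj : ∀ w : K6 → K, tau σ w = w → ∃ v, Psi toQData ε v = w

namespace UData

variable {q : ℕ} (U : UData F K a b q)

/-- the embedding -/
def psi (v : K6m → F) : K6 → K := Psi U.toQData U.ε v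

theorem psi_injective : Function.Injective U.psi := Psi_injective U.toQData U.ε U.hε

theorem psi_add (u v : K6m → F) : U.psi (u + v) = U.psi u + U.psi v := Psi_add _ _ u v

theorem psi_smul (c : F) (v : K6m → F) : U.psi (c • v) = U.emb c • U.psi v := Psi_smul _ _ c v

theorem tau_psi (v : K6m → F) : tau U.σ (U.psi v) = U.psi v := tau_Psi _ _ v

theorem plus_psi (v : K6m → F) :
    Cfsg.quadFormPlus 3 K (U.psi v) = U.emb (Cfsg.quadFormMinus 2 F a b v) :=
  plus_Psi _ _ U.hε v

/-- coordinates of a fixed vector -/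
noncomputable def back (w : K6 → K) : K6m → F :=
  open Classical in if h : ∃ v, U.psi v = w then h.choose else 0

theorem psi_back {w : K6 → K} (hw : tau U.σ w = w) : U.psi (U.back w) = w := by
  have h : ∃ v, U.psi v = w := U.surj w hw
  unfold back
  rw [dif_pos h]
  exact h.choose_spec

theorem isU_of_mem (g : Cfsg.SU 4 K q) : g.1.1ᵀ * g.1.1.map U.σ = 1 :=
  (Cfsg.Agent.Helper11.Herm.mem_SU_iff_isU U.σ U.hσq 4 g.1).1 g.2

theorem tau_rho_psi (g : Cfsg.SU 4 K q) (v : K6m → F) :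
    tau U.σ (rho g.1 (U.psi v)) = rho g.1 (U.psi v) := by
  rw [tau_rho U.σ g.1 (U.isU_of_mem g), tau_psi]

/-- the action on coordinates -/
noncomputable def rhoU (g : Cfsg.SU 4 K q) : (K6m → F) →ₗ[F] (K6m → F) where
  toFun v := U.back (rho g.1 (U.psi v))
  map_add' u v := by
    have key : ∀ w, U.psi (U.back (rho g.1 (U.psi w))) = rho g.1 (U.psi w) :=
      fun w => U.psi_back (U.tau_rho_psi g w)
    apply U.psi_injective
    rw [key, U.psi_add (U.back _) (U.back _), key, key, U.psi_add, map_add]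
  map_smul' c v := by
    have key : ∀ w, U.psi (U.back (rho g.1 (U.psi w))) = rho g.1 (U.psi w) :=
      fun w => U.psi_back (U.tau_rho_psi g w)
    apply U.psi_injective
    rw [RingHom.id_apply, key, U.psi_smul c (U.back _), key, U.psi_smul, map_smul]

theorem psi_rhoU (g : Cfsg.SU 4 K q) (v : K6m → F) : U.psi (U.rhoU g v) = rho g.1 (U.psi v) :=
  U.psi_back (U.tau_rho_psi g v)

theorem rhoU_one (v : K6m → F) : U.rhoU 1 v = v := by
  apply U.psi_injective
  rw [psi_rhoU]
  exact rho_one _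

theorem rhoU_mul (g h : Cfsg.SU 4 K q) (v : K6m → F) :
    U.rhoU (g * h) v = U.rhoU g (U.rhoU h v) := by
  apply U.psi_injective
  rw [psi_rhoU, psi_rhoU, psi_rhoU]
  exact rho_mul _ _ _

theorem quadFormMinus_rhoU (g : Cfsg.SU 4 K q) (v : K6m → F) :
    Cfsg.quadFormMinus 2 F a b (U.rhoU g v) = Cfsg.quadFormMinus 2 F a b v := by
  apply U.emb_injective
  rw [← plus_psi, ← plus_psi, psi_rhoU, quadFormPlus_rho]

/-- the homomorphism `SU₄(K) → O⁻₆(F)` -/
theorem exists_hom (Q : (K6m → F) → F) (hQ : ∀ v, Q v = Cfsg.quadFormMinus 2 F a b v) :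
    ∃ φ : Cfsg.SU 4 K q →* Cfsg.isometryGroup F Q,
    ∀ g w, ((φ g : GL K6m F) : Matrix K6m K6m F) *ᵥ w = U.rhoU g w := by
  obtain ⟨φ, hφ⟩ := Cfsg.Agent.Helper13.exists_hom_isometry (fun g : Cfsg.SU 4 K q => U.rhoU g)
    U.rhoU_one U.rhoU_mul (LinearEquiv.refl F (K6m → F)) Q (fun g v => by
      show Q (U.rhoU g v) = Q v
      rw [hQ, hQ, quadFormMinus_rhoU])
  exact ⟨φ, fun g w => hφ g w⟩

theorem tau_add (σ : K →+* K) (w w' : K6 → K) : tau σ (w + w') = tau σ w + tau σ w' := by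
  ext k; simp [tau]

theorem tau_sub (σ : K →+* K) (w w' : K6 → K) : tau σ (w - w') = tau σ w - tau σ w' := by
  ext k; simp [tau]

theorem tau_smul (σ : K →+* K) (c : K) (w : K6 → K) : tau σ (c • w) = σ c • tau σ w := by
  ext k; simp [tau]

theorem tau_tau (w : K6 → K) : tau U.σ (tau U.σ w) = w := by
  ext k; simp [tau, U.hσσ]

/-- every vector is a combination of two fixed vectors -/
theorem exists_decomp (w : K6 → K) :
    ∃ v₁ v₂ : K6m → F, w = U.psi v₁ + U.t • U.psi v₂ := by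
  have hne := U.sub_ne
  have hne' : U.σ U.t - U.t ≠ 0 := sub_ne_zero.2 U.htne
  set w₂ : K6 → K := (U.t - U.σ U.t)⁻¹ • (w - tau U.σ w) with hw₂
  set w₁ : K6 → K := w - U.t • w₂ with hw₁
  have hinv : U.σ ((U.t - U.σ U.t)⁻¹) = -(U.t - U.σ U.t)⁻¹ := by
    rw [map_inv₀, map_sub, U.hσσ, ← neg_sub, neg_inv]
  have h2 : tau U.σ w₂ = w₂ := by
    rw [hw₂, tau_smul, tau_sub, tau_tau, hinv, neg_smul, ← smul_neg, neg_sub]
  have h1 : tau U.σ w₁ = w₁ := by
    rw [hw₁, tau_sub, tau_smul, h2]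
    have h3 : (U.t - U.σ U.t) • w₂ = w - tau U.σ w := by
      rw [hw₂, smul_smul, mul_inv_cancel₀ hne, one_smul]
    have h4 : U.t • w₂ - U.σ U.t • w₂ = w - tau U.σ w := by rw [← sub_smul, h3]
    have h5 : tau U.σ w = w - (U.t • w₂ - U.σ U.t • w₂) := by rw [h4]; abel
    rw [h5]; abel
  obtain ⟨v₁, hv₁⟩ := U.surj w₁ h1
  obtain ⟨v₂, hv₂⟩ := U.surj w₂ h2
  refine ⟨v₁, v₂, ?_⟩
  show w = Psi U.toQData U.ε v₁ + U.t • Psi U.toQData U.ε v₂
  rw [hv₁, hv₂, hw₁]
  abel

section hom
variable {Q : (K6m → F) → F} (φ : Cfsg.SU 4 K q →* Cfsg.isometryGroup F Q)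
  (hφ : ∀ g w, ((φ g : GL K6m F) : Matrix K6m K6m F) *ᵥ w = U.rhoU g w)

include hφ

theorem coe_eq_one_or_neg_one_of_mem_ker {g : Cfsg.SU 4 K q} (hg : φ g = 1) :
    g.1.1 = 1 ∨ g.1.1 = -1 := by
  have h1 : ∀ v, U.rhoU g v = v := by
    intro v
    have := hφ g v
    rw [hg] at this
    simpa using this.symm
  have h2 : ∀ v, rho g.1 (U.psi v) = U.psi v := fun v => by rw [← psi_rhoU, h1]
  have h3 : ∀ w : K6 → K, rho g.1 w = w := by
    intro w
    obtain ⟨v₁, v₂, rfl⟩ := U.exists_decomp w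
    rw [map_add, map_smul, h2, h2]
  apply eq_one_or_neg_one_of_fix g.1
  intro w
  have := h3 w
  rw [rho_apply] at this
  rw [← toAlt_coords _ (isAlt_conj g.1.1 _ (isAlt_toAlt w)), this]

theorem ker_le_center : φ.ker ≤ Subgroup.center (Cfsg.SU 4 K q) := by
  intro g hg
  rw [Subgroup.mem_center_iff]
  intro x
  apply Subtype.ext
  apply Subtype.ext
  show x.1.1 * g.1.1 = g.1.1 * x.1.1
  rcases U.coe_eq_one_or_neg_one_of_mem_ker φ hφ (MonoidHom.mem_ker.1 hg) with h | h <;>
    rw [h] <;> simp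

theorem card_ker_le [Finite K] : Nat.card φ.ker ≤ 2 := by
  classical
  have hinj : Function.Injective (fun g : φ.ker => (g.1.1.1 : Matrix (Fin 4) (Fin 4) K)) := by
    intro x y hxy
    exact Subtype.ext (Subtype.ext (Subtype.ext hxy))
  have hsub : Set.range (fun g : φ.ker => (g.1.1.1 : Matrix (Fin 4) (Fin 4) K)) ⊆
      (({1, -1} : Finset (Matrix (Fin 4) (Fin 4) K)) : Set (Matrix (Fin 4) (Fin 4) K)) := by
    rintro _ ⟨g, rfl⟩
    rcases U.coe_eq_one_or_neg_one_of_mem_ker φ hφ (MonoidHom.mem_ker.1 g.2) with h | h <;>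
      simp [h]
  calc Nat.card φ.ker = Nat.card (Set.range (fun g : φ.ker => (g.1.1.1 : Matrix (Fin 4) (Fin 4) K))) :=
        (Nat.card_range_of_injective hinj).symm
    _ = (Set.range (fun g : φ.ker => (g.1.1.1 : Matrix (Fin 4) (Fin 4) K))).ncard :=
        Nat.card_coe_set_eq _
    _ ≤ (({1, -1} : Finset (Matrix (Fin 4) (Fin 4) K)) : Set (Matrix (Fin 4) (Fin 4) K)).ncard :=
        Set.ncard_le_ncard hsub (Finset.finite_toSet _)
    _ = ({1, -1} : Finset (Matrix (Fin 4) (Fin 4) K)).card := Set.ncard_coe_finset _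
    _ ≤ 2 := Finset.card_le_two

theorem card_ker_eq_one (h2 : (2 : F) = 0) : Nat.card φ.ker = 1 := by
  rw [Subgroup.card_eq_one, eq_bot_iff]
  intro g hg
  rw [Subgroup.mem_bot]
  apply Subtype.ext
  apply Subtype.ext
  have h2K : (2 : K) = 0 := by
    have h3 := congrArg U.emb h2
    rw [map_ofNat, map_zero] at h3
    exact h3
  have hneg : (-1 : Matrix (Fin 4) (Fin 4) K) = 1 := by
    ext i k
    have : (-1 : K) = 1 := by linear_combination (-1 : K) * h2K
    by_cases hik : i = k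
    · subst hik; simp [this]
    · simp [hik]
  rcases U.coe_eq_one_or_neg_one_of_mem_ker φ hφ (MonoidHom.mem_ker.1 hg) with h | h
  · rw [h]; rfl
  · rw [h, hneg]; rfl

theorem mem_center_of_comm (hperf : commutator (Cfsg.SU 4 K q) = ⊤) {g : Cfsg.SU 4 K q}
    (hg : ∀ x : Cfsg.SU 4 K q, φ g * φ x = φ x * φ g) :
    g ∈ Subgroup.center (Cfsg.SU 4 K q) := by
  apply Cfsg.Agent.Helper2.Exc.mem_center_of_perfect hperf φ.rangeRestrict
  · rw [MonoidHom.ker_rangeRestrict]
    exact U.ker_le_center φ hφ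
  · rw [Subgroup.mem_center_iff]
    rintro ⟨_, x, rfl⟩
    apply Subtype.ext
    exact (hg x).symm

end hom

end UData

/-- the quadratic extension data exist, with the conjugation the `q`-th power map -/
theorem exists_qdata_pow [Fintype F] [Fintype K] {q : ℕ} (hF : Fintype.card F = q)
    (hK : Fintype.card K = q ^ 2) (a b : F)
    (hab : ∀ z₁ z₂ : F, z₁ ^ 2 + a * z₁ * z₂ + b * z₂ ^ 2 = 0 → z₁ = 0 ∧ z₂ = 0) :
    ∃ D : QData F K a b, ∀ x, D.σ x = x ^ q := by
  obtain ⟨emb, σ, hσ, hσσ, hσemb, hfix, -⟩ := Cfsg.Agent.Helper17.exists_quadExt_data hK hF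
  have hab' : ∀ z : F, z ^ 2 + (-a) * z + b ≠ 0 := by
    intro z hz
    have := hab (-z) 1 (by linear_combination hz)
    exact one_ne_zero this.2
  obtain ⟨t, ht⟩ := Cfsg.Agent.Helper17.exists_root_quadratic hK hF emb (-a) b hab'
  rw [map_neg] at ht
  have htne : σ t ≠ t := by
    intro h
    obtain ⟨c, rfl⟩ := hfix t h
    apply hab' c
    apply emb.injective
    rw [map_add, map_add, map_mul, map_pow, map_neg, map_zero]
    exact ht
  have ht' : σ t ^ 2 + -emb a * σ t + emb b = 0 := by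
    have := congrArg σ ht
    rw [map_add, map_add, map_mul, map_pow, map_neg, hσemb, hσemb, map_zero] at this
    exact this
  have hne : t - σ t ≠ 0 := sub_ne_zero.2 (Ne.symm htne)
  have ht1 : t + σ t = emb a := by
    have : (t - σ t) * (t + σ t - emb a) = 0 := by linear_combination ht - ht'
    rcases mul_eq_zero.1 this with h | h
    · exact absurd h hne
    · exact sub_eq_zero.1 h
  have ht2 : t * σ t = emb b := by
    have : σ t = emb a - t := by linear_combination ht1
    rw [this]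
    linear_combination (-1 : K) * ht
  exact ⟨⟨emb, σ, t, hσσ, hσemb, hfix, ht1, ht2, htne⟩, hσ⟩

/-- the full data exist -/
theorem nonempty_udata [Fintype F] [Fintype K] {q : ℕ} (hF : Fintype.card F = q)
    (hK : Fintype.card K = q ^ 2) (a b : F)
    (hab : ∀ z₁ z₂ : F, z₁ ^ 2 + a * z₁ * z₂ + b * z₂ ^ 2 = 0 → z₁ = 0 ∧ z₂ = 0) :
    Nonempty (UData F K a b q) := by
  obtain ⟨D, hσq⟩ := exists_qdata_pow hF hK a b hab
  obtain ⟨ε, hε⟩ := Cfsg.Agent.Helper17.exists_norm_eq hK hF D.emb (-1)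
  have hε' : ε * D.σ ε = -1 := by
    rw [hσq, hε, map_neg, map_one]
  exact ⟨⟨D, ε, hε', hσq, fun w hw => exists_of_tau D ε hF hK hε' hw⟩⟩

open Cfsg.Agent.Helper11 Cfsg.Agent.Helper11.Herm in
/-- `SU₄(q)` is perfect -/
theorem commutator_SU4_eq_top [Fintype K] {q : ℕ} (hK : Fintype.card K = q ^ 2) :
    commutator (Cfsg.SU 4 K q) = ⊤ := by
  obtain ⟨φ, hφ⟩ := exists_frob hK
  have hφφ := frob_frob hK φ hφ
  have hN1 := frob_norm_surj hK φ hφ
  have hN2 := frob_trace_ne_zero hK φ hφ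
  have hφid := frob_ne_id hK φ hφ
  have hcase : 4 ≤ Fintype.card (Fin 4) ∨ ∃ w : K, φ w = w ∧ w ≠ 0 ∧ w ≠ 1 :=
    Or.inl (by simp)
  have hSU : Cfsg.SU 4 K q = SUg (Fin 4) φ := by
    ext g
    rw [mem_SU_iff_isU φ hφ, mem_SUg_iff]
  have hgen : ∀ M : Matrix (Fin 4) (Fin 4) K, IsU φ M → M.det = 1 → M ∈ TM φ :=
    fun M hM hd => mem_TM_of_isU_of_det φ hφid hφφ hN1 hcase ⟨0, by omega⟩ M hM hd
  have := commutator_SUg_eq_top φ hφid hφφ hN1 hN2 (by simp) hgen
  rw [hSU]
  exact this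

end Cfsg.Agent.Helper2.ExcM6
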