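import Mathlib
import Cfsg.Agent.Lib.Helper12.F4CDefs
import Cfsg.Agent.Lib.Lead.TwClsAutPar
import Cfsg.Agent.Lib.Lead.TwReeCount

/-!
# S2369 piece YF2: a diagonal conjugate of `Z4(a) U5(t) Z6(c)` is a product of root elements on the same six roots
-/

set_option autoImplicit false
set_option linter.unusedSectionVars false
set_option linter.unusedSimpArgs false
set_option linter.unusedVariables false

namespace Cfsg.Agent.Helper12.F4C

open Cfsg Cfsg.Lie Cfsg.Agent.Lead.Chev Cfsg.Agent.Lead.Tw Cfsg.Agent.Helper11.F4I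

section yf2aux

variable {K : Type*} [Field K]

theorem yf2_conj_mul {G : Type*} [Group G] (d x y : G) : d * (x * y) * d⁻¹ = (d * x * d⁻¹) * (d * y * d⁻¹) := by
  group

theorem yf2_shape (f : K ≃+* K) (a t c : K) :
    NF f 0 0 0 0 0 a t 0 c 0 0 0 =
      X 44 a * (X 47 ((f a) ^ 2) * (X 39 (f t) * (X 45 t * (X 40 c * X 46 ((f c) ^ 2))))) := by
  simp only [NF, U1_zero, U2_zero, U3_zero, U7_zero, U8_zero, one_mul, mul_one, U4, U5, U6, UB, UP, map_zero,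
    X_zero, zero_mul, zero_add, mul_assoc]

theorem yf2_diag (d : GL chevF4.Idx K) (hd : d ∈ chevF4.diagonalSubgroup K) (s : ℕ) (hs : s < chevF4.nroots)
    (x : K) : ∃ e : K, d * X s x * d⁻¹ = X s e := by
  obtain ⟨c, -, hc⟩ := (F4.hF (K := K)).diagonal_conj_xGL d hd s hs
  exact ⟨c * x, hc x⟩

end yf2aux

variable {K : Type*} [Field K] [Fintype K] [CharP K 2] {m : ℕ} (hK : Fintype.card K = 2 ^ (2 * m + 1))
  (hperf : ∀ x : K, ∃ y : K, y ^ 2 = x) (f : K ≃+* K) (hf : ∀ t, f t = t ^ (2 ^ m))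
include hK hperf hf

/-- PIECE YF2: a diagonal conjugate of the shape `Z4(a) U5(t) Z6(c)` is a product of root elements on the same six
roots -/
theorem yshape_diag (d : GL chevF4.Idx K) (hd : d ∈ chevF4.diagonalSubgroup K) (a t c : K) :
    ∃ e1 e2 e3 e4 e5 e6 : K, d * NF f 0 0 0 0 0 a t 0 c 0 0 0 * d⁻¹ =
      X 44 e1 * (X 47 e2 * (X 39 e3 * (X 45 e4 * (X 40 e5 * X 46 e6)))) := by
  obtain ⟨e1, h1⟩ := yf2_diag d hd 44 (by decide) a
  obtain ⟨e2, h2⟩ := yf2_diag d hd 47 (by decide) ((f a) ^ 2)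
  obtain ⟨e3, h3⟩ := yf2_diag d hd 39 (by decide) (f t)
  obtain ⟨e4, h4⟩ := yf2_diag d hd 45 (by decide) t
  obtain ⟨e5, h5⟩ := yf2_diag d hd 40 (by decide) c
  obtain ⟨e6, h6⟩ := yf2_diag d hd 46 (by decide) ((f c) ^ 2)
  refine ⟨e1, e2, e3, e4, e5, e6, ?_⟩
  rw [yf2_shape, yf2_conj_mul, yf2_conj_mul, yf2_conj_mul, yf2_conj_mul, yf2_conj_mul, h1, h2, h3, h4, h5, h6]

end Cfsg.Agent.Helper12.F4C
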