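import Mathlib
import Cfsg.Agent.Lib.Helper11.F4IE7
import Cfsg.Agent.Lib.Helper9.TitsSyl.Main

/-!
# S2184, piece TITS (for helper11), core: the Tits group has exactly two classes of involutions, given
the two MAIN statements (`class_reps`, `reps_not_conj`) for `K = ZMod 2`, `m = 0` as hypotheses.
-/

set_option autoImplicit false
set_option linter.unusedSectionVars false
set_option linter.unusedSimpArgs false
set_option linter.unusedVariables false

namespace Cfsg.Agent.Helper11.F4I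

open Cfsg Cfsg.Lie Cfsg.Agent.Lead.Chev Cfsg.Agent.Lead.Tw
open Cfsg.Agent.Helper9 Cfsg.Agent.Helper9.TitsBM Cfsg.Agent.Helper9.TitsMat
  Cfsg.Agent.Helper9.TitsDerived

/-! ### the set-up over `ZMod 2` -/

theorem tits_hK : Fintype.card (ZMod 2) = 2 ^ (2 * 0 + 1) := by
  rw [ZMod.card]
  norm_num

theorem tits_hperf : ∀ x : ZMod 2, ∃ y : ZMod 2, y ^ 2 = x := by decide

/-- the field automorphism `θ` of `ZMod 2` -/
def tits_f : ZMod 2 ≃+* ZMod 2 := RingEquiv.refl (ZMod 2)

theorem tits_f_apply (t : ZMod 2) : tits_f t = t := rfl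

theorem tits_hf : ∀ t : ZMod 2, tits_f t = t ^ (2 ^ 0) := by
  intro t
  rw [tits_f_apply, pow_zero, pow_one]

theorem tits_hff (x : ZMod 2) : (tits_f (tits_f x)) ^ 2 = x := hff tits_hK tits_f tits_hf x

/-! ### the elements -/

/-- the representative of the central class, in `²F₄(2)` -/
noncomputable def tits_zG : G2 := ⟨U8 tits_f 0 1, U8_mem (m := 0) tits_f tits_hf 0 1⟩

/-- the representative of the other class, in `²F₄(2)` -/
noncomputable def tits_yG : G2 := ⟨U1 tits_f 1, U1_mem (m := 0) tits_f tits_hf 1⟩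

/-- an element of order 4 centralizing `tits_zG` -/
noncomputable def tits_cz : G2 := ⟨U8 tits_f 1 0, U8_mem (m := 0) tits_f tits_hf 1 0⟩

/-- an element of order 4 centralizing `tits_yG` -/
noncomputable def tits_cy : G2 :=
  ⟨U2 tits_f 1 0, U2_mem (m := 0) tits_hK tits_hperf tits_f tits_hf 1 0⟩

/-- the Weyl element `na`, in `²F₄(2)` -/
noncomputable def tits_na : G2 := ⟨na, na_mem (m := 0) tits_hK tits_hperf tits_f tits_hf⟩

/-! ### `U8 1 0` is not in the derived subgroup -/

theorem tits_pi_ne : TitsSyl.piQ (TitsSyl.genG 1) ≠ 1 := by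
  intro h
  have hS : TitsSyl.S ≤ commutator G2 := by
    intro s hs
    obtain ⟨i, _, _, _, hpi⟩ := TitsSyl.mem_S_cases s hs
    rw [TitsSyl.mem_comm_iff, hpi, h, one_pow]
  have hdvd := Subgroup.card_dvd_of_le hS
  rw [TitsSyl.card_S, card_commutator] at hdvd
  norm_num at hdvd

theorem tits_FR_unit (j : Fin 8) (r : ℕ) (hr : r ∈ roots12) (hj : TitsSyl.rootsP.getD j.val 0 = r) :
    TitsSyl.FR.unit j = X r (1 : ZMod 2) := by
  apply Units.ext
  rw [Fam.unit_val]
  show toMat (XR (TitsSyl.rootsP.getD j.val 0) 1) = _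
  rw [hj, ← x_eq r hr 1]
  rfl

theorem tits_genG1_val :
    ((TitsSyl.genG 1 : G2) : GL chevF4.Idx (ZMod 2)) = U8 tits_f 1 0 := by
  rw [TitsSyl.genG_val]
  have e : TitsSyl.FS.unit 1 =
      FreeGroup.lift TitsSyl.FR.unit (FreeGroup.mk (TitsSyl.wordS 1)) := by
    apply Units.ext
    rw [Fam.lift_mk, Fam.unit_val, TitsSyl.ev_wordS 1]
  rw [e]
  have hw : (FreeGroup.mk (TitsSyl.wordS 1) : FreeGroup (Fin 8)) =
      FreeGroup.of 2 * (FreeGroup.of 3 * FreeGroup.of 4) := rfl
  rw [hw, map_mul, map_mul, FreeGroup.lift_apply_of, FreeGroup.lift_apply_of,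
    FreeGroup.lift_apply_of]
  rw [tits_FR_unit 2 27 (by decide) rfl, tits_FR_unit 3 25 (by decide) rfl,
    tits_FR_unit 4 28 (by decide) rfl]
  unfold U8 UB
  have h1 : tits_f (1 : ZMod 2) = 1 := rfl
  have h0 : tits_f (0 : ZMod 2) = 0 := rfl
  rw [h1, h0]
  have e2 : ((1 : ZMod 2) * 1 + 0) = 1 := by decide
  have e3 : ((0 : ZMod 2)) ^ 2 = 0 := by decide
  rw [e2, e3, X_zero, mul_one]

theorem tits_cz_eq : tits_cz = TitsSyl.genG 1 := by
  apply Subtype.ext
  exact tits_genG1_val.symm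

theorem tits_pi_cz : TitsSyl.piQ tits_cz ≠ 1 := by
  rw [tits_cz_eq]
  exact tits_pi_ne

theorem tits_cy_eq : tits_cy = tits_na * tits_cz * tits_na⁻¹ := by
  apply Subtype.ext
  show U2 tits_f 1 0 = na * U8 tits_f 1 0 * (na : GL chevF4.Idx (ZMod 2))⁻¹
  exact (na_U8 tits_f 1 0).symm

theorem tits_pi_cy : TitsSyl.piQ tits_cy ≠ 1 := by
  rw [tits_cy_eq, map_mul, map_mul, map_inv, mul_comm (TitsSyl.piQ tits_na), mul_assoc,
    mul_inv_cancel, mul_one]
  exact tits_pi_cz

theorem tits_not_mem_cz : tits_cz ∉ commutator G2 := fun h =>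
  tits_pi_cz ((TitsSyl.mem_comm_iff _).1 h)

theorem tits_not_mem_cy : tits_cy ∉ commutator G2 := fun h =>
  tits_pi_cy ((TitsSyl.mem_comm_iff _).1 h)

/-- index two: the product of two elements outside the derived subgroup lies inside -/
theorem tits_mul_mem {a b : G2} (ha : a ∉ commutator G2) (hb : b ∉ commutator G2) :
    a * b ∈ commutator G2 := by
  rw [TitsSyl.mem_comm_iff] at ha hb ⊢
  rw [map_mul]
  have hcard : Nat.card (Abelianization G2) = 2 := TitsSyl.card_Q
  have : Finite (Abelianization G2) := Nat.finite_of_card_ne_zero (by rw [hcard]; norm_num)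
  have hab : TitsSyl.piQ a = TitsSyl.piQ b := by
    by_contra hne
    have h3 : (3 : ℕ) ≤ Nat.card (Abelianization G2) := by
      have hinj : Function.Injective (![1, TitsSyl.piQ a, TitsSyl.piQ b] : Fin 3 → Abelianization G2) := by
        intro i j hij
        fin_cases i <;> fin_cases j <;> simp_all
      have := Nat.card_le_card_of_injective _ hinj
      simpa using this
    omega
  rw [hab]
  exact TitsSyl.sq_Q _

/-! ### centralizing -/

theorem tits_U8_congr {a b c d : ZMod 2} (h1 : a = c) (h2 : b = d) :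
    U8 tits_f a b = U8 tits_f c d := by rw [h1, h2]

theorem tits_U1_congr {a c : ZMod 2} (h1 : a = c) : U1 tits_f a = U1 tits_f c := by rw [h1]

theorem tits_comm_z : tits_cz * tits_zG = tits_zG * tits_cz := by
  apply Subtype.ext
  show U8 tits_f 1 0 * U8 tits_f 0 1 = U8 tits_f 0 1 * U8 tits_f 1 0
  rw [U8_mul tits_f tits_hff, U8_mul tits_f tits_hff]
  exact tits_U8_congr (by decide) (by decide)

theorem tits_comm_y : tits_cy * tits_yG = tits_yG * tits_cy := by
  apply Subtype.ext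
  show U2 tits_f 1 0 * U1 tits_f 1 = U1 tits_f 1 * U2 tits_f 1 0
  have hR : U1 tits_f 1 * U2 tits_f 1 0 = NF tits_f 1 1 0 0 0 0 0 0 0 0 0 0 := by
    unfold NF
    rw [U3_zero, U4_zero, U5_zero, U6_zero, U7_zero, U8_zero]
    simp only [mul_one]
  have hL : U2 tits_f 1 0 * U1 tits_f 1 = NF tits_f 1 1 0 0 0 0 0 0 0 0 0 0 := by
    rw [← NF_U2 tits_f 1 0, rmul_1 tits_f tits_hff]
    apply NF_congr tits_f <;> decide
  rw [hL, hR]

/-! ### the representatives are involutions -/

theorem tits_zG_sq : tits_zG * tits_zG = 1 := by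
  apply Subtype.ext
  show U8 tits_f 0 1 * U8 tits_f 0 1 = 1
  rw [U8_mul tits_f tits_hff, tits_U8_congr (c := 0) (d := 0) (by decide) (by decide), U8_zero]

theorem tits_yG_sq : tits_yG * tits_yG = 1 := by
  apply Subtype.ext
  show U1 tits_f 1 * U1 tits_f 1 = 1
  rw [U1_mul tits_f tits_hff, tits_U1_congr (c := 0) (by decide), U1_zero]

theorem tits_zG_ne : tits_zG ≠ 1 := by
  intro h
  have h0 : ((tits_zG : G2) : GL chevF4.Idx (ZMod 2)) = 1 := by rw [h, Subgroup.coe_one]
  have h1 : U8 tits_f 0 1 = 1 := h0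
  rw [← NF_U8 tits_f 0 1, ← NF_zero tits_f] at h1
  obtain ⟨-, -, -, -, -, -, -, -, -, -, -, h3⟩ := NF_inj tits_f tits_hff h1
  have h4 : (1 : ZMod 2) ≠ 0 := by decide
  exact h4 h3

theorem tits_yG_ne : tits_yG ≠ 1 := by
  intro h
  have h0 : ((tits_yG : G2) : GL chevF4.Idx (ZMod 2)) = 1 := by rw [h, Subgroup.coe_one]
  have h1 : U1 tits_f 1 = 1 := h0
  rw [← NF_U1 tits_f 1, ← NF_zero tits_f] at h1
  obtain ⟨h3, -⟩ := NF_inj tits_f tits_hff h1
  have h4 : (1 : ZMod 2) ≠ 0 := by decide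
  exact h4 h3

theorem tits_orderOf_two {G : Type*} [Group G] {g : G} (h2 : g * g = 1) (h1 : g ≠ 1) :
    orderOf g = 2 := by
  have : Fact (Nat.Prime 2) := ⟨Nat.prime_two⟩
  exact orderOf_eq_prime (by rw [pow_two]; exact h2) h1

theorem tits_sq_of_orderOf {G : Type*} [Group G] {g : G} (h : orderOf g = 2) :
    g * g = 1 ∧ g ≠ 1 := by
  constructor
  · have := pow_orderOf_eq_one g
    rwa [h, pow_two] at this
  · intro h1
    rw [h1, orderOf_one] at h
    norm_num at h

/-- the representatives, in the Tits group -/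
noncomputable def tits_zT : Cfsg.Lie.TitsGroup :=
  ⟨tits_zG, TitsSyl.involution_mem _ (tits_orderOf_two tits_zG_sq tits_zG_ne)⟩

noncomputable def tits_yT : Cfsg.Lie.TitsGroup :=
  ⟨tits_yG, TitsSyl.involution_mem _ (tits_orderOf_two tits_yG_sq tits_yG_ne)⟩

/-- Conjugacy in `²F₄(2)` with a representative centralized by an element outside the derived
subgroup gives conjugacy in the Tits group. -/
theorem tits_conj_in_T (g r : Cfsg.Lie.TitsGroup) (c : G2) (hc : c ∉ commutator G2)
    (hcr : c * (r : G2) = (r : G2) * c) (x : G2) (hx : x * (g : G2) * x⁻¹ = (r : G2)) :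
    IsConj g r := by
  by_cases hxT : x ∈ commutator G2
  · rw [isConj_iff]
    refine ⟨⟨x, hxT⟩, ?_⟩
    apply Subtype.ext
    exact hx
  · have hcx : c * x ∈ commutator G2 := tits_mul_mem hc hxT
    rw [isConj_iff]
    refine ⟨⟨c * x, hcx⟩, ?_⟩
    apply Subtype.ext
    show c * x * (g : G2) * (c * x)⁻¹ = (r : G2)
    calc c * x * (g : G2) * (c * x)⁻¹ = c * (x * (g : G2) * x⁻¹) * c⁻¹ := by group
      _ = c * (r : G2) * c⁻¹ := by rw [hx]
      _ = (r : G2) := by rw [hcr, mul_assoc, mul_inv_cancel, mul_one]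

/-- PIECE TITS, core: the two MAIN statements for `K = ZMod 2`, `m = 0` enter as hypotheses. -/
theorem tits_half_of
    (hreps : ∀ g : GL chevF4.Idx (ZMod 2), g ∈ twistedF4 (ZMod 2) (2 ^ 0) → g * g = 1 → g ≠ 1 →
      CJ (2 ^ 0) g (U8 tits_f 0 1) ∨ CJ (2 ^ 0) g (U1 tits_f 1))
    (hnc : ¬ CJ (2 ^ 0) (U8 tits_f 0 1) (U1 tits_f (1 : ZMod 2))) :
    (ConjClasses.mk '' {g : Cfsg.Lie.TitsGroup | orderOf g = 2}).ncard = 2 := by
  have hset : ConjClasses.mk '' {g : Cfsg.Lie.TitsGroup | orderOf g = 2} =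
      {ConjClasses.mk tits_zT, ConjClasses.mk tits_yT} := by
    apply Set.eq_of_subset_of_subset
    · rintro _ ⟨g, hg, rfl⟩
      have hg2 : orderOf g = 2 := hg
      obtain ⟨hsq, hne⟩ := tits_sq_of_orderOf hg2
      have hsqG : ((g : G2) : GL chevF4.Idx (ZMod 2)) * ((g : G2) : GL chevF4.Idx (ZMod 2)) = 1 := by
        have := congrArg (fun t : Cfsg.Lie.TitsGroup => ((t : G2) : GL chevF4.Idx (ZMod 2))) hsq
        simpa using this
      have hneG : ((g : G2) : GL chevF4.Idx (ZMod 2)) ≠ 1 := by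
        intro h
        apply hne
        apply Subtype.ext
        apply Subtype.ext
        exact h
      rcases hreps _ (g : G2).2 hsqG hneG with ⟨h, hh, hconj⟩ | ⟨h, hh, hconj⟩
      · have hh1 : h ∈ twistedF4 (ZMod 2) 1 := hh
        have hx : (⟨h, hh1⟩ : G2) * (g : G2) * (⟨h, hh1⟩ : G2)⁻¹ = tits_zG := Subtype.ext hconj
        have hc : IsConj g tits_zT :=
          tits_conj_in_T g tits_zT tits_cz tits_not_mem_cz tits_comm_z ⟨h, hh1⟩ hx
        rw [Set.mem_insert_iff]
        left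
        exact ConjClasses.mk_eq_mk_iff_isConj.2 hc
      · have hh1 : h ∈ twistedF4 (ZMod 2) 1 := hh
        have hx : (⟨h, hh1⟩ : G2) * (g : G2) * (⟨h, hh1⟩ : G2)⁻¹ = tits_yG := Subtype.ext hconj
        have hc : IsConj g tits_yT :=
          tits_conj_in_T g tits_yT tits_cy tits_not_mem_cy tits_comm_y ⟨h, hh1⟩ hx
        rw [Set.mem_insert_iff]
        right
        exact ConjClasses.mk_eq_mk_iff_isConj.2 hc
    · intro c hc
      rw [Set.mem_insert_iff, Set.mem_singleton_iff] at hc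
      rcases hc with rfl | rfl
      · refine ⟨tits_zT, ?_, rfl⟩
        apply tits_orderOf_two
        · apply Subtype.ext
          exact tits_zG_sq
        · intro h
          apply tits_zG_ne
          have h0 : ((tits_zT : Cfsg.Lie.TitsGroup) : G2) = 1 := by rw [h, Subgroup.coe_one]
          exact h0
      · refine ⟨tits_yT, ?_, rfl⟩
        apply tits_orderOf_two
        · apply Subtype.ext
          exact tits_yG_sq
        · intro h
          apply tits_yG_ne
          have h0 : ((tits_yT : Cfsg.Lie.TitsGroup) : G2) = 1 := by rw [h, Subgroup.coe_one]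
          exact h0
  rw [hset]
  apply Set.ncard_pair
  intro h
  rw [ConjClasses.mk_eq_mk_iff_isConj, isConj_iff] at h
  obtain ⟨t, ht⟩ := h
  apply hnc
  refine ⟨((t : G2) : GL chevF4.Idx (ZMod 2)), (t : G2).2, ?_⟩
  have := congrArg (fun s : Cfsg.Lie.TitsGroup => ((s : G2) : GL chevF4.Idx (ZMod 2))) ht
  simpa [tits_zT, tits_yT, tits_zG, tits_yG] using this

end Cfsg.Agent.Helper11.F4I
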