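import Mathlib
import Cfsg.Agent.Lib.Helper26.StemFrobC

/-!
# A Frobenius group `2^3 : 7` from a self-centralizing elementary abelian Sylow 2-subgroup of
order eight normalized by an element of order seven
-/

set_option autoImplicit false

namespace Cfsg.Agent.Helper2.FrobOf

open Cfsg.Agent.Helper26.StemFrob

variable {G : Type*} [Group G]

/-- conjugation by a power -/
def cj (z : G) (k : ℕ) (e : G) : G := z ^ k * e * (z ^ k)⁻¹

theorem cj_zero (z e : G) : cj z 0 e = e := by simp [cj]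

theorem cj_one (z e : G) : cj z 1 e = z * e * z⁻¹ := by simp [cj]

theorem cj_mul (z : G) (k : ℕ) (e e' : G) : cj z k (e * e') = cj z k e * cj z k e' := by
  unfold cj; group

theorem cj_add (z : G) (k l : ℕ) (e : G) : cj z (k + l) e = cj z k (cj z l e) := by
  unfold cj; rw [pow_add]; group

theorem cj_id (z : G) (k : ℕ) : cj z k 1 = 1 := by unfold cj; group

theorem cj_inj (z : G) (k : ℕ) {e e' : G} (h : cj z k e = cj z k e') : e = e' := by
  unfold cj at h
  exact mul_left_cancel (mul_right_cancel h)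

theorem cj_seven (z : G) (hz : z ^ 7 = 1) (e : G) : cj z 7 e = e := by
  unfold cj; rw [hz]; group

theorem cj_mod (z : G) (hz : z ^ 7 = 1) (k : ℕ) (e : G) : cj z k e = cj z (k % 7) e := by
  unfold cj
  rw [pow_eq_pow_mod k hz]

section main

variable [Finite G] (S : Subgroup G) (h8 : Nat.card S = 8) (hexp : ∀ x ∈ S, x * x = 1)
  (hC : ∀ g : G, (∀ s ∈ S, g * s = s * g) → g ∈ S) (z : G)
  (hzN : ∀ s, s ∈ S ↔ z * s * z⁻¹ ∈ S) (hz7 : orderOf z = 7)

omit [Finite G] in
include hexp in
theorem comm_S : ∀ x ∈ S, ∀ y ∈ S, x * y = y * x := by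
  intro x hx y hy
  have hxy := hexp (x * y) (S.mul_mem hx hy)
  have hx' : x⁻¹ = x := inv_eq_of_mul_eq_one_right (hexp x hx)
  have hy' : y⁻¹ = y := inv_eq_of_mul_eq_one_right (hexp y hy)
  have h3 : (x * y)⁻¹ = x * y := inv_eq_of_mul_eq_one_right hxy
  rw [mul_inv_rev, hx', hy'] at h3
  exact h3.symm

omit [Finite G] in
include hzN in
theorem cj_mem (k : ℕ) : ∀ e ∈ S, cj z k e ∈ S := by
  induction k with
  | zero => intro e he; rw [cj_zero]; exact he
  | succ k ih =>
    intro e he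
    rw [add_comm, cj_add, cj_one]
    exact (hzN _).1 (ih e he)

include h8 hexp hC hzN hz7 in
/-- the conjugation by `z` on `S` is a `7`-cycle fixing only the identity, and it is transitive
on the non-identity elements -/
theorem cycle_facts :
    (∀ e ∈ S, e ≠ 1 → z * e * z⁻¹ ≠ e) ∧
    (∀ e ∈ S, e ≠ 1 → ∀ e' ∈ S, e' ≠ 1 → ∃ i : ℕ, cj z i e = e') := by
  classical
  have : Fintype S := Fintype.ofFinite S
  have : Fact (Nat.Prime 7) := ⟨by norm_num⟩
  have hz7' : z ^ 7 = 1 := by rw [← hz7]; exact pow_orderOf_eq_one z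
  let π : Equiv.Perm S :=
    { toFun := fun s => ⟨z * s * z⁻¹, (hzN s).1 s.2⟩
      invFun := fun s => ⟨z⁻¹ * s * z, (hzN _).2 (by
        have : z * (z⁻¹ * (s : G) * z) * z⁻¹ = s := by group
        rw [this]; exact s.2)⟩
      left_inv := fun s => Subtype.ext (by show z⁻¹ * (z * (s : G) * z⁻¹) * z = s; group)
      right_inv := fun s => Subtype.ext (by show z * (z⁻¹ * (s : G) * z) * z⁻¹ = s; group) }
  have hπpow : ∀ (i : ℕ) (s : S), (((π ^ i) s : S) : G) = cj z i s := by
    intro i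
    induction i with
    | zero => intro s; rw [pow_zero, cj_zero]; rfl
    | succ i ih =>
      intro s
      rw [pow_succ', Equiv.Perm.mul_apply, add_comm, cj_add, cj_one, ← ih s]
      rfl
  have hπ7 : π ^ 7 = 1 := by
    ext s
    rw [hπpow, cj_seven z hz7']
    rfl
  have hπ1 : π ≠ 1 := by
    intro h
    have hzS : z ∈ S := by
      apply hC
      intro s hs
      have h1 : ((π ⟨s, hs⟩ : S) : G) = s := by rw [h]; rfl
      have h2 : z * s * z⁻¹ = s := h1
      calc z * s = (z * s * z⁻¹) * z := by group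
        _ = s * z := by rw [h2]
    have h2 : z ^ 2 = 1 := by rw [pow_two]; exact hexp z hzS
    have h3 := orderOf_dvd_of_pow_eq_one h2
    rw [hz7] at h3
    omega
  have hord : orderOf π = 7 := orderOf_eq_prime hπ7 hπ1
  have hprime : (orderOf π).Prime := by rw [hord]; norm_num
  obtain ⟨n, hn⟩ := Equiv.Perm.cycleType_prime_order hprime
  have hcard : Fintype.card S = 8 := by rw [← h8, Nat.card_eq_fintype_card]
  have hsum := Equiv.Perm.sum_cycleType_le π
  rw [hn, hord, Multiset.sum_replicate, hcard, smul_eq_mul] at hsum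
  have hn0 : n = 0 := by omega
  rw [hn0, hord] at hn
  have hcyc : π.IsCycle := by
    rw [← Equiv.Perm.card_cycleType_eq_one, hn]
    simp
  have hsupp : π.support.card = 7 := by
    rw [← Equiv.Perm.sum_cycleType, hn]
    simp
  have hone : π 1 = 1 := Subtype.ext (by show z * ((1 : S) : G) * z⁻¹ = ((1 : S) : G); simp)
  have hfpf : ∀ e ∈ S, e ≠ 1 → z * e * z⁻¹ ≠ e := by
    intro e he he1 hfix
    have hfix' : π ⟨e, he⟩ = ⟨e, he⟩ := Subtype.ext hfix
    have hsub : π.support ⊆ (Finset.univ.erase (1 : S)).erase ⟨e, he⟩ := by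
      intro s hs
      rw [Equiv.Perm.mem_support] at hs
      rw [Finset.mem_erase, Finset.mem_erase]
      refine ⟨?_, ?_, Finset.mem_univ _⟩
      · rintro rfl
        exact hs hfix'
      · rintro rfl
        exact hs hone
    have hc := Finset.card_le_card hsub
    have hne : (⟨e, he⟩ : S) ≠ 1 := by
      intro h
      exact he1 (congrArg Subtype.val h)
    rw [Finset.card_erase_of_mem (by
      rw [Finset.mem_erase]; exact ⟨hne, Finset.mem_univ _⟩),
      Finset.card_erase_of_mem (Finset.mem_univ _), Finset.card_univ, hcard, hsupp] at hc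
    omega
  refine ⟨hfpf, ?_⟩
  intro e he he1 e' he' he1'
  have hx : π ⟨e, he⟩ ≠ ⟨e, he⟩ := fun h => hfpf e he he1 (congrArg Subtype.val h)
  have hy : π ⟨e', he'⟩ ≠ ⟨e', he'⟩ := fun h => hfpf e' he' he1' (congrArg Subtype.val h)
  obtain ⟨i, hi⟩ := hcyc.exists_pow_eq hx hy
  refine ⟨i, ?_⟩
  have := hπpow i ⟨e, he⟩
  rw [hi] at this
  exact this.symm

include h8 hexp hC hzN hz7 in
/-- the Frobenius configuration -/
theorem exists_frob56 : ∃ e0 e1 e2 z' : G, Frob56 e0 e1 e2 z' := by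
  classical
  obtain ⟨hfpf, htrans⟩ := cycle_facts S h8 hexp hC z hzN hz7
  have hz7' : z ^ 7 = 1 := by rw [← hz7]; exact pow_orderOf_eq_one z
  have hcomm := comm_S S hexp
  have hmem := cj_mem S z hzN
  -- no power prime to seven fixes a non-identity element
  have hfpfk : ∀ e ∈ S, e ≠ 1 → ∀ k, ¬ 7 ∣ k → cj z k e ≠ e := by
    intro e he he1 k hk hfix
    have hcop : Nat.Coprime k (orderOf z) := by
      rw [hz7, Nat.coprime_comm]
      exact (Nat.Prime.coprime_iff_not_dvd (by norm_num)).2 hk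
    obtain ⟨j, hj⟩ := exists_pow_eq_self_of_coprime hcop
    have hc1 : z ^ k * e = e * z ^ k := by
      unfold cj at hfix
      calc z ^ k * e = (z ^ k * e * (z ^ k)⁻¹) * z ^ k := by group
        _ = e * z ^ k := by rw [hfix]
    have hc2 : z * e = e * z := by
      have h : Commute (z ^ k) e := hc1
      have := (h.pow_left j).eq
      rwa [hj] at this
    apply hfpf e he he1
    rw [hc2]; group
  -- a non-identity element
  obtain ⟨e0, he0, he01⟩ : ∃ e0 ∈ S, e0 ≠ 1 := by
    by_contra hcon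
    push Not at hcon
    have : S = ⊥ := by
      rw [Subgroup.eq_bot_iff_forall]
      exact hcon
    rw [this] at h8
    simp at h8
  obtain ⟨e1, he1def⟩ : ∃ e1, e1 = cj z 1 e0 := ⟨_, rfl⟩
  obtain ⟨e2, he2def⟩ : ∃ e2, e2 = cj z 2 e0 := ⟨_, rfl⟩
  have he1 : e1 ∈ S := by rw [he1def]; exact hmem 1 e0 he0
  have he2 : e2 ∈ S := by rw [he2def]; exact hmem 2 e0 he0
  have hne : ∀ k, cj z k e0 ≠ 1 := by
    intro k h
    rw [← cj_id z k] at h
    exact he01 (cj_inj z k h)
  have he11 : e1 ≠ 1 := by rw [he1def]; exact hne 1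
  have he21 : e2 ≠ 1 := by rw [he2def]; exact hne 2
  have hz1 : cj z 1 e1 = e2 := by rw [he1def, he2def, ← cj_add]
  have hsq : ∀ x ∈ S, x⁻¹ = x := fun x hx => inv_eq_of_mul_eq_one_right (hexp x hx)
  -- `e2 = e0 * e1` is impossible
  have hno2 : e2 ≠ e0 * e1 := by
    intro h
    have h3 : cj z 3 e0 = e0 := by
      have : cj z 3 e0 = cj z 1 e2 := by rw [he2def, ← cj_add]
      rw [this, h, cj_mul, ← he1def, hz1, h, hcomm e1 he1 (e0 * e1) (S.mul_mem he0 he1), mul_assoc,
        hexp e1 he1, mul_one]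
    exact hfpfk e0 he0 he01 3 (by norm_num) h3
  have h01 : e0 * e1 ≠ 1 := by
    intro h
    have : e1 = e0 := by
      have := eq_inv_of_mul_eq_one_right h
      rw [hsq e0 he0] at this
      exact this
    rw [he1def] at this
    exact hfpfk e0 he0 he01 1 (by norm_num) this
  have h02 : e0 * e2 ≠ 1 := by
    intro h
    have : e2 = e0 := by
      have := eq_inv_of_mul_eq_one_right h
      rw [hsq e0 he0] at this
      exact this
    rw [he2def] at this
    exact hfpfk e0 he0 he01 2 (by norm_num) this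
  have h12 : e1 * e2 ≠ 1 := by
    intro h
    have : e2 = e1 := by
      have := eq_inv_of_mul_eq_one_right h
      rw [hsq e1 he1] at this
      exact this
    rw [← hz1] at this
    exact hfpfk e1 he1 he11 1 (by norm_num) this
  have h012 : e0 * e1 * e2 ≠ 1 := by
    intro h
    apply hno2
    have := eq_inv_of_mul_eq_one_right h
    rw [hsq (e0 * e1) (S.mul_mem he0 he1)] at this
    exact this
  -- the position of `e0 * e1` in the cycle
  obtain ⟨i, hi⟩ := htrans e0 he0 he01 (e0 * e1) (S.mul_mem he0 he1) h01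
  rw [cj_mod z hz7'] at hi
  have hi7 : i % 7 < 7 := Nat.mod_lt _ (by norm_num)
  -- the generic step: `cj z k (e0 * e1) = cj z k e0 * cj z (k + 1) e0`
  have hstep : ∀ k, cj z k (e0 * e1) = cj z k e0 * cj z (k + 1) e0 := by
    intro k
    rw [cj_mul, he1def, ← cj_add]
  have hz7c : ∀ e, cj z 7 e = e := cj_seven z hz7'
  interval_cases hk : i % 7
  · -- `e0 = e0 * e1`
    rw [cj_zero] at hi
    exact absurd (mul_eq_left.1 hi.symm) he11
  · -- `e1 = e0 * e1`
    rw [← he1def] at hi
    exact absurd (mul_eq_right.1 hi.symm) he01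
  · rw [← he2def] at hi
    exact absurd hi hno2
  · -- the good case
    refine ⟨e0, e1, e2, z, ?_⟩
    refine ⟨hexp e0 he0, hexp e1 he1, hexp e2 he2, hcomm e0 he0 e1 he1, hcomm e0 he0 e2 he2,
      hcomm e1 he1 e2 he2, ?_, ?_, ?_, he01, he11, he21, h01, h02, h12, h012⟩
    · rw [← cj_one, he1def]
    · rw [← cj_one, hz1]
    · rw [← cj_one, he2def, ← cj_add]
      exact hi
  · -- `cj z 4 e0 = e0 * e1`
    exfalso
    apply hno2
    have h8' : cj z 8 e0 = e0 * e2 := by
      have : cj z 8 e0 = cj z 4 (cj z 4 e0) := by rw [← cj_add]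
      rw [this, hi, hstep 4, hi]
      have : cj z 5 e0 = cj z 1 (cj z 4 e0) := by rw [← cj_add]
      rw [this, hi, hstep 1, ← he1def, ← he2def]
      rw [mul_assoc, ← mul_assoc e1 e1 e2, hexp e1 he1, one_mul]
    have h8'' : cj z 8 e0 = e1 := by
      have : cj z 8 e0 = cj z 1 (cj z 7 e0) := by rw [← cj_add]
      rw [this, hz7c, he1def]
    rw [h8''] at h8'
    -- `e1 = e0 * e2`
    rw [h8', ← mul_assoc, hexp e0 he0, one_mul]
  · -- `cj z 5 e0 = e0 * e1`: use `z⁻¹`
    refine ⟨e2, e1, e0, z⁻¹, ?_⟩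
    have hinv : ∀ e, z⁻¹ * cj z 1 e * z⁻¹⁻¹ = e := by
      intro e
      rw [cj_one]; group
    refine ⟨hexp e2 he2, hexp e1 he1, hexp e0 he0, hcomm e2 he2 e1 he1, hcomm e2 he2 e0 he0,
      hcomm e1 he1 e0 he0, ?_, ?_, ?_, he21, he11, he01, ?_, ?_, ?_, ?_⟩
    · rw [← hz1]; exact hinv e1
    · rw [he1def]; exact hinv e0
    · have h6 : cj z 6 e0 = e1 * e2 := by
        have : cj z 6 e0 = cj z 1 (cj z 5 e0) := by rw [← cj_add]
        rw [this, hi, hstep 1, ← he1def, ← he2def]
      have h7 : cj z 1 (e1 * e2) = e0 := by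
        rw [← h6, ← cj_add]
        exact hz7c e0
      rw [hcomm e2 he2 e1 he1, ← hinv (e1 * e2), h7]
    · rw [hcomm e2 he2 e1 he1]; exact h12
    · rw [hcomm e2 he2 e0 he0]; exact h02
    · rw [hcomm e1 he1 e0 he0]; exact h01
    · rw [hcomm e2 he2 e1 he1, hcomm (e1 * e2) (S.mul_mem he1 he2) e0 he0, ← mul_assoc]
      exact h012
  · -- `cj z 6 e0 = e0 * e1`
    exfalso
    apply hno2
    have h7 : cj z 7 e0 = e1 * e2 := by
      have : cj z 7 e0 = cj z 1 (cj z 6 e0) := by rw [← cj_add]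
      rw [this, hi, hstep 1, ← he1def, ← he2def]
    rw [hz7c] at h7
    rw [h7, hcomm e1 he1 e2 he2, mul_assoc, hexp e1 he1, mul_one]

end main

end Cfsg.Agent.Helper2.FrobOf
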