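import Mathlib
import Cfsg.Prelude.Def_Solvable
import Cfsg.Agent.Lib.Helper21.GAG39Defs

/-!
# S4839 piece G39-PRIME (see plans/S4839_plan.md).
-/

set_option autoImplicit false
set_option linter.unusedSectionVars false
set_option linter.unusedVariables false

namespace Cfsg.Agent.Helper21.GAG39

open Cfsg
open scoped Pointwise

variable {G : Type*} [Group G] [Finite G] {p : ℕ} [Fact p.Prime] (N : Subgroup G) [N.Normal]

/-- PIECE G39-PRIME [L0]. -/
theorem prime_eq (hNp : IsPGroup p N) (hne : N ≠ ⊥) (q : ℕ) (hq : q.Prime)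
    (h : ∀ a ∈ N, a ^ q = 1) : q = p := by
  have hp : p.Prime := Fact.out
  obtain ⟨⟨a, ha⟩, ha1'⟩ := (Subgroup.ne_bot_iff_exists_ne_one (H := N)).1 hne
  have ha1 : a ≠ 1 := fun h1 => ha1' (Subtype.ext h1)
  have h1 : orderOf a ∣ q := orderOf_dvd_of_pow_eq_one (h a ha)
  have h2 : orderOf a = q := by
    rcases (Nat.dvd_prime hq).1 h1 with h3 | h3
    · exact absurd (orderOf_eq_one_iff.1 h3) ha1
    · exact h3
  obtain ⟨k, hk⟩ := hNp ⟨a, ha⟩
  have h4 : a ^ (p ^ k) = 1 := by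
    have := congrArg Subtype.val hk
    simpa using this
  have h5 : q ∣ p ^ k := by
    rw [← h2]
    exact orderOf_dvd_of_pow_eq_one h4
  have h6 : q ∣ p := hq.dvd_of_dvd_pow h5
  exact (Nat.prime_dvd_prime_iff_eq hq hp).1 h6

end Cfsg.Agent.Helper21.GAG39
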