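import Mathlib
import Cfsg.Prelude.Def_LieExceptional
import Cfsg.Agent.Lib.Helper27.GWBDefs
import Cfsg.Agent.Lib.Helper2.GWBZB

/-!
# S0508, piece ZASM (designer helper27): `G` on the cosets of `N(Q)` is a Zassenhaus group
-/

set_option autoImplicit false
set_option linter.unusedVariables false
set_option linter.unusedSectionVars false

namespace Cfsg.Agent.Helper27.GWB

universe u

variable {G : Type u} [Group G] [Finite G]

/-- elements of `N(Q)` fix the coset `N(Q)` -/
theorem zasm_fix {Q : Subgroup G} (x : G) (hx : x ∈ Subgroup.normalizer (Q : Set G)) :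
    x • ((1 : G) : G ⧸ Subgroup.normalizer (Q : Set G)) =
      ((1 : G) : G ⧸ Subgroup.normalizer (Q : Set G)) := by
  change ((x * 1 : G) : G ⧸ Subgroup.normalizer (Q : Set G)) = _
  rw [QuotientGroup.eq]
  simpa using hx

/-- every coset can be moved to the coset `N(Q)` -/
theorem zasm_trans {Q : Subgroup G} (a : G ⧸ Subgroup.normalizer (Q : Set G)) :
    ∃ k : G, k • a = ((1 : G) : G ⧸ Subgroup.normalizer (Q : Set G)) := by
  obtain ⟨g, rfl⟩ := QuotientGroup.mk_surjective a
  refine ⟨g⁻¹, ?_⟩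
  change ((g⁻¹ * g : G) : G ⧸ Subgroup.normalizer (Q : Set G)) = _
  rw [inv_mul_cancel]

/-- there are two distinct cosets different from `N(Q)` -/
theorem zasm_two_points {Q D : Subgroup G} (h : BSWData G Q D) (hq : 5 ≤ Nat.card Q) :
    ∃ b c : G ⧸ Subgroup.normalizer (Q : Set G),
      b ≠ ((1 : G) : G ⧸ Subgroup.normalizer (Q : Set G)) ∧
      c ≠ ((1 : G) : G ⧸ Subgroup.normalizer (Q : Set G)) ∧ b ≠ c := by
  set ω0 : G ⧸ Subgroup.normalizer (Q : Set G) := ((1 : G) : G ⧸ Subgroup.normalizer (Q : Set G))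
  have hc : Nat.card {w : G ⧸ Subgroup.normalizer (Q : Set G) // w ≠ ω0} = Nat.card Q := by
    have e1 : Nat.card {w : G ⧸ Subgroup.normalizer (Q : Set G) // w ≠ ω0} =
        ({ω0}ᶜ : Set (G ⧸ Subgroup.normalizer (Q : Set G))).ncard := by
      rw [← Nat.card_coe_set_eq]
      rfl
    rw [e1, Set.ncard_compl, Set.ncard_singleton, BSWData.card_quotient h]
    simp
  have hnt : Nontrivial {w : G ⧸ Subgroup.normalizer (Q : Set G) // w ≠ ω0} := by
    rw [← Finite.one_lt_card_iff_nontrivial, hc]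
    omega
  obtain ⟨b, c, hbc⟩ := exists_pair_ne {w : G ⧸ Subgroup.normalizer (Q : Set G) // w ≠ ω0}
  exact ⟨b.1, c.1, b.2, c.2, fun e => hbc (Subtype.ext e)⟩

/-- PIECE ZASM. -/
theorem BSWData.isZassenhaus [IsSimpleGroup G] {Q D : Subgroup G} (h : BSWData G Q D)
    (hq : 5 ≤ Nat.card Q)
    (hreg : ∀ y z : G ⧸ Subgroup.normalizer (Q : Set G),
      y ≠ ((1 : G) : G ⧸ Subgroup.normalizer (Q : Set G)) →
      z ≠ ((1 : G) : G ⧸ Subgroup.normalizer (Q : Set G)) → ∃! v : Q, (v : G) • y = z)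
    (h3 : ∀ (x : G) (b c : G ⧸ Subgroup.normalizer (Q : Set G)),
      b ≠ ((1 : G) : G ⧸ Subgroup.normalizer (Q : Set G)) →
      c ≠ ((1 : G) : G ⧸ Subgroup.normalizer (Q : Set G)) → b ≠ c →
      x • ((1 : G) : G ⧸ Subgroup.normalizer (Q : Set G)) = ((1 : G) : G ⧸ Subgroup.normalizer (Q : Set G)) →
      x • b = b → x • c = c → x = 1)
    (h2 : ∀ b : G ⧸ Subgroup.normalizer (Q : Set G),
      b ≠ ((1 : G) : G ⧸ Subgroup.normalizer (Q : Set G)) →
      Nat.card ↥(MulAction.stabilizer G ((1 : G) : G ⧸ Subgroup.normalizer (Q : Set G)) ⊓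
        MulAction.stabilizer G b) = Nat.card D) :
    Cfsg.IsZassenhausGroup G (G ⧸ Subgroup.normalizer (Q : Set G)) := by
  set ω0 : G ⧸ Subgroup.normalizer (Q : Set G) := ((1 : G) : G ⧸ Subgroup.normalizer (Q : Set G))
    with hω0
  have hQN : Q ≤ Subgroup.normalizer (Q : Set G) := Subgroup.le_normalizer
  obtain ⟨b0, c0, (hb0 : b0 ≠ ω0), (hc0 : c0 ≠ ω0), hbc0⟩ := zasm_two_points h hq
  have hfixN : ∀ v : G, v ∈ Subgroup.normalizer (Q : Set G) → v • ω0 = ω0 :=
    fun v hv => zasm_fix v hv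
  have htr : ∀ a : G ⧸ Subgroup.normalizer (Q : Set G), ∃ k : G, k • a = ω0 :=
    fun a => zasm_trans (Q := Q) a
  have hd : 2 ≤ Nat.card D := by
    have := h.cardD
    omega
  -- moving a point away from `ω0` keeps it away
  have hmove : ∀ (k : G) (a a' : G ⧸ Subgroup.normalizer (Q : Set G)), a ≠ a' → k • a ≠ k • a' := by
    intro k a a' haa' e
    exact haa' (smul_left_cancel k e)
  refine ⟨⟨?_⟩, ?_, ?_, ?_, ?_⟩
  · -- faithful
    intro g1 g2 hg
    have hx : ∀ a : G ⧸ Subgroup.normalizer (Q : Set G), (g2⁻¹ * g1) • a = a := by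
      intro a
      rw [mul_smul, hg a, inv_smul_smul]
    have := h3 (g2⁻¹ * g1) b0 c0 hb0 hc0 hbc0 (hx _) (hx _) (hx _)
    have e := congrArg (fun w => g2 * w) this
    simpa using e
  · -- doubly transitive
    rw [MulAction.is_two_pretransitive_iff]
    intro a b c d hab hcd
    obtain ⟨k1, hk1⟩ := htr a
    obtain ⟨k2, hk2⟩ := htr c
    have h1 : k1 • b ≠ ω0 := by
      rw [← hk1]
      exact hmove k1 b a (Ne.symm hab)
    have h2' : k2 • d ≠ ω0 := by
      rw [← hk2]
      exact hmove k2 d c (Ne.symm hcd)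
    obtain ⟨v, hv, -⟩ := hreg (k1 • b) (k2 • d) h1 h2'
    have hv' : (v : G) • (k1 • b) = k2 • d := hv
    refine ⟨k2⁻¹ * (v : G) * k1, ?_, ?_⟩
    · rw [mul_smul, mul_smul, hk1, hfixN (v : G) (hQN v.2), ← hk2, inv_smul_smul]
    · rw [mul_smul, mul_smul, hv', inv_smul_smul]
  · -- three-point stabilizers are trivial
    intro g a b c hab hbc hac hga hgb hgc
    obtain ⟨k, hk⟩ := htr a
    have hb : k • b ≠ ω0 := by
      rw [← hk]
      exact hmove k b a (Ne.symm hab)
    have hc : k • c ≠ ω0 := by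
      rw [← hk]
      exact hmove k c a (Ne.symm hac)
    have hfix : ∀ w : G ⧸ Subgroup.normalizer (Q : Set G), g • w = w →
        (k * g * k⁻¹) • (k • w) = k • w := by
      intro w hw
      rw [mul_smul, mul_smul, inv_smul_smul, hw]
    have hx0 : (k * g * k⁻¹) • ω0 = ω0 := by
      have := hfix a hga
      rwa [hk] at this
    have := h3 (k * g * k⁻¹) (k • b) (k • c) hb hc (hmove k b c hbc) hx0 (hfix b hgb) (hfix c hgc)
    have e := congrArg (fun w => k⁻¹ * w * k) this
    simp only [mul_one, inv_mul_cancel] at e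
    rw [← e]
    group
  · -- a non-identity element fixing two points
    have hcard := h2 b0 hb0
    have hne : (MulAction.stabilizer G ω0 ⊓ MulAction.stabilizer G b0) ≠ ⊥ := by
      intro hbot
      rw [hbot, Subgroup.card_bot] at hcard
      omega
    obtain ⟨g, hg, hg1⟩ := (Subgroup.ne_bot_iff_exists_ne_one).mp hne |>.imp
      (fun g hg => hg) |> fun ⟨g, hg⟩ => (⟨(g : G), g.2, fun e => hg (Subtype.ext e)⟩ :
        ∃ g : G, g ∈ MulAction.stabilizer G ω0 ⊓ MulAction.stabilizer G b0 ∧ g ≠ 1)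
    refine ⟨g, hg1, ω0, b0, Ne.symm hb0, ?_, ?_⟩
    · exact (Subgroup.mem_inf.mp hg).1
    · exact (Subgroup.mem_inf.mp hg).2
  · -- no regular normal subgroup
    intro Nn hNn htrN
    rcases hNn.eq_bot_or_eq_top with hbot | htop
    · exfalso
      subst hbot
      obtain ⟨n, hn⟩ := htrN.exists_smul_eq ω0 b0
      have hn' : (n : G) • ω0 = b0 := hn
      have hn1 : (n : G) = 1 := Subgroup.mem_bot.mp n.2
      rw [hn1, one_smul] at hn'
      exact hb0 hn'.symm
    · subst htop
      refine ⟨ω0, ?_⟩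
      intro hbot
      -- an element of `Q` of order > 1 lies in the stabilizer
      have hQnt : ∃ v : G, v ∈ Q ∧ v ≠ 1 := by
        by_contra hcon
        push Not at hcon
        have : Q = ⊥ := by
          rw [Subgroup.eq_bot_iff_forall]
          exact hcon
        rw [this, Subgroup.card_bot] at hq
        omega
      obtain ⟨v, hvQ, hv1⟩ := hQnt
      have hmem : (⟨v, Subgroup.mem_top v⟩ : (⊤ : Subgroup G)) ∈
          MulAction.stabilizer (⊤ : Subgroup G) ω0 := by
        rw [MulAction.mem_stabilizer_iff]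
        exact hfixN v (hQN hvQ)
      have hmem' : (⟨v, Subgroup.mem_top v⟩ : (⊤ : Subgroup G)) ∈
          (⊥ : Subgroup ↥(⊤ : Subgroup G)) := by
        rw [← hbot]
        exact hmem
      rw [Subgroup.mem_bot] at hmem'
      exact hv1 (congrArg Subtype.val hmem')

end Cfsg.Agent.Helper27.GWB
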