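import Mathlib
import Cfsg.Agent.Lib.Helper27.GWBDefs

/-!
# S0508, piece ZC (designer helper27): only the identity fixes three cosets of `N(Q)`
-/

set_option autoImplicit false
set_option linter.unusedVariables false
set_option linter.unusedSectionVars false

namespace Cfsg.Agent.Helper27.GWB

universe u

variable {G : Type u} [Group G] [Finite G]

/-- the stabilizer of the coset `N(Q)` is `N(Q)` -/
theorem zc_mem_normalizer {Q : Subgroup G} (x : G)
    (hx : x • ((1 : G) : G ⧸ Subgroup.normalizer (Q : Set G)) =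
      ((1 : G) : G ⧸ Subgroup.normalizer (Q : Set G))) :
    x ∈ Subgroup.normalizer (Q : Set G) := by
  have h2 : ((x * 1 : G) : G ⧸ Subgroup.normalizer (Q : Set G)) =
      ((1 : G) : G ⧸ Subgroup.normalizer (Q : Set G)) := hx
  rw [QuotientGroup.eq] at h2
  have h3 := (Subgroup.normalizer (Q : Set G)).inv_mem h2
  simpa using h3

/-- PIECE ZC. -/
theorem BSWData.three_point {Q D : Subgroup G} (h : BSWData G Q D)
    (hreg : ∀ y z : G ⧸ Subgroup.normalizer (Q : Set G),
      y ≠ ((1 : G) : G ⧸ Subgroup.normalizer (Q : Set G)) →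
      z ≠ ((1 : G) : G ⧸ Subgroup.normalizer (Q : Set G)) → ∃! v : Q, (v : G) • y = z) :
    ∀ (x : G) (b c : G ⧸ Subgroup.normalizer (Q : Set G)),
      b ≠ ((1 : G) : G ⧸ Subgroup.normalizer (Q : Set G)) →
      c ≠ ((1 : G) : G ⧸ Subgroup.normalizer (Q : Set G)) → b ≠ c →
      x • ((1 : G) : G ⧸ Subgroup.normalizer (Q : Set G)) = ((1 : G) : G ⧸ Subgroup.normalizer (Q : Set G)) →
      x • b = b → x • c = c → x = 1 := by
  intro x b c hb hc hbc hx0 hxb hxc
  have hxN : x ∈ Subgroup.normalizer (Q : Set G) := zc_mem_normalizer x hx0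
  obtain ⟨v, hv, hvu⟩ := hreg b c hb hc
  have hv1 : (v : G) ≠ 1 := by
    intro hv1
    apply hbc
    have hv' : (v : G) • b = c := hv
    rw [hv1, one_smul] at hv'
    exact hv'
  -- the conjugate of `v` by `x` lies in `Q` and maps `b` to `c`
  have hconj : x * (v : G) * x⁻¹ ∈ Q := (Subgroup.mem_normalizer_iff.mp hxN (v : G)).mp v.2
  have hxinvb : x⁻¹ • b = b := by
    have := congrArg (fun w => x⁻¹ • w) hxb
    simp only [inv_smul_smul] at this
    exact this.symm
  have hmap : (x * (v : G) * x⁻¹) • b = c := by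
    rw [mul_smul, mul_smul, hxinvb]
    have hv' : (v : G) • b = c := hv
    rw [hv', hxc]
  have heq : (⟨x * (v : G) * x⁻¹, hconj⟩ : Q) = v := hvu ⟨x * (v : G) * x⁻¹, hconj⟩ hmap
  have heq' : x * (v : G) * x⁻¹ = (v : G) := congrArg Subtype.val heq
  -- so `x` centralizes `v`, hence lies in `Q`
  have hxQ : x ∈ Q := by
    rw [← h.cent (v : G) v.2 hv1, Subgroup.mem_centralizer_iff]
    intro w hw
    rw [Set.mem_singleton_iff] at hw
    subst hw
    have := congrArg (fun w => w * x) heq'
    simp only [inv_mul_cancel_right] at this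
    exact this.symm
  -- regularity: `x` and `1` both fix `b`
  obtain ⟨u, hu, huu⟩ := hreg b b hb hb
  have e1 : (⟨x, hxQ⟩ : Q) = u := huu ⟨x, hxQ⟩ hxb
  have e2 : (1 : Q) = u := huu 1 (by simp)
  have e3 : (⟨x, hxQ⟩ : Q) = 1 := e1.trans e2.symm
  exact congrArg Subtype.val e3

end Cfsg.Agent.Helper27.GWB
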