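import Mathlib
import Cfsg.Agent.Lib.Helper27.GWBDefs
import Cfsg.Agent.Lib.Helper2.GWBZB

/-!
# S0508, piece ZD (designer helper27): two-point stabilizers have order `|D|`
-/

set_option autoImplicit false
set_option linter.unusedVariables false
set_option linter.unusedSectionVars false

namespace Cfsg.Agent.Helper27.GWB

universe u

variable {G : Type u} [Group G] [Finite G]

/-- elements of `N(Q)` fix the coset `N(Q)` -/
theorem zd_fix {Q : Subgroup G} (x : G) (hx : x ∈ Subgroup.normalizer (Q : Set G)) :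
    x • ((1 : G) : G ⧸ Subgroup.normalizer (Q : Set G)) =
      ((1 : G) : G ⧸ Subgroup.normalizer (Q : Set G)) := by
  change ((x * 1 : G) : G ⧸ Subgroup.normalizer (Q : Set G)) = _
  rw [QuotientGroup.eq]
  simpa using hx

/-- `N(Q) = Q * (N(Q) ∩ G_b)` with trivial intersection: a counting form -/
theorem zd_card {Q D : Subgroup G} (h : BSWData G Q D)
    (hreg : ∀ y z : G ⧸ Subgroup.normalizer (Q : Set G),
      y ≠ ((1 : G) : G ⧸ Subgroup.normalizer (Q : Set G)) →
      z ≠ ((1 : G) : G ⧸ Subgroup.normalizer (Q : Set G)) → ∃! v : Q, (v : G) • y = z)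
    (b : G ⧸ Subgroup.normalizer (Q : Set G))
    (hb : b ≠ ((1 : G) : G ⧸ Subgroup.normalizer (Q : Set G))) :
    Nat.card Q * Nat.card ↥(Subgroup.normalizer (Q : Set G) ⊓ MulAction.stabilizer G b) =
      Nat.card ↥(Subgroup.normalizer (Q : Set G)) := by
  rw [← Nat.card_prod]
  apply Nat.card_congr
  have hQN : Q ≤ Subgroup.normalizer (Q : Set G) := Subgroup.le_normalizer
  refine Equiv.ofBijective
    (fun x : ↥Q × ↥(Subgroup.normalizer (Q : Set G) ⊓ MulAction.stabilizer G b) =>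
      (⟨(x.1 : G) * (x.2 : G), Subgroup.mul_mem _ (hQN x.1.2) (Subgroup.mem_inf.mp x.2.2).1⟩ :
        ↥(Subgroup.normalizer (Q : Set G)))) ⟨?_, ?_⟩
  · rintro ⟨v, m⟩ ⟨v', m'⟩ hxy
    have h1 : (v : G) * (m : G) = (v' : G) * (m' : G) := congrArg Subtype.val hxy
    have h2 : (v' : G)⁻¹ * (v : G) = (m' : G) * (m : G)⁻¹ := by
      calc (v' : G)⁻¹ * (v : G) = (v' : G)⁻¹ * ((v : G) * (m : G)) * (m : G)⁻¹ := by group
        _ = (m' : G) * (m : G)⁻¹ := by rw [h1]; group
    have hm : (m : G) • b = b := (Subgroup.mem_inf.mp m.2).2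
    have hm' : (m' : G) • b = b := (Subgroup.mem_inf.mp m'.2).2
    have hminv : (m : G)⁻¹ • b = b := by
      have := congrArg (fun w => (m : G)⁻¹ • w) hm
      simp only [inv_smul_smul] at this
      exact this.symm
    have h3 : ((v' : G)⁻¹ * (v : G)) • b = b := by
      rw [h2, mul_smul, hminv, hm']
    obtain ⟨u, hu, huu⟩ := hreg b b hb hb
    have e1 : (v'⁻¹ * v : Q) = u := huu (v'⁻¹ * v) (by simpa using h3)
    have e2 : (1 : Q) = u := huu 1 (by simp)
    have e3 : (v'⁻¹ * v : Q) = 1 := e1.trans e2.symm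
    have h4 : v = v' := by
      have := congrArg (fun w => v' * w) e3
      simpa using this
    subst h4
    have h5 : (m : G) = m' := mul_left_cancel h1
    exact Prod.ext rfl (Subtype.ext h5)
  · rintro ⟨n, hn⟩
    have hnb : n • b ≠ ((1 : G) : G ⧸ Subgroup.normalizer (Q : Set G)) := by
      intro hnb
      apply hb
      have := congrArg (fun w => n⁻¹ • w) hnb
      simp only [inv_smul_smul] at this
      rw [this]
      exact zd_fix n⁻¹ (Subgroup.inv_mem _ hn)
    obtain ⟨v, hv, -⟩ := hreg b (n • b) hb hnb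
    have hv' : (v : G) • b = n • b := hv
    have hmem : (v : G)⁻¹ * n ∈ Subgroup.normalizer (Q : Set G) ⊓ MulAction.stabilizer G b := by
      refine Subgroup.mem_inf.mpr ⟨Subgroup.mul_mem _ (Subgroup.inv_mem _ (hQN v.2)) hn, ?_⟩
      rw [MulAction.mem_stabilizer_iff, mul_smul, ← hv', inv_smul_smul]
    refine ⟨(v, ⟨(v : G)⁻¹ * n, hmem⟩), ?_⟩
    apply Subtype.ext
    simp

/-- PIECE ZD. -/
theorem BSWData.two_point {Q D : Subgroup G} (h : BSWData G Q D)
    (hreg : ∀ y z : G ⧸ Subgroup.normalizer (Q : Set G),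
      y ≠ ((1 : G) : G ⧸ Subgroup.normalizer (Q : Set G)) →
      z ≠ ((1 : G) : G ⧸ Subgroup.normalizer (Q : Set G)) → ∃! v : Q, (v : G) • y = z)
    (b : G ⧸ Subgroup.normalizer (Q : Set G))
    (hb : b ≠ ((1 : G) : G ⧸ Subgroup.normalizer (Q : Set G))) :
    Nat.card ↥(MulAction.stabilizer G ((1 : G) : G ⧸ Subgroup.normalizer (Q : Set G)) ⊓
      MulAction.stabilizer G b) = Nat.card D := by
  rw [MulAction.stabilizer_quotient]
  have h1 := zd_card h hreg b hb
  rw [zb_card_normalizer h] at h1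
  have hq : 0 < Nat.card Q := Nat.card_pos
  exact Nat.eq_of_mul_eq_mul_left hq h1

end Cfsg.Agent.Helper27.GWB
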