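import Mathlib
import Cfsg.Agent.Lib.Helper8.HallSnDefs
import Cfsg.Agent.Lib.Helper8.HallAnDefs

/-!
# HD-X4: a `{2,3}`-subgroup of `Alt(7)` preserving no 3-set (helper2, for helper8's `HDX.lean`)

`Alt(4)` acting on the six edges of a tetrahedron (and fixing the point `6`): twelve explicit
permutations.
-/

set_option autoImplicit false
set_option linter.unusedSectionVars false
set_option linter.unusedVariables false
set_option linter.style.haveILetI false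

namespace Cfsg.Agent.Helper8.HS.X4

open Equiv Cfsg

/-- a permutation of `Fin 7` from its table and the table of its inverse -/
def tp (v w : Fin 7 → Fin 7) (h1 : ∀ x, w (v x) = x) (h2 : ∀ x, v (w x) = x) : Perm (Fin 7) :=
  ⟨v, w, h1, h2⟩

/-- the twelve elements -/
def L : List (Perm (Fin 7)) :=
  [tp ![0, 1, 2, 3, 4, 5, 6] ![0, 1, 2, 3, 4, 5, 6] (by decide) (by decide),
   tp ![0, 4, 3, 2, 1, 5, 6] ![0, 4, 3, 2, 1, 5, 6] (by decide) (by decide),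
   tp ![5, 1, 3, 2, 4, 0, 6] ![5, 1, 3, 2, 4, 0, 6] (by decide) (by decide),
   tp ![5, 4, 2, 3, 1, 0, 6] ![5, 4, 2, 3, 1, 0, 6] (by decide) (by decide),
   tp ![1, 2, 0, 5, 3, 4, 6] ![2, 0, 1, 4, 5, 3, 6] (by decide) (by decide),
   tp ![4, 3, 0, 5, 2, 1, 6] ![2, 5, 4, 1, 0, 3, 6] (by decide) (by decide),
   tp ![1, 3, 5, 0, 2, 4, 6] ![3, 0, 4, 1, 5, 2, 6] (by decide) (by decide),
   tp ![4, 2, 5, 0, 3, 1, 6] ![3, 5, 1, 4, 0, 2, 6] (by decide) (by decide),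
   tp ![2, 0, 1, 4, 5, 3, 6] ![1, 2, 0, 5, 3, 4, 6] (by decide) (by decide),
   tp ![3, 0, 4, 1, 5, 2, 6] ![1, 3, 5, 0, 2, 4, 6] (by decide) (by decide),
   tp ![3, 5, 1, 4, 0, 2, 6] ![4, 2, 5, 0, 3, 1, 6] (by decide) (by decide),
   tp ![2, 5, 4, 1, 0, 3, 6] ![4, 3, 0, 5, 2, 1, 6] (by decide) (by decide)]

set_option maxRecDepth 100000 in
theorem L_one : (1 : Perm (Fin 7)) ∈ L := by decide +kernel

set_option maxRecDepth 100000 in
theorem L_mul' : ∀ i j : Fin 12, L[i] * L[j] ∈ L := by decide +kernel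

set_option maxRecDepth 100000 in
theorem L_inv' : ∀ i : Fin 12, (L[i])⁻¹ ∈ L := by decide +kernel

set_option maxRecDepth 100000 in
theorem L_pow' : ∀ i : Fin 12, (L[i]) ^ 6 = 1 := by decide +kernel

set_option maxRecDepth 100000 in
theorem L_sign' : ∀ i : Fin 12, Perm.sign (L[i]) = 1 := by decide +kernel

set_option maxRecDepth 100000 in
theorem L_move : ∀ S : Finset (Fin 7), S.card = 3 → ∃ σ ∈ L, ¬ (∀ x, σ x ∈ S ↔ x ∈ S) := by
  decide +kernel

theorem exists_idx {a : Perm (Fin 7)} (ha : a ∈ L) : ∃ i : Fin 12, L[i] = a := by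
  obtain ⟨i, h, rfl⟩ := List.mem_iff_getElem.mp ha
  exact ⟨⟨i, h⟩, rfl⟩

/-- the subgroup -/
def X : Subgroup (Perm (Fin 7)) where
  carrier := {σ | σ ∈ L}
  one_mem' := L_one
  mul_mem' := by
    intro a b ha hb
    obtain ⟨i, rfl⟩ := exists_idx ha
    obtain ⟨j, rfl⟩ := exists_idx hb
    exact L_mul' i j
  inv_mem' := by
    intro a ha
    obtain ⟨i, rfl⟩ := exists_idx ha
    exact L_inv' i

theorem mem_X {σ : Perm (Fin 7)} : σ ∈ X ↔ σ ∈ L := Iff.rfl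

/-- A `{2,3}`-subgroup of `Alt(7)` preserving no 3-set. -/
theorem exists_X4 :
    ∃ X : Subgroup (Perm (Fin 7)), X ≤ alternatingGroup (Fin 7) ∧
      (∀ p : ℕ, p.Prime → p ∣ Nat.card X → p = 2 ∨ p = 3) ∧
      ∀ S : Finset (Fin 7), S.card = 3 → ∃ σ ∈ X, ¬ (∀ x, σ x ∈ S ↔ x ∈ S) := by
  refine ⟨X, ?_, ?_, ?_⟩
  · intro σ hσ
    obtain ⟨i, rfl⟩ := exists_idx (mem_X.mp hσ)
    exact Perm.mem_alternatingGroup.mpr (L_sign' i)
  · intro p hp hdvd
    haveI : Fact p.Prime := ⟨hp⟩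
    obtain ⟨x, hx⟩ := exists_prime_orderOf_dvd_card' (G := X) p hdvd
    obtain ⟨i, hi⟩ := exists_idx (mem_X.mp x.2)
    have h6 : x ^ 6 = 1 := by
      apply Subtype.ext
      rw [Subgroup.coe_pow, ← hi]
      exact L_pow' i
    have h1 : p ∣ 6 := hx ▸ orderOf_dvd_of_pow_eq_one h6
    have h2 : p ∣ 2 * 3 := h1
    rcases (Nat.Prime.dvd_mul hp).mp h2 with h | h
    · left; exact (Nat.prime_dvd_prime_iff_eq hp Nat.prime_two).mp h
    · right; exact (Nat.prime_dvd_prime_iff_eq hp Nat.prime_three).mp h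
  · intro S hS
    obtain ⟨σ, hσ, h⟩ := L_move S hS
    exact ⟨σ, mem_X.mpr hσ, h⟩

end Cfsg.Agent.Helper8.HS.X4
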