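import Mathlib
import Cfsg.Agent.Lib.Helper4.ThBField
import Cfsg.Agent.Lib.Helper4.PLenExpB
import Cfsg.Agent.Lib.Helper2.HHXGeom

/-!
# S3786 (helper3's farm-out), piece L2 (helper2)

`exists_pow_not_comm`: `H` a normal `p`-subgroup (`p` odd) of the finite group `X`, `Q` a `q`-subgroup
acting faithfully on `H`, `y` normalising `Q` with `y ^ p ^ (n+1) = 1` and `y ^ p ^ n` not
centralising `Q`.  Then `y ^ p ^ n` and `(y v) ^ p ^ n` do not commute for some `v ∈ H`.
-/

set_option autoImplicit false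
set_option linter.unusedSectionVars false
set_option linter.unusedVariables false
set_option linter.style.haveILetI false

namespace Cfsg.Agent.Helper3.HHX

open Module Cfsg.Agent.Helper8.FrobLin Cfsg.Agent.Helper8.HHLin Cfsg.Agent.Helper8.SecRep
  Cfsg.Agent.Helper4.PLenExp Cfsg.Agent.Helper4.ThB

section Level

variable {X : Type*} [Group X] [Finite X]

/-- the arithmetic contradiction with the conclusion of Theorem B for `r = 2 p^n - 1` -/
theorem l2_concl_false {p q : ℕ} [hp : Fact p.Prime] (hp2 : p ≠ 2) {Γ : Type*} [Group Γ]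
    (Q : Subgroup Γ) (n : ℕ) (h : Concl p q Q (n + 1) (2 * p ^ n - 1)) : False := by
  have hp3 : 3 ≤ p := by
    have := hp.out.two_le
    omega
  have ht : 1 ≤ p ^ n := Nat.one_le_pow _ _ hp.out.pos
  have hs : 3 * p ^ n ≤ p ^ (n + 1) := by
    calc 3 * p ^ n ≤ p * p ^ n := Nat.mul_le_mul_right _ hp3
      _ = p ^ (n + 1) := by rw [pow_succ, mul_comm]
  rcases h with h | ⟨n₀, m, h1, h2, h3, h4, h5, h6⟩
  · omega
  · have hu : p ^ (n + 1 - n₀) ≤ p ^ n := Nat.pow_le_pow_right hp.out.pos (by omega)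
    have huw : p ^ (n + 1 - n₀) * p ^ n₀ = p ^ (n + 1) := by
      rw [← pow_add]
      congr 1
      omega
    have e : p ^ (n + 1 - n₀) * (p ^ n₀ - 1) = p ^ (n + 1 - n₀) * p ^ n₀ - p ^ (n + 1 - n₀) := by
      rw [Nat.mul_sub, mul_one]
    rw [e, huw] at h6
    omega

theorem exists_pow_not_comm {p q : ℕ} [hp : Fact p.Prime] [hq : Fact q.Prime] (hp2 : p ≠ 2)
    (hpq : p ≠ q)
    (H : Subgroup X) [hHn : H.Normal] (hHp : IsPGroup p ↥H) (Q : Subgroup X) (hQq : IsPGroup q ↥Q)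
    (hQH : ∀ a ∈ Q, (∀ v ∈ H, a * v * a⁻¹ = v) → a = 1)
    (y : X) (hyQ : y ∈ Subgroup.normalizer (Q : Set X)) (n : ℕ) (hy : y ^ p ^ (n + 1) = 1)
    (a : X) (ha : a ∈ Q) (hne : y ^ p ^ n * a * (y ^ p ^ n)⁻¹ * a⁻¹ ≠ 1) :
    ∃ v ∈ H, y ^ p ^ n * (y * v) ^ p ^ n ≠ (y * v) ^ p ^ n * y ^ p ^ n := by
  classical
  by_contra hcon
  push Not at hcon
  set Φ : Subgroup X := (frattini ↥H).map H.subtype with hΦ
  have hsec : IsSec H Φ p := isSec_frattini p H hHp
  set Γ : Subgroup X := Subgroup.normalizer (Q : Set X) with hΓdef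
  have hHtop : Subgroup.normalizer (H : Set X) = ⊤ := Subgroup.normalizer_eq_top_iff.mpr hHn
  have hΓL : Γ ≤ nn H Φ := by
    have := normalizer_le_nn_frattini H
    rw [hHtop] at this
    exact le_top.trans this
  have hQΓ : Q ≤ Γ := Subgroup.le_normalizer
  haveI : Module.Finite (ZMod p) (SecW hsec) := Module.Finite.of_finite
  set ρ₀ := secLin₀ hsec Γ hΓL with hρ₀
  set R : ↥Γ →* (SecW hsec ≃ₗ[ZMod p] SecW hsec) := repEquiv ρ₀ with hR
  set yΓ : ↥Γ := ⟨y, hyQ⟩ with hyΓ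
  set b := R yΓ with hb
  set Q' : Subgroup (SecW hsec ≃ₗ[ZMod p] SecW hsec) := (Q.subgroupOf Γ).map R with hQ'
  have haΓ : a ∈ Γ := hQΓ ha
  have hcop : (Nat.card ↥Q).Coprime p := by
    obtain ⟨k, hk⟩ := IsPGroup.iff_card.mp hQq
    rw [hk]
    apply Nat.Coprime.pow_left
    exact (Nat.coprime_primes hq.out hp.out).mpr (Ne.symm hpq)
  -- the hypotheses of Theorem B
  have hyp : Hyp p q Q' b (n + 1) := by
    refine ⟨?_, ?_, ?_, by omega, ?_, ?_⟩
    · exact Finite.of_surjective (fun g : Q.subgroupOf Γ => (⟨R g, ⟨g, g.2, rfl⟩⟩ : Q'))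
        (by rintro ⟨_, g, hg, rfl⟩; exact ⟨⟨g, hg⟩, rfl⟩)
    · have h1 : IsPGroup q ↥(Q.subgroupOf Γ) :=
        hQq.of_injective (Q.subgroupOfEquivOfLe hQΓ).toMonoidHom
          (Q.subgroupOfEquivOfLe hQΓ).injective
      exact h1.map R
    · rintro _ ⟨g, hg, rfl⟩
      refine ⟨yΓ * g * yΓ⁻¹, ?_, ?_⟩
      · have hg' : g ∈ Q.subgroupOf Γ := hg
        show yΓ * g * yΓ⁻¹ ∈ Q.subgroupOf Γ
        rw [Subgroup.mem_subgroupOf] at hg' ⊢
        exact conj_mem_of_mem_normalizer hyQ hg'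
      · rw [map_mul, map_mul, map_inv]
    · rw [hb, ← map_pow]
      have : yΓ ^ p ^ (n + 1) = 1 := by
        apply Subtype.ext
        rw [Subgroup.coe_pow]
        exact hy
      rw [this, map_one]
    · refine ⟨R ⟨a, haΓ⟩, ⟨⟨a, haΓ⟩, by
        show (⟨a, haΓ⟩ : ↥Γ) ∈ Q.subgroupOf Γ
        rw [Subgroup.mem_subgroupOf]; exact ha, rfl⟩, ?_⟩
      intro hcomm
      rw [Nat.add_sub_cancel, hb, ← map_pow, ← map_mul, ← map_mul] at hcomm
      -- the commutator acts trivially on the section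
      set c : X := y ^ p ^ n * a * (y ^ p ^ n)⁻¹ * a⁻¹ with hc
      have hcQ : c ∈ Q := by
        rw [hc]
        exact Q.mul_mem (conj_mem_of_mem_normalizer (Subgroup.pow_mem _ hyQ _) ha) (Q.inv_mem ha)
      have hcΓ : c ∈ Γ := hQΓ hcQ
      have hRc : R ⟨c, hcΓ⟩ = 1 := by
        have e : (⟨c, hcΓ⟩ : ↥Γ) = (yΓ ^ p ^ n * ⟨a, haΓ⟩) * (⟨a, haΓ⟩ * yΓ ^ p ^ n)⁻¹ := by
          apply Subtype.ext
          simp only [Subgroup.coe_mul, Subgroup.coe_inv, Subgroup.coe_pow, hyΓ, hc]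
          group
        rw [e, map_mul, map_inv, hcomm, mul_inv_cancel]
      have hρc : ρ₀ ⟨c, hcΓ⟩ = 1 := by
        have := congrArg op hRc
        rw [hR, op_repEquiv] at this
        exact this
      rw [hρ₀, secLin₀_eq_one_iff] at hρc
      apply hne
      have hcc : (Nat.card ↥(Subgroup.zpowers c)).Coprime p := by
        have hd : Nat.card ↥(Subgroup.zpowers c) ∣ Nat.card ↥Q :=
          Subgroup.card_dvd_of_le (Subgroup.zpowers_le.mpr hcQ)
        exact Nat.Coprime.coprime_dvd_left hd hcop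
      have hsolv : Group.IsSolvable ↥(Subgroup.zpowers c) := by
        apply Group.isSolvable_of_comm
        rintro ⟨a, ha⟩ ⟨b, hb⟩
        apply Subtype.ext
        obtain ⟨i, rfl⟩ := Subgroup.mem_zpowers_iff.mp ha
        obtain ⟨j, rfl⟩ := Subgroup.mem_zpowers_iff.mp hb
        show c ^ i * c ^ j = c ^ j * c ^ i
        rw [← zpow_add, ← zpow_add, add_comm]
      have hΦn : Subgroup.zpowers c ≤ Subgroup.normalizer (Φ : Set X) := by
        rw [Subgroup.zpowers_le]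
        exact (mem_nn.mp (hΓL hcΓ)).2
      have hact : ∀ z ∈ Subgroup.zpowers c, ∀ r ∈ H, z * r * z⁻¹ * r⁻¹ ∈ Φ := by
        intro z hz
        have hzk : z ∈ actKer H Φ := by
          have hle : Subgroup.zpowers c ≤ actKer H Φ := by
            rw [Subgroup.zpowers_le, mem_actKer]
            exact ⟨hΓL hcΓ, hρc⟩
          exact hle hz
        exact (mem_actKer.mp hzk).2
      have key := Cfsg.Agent.Helper23.centralizes_of_frattini H hHp (Subgroup.zpowers c) hcc hsolv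
        hΦn hact
      apply hQH c hcQ
      intro v hv
      have := Subgroup.mem_centralizer_iff.mp (key hv) c (Subgroup.mem_zpowers c)
      rw [this]
      group
  -- the nilpotency bound
  set β : Module.End (ZMod p) (SecW hsec) := ρ₀ yΓ with hβ
  have hopb : op b = β := rfl
  have hHnorm : y ∈ Subgroup.normalizer (H : Set X) := (mem_nn.mp (hΓL hyQ)).1
  have hfix : ∀ w : SecW hsec,
      (β ^ p ^ n) ((∑ i ∈ Finset.range (p ^ n), β ^ (i + 1)) w) =
        (∑ i ∈ Finset.range (p ^ n), β ^ (i + 1)) w := by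
    intro w
    obtain ⟨⟨v, hv⟩, rfl⟩ := secMk_surjective hsec w
    have hcv : cprod y v (p ^ n) ∈ H := cprod_mem H y v hHnorm hv (p ^ n)
    have e1 := secMk_cprod hsec Γ hΓL y hyQ v hv (p ^ n)
    rw [LinearMap.sum_apply, ← e1, hβ, ← map_pow, hρ₀, secLin₀_mk]
    congr 1
    apply Subtype.ext
    show ((yΓ ^ p ^ n : ↥Γ) : X) * cprod y v (p ^ n) * ((yΓ ^ p ^ n : ↥Γ) : X)⁻¹ = cprod y v (p ^ n)
    rw [Subgroup.coe_pow]
    show y ^ p ^ n * cprod y v (p ^ n) * (y ^ p ^ n)⁻¹ = cprod y v (p ^ n)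
    have h1 := hcon v hv
    rw [mul_pow_eq] at h1
    have h2 : y ^ p ^ n * cprod y v (p ^ n) = cprod y v (p ^ n) * y ^ p ^ n := by
      have h3 : y ^ p ^ n * cprod y v (p ^ n) * y ^ p ^ n =
          cprod y v (p ^ n) * y ^ p ^ n * y ^ p ^ n := by
        rw [mul_assoc]
        exact h1
      exact mul_right_cancel h3
    rw [h2]
    group
  have hS : ∑ i ∈ Finset.range (p ^ n), β ^ (i + 1) = β * (β - 1) ^ (p ^ n - 1) := by
    rw [← l2_geom_sum_char_pow p β n, Finset.mul_sum]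
    apply Finset.sum_congr rfl
    intro i _
    rw [pow_succ']
  have hprod : (β - 1) ^ p ^ n * (β * (β - 1) ^ (p ^ n - 1)) = 0 := by
    rw [l2_sub_one_pow_char_pow p β n, ← hS]
    apply LinearMap.ext
    intro w
    rw [Module.End.mul_apply, LinearMap.sub_apply, hfix w, Module.End.one_apply, sub_self,
      LinearMap.zero_apply]
  have hβinv : ρ₀ yΓ⁻¹ * β = 1 := by
    rw [hβ, ← map_mul, inv_mul_cancel, map_one]
  have hcomm : Commute ((β - 1) ^ p ^ n) β := by
    apply Commute.pow_left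
    exact (Commute.refl β).sub_left (Commute.one_left β)
  have hr : (op b - 1) ^ (2 * p ^ n - 1) = 0 := by
    rw [hopb]
    have e : 2 * p ^ n - 1 = p ^ n + (p ^ n - 1) := by
      have : 1 ≤ p ^ n := Nat.one_le_pow _ _ hp.out.pos
      omega
    rw [e, pow_add]
    have h1 : β * ((β - 1) ^ p ^ n * (β - 1) ^ (p ^ n - 1)) = 0 := by
      rw [← mul_assoc, ← hcomm.eq, mul_assoc]
      exact hprod
    have h2 := congrArg (fun f => ρ₀ yΓ⁻¹ * f) h1
    simp only [mul_zero] at h2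
    rw [← mul_assoc, hβinv, one_mul] at h2
    exact h2
  have hC := thmB_field hpq Q' b (n + 1) hyp _ hr
  exact l2_concl_false hp2 Q' n hC

end Level

end Cfsg.Agent.Helper3.HHX
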