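import Mathlib
import Cfsg.Prelude.Def_Blocks
import Cfsg.Agent.Lib.Helper24.CharLinear
import Cfsg.Agent.Lib.Helper24.CharComplete
import Cfsg.Agent.Lib.Helper24.CharHom
import Cfsg.Agent.Lib.Helper24.CharAlgebra
import Cfsg.Agent.Lib.Helper16.ITODefs

/-!
# S4707 piece TWO (`p = 5`): a Sylow `2`-subgroup has order dividing `8`
-/

set_option autoImplicit false
set_option linter.unusedSectionVars false
set_option linter.unusedVariables false
set_option linter.style.haveILetI false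

namespace Cfsg.Agent.Helper16.ITO

open scoped ComplexConjugate
open Cfsg Cfsg.Agent.Helper24

universe u

namespace TWO

variable {G : Type u} [Group G]

/-- involutions have value `-1` -/
theorem val_two {f : G → ℂ} (hdeg : f 1 = 3)
    (hFE : ∀ g : G, ¬ 5 ∣ orderOf g → f (g * g) = f g ^ 2 - 2 * f g)
    (hint : ∀ g : G, ¬ 5 ∣ orderOf g → ∃ n : ℤ, f g = (n : ℂ))
    (hfaith : ∀ x : G, f x = f 1 → x = 1) {x : G} (h5 : ¬ 5 ∣ orderOf x) (hx1 : x ≠ 1)
    (hx2 : x * x = 1) : f x = -1 := by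
  obtain ⟨n, hn⟩ := hint x h5
  have h1 := hFE x h5
  rw [hx2, hdeg, hn] at h1
  have h2 : (3 : ℤ) = n ^ 2 - 2 * n := by exact_mod_cast h1
  have h3 : (n - 3) * (n + 1) = 0 := by linarith [h2]
  rcases mul_eq_zero.1 h3 with h | h
  · exfalso
    apply hx1
    apply hfaith
    rw [hn, hdeg]
    have : n = 3 := by linarith
    rw [this]; norm_num
  · rw [hn]
    have : n = -1 := by linarith
    rw [this]; norm_num

/-- elements of order four have value `1` -/
theorem val_four {f : G → ℂ} (hdeg : f 1 = 3)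
    (hFE : ∀ g : G, ¬ 5 ∣ orderOf g → f (g * g) = f g ^ 2 - 2 * f g)
    (hint : ∀ g : G, ¬ 5 ∣ orderOf g → ∃ n : ℤ, f g = (n : ℂ))
    (hfaith : ∀ x : G, f x = f 1 → x = 1) {x : G} (h5 : ¬ 5 ∣ orderOf x)
    (h5' : ¬ 5 ∣ orderOf (x * x)) (hx2 : x * x ≠ 1)
    (hx4 : (x * x) * (x * x) = 1) : f x = 1 := by
  obtain ⟨n, hn⟩ := hint x h5
  have h1 := hFE x h5
  rw [val_two hdeg hFE hint hfaith h5' hx2 hx4, hn] at h1
  have h2 : (-1 : ℤ) = n ^ 2 - 2 * n := by exact_mod_cast h1
  have h3 : (n - 1) * (n - 1) = 0 := by linarith [h2]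
  rw [hn]
  have : n = 1 := by
    rcases mul_eq_zero.1 h3 with h | h <;> linarith
  rw [this]; norm_num

/-- there are no `5`-regular elements of order eight -/
theorem no_eight {f : G → ℂ} (hdeg : f 1 = 3)
    (hFE : ∀ g : G, ¬ 5 ∣ orderOf g → f (g * g) = f g ^ 2 - 2 * f g)
    (hint : ∀ g : G, ¬ 5 ∣ orderOf g → ∃ n : ℤ, f g = (n : ℂ))
    (hfaith : ∀ x : G, f x = f 1 → x = 1) {x : G} (h5 : ¬ 5 ∣ orderOf x)
    (h5' : ¬ 5 ∣ orderOf (x * x)) (h5'' : ¬ 5 ∣ orderOf ((x * x) * (x * x)))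
    (hx4 : (x * x) * (x * x) ≠ 1)
    (hx8 : ((x * x) * (x * x)) * ((x * x) * (x * x)) = 1) : False := by
  obtain ⟨n, hn⟩ := hint x h5
  have h1 := hFE x h5
  rw [val_four hdeg hFE hint hfaith h5' h5'' hx4 hx8, hn] at h1
  have h2 : (1 : ℤ) = n ^ 2 - 2 * n := by exact_mod_cast h1
  have h3 : (n - 1) * (n - 1) = 2 := by linarith [h2]
  have h4 : (n - 1).natAbs * (n - 1).natAbs = 2 := by
    have := congrArg Int.natAbs h3
    rwa [Int.natAbs_mul] at this
  have h5 : (n - 1).natAbs ≤ 2 := by nlinarith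
  interval_cases h : (n - 1).natAbs <;> omega

end TWO

section Chars

variable {G : Type u} [Group G] [Fintype G]

open TWO in
/-- PIECE TWO (`p = 5`). -/
theorem card_sylow_two_dvd {f : G → ℂ} (hf : IsCharacter G f) (hdeg : f 1 = 3)
    (hFE : ∀ g : G, ¬ 5 ∣ orderOf g → f (g * g) = f g ^ 2 - 2 * f g)
    (hint : ∀ g : G, ¬ 5 ∣ orderOf g → ∃ n : ℤ, f g = (n : ℂ))
    (hfaith : ∀ x : G, f x = f 1 → x = 1) (S : Sylow 2 G) : Nat.card (S : Subgroup G) ∣ 8 := by
  classical
  -- elements of `S` are `5`-regular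
  have hreg : ∀ x ∈ (S : Subgroup G), ¬ 5 ∣ orderOf x := by
    intro x hx h5
    obtain ⟨k, hk⟩ := (S.2 : IsPGroup 2 (S : Subgroup G)) ⟨x, hx⟩
    have h1 : x ^ 2 ^ k = 1 := by
      have := congrArg Subtype.val hk
      simpa using this
    have h2 : orderOf x ∣ 2 ^ k := orderOf_dvd_of_pow_eq_one h1
    have h3 : 5 ∣ 2 := Nat.Prime.dvd_of_dvd_pow (by norm_num) (dvd_trans h5 h2)
    omega
  -- every element of `S` has `x ^ 4 = 1`
  have hexp : ∀ k : ℕ, ∀ x ∈ (S : Subgroup G), x ^ 2 ^ k = 1 → (x * x) * (x * x) = 1 := by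
    intro k
    induction k with
    | zero =>
      intro x _ h
      have : x = 1 := by simpa using h
      subst this; simp
    | succ k ih =>
      intro x hx h
      have hxx : x * x ∈ (S : Subgroup G) := mul_mem hx hx
      have h1 : (x * x) ^ 2 ^ k = 1 := by
        rw [← pow_two, ← pow_mul, ← pow_succ']; exact h
      have h8 := ih (x * x) hxx h1
      by_contra h4
      exact no_eight hdeg hFE hint hfaith (hreg x hx) (hreg _ hxx)
        (hreg _ (mul_mem hxx hxx)) h4 h8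
  have hexp' : ∀ x ∈ (S : Subgroup G), (x * x) * (x * x) = 1 := by
    intro x hx
    obtain ⟨k, hk⟩ := (S.2 : IsPGroup 2 (S : Subgroup G)) ⟨x, hx⟩
    have h1 : x ^ 2 ^ k = 1 := by
      have := congrArg Subtype.val hk
      simpa using this
    exact hexp k x hx h1
  -- values on `S ∖ 1`
  have hval : ∀ x ∈ (S : Subgroup G), x ≠ 1 → f x * conj (f x) = 1 := by
    intro x hx hx1
    by_cases h2 : x * x = 1
    · rw [val_two hdeg hFE hint hfaith (hreg x hx) hx1 h2]; simp
    · rw [val_four hdeg hFE hint hfaith (hreg x hx) (hreg _ (mul_mem hx hx)) h2 (hexp' x hx)]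
      simp
  -- the inner product of the restriction with itself
  letI : Fintype (S : Subgroup G) := Fintype.ofFinite _
  letI : Fintype (IrrCharacter (S : Subgroup G)) := irrFintype
  have hres : IsCharacter (S : Subgroup G) (fun k : (S : Subgroup G) => f k) :=
    isCharacter_restrict (S : Subgroup G) hf
  obtain ⟨n, hn⟩ := classInner_char_nat hres hres
  have hsum : ∑ x : (S : Subgroup G), f x * conj (f x) = (Nat.card (S : Subgroup G) : ℂ) + 8 := by
    rw [← Finset.add_sum_erase _ _ (Finset.mem_univ (1 : (S : Subgroup G)))]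
    have h1 : ∑ x ∈ Finset.univ.erase (1 : (S : Subgroup G)), f x * conj (f x) =
        ∑ x ∈ Finset.univ.erase (1 : (S : Subgroup G)), (1 : ℂ) := by
      refine Finset.sum_congr rfl fun x hx => ?_
      rw [Finset.mem_erase] at hx
      exact hval x x.2 (fun h => hx.1 (Subtype.ext h))
    rw [h1, Finset.sum_const, Finset.card_erase_of_mem (Finset.mem_univ _), Finset.card_univ,
      ← Nat.card_eq_fintype_card]
    have hpos : 1 ≤ Nat.card (S : Subgroup G) := Nat.card_pos
    simp only [Subgroup.coe_one, hdeg, nsmul_eq_mul, mul_one]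
    rw [Nat.cast_sub hpos]
    have : (conj (3 : ℂ)) = 3 := by
      rw [show (3 : ℂ) = ((3 : ℕ) : ℂ) by norm_num, Complex.conj_natCast]
    rw [this]; push_cast; ring
  have hpos : (Nat.card (S : Subgroup G) : ℂ) ≠ 0 := by
    have : 0 < Nat.card (S : Subgroup G) := Nat.card_pos
    exact_mod_cast this.ne'
  have h2 : (Nat.card (S : Subgroup G) : ℂ) + 8 = (n : ℂ) * (Nat.card (S : Subgroup G) : ℂ) := by
    rw [← hn, classInner, hsum]
    field_simp
  have h3 : Nat.card (S : Subgroup G) + 8 = n * Nat.card (S : Subgroup G) := by exact_mod_cast h2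
  have h4 : Nat.card (S : Subgroup G) ∣ Nat.card (S : Subgroup G) + 8 := by
    rw [h3]; exact dvd_mul_left _ _
  exact (Nat.dvd_add_right (dvd_refl _)).1 h4

end Chars

end Cfsg.Agent.Helper16.ITO
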