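import Mathlib
import Cfsg.Agent.Lib.Helper13.InvNMain
import Cfsg.Agent.Lib.Helper16.InvNRank
import Cfsg.Agent.Lib.Helper28.InvNCollect

/-!
# Involution classes of Chevalley groups in characteristic two: the generic assembly (helper2)

From the generic theorem (every element of square one is conjugate to the product of the `x_β(1)` over a frame of the
table), the fusion of the frames into the representatives, and the pairwise distinct ranks of the representatives.
-/

set_option autoImplicit false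
set_option linter.unusedSectionVars false
set_option linter.unusedVariables false

namespace Cfsg.Agent.Helper2.InvE

open Cfsg Cfsg.Lie Cfsg.Agent.Lead.Chev Cfsg.Agent.Helper13.InvN

variable {F : Type*} [Field F] [CharP F 2] {D : ChevalleyDatum}

/-- the rank of `x - 1` for a product of root elements -/
noncomputable def rkE (hF : ChevFacts D F) (L : List ℕ) : ℕ :=
  (((xprod hF L : GL D.Idx F) : Matrix D.Idx D.Idx F) - 1).rank

theorem inve_xprod_sq (hF : ChevFacts D F) (L : List ℕ) (h : collect D 200 (L ++ L) = []) :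
    xprod hF L * xprod hF L = 1 := by
  rw [← xprod_append, ← xprod_collect hF 200, h, xprod_nil]

/-- the generic assembly -/
theorem inve_main (hF : ChevFacts D F) (reps : List (List ℕ)) (T : Table)
    (mats : List (Matrix D.Idx D.Idx F))
    (hval : ∀ rep ∈ reps, ((xprod hF rep : GL D.Idx F) : Matrix D.Idx D.Idx F) ∈ mats)
    (heq : ∀ y : GL D.Idx F, (y : Matrix D.Idx D.Idx F) ∈ mats → ∃ rep ∈ reps, y = xprod hF rep)
    (hsq : ∀ rep ∈ reps, collect D 200 (rep ++ rep) = [])
    (hrk0 : ∀ rep ∈ reps, rkE hF rep ≠ 0)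
    (hrk : ∀ r1 ∈ reps, ∀ r2 ∈ reps, rkE hF r1 = rkE hF r2 → r1 = r2)
    (hc2 : ∀ S ∈ T.frames, S = [] ∨
      ∃ rep ∈ reps, CJ D F (xprod hF (frameRoots D S)) (xprod hF rep))
    (Hgen : ∀ g ∈ D.group F, g * g = 1 →
      ∃ S ∈ T.frames, CJ D F g (xprod hF (frameRoots D S))) :
    (∀ y : GL D.Idx F, (y : Matrix D.Idx D.Idx F) ∈ mats →
      y ∈ D.group F ∧ orderOf y = 2) ∧
    (∀ g ∈ D.group F, orderOf g = 2 → ∃ y ∈ D.group F,
      (y : Matrix D.Idx D.Idx F) ∈ mats ∧ ∃ h ∈ D.group F, h * g * h⁻¹ = y) ∧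
    (∀ y₁ ∈ D.group F, ∀ y₂ ∈ D.group F,
      (y₁ : Matrix D.Idx D.Idx F) ∈ mats → (y₂ : Matrix D.Idx D.Idx F) ∈ mats →
      (∃ h ∈ D.group F, h * y₁ * h⁻¹ = y₂) →
      (y₁ : Matrix D.Idx D.Idx F) = (y₂ : Matrix D.Idx D.Idx F)) := by
  have hne : ∀ rep ∈ reps, xprod hF rep ≠ 1 := by
    intro rep hrep h
    apply hrk0 rep hrep
    unfold rkE
    rw [h, Units.val_one, sub_self, Matrix.rank_zero]
  refine ⟨?_, ?_, ?_⟩
  · intro y hy
    obtain ⟨rep, hrep, rfl⟩ := heq y hy
    refine ⟨xprod_mem_group hF rep, ?_⟩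
    have h2 : xprod hF rep ^ 2 = 1 := by
      rw [pow_two]
      exact inve_xprod_sq hF rep (hsq rep hrep)
    have : Fact (Nat.Prime 2) := ⟨Nat.prime_two⟩
    exact orderOf_eq_prime h2 (hne rep hrep)
  · intro g hg hord
    have hgg : g * g = 1 := by
      rw [← pow_two, ← hord]
      exact pow_orderOf_eq_one g
    obtain ⟨S, hS, hcj⟩ := Hgen g hg hgg
    rcases hc2 S hS with rfl | ⟨rep, hrep, hcj2⟩
    · exfalso
      obtain ⟨c, _, e⟩ := hcj
      have h1 : g = 1 := by
        have : xprod hF (frameRoots D ([] : Frame)) = 1 := rfl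
        rw [this] at e
        have : g = c⁻¹ * (c * g * c⁻¹) * c := by group
        rw [this, e]
        group
      rw [h1, orderOf_one] at hord
      norm_num at hord
    · obtain ⟨c, hc, e⟩ := hcj.trans hcj2
      exact ⟨xprod hF rep, xprod_mem_group hF rep, hval rep hrep, c, hc, e⟩
  · intro y₁ _ y₂ _ h1 h2 hconj
    obtain ⟨r1, hr1, rfl⟩ := heq y₁ h1
    obtain ⟨r2, hr2, rfl⟩ := heq y₂ h2
    have hcj : CJ D F (xprod hF r1) (xprod hF r2) := hconj
    have := hrk r1 hr1 r2 hr2 (Cfsg.Agent.Helper16.RK.rank_eq_of_CJ hcj)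
    rw [this]

end Cfsg.Agent.Helper2.InvE
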