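import Mathlib
import Cfsg.Agent.Lib.Helper2.InvEGen
import Cfsg.Agent.Lib.Helper18.InvC2Main
import Cfsg.Agent.Lib.Helper16.InvNRankE6
import Cfsg.Agent.Lib.Helper25.InvNTABP
import Cfsg.Agent.Lib.Lead.ChevFactsAll
import Cfsg.Agent.Lib.Lead.ChevOrderAll

/-!
# `E₆(q)`, `q` even: exactly three classes of involutions (helper2, S2175)
-/

set_option autoImplicit false
set_option linter.unusedSectionVars false
set_option linter.unusedVariables false
set_option maxRecDepth 100000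

namespace Cfsg.Agent.Helper2.InvE

open Cfsg Cfsg.Lie Cfsg.Agent.Lead.Chev Cfsg.Agent.Helper13.InvN Cfsg.Agent.Helper16.RK

variable {F : Type*} [Field F] [CharP F 2]

theorem hmemE6 : chevE6 ∈ [chevG2, chevB2, chevD4, chevF4, chevE6, chevE7, chevE8] := by simp

/-- the facts for `E₆` -/
theorem hE6 : ChevFacts chevE6 F := chevFacts_of_mem chevE6 hmemE6

/-- the three matrices of the statement -/
def matsE6 (F : Type*) [Field F] : List (Matrix chevE6.Idx chevE6.Idx F) :=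
  [chevE6.x F 71 1, chevE6.x F 68 1 * chevE6.x F 66 1,
    chevE6.x F 55 1 * chevE6.x F 65 1 * chevE6.x F 67 1]

theorem e6_val_mem (hF : ChevFacts chevE6 F) (rep : List ℕ) (h : rep ∈ repsE6) :
    ((xprod hF rep : GL chevE6.Idx F) : Matrix chevE6.Idx chevE6.Idx F) ∈ matsE6 F := by
  simp only [repsE6, List.mem_cons, List.mem_nil_iff, or_false] at h
  rcases h with rfl | rfl | rfl <;>
    simp [matsE6, xprod, xGL_val, mul_assoc]

theorem e6_eq_xprod (hF : ChevFacts chevE6 F) (y : GL chevE6.Idx F)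
    (h : (y : Matrix chevE6.Idx chevE6.Idx F) ∈ matsE6 F) : ∃ rep ∈ repsE6, y = xprod hF rep := by
  simp only [matsE6, List.mem_cons, List.mem_nil_iff, or_false] at h
  rcases h with h | h | h
  · exact ⟨[71], by simp [repsE6], Units.ext (by rw [h]; simp [xprod, xGL_val])⟩
  · exact ⟨[68, 66], by simp [repsE6], Units.ext (by rw [h]; simp [xprod, xGL_val])⟩
  · exact ⟨[55, 65, 67], by simp [repsE6], Units.ext (by rw [h]; simp [xprod, xGL_val, mul_assoc])⟩

theorem e6_sq_chk : ∀ L ∈ repsE6, collect chevE6 200 (L ++ L) = [] := by decide +kernel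

theorem e6_rk (hF : ChevFacts chevE6 F) :
    rkE hF [71] = 22 ∧ rkE hF [68, 66] = 32 ∧ rkE hF [55, 65, 67] = 38 :=
  ⟨rank_E6_1 hF, rank_E6_2 hF, rank_E6_3 hF⟩

/-- the statement of S2175, from the generic theorem -/
theorem e6_main_of_gen (hF : ChevFacts chevE6 F)
    (Hgen : ∀ g ∈ chevE6.group F, g * g = 1 →
      ∃ S ∈ tabE6.frames, CJ chevE6 F g (xprod hF (frameRoots chevE6 S))) :
    (∀ y : GL chevE6.Idx F, (y : Matrix chevE6.Idx chevE6.Idx F) ∈ matsE6 F →
      y ∈ chevE6.group F ∧ orderOf y = 2) ∧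
    (∀ g ∈ chevE6.group F, orderOf g = 2 → ∃ y ∈ chevE6.group F,
      (y : Matrix chevE6.Idx chevE6.Idx F) ∈ matsE6 F ∧ ∃ h ∈ chevE6.group F, h * g * h⁻¹ = y) ∧
    (∀ y₁ ∈ chevE6.group F, ∀ y₂ ∈ chevE6.group F,
      (y₁ : Matrix chevE6.Idx chevE6.Idx F) ∈ matsE6 F →
      (y₂ : Matrix chevE6.Idx chevE6.Idx F) ∈ matsE6 F →
      (∃ h ∈ chevE6.group F, h * y₁ * h⁻¹ = y₂) →
      (y₁ : Matrix chevE6.Idx chevE6.Idx F) = (y₂ : Matrix chevE6.Idx chevE6.Idx F)) := by
  obtain ⟨k1, k2, k3⟩ := e6_rk hF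
  refine inve_main hF repsE6 tabE6 (matsE6 F) (e6_val_mem hF) (e6_eq_xprod hF) e6_sq_chk ?_ ?_
    (c2_E6 hF) Hgen
  · intro rep hrep
    simp only [repsE6, List.mem_cons, List.mem_nil_iff, or_false] at hrep
    rcases hrep with rfl | rfl | rfl <;> omega
  · intro r1 hr1 r2 hr2 h
    simp only [repsE6, List.mem_cons, List.mem_nil_iff, or_false] at hr1 hr2
    rcases hr1 with rfl | rfl | rfl <;> rcases hr2 with rfl | rfl | rfl <;>
      first
      | rfl
      | (exfalso; omega)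

end Cfsg.Agent.Helper2.InvE
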