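import Mathlib
import Cfsg.Agent.Lib.Helper2.InvEGen
import Cfsg.Agent.Lib.Helper18.InvC2Main
import Cfsg.Agent.Lib.Helper16.InvNRankE8
import Cfsg.Agent.Lib.Helper25.InvNTABP
import Cfsg.Agent.Lib.Lead.ChevFactsAll
import Cfsg.Agent.Lib.Lead.ChevOrderAll

/-!
# `E₈(q)`, `q` even: exactly four classes of involutions (helper2, S2176)
-/

set_option autoImplicit false
set_option linter.unusedSectionVars false
set_option linter.unusedVariables false
set_option maxRecDepth 100000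

namespace Cfsg.Agent.Helper2.InvE

open Cfsg Cfsg.Lie Cfsg.Agent.Lead.Chev Cfsg.Agent.Helper13.InvN Cfsg.Agent.Helper16.RK

variable {F : Type*} [Field F] [CharP F 2]

theorem hmemE8 : chevE8 ∈ [chevG2, chevB2, chevD4, chevF4, chevE6, chevE7, chevE8] := by simp

/-- the facts for `E₈` -/
theorem hE8 : ChevFacts chevE8 F := chevFacts_of_mem chevE8 hmemE8

/-- the four matrices of the statement -/
def matsE8 (F : Type*) [Field F] : List (Matrix chevE8.Idx chevE8.Idx F) :=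
  [chevE8.x F 239 1, chevE8.x F 232 1 * chevE8.x F 233 1,
    chevE8.x F 228 1 * chevE8.x F 222 1 * chevE8.x F 218 1,
    chevE8.x F 226 1 * chevE8.x F 220 1 * chevE8.x F 213 1 * chevE8.x F 216 1]

theorem e8_val_mem (hF : ChevFacts chevE8 F) (rep : List ℕ) (h : rep ∈ repsE8) :
    ((xprod hF rep : GL chevE8.Idx F) : Matrix chevE8.Idx chevE8.Idx F) ∈ matsE8 F := by
  simp only [repsE8, List.mem_cons, List.mem_nil_iff, or_false] at h
  rcases h with rfl | rfl | rfl | rfl <;>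
    simp [matsE8, xprod, xGL_val, mul_assoc]

theorem e8_eq_xprod (hF : ChevFacts chevE8 F) (y : GL chevE8.Idx F)
    (h : (y : Matrix chevE8.Idx chevE8.Idx F) ∈ matsE8 F) : ∃ rep ∈ repsE8, y = xprod hF rep := by
  simp only [matsE8, List.mem_cons, List.mem_nil_iff, or_false] at h
  rcases h with h | h | h | h
  · exact ⟨[239], by simp [repsE8], Units.ext (by rw [h]; simp [xprod, xGL_val])⟩
  · exact ⟨[232, 233], by simp [repsE8], Units.ext (by rw [h]; simp [xprod, xGL_val])⟩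
  · exact ⟨[228, 222, 218], by simp [repsE8],
      Units.ext (by rw [h]; simp [xprod, xGL_val, mul_assoc])⟩
  · exact ⟨[226, 220, 213, 216], by simp [repsE8],
      Units.ext (by rw [h]; simp [xprod, xGL_val, mul_assoc])⟩

theorem e8_sq_chk : ∀ L ∈ repsE8, collect chevE8 200 (L ++ L) = [] := by decide +kernel

theorem e8_rk (hF : ChevFacts chevE8 F) :
    rkE hF [239] = 58 ∧ rkE hF [232, 233] = 92 ∧ rkE hF [228, 222, 218] = 110 ∧
      rkE hF [226, 220, 213, 216] = 120 :=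
  ⟨rank_E8_1 hF, rank_E8_2 hF, rank_E8_3 hF, rank_E8_4 hF⟩

/-- the statement of S2176, from the generic theorem -/
theorem e8_main_of_gen (hF : ChevFacts chevE8 F)
    (Hgen : ∀ g ∈ chevE8.group F, g * g = 1 →
      ∃ S ∈ tabE8.frames, CJ chevE8 F g (xprod hF (frameRoots chevE8 S))) :
    (∀ y : GL chevE8.Idx F, (y : Matrix chevE8.Idx chevE8.Idx F) ∈ matsE8 F →
      y ∈ chevE8.group F ∧ orderOf y = 2) ∧
    (∀ g ∈ chevE8.group F, orderOf g = 2 → ∃ y ∈ chevE8.group F,
      (y : Matrix chevE8.Idx chevE8.Idx F) ∈ matsE8 F ∧ ∃ h ∈ chevE8.group F, h * g * h⁻¹ = y) ∧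
    (∀ y₁ ∈ chevE8.group F, ∀ y₂ ∈ chevE8.group F,
      (y₁ : Matrix chevE8.Idx chevE8.Idx F) ∈ matsE8 F →
      (y₂ : Matrix chevE8.Idx chevE8.Idx F) ∈ matsE8 F →
      (∃ h ∈ chevE8.group F, h * y₁ * h⁻¹ = y₂) →
      (y₁ : Matrix chevE8.Idx chevE8.Idx F) = (y₂ : Matrix chevE8.Idx chevE8.Idx F)) := by
  obtain ⟨k1, k2, k3, k4⟩ := e8_rk hF
  refine inve_main hF repsE8 tabE8 (matsE8 F) (e8_val_mem hF) (e8_eq_xprod hF) e8_sq_chk ?_ ?_
    (c2_E8 hF) Hgen
  · intro rep hrep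
    simp only [repsE8, List.mem_cons, List.mem_nil_iff, or_false] at hrep
    rcases hrep with rfl | rfl | rfl | rfl <;> omega
  · intro r1 hr1 r2 hr2 h
    simp only [repsE8, List.mem_cons, List.mem_nil_iff, or_false] at hr1 hr2
    rcases hr1 with rfl | rfl | rfl | rfl <;> rcases hr2 with rfl | rfl | rfl | rfl <;>
      first
      | rfl
      | (exfalso; omega)

end Cfsg.Agent.Helper2.InvE
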