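import Mathlib
import Cfsg.Agent.Lib.Helper3.J1Defs

/-!
S0448 piece H0D (helper2): the involutions of `H0` other than `z0` with equal first coordinate are conjugate.
-/

set_option autoImplicit false
set_option linter.unusedSectionVars false
set_option linter.unusedVariables false

namespace Cfsg.Agent.Helper3.J1

open Cfsg

set_option maxRecDepth 100000 in
/-- all involutions of `A5` are conjugate, by enumeration -/
theorem h0d_a5 : ∀ a b : alternatingGroup (Fin 5), a ≠ 1 → a * a = 1 → b ≠ 1 → b * b = 1 →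
    ∃ c : alternatingGroup (Fin 5), c * a * c⁻¹ = b := by
  decide +kernel

theorem h0d_invol_iff {M : Type*} [Monoid M] (h : M) : orderOf h = 2 ↔ h ≠ 1 ∧ h * h = 1 := by
  constructor
  · intro ho
    refine ⟨?_, ?_⟩
    · intro h1
      rw [h1, orderOf_one] at ho
      omega
    · have := pow_orderOf_eq_one h
      rwa [ho, pow_two] at this
  · rintro ⟨h1, h2⟩
    have : Fact (Nat.Prime 2) := ⟨Nat.prime_two⟩
    exact orderOf_eq_prime (by rw [pow_two]; exact h2) h1

/-- PIECE H0D: the involutions `≠ z0` form two classes `(1,σ)` and `(z,σ)` -/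
theorem h0_invol (h k : H0) (hh : orderOf h = 2) (hk : orderOf k = 2) (h1 : h ≠ z0) (k1 : k ≠ z0)
    (hk' : h.1 = k.1) : IsConj h k := by
  obtain ⟨hne, hsq⟩ := (h0d_invol_iff h).mp hh
  obtain ⟨kne, ksq⟩ := (h0d_invol_iff k).mp hk
  obtain ⟨a, σ⟩ := h
  obtain ⟨b, τ⟩ := k
  simp only at hk'
  subst hk'
  have hσ2 : σ * σ = 1 := by
    have := congrArg Prod.snd hsq
    simpa using this
  have hτ2 : τ * τ = 1 := by
    have := congrArg Prod.snd ksq
    simpa using this
  have key : ∀ (a : Multiplicative (ZMod 2)) (ρ : alternatingGroup (Fin 5)),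
      ((a, ρ) : H0) ≠ 1 → ((a, ρ) : H0) ≠ z0 → ρ ≠ 1 := by
    intro a ρ hne hz hρ
    subst hρ
    have ha : a = 1 ∨ a = Multiplicative.ofAdd 1 := by
      revert a
      decide
    rcases ha with rfl | rfl
    · exact hne rfl
    · exact hz rfl
  have hσ1 : σ ≠ 1 := key a σ hne h1
  have hτ1 : τ ≠ 1 := key a τ kne k1
  obtain ⟨c, hc⟩ := h0d_a5 σ τ hσ1 hσ2 hτ1 hτ2
  rw [isConj_iff]
  refine ⟨((1, c) : H0), ?_⟩
  apply Prod.ext
  · simp
  · simpa using hc

end Cfsg.Agent.Helper3.J1
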