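import Mathlib
import Cfsg.Agent.Lib.Helper3.J1Defs

/-!
S0448 piece H0E (helper2): the conjugacy classes of `H0 = Z2 × A5`, by enumeration.
-/

set_option autoImplicit false
set_option linter.unusedSectionVars false
set_option linter.unusedVariables false

namespace Cfsg.Agent.Helper3.J1

open Cfsg

set_option synthInstance.maxHeartbeats 400000 in
set_option synthInstance.maxSize 2000 in
set_option maxRecDepth 100000 in
theorem h0e_model1 :
    (∀ h : H0, h = 1 ∨ (h ≠ 1 ∧ h * h = 1) ∨ (∃ c : H0, c * h * c⁻¹ = x0) ∨ (∃ c : H0, c * h * c⁻¹ = w0) ∨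
      (∃ c : H0, c * h * c⁻¹ = y0) ∨ (∃ c : H0, c * h * c⁻¹ = y0 ^ 2) ∨
      (∃ c : H0, c * h * c⁻¹ = v0) ∨ (∃ c : H0, c * h * c⁻¹ = v0 ^ 3)) := by
  decide +kernel

set_option maxRecDepth 100000 in
theorem h0e_model2 :
    Fintype.card {h : H0 // (h ≠ 1 ∧ h * h = 1) ∧ h.1 = 1} = 15 ∧
    Fintype.card {h : H0 // (h ≠ 1 ∧ h * h = 1) ∧ h.1 ≠ 1 ∧ h ≠ z0} = 15 := by
  decide +kernel

set_option maxRecDepth 100000 in
theorem h0e_model3 :
    Fintype.card {h : H0 // ∃ c : H0, c * h * c⁻¹ = x0} = 20 ∧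
    Fintype.card {h : H0 // ∃ c : H0, c * h * c⁻¹ = w0} = 20 := by
  decide +kernel

set_option maxRecDepth 100000 in
theorem h0e_model4 :
    Fintype.card {h : H0 // ∃ c : H0, c * h * c⁻¹ = y0} = 12 ∧
    Fintype.card {h : H0 // ∃ c : H0, c * h * c⁻¹ = y0 ^ 2} = 12 := by
  decide +kernel

set_option maxRecDepth 100000 in
theorem h0e_model5 :
    Fintype.card {h : H0 // ∃ c : H0, c * h * c⁻¹ = v0} = 12 ∧
    Fintype.card {h : H0 // ∃ c : H0, c * h * c⁻¹ = v0 ^ 3} = 12 := by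
  decide +kernel

theorem h0e_invol_iff {M : Type*} [Monoid M] (h : M) : orderOf h = 2 ↔ h ≠ 1 ∧ h * h = 1 := by
  constructor
  · intro ho
    refine ⟨?_, ?_⟩
    · intro h1
      rw [h1, orderOf_one] at ho
      omega
    · have := pow_orderOf_eq_one h
      rwa [ho, pow_two] at this
  · rintro ⟨h1, h2⟩
    have : Fact (Nat.Prime 2) := ⟨Nat.prime_two⟩
    exact orderOf_eq_prime (by rw [pow_two]; exact h2) h1

theorem h0e_card_conj (x : H0) :
    Nat.card {h : H0 // IsConj h x} = Fintype.card {h : H0 // ∃ c : H0, c * h * c⁻¹ = x} := by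
  rw [← Nat.card_eq_fintype_card]
  exact Nat.card_congr (Equiv.subtypeEquivRight (fun h => isConj_iff))

/-- PIECE H0E -/
theorem h0_classes :
    (∀ h : H0, h = 1 ∨ orderOf h = 2 ∨ IsConj h x0 ∨ IsConj h w0 ∨ IsConj h y0 ∨ IsConj h (y0 ^ 2) ∨
      IsConj h v0 ∨ IsConj h (v0 ^ 3)) ∧
    Nat.card {h : H0 // orderOf h = 2 ∧ h.1 = 1} = 15 ∧
    Nat.card {h : H0 // orderOf h = 2 ∧ h.1 ≠ 1 ∧ h ≠ z0} = 15 ∧
    Nat.card {h : H0 // IsConj h x0} = 20 ∧ Nat.card {h : H0 // IsConj h w0} = 20 ∧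
    Nat.card {h : H0 // IsConj h y0} = 12 ∧ Nat.card {h : H0 // IsConj h (y0 ^ 2)} = 12 ∧
    Nat.card {h : H0 // IsConj h v0} = 12 ∧ Nat.card {h : H0 // IsConj h (v0 ^ 3)} = 12 := by
  refine ⟨?_, ?_, ?_, ?_, ?_, ?_, ?_, ?_, ?_⟩
  · intro h
    rcases h0e_model1 h with h1 | h1 | h1 | h1 | h1 | h1 | h1 | h1
    · exact Or.inl h1
    · exact Or.inr (Or.inl ((h0e_invol_iff h).mpr h1))
    · exact Or.inr (Or.inr (Or.inl (isConj_iff.mpr h1)))
    · exact Or.inr (Or.inr (Or.inr (Or.inl (isConj_iff.mpr h1))))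
    · exact Or.inr (Or.inr (Or.inr (Or.inr (Or.inl (isConj_iff.mpr h1)))))
    · exact Or.inr (Or.inr (Or.inr (Or.inr (Or.inr (Or.inl (isConj_iff.mpr h1))))))
    · exact Or.inr (Or.inr (Or.inr (Or.inr (Or.inr (Or.inr (Or.inl (isConj_iff.mpr h1)))))))
    · exact Or.inr (Or.inr (Or.inr (Or.inr (Or.inr (Or.inr (Or.inr (isConj_iff.mpr h1)))))))
  · rw [← h0e_model2.1, ← Nat.card_eq_fintype_card]
    exact Nat.card_congr (Equiv.subtypeEquivRight (fun h => by rw [h0e_invol_iff]))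
  · rw [← h0e_model2.2, ← Nat.card_eq_fintype_card]
    exact Nat.card_congr (Equiv.subtypeEquivRight (fun h => by rw [h0e_invol_iff]))
  · rw [h0e_card_conj]; exact h0e_model3.1
  · rw [h0e_card_conj]; exact h0e_model3.2
  · rw [h0e_card_conj]; exact h0e_model4.1
  · rw [h0e_card_conj]; exact h0e_model4.2
  · rw [h0e_card_conj]; exact h0e_model5.1
  · rw [h0e_card_conj]; exact h0e_model5.2

end Cfsg.Agent.Helper3.J1
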