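import Mathlib
import Cfsg.Agent.Lib.Helper3.J1Defs
import Cfsg.Prelude.Def_SporadicB

/-!
S0448 piece SYL (helper2).
-/

set_option autoImplicit false
set_option linter.unusedSectionVars false
set_option linter.unusedVariables false

namespace Cfsg.Agent.Helper3.J1

open Cfsg

universe u

section Grp

variable {G : Type u} [Group G]

/-- PIECE SYL -/
theorem sylow_facts [Finite G] (t : G) (ht : Cfsg.IsTwoCentralInvolution t)
    (hc : Nat.card (Subgroup.centralizer ({t} : Set G)) = 120) :
    8 ∣ Nat.card G ∧ ¬ 16 ∣ Nat.card G ∧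
    ∀ s : G, orderOf s = 2 → ∃ g : G, g * s * g⁻¹ ∈ Subgroup.centralizer ({t} : Set G) := by
  classical
  have : Fact (Nat.Prime 2) := ⟨Nat.prime_two⟩
  obtain ⟨ht2, P, htP, hP⟩ := ht
  have hPC : (P : Subgroup G) ≤ Subgroup.centralizer ({t} : Set G) := by
    intro x hx
    rw [Subgroup.mem_centralizer_iff]
    intro y hy
    rw [Set.mem_singleton_iff] at hy
    rw [hy]
    exact (hP x hx).symm
  have hdvd : Nat.card (P : Subgroup G) ∣ 120 := by
    rw [← hc]
    exact Subgroup.card_dvd_of_le hPC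
  have h120 : (120 : ℕ) ∣ Nat.card G := by
    rw [← hc]
    exact Subgroup.card_subgroup_dvd_card _
  refine ⟨dvd_trans (by norm_num) h120, ?_, ?_⟩
  · intro h16
    -- `16 ∣ |P|`
    have hcardP : Nat.card (P : Subgroup G) = 2 ^ (Nat.card G).factorization 2 :=
      Sylow.card_eq_multiplicity P
    have hpos : Nat.card G ≠ 0 := Nat.card_pos.ne'
    have h4 : 4 ≤ (Nat.card G).factorization 2 := by
      have : (2 : ℕ) ^ 4 ∣ Nat.card G := by norm_num; exact h16
      exact (Nat.Prime.pow_dvd_iff_le_factorization Nat.prime_two hpos).mp this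
    have : (2 : ℕ) ^ 4 ∣ Nat.card (P : Subgroup G) := by
      rw [hcardP]
      exact pow_dvd_pow 2 h4
    have h16' : (16 : ℕ) ∣ 120 := dvd_trans (by norm_num at this ⊢; exact this) hdvd
    omega
  · intro s hs
    have hpg : IsPGroup 2 (Subgroup.zpowers s) := by
      apply IsPGroup.of_card (n := 1)
      rw [Nat.card_zpowers, hs, pow_one]
    obtain ⟨Q, hQ⟩ := hpg.exists_le_sylow
    obtain ⟨g, hg⟩ := MulAction.exists_smul_eq G Q P
    refine ⟨g, hPC ?_⟩
    have hsQ : s ∈ (Q : Subgroup G) := hQ (Subgroup.mem_zpowers s)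
    have : g * s * g⁻¹ ∈ ((g • Q : Sylow 2 G) : Subgroup G) := by
      rw [Sylow.coe_subgroup_smul, Subgroup.mem_pointwise_smul_iff_inv_smul_mem]
      simp only [MulAut.smul_def, MulAut.conj_inv_apply]
      have e : g⁻¹ * (g * s * g⁻¹) * g = s := by group
      rw [e]
      exact hsQ
    rw [hg] at this
    exact this

end Grp

end Cfsg.Agent.Helper3.J1
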