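import Mathlib
import Cfsg.Prelude.Def_JComponents
import Cfsg.Agent.Lib.Helper19.JCDefs
import Cfsg.Agent.Lib.Helper1.JCW1
import Cfsg.Agent.Lib.Helper14.Ambient
import Cfsg.Agent.Lib.Helper15.JC45Defs
import Cfsg.Agent.Lib.Helper2.JC45IND

/-!
# S2945 piece FIXB (helper2)
-/

set_option autoImplicit false
set_option linter.unusedSectionVars false
set_option linter.unusedVariables false

namespace Cfsg.Agent.Helper15.JC45

open Cfsg Cfsg.Agent.Helper19.JC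

universe u

variable {G : Type u} [Group G] [Finite G]

theorem fixb_mem_cj {a x : G} {H : Subgroup G} : x ∈ cj a H ↔ a⁻¹ * x * a ∈ H := by
  constructor
  · rintro ⟨h, hh, rfl⟩
    simpa [mul_assoc] using hh
  · intro h
    exact ⟨a⁻¹ * x * a, h, by simp [mul_assoc]⟩

theorem fixb_cj_one (H : Subgroup G) : cj (1 : G) H = H := by
  ext x
  rw [fixb_mem_cj]
  simp

theorem fixb_cj_mul (a b : G) (H : Subgroup G) : cj (a * b) H = cj a (cj b H) := by
  ext x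
  simp only [fixb_mem_cj, mul_inv_rev, mul_assoc]

theorem fixb_cj_inj {a : G} {H₁ H₂ : Subgroup G} (h : cj a H₁ = cj a H₂) : H₁ = H₂ := by
  ext x
  have h1 : a * x * a⁻¹ ∈ cj a H₁ ↔ a * x * a⁻¹ ∈ cj a H₂ := by rw [h]
  simpa [fixb_mem_cj, mul_assoc] using h1

theorem fixb_cj_of_normalizer {a : G} {H : Subgroup G}
    (ha : a ∈ Subgroup.normalizer (H : Set G)) : cj a H = H := by
  ext x
  rw [fixb_mem_cj]
  rw [Subgroup.mem_normalizer_iff] at ha
  rw [ha (a⁻¹ * x * a)]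
  simp [mul_assoc]

theorem fixb_core {K W A : Subgroup G} (hWK : W ≤ K)
    (hfpf : ∀ w ∈ W, (∀ k ∈ K, k * w = w * k) → w = 1)
    (hcent : ∀ a ∈ A, ∀ b ∈ A, cj a W ≠ cj b W →
      ∀ k ∈ cj a K, ∀ w ∈ cj b W, k * w = w * k) :
    Nat.card ↥((⨆ a : ↥A, cj (a : G) W) ⊓ Subgroup.centralizer (A : Set G)) ≤
      Nat.card ↥(W ⊓ Subgroup.centralizer
        ((A ⊓ Subgroup.normalizer (W : Set G) : Subgroup G) : Set G)) := by
  classical
  set Sg : Subgroup G := ⨆ a : ↥A, cj (a : G) W with hSg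
  set S' : Subgroup G := sSup {H | ∃ a ∈ A, cj a W ≠ W ∧ H = cj a W} with hS'
  -- (1)
  have hS'K : S' ≤ Subgroup.centralizer (K : Set G) := by
    apply sSup_le
    rintro _ ⟨a, ha, hne, rfl⟩
    intro w hw
    rw [Subgroup.mem_centralizer_iff]
    intro k hk
    have h1 : cj (1 : G) W ≠ cj a W := by
      rw [fixb_cj_one]
      exact fun h => hne h.symm
    exact hcent 1 A.one_mem a ha h1 k (by rw [fixb_cj_one]; exact hk) w hw
  have hinf : ∀ w ∈ W, w ∈ S' → w = 1 := fun w hw hw' =>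
    hfpf w hw (fun k hk => (Subgroup.mem_centralizer_iff.mp (hS'K hw')) k hk)
  -- (3)
  have hle : Sg ≤ W ⊔ S' := by
    apply iSup_le
    intro a
    by_cases h : cj (a : G) W = W
    · rw [h]
      exact le_sup_left
    · exact le_sup_of_le_right (le_sSup ⟨a, a.2, h, rfl⟩)
  have hcomm : ∀ w ∈ W, ∀ s ∈ S', w * s = s * w := fun w hw s hs =>
    (Subgroup.mem_centralizer_iff.mp (hS'K hs)) w (hWK hw)
  have hdec : ∀ σ ∈ Sg, ∃ w ∈ W, ∃ s ∈ S', σ = w * s := fun σ hσ =>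
    ind_exists_mul hcomm σ (hle hσ)
  -- (6) uniqueness
  have huniq : ∀ w₁ ∈ W, ∀ w₂ ∈ W, ∀ s₁ ∈ S', ∀ s₂ ∈ S', w₁ * s₁ = w₂ * s₂ → w₁ = w₂ := by
    intro w₁ hw₁ w₂ hw₂ s₁ hs₁ s₂ hs₂ h
    have h1 : w₂⁻¹ * w₁ = s₂ * s₁⁻¹ := by
      have : w₁ = w₂ * s₂ * s₁⁻¹ := by rw [← h]; group
      rw [this]; group
    have h2 : w₂⁻¹ * w₁ = 1 :=
      hinf _ (W.mul_mem (W.inv_mem hw₂) hw₁) (h1 ▸ S'.mul_mem hs₂ (S'.inv_mem hs₁))
    calc w₁ = w₂ * (w₂⁻¹ * w₁) := by group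
      _ = w₂ := by rw [h2, mul_one]
  -- (7) `A₀` normalizes `S'`
  have hnorm : ∀ b ∈ A, b ∈ Subgroup.normalizer (W : Set G) → ∀ s ∈ S', b * s * b⁻¹ ∈ S' := by
    intro b hb hbW
    have : S' ≤ S'.comap (MulAut.conj b).toMonoidHom := by
      apply sSup_le
      rintro _ ⟨a, ha, hne, rfl⟩
      intro x hx
      rw [Subgroup.mem_comap]
      have hx' : (MulAut.conj b).toMonoidHom x ∈ cj (b * a) W := by
        rw [fixb_cj_mul]
        exact ⟨x, hx, rfl⟩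
      have hne' : cj (b * a) W ≠ W := by
        intro h
        rw [fixb_cj_mul] at h
        have h2 : cj b (cj a W) = cj b W := by rw [h, fixb_cj_of_normalizer hbW]
        exact hne (fixb_cj_inj h2)
      have hmem : cj (b * a) W ∈ {H | ∃ a ∈ A, cj a W ≠ W ∧ H = cj a W} :=
        ⟨b * a, A.mul_mem hb ha, hne', rfl⟩
      exact (le_sSup hmem) hx'
    intro s hs
    have := this hs
    rw [Subgroup.mem_comap] at this
    simpa using this
  -- (9)
  have htriv : ∀ σ ∈ Sg, σ ∈ Subgroup.centralizer (A : Set G) → σ ∈ S' → σ = 1 := by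
    intro σ hσ hσA hσS'
    have hσA' : ∀ a ∈ A, a * σ = σ * a := fun a ha => (Subgroup.mem_centralizer_iff.mp hσA) a ha
    have hσK : ∀ k ∈ K, k * σ = σ * k := fun k hk =>
      (Subgroup.mem_centralizer_iff.mp (hS'K hσS')) k hk
    refine ind_fix (ι := ↥A) (fun a => cj (a : G) K) (fun a => cj (a : G) W) ?_ ?_ ?_ σ hσ ?_
    · intro a w hw hfix
      rw [fixb_mem_cj] at hw
      have h1 : (a : G)⁻¹ * w * a = 1 := by
        apply hfpf _ hw
        intro k hk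
        have hk' : (a : G) * k * (a : G)⁻¹ ∈ cj (a : G) K := by
          rw [fixb_mem_cj]
          simpa [mul_assoc] using hk
        have h2 := hfix _ hk'
        calc k * ((a : G)⁻¹ * w * a) = (a : G)⁻¹ * ((a : G) * k * (a : G)⁻¹ * w) * a := by group
          _ = (a : G)⁻¹ * (w * ((a : G) * k * (a : G)⁻¹)) * a := by rw [h2]
          _ = (a : G)⁻¹ * w * a * k := by group
      calc w = (a : G) * ((a : G)⁻¹ * w * a) * (a : G)⁻¹ := by group
        _ = 1 := by rw [h1]; group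
    · intro a b hne k hk w hw
      exact hcent a a.2 b b.2 hne k hk w hw
    · intro a
      exact Subgroup.map_mono hWK
    · intro a k hk
      rw [fixb_mem_cj] at hk
      have h1 := hσK _ hk
      have h2 := hσA' a a.2
      have h3 : (a : G)⁻¹ * σ = σ * (a : G)⁻¹ := by
        calc (a : G)⁻¹ * σ = (a : G)⁻¹ * (σ * a) * (a : G)⁻¹ := by group
          _ = (a : G)⁻¹ * (a * σ) * (a : G)⁻¹ := by rw [h2]
          _ = σ * (a : G)⁻¹ := by group
      calc k * σ = (a : G) * ((a : G)⁻¹ * k * a) * ((a : G)⁻¹ * σ) := by group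
        _ = (a : G) * ((a : G)⁻¹ * k * a) * (σ * (a : G)⁻¹) := by rw [h3]
        _ = (a : G) * ((a : G)⁻¹ * k * a * σ) * (a : G)⁻¹ := by group
        _ = (a : G) * (σ * ((a : G)⁻¹ * k * a)) * (a : G)⁻¹ := by rw [h1]
        _ = (a : G) * σ * ((a : G)⁻¹ * k * a) * (a : G)⁻¹ := by group
        _ = σ * a * ((a : G)⁻¹ * k * a) * (a : G)⁻¹ := by rw [h2]
        _ = σ * k := by group
  -- (8) + (10)
  set D : Subgroup G := Sg ⊓ Subgroup.centralizer (A : Set G) with hD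
  set E : Subgroup G := W ⊓ Subgroup.centralizer
        ((A ⊓ Subgroup.normalizer (W : Set G) : Subgroup G) : Set G) with hE
  have hdec' : ∀ σ : D, ∃ w : E, ∃ s ∈ S', (σ : G) = (w : G) * s := by
    intro σ
    obtain ⟨w, hw, s, hs, hσ⟩ := hdec σ σ.2.1
    have hσA' : ∀ a ∈ A, a * (σ : G) = σ * a := fun a ha =>
      (Subgroup.mem_centralizer_iff.mp σ.2.2) a ha
    refine ⟨⟨w, hw, ?_⟩, s, hs, hσ⟩
    show w ∈ Subgroup.centralizer ((A ⊓ Subgroup.normalizer (W : Set G) : Subgroup G) : Set G)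
    rw [Subgroup.mem_centralizer_iff]
    intro b hb
    have hbA : b ∈ A := hb.1
    have hbW : b ∈ Subgroup.normalizer (W : Set G) := hb.2
    have hw' : b * w * b⁻¹ ∈ W := (Subgroup.mem_normalizer_iff.mp hbW w).mp hw
    have hs' : b * s * b⁻¹ ∈ S' := hnorm b hbA hbW s hs
    have h1 : (b * w * b⁻¹) * (b * s * b⁻¹) = w * s := by
      have h2 := hσA' b hbA
      calc (b * w * b⁻¹) * (b * s * b⁻¹) = b * (w * s) * b⁻¹ := by group
        _ = b * (σ : G) * b⁻¹ := by rw [hσ]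
        _ = (σ : G) * b * b⁻¹ := by rw [h2]
        _ = w * s := by rw [hσ]; group
    have h3 := huniq _ hw' _ hw _ hs' _ hs h1
    calc b * w = (b * w * b⁻¹) * b := by group
      _ = w * b := by rw [h3]
  choose f hf using hdec'
  apply Nat.card_le_card_of_injective f
  intro σ₁ σ₂ h12
  obtain ⟨s₁, hs₁, h1⟩ := hf σ₁
  obtain ⟨s₂, hs₂, h2⟩ := hf σ₂
  have h3 : (σ₁ : G)⁻¹ * σ₂ = s₁⁻¹ * s₂ := by
    rw [h1, h2, h12]; group
  have h4 : (σ₁ : G)⁻¹ * σ₂ ∈ D := D.mul_mem (D.inv_mem σ₁.2) σ₂.2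
  have h5 : (σ₁ : G)⁻¹ * σ₂ = 1 :=
    htriv _ h4.1 h4.2 (h3 ▸ S'.mul_mem (S'.inv_mem hs₁) hs₂)
  apply Subtype.ext
  calc (σ₁ : G) = σ₁ * ((σ₁ : G)⁻¹ * σ₂) := by rw [h5, mul_one]
    _ = σ₂ := by group

theorem fixb {K J A : Subgroup G} (c : Comp K J) (hAc : ∀ a ∈ A, ∀ b ∈ A, a * b = b * a)
    (hcent : ∀ a ∈ A, ∀ b ∈ A, cj a (wOf K) ≠ cj b (wOf K) →
      ∀ k ∈ cj a K, ∀ w ∈ cj b (wOf K), k * w = w * k) :
    Nat.card ↥((⨆ a : ↥A, cj (a : G) (wOf K)) ⊓ Subgroup.centralizer (A : Set G)) ≤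
      Nat.card ↥(wOf K ⊓ Subgroup.centralizer
        ((A ⊓ Subgroup.normalizer (wOf K : Set G) : Subgroup G) : Set G)) :=
  fixb_core (c.W_le_P0.trans (Cfsg.Agent.Helper14.pCoreOf_le 2 K)) c.W_fpf hcent

end Cfsg.Agent.Helper15.JC45
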