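import Mathlib
import Cfsg.Agent.Lib.Helper27.KVDefs

/-!
# KS12c / S2953' (helper27's farm-out): piece PGRPA (helper2)

Seven small lemmas on `P = K ⊔ T` (`K` a `J(T)`-component normalized by the 2-group `T`, `T` a Sylow 2-subgroup of `P`):
`isSylowTwoIn_of_le`, `pCoreOf_comp_le`, `relIndex_sup_eq_three`, `not_le_normalizer_of_comp`, `not_commutator_le_pCoreOf`,
`centralizer_pCoreOf_le`, `normalizer_omegaCenterOf_le`, with the exact signatures of `plans/KW_Skel.lean.txt`.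
-/

set_option autoImplicit false
set_option linter.unusedVariables false
set_option linter.unusedSectionVars false
set_option linter.style.haveILetI false

namespace Cfsg.Agent.Helper27.KV

open Cfsg Cfsg.Agent.Helper13.JCFF Cfsg.Agent.Helper27.KU
open scoped commutatorElement

universe u

variable {G : Type u} [Group G] [Finite G]

/-! ### private tools -/

/-- `|TK : K| = |T : T ∩ K|` when `T` normalizes `K`, in `relIndex` form -/
theorem pgrpa_relIndex_sup {T K : Subgroup G} (hTN : T ≤ Subgroup.normalizer (K : Set G)) :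
    K.relIndex (T ⊔ K) = K.relIndex T := by
  set L := Subgroup.normalizer (K : Set G) with hL
  have hKL : K ≤ L := Subgroup.le_normalizer
  haveI : (K.subgroupOf L).Normal := Subgroup.normal_in_normalizer
  have h1 : (K.subgroupOf L).relIndex (T.subgroupOf L ⊔ K.subgroupOf L) =
      (K.subgroupOf L).relIndex (T.subgroupOf L) := Subgroup.relIndex_sup_right _ _
  rw [← Subgroup.subgroupOf_sup hTN hKL, Subgroup.relIndex_subgroupOf (sup_le hTN hKL),
    Subgroup.relIndex_subgroupOf hTN] at h1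
  exact h1

/-- `|KT : T| = |K : K ∩ T|` when `T` normalizes `K` -/
theorem pgrpa_relIndex_sup' {T K : Subgroup G} (hTN : T ≤ Subgroup.normalizer (K : Set G)) :
    T.relIndex (K ⊔ T) = (K ⊓ T).relIndex K := by
  have ha := Subgroup.relIndex_mul_relIndex (⊥ : Subgroup G) T (K ⊔ T) bot_le le_sup_right
  have hb := Subgroup.relIndex_mul_relIndex (⊥ : Subgroup G) K (K ⊔ T) bot_le le_sup_left
  have hc := Subgroup.relIndex_mul_relIndex (⊥ : Subgroup G) (K ⊓ T) T bot_le inf_le_right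
  have hd := Subgroup.relIndex_mul_relIndex (⊥ : Subgroup G) (K ⊓ T) K bot_le inf_le_left
  have he : K.relIndex (K ⊔ T) = (K ⊓ T).relIndex T := by
    rw [sup_comm, pgrpa_relIndex_sup hTN, Subgroup.inf_relIndex_right]
  rw [Subgroup.relIndex_bot_left] at ha hb hc hd
  rw [Subgroup.relIndex_bot_left] at ha hb hc hd
  rw [he] at hb
  have hi : 0 < Nat.card ↥(K ⊓ T : Subgroup G) := Nat.card_pos
  have ht : 0 < Nat.card ↥T := Nat.card_pos
  -- |T| r = |K ⊔ T| = |K| x = i y x,  |T| = i x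
  have h1 : Nat.card ↥T * T.relIndex (K ⊔ T) = Nat.card ↥T * (K ⊓ T).relIndex K := by
    rw [ha, ← hb, ← hd, ← hc]; ring
  exact Nat.eq_of_mul_eq_mul_left ht h1

/-- a `J(T)`-component is not a 2-group -/
theorem pgrpa_not_isPGroup {T K : Subgroup G} (hK : IsJComponent T K) : ¬ IsPGroup 2 ↥K := by
  intro h2
  have h1 : K ≤ pCoreOf 2 K :=
    Cfsg.Agent.Helper14.le_pCoreOf le_rfl Subgroup.le_normalizer h2
  have h3 : (pCoreOf 2 K).relIndex K = 1 := Subgroup.relIndex_eq_one.mpr h1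
  have h4 := hK.2.2.1
  omega

/-- MAXS (2), private copy: a `J(T)`-component does not normalize `J(T)` -/
theorem pgrpa_comp_not_le_normalizer_J {T K : Subgroup G} (hT2 : IsPGroup 2 ↥T)
    (hK : IsJComponent T K) :
    ¬ K ≤ Subgroup.normalizer (thompsonSubgroupOf 2 T : Set G) := by
  intro hle
  apply pgrpa_not_isPGroup hK
  have hJ2 : IsPGroup 2 ↥(thompsonSubgroupOf 2 T) := Cfsg.Agent.Helper7.JC48.isPGroup_J hT2
  have hKJ : K ≤ thompsonSubgroupOf 2 T := by
    have h1 : ⁅K, thompsonSubgroupOf 2 T⁆ ≤ thompsonSubgroupOf 2 T := by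
      rw [Subgroup.commutator_le]
      intro k hk j hj
      have hkn := hle hk
      rw [Subgroup.mem_normalizer_iff] at hkn
      have h2 : k * j * k⁻¹ ∈ thompsonSubgroupOf 2 T := (hkn j).mp hj
      have h3 : ⁅k, j⁆ = k * j * k⁻¹ * j⁻¹ := rfl
      rw [h3]
      exact Subgroup.mul_mem _ h2 (Subgroup.inv_mem _ hj)
    have h4 := hK.2.1
    rw [h4] at h1
    exact h1
  exact hJ2.to_le hKJ

/-! ### the piece -/

/-- PGRP (1) -/
theorem isSylowTwoIn_of_le {T P L : Subgroup G} (hTL : IsSylowTwoIn T L) (hTP : T ≤ P) (hPL : P ≤ L) :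
    IsSylowTwoIn T P := by
  refine ⟨hTP, hTL.2.1, ?_⟩
  have h := Subgroup.relIndex_mul_relIndex T P L hTP hPL
  have h2 := hTL.2.2
  rw [← h] at h2
  exact (Nat.odd_mul.mp h2).1

/-- PGRP (2) -/
theorem pCoreOf_comp_le {T K : Subgroup G} (hTN : T ≤ Subgroup.normalizer (K : Set G))
    (hsyl : IsSylowTwoIn T (K ⊔ T)) :
    pCoreOf 2 K ≤ pCoreOf 2 (K ⊔ T) ∧ pCoreOf 2 (K ⊔ T) ≤ T := by
  constructor
  · apply Cfsg.Agent.Helper14.le_pCoreOf
    · exact (Cfsg.Agent.Helper14.pCoreOf_le 2 K).trans le_sup_left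
    · exact (sup_le Subgroup.le_normalizer hTN).trans
        (Cfsg.Agent.Helper14.normalizer_le_normalizer_pCoreOf 2 K)
    · exact Cfsg.Agent.Helper14.pCoreOf_isPGroup 2 K
  · exact Cfsg.Agent.Helper7.Glaub.pCoreOf_le_of_isSylowIn
      (Cfsg.Agent.Helper7.JC48.isSylowIn_of_two hsyl)

/-- PGRP (3) -/
theorem relIndex_sup_eq_three {T K : Subgroup G} (hT2 : IsPGroup 2 ↥T) (hK : IsJComponent T K)
    (hTN : T ≤ Subgroup.normalizer (K : Set G)) (hsyl : IsSylowTwoIn T (K ⊔ T)) :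
    T.relIndex (K ⊔ T) = 3 := by
  rw [pgrpa_relIndex_sup' hTN]
  obtain ⟨h1, h2⟩ := pCoreOf_comp_le hTN hsyl
  have hQ : pCoreOf 2 K ≤ K ⊓ T := le_inf (Cfsg.Agent.Helper14.pCoreOf_le 2 K) (h1.trans h2)
  have h3 := Subgroup.relIndex_mul_relIndex (pCoreOf 2 K) (K ⊓ T) K hQ inf_le_left
  rw [hK.2.2.1] at h3
  have hdvd : (K ⊓ T).relIndex K ∣ 3 := Dvd.intro_left _ h3
  have hcases : (K ⊓ T).relIndex K = 1 ∨ (K ⊓ T).relIndex K = 3 :=
    (Nat.dvd_prime Nat.prime_three).mp hdvd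
  rcases hcases with h | h
  · exfalso
    have hle : K ≤ K ⊓ T := Subgroup.relIndex_eq_one.mp h
    exact pgrpa_not_isPGroup hK (hT2.to_le (hle.trans inf_le_right))
  · exact h

/-- PGRP (4) -/
theorem not_le_normalizer_of_comp {T K : Subgroup G} (hT2 : IsPGroup 2 ↥T) (hK : IsJComponent T K) :
    ¬ K ≤ Subgroup.normalizer (T : Set G) := fun h =>
  pgrpa_comp_not_le_normalizer_J hT2 hK
    (h.trans (Cfsg.Agent.Helper7.JC48.normalizer_le_normalizer_J T))

/-- PGRP (6) -/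
theorem not_commutator_le_pCoreOf {T K : Subgroup G} (hT2 : IsPGroup 2 ↥T) (hK : IsJComponent T K)
    (hTN : T ≤ Subgroup.normalizer (K : Set G)) (hsyl : IsSylowTwoIn T (K ⊔ T)) :
    ¬ ⁅K ⊔ T, K ⊔ T⁆ ≤ pCoreOf 2 (K ⊔ T) := by
  intro hc
  apply not_le_normalizer_of_comp hT2 hK
  have hQT : pCoreOf 2 (K ⊔ T) ≤ T := (pCoreOf_comp_le hTN hsyl).2
  have key : ∀ k ∈ K, ∀ t ∈ T, k * t * k⁻¹ ∈ T := by
    intro k hk t ht
    have h1 : ⁅k, t⁆ ∈ ⁅K ⊔ T, K ⊔ T⁆ :=
      Subgroup.commutator_mem_commutator ((le_sup_left : K ≤ K ⊔ T) hk)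
        ((le_sup_right : T ≤ K ⊔ T) ht)
    have h2 : ⁅k, t⁆ ∈ T := hQT (hc h1)
    have h3 : k * t * k⁻¹ = ⁅k, t⁆ * t := by
      rw [commutatorElement_def]; group
    rw [h3]
    exact T.mul_mem h2 ht
  intro k hk
  rw [Subgroup.mem_normalizer_iff]
  intro t
  constructor
  · exact key k hk t
  · intro h
    have := key k⁻¹ (K.inv_mem hk) _ h
    have e : k⁻¹ * (k * t * k⁻¹) * k⁻¹⁻¹ = t := by group
    rwa [e] at this

/-- PGRP (7) -/
theorem centralizer_pCoreOf_le {T P L : Subgroup G} (hLT : L ∈ jOvergroups T) (hTP : T ≤ P) (hPL : P ≤ L) :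
    Subgroup.centralizer (pCoreOf 2 P : Set G) ≤ pCoreOf 2 P := by
  obtain ⟨hsyl, -, hcen⟩ := hLT
  have h1 : pCoreOf 2 L ≤ T :=
    Cfsg.Agent.Helper7.Glaub.pCoreOf_le_of_isSylowIn (Cfsg.Agent.Helper7.JC48.isSylowIn_of_two hsyl)
  have h2 : pCoreOf 2 L ≤ pCoreOf 2 P := by
    apply Cfsg.Agent.Helper14.le_pCoreOf (h1.trans hTP)
    · exact hPL.trans (Cfsg.Agent.Helper14.le_normalizer_pCoreOf 2 L)
    · exact Cfsg.Agent.Helper14.pCoreOf_isPGroup 2 L
  exact ((Subgroup.centralizer_le h2).trans hcen).trans h2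

/-- PGRP (8) -/
theorem normalizer_omegaCenterOf_le (S : Sylow 2 G)
    (hZS : Subgroup.centralizer (omegaCenterOf (S : Subgroup G) : Set G) ≤
      Subgroup.normalizer ((S : Subgroup G) : Set G)) :
    Subgroup.normalizer (omegaCenterOf (S : Subgroup G) : Set G) ≤
      Subgroup.normalizer ((S : Subgroup G) : Set G) := by
  set Z := omegaCenterOf (S : Subgroup G) with hZ
  -- `S ≤ C_G(Z)`
  have hSC : (S : Subgroup G) ≤ Subgroup.centralizer (Z : Set G) := by
    intro s hs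
    rw [Subgroup.mem_centralizer_iff]
    intro z hz
    have hz' := (Cfsg.Agent.Helper19.JC.mem_omegaCenterOf_iff (S : Subgroup G) z).mp hz
    exact (hz'.2.1 s hs).symm
  -- conjugates of `S` by elements of `N_G(Z)` lie in `S`
  have key : ∀ g ∈ Subgroup.normalizer (Z : Set G),
      (S : Subgroup G).map (MulAut.conj g).toMonoidHom ≤ (S : Subgroup G) := by
    intro g hg
    set R := (S : Subgroup G).map (MulAut.conj g).toMonoidHom with hR
    have hR2 : IsPGroup 2 ↥R := S.isPGroup'.map _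
    have hRC : R ≤ Subgroup.centralizer (Z : Set G) := by
      rintro _ ⟨s, hs, rfl⟩
      simp only [MulEquiv.coe_toMonoidHom, MulAut.conj_apply]
      rw [Subgroup.mem_centralizer_iff]
      intro z hz
      -- `g⁻¹ z g ∈ Z`
      have hz1 : g⁻¹ * z * g ∈ Z := by
        have hg' := Subgroup.inv_mem _ hg
        rw [Subgroup.mem_normalizer_iff] at hg'
        have := (hg' z).mp hz
        simpa using this
      have hs' := hSC hs
      rw [Subgroup.mem_centralizer_iff] at hs'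
      have h1 := hs' _ hz1
      -- `(g⁻¹ z g) s = s (g⁻¹ z g)`
      calc z * (g * s * g⁻¹) = g * ((g⁻¹ * z * g) * s) * g⁻¹ := by group
        _ = g * (s * (g⁻¹ * z * g)) * g⁻¹ := by rw [h1]
        _ = g * s * g⁻¹ * z := by group
    have hRN : R ≤ Subgroup.normalizer ((S : Subgroup G) : Set G) := hRC.trans hZS
    have hsup : IsPGroup 2 ↥(R ⊔ (S : Subgroup G) : Subgroup G) :=
      IsPGroup.to_sup_of_normal_right' hR2 S.isPGroup' hRN
    have heq : (R ⊔ (S : Subgroup G) : Subgroup G) = (S : Subgroup G) :=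
      S.is_maximal' hsup le_sup_right
    rw [← heq]
    exact le_sup_left
  intro g hg
  exact Cfsg.Agent.Helper15.mem_normalizer_of_map_conj_le (key g hg)
    (key g⁻¹ (Subgroup.inv_mem _ hg))

end Cfsg.Agent.Helper27.KV
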