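import Mathlib
import Cfsg.Agent.Lib.Helper3.M24IdxDefs

/-!
# S1589 piece IDX-CASES: a group containing `Q23` whose orbit of `dec 23` contains the standard
octad either preserves the octad or is transitive.
-/

set_option autoImplicit false
open Cfsg

namespace Cfsg.Agent.Helper3.M24Idx

open Cfsg.Agent.Helper27 Cfsg.Agent.Helper29 Cfsg.Agent.Helper29.M24
open Cfsg.Agent.Helper29.M23Idx
open Cfsg.Agent.Helper29.FusM23 (Q23)
open Cfsg.Agent.Helper29.IdxTools
open Cfsg.Agent.S0358 (idx)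
open scoped Pointwise

theorem m24idx_cases_rep : ∀ k < 24, octMask.testBit k = false → repOf k = 4 := by
  decide

theorem m24idx_cases_mem_oct0 (p : GolayPt) : p ∈ oct0 ↔ octMask.testBit (idx p) = true := by
  unfold oct0
  rw [mem_maskSet]

/-- IDX-CASES -/
theorem P0_cases_core (K : Subgroup (Equiv.Perm GolayPt)) (hQ : Q23 ≤ K)
    (h1 : ∀ w ∈ oct0, ∃ g ∈ K, g (dec 23) = w) :
    (∀ g ∈ K, g • oct0 = oct0) ∨ IsTrans K := by
  by_cases hp : ∀ g ∈ K, g • oct0 = oct0
  · exact Or.inl hp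
  right
  push Not at hp
  obtain ⟨g, hg, hne⟩ := hp
  -- a point of the octad moved outside by an element of K
  have hmove : ∃ k ∈ K, ∃ w ∈ oct0, k w ∉ oct0 := by
    rw [Ne, smul_eq_iff_forall] at hne
    push Not at hne
    obtain ⟨x, hx⟩ := hne
    rcases hx with ⟨hgx, hxo⟩ | ⟨hgx, hxo⟩
    · refine ⟨g⁻¹, K.inv_mem hg, g x, hgx, ?_⟩
      simpa using hxo
    · exact ⟨g, hg, x, hxo, hgx⟩
  obtain ⟨k, hk, w, hw, hkw⟩ := hmove
  -- the orbit of dec 23 contains a point outside the octad, hence dec 4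
  have hwO : w ∈ Orb K (dec 23) := h1 w hw
  have hkwO : k w ∈ Orb K (dec 23) := (orb_smul K (dec 23) k hk w).2 hwO
  have hrep : ∀ p : GolayPt, p ∉ oct0 → repOf (idx p) = 4 := by
    intro p hp
    apply m24idx_cases_rep _ (M24.idx_lt p)
    rw [m24idx_cases_mem_oct0] at hp
    simpa using hp
  have h4 : dec 4 ∈ Orb K (dec 23) := by
    have := (mem_orb_iff_rep K hQ (dec 23) (k w)).1 hkwO
    rwa [hrep _ hkw] at this
  apply isTrans_of_base K (dec 23)
  intro p
  by_cases hpo : p ∈ oct0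
  · exact h1 p hpo
  · have : p ∈ Orb K (dec 23) := by
      rw [mem_orb_iff_rep K hQ, hrep p hpo]
      exact h4
    exact this

end Cfsg.Agent.Helper3.M24Idx
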