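import Mathlib
import Cfsg.Agent.Lib.Helper26.MHDefs
import Cfsg.Agent.Lib.Helper16.UniqueInvolution
import Cfsg.Agent.S0201

/-!
# S4221 (M. Hall), piece P2B: `φ = 2`, no four-group in a 2-point stabilizer (helper2)

`phi_two_no_four_group` with the exact signature of `plans/MH_Skel.lean.txt`; auxiliaries in the
sub-namespace `Cfsg.Agent.Helper26.MH.P2B`.
-/

set_option autoImplicit false
set_option linter.unusedSectionVars false
set_option linter.unusedVariables false
set_option linter.style.haveILetI false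

namespace Cfsg.Agent.Helper26.MH

open MulAction Cfsg.Agent.Helper22.SharpFour

namespace P2B

variable {G : Type*} [Group G] [Finite G] {α : Type*} [Fintype α] [DecidableEq α] [MulAction G α]

/-- the 2-point stabilizer -/
def X2 (G : Type*) [Group G] {α : Type*} [MulAction G α] (p q : α) : Subgroup G :=
  stabilizer G p ⊓ stabilizer G q

theorem mem_X2 {p q : α} {g : G} : g ∈ X2 G p q ↔ g • p = p ∧ g • q = q := by
  simp only [X2, Subgroup.mem_inf, mem_stabilizer_iff]

/-- elements of `X` preserve the complement of `{p, q}` -/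
theorem smul_ne {p q : α} {g : G} (hg : g ∈ X2 G p q) {x : α} (hx : x ≠ p ∧ x ≠ q) :
    g • x ≠ p ∧ g • x ≠ q := by
  obtain ⟨hp, hq⟩ := mem_X2.mp hg
  constructor
  · intro h
    apply hx.1
    have : g • x = g • p := by rw [h, hp]
    exact smul_left_cancel g this
  · intro h
    apply hx.2
    have : g • x = g • q := by rw [h, hq]
    exact smul_left_cancel g this

/-- `X` is 2-transitive on the complement of `{p, q}` -/
theorem two_trans (h : Hall G α) {p q : α} (hpq : p ≠ q) {x y x' y' : α}
    (hx : x ≠ p ∧ x ≠ q) (hy : y ≠ p ∧ y ≠ q) (hxy : x ≠ y)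
    (hx' : x' ≠ p ∧ x' ≠ q) (hy' : y' ≠ p ∧ y' ≠ q) (hxy' : x' ≠ y') :
    ∃ g ∈ X2 G p q, g • x = x' ∧ g • y = y' := by
  have d1 : D4 p q x y := ⟨hpq, hx.1.symm, hy.1.symm, hx.2.symm, hy.2.symm, hxy⟩
  have d2 : D4 p q x' y' := ⟨hpq, hx'.1.symm, hy'.1.symm, hx'.2.symm, hy'.2.symm, hxy'⟩
  obtain ⟨g, h1, h2, h3, h4⟩ := h.tr p q x y p q x' y' d1 d2
  exact ⟨g, mem_X2.mpr ⟨h1, h2⟩, h3, h4⟩

/-- points outside a small finset -/
theorem exists_notMem (F : Finset α) (hF : F.card < Fintype.card α) : ∃ x : α, x ∉ F := by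
  by_contra hne
  push Not at hne
  have : F = Finset.univ := Finset.eq_univ_iff_forall.mpr hne
  rw [this, Finset.card_univ] at hF
  exact lt_irrefl _ hF

/-- an involution of `X` -/
theorem exists_inv (h : Hall G α) {p q r s : α} (hd : D4 p q r s) :
    ∃ t : G, IsInv t ∧ t • p = p ∧ t • q = q ∧ t • r = s := by
  have hd' : D4 p q s r := ⟨hd.ab, hd.ad, hd.ac, hd.bd, hd.bc, hd.cd.symm⟩
  obtain ⟨g, hp, hq, hr, hs⟩ := h.tr p q r s p q s r hd hd'
  have hmem : g * g ∈ St4 G p q r s := by
    rw [mem_St4]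
    refine ⟨?_, ?_, ?_, ?_⟩
    · rw [mul_smul, hp, hp]
    · rw [mul_smul, hq, hq]
    · rw [mul_smul, hr, hs]
    · rw [mul_smul, hs, hr]
  set m := orderOf (g * g) with hm
  have hmodd : Odd m := by
    have h1 : orderOf (⟨g * g, hmem⟩ : St4 G p q r s) ∣ Nat.card (St4 G p q r s) :=
      orderOf_dvd_natCard _
    rw [Subgroup.orderOf_mk] at h1
    exact (h.odd p q r s hd).of_dvd_nat h1
  have hfix : ∀ k : ℕ, g ^ k • p = p ∧ g ^ k • q = q := by
    intro k
    induction k with
    | zero => simp
    | succ k ih => rw [pow_succ, mul_smul, mul_smul, hp, hq]; exact ih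
  have hsw : ∀ k : ℕ, g ^ (2 * k + 1) • r = s := by
    intro k
    induction k with
    | zero => simpa using hr
    | succ k ih =>
      have e : g ^ (2 * (k + 1) + 1) = g ^ (2 * k + 1) * (g * g) := by
        rw [← pow_two, ← pow_add]
        congr 1
      rw [e, mul_smul, mul_smul, hr, hs]
      exact ih
  obtain ⟨k, hk⟩ := hmodd
  refine ⟨g ^ m, ⟨?_, ?_⟩, (hfix m).1, (hfix m).2, ?_⟩
  · rw [← pow_add, ← two_mul, pow_mul, pow_two, hm, pow_orderOf_eq_one]
  · intro h1
    have h2 := hsw k
    rw [← hk, h1, one_smul] at h2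
    exact hd.cd h2
  · rw [hk]
    exact hsw k

/-- the degree is even -/
theorem even_card (hphi : ∀ t : G, IsInv t → (fixF α t).card = 2) {t : G} (ht : IsInv t) :
    Even (Fintype.card α) := by
  haveI : Fact (Nat.Prime 2) := ⟨Nat.prime_two⟩
  let f : Function.End α := fun x => t • x
  have hf : f ^ 2 ^ 1 = 1 := by
    rw [pow_one, pow_two]
    funext x
    show t • (t • x) = x
    rw [← mul_smul, ht.1, one_smul]
  have h1 := Equiv.Perm.card_fixedPoints_modEq (f := f) (p := 2) (n := 1) hf
  have h2 : Fintype.card (Function.fixedPoints f) = (fixF α t).card := by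
    rw [← Fintype.card_coe]
    apply Fintype.card_congr
    refine ⟨fun x => ⟨x.1, mem_fixF.mpr x.2⟩, fun x => ⟨x.1, mem_fixF.mp x.2⟩, ?_, ?_⟩
    · intro x; rfl
    · intro x; rfl
  rw [h2, hphi t ht] at h1
  have h3 : Fintype.card α % 2 = 0 := by
    have := h1
    unfold Nat.ModEq at this
    simpa using this
  exact Nat.even_iff.mpr h3

/-- an involution of `X` moves every point outside `{p, q}` -/
theorem inv_moves (hphi : ∀ t : G, IsInv t → (fixF α t).card = 2) {p q : α} (hpq : p ≠ q)
    {z : G} (hz : IsInv z) (hzX : z ∈ X2 G p q) {x : α} (hx : x ≠ p ∧ x ≠ q) : z • x ≠ x := by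
  intro hfix
  obtain ⟨hp, hq⟩ := mem_X2.mp hzX
  have hsub : ({p, q, x} : Finset α) ⊆ fixF α z := by
    intro y hy
    rw [mem_fixF]
    simp only [Finset.mem_insert, Finset.mem_singleton] at hy
    rcases hy with rfl | rfl | rfl
    · exact hp
    · exact hq
    · exact hfix
  have hcard : ({p, q, x} : Finset α).card = 3 := by
    rw [Finset.card_insert_of_notMem, Finset.card_insert_of_notMem, Finset.card_singleton]
    · simp only [Finset.mem_singleton]
      exact hx.2.symm
    · simp only [Finset.mem_insert, Finset.mem_singleton]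
      rintro (h | h)
      · exact hpq h
      · exact hx.1 h.symm
  have := Finset.card_le_card hsub
  rw [hcard, hphi z hz] at this
  omega

/-- a central involution of `X` is impossible -/
theorem central_inv_false (h : Hall G α) (h8 : 8 ≤ Fintype.card α)
    (hphi : ∀ t : G, IsInv t → (fixF α t).card = 2) {p q : α} (hpq : p ≠ q)
    {z : G} (hz : IsInv z) (hzX : z ∈ X2 G p q) (hc : ∀ g ∈ X2 G p q, g * z = z * g) : False := by
  obtain ⟨x, hx⟩ := exists_notMem ({p, q} : Finset α) (by
    have := Finset.card_le_two (a := p) (b := q)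
    omega)
  simp only [Finset.mem_insert, Finset.mem_singleton, not_or] at hx
  have hy := smul_ne hzX hx
  have hyx : z • x ≠ x := inv_moves hphi hpq hz hzX hx
  obtain ⟨w, hw⟩ := exists_notMem ({p, q, x, z • x} : Finset α) (by
    have := Finset.card_le_four (a := p) (b := q) (c := x) (d := z • x)
    omega)
  simp only [Finset.mem_insert, Finset.mem_singleton, not_or] at hw
  obtain ⟨g, hgX, hgx, hgy⟩ := two_trans h hpq hx hy (Ne.symm hyx) hx ⟨hw.1, hw.2.1⟩
    (Ne.symm hw.2.2.1)
  have h1 : z • x = w := by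
    calc z • x = z • (g • x) := by rw [hgx]
      _ = (z * g) • x := (mul_smul _ _ _).symm
      _ = (g * z) • x := by rw [hc g hgX]
      _ = g • (z • x) := mul_smul _ _ _
      _ = w := hgy
  exact hw.2.2.2 h1.symm

/-- odd-order normal subgroups of `X` are trivial -/
theorem odd_normal_trivial (h : Hall G α) (h8 : 8 ≤ Fintype.card α)
    (hphi : ∀ t : G, IsInv t → (fixF α t).card = 2) {p q : α} (hpq : p ≠ q)
    (N : Subgroup (X2 G p q)) (hN : N.Normal) (hodd : Odd (Nat.card N)) : N = ⊥ := by
  classical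
  by_contra hne
  obtain ⟨k', hk'⟩ := Subgroup.ne_bot_iff_exists_ne_one.mp hne
  obtain ⟨k, hkN, hk1⟩ : ∃ k : X2 G p q, k ∈ N ∧ k ≠ 1 :=
    ⟨k'.1, k'.2, fun h => hk' (Subtype.ext h)⟩
  -- a moved point
  have hk1' : ((k : X2 G p q) : G) ≠ 1 := fun h => hk1 (Subtype.ext h)
  have hmove : ∃ x : α, ((k : X2 G p q) : G) • x ≠ x := by
    by_contra hall
    push Not at hall
    exact hk1' (h.faithful _ hall)
  obtain ⟨x, hkx⟩ := hmove
  have hkX : ((k : X2 G p q) : G) ∈ X2 G p q := k.2
  have hx : x ≠ p ∧ x ≠ q := by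
    constructor
    · rintro rfl
      exact hkx (mem_X2.mp hkX).1
    · rintro rfl
      exact hkx (mem_X2.mp hkX).2
  have hx' := smul_ne hkX hx
  -- the orbit of `x` under `N` is the complement of `{p, q}`
  have horb : MulAction.orbit N x = {y : α | y ≠ p ∧ y ≠ q} := by
    ext y
    constructor
    · rintro ⟨n, rfl⟩
      exact smul_ne (n : X2 G p q).2 hx
    · intro hy
      by_cases hyx : y = x
      · rw [hyx]
        exact MulAction.mem_orbit_self x
      · obtain ⟨g, hgX, hgx, hgy⟩ := two_trans h hpq hx hx' (Ne.symm hkx) hx hy (Ne.symm hyx)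
        have hconj : (⟨g, hgX⟩ : X2 G p q) * k * (⟨g, hgX⟩ : X2 G p q)⁻¹ ∈ N :=
          hN.conj_mem k hkN _
        refine ⟨⟨_, hconj⟩, ?_⟩
        show (((⟨g, hgX⟩ : X2 G p q) * k * (⟨g, hgX⟩ : X2 G p q)⁻¹ : X2 G p q) : G) • x = y
        rw [Subgroup.coe_mul, Subgroup.coe_mul, Subgroup.coe_inv, mul_smul, mul_smul]
        show g • ((k : X2 G p q) : G) • g⁻¹ • x = y
        have e : g⁻¹ • x = x := by
          rw [inv_smul_eq_iff, hgx]
        rw [e, hgy]
  -- cardinalities
  have hdvd : (MulAction.orbit N x).ncard ∣ Nat.card N := by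
    rw [← MulAction.index_stabilizer]
    exact Subgroup.index_dvd_card _
  have hcard : ({y : α | y ≠ p ∧ y ≠ q} : Set α).ncard = Fintype.card α - 2 := by
    have e : ({y : α | y ≠ p ∧ y ≠ q} : Set α) = ((Finset.univ \ {p, q} : Finset α) : Set α) := by
      ext y
      simp
    rw [e, Set.ncard_coe_finset, Finset.card_sdiff_of_subset (Finset.subset_univ _),
      Finset.card_univ, Finset.card_pair hpq]
  rw [horb, hcard] at hdvd
  -- parity
  obtain ⟨r, hr⟩ := exists_notMem ({p, q} : Finset α) (by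
    have := Finset.card_le_two (a := p) (b := q)
    omega)
  simp only [Finset.mem_insert, Finset.mem_singleton, not_or] at hr
  obtain ⟨s, hs⟩ := exists_notMem ({p, q, r} : Finset α) (by
    have := Finset.card_le_three (a := p) (b := q) (c := r)
    omega)
  simp only [Finset.mem_insert, Finset.mem_singleton, not_or] at hs
  have hd : D4 p q r s := ⟨hpq, Ne.symm hr.1, Ne.symm hs.1, Ne.symm hr.2, Ne.symm hs.2.1,
    Ne.symm hs.2.2⟩
  obtain ⟨t, ht, -, -, -⟩ := exists_inv h hd
  have heven := even_card hphi ht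
  have heven2 : Even (Fintype.card α - 2) := by
    obtain ⟨c, hc⟩ := heven
    exact ⟨c - 1, by omega⟩
  have := (hodd.of_dvd_nat hdvd)
  exact (Nat.not_even_iff_odd.mpr this) heven2

end P2B

variable {G : Type*} [Group G] [Finite G] {α : Type*} [Fintype α] [DecidableEq α] [MulAction G α]

/-- PIECE P2B: `φ = 2`, no four-group in a 2-point stabilizer (section 3b). -/
theorem phi_two_no_four_group (h : Hall G α) (h8 : 8 ≤ Fintype.card α)
    (hphi : ∀ t : G, IsInv t → (fixF α t).card = 2) {p q : α} (hpq : p ≠ q)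
    (hno : ¬ ∃ w₁ w₂ : G, IsInv w₁ ∧ IsInv w₂ ∧ w₁ ≠ w₂ ∧ w₁ * w₂ = w₂ * w₁ ∧
      w₁ • p = p ∧ w₁ • q = q ∧ w₂ • p = p ∧ w₂ • q = q) : False := by
  classical
  haveI : Fact (Nat.Prime 2) := ⟨Nat.prime_two⟩
  -- an involution of `X`
  obtain ⟨r, hr⟩ := P2B.exists_notMem ({p, q} : Finset α) (by
    have := Finset.card_le_two (a := p) (b := q)
    omega)
  simp only [Finset.mem_insert, Finset.mem_singleton, not_or] at hr
  obtain ⟨s, hs⟩ := P2B.exists_notMem ({p, q, r} : Finset α) (by
    have := Finset.card_le_three (a := p) (b := q) (c := r)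
    omega)
  simp only [Finset.mem_insert, Finset.mem_singleton, not_or] at hs
  have hd : D4 p q r s := ⟨hpq, Ne.symm hr.1, Ne.symm hs.1, Ne.symm hr.2, Ne.symm hs.2.1,
    Ne.symm hs.2.2⟩
  obtain ⟨t, ht, htp, htq, -⟩ := P2B.exists_inv h hd
  have htX : t ∈ P2B.X2 G p q := P2B.mem_X2.mpr ⟨htp, htq⟩
  -- involutions of `X` coincide as soon as they commute
  have huniq : ∀ w₁ w₂ : G, IsInv w₁ → IsInv w₂ → w₁ ∈ P2B.X2 G p q → w₂ ∈ P2B.X2 G p q →
      w₁ * w₂ = w₂ * w₁ → w₁ = w₂ := by
    intro w₁ w₂ h1 h2 hX1 hX2 hcomm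
    by_contra hne
    exact hno ⟨w₁, w₂, h1, h2, hne, hcomm, (P2B.mem_X2.mp hX1).1, (P2B.mem_X2.mp hX1).2,
      (P2B.mem_X2.mp hX2).1, (P2B.mem_X2.mp hX2).2⟩
  -- a Sylow 2-subgroup of `X`
  obtain ⟨S⟩ : Nonempty (Sylow 2 (P2B.X2 G p q)) := Sylow.nonempty
  have hSp : IsPGroup 2 (S : Subgroup (P2B.X2 G p q)) := S.isPGroup'
  -- `X` has even order, so `S` is nontrivial
  have htord : orderOf (⟨t, htX⟩ : P2B.X2 G p q) = 2 := by
    apply orderOf_eq_prime
    · apply Subtype.ext
      rw [Subgroup.coe_pow, pow_two]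
      exact ht.1
    · intro h1
      exact ht.2 (congrArg Subtype.val h1)
  have h2X : 2 ∣ Nat.card (P2B.X2 G p q) := by
    rw [← htord]
    exact orderOf_dvd_natCard _
  have h2S : 2 ∣ Nat.card (S : Subgroup (P2B.X2 G p q)) := by
    rw [Sylow.card_eq_multiplicity]
    have hpos : 0 < (Nat.card (P2B.X2 G p q)).factorization 2 :=
      Nat.Prime.factorization_pos_of_dvd Nat.prime_two Nat.card_pos.ne' h2X
    exact dvd_pow_self 2 hpos.ne'
  haveI hSnt : Nontrivial (S : Subgroup (P2B.X2 G p q)) := by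
    rw [← Finite.one_lt_card_iff_nontrivial]
    have := Nat.le_of_dvd Nat.card_pos h2S
    omega
  -- a central involution of `S`
  have hcen : 2 ∣ Nat.card (Subgroup.center (S : Subgroup (P2B.X2 G p q))) := by
    haveI := hSp.center_nontrivial
    obtain ⟨n, hn⟩ := (hSp.to_subgroup (Subgroup.center (S : Subgroup (P2B.X2 G p q)))).exists_card_eq
    rw [hn]
    have hn0 : n ≠ 0 := by
      rintro rfl
      rw [pow_zero] at hn
      have := Finite.one_lt_card_iff_nontrivial.mpr
        (inferInstance : Nontrivial (Subgroup.center (S : Subgroup (P2B.X2 G p q))))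
      omega
    exact dvd_pow_self 2 hn0
  obtain ⟨z, hz⟩ := exists_prime_orderOf_dvd_card' (G := Subgroup.center (S : Subgroup (P2B.X2 G p q))) 2
    hcen
  -- `z` as an element of `G`
  set zG : G := ((((z : Subgroup.center (S : Subgroup (P2B.X2 G p q))) :
    (S : Subgroup (P2B.X2 G p q))) : P2B.X2 G p q) : G) with hzG
  have hzInv : IsInv zG := by
    constructor
    · have h1 : z ^ 2 = 1 := by
        have := pow_orderOf_eq_one z
        rwa [hz] at this
      have h2 := congrArg (fun u : Subgroup.center (S : Subgroup (P2B.X2 G p q)) =>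
        (((u : (S : Subgroup (P2B.X2 G p q))) : P2B.X2 G p q) : G)) h1
      simp only [Subgroup.coe_pow, Subgroup.coe_one] at h2
      rw [← pow_two]
      exact h2
    · intro h1
      have h2 : z = 1 := by
        apply Subtype.ext
        apply Subtype.ext
        apply Subtype.ext
        exact h1
      rw [h2, orderOf_one] at hz
      omega
  have hzX : zG ∈ P2B.X2 G p q := Subtype.property _
  -- every involution of `S` equals `z`
  have hinvS : ∀ x : (S : Subgroup (P2B.X2 G p q)), orderOf x = 2 →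
      ((x : P2B.X2 G p q) : G) = zG := by
    intro x hx
    have hxInv : IsInv ((x : P2B.X2 G p q) : G) := by
      constructor
      · have h1 : x ^ 2 = 1 := by
          have := pow_orderOf_eq_one x
          rwa [hx] at this
        have h2 := congrArg (fun u : (S : Subgroup (P2B.X2 G p q)) => ((u : P2B.X2 G p q) : G)) h1
        simp only [Subgroup.coe_pow, Subgroup.coe_one] at h2
        rw [← pow_two]
        exact h2
      · intro h1
        have h2 : x = 1 := by
          apply Subtype.ext
          apply Subtype.ext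
          exact h1
        rw [h2, orderOf_one] at hx
        omega
    apply huniq _ _ hxInv hzInv (Subtype.property _) hzX
    have hzc := Subgroup.mem_center_iff.mp z.2 x
    have h2 := congrArg (fun u : (S : Subgroup (P2B.X2 G p q)) => ((u : P2B.X2 G p q) : G)) hzc
    simp only [Subgroup.coe_mul] at h2
    exact h2
  have hUniq : Cfsg.Agent.Helper16.UniqueOrderP 2 (S : Subgroup (P2B.X2 G p q)) := by
    intro x y hx hy
    have h1 := hinvS x hx
    have h2 := hinvS y hy
    have : y = x := by
      apply Subtype.ext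
      apply Subtype.ext
      rw [h1, h2]
    rw [this]
    exact Subgroup.mem_zpowers x
  have hO : ∀ N : Subgroup (P2B.X2 G p q), N.Normal → Odd (Nat.card N) → N = ⊥ :=
    fun N hN hodd => P2B.odd_normal_trivial h h8 hphi hpq N hN hodd
  -- cyclic or quaternion
  have hcases : IsCyclic (S : Subgroup (P2B.X2 G p q)) ∨
      ∃ n : ℕ, Nonempty ((S : Subgroup (P2B.X2 G p q)) ≃* QuaternionGroup (2 ^ (n + 1))) := by
    rcases Cfsg.Agent.Helper16.cyclic_or_quaternion_of_uniqueOrderP_two hSp hUniq with hc | ⟨n, ⟨e⟩⟩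
    · exact Or.inl hc
    · rcases Nat.eq_zero_or_pos n with rfl | hn
      · left
        rw [pow_zero] at e
        haveI := QuaternionGroup.quaternionGroup_one_isCyclic
        exact isCyclic_of_surjective e.symm e.symm.surjective
      · right
        obtain ⟨k, rfl⟩ : ∃ k, n = k + 1 := ⟨n - 1, by omega⟩
        exact ⟨k, ⟨e⟩⟩
  rcases hcases with hcyc | ⟨n, ⟨e⟩⟩
  · -- cyclic: normal 2-complement, trivial, so `X = S`
    have hmin : (Nat.card (P2B.X2 G p q)).minFac = 2 := (Nat.minFac_eq_two_iff _).mpr h2X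
    have hcompl := IsCyclic.isComplement' hmin (P := S) hcyc
    have hKodd : Odd (Nat.card (MonoidHom.transferSylow S
        (hcyc.normalizer_le_centralizer hmin)).ker) := by
      rw [← Nat.not_even_iff_odd, even_iff_two_dvd]
      exact MonoidHom.not_dvd_card_ker_transferSylow S _
    have hKbot := hO _ inferInstance hKodd
    rw [hKbot] at hcompl
    have hStop : (S : Subgroup (P2B.X2 G p q)) = ⊤ := Subgroup.isComplement'_bot_left.mp hcompl
    apply P2B.central_inv_false h h8 hphi hpq hzInv hzX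
    intro g hg
    have hgS : (⟨g, hg⟩ : P2B.X2 G p q) ∈ (S : Subgroup (P2B.X2 G p q)) := by
      rw [hStop]
      exact Subgroup.mem_top _
    have hzc := Subgroup.mem_center_iff.mp z.2 ⟨⟨g, hg⟩, hgS⟩
    have h2 := congrArg (fun u : (S : Subgroup (P2B.X2 G p q)) => ((u : P2B.X2 G p q) : G)) hzc
    simp only [Subgroup.coe_mul] at h2
    exact h2
  · -- quaternion: Brauer-Suzuki
    have hZ := Cfsg.Agent.S0201.result S n e hO
    have h2Z : 2 ∣ Nat.card (Subgroup.center (P2B.X2 G p q)) := by rw [hZ]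
    obtain ⟨c, hc⟩ := exists_prime_orderOf_dvd_card' (G := Subgroup.center (P2B.X2 G p q)) 2 h2Z
    have hcInv : IsInv (((c : Subgroup.center (P2B.X2 G p q)) : P2B.X2 G p q) : G) := by
      constructor
      · have h1 : c ^ 2 = 1 := by
          have := pow_orderOf_eq_one c
          rwa [hc] at this
        have h2 := congrArg (fun u : Subgroup.center (P2B.X2 G p q) =>
          ((u : P2B.X2 G p q) : G)) h1
        simp only [Subgroup.coe_pow, Subgroup.coe_one] at h2
        rw [← pow_two]
        exact h2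
      · intro h1
        have h2 : c = 1 := by
          apply Subtype.ext
          apply Subtype.ext
          exact h1
        rw [h2, orderOf_one] at hc
        omega
    apply P2B.central_inv_false h h8 hphi hpq hcInv (Subtype.property _)
    intro g hg
    have hcc := Subgroup.mem_center_iff.mp c.2 ⟨g, hg⟩
    have h2 := congrArg (fun u : P2B.X2 G p q => (u : G)) hcc
    simp only [Subgroup.coe_mul] at h2
    exact h2

end Cfsg.Agent.Helper26.MH
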