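import Mathlib
import Cfsg.Agent.Lib.Helper2.WordLen

set_option autoImplicit false

/-!
Matsumoto's theorem for a group generated by involutions satisfying the exchange condition,
and the resulting Coxeter presentation.
-/

namespace Cfsg.Agent.Helper2.WordLen

variable {W : Type*} [Group W] {I : Type*}

/-- the alternating word `x, y, x, ...` of length `k` -/
def alt : I → I → ℕ → List I
  | _, _, 0 => []
  | x, y, (k + 1) => x :: alt y x k

@[simp] theorem alt_zero (x y : I) : alt x y 0 = [] := rfl

theorem alt_succ (x y : I) (k : ℕ) : alt x y (k + 1) = x :: alt y x k := rfl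

@[simp] theorem length_alt (x y : I) (k : ℕ) : (alt x y k).length = k := by
  induction k generalizing x y with
  | zero => rfl
  | succ k ih => simp [alt_succ, ih]

theorem take_alt (x y : I) {j k : ℕ} (h : j ≤ k) : (alt x y k).take j = alt x y j := by
  induction j generalizing x y k with
  | zero => simp
  | succ j ih =>
    obtain ⟨k', rfl⟩ : ∃ k', k = k' + 1 := ⟨k - 1, by omega⟩
    rw [alt_succ, List.take_succ_cons, ih y x (by omega), alt_succ]

section

variable {H : Type*} [Group H] (f : I → H) (hf : ∀ i, f i * f i = 1)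
include hf

theorem wp_alt_mul_inv (x y : I) (k : ℕ) :
    wp f (alt x y k) * (wp f (alt y x k))⁻¹ = (f x * f y) ^ k := by
  induction k generalizing x y with
  | zero => simp
  | succ k ih =>
    rw [alt_succ, alt_succ, wp_cons, wp_cons, mul_inv_rev, inv_gen f hf y]
    have h1 : wp f (alt y x k) * (wp f (alt x y k))⁻¹ = (f y * f x) ^ k := ih y x
    calc f x * wp f (alt y x k) * ((wp f (alt x y k))⁻¹ * f y)
        = f x * (wp f (alt y x k) * (wp f (alt x y k))⁻¹) * f y := by group
      _ = f x * (f y * f x) ^ k * f y := by rw [h1]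
      _ = (f x * f y) ^ (k + 1) := by
        rw [pow_succ']
        have : f x * (f y * f x) ^ k = (f x * f y) ^ k * f x := by
          clear h1 ih
          induction k with
          | zero => simp
          | succ k ih2 =>
            rw [pow_succ, ← mul_assoc, ih2, pow_succ]
            group
        rw [this]
        have h2 : (f x * f y) ^ k * f x * f y = (f x * f y) ^ (k + 1) := by
          rw [pow_succ]; group
        rw [h2, pow_succ']

theorem wp_alt_eq_iff (x y : I) (k : ℕ) :
    wp f (alt x y k) = wp f (alt y x k) ↔ (f x * f y) ^ k = 1 := by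
  rw [← wp_alt_mul_inv f hf x y k, mul_inv_eq_one]

end


section Exchange

variable (σ : I → W) (hσ : ∀ i, σ i * σ i = 1) (hsurj : ∀ w : W, ∃ l : List I, wp σ l = w)
  (hE : ∀ (l : List I) (i : I), len σ (σ i * wp σ l) ≤ len σ (wp σ l) →
    ∃ j < l.length, σ i * wp σ l = wp σ (l.eraseIdx j))

include hσ in
/-- prefix form of an exchange -/
theorem exchange_prefix_of_eq {l : List I} {i : I} {j : ℕ} (hj : j < l.length)
    (h : σ i * wp σ l = wp σ (l.eraseIdx j)) :
    σ i * wp σ (l.take j) = wp σ (l.take (j + 1)) := by
  have h1 : l = l.take j ++ [l[j]] ++ l.drop (j + 1) := by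
    rw [List.append_assoc, List.singleton_append, List.getElem_cons_drop,
      List.take_append_drop]
  have h2 : l.eraseIdx j = l.take j ++ l.drop (j + 1) := List.eraseIdx_eq_take_drop_succ l j
  have h3 : l.take (j + 1) = l.take j ++ [l[j]] := List.take_succ_eq_append_getElem hj
  rw [h2] at h
  conv_lhs at h => rw [h1]
  rw [h3]
  simp only [wp_append, wp_singleton] at h ⊢
  have h4 : σ i * (wp σ (l.take j) * σ l[j]) = wp σ (l.take j) := by
    have := congrArg (fun z => z * (wp σ (l.drop (j + 1)))⁻¹) h
    simpa [mul_assoc] using this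
  calc σ i * wp σ (l.take j) = σ i * (wp σ (l.take j) * σ l[j]) * σ l[j] := by
        rw [mul_assoc, mul_assoc, hσ, mul_one]
    _ = wp σ (l.take j) * σ l[j] := by rw [h4]

include hσ hsurj hE

theorem descent_lt {i : I} {w : W} (h : len σ (σ i * w) ≤ len σ w) :
    len σ (σ i * w) < len σ w := by
  obtain ⟨l, hl, hlen⟩ := exists_reduced σ hsurj w
  rw [← hl] at h
  obtain ⟨j, hj, hjeq⟩ := hE l i h
  rw [← hl, hjeq]
  have h1 := len_le σ (l.eraseIdx j)
  rw [List.length_eraseIdx_of_lt hj] at h1
  rw [hl, ← hlen]
  omega

theorem len_gen_mul_ne (i : I) (w : W) : len σ (σ i * w) ≠ len σ w := by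
  intro h
  have := descent_lt σ hσ hsurj hE h.le
  omega

/-- exchanging a descent into a reduced word -/
theorem exchange_word {l : List I} {i : I} (hl : IsReduced σ l)
    (h : len σ (σ i * wp σ l) ≤ len σ (wp σ l)) :
    ∃ j < l.length, σ i * wp σ (l.take j) = wp σ (l.take (j + 1)) ∧
      wp σ (i :: (l.take j ++ l.drop (j + 1))) = wp σ l ∧
      IsReduced σ (i :: (l.take j ++ l.drop (j + 1))) := by
  obtain ⟨j, hj, hjeq⟩ := hE l i h
  have h2 : l.eraseIdx j = l.take j ++ l.drop (j + 1) := List.eraseIdx_eq_take_drop_succ l j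
  have hwp : wp σ (i :: (l.take j ++ l.drop (j + 1))) = wp σ l := by
    rw [wp_cons, ← h2, ← hjeq, ← mul_assoc, hσ, one_mul]
  refine ⟨j, hj, exchange_prefix_of_eq σ hσ hj hjeq, hwp, ?_⟩
  unfold IsReduced at hl ⊢
  rw [hwp, hl, List.length_cons, ← h2, List.length_eraseIdx_of_lt hj]
  omega


omit hσ hsurj hE in
theorem isReduced_of_eq {l l' : List I} (hl : IsReduced σ l) (hwp : wp σ l' = wp σ l)
    (hlen : l'.length = l.length) : IsReduced σ l' := by
  unfold IsReduced at hl ⊢
  rw [hwp, hl, hlen]

omit hσ hsurj hE in
theorem dihedral_found {x y : I} {k j : ℕ} {r : List I} (hjk : j < k)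
    (hred : IsReduced σ (alt x y k ++ r))
    (hpre : σ y * wp σ ((alt x y k ++ r).take j) = wp σ ((alt x y k ++ r).take (j + 1))) :
    ∃ (k' : ℕ) (x' y' : I) (r' : List I), 1 ≤ k' ∧ ((x' = x ∧ y' = y) ∨ (x' = y ∧ y' = x)) ∧
      IsReduced σ (alt x' y' k' ++ r') ∧ IsReduced σ (alt y' x' k' ++ r') ∧
      wp σ (alt x' y' k' ++ r') = wp σ (alt x y k ++ r) ∧
      wp σ (alt y' x' k' ++ r') = wp σ (alt x y k ++ r) := by
  set L := alt x y k ++ r with hL
  have htake1 : L.take (j + 1) = alt x y (j + 1) := by
    rw [hL, List.take_append_of_le_length (by simp; omega), take_alt x y (by omega)]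
  have htake0 : L.take j = alt x y j := by
    rw [hL, List.take_append_of_le_length (by simp; omega), take_alt x y (by omega)]
  have hLeq : alt x y (j + 1) ++ L.drop (j + 1) = L := by
    rw [← htake1, List.take_append_drop]
  have hbraid : wp σ (alt y x (j + 1)) = wp σ (alt x y (j + 1)) := by
    rw [alt_succ y x j, wp_cons, ← htake0, hpre, htake1]
  have hwp2 : wp σ (alt y x (j + 1) ++ L.drop (j + 1)) = wp σ L := by
    rw [wp_append, hbraid, ← wp_append, hLeq]
  refine ⟨j + 1, x, y, L.drop (j + 1), by omega, Or.inl ⟨rfl, rfl⟩, ?_, ?_, ?_, hwp2⟩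
  · rw [hLeq]; exact hred
  · apply isReduced_of_eq σ hred hwp2
    conv_rhs => rw [← hLeq]
    simp
  · rw [hLeq]

theorem dihedral_prefix : ∀ (n : ℕ) (x y : I) (k : ℕ) (r : List I), r.length = n → 1 ≤ k →
    IsReduced σ (alt x y k ++ r) →
    len σ (σ x * wp σ (alt x y k ++ r)) ≤ len σ (wp σ (alt x y k ++ r)) →
    len σ (σ y * wp σ (alt x y k ++ r)) ≤ len σ (wp σ (alt x y k ++ r)) →
    ∃ (k' : ℕ) (x' y' : I) (r' : List I), 1 ≤ k' ∧ ((x' = x ∧ y' = y) ∨ (x' = y ∧ y' = x)) ∧
      IsReduced σ (alt x' y' k' ++ r') ∧ IsReduced σ (alt y' x' k' ++ r') ∧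
      wp σ (alt x' y' k' ++ r') = wp σ (alt x y k ++ r) ∧
      wp σ (alt y' x' k' ++ r') = wp σ (alt x y k ++ r) := by
  intro n
  induction n with
  | zero =>
    intro x y k r hr hk hred hx hy
    obtain ⟨j, hj, hpre, hwp, hred'⟩ := exchange_word σ hσ hsurj hE hred hy
    have hjk : j < k := by
      simp only [List.length_append, length_alt, hr] at hj
      omega
    exact dihedral_found σ hjk hred hpre
  | succ n ih =>
    intro x y k r hr hk hred hx hy
    obtain ⟨j, hj, hpre, hwp, hred'⟩ := exchange_word σ hσ hsurj hE hred hy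
    by_cases hjk : j < k
    · exact dihedral_found σ hjk hred hpre
    · push Not at hjk
      set L := alt x y k ++ r with hL
      have hjlen : j < k + (n + 1) := by
        simpa [hL, hr] using hj
      have htake : L.take j = alt x y k ++ r.take (j - k) := by
        rw [hL, List.take_append, length_alt, List.take_of_length_le (by simp; omega)]
      have hdrop : L.drop (j + 1) = r.drop (j + 1 - k) := by
        rw [hL, List.drop_append, length_alt, List.drop_of_length_le (by simp; omega)]
        simp
      set r'' := r.take (j - k) ++ r.drop (j + 1 - k) with hr''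
      have hnew : y :: (L.take j ++ L.drop (j + 1)) = alt y x (k + 1) ++ r'' := by
        rw [htake, hdrop, alt_succ, hr'']
        simp
      rw [hnew] at hwp hred'
      have hr''len : r''.length = n := by
        rw [hr'', List.length_append, List.length_take, List.length_drop, hr]
        omega
      obtain ⟨k', x', y', r', hk', hxy, h1, h2, h3, h4⟩ :=
        ih y x (k + 1) r'' hr''len (by omega) hred' (by rw [hwp]; exact hy) (by rw [hwp]; exact hx)
      refine ⟨k', x', y', r', hk', ?_, h1, h2, by rw [h3, hwp], by rw [h4, hwp]⟩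
      rcases hxy with ⟨h5, h6⟩ | ⟨h5, h6⟩
      · exact Or.inr ⟨h5, h6⟩
      · exact Or.inl ⟨h5, h6⟩


section Matsumoto

variable {H : Type*} [Group H] (f : I → H) (hf : ∀ i, f i * f i = 1)
  (hbraid : ∀ (i j : I) (k : ℕ), (σ i * σ j) ^ k = 1 → (f i * f j) ^ k = 1)
include hf hbraid

/-- Matsumoto's theorem -/
theorem matsumoto : ∀ (q : ℕ) (l l' : List I), l.length = q → IsReduced σ l → IsReduced σ l' →
    wp σ l = wp σ l' → wp f l = wp f l' := by
  intro q
  induction q using Nat.strong_induction_on with
  | _ q ih =>
    intro l l' hq hl hl' hwp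
    have hq' : l'.length = q := by
      unfold IsReduced at hl hl'
      rw [← hl', ← hwp, hl, hq]
    -- same first letter
    have same : ∀ (a : I) (t t' : List I), (a :: t).length = q → IsReduced σ (a :: t) →
        IsReduced σ (a :: t') → wp σ (a :: t) = wp σ (a :: t') → wp f (a :: t) = wp f (a :: t') := by
      intro a t t' htq ht ht' hwpt
      rw [wp_cons, wp_cons] at hwpt ⊢
      have := ih t.length (by simp at htq; omega) t t' rfl (IsReduced.tail σ hsurj ht)
        (IsReduced.tail σ hsurj ht') (mul_left_cancel hwpt)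
      rw [this]
    match l, l', hq, hq', hl, hl', hwp with
    | [], [], _, _, _, _, _ => rfl
    | [], b :: t', hq, hq', _, _, _ => simp at hq hq'; omega
    | a :: t, [], hq, hq', _, _, _ => simp at hq hq'; omega
    | a :: t, b :: t', hq, hq', hl, hl', hwp =>
      by_cases hab : a = b
      · subst hab
        exact same a t t' hq hl hl' hwp
      · -- both a and b are descents
        have hdesc : ∀ (c : I) (u : List I), IsReduced σ (c :: u) →
            len σ (σ c * wp σ (c :: u)) ≤ len σ (wp σ (c :: u)) := by
          intro c u hu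
          have h1 := IsReduced.tail σ hsurj hu
          unfold IsReduced at hu h1
          rw [wp_cons, ← mul_assoc, hσ, one_mul]
          rw [wp_cons] at hu
          rw [h1, hu]
          simp
        have ha := hdesc a t hl
        have hb : len σ (σ b * wp σ (a :: t)) ≤ len σ (wp σ (a :: t)) := by
          rw [hwp]; exact hdesc b t' hl'
        have hl1 : IsReduced σ (alt a b 1 ++ t) := by
          simpa [alt_succ] using hl
        have h1eq : alt a b 1 ++ t = a :: t := by simp [alt_succ]
        obtain ⟨k', x', y', r', hk', hxy, h1, h2, h3, h4⟩ :=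
          dihedral_prefix σ hσ hsurj hE t.length a b 1 t rfl le_rfl hl1
            (by rw [h1eq]; exact ha) (by rw [h1eq]; exact hb)
        rw [h1eq] at h3 h4
        obtain ⟨k'', rfl⟩ : ∃ k'', k' = k'' + 1 := ⟨k' - 1, by omega⟩
        have hbr : wp σ (alt x' y' (k'' + 1)) = wp σ (alt y' x' (k'' + 1)) := by
          have := h3.trans h4.symm
          rw [wp_append, wp_append] at this
          exact mul_right_cancel this
        have hfbr : wp f (alt x' y' (k'' + 1)) = wp f (alt y' x' (k'' + 1)) := by
          rw [wp_alt_eq_iff f hf]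
          apply hbraid
          rw [← wp_alt_eq_iff σ hσ]
          exact hbr
        have hfeq : wp f (alt x' y' (k'' + 1) ++ r') = wp f (alt y' x' (k'' + 1) ++ r') := by
          rw [wp_append, wp_append, hfbr]
        have hlen1 : (alt x' y' (k'' + 1) ++ r').length = q := by
          unfold IsReduced at h1 hl
          rw [← h1, h3, hl, hq]
        have hlen2 : (alt y' x' (k'' + 1) ++ r').length = q := by
          unfold IsReduced at h2 hl
          rw [← h2, h4, hl, hq]
        rcases hxy with ⟨rfl, rfl⟩ | ⟨rfl, rfl⟩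
        · -- x' = a, y' = b
          rw [alt_succ, List.cons_append] at h1 h3 hfeq hlen1
          rw [alt_succ y' x' k'', List.cons_append] at h2 h4 hfeq hlen2
          have e1 := same x' t _ hq hl h1 h3.symm
          have e2 := same y' t' _ hq' hl' h2 (hwp.symm.trans h4.symm)
          rw [e1, e2, hfeq]
        · -- x' = b, y' = a
          rw [alt_succ, List.cons_append] at h1 h3 hfeq hlen1
          rw [alt_succ y' x' k'', List.cons_append] at h2 h4 hfeq hlen2
          have e1 := same y' t _ hq hl h2 h4.symm
          have e2 := same x' t' _ hq' hl' h1 (hwp.symm.trans h3.symm)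
          rw [e1, e2, hfeq]


/-- the section of the canonical map defined via reduced words -/
noncomputable def sect (w : W) : H := wp f (exists_reduced' σ hsurj w).choose

omit hσ hE hf hbraid in
theorem sect_def (w : W) : sect σ hsurj f w = wp f (exists_reduced' σ hsurj w).choose := rfl

theorem sect_eq {l : List I} (hl : IsReduced σ l) : sect σ hsurj f (wp σ l) = wp f l := by
  have h := (exists_reduced' σ hsurj (wp σ l)).choose_spec
  rw [sect_def]
  exact matsumoto σ hσ hsurj hE f hf hbraid _ _ _ rfl h.2 hl h.1

theorem sect_one : sect σ hsurj f (1 : W) = 1 := by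
  have h : IsReduced σ ([] : List I) := by
    unfold IsReduced; simp [len_one]
  have := sect_eq σ hσ hsurj hE f hf hbraid h
  simpa using this

theorem sect_gen_mul (i : I) (w : W) : sect σ hsurj f (σ i * w) = f i * sect σ hsurj f w := by
  have key : ∀ w : W, len σ w < len σ (σ i * w) →
      sect σ hsurj f (σ i * w) = f i * sect σ hsurj f w := by
    intro w hw
    obtain ⟨l, hl, hred⟩ := exists_reduced' σ hsurj w
    have hred' : IsReduced σ (i :: l) := by
      unfold IsReduced at hred ⊢
      rw [wp_cons, hl, List.length_cons]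
      have h1 := len_gen_mul_le σ hsurj i w
      rw [hl] at hred
      omega
    have h1 := sect_eq σ hσ hsurj hE f hf hbraid hred'
    have h2 := sect_eq σ hσ hsurj hE f hf hbraid hred
    rw [wp_cons, hl] at h1
    rw [hl] at h2
    rw [h1, h2, wp_cons]
  by_cases hw : len σ w < len σ (σ i * w)
  · exact key w hw
  · push Not at hw
    have hlt := descent_lt σ hσ hsurj hE hw
    have h1 := key (σ i * w) (by rw [← mul_assoc, hσ, one_mul]; exact hlt)
    rw [← mul_assoc, hσ, one_mul] at h1
    rw [h1, ← mul_assoc, hf, one_mul]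

theorem sect_wp (l : List I) : sect σ hsurj f (wp σ l) = wp f l := by
  induction l with
  | nil => simpa using sect_one σ hσ hsurj hE f hf hbraid
  | cons i l ih => rw [wp_cons, sect_gen_mul σ hσ hsurj hE f hf hbraid, ih, wp_cons]

/-- a homomorphism onto `W` from a group generated by involutions satisfying the same
dihedral relations is injective -/
theorem injective_of_matsumoto (φ : H →* W) (hφ : ∀ i, φ (f i) = σ i)
    (hgen : ∀ h : H, ∃ l : List I, wp f l = h) : Function.Injective φ := by
  have hφwp : ∀ l : List I, φ (wp f l) = wp σ l := by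
    intro l
    induction l with
    | nil => simp
    | cons i l ih => rw [wp_cons, map_mul, hφ, ih, wp_cons]
  intro a b hab
  obtain ⟨la, rfl⟩ := hgen a
  obtain ⟨lb, rfl⟩ := hgen b
  rw [hφwp, hφwp] at hab
  rw [← sect_wp σ hσ hsurj hE f hf hbraid la, ← sect_wp σ hσ hsurj hE f hf hbraid lb, hab]

end Matsumoto


omit hσ hsurj hE in
theorem orderOf_mul_swap (x y : W) : orderOf (x * y) = orderOf (y * x) := by
  have : y * x = y * (x * y) * y⁻¹ := by group
  rw [this]
  have h := orderOf_injective (MulAut.conj y).toMonoidHom (MulAut.conj y).injective (x * y)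
  simpa using h.symm

/-- the Coxeter matrix of orders of products of generators -/
noncomputable def coxMat (hinj : Function.Injective σ) : CoxeterMatrix I where
  M := Matrix.of fun i j => orderOf (σ i * σ j)
  isSymm := by
    ext i j
    simp only [Matrix.transpose_apply, Matrix.of_apply]
    exact orderOf_mul_swap _ _
  diagonal i := by
    simp only [Matrix.of_apply, hσ i, orderOf_one]
  off_diagonal i j hij := by
    simp only [Matrix.of_apply]
    intro h
    rw [orderOf_eq_one_iff] at h
    apply hij
    apply hinj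
    have := mul_eq_one_iff_eq_inv.mp h
    rw [this, inv_gen σ hσ]

omit hsurj hE in
theorem coxMat_apply (hinj : Function.Injective σ) (i j : I) :
    (coxMat σ hσ hinj).M i j = orderOf (σ i * σ j) := rfl

/-- a group generated by involutions satisfying the exchange condition is a Coxeter group -/
theorem exists_coxeterSystem (hinj : Function.Injective σ) :
    ∃ cs : CoxeterSystem (coxMat σ hσ hinj) W, ∀ i, cs.simple i = σ i := by
  set M := coxMat σ hσ hinj with hM
  have hlift : M.IsLiftable σ := by
    intro i j
    rw [show M.M i j = orderOf (σ i * σ j) from rfl]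
    exact pow_orderOf_eq_one _
  let φ : M.Group →* W := M.toCoxeterSystem.lift ⟨σ, hlift⟩
  have hφ : ∀ i, φ (M.toCoxeterSystem.simple i) = σ i := fun i =>
    M.toCoxeterSystem.lift_apply_simple hlift i
  have hfs : ∀ i, M.toCoxeterSystem.simple i * M.toCoxeterSystem.simple i = 1 :=
    M.toCoxeterSystem.simple_mul_simple_self
  have hbraid : ∀ (i j : I) (k : ℕ), (σ i * σ j) ^ k = 1 →
      (M.toCoxeterSystem.simple i * M.toCoxeterSystem.simple j) ^ k = 1 := by
    intro i j k hk
    have hdvd : orderOf (σ i * σ j) ∣ k := orderOf_dvd_of_pow_eq_one hk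
    obtain ⟨c, rfl⟩ := hdvd
    rw [pow_mul]
    have := M.toCoxeterSystem.simple_mul_simple_pow i j
    rw [show M.M i j = orderOf (σ i * σ j) from rfl] at this
    rw [this, one_pow]
  have hgen : ∀ h : M.Group, ∃ l : List I, wp M.toCoxeterSystem.simple l = h := by
    intro h
    obtain ⟨ω, hω⟩ := M.toCoxeterSystem.wordProd_surjective h
    exact ⟨ω, hω⟩
  have hinjφ := injective_of_matsumoto σ hσ hsurj hE M.toCoxeterSystem.simple hfs hbraid φ hφ hgen
  have hφwp : ∀ l : List I, φ (wp M.toCoxeterSystem.simple l) = wp σ l := by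
    intro l
    induction l with
    | nil => simp
    | cons i l ih => rw [wp_cons, map_mul, hφ, ih, wp_cons]
  have hsurjφ : Function.Surjective φ := by
    intro w
    obtain ⟨l, rfl⟩ := hsurj w
    exact ⟨_, hφwp l⟩
  let e : M.Group ≃* W := MulEquiv.ofBijective φ ⟨hinjφ, hsurjφ⟩
  refine ⟨⟨e.symm⟩, fun i => ?_⟩
  change e.symm.symm (PresentedGroup.of i) = σ i
  rw [MulEquiv.symm_symm]
  exact hφ i

end Exchange

end Cfsg.Agent.Helper2.WordLen
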