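import Mathlib
import Cfsg.Agent.Lib.Helper4.QuadSection

/-!
# Two braided quadratic elements coincide

In a ring where `2` is cancellable, two square-zero elements `X`, `Y` such that `1 + X`, `1 + Y`
satisfy the braid relation and the braid element squares to one are equal.  For a faithful
action on an elementary abelian `p`-group (`p` odd) this says that two quadratic elements
`x`, `y` with `x y x = y x y` and `(x y x)² = 1` coincide.
-/

set_option autoImplicit false

namespace Cfsg.Agent.Helper2.NoQuad

section ring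

variable {R : Type*} [Ring R]

theorem braid_rel (X Y : R) (hX : X * X = 0) (hY : Y * Y = 0)
    (hbr : (1 + X) * (1 + Y) * (1 + X) = (1 + Y) * (1 + X) * (1 + Y)) :
    X + X * Y * X = Y + Y * X * Y := by
  have e1 : (1 + X) * (1 + Y) * (1 + X) =
      (1 + X + Y + X * Y + Y * X) + (X + X * Y * X) + X * X := by noncomm_ring
  have e2 : (1 + Y) * (1 + X) * (1 + Y) =
      (1 + X + Y + X * Y + Y * X) + (Y + Y * X * Y) + Y * Y := by noncomm_ring
  rw [e1, e2, hX, hY, add_zero, add_zero] at hbr
  exact add_left_cancel hbr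

theorem braid_form (X Y : R) (hX : X * X = 0) :
    (1 + X) * (1 + Y) * (1 + X) = (1 + X + Y + X * Y + Y * X) + (X + X * Y * X) := by
  have e1 : (1 + X) * (1 + Y) * (1 + X) =
      (1 + X + Y + X * Y + Y * X) + (X + X * Y * X) + X * X := by noncomm_ring
  rw [e1, hX, add_zero]

theorem mul_eq_zero_of_braid (X Y : R) (hX : X * X = 0) (hY : Y * Y = 0)
    (hbr : (1 + X) * (1 + Y) * (1 + X) = (1 + Y) * (1 + X) * (1 + Y))
    (hn : ((1 + X) * (1 + Y) * (1 + X)) * ((1 + X) * (1 + Y) * (1 + X)) = 1)
    (h2 : ∀ z : R, z + z = 0 → z = 0) : X * Y = 0 := by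
  have hR := braid_rel X Y hX hY hbr
  have h3 : X * Y + X * Y * (X * Y) = 0 := by
    calc X * Y + X * Y * (X * Y) = X * (Y + Y * X * Y) := by noncomm_ring
      _ = X * (X + X * Y * X) := by rw [hR]
      _ = X * X + X * X * (Y * X) := by noncomm_ring
      _ = 0 := by rw [hX]; simp
  have h3' : X * Y * (X * Y) = -(X * Y) := by
    rw [eq_neg_iff_add_eq_zero, add_comm]; exact h3
  set n := (1 + X) * (1 + Y) * (1 + X) with hn_def
  have hform : n = (1 + X + Y + X * Y + Y * X) + (X + X * Y * X) := braid_form X Y hX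
  have h4 : X * Y * n = X * Y * X := by
    rw [hform]
    calc X * Y * ((1 + X + Y + X * Y + Y * X) + (X + X * Y * X))
        = (X * Y + X * Y * (X * Y)) + (X * Y + X * Y * (X * Y)) * X + X * Y * X
            + X * (Y * Y) + X * (Y * Y) * X := by noncomm_ring
      _ = X * Y * X := by rw [h3, hY]; simp
  have h5 : X * Y * X * n = -(X * Y) := by
    rw [hform]
    calc X * Y * X * ((1 + X + Y + X * Y + Y * X) + (X + X * Y * X))
        = (X * Y + X * Y * (X * Y)) * X + X * Y * (X * Y) + X * Y * (X * X)
            + X * Y * (X * X) * Y + X * Y * (X * X) + X * Y * (X * X) * (Y * X) := by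
          noncomm_ring
      _ = -(X * Y) := by rw [h3, hX, h3']; simp
  have h6 : X * Y = -(X * Y) := by
    calc X * Y = X * Y * (n * n) := by rw [hn, mul_one]
      _ = X * Y * n * n := by noncomm_ring
      _ = -(X * Y) := by rw [h4, h5]
  apply h2
  nth_rewrite 2 [h6]
  exact add_neg_cancel _

theorem eq_of_braid_ring (X Y : R) (hX : X * X = 0) (hY : Y * Y = 0)
    (hbr : (1 + X) * (1 + Y) * (1 + X) = (1 + Y) * (1 + X) * (1 + Y))
    (hn : ((1 + X) * (1 + Y) * (1 + X)) * ((1 + X) * (1 + Y) * (1 + X)) = 1)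
    (h2 : ∀ z : R, z + z = 0 → z = 0) : X = Y := by
  have hXY := mul_eq_zero_of_braid X Y hX hY hbr hn h2
  have hYX := mul_eq_zero_of_braid Y X hY hX hbr.symm (by rw [← hbr]; exact hn) h2
  have hR := braid_rel X Y hX hY hbr
  rw [hXY, zero_mul, add_zero, hYX, zero_mul, add_zero] at hR
  exact hR

end ring

section action

open Cfsg.Agent.Helper4.QR Cfsg.Agent.Helper4.QSec

/-- two braided quadratic elements of a group acting faithfully on an abelian group of odd
exponent coincide -/
theorem eq_of_braid {Γ W : Type*} [Group Γ] [CommGroup W] {p : ℕ} (hp : Odd p)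
    (act : Γ →* MulAut W) (hact : Function.Injective act) (hW : ∀ w : W, w ^ p = 1) (x y : Γ)
    (hqx : ∀ w : W, act x (act x w / w) = act x w / w)
    (hqy : ∀ w : W, act y (act y w / w) = act y w / w)
    (hbr : x * y * x = y * x * y) (hn : (x * y * x) * (x * y * x) = 1) : x = y := by
  set ρ := (toEnd W).comp act with hρ
  have hX := toEnd_sub_one_sq act x hqx
  have hY := toEnd_sub_one_sq act y hqy
  rw [← hρ] at hX hY
  have e1 : ∀ g : Γ, 1 + (ρ g - 1) = ρ g := fun g => by abel
  have h2 : ∀ z : AddMonoid.End (Additive W), z + z = 0 → z = 0 := by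
    intro z hz
    ext m
    have h1 : z m + z m = 0 := by
      have := congrArg (fun e : AddMonoid.End (Additive W) => e m) hz
      exact this
    have h3 : p • z m = 0 := by
      obtain ⟨w, hw⟩ := Additive.ofMul.surjective (z m)
      rw [← hw, ← ofMul_pow, hW, ofMul_one]
    obtain ⟨k, hk⟩ := hp
    rw [hk, add_smul, mul_comm, mul_smul, one_smul, two_smul, h1, smul_zero, zero_add] at h3
    exact h3
  have hkey : ρ x - 1 = ρ y - 1 := by
    apply eq_of_braid_ring _ _ hX hY
    · rw [e1, e1, ← map_mul, ← map_mul, ← map_mul, ← map_mul, hbr]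
    · rw [e1, e1, ← map_mul, ← map_mul, ← map_mul, hn, map_one]
    · exact h2
  have hxy : ρ x = ρ y := sub_left_injective hkey
  apply hact
  ext w
  have := congrArg (fun e : AddMonoid.End (Additive W) => e (Additive.ofMul w)) hxy
  exact congrArg Additive.toMul this

end action

end Cfsg.Agent.Helper2.NoQuad
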