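import Mathlib
import Cfsg.Agent.Lib.Helper4.DicksonMain

/-!
# Braid partners of unipotent elements of `PSL₂(F)`

Every element `z ≠ 1` of `SL₂(F)` with `z ^ p = 1` (`F` finite of characteristic `p`) has a
conjugate `z'` with `z z' z = z' z z'`, this element squaring into the centre, and `z'` distinct
from `z` modulo the centre.
-/

set_option autoImplicit false

namespace Cfsg.Agent.Helper2.NoQuad

open Matrix Matrix.SpecialLinearGroup
open scoped MatrixGroups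
open Cfsg.Agent.Helper2.SL2S

variable {F : Type*} [Field F]

/-- the monomial element `[[0, a], [-a⁻¹, 0]]` -/
def nn (a : F) (ha : a ≠ 0) : SL(2, F) :=
  ⟨!![0, a; -a⁻¹, 0], by
    rw [Matrix.det_fin_two_of, zero_mul, zero_sub, mul_neg, neg_neg, mul_inv_cancel₀ ha]⟩

theorem nn_coe (a : F) (ha : a ≠ 0) :
    ((nn a ha : SL(2, F)) : Matrix (Fin 2) (Fin 2) F) = !![0, a; -a⁻¹, 0] := rfl

theorem nn_mul_u (a : F) (ha : a ≠ 0) : nn a ha * u a = v (-a⁻¹) * nn a ha := by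
  apply Subtype.ext
  rw [coe_mul, coe_mul, nn_coe, u_coe, v_coe]
  ext i j
  fin_cases i <;> fin_cases j <;> simp [Matrix.mul_apply, Fin.sum_univ_two, ha]

theorem u_v_u (a : F) (ha : a ≠ 0) : u a * v (-a⁻¹) * u a = nn a ha := by
  apply Subtype.ext
  rw [coe_mul, coe_mul, nn_coe, u_coe, v_coe]
  ext i j
  fin_cases i <;> fin_cases j <;> simp [Matrix.mul_apply, Fin.sum_univ_two, ha]

theorem v_u_v (a : F) (ha : a ≠ 0) : v (-a⁻¹) * u a * v (-a⁻¹) = nn a ha := by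
  apply Subtype.ext
  rw [coe_mul, coe_mul, nn_coe, u_coe, v_coe]
  ext i j
  fin_cases i <;> fin_cases j <;> simp [Matrix.mul_apply, Fin.sum_univ_two, ha]

theorem nn_sq_mem_center (a : F) (ha : a ≠ 0) :
    nn a ha * nn a ha ∈ Subgroup.center SL(2, F) := by
  rw [Matrix.SpecialLinearGroup.mem_center_iff]
  refine ⟨-1, by simp, ?_⟩
  rw [coe_mul, nn_coe]
  ext i j
  fin_cases i <;> fin_cases j <;> simp [Matrix.mul_apply, Fin.sum_univ_two, ha]

theorem u_inv_v_not_mem_center (a : F) (ha : a ≠ 0) :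
    (u a)⁻¹ * v (-a⁻¹) ∉ Subgroup.center SL(2, F) := by
  rw [Matrix.SpecialLinearGroup.mem_center_iff]
  rintro ⟨r, -, hr⟩
  have h := congrFun (congrFun hr 0) 1
  rw [u_inv, coe_mul, u_coe, v_coe] at h
  simp [Matrix.mul_apply, Fin.sum_univ_two] at h
  exact ha h

/-- the braid partner, in `SL₂(F)` -/
theorem exists_braid_SL2 [Fintype F] (p : ℕ) [Fact p.Prime] [CharP F p] (z : SL(2, F))
    (hz : z ^ p = 1) (hz1 : z ≠ 1) :
    ∃ n : SL(2, F), z * (n * z * n⁻¹) * z = n ∧ (n * z * n⁻¹) * z * (n * z * n⁻¹) = n ∧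
      n * n ∈ Subgroup.center SL(2, F) ∧ z⁻¹ * (n * z * n⁻¹) ∉ Subgroup.center SL(2, F) := by
  obtain ⟨s, a, ha, hs⟩ := Cfsg.Agent.Helper4.DSL.exists_conj_u p z hz hz1
  have hzs : z = s⁻¹ * u a * s := by rw [← hs]; group
  have hL : nn a ha * u a * (nn a ha)⁻¹ = v (-a⁻¹) := by
    rw [nn_mul_u]; group
  refine ⟨s⁻¹ * nn a ha * s, ?_, ?_, ?_, ?_⟩
  · calc z * (s⁻¹ * nn a ha * s * z * (s⁻¹ * nn a ha * s)⁻¹) * z
        = s⁻¹ * (u a * (nn a ha * u a * (nn a ha)⁻¹) * u a) * s := by rw [hzs]; group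
      _ = s⁻¹ * nn a ha * s := by rw [hL, u_v_u a ha]
  · calc (s⁻¹ * nn a ha * s * z * (s⁻¹ * nn a ha * s)⁻¹) * z
          * (s⁻¹ * nn a ha * s * z * (s⁻¹ * nn a ha * s)⁻¹)
        = s⁻¹ * ((nn a ha * u a * (nn a ha)⁻¹) * u a * (nn a ha * u a * (nn a ha)⁻¹)) * s := by
          rw [hzs]; group
      _ = s⁻¹ * nn a ha * s := by rw [hL, v_u_v a ha]
  · have h1 := nn_sq_mem_center a ha
    have h2 : s⁻¹ * nn a ha * s * (s⁻¹ * nn a ha * s) = s⁻¹ * (nn a ha * nn a ha) * s⁻¹⁻¹ := by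
      group
    rw [h2]
    exact (Subgroup.center SL(2, F)).normal_of_characteristic.conj_mem _ h1 s⁻¹
  · intro h
    have h2 : z⁻¹ * (s⁻¹ * nn a ha * s * z * (s⁻¹ * nn a ha * s)⁻¹) =
        s⁻¹ * ((u a)⁻¹ * (nn a ha * u a * (nn a ha)⁻¹)) * s⁻¹⁻¹ := by
      rw [hzs]; group
    rw [h2, hL] at h
    have h3 := (Subgroup.center SL(2, F)).normal_of_characteristic.conj_mem _ h s
    apply u_inv_v_not_mem_center a ha
    convert h3 using 1
    group

/-- the braid partner, in `PSL₂(F)`: for `x ≠ 1` with `x ^ p = 1` the element `x * x` has a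
conjugate `y ≠ x * x` braided with it, the braid element being an involution -/
theorem exists_braid_PSL2 [Fintype F] (p : ℕ) [hp : Fact p.Prime] [CharP F p] (hp2 : p ≠ 2)
    (x : Matrix.ProjectiveSpecialLinearGroup (Fin 2) F) (hx1 : x ≠ 1) (hxp : x ^ p = 1) :
    ∃ g : Matrix.ProjectiveSpecialLinearGroup (Fin 2) F,
      (x * x) * (g * (x * x) * g⁻¹) * (x * x) = (g * (x * x) * g⁻¹) * (x * x) * (g * (x * x) * g⁻¹) ∧
      ((x * x) * (g * (x * x) * g⁻¹) * (x * x)) * ((x * x) * (g * (x * x) * g⁻¹) * (x * x)) = 1 ∧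
      x * x ≠ g * (x * x) * g⁻¹ := by
  obtain ⟨X, rfl⟩ := QuotientGroup.mk_surjective x
  have hXp : X ^ p ∈ Subgroup.center SL(2, F) := by
    rw [← QuotientGroup.eq_one_iff]; exact hxp
  have hZp : (X * X) ^ p = 1 := by
    have := Cfsg.Agent.Helper4.DSL.sq_eq_one_of_mem_center hXp
    rw [(Commute.refl X).mul_pow]; exact this
  have hxx : ((X : SL(2, F)) : Matrix.ProjectiveSpecialLinearGroup (Fin 2) F) * X ≠ 1 := by
    intro h
    apply hx1
    have hodd : Odd p := hp.out.odd_of_ne_two hp2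
    obtain ⟨k, hk⟩ := hodd
    have h2 : ((X : SL(2, F)) : Matrix.ProjectiveSpecialLinearGroup (Fin 2) F) ^ (2 * k) = 1 := by
      rw [pow_mul, pow_two, h, one_pow]
    rw [hk, pow_succ, h2, one_mul] at hxp
    exact hxp
  have hZ1 : X * X ≠ 1 := by
    intro h
    apply hxx
    rw [← QuotientGroup.mk_mul, h]; rfl
  obtain ⟨n, h1, h2, h3, h4⟩ := exists_braid_SL2 p (X * X) hZp hZ1
  refine ⟨(n : Matrix.ProjectiveSpecialLinearGroup (Fin 2) F), ?_, ?_, ?_⟩
  · have e1 : ((X : SL(2, F)) : Matrix.ProjectiveSpecialLinearGroup (Fin 2) F) * X *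
        (n * (X * X) * (n : Matrix.ProjectiveSpecialLinearGroup (Fin 2) F)⁻¹) * (X * X) =
        ((X * X * (n * (X * X) * n⁻¹) * (X * X) : SL(2, F)) :
          Matrix.ProjectiveSpecialLinearGroup (Fin 2) F) := rfl
    have e2 : (n * (((X : SL(2, F)) : Matrix.ProjectiveSpecialLinearGroup (Fin 2) F) * X) *
        (n : Matrix.ProjectiveSpecialLinearGroup (Fin 2) F)⁻¹) * (X * X) *
        (n * (X * X) * (n : Matrix.ProjectiveSpecialLinearGroup (Fin 2) F)⁻¹) =
        (((n * (X * X) * n⁻¹) * (X * X) * (n * (X * X) * n⁻¹) : SL(2, F)) :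
          Matrix.ProjectiveSpecialLinearGroup (Fin 2) F) := rfl
    rw [e1, e2, h1, h2]
  · have e1 : ((X : SL(2, F)) : Matrix.ProjectiveSpecialLinearGroup (Fin 2) F) * X *
        (n * (X * X) * (n : Matrix.ProjectiveSpecialLinearGroup (Fin 2) F)⁻¹) * (X * X) =
        ((X * X * (n * (X * X) * n⁻¹) * (X * X) : SL(2, F)) :
          Matrix.ProjectiveSpecialLinearGroup (Fin 2) F) := rfl
    rw [e1, h1, ← QuotientGroup.mk_mul, QuotientGroup.eq_one_iff]
    exact h3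
  · intro h
    apply h4
    rw [← QuotientGroup.eq_one_iff]
    have e3 : (((X * X)⁻¹ * (n * (X * X) * n⁻¹) : SL(2, F)) :
        Matrix.ProjectiveSpecialLinearGroup (Fin 2) F) =
        (((X : SL(2, F)) : Matrix.ProjectiveSpecialLinearGroup (Fin 2) F) * X)⁻¹ *
          (n * (X * X) * (n : Matrix.ProjectiveSpecialLinearGroup (Fin 2) F)⁻¹) := rfl
    rw [e3, ← h, inv_mul_cancel]

end Cfsg.Agent.Helper2.NoQuad
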