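import Mathlib
import Cfsg.Agent.Lib.Helper2.Dihedral

/-!
# General group-theoretic lemmas used for the small Ree groups
-/

set_option autoImplicit false

namespace Cfsg.Agent.Helper2.Ree

open Pointwise

variable {G : Type*} [Group G]

theorem mem_conj_iff (H : Subgroup G) (g x : G) :
    x ∈ H.map (MulAut.conj g).toMonoidHom ↔ g⁻¹ * x * g ∈ H := by
  constructor
  · rintro ⟨y, hy, rfl⟩
    have : g⁻¹ * (MulAut.conj g).toMonoidHom y * g = y := by
      simp [MulAut.conj_apply, mul_assoc]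
    rw [this]
    exact hy
  · intro h
    refine ⟨g⁻¹ * x * g, h, ?_⟩
    simp [MulAut.conj_apply, mul_assoc]

theorem comm_of_isCyclic {H : Subgroup G} (hH : IsCyclic H) {x y : G} (hx : x ∈ H) (hy : y ∈ H) :
    x * y = y * x := by
  obtain ⟨g, hg⟩ := hH.exists_generator
  obtain ⟨i, hi⟩ := Subgroup.mem_zpowers_iff.1 (hg ⟨x, hx⟩)
  obtain ⟨j, hj⟩ := Subgroup.mem_zpowers_iff.1 (hg ⟨y, hy⟩)
  have h1 : (⟨x, hx⟩ : H) * ⟨y, hy⟩ = ⟨y, hy⟩ * ⟨x, hx⟩ := by
    rw [← hi, ← hj, ← zpow_add, ← zpow_add, add_comm]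
  exact congrArg Subtype.val h1

/-- a `p`-subgroup is conjugate into any subgroup of index prime to `p` -/
theorem exists_conj_mem_of_not_dvd_index [Finite G] (Hs : Subgroup G) {p : ℕ} [Fact p.Prime]
    (hp : ¬ p ∣ Hs.index) (X : Subgroup G) (hX : IsPGroup p X) :
    ∃ g : G, ∀ x ∈ X, g⁻¹ * x * g ∈ Hs := by
  have hcard : ¬ p ∣ Nat.card (G ⧸ Hs) := by
    rw [← Subgroup.index_eq_card]
    exact hp
  obtain ⟨c, hc⟩ := hX.nonempty_fixed_point_of_prime_not_dvd_card (G ⧸ Hs) hcard
  induction c using QuotientGroup.induction_on with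
  | H g =>
    refine ⟨g, fun x hx => ?_⟩
    have h1 : (⟨x, hx⟩ : X) • (QuotientGroup.mk g : G ⧸ Hs) = QuotientGroup.mk g := hc ⟨x, hx⟩
    have h2 : (QuotientGroup.mk (x * g) : G ⧸ Hs) = QuotientGroup.mk g := h1
    rw [QuotientGroup.eq] at h2
    have h3 : g⁻¹ * x * g = ((x * g)⁻¹ * g)⁻¹ := by group
    rw [h3]
    exact inv_mem h2

/-- two involutions are conjugate in the group they generate, or commute with a common involution
of that group -/
theorem invol_pair [Finite G] {u v : G} (hu : u * u = 1) (hv : v * v = 1) :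
    (∃ d : G, d ∈ Subgroup.closure ({u, v} : Set G) ∧ d * u * d⁻¹ = v) ∨
    (∃ w : G, w ∈ Subgroup.closure ({u, v} : Set G) ∧ orderOf w = 2 ∧ w * u = u * w ∧
      w * v = v * w) := by
  set x := u * v with hx
  have hn : 0 < orderOf x := orderOf_pos x
  rcases Nat.even_or_odd' (orderOf x) with ⟨r, hr | hr⟩
  · -- even order
    right
    have hr0 : 0 < r := by omega
    refine ⟨x ^ r, ?_, ?_, ?_, ?_⟩
    · have := dih_zpow_mem_closure u v (r : ℤ)
      rw [zpow_natCast] at this
      exact this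
    · have h1 : x ^ r ≠ 1 := pow_ne_one_of_lt_orderOf (by omega) (by omega)
      have h2 : x ^ r * x ^ r = 1 := by
        rw [← pow_add, ← two_mul, ← hr, pow_orderOf_eq_one]
      exact orderOf_two_of_mul_self h2 h1
    · have h2 : x ^ r * x ^ r = 1 := by
        rw [← pow_add, ← two_mul, ← hr, pow_orderOf_eq_one]
      have h3 := dih_conj_left_zpow hu hv (r : ℤ)
      rw [zpow_neg, zpow_natCast, ← hx] at h3
      have h4 : (x ^ r)⁻¹ = x ^ r := inv_eq_self_of_mul_self h2
      rw [h4] at h3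
      -- u * x^r * u⁻¹ = x^r
      exact (mul_inv_eq_iff_eq_mul.1 h3).symm
    · have h2 : x ^ r * x ^ r = 1 := by
        rw [← pow_add, ← two_mul, ← hr, pow_orderOf_eq_one]
      have h3 := dih_conj_right_zpow hu hv (r : ℤ)
      rw [zpow_neg, zpow_natCast, ← hx] at h3
      have h4 : (x ^ r)⁻¹ = x ^ r := inv_eq_self_of_mul_self h2
      rw [h4] at h3
      exact (mul_inv_eq_iff_eq_mul.1 h3).symm
  · -- odd order
    left
    refine ⟨x ^ (r : ℤ), dih_zpow_mem_closure u v (r : ℤ), ?_⟩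
    have h1 := dih_conj_x_by_zpow hu hv (r : ℤ)
    rw [← hx] at h1
    rw [h1]
    have h2 : x ^ (2 * (r : ℤ)) = x ^ (-1 : ℤ) := by
      have h3 : x ^ ((2 * r + 1 : ℕ) : ℤ) = 1 := by
        rw [zpow_natCast, ← hr, pow_orderOf_eq_one]
      have h4 : ((2 * r + 1 : ℕ) : ℤ) = 2 * (r : ℤ) + 1 := by push_cast; ring
      rw [h4, zpow_add, zpow_one] at h3
      rw [zpow_neg, zpow_one]
      exact eq_inv_of_mul_eq_one_left h3
    rw [h2]
    exact (dih_y_eq' hu hv).symm

/-- a non-identity element of finite order has a power of prime order -/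
theorem exists_prime_order_pow [Finite G] {x : G} (hx : x ≠ 1) :
    ∃ p : ℕ, p.Prime ∧ p ∣ orderOf x ∧ orderOf (x ^ (orderOf x / p)) = p := by
  have h1 : orderOf x ≠ 1 := fun h => hx (orderOf_eq_one_iff.1 h)
  obtain ⟨p, hp, hpd⟩ := Nat.exists_prime_and_dvd h1
  refine ⟨p, hp, hpd, ?_⟩
  exact orderOf_pow_orderOf_div (orderOf_pos x).ne' hpd

/-- a power prime to the order generates the same cyclic group -/
theorem exists_pow_pow_eq [Finite G] (x : G) {m : ℕ} (hm : Nat.Coprime m (orderOf x)) :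
    ∃ k : ℕ, (x ^ m) ^ k = x := by
  rcases Nat.lt_or_ge 1 (orderOf x) with h1 | h1
  · obtain ⟨k, -, hk⟩ := Nat.exists_mul_mod_eq_one_of_coprime hm h1
    refine ⟨k, ?_⟩
    rw [← pow_mul, ← pow_mod_orderOf, hk, pow_one]
  · have : orderOf x = 1 := by have := orderOf_pos x; omega
    rw [orderOf_eq_one_iff] at this
    exact ⟨0, by rw [this, pow_zero]⟩

/-- the period of the permutation induced by conjugation on an invariant set -/
theorem exists_period_conj [Finite G] (T : Set G) (x : G) (hx : ∀ s ∈ T, x * s * x⁻¹ ∈ T) :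
    ∃ d : ℕ, d ∣ (T.ncard).factorial ∧
      ∀ i : ℕ, (∀ s ∈ T, x ^ i * s * (x ^ i)⁻¹ = s) ↔ d ∣ i := by
  classical
  letI : Fintype T := Fintype.ofFinite T
  let f : T → T := fun s => ⟨x * s.1 * x⁻¹, hx s.1 s.2⟩
  have hinj : Function.Injective f := by
    intro s s' h
    have h1 : x * s.1 * x⁻¹ = x * s'.1 * x⁻¹ := congrArg Subtype.val h
    exact Subtype.ext (mul_left_cancel (mul_right_cancel h1))
  let σ : Equiv.Perm T := Equiv.ofBijective f (Finite.injective_iff_bijective.1 hinj)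
  have hpow : ∀ (i : ℕ) (s : T), ((σ ^ i) s : G) = x ^ i * s.1 * (x ^ i)⁻¹ := by
    intro i
    induction i with
    | zero => intro s; simp
    | succ i ih =>
      intro s
      rw [pow_succ', Equiv.Perm.mul_apply]
      show x * ((σ ^ i) s : G) * x⁻¹ = _
      rw [ih s, pow_succ']
      group
  refine ⟨orderOf σ, ?_, ?_⟩
  · have h1 : orderOf σ ∣ Fintype.card (Equiv.Perm T) := orderOf_dvd_card
    rw [Fintype.card_perm] at h1
    have h2 : Fintype.card T = T.ncard := by
      rw [← Nat.card_eq_fintype_card, Nat.card_coe_set_eq]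
    rw [h2] at h1
    exact h1
  · intro i
    rw [orderOf_dvd_iff_pow_eq_one]
    constructor
    · intro h
      ext s
      rw [hpow i s, h s.1 s.2]
      rfl
    · intro h s hs
      have := hpow i ⟨s, hs⟩
      rw [h] at this
      exact this.symm

theorem mem_conj_smul {g x : G} {H : Subgroup G} :
    x ∈ MulAut.conj g • H ↔ g⁻¹ * x * g ∈ H := by
  rw [Subgroup.mem_pointwise_smul_iff_inv_smul_mem]
  simp [MulAut.smul_def, mul_assoc]

end Cfsg.Agent.Helper2.Ree
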