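import Mathlib

/-!
# Small Ree groups: arithmetic of `q = 3^(2m+1)`
-/

set_option autoImplicit false

namespace Cfsg.Agent.Helper2.Ree

/-- the arithmetic hypotheses on `q` and `r` (`q = 3^(2m+1)`, `r = 3^(m+1)`) -/
structure QData (q r : ℕ) : Prop where
  mod8 : q % 8 = 3
  rr : r * r = 3 * q
  three : 3 ∣ q
  big : 27 ≤ q
  pow3 : ∀ ℓ : ℕ, ℓ.Prime → ℓ ∣ q → ℓ = 3
  pow : ∃ n : ℕ, q = 3 ^ n

theorem qdata (m : ℕ) (hm : 1 ≤ m) : QData (3 ^ (2 * m + 1)) (3 ^ (m + 1)) := by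
  refine ⟨?_, ?_, ?_, ?_, ?_, ⟨2 * m + 1, rfl⟩⟩
  · have h9 : ∀ n : ℕ, 9 ^ n % 8 = 1 := by
      intro n
      induction n with
      | zero => rfl
      | succ n ih => rw [pow_succ, Nat.mul_mod, ih]
    rw [pow_succ, pow_mul, Nat.mul_mod]
    norm_num [h9]
  · rw [← pow_add]
    have : m + 1 + (m + 1) = (2 * m + 1) + 1 := by ring
    rw [this, pow_succ]
    ring
  · exact dvd_pow_self 3 (by omega)
  · calc 27 = 3 ^ 3 := by norm_num
      _ ≤ 3 ^ (2 * m + 1) := Nat.pow_le_pow_right (by norm_num) (by omega)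
  · intro ℓ hℓ hd
    have := (Nat.Prime.dvd_of_dvd_pow hℓ hd)
    exact (Nat.prime_dvd_prime_iff_eq hℓ Nat.prime_three).1 this

namespace QData

variable {q r : ℕ} (h : QData q r)
include h

theorem q_pos : 0 < q := by have := h.big; omega

theorem exists_k : ∃ k : ℕ, q + 1 = 4 * k ∧ k % 2 = 1 ∧ 7 ≤ k := by
  refine ⟨(q + 1) / 4, ?_, ?_, ?_⟩ <;> have := h.mod8 <;> have := h.big <;> omega

theorem exists_h : ∃ c : ℕ, q - 1 = 2 * c ∧ c % 2 = 1 ∧ 13 ≤ c := by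
  refine ⟨(q - 1) / 2, ?_, ?_, ?_⟩ <;> have := h.mod8 <;> have := h.big <;> omega

theorem r_le : r + 1 < q := by
  have h1 := h.rr
  have h2 := h.big
  by_contra hc
  push Not at hc
  have : q * q ≤ (r + 1) * (r + 1) := Nat.mul_le_mul hc hc
  nlinarith

theorem r_pos : 0 < r := by
  rcases Nat.eq_zero_or_pos r with h0 | h0
  · have := h.rr
    rw [h0] at this
    have := h.big
    omega
  · exact h0

theorem three_dvd_r : 3 ∣ r := by
  have : 3 ∣ r * r := by rw [h.rr]; exact dvd_mul_right 3 q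
  rcases (Nat.Prime.dvd_mul Nat.prime_three).1 this with h1 | h1 <;> exact h1

/-- `q² - q + 1 = (q + r + 1)(q - r + 1)` -/
theorem D_fac : (q + r + 1) * (q - r + 1) = q * q - q + 1 := by
  have h1 := h.r_le
  have h2 := h.rr
  obtain ⟨d, hd⟩ : ∃ d, q = r + d := ⟨q - r, by omega⟩
  subst hd
  have e1 : r + d - r + 1 = d + 1 := by omega
  rw [e1]
  have e2 : (r + d) * (r + d) - (r + d) + 1 = (r + d) * (r + d) + 1 - (r + d) := by
    have : r + d ≤ (r + d) * (r + d) := Nat.le_mul_self _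
    omega
  rw [e2]
  symm
  apply Nat.sub_eq_of_eq_add
  nlinarith

theorem cube_add_one : q ^ 3 + 1 = (q + 1) * (q * q - q + 1) := by
  have : q ≤ q * q := Nat.le_mul_self q
  obtain ⟨e, he⟩ : ∃ e, q * q = q + e := ⟨q * q - q, by omega⟩
  rw [he]
  have : q + e - q + 1 = e + 1 := by omega
  rw [this]
  have h3 : q ^ 3 = q * (q * q) := by ring
  rw [h3, he]
  nlinarith [he]

theorem q_odd : q % 2 = 1 := by have := h.mod8; omega

theorem not_three_dvd_succ : ¬ 3 ∣ q + 1 := by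
  have := h.three
  omega

theorem not_three_dvd_pred : ¬ 3 ∣ q - 1 := by
  have := h.three
  have := h.big
  omega

/-- `D = q² - q + 1` is prime to `q`, `q - 1`, `q + 1`, `2`, `3` -/
theorem D_coprime {ℓ : ℕ} (hℓ : ℓ.Prime) (hD : ℓ ∣ q * q - q + 1) :
    ¬ ℓ ∣ q ∧ ¬ ℓ ∣ q - 1 ∧ ¬ ℓ ∣ q + 1 ∧ ℓ ≠ 2 ∧ ℓ ≠ 3 := by
  have hbig := h.big
  have hle : q ≤ q * q := Nat.le_mul_self q
  obtain ⟨e, he⟩ : ∃ e, q * q = q + e := ⟨q * q - q, by omega⟩
  have hD' : q * q - q + 1 = e + 1 := by omega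
  rw [hD'] at hD
  have hℓ1 : ¬ ℓ ∣ 1 := fun h1 => hℓ.one_lt.ne' (Nat.dvd_one.1 h1)
  -- e = q (q - 1)
  obtain ⟨c, hc⟩ : ∃ c, q = c + 1 := ⟨q - 1, by omega⟩
  have hc' : q - 1 = c := by omega
  have he' : e = q * c := by
    have : q * q = q + q * c := by rw [hc]; ring
    omega
  have h1 : ¬ ℓ ∣ q := by
    intro hd
    apply hℓ1
    have : ℓ ∣ e := by rw [he']; exact Dvd.dvd.mul_right hd c
    exact (Nat.dvd_add_right this).1 hD
  have h2 : ¬ ℓ ∣ q - 1 := by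
    intro hd
    rw [hc'] at hd
    apply hℓ1
    have : ℓ ∣ e := by rw [he']; exact Dvd.dvd.mul_left hd q
    exact (Nat.dvd_add_right this).1 hD
  have h3' : ℓ ≠ 3 := by
    rintro rfl
    apply hℓ1
    have : 3 ∣ e := by rw [he']; exact Dvd.dvd.mul_right h.three c
    exact (Nat.dvd_add_right this).1 hD
  have h3 : ¬ ℓ ∣ q + 1 := by
    intro hd
    -- e + 1 = (q + 1) (q - 2) + 3
    have e1 : e + 1 = (q + 1) * (c - 1) + 3 := by
      obtain ⟨b, hb⟩ : ∃ b, c = b + 1 := ⟨c - 1, by omega⟩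
      have hb' : c - 1 = b := by omega
      rw [hb', he', hc, hb]
      ring
    rw [e1] at hD
    have : ℓ ∣ 3 := (Nat.dvd_add_right (Dvd.dvd.mul_right hd _)).1 hD
    exact h3' ((Nat.prime_dvd_prime_iff_eq hℓ Nat.prime_three).1 this)
  have h4 : ℓ ≠ 2 := by
    rintro rfl
    have : 2 ∣ e := by
      rw [he']
      have hq := h.q_odd
      have : c % 2 = 0 := by omega
      exact Dvd.dvd.mul_left (Nat.dvd_of_mod_eq_zero this) q
    apply hℓ1
    exact (Nat.dvd_add_right this).1 hD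
  exact ⟨h1, h2, h3, h4, h3'⟩

/-- a prime divisor of `(q + 1) / 4` is prime to `2`, `3`, `q`, `q - 1`, `D` -/
theorem k_coprime {p : ℕ} (hp : p.Prime) (hk : p ∣ (q + 1) / 4) :
    p ≠ 2 ∧ p ≠ 3 ∧ ¬ p ∣ q ∧ ¬ p ∣ q - 1 ∧ ¬ p ∣ q * q - q + 1 := by
  obtain ⟨k, hk4, hkodd, hk7⟩ := h.exists_k
  have hkk : (q + 1) / 4 = k := by omega
  rw [hkk] at hk
  have hq1 : p ∣ q + 1 := by rw [hk4]; exact Dvd.dvd.mul_left hk 4
  have hbig := h.big
  have hp1 : ¬ p ∣ 1 := fun h1 => hp.one_lt.ne' (Nat.dvd_one.1 h1)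
  have h2 : p ≠ 2 := by
    rintro rfl
    omega
  have h3 : p ≠ 3 := by
    rintro rfl
    exact h.not_three_dvd_succ hq1
  have h4 : ¬ p ∣ q := by
    intro hd
    exact hp1 ((Nat.dvd_add_right hd).1 hq1)
  have h5 : ¬ p ∣ q - 1 := by
    intro hd
    have e : q + 1 = (q - 1) + 2 := by omega
    rw [e] at hq1
    have : p ∣ 2 := (Nat.dvd_add_right hd).1 hq1
    exact h2 ((Nat.prime_dvd_prime_iff_eq hp Nat.prime_two).1 this)
  refine ⟨h2, h3, h4, h5, ?_⟩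
  intro hD
  exact (h.D_coprime hp hD).2.2.1 hq1

theorem coprime_k : Nat.Coprime ((q + 1) / 4) (2 * 3 * (q - 1)) := by
  apply Nat.Coprime.symm
  apply Nat.Coprime.symm
  apply Nat.coprime_of_dvd
  intro p hp hpk hpd
  obtain ⟨h2, h3, -, h5, -⟩ := h.k_coprime hp hpk
  rcases (Nat.Prime.dvd_mul hp).1 hpd with h6 | h6
  · rcases (Nat.Prime.dvd_mul hp).1 h6 with h7 | h7
    · exact h2 ((Nat.prime_dvd_prime_iff_eq hp Nat.prime_two).1 h7)
    · exact h3 ((Nat.prime_dvd_prime_iff_eq hp Nat.prime_three).1 h7)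
  · exact h5 h6

/-- the order of the group in factored form -/
theorem card_fac : q ^ 3 * (q - 1) * (q ^ 3 + 1) =
    q ^ 3 * (q - 1) * ((q + 1) * (q * q - q + 1)) := by
  rw [h.cube_add_one]

end QData

end Cfsg.Agent.Helper2.Ree
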