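import Mathlib
import Cfsg.Agent.Lib.Helper2.Ree0
import Cfsg.Agent.Lib.Helper2.Ree1

/-!
# Small Ree groups: the abstract data, the Borel subgroup and the split torus
-/

set_option autoImplicit false
set_option linter.unusedSectionVars false
set_option linter.unusedVariables false

namespace Cfsg.Agent.Helper2.Ree

/-- what is known about `PSL₂(q)` -/
structure PSLLike (q : ℕ) (P : Type*) [Group P] : Prop where
  card : 2 * Nat.card P = q * (q - 1) * (q + 1)
  cent_inv : ∀ j : P, orderOf j = 2 → Nat.card {x : P // x * j = j * x} = q + 1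
  cent_odd : ∀ y : P, y ≠ 1 → orderOf y ∣ (q + 1) / 4 →
    Nat.card {x : P // x * y = y * x} = (q + 1) / 2 ∧
      ∀ x₁ x₂ : P, x₁ * y = y * x₁ → x₂ * y = y * x₂ → x₁ * x₂ = x₂ * x₁

/-- the structural facts on the small Ree group that everything else is derived from -/
structure ReeData (G : Type*) [Group G] (P : Type*) [Group P] (q : ℕ) where
  B : Subgroup G
  U : Subgroup G
  H : Subgroup G
  n : G
  a : G
  U_le : U ≤ B
  H_le : H ≤ B
  U_norm : ∀ b ∈ B, ∀ u ∈ U, b * u * b⁻¹ ∈ U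
  B_eq : ∀ b ∈ B, ∃ u ∈ U, ∃ h ∈ H, b = u * h
  card_G : Nat.card G = q ^ 3 * (q - 1) * (q ^ 3 + 1)
  card_U : Nat.card U = q ^ 3
  card_H : Nat.card H = q - 1
  cyc_H : IsCyclic H
  bruhat : ∀ g, g ∉ B → ∃ u ∈ U, ∃ b ∈ B, g = u * n⁻¹ * b
  conj_U : ∀ u ∈ U, n * u * n⁻¹ ∈ B → u = 1
  conj_B : ∀ b ∈ B, n * b * n⁻¹ ∈ B → b ∈ H
  inv_H : ∀ h ∈ H, n * h * n⁻¹ = h⁻¹
  fpf : ∀ h ∈ H, h ≠ 1 → Odd (orderOf h) → ∀ u ∈ U, h * u = u * h → u = 1
  a_mem : a ∈ H
  a_ord : orderOf a = 2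
  cent_a : ↥(Subgroup.centralizer ({a} : Set G)) ≃* Multiplicative (ZMod 2) × P
  cent_a_apply : ∀ h : a ∈ Subgroup.centralizer ({a} : Set G),
    cent_a ⟨a, h⟩ = (Multiplicative.ofAdd 1, 1)
  psl : PSLLike q P
  syl2 : ∀ S : Sylow 2 G, Nat.card S = 8 ∧ ∀ x ∈ S, x * x = 1
  syl2n : ∀ S : Sylow 2 G, Subgroup.centralizer ((S : Subgroup G) : Set G) = S ∧
    Nat.card (Subgroup.normalizer ((S : Subgroup G) : Set G)) = 168
  syl3 : ∀ S T : Sylow 3 G, S ≠ T → (S : Subgroup G) ⊓ (T : Subgroup G) = ⊥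

theorem coprime_pred {q : ℕ} (hq : 0 < q) : Nat.Coprime q (q - 1) := by
  obtain ⟨c, rfl⟩ : ∃ c, q = c + 1 := ⟨q - 1, by omega⟩
  simp

namespace ReeData

variable {G : Type*} [Group G] [Finite G] {P : Type*} [Group P] {q r : ℕ}
  (R : ReeData G P q) (hq : QData q r)
include hq

theorem inf_UH : R.U ⊓ R.H = ⊥ := by
  apply disjoint_iff.1
  apply Subgroup.disjoint_of_coprime_natCard
  rw [R.card_U, R.card_H]
  exact Nat.Coprime.pow_left 3 (coprime_pred hq.q_pos)

theorem card_B : Nat.card R.B = q ^ 3 * (q - 1) := by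
  classical
  have hinf := R.inf_UH hq
  let f : R.U × R.H → R.B := fun p =>
    ⟨(p.1 : G) * (p.2 : G), mul_mem (R.U_le p.1.2) (R.H_le p.2.2)⟩
  have hinj : Function.Injective f := by
    rintro ⟨u, h⟩ ⟨u', h'⟩ e
    have e' : (u : G) * h = u' * h' := congrArg Subtype.val e
    have hx : (u' : G)⁻¹ * u = h' * (h : G)⁻¹ := by
      rw [inv_mul_eq_iff_eq_mul, ← mul_assoc, ← e', mul_assoc, mul_inv_cancel, mul_one]
    have hmem : (u' : G)⁻¹ * u ∈ R.U ⊓ R.H :=
      Subgroup.mem_inf.2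
        ⟨mul_mem (inv_mem u'.2) u.2, by rw [hx]; exact mul_mem h'.2 (inv_mem h.2)⟩
    rw [hinf, Subgroup.mem_bot, inv_mul_eq_one] at hmem
    have hh : (h : G) = h' := by
      rw [← hmem] at e'
      exact mul_left_cancel e'
    exact Prod.ext (Subtype.ext hmem.symm) (Subtype.ext hh)
  have hsurj : Function.Surjective f := by
    rintro ⟨b, hb⟩
    obtain ⟨u, hu, h, hh, rfl⟩ := R.B_eq b hb
    exact ⟨(⟨u, hu⟩, ⟨h, hh⟩), rfl⟩
  rw [← Nat.card_congr (Equiv.ofBijective f ⟨hinj, hsurj⟩), Nat.card_prod, R.card_U, R.card_H]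

theorem exists_U_ne_one : ∃ u ∈ R.U, u ≠ 1 := by
  have h1 : 1 < Nat.card R.U := by
    rw [R.card_U]
    have := hq.big
    calc 1 < 27 := by norm_num
      _ ≤ q := this
      _ = q ^ 1 := (pow_one q).symm
      _ ≤ q ^ 3 := Nat.pow_le_pow_right hq.q_pos (by norm_num)
  haveI : Nontrivial R.U := (Finite.one_lt_card_iff_nontrivial).1 h1
  obtain ⟨u, hu⟩ := exists_ne (1 : R.U)
  exact ⟨u.1, u.2, fun h => hu (Subtype.ext h)⟩

theorem n_not_mem : R.n ∉ R.B := by
  intro hn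
  obtain ⟨u, hu, hu1⟩ := R.exists_U_ne_one hq
  exact hu1 (R.conj_U u hu (mul_mem (mul_mem hn (R.U_le hu)) (inv_mem hn)))

omit hq in
theorem H_comm {x y : G} (hx : x ∈ R.H) (hy : y ∈ R.H) : x * y = y * x :=
  comm_of_isCyclic R.cyc_H hx hy

/-- the fixed points of an odd-order element of `H` on the cosets of `B` -/
theorem fix_of_odd {c : G} (hc : c ∈ R.H) (hc1 : c ≠ 1) (hodd : Odd (orderOf c)) {g : G}
    (hg : g⁻¹ * c * g ∈ R.B) : g ∈ R.B ∨ R.n * g ∈ R.B := by
  by_cases hgB : g ∈ R.B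
  · exact Or.inl hgB
  right
  obtain ⟨u, hu, b, hb, rfl⟩ := R.bruhat g hgB
  have h1 : R.n * (u⁻¹ * c * u) * R.n⁻¹ ∈ R.B := by
    have : R.n * (u⁻¹ * c * u) * R.n⁻¹ =
        b * ((u * R.n⁻¹ * b)⁻¹ * c * (u * R.n⁻¹ * b)) * b⁻¹ := by group
    rw [this]
    exact mul_mem (mul_mem hb hg) (inv_mem hb)
  have huB := R.U_le hu
  have hcB := R.H_le hc
  have h2 : u⁻¹ * c * u ∈ R.H :=
    R.conj_B _ (mul_mem (mul_mem (inv_mem huB) hcB) huB) h1
  have h3 : c⁻¹ * (u⁻¹ * c * u) ∈ R.U ⊓ R.H := by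
    refine Subgroup.mem_inf.2 ⟨?_, mul_mem (inv_mem hc) h2⟩
    have : c⁻¹ * (u⁻¹ * c * u) = (c⁻¹ * u⁻¹ * c⁻¹⁻¹) * u := by group
    rw [this]
    exact mul_mem (R.U_norm _ (inv_mem hcB) _ (inv_mem hu)) hu
  rw [R.inf_UH hq, Subgroup.mem_bot, inv_mul_eq_one] at h3
  have h4 : c * u = u * c := by
    have : u * c = u * (u⁻¹ * c * u) := by rw [← h3]
    rw [this]
    group
  have hu1 : u = 1 := R.fpf c hc hc1 hodd u hu h4
  subst hu1
  have : R.n * (1 * R.n⁻¹ * b) = b := by group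
  rw [this]
  exact hb

/-- the centraliser of a non-trivial element of odd order of `H` -/
theorem centralizer_of_odd {c : G} (hc : c ∈ R.H) (hc1 : c ≠ 1) (hodd : Odd (orderOf c)) :
    Subgroup.centralizer ({c} : Set G) = R.H := by
  apply le_antisymm
  · intro x hx
    rw [Subgroup.mem_centralizer_singleton_iff] at hx
    -- hx : x * c = c * x
    have hcB := R.H_le hc
    have f1 : x ∈ R.B ∨ R.n * x ∈ R.B := by
      apply R.fix_of_odd hq hc hc1 hodd
      have : x⁻¹ * c * x = c := by rw [mul_assoc, ← hx]; group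
      rw [this]
      exact hcB
    have f2 : x * R.n⁻¹ ∈ R.B ∨ R.n * (x * R.n⁻¹) ∈ R.B := by
      apply R.fix_of_odd hq hc hc1 hodd
      have : (x * R.n⁻¹)⁻¹ * c * (x * R.n⁻¹) = R.n * c * R.n⁻¹ := by
        have : (x * R.n⁻¹)⁻¹ * c * (x * R.n⁻¹) = R.n * (x⁻¹ * (c * x)) * R.n⁻¹ := by group
        rw [this, ← hx]
        group
      rw [this, R.inv_H c hc]
      exact inv_mem hcB
    rcases f1 with hxB | hnx
    · rcases f2 with h | h
      · exfalso
        apply R.n_not_mem hq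
        have : R.n = (x⁻¹ * (x * R.n⁻¹))⁻¹ := by group
        rw [this]
        exact inv_mem (mul_mem (inv_mem hxB) h)
      · apply R.conj_B x hxB
        have : R.n * x * R.n⁻¹ = R.n * (x * R.n⁻¹) := by group
        rw [this]
        exact h
    · exfalso
      -- x = n⁻¹ b
      set b := R.n * x with hb
      have hxb : x = R.n⁻¹ * b := by rw [hb]; group
      have h5 : b * c * b⁻¹ = c⁻¹ := by
        rw [← R.inv_H c hc, hb]
        have : R.n * x * c * (R.n * x)⁻¹ = R.n * (x * c * x⁻¹) * R.n⁻¹ := by group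
        rw [this, hx]
        group
      obtain ⟨u, hu, h, hh, hbe⟩ := R.B_eq b hnx
      have h6 : u * c * u⁻¹ = c⁻¹ := by
        rw [← h5, hbe]
        have : u * h * c * (u * h)⁻¹ = u * (h * c * h⁻¹) * u⁻¹ := by group
        rw [this, R.H_comm hh hc]
        group
      have h7 : c * c ∈ R.U ⊓ R.H := by
        refine Subgroup.mem_inf.2 ⟨?_, mul_mem hc hc⟩
        have : c * c = u * (c⁻¹ * u⁻¹ * c⁻¹⁻¹) := by
          have h8 : c = u * c⁻¹ * u⁻¹ := by
            have := congrArg Inv.inv h6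
            rw [inv_inv] at this
            calc c = (u * c * u⁻¹)⁻¹ := this.symm
              _ = u * c⁻¹ * u⁻¹ := by group
          calc c * c = (u * c⁻¹ * u⁻¹) * c := by rw [← h8]
            _ = u * (c⁻¹ * u⁻¹ * c⁻¹⁻¹) := by group
        rw [this]
        exact mul_mem hu (R.U_norm _ (inv_mem hcB) _ (inv_mem hu))
      rw [R.inf_UH hq, Subgroup.mem_bot] at h7
      have h9 : orderOf c ∣ 2 := by
        apply orderOf_dvd_of_pow_eq_one
        rw [pow_two]
        exact h7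
      have h10 : orderOf c = 1 := by
        rcases (Nat.dvd_prime Nat.prime_two).1 h9 with h | h
        · exact h
        · exfalso
          rw [h] at hodd
          exact absurd hodd (by decide)
      exact hc1 (orderOf_eq_one_iff.1 h10)
  · intro x hx
    rw [Subgroup.mem_centralizer_singleton_iff]
    exact R.H_comm hx hc

end ReeData

end Cfsg.Agent.Helper2.Ree
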