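import Mathlib
import Cfsg.Agent.Lib.Helper2.Ree2

/-!
# Small Ree groups: involutions and their centralisers
-/

set_option autoImplicit false
set_option linter.unusedSectionVars false
set_option linter.unusedVariables false

namespace Cfsg.Agent.Helper2.Ree

open Pointwise

variable {G : Type*} [Group G]

/-- what is known about a subgroup `L ≅ PSL₂(q)` of `G`, in terms of `G` -/
structure RelPSL (q : ℕ) (L : Subgroup G) : Prop where
  card : 2 * Nat.card L = q * (q - 1) * (q + 1)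
  cent_inv : ∀ j ∈ L, orderOf j = 2 →
    Nat.card ↥(Subgroup.centralizer ({j} : Set G) ⊓ L) = q + 1
  cent_odd : ∀ y ∈ L, y ≠ 1 → orderOf y ∣ (q + 1) / 4 →
    Nat.card ↥(Subgroup.centralizer ({y} : Set G) ⊓ L) = (q + 1) / 2 ∧
      ∀ x₁ ∈ Subgroup.centralizer ({y} : Set G) ⊓ L,
        ∀ x₂ ∈ Subgroup.centralizer ({y} : Set G) ⊓ L, x₁ * x₂ = x₂ * x₁

theorem card_cent_transport {P : Type*} [Group P] (L : Subgroup G) (e : ↥L ≃* P) (j : G)
    (hj : j ∈ L) :
    Nat.card ↥(Subgroup.centralizer ({j} : Set G) ⊓ L) =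
      Nat.card {x : P // x * e ⟨j, hj⟩ = e ⟨j, hj⟩ * x} := by
  apply Nat.card_congr
  refine ⟨fun x => ⟨e ⟨x.1, (Subgroup.mem_inf.1 x.2).2⟩, ?_⟩,
    fun y => ⟨(e.symm y.1).1, Subgroup.mem_inf.2 ⟨?_, (e.symm y.1).2⟩⟩, ?_, ?_⟩
  · have h := Subgroup.mem_centralizer_singleton_iff.1 (Subgroup.mem_inf.1 x.2).1
    rw [← map_mul, ← map_mul]
    congr 1
    exact Subtype.ext h
  · rw [Subgroup.mem_centralizer_singleton_iff]
    have h := y.2
    have h2 : e.symm y.1 * ⟨j, hj⟩ = ⟨j, hj⟩ * e.symm y.1 := by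
      apply e.injective
      rw [map_mul, map_mul, e.apply_symm_apply]
      exact h
    exact congrArg Subtype.val h2
  · intro x
    apply Subtype.ext
    simp
  · intro y
    apply Subtype.ext
    simp

theorem RelPSL.of_equiv {P : Type*} [Group P] {q : ℕ} (hP : PSLLike q P) (L : Subgroup G)
    (e : ↥L ≃* P) : RelPSL q L := by
  refine ⟨?_, ?_, ?_⟩
  · rw [Nat.card_congr e.toEquiv]
    exact hP.card
  · intro j hj hj2
    rw [card_cent_transport L e j hj]
    apply hP.cent_inv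
    rw [MulEquiv.orderOf_eq, Subgroup.orderOf_mk]
    exact hj2
  · intro y hy hy1 hyd
    have ho : orderOf (e ⟨y, hy⟩) = orderOf y := by
      rw [MulEquiv.orderOf_eq, Subgroup.orderOf_mk]
    have hne : e ⟨y, hy⟩ ≠ 1 := by
      intro h
      apply hy1
      have := e.injective (h.trans (map_one e).symm)
      exact congrArg Subtype.val this
    obtain ⟨h1, h2⟩ := hP.cent_odd (e ⟨y, hy⟩) hne (by rw [ho]; exact hyd)
    refine ⟨by rw [card_cent_transport L e y hy]; exact h1, ?_⟩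
    intro x₁ hx₁ x₂ hx₂
    have c1 : e ⟨x₁, hx₁.2⟩ * e ⟨y, hy⟩ = e ⟨y, hy⟩ * e ⟨x₁, hx₁.2⟩ := by
      rw [← map_mul, ← map_mul]
      congr 1
      exact Subtype.ext (Subgroup.mem_centralizer_singleton_iff.1 hx₁.1)
    have c2 : e ⟨x₂, hx₂.2⟩ * e ⟨y, hy⟩ = e ⟨y, hy⟩ * e ⟨x₂, hx₂.2⟩ := by
      rw [← map_mul, ← map_mul]
      congr 1
      exact Subtype.ext (Subgroup.mem_centralizer_singleton_iff.1 hx₂.1)
    have := h2 _ _ c1 c2
    rw [← map_mul, ← map_mul] at this
    exact congrArg Subtype.val (e.injective this)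

namespace ReeData

variable [Finite G] {P : Type*} [Group P] {q : ℕ} (R : ReeData G P q)
include R

/-- the non-identity elements of a Sylow 2-subgroup are conjugate -/
theorem sylow_conj (S : Sylow 2 G) {s s' : G} (hs : s ∈ (S : Subgroup G)) (hs1 : s ≠ 1)
    (hs' : s' ∈ (S : Subgroup G)) (hs'1 : s' ≠ 1) : ∃ g : G, g * s * g⁻¹ = s' := by
  classical
  obtain ⟨hcard, hexp⟩ := R.syl2 S
  obtain ⟨hcent, hnorm⟩ := R.syl2n S
  haveI : Fact (Nat.Prime 7) := ⟨by norm_num⟩
  obtain ⟨x, hx⟩ := exists_prime_orderOf_dvd_card'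
    (G := ↥(Subgroup.normalizer ((S : Subgroup G) : Set G))) 7 (by rw [hnorm]; norm_num)
  set y : G := x.1 with hy
  have hy7 : orderOf y = 7 := by
    rw [hy, ← hx]
    exact Subgroup.orderOf_coe x
  have hyN : ∀ s ∈ (S : Subgroup G), y * s * y⁻¹ ∈ (S : Subgroup G) := fun s hs =>
    (Subgroup.mem_normalizer_iff.1 x.2 s).1 hs
  have hncard : ((S : Subgroup G) : Set G).ncard = 8 := by
    rw [← Nat.card_coe_set_eq]
    exact hcard
  -- `y` centralises no non-identity element of `S`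
  have hfree : ∀ s₀ ∈ (S : Subgroup G), s₀ ≠ 1 → y * s₀ * y⁻¹ ≠ s₀ := by
    intro s₀ hs₀ hs₀1 hfix
    set T : Set G := ((S : Subgroup G) : Set G) \ {1, s₀} with hT
    have hTinv : ∀ s ∈ T, y * s * y⁻¹ ∈ T := by
      rintro s ⟨hsS, hsne⟩
      refine ⟨hyN s hsS, ?_⟩
      intro hmem
      apply hsne
      have e1 : s = y⁻¹ * (y * s * y⁻¹) * y := by group
      rcases hmem with h | h
      · left
        rw [e1, h]
        group
      · right
        have h' : y * s * y⁻¹ = s₀ := h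
        show s = s₀
        calc s = y⁻¹ * (y * s * y⁻¹) * y := e1
          _ = y⁻¹ * s₀ * y := by rw [h']
          _ = y⁻¹ * (y * s₀ * y⁻¹) * y := by rw [hfix]
          _ = s₀ := by group
    obtain ⟨d, hd, hiff⟩ := exists_period_conj T y hTinv
    have hcardT : T.ncard = 6 := by
      have hsub : ({1, s₀} : Set G) ⊆ ((S : Subgroup G) : Set G) := by
        intro z hz
        rcases hz with h | h
        · rw [h]
          exact (S : Subgroup G).one_mem
        · have h' : z = s₀ := h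
          rw [h']
          exact hs₀
      rw [hT, Set.ncard_sdiff hsub, Set.ncard_pair hs₀1.symm, hncard]
    have hd7 : d ∣ 7 := by
      apply (hiff 7).1
      intro s _
      rw [← hy7, pow_orderOf_eq_one]
      group
    have hd1 : d = 1 := by
      have h1 : d ∣ Nat.gcd 7 (Nat.factorial 6) := Nat.dvd_gcd hd7 (by rw [← hcardT]; exact hd)
      have h2 : Nat.gcd 7 (Nat.factorial 6) = 1 := by decide
      rw [h2] at h1
      exact Nat.dvd_one.1 h1
    have hcentT : ∀ s ∈ T, y * s * y⁻¹ = s := by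
      have h1 := (hiff 1).2 (by rw [hd1])
      intro s hs
      have h := h1 s hs
      rwa [pow_one] at h
    have hyC : y ∈ Subgroup.centralizer ((S : Subgroup G) : Set G) := by
      rw [Subgroup.mem_centralizer_iff]
      intro s hsS
      by_cases h1 : s = 1
      · rw [h1]
        group
      by_cases h2 : s = s₀
      · rw [h2]
        have h3 := hfix
        rw [mul_inv_eq_iff_eq_mul] at h3
        exact h3.symm
      · have h3 := hcentT s ⟨hsS, by
          intro hm
          rcases hm with h | h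
          · exact h1 h
          · exact h2 h⟩
        rw [mul_inv_eq_iff_eq_mul] at h3
        exact h3.symm
    rw [hcent] at hyC
    have h2 := hexp y hyC
    have h3 : orderOf y ∣ 2 := orderOf_dvd_of_pow_eq_one (by rw [pow_two]; exact h2)
    rw [hy7] at h3
    omega
  -- the orbit of `s` has seven elements
  have hne : ∀ i j : ℕ, i < j → j < 7 → y ^ i * s * (y ^ i)⁻¹ ≠ y ^ j * s * (y ^ j)⁻¹ := by
    intro i j hij hj7 heq
    obtain ⟨m, hm⟩ : ∃ m, j = i + m := ⟨j - i, by omega⟩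
    have hm0 : 0 < m := by omega
    have hm7 : m < 7 := by omega
    have h1 : y ^ m * s * (y ^ m)⁻¹ = s := by
      have : y ^ m * s * (y ^ m)⁻¹ = (y ^ i)⁻¹ * (y ^ j * s * (y ^ j)⁻¹) * y ^ i := by
        rw [hm, pow_add]
        group
      rw [this, ← heq]
      group
    have hcop : Nat.Coprime m (orderOf y) := by
      rw [hy7]
      have : Nat.Coprime 7 m :=
        (Nat.Prime.coprime_iff_not_dvd (by norm_num : Nat.Prime 7)).2
          (fun h => by have := Nat.le_of_dvd hm0 h; omega)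
      exact this.symm
    obtain ⟨k, hk⟩ := exists_pow_pow_eq y hcop
    have h2 : ∀ k : ℕ, (y ^ m) ^ k * s * ((y ^ m) ^ k)⁻¹ = s := by
      intro k
      induction k with
      | zero => simp
      | succ k ih =>
        have : (y ^ m) ^ (k + 1) * s * ((y ^ m) ^ (k + 1))⁻¹ =
            (y ^ m) * ((y ^ m) ^ k * s * ((y ^ m) ^ k)⁻¹) * (y ^ m)⁻¹ := by
          rw [pow_succ']
          group
        rw [this, ih, h1]
    have h3 := h2 k
    rw [hk] at h3
    exact hfree s hs hs1 h3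
  let f : Fin 7 → G := fun i => y ^ (i : ℕ) * s * (y ^ (i : ℕ))⁻¹
  have hfinj : Function.Injective f := by
    intro i j hij
    by_contra hne'
    have hne'' : (i : ℕ) ≠ (j : ℕ) := fun h => hne' (Fin.ext h)
    rcases Nat.lt_or_gt_of_ne hne'' with h | h
    · exact hne i j h j.isLt hij
    · exact hne j i h i.isLt hij.symm
  have hpowN : ∀ k : ℕ, y ^ k * s * (y ^ k)⁻¹ ∈ (S : Subgroup G) := by
    intro k
    induction k with
    | zero => simpa using hs
    | succ k ih =>
      have : y ^ (k + 1) * s * (y ^ (k + 1))⁻¹ = y * (y ^ k * s * (y ^ k)⁻¹) * y⁻¹ := by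
        rw [pow_succ']
        group
      rw [this]
      exact hyN _ ih
  have hsub : Set.range f ⊆ ((S : Subgroup G) : Set G) \ {1} := by
    rintro z ⟨i, rfl⟩
    refine ⟨hpowN i, ?_⟩
    intro h
    have h' : y ^ (i : ℕ) * s * (y ^ (i : ℕ))⁻¹ = 1 := h
    apply hs1
    have : s = (y ^ (i : ℕ))⁻¹ * (y ^ (i : ℕ) * s * (y ^ (i : ℕ))⁻¹) * y ^ (i : ℕ) := by group
    rw [this, h']
    group
  have hcard1 : (Set.range f).ncard = 7 := by
    rw [← Set.image_univ, Set.ncard_image_of_injective _ hfinj, Set.ncard_univ, Nat.card_fin]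
  have hcard2 : (((S : Subgroup G) : Set G) \ {1}).ncard = 7 := by
    rw [Set.ncard_sdiff (by
      intro z hz
      have h' : z = 1 := hz
      rw [h']
      exact (S : Subgroup G).one_mem), Set.ncard_singleton, hncard]
  have heq := Set.eq_of_subset_of_ncard_le hsub (by rw [hcard1, hcard2])
  have hmem : s' ∈ Set.range f := by
    rw [heq]
    exact ⟨hs', hs'1⟩
  obtain ⟨i, hi⟩ := hmem
  exact ⟨y ^ (i : ℕ), hi⟩

/-- all involutions are conjugate -/
theorem invol_conj {t t' : G} (ht : orderOf t = 2) (ht' : orderOf t' = 2) :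
    ∃ g : G, g * t * g⁻¹ = t' := by
  haveI : Fact (Nat.Prime 2) := ⟨Nat.prime_two⟩
  have hp : ∀ z : G, orderOf z = 2 → IsPGroup 2 (Subgroup.zpowers z) := by
    intro z hz
    apply IsPGroup.of_card (n := 1)
    rw [Nat.card_zpowers, hz, pow_one]
  obtain ⟨Q, hQ⟩ := (hp t ht).exists_le_sylow
  obtain ⟨Q', hQ'⟩ := (hp t' ht').exists_le_sylow
  obtain ⟨g, hg⟩ := MulAction.exists_smul_eq G Q Q'
  have h1 : g * t * g⁻¹ ∈ (Q' : Subgroup G) := by
    rw [← hg, Sylow.coe_subgroup_smul, mem_conj_smul]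
    have : g⁻¹ * (g * t * g⁻¹) * g = t := by group
    rw [this]
    exact hQ (Subgroup.mem_zpowers t)
  have h2 : g * t * g⁻¹ ≠ 1 := by
    intro h
    have : t = g⁻¹ * (g * t * g⁻¹) * g := by group
    rw [h] at this
    have h3 : t = 1 := by rw [this]; group
    rw [h3, orderOf_one] at ht
    omega
  have h3 : t' ≠ 1 := by
    intro h
    rw [h, orderOf_one] at ht'
    omega
  obtain ⟨g', hg'⟩ := R.sylow_conj Q' h1 h2 (hQ' (Subgroup.mem_zpowers t')) h3
  refine ⟨g' * g, ?_⟩
  rw [← hg']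
  group

/-- the `PSL₂`-factor of the centraliser of `a` -/
def La : Subgroup G :=
  ((Subgroup.prod (⊥ : Subgroup (Multiplicative (ZMod 2))) (⊤ : Subgroup P)).comap
    R.cent_a.toMonoidHom).map (Subgroup.centralizer ({R.a} : Set G)).subtype

theorem mem_La {x : G} : x ∈ R.La ↔
    ∃ hx : x ∈ Subgroup.centralizer ({R.a} : Set G), (R.cent_a ⟨x, hx⟩).1 = 1 := by
  unfold La
  rw [Subgroup.mem_map]
  constructor
  · rintro ⟨y, hy, rfl⟩
    refine ⟨y.2, ?_⟩
    rw [Subgroup.mem_comap, Subgroup.mem_prod] at hy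
    exact Subgroup.mem_bot.1 hy.1
  · rintro ⟨hx, h⟩
    refine ⟨⟨x, hx⟩, ?_, rfl⟩
    rw [Subgroup.mem_comap, Subgroup.mem_prod]
    exact ⟨Subgroup.mem_bot.2 h, Subgroup.mem_top _⟩

theorem La_le : R.La ≤ Subgroup.centralizer ({R.a} : Set G) := fun x hx =>
  (R.mem_La.1 hx).1

theorem a_mem_cent : R.a ∈ Subgroup.centralizer ({R.a} : Set G) := by
  rw [Subgroup.mem_centralizer_singleton_iff]

omit R in
theorem ofAdd_one_ne : (Multiplicative.ofAdd (1 : ZMod 2)) ≠ 1 := by decide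

theorem a_not_mem_La : R.a ∉ R.La := by
  intro h
  obtain ⟨hx, h1⟩ := R.mem_La.1 h
  rw [R.cent_a_apply hx] at h1
  exact ofAdd_one_ne h1

omit R in
theorem zmod2_cases' (x : Multiplicative (ZMod 2)) : x = 1 ∨ x = Multiplicative.ofAdd 1 := by
  revert x
  decide

theorem La_or {x : G} (hx : x ∈ Subgroup.centralizer ({R.a} : Set G)) :
    x ∈ R.La ∨ R.a * x ∈ R.La := by
  rcases zmod2_cases' (R.cent_a ⟨x, hx⟩).1 with h | h
  · exact Or.inl (R.mem_La.2 ⟨hx, h⟩)
  · right
    have hax : R.a * x ∈ Subgroup.centralizer ({R.a} : Set G) := mul_mem R.a_mem_cent hx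
    refine R.mem_La.2 ⟨hax, ?_⟩
    have e1 : (⟨R.a * x, hax⟩ : ↥(Subgroup.centralizer ({R.a} : Set G))) =
        ⟨R.a, R.a_mem_cent⟩ * ⟨x, hx⟩ := rfl
    rw [e1, map_mul, R.cent_a_apply, Prod.fst_mul, h]
    show Multiplicative.ofAdd (1 : ZMod 2) * Multiplicative.ofAdd 1 = 1
    decide

/-- the isomorphism of the `PSL₂`-factor with `P` -/
noncomputable def LaEquiv : ↥R.La ≃* P :=
  MulEquiv.ofBijective
    (MonoidHom.mk' (fun ℓ : ↥R.La => (R.cent_a ⟨ℓ.1, R.La_le ℓ.2⟩).2) (by
      intro x y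
      have e1 : (⟨(x * y : ↥R.La).1, R.La_le (x * y).2⟩ :
          ↥(Subgroup.centralizer ({R.a} : Set G))) = ⟨x.1, R.La_le x.2⟩ * ⟨y.1, R.La_le y.2⟩ := rfl
      rw [e1, map_mul, Prod.snd_mul]))
    (by
      constructor
      · intro x y hxy
        have h1 : (R.cent_a ⟨x.1, R.La_le x.2⟩).2 = (R.cent_a ⟨y.1, R.La_le y.2⟩).2 := hxy
        have hx1 := (R.mem_La.1 x.2).2
        have hy1 := (R.mem_La.1 y.2).2
        have h2 : R.cent_a ⟨x.1, R.La_le x.2⟩ = R.cent_a ⟨y.1, R.La_le y.2⟩ :=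
          Prod.ext (hx1.trans hy1.symm) h1
        have h3 := R.cent_a.injective h2
        have h4 : x.1 = y.1 :=
          congrArg (fun z : ↥(Subgroup.centralizer ({R.a} : Set G)) => z.1) h3
        exact Subtype.ext h4
      · intro p
        set z := R.cent_a.symm (1, p) with hz
        have hz1 : (R.cent_a ⟨z.1, z.2⟩).1 = 1 := by
          have : (⟨z.1, z.2⟩ : ↥(Subgroup.centralizer ({R.a} : Set G))) = z := rfl
          rw [this, hz, MulEquiv.apply_symm_apply]
        refine ⟨⟨z.1, R.mem_La.2 ⟨z.2, hz1⟩⟩, ?_⟩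
        show (R.cent_a ⟨z.1, _⟩).2 = p
        have : (⟨z.1, z.2⟩ : ↥(Subgroup.centralizer ({R.a} : Set G))) = z := rfl
        rw [this, hz, MulEquiv.apply_symm_apply])

/-- for every involution `t`, the centraliser of `t` is `⟨t⟩ × L` with `L ≅ PSL₂(q)` -/
theorem exists_L {t : G} (ht : orderOf t = 2) :
    ∃ L : Subgroup G, L ≤ Subgroup.centralizer ({t} : Set G) ∧ t ∉ L ∧
      (∀ x ∈ Subgroup.centralizer ({t} : Set G), x ∈ L ∨ t * x ∈ L) ∧ RelPSL q L := by
  obtain ⟨g, hg⟩ := R.invol_conj R.a_ord ht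
  refine ⟨R.La.map (MulAut.conj g).toMonoidHom, ?_, ?_, ?_, ?_⟩
  · intro x hx
    rw [mem_conj_iff] at hx
    have h1 := R.La_le hx
    rw [Subgroup.mem_centralizer_singleton_iff] at h1 ⊢
    rw [← hg]
    have : x * (g * R.a * g⁻¹) = g * ((g⁻¹ * x * g) * R.a) * g⁻¹ := by group
    rw [this, h1]
    group
  · intro h
    rw [mem_conj_iff, ← hg] at h
    have : g⁻¹ * (g * R.a * g⁻¹) * g = R.a := by group
    rw [this] at h
    exact R.a_not_mem_La h
  · intro x hx
    have h1 : g⁻¹ * x * g ∈ Subgroup.centralizer ({R.a} : Set G) := by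
      rw [Subgroup.mem_centralizer_singleton_iff] at hx ⊢
      rw [← hg] at hx
      have : g⁻¹ * x * g * R.a = g⁻¹ * (x * (g * R.a * g⁻¹)) * g := by group
      rw [this, hx]
      group
    rcases R.La_or h1 with h | h
    · left
      rw [mem_conj_iff]
      exact h
    · right
      rw [mem_conj_iff, ← hg]
      have : g⁻¹ * (g * R.a * g⁻¹ * x) * g = R.a * (g⁻¹ * x * g) := by group
      rw [this]
      exact h
  · exact RelPSL.of_equiv R.psl _ (((MulAut.conj g).subgroupMap R.La).symm.trans R.LaEquiv)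

end ReeData

end Cfsg.Agent.Helper2.Ree
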