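import Mathlib
import Cfsg.Agent.Lib.Helper2.Ree3

/-!
# Small Ree groups: centralisers of involutions, four-groups, Sylow 3-subgroups
-/

set_option autoImplicit false
set_option linter.unusedSectionVars false
set_option linter.unusedVariables false

namespace Cfsg.Agent.Helper2.Ree

open Pointwise

variable {G : Type*} [Group G]

/-- an element permuting three elements cyclically has order divisible by three -/
theorem three_dvd_of_cycle [Finite G] {c a b d : G} (h1 : c * a * c⁻¹ = b) (h2 : c * b * c⁻¹ = d)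
    (h3 : c * d * c⁻¹ = a) (hab : a ≠ b) (had : a ≠ d) : 3 ∣ orderOf c := by
  have conj_pow : ∀ (n : ℕ) (z : G), c ^ (n + 1) * z * (c ^ (n + 1))⁻¹ =
      c * (c ^ n * z * (c ^ n)⁻¹) * c⁻¹ := by
    intro n z
    rw [pow_succ']
    group
  have ca : c ^ 3 * a * (c ^ 3)⁻¹ = a := by
    rw [conj_pow 2, conj_pow 1, conj_pow 0, pow_zero, one_mul, inv_one, mul_one, h1, h2, h3]
  have cb : c ^ 3 * b * (c ^ 3)⁻¹ = b := by
    rw [conj_pow 2, conj_pow 1, conj_pow 0, pow_zero, one_mul, inv_one, mul_one, h2, h3, h1]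
  have cd : c ^ 3 * d * (c ^ 3)⁻¹ = d := by
    rw [conj_pow 2, conj_pow 1, conj_pow 0, pow_zero, one_mul, inv_one, mul_one, h3, h1, h2]
  have cpow : ∀ (m : ℕ) (z : G), c ^ 3 * z * (c ^ 3)⁻¹ = z →
      (c ^ 3) ^ m * z * ((c ^ 3) ^ m)⁻¹ = z := by
    intro m z hz
    induction m with
    | zero => simp
    | succ m ih =>
      have : (c ^ 3) ^ (m + 1) * z * ((c ^ 3) ^ (m + 1))⁻¹ =
          c ^ 3 * ((c ^ 3) ^ m * z * ((c ^ 3) ^ m)⁻¹) * (c ^ 3)⁻¹ := by
        rw [pow_succ']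
        group
      rw [this, ih, hz]
  set o := orderOf c with ho
  have hdecomp : o = 3 * (o / 3) + o % 3 := (Nat.div_add_mod o 3).symm
  have hone : c ^ o * a * (c ^ o)⁻¹ = a := by
    rw [ho, pow_orderOf_eq_one]
    group
  have hsplit : ∀ z : G, c ^ o * z * (c ^ o)⁻¹ =
      (c ^ 3) ^ (o / 3) * (c ^ (o % 3) * z * (c ^ (o % 3))⁻¹) * ((c ^ 3) ^ (o / 3))⁻¹ := by
    intro z
    have : c ^ o = (c ^ 3) ^ (o / 3) * c ^ (o % 3) := by
      rw [← pow_mul, ← pow_add, ← hdecomp]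
    rw [this]
    group
  have hlt : o % 3 < 3 := Nat.mod_lt _ (by norm_num)
  rcases Nat.lt_succ_iff_lt_or_eq.1 hlt with hlt2 | h2'
  · rcases Nat.lt_succ_iff_lt_or_eq.1 hlt2 with hlt1 | h1'
    · have : o % 3 = 0 := by omega
      exact Nat.dvd_of_mod_eq_zero this
    · exfalso
      rw [hsplit a, h1', pow_one, h1, cpow _ b cb] at hone
      exact hab hone.symm
  · exfalso
    have e2 : c ^ 2 * a * (c ^ 2)⁻¹ = d := by
      rw [conj_pow 1, conj_pow 0, pow_zero, one_mul, inv_one, mul_one, h1, h2]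
    rw [hsplit a, h2', e2, cpow _ d cd] at hone
    exact had hone.symm

/-- the structure of the centraliser of an involution -/
structure InvData (q : ℕ) (t : G) (L : Subgroup G) : Prop where
  ord : orderOf t = 2
  le : L ≤ Subgroup.centralizer ({t} : Set G)
  not_mem : t ∉ L
  or_mem : ∀ x ∈ Subgroup.centralizer ({t} : Set G), x ∈ L ∨ t * x ∈ L
  psl : RelPSL q L

namespace InvData

variable {q : ℕ} {t : G} {L : Subgroup G} (I : InvData q t L)
include I

theorem tt : t * t = 1 := by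
  rw [← pow_two, ← I.ord, pow_orderOf_eq_one]

theorem t_ne_one : t ≠ 1 := by
  intro h
  have := I.ord
  rw [h, orderOf_one] at this
  omega

theorem t_inv : t⁻¹ = t := inv_eq_of_mul_eq_one_left I.tt

theorem comm {ℓ : G} (hℓ : ℓ ∈ L) : ℓ * t = t * ℓ :=
  Subgroup.mem_centralizer_singleton_iff.1 (I.le hℓ)

/-- elements of odd order of the centraliser lie in `L` -/
theorem odd_mem {x : G} (hx : x * t = t * x) (hodd : Odd (orderOf x)) : x ∈ L := by
  have hsq : x * x ∈ L := by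
    rcases I.or_mem x (Subgroup.mem_centralizer_singleton_iff.2 hx) with h | h
    · exact mul_mem h h
    · have : x * x = (t * x) * (t * x) := by
        calc x * x = (t * t) * (x * x) := by rw [I.tt, one_mul]
          _ = t * (t * x) * x := by group
          _ = t * (x * t) * x := by rw [hx]
          _ = (t * x) * (t * x) := by group
      rw [this]
      exact mul_mem h h
  obtain ⟨m, hm⟩ := hodd
  have : x = (x * x) ^ (m + 1) := by
    rw [← pow_two, ← pow_mul]
    have : 2 * (m + 1) = orderOf x + 1 := by omega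
    rw [this, pow_succ, pow_orderOf_eq_one, one_mul]
  rw [this]
  exact pow_mem hsq _

/-- conjugation by the centraliser preserves `L` -/
theorem conj_mem {c w : G} (hc : c * t = t * c) (hw : w ∈ L) : c * w * c⁻¹ ∈ L := by
  rcases I.or_mem c (Subgroup.mem_centralizer_singleton_iff.2 hc) with h | h
  · exact mul_mem (mul_mem h hw) (inv_mem h)
  · have hwt := I.comm hw
    have : c * w * c⁻¹ = (t * c) * w * (t * c)⁻¹ := by
      have h1 : (t * c) * w * (t * c)⁻¹ = t * (c * w * c⁻¹) * t⁻¹ := by group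
      have h2 : (c * w * c⁻¹) * t = t * (c * w * c⁻¹) := by
        calc c * w * c⁻¹ * t = c * w * (c⁻¹ * t) := by group
          _ = c * w * (t * c⁻¹) := by
              have : c⁻¹ * t = t * c⁻¹ := by
                rw [inv_mul_eq_iff_eq_mul, ← mul_assoc, hc, mul_assoc, mul_inv_cancel, mul_one]
              rw [this]
          _ = c * (w * t) * c⁻¹ := by group
          _ = c * (t * w) * c⁻¹ := by rw [hwt]
          _ = (c * t) * w * c⁻¹ := by group
          _ = (t * c) * w * c⁻¹ := by rw [hc]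
          _ = t * (c * w * c⁻¹) := by group
      rw [h1, ← h2]
      group
    rw [this]
    exact mul_mem (mul_mem h hw) (inv_mem h)

/-- an element of the centraliser of `t` normalising a four-group `{1, t, w, tw}` centralises
it -/
theorem fix_all {w c : G} (hwt : w * t = t * w) (hne : w ≠ t) (hc : c * t = t * c)
    (hcw : c * w * c⁻¹ = t ∨ c * w * c⁻¹ = w ∨ c * w * c⁻¹ = t * w) : c * w = w * c := by
  have key : c * w * c⁻¹ = w := by
    rcases I.or_mem w (Subgroup.mem_centralizer_singleton_iff.2 hwt) with hwL | htwL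
    · have h1 := I.conj_mem hc hwL
      rcases hcw with h | h | h
      · rw [h] at h1
        exact absurd h1 I.not_mem
      · exact h
      · rw [h] at h1
        exfalso
        apply I.not_mem
        have : t = (t * w) * w⁻¹ := by group
        rw [this]
        exact mul_mem h1 (inv_mem hwL)
    · have h1 := I.conj_mem hc htwL
      have h2 : c * (t * w) * c⁻¹ = t * (c * w * c⁻¹) := by
        calc c * (t * w) * c⁻¹ = (c * t) * w * c⁻¹ := by group
          _ = (t * c) * w * c⁻¹ := by rw [hc]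
          _ = t * (c * w * c⁻¹) := by group
      rw [h2] at h1
      rcases hcw with h | h | h
      · exfalso
        -- then `c (t w) c⁻¹ = 1`
        have h3 : c * (t * w) * c⁻¹ = 1 := by rw [h2, h, I.tt]
        have h4 : t * w = 1 := by
          have : t * w = c⁻¹ * (c * (t * w) * c⁻¹) * c := by group
          rw [this, h3]
          group
        apply hne
        have : w = t⁻¹ := eq_inv_of_mul_eq_one_right h4
        rw [this, I.t_inv]
      · exact h
      · exfalso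
        rw [h, ← mul_assoc, I.tt, one_mul] at h1
        apply I.not_mem
        have : t = (t * w) * w⁻¹ := by group
        rw [this]
        exact mul_mem htwL (inv_mem h1)
  rw [mul_inv_eq_iff_eq_mul] at key
  exact key

/-- the order of a subgroup of the centraliser containing `t` -/
theorem card_two_mul [Finite G] (K : Subgroup G) (hK : K ≤ Subgroup.centralizer ({t} : Set G))
    (ht : t ∈ K) : Nat.card K = 2 * Nat.card ↥(K ⊓ L) := by
  classical
  let f : Bool × ↥(K ⊓ L) → ↥K := fun p =>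
    ⟨(if p.1 then t else 1) * (p.2 : G), mul_mem (by split_ifs; exact ht; exact K.one_mem) (Subgroup.mem_inf.1 p.2.2).1⟩
  have hinj : Function.Injective f := by
    rintro ⟨b, ℓ⟩ ⟨b', ℓ'⟩ h
    have h' : (if b then t else 1) * (ℓ : G) = (if b' then t else 1) * (ℓ' : G) :=
      congrArg Subtype.val h
    cases b <;> cases b'
    · simp only [Bool.false_eq_true, if_false, one_mul] at h'
      exact Prod.ext rfl (Subtype.ext h')
    · exfalso
      simp only [Bool.false_eq_true, if_false, one_mul, if_true] at h'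
      apply I.not_mem
      have : t = (ℓ : G) * (ℓ' : G)⁻¹ := by rw [h']; group
      rw [this]
      exact mul_mem (Subgroup.mem_inf.1 ℓ.2).2 (inv_mem (Subgroup.mem_inf.1 ℓ'.2).2)
    · exfalso
      simp only [Bool.false_eq_true, if_false, one_mul, if_true] at h'
      apply I.not_mem
      have : t = (ℓ' : G) * (ℓ : G)⁻¹ := by rw [← h']; group
      rw [this]
      exact mul_mem (Subgroup.mem_inf.1 ℓ'.2).2 (inv_mem (Subgroup.mem_inf.1 ℓ.2).2)
    · simp only [if_true] at h'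
      exact Prod.ext rfl (Subtype.ext (mul_left_cancel h'))
  have hsurj : Function.Surjective f := by
    rintro ⟨x, hx⟩
    rcases I.or_mem x (hK hx) with h | h
    · refine ⟨(false, ⟨x, Subgroup.mem_inf.2 ⟨hx, h⟩⟩), ?_⟩
      apply Subtype.ext
      show (if false = true then t else 1) * x = x
      simp
    · refine ⟨(true, ⟨t * x, Subgroup.mem_inf.2 ⟨mul_mem ht hx, h⟩⟩), ?_⟩
      apply Subtype.ext
      show (if true = true then t else 1) * (t * x) = x
      rw [if_pos rfl, ← mul_assoc, I.tt, one_mul]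
  rw [← Nat.card_congr (Equiv.ofBijective f ⟨hinj, hsurj⟩), Nat.card_prod]
  simp

end InvData

namespace ReeData

variable [Finite G] {P : Type*} [Group P] {q r : ℕ} (R : ReeData G P q) (hq : QData q r)
include R

theorem exists_invData {t : G} (ht : orderOf t = 2) : ∃ L : Subgroup G, InvData q t L := by
  obtain ⟨L, h1, h2, h3, h4⟩ := R.exists_L ht
  exact ⟨L, ht, h1, h2, h3, h4⟩

include hq

/-- `N(U) = B` -/
theorem normalizer_U (g : G) (hg : ∀ u ∈ R.U, g * u * g⁻¹ ∈ R.U) : g ∈ R.B := by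
  by_contra hgB
  obtain ⟨u, hu, b, hb, rfl⟩ := R.bruhat g hgB
  obtain ⟨u₀, hu₀, hu₀1⟩ := R.exists_U_ne_one hq
  -- `n⁻¹` normalises `U`
  have h1 : ∀ v ∈ R.U, R.n⁻¹ * v * R.n⁻¹⁻¹ ∈ R.U := by
    intro v hv
    have hv' : b⁻¹ * v * b⁻¹⁻¹ ∈ R.U := R.U_norm _ (inv_mem hb) v hv
    have h2 := hg _ hv'
    have h3 : R.n⁻¹ * v * R.n⁻¹⁻¹ =
        u⁻¹ * (u * R.n⁻¹ * b * (b⁻¹ * v * b⁻¹⁻¹) * (u * R.n⁻¹ * b)⁻¹) * u⁻¹⁻¹ := by group
    rw [h3]
    exact R.U_norm _ (inv_mem (R.U_le hu)) _ h2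
  -- hence so does `n`, by finiteness
  have h2 : ∀ v ∈ R.U, R.n * v * R.n⁻¹ ∈ R.U := by
    intro v hv
    have hinj : Function.Injective (fun w : R.U => (⟨R.n⁻¹ * w.1 * R.n⁻¹⁻¹, h1 w.1 w.2⟩ : R.U)) := by
      intro w w' h
      have h' : R.n⁻¹ * w.1 * R.n⁻¹⁻¹ = R.n⁻¹ * w'.1 * R.n⁻¹⁻¹ := congrArg Subtype.val h
      exact Subtype.ext (mul_left_cancel (mul_right_cancel h'))
    obtain ⟨w, hw⟩ := (Finite.injective_iff_surjective.1 hinj) ⟨v, hv⟩
    have hw' : R.n⁻¹ * w.1 * R.n⁻¹⁻¹ = v := congrArg Subtype.val hw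
    have : R.n * v * R.n⁻¹ = w.1 := by
      rw [← hw']
      group
    rw [this]
    exact w.2
  exact hu₀1 (R.conj_U u₀ hu₀ (R.U_le (h2 u₀ hu₀)))

/-- `U` is a Sylow 3-subgroup -/
theorem exists_sylow_U : ∃ Q : Sylow 3 G, (Q : Subgroup G) = R.U := by
  haveI : Fact (Nat.Prime 3) := ⟨Nat.prime_three⟩
  obtain ⟨n, hn⟩ := hq.pow
  have hU : IsPGroup 3 R.U := by
    apply IsPGroup.of_card (n := 3 * n)
    rw [R.card_U, hn, ← pow_mul, mul_comm]
  obtain ⟨Q, hQ⟩ := hU.exists_le_sylow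
  refine ⟨Q, ?_⟩
  symm
  apply Subgroup.eq_of_le_of_card_ge hQ
  obtain ⟨a, ha⟩ := (Q.2 : IsPGroup 3 (Q : Subgroup G)).exists_card_eq
  have hdvd : Nat.card (Q : Subgroup G) ∣ Nat.card G := Subgroup.card_subgroup_dvd_card _
  rw [ha, R.card_G] at hdvd
  have hc1 : Nat.Coprime (3 ^ a) (q ^ 3 + 1) := by
    apply Nat.Coprime.pow_left
    rw [Nat.Prime.coprime_iff_not_dvd Nat.prime_three]
    intro h
    have h3 : 3 ∣ q ^ 3 := Dvd.dvd.trans hq.three (dvd_pow_self q (by norm_num))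
    have : 3 ∣ 1 := (Nat.dvd_add_right h3).1 h
    omega
  have hc2 : Nat.Coprime (3 ^ a) (q - 1) := by
    apply Nat.Coprime.pow_left
    rw [Nat.Prime.coprime_iff_not_dvd Nat.prime_three]
    exact hq.not_three_dvd_pred
  have h1 := hc2.dvd_of_dvd_mul_right (hc1.dvd_of_dvd_mul_right hdvd)
  rw [ha, R.card_U]
  exact Nat.le_of_dvd (pow_pos hq.q_pos 3) h1

/-- the centraliser of an element of order `3` lies in a conjugate of `B` -/
theorem cent_three {y x : G} (hy : orderOf y = 3) (hxy : x * y = y * x) :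
    ∃ g : G, g⁻¹ * x * g ∈ R.B := by
  haveI : Fact (Nat.Prime 3) := ⟨Nat.prime_three⟩
  obtain ⟨Q, hQ⟩ := R.exists_sylow_U hq
  have hp : IsPGroup 3 (Subgroup.zpowers y) := by
    apply IsPGroup.of_card (n := 1)
    rw [Nat.card_zpowers, hy, pow_one]
  obtain ⟨S, hS⟩ := hp.exists_le_sylow
  have hyS : y ∈ (S : Subgroup G) := hS (Subgroup.mem_zpowers y)
  have hxS : x • S = S := by
    by_contra hne
    have h1 := R.syl3 (x • S) S hne
    have h2 : y ∈ ((x • S : Sylow 3 G) : Subgroup G) ⊓ (S : Subgroup G) := by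
      refine Subgroup.mem_inf.2 ⟨?_, hyS⟩
      rw [Sylow.coe_subgroup_smul, mem_conj_smul]
      have : x⁻¹ * y * x = y := by
        rw [mul_assoc, ← hxy]
        group
      rw [this]
      exact hyS
    rw [h1, Subgroup.mem_bot] at h2
    rw [h2, orderOf_one] at hy
    omega
  obtain ⟨g, hg⟩ := MulAction.exists_smul_eq G Q S
  refine ⟨g, ?_⟩
  apply R.normalizer_U hq
  intro u hu
  rw [← hQ] at hu ⊢
  have h1 : g * u * g⁻¹ ∈ (S : Subgroup G) := by
    rw [← hg, Sylow.coe_subgroup_smul, mem_conj_smul]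
    have : g⁻¹ * (g * u * g⁻¹) * g = u := by group
    rw [this]
    exact hu
  have h2 : x * (g * u * g⁻¹) * x⁻¹ ∈ (S : Subgroup G) := by
    have h3 : x * (g * u * g⁻¹) * x⁻¹ ∈ ((x • S : Sylow 3 G) : Subgroup G) := by
      rw [Sylow.coe_subgroup_smul, mem_conj_smul]
      have : x⁻¹ * (x * (g * u * g⁻¹) * x⁻¹) * x = g * u * g⁻¹ := by group
      rw [this]
      exact h1
    rw [hxS] at h3
    exact h3
  rw [← hg, Sylow.coe_subgroup_smul, mem_conj_smul] at h2
  have : g⁻¹ * x * g * u * (g⁻¹ * x * g)⁻¹ = g⁻¹ * (x * (g * u * g⁻¹) * x⁻¹) * g := by group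
  rw [this]
  exact h2

omit R hq in
theorem orderOf_dvd_of_conj_mem {x g : G} (K : Subgroup G) (h : g⁻¹ * x * g ∈ K) :
    orderOf x ∣ Nat.card K := by
  have h1 : orderOf (g⁻¹ * x * g) ∣ Nat.card K := Subgroup.orderOf_dvd_natCard K h
  have h2 : orderOf (g⁻¹ * x * g) = orderOf x := by
    have : g⁻¹ * x * g = (MulAut.conj g⁻¹) x := by simp
    rw [this, MulEquiv.orderOf_eq]
  rw [h2] at h1
  exact h1

/-- an element of prime order dividing `(q+1)/4` commutes with no element of order `3` -/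
theorem no_three {x y : G} {p : ℕ} (hp : p.Prime) (hx : orderOf x = p) (hpk : p ∣ (q + 1) / 4)
    (hy : orderOf y = 3) (hxy : x * y = y * x) : False := by
  obtain ⟨g, hg⟩ := R.cent_three hq hy hxy
  have h1 := orderOf_dvd_of_conj_mem R.B hg
  rw [hx, R.card_B hq] at h1
  obtain ⟨-, -, h4, h5, -⟩ := hq.k_coprime hp hpk
  rcases (Nat.Prime.dvd_mul hp).1 h1 with h | h
  · exact h4 (hp.dvd_of_dvd_pow h)
  · exact h5 h

omit hq in
/-- a four-group with an element of order three acting on it -/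
theorem exists_four : ∃ t j y : G, t * t = 1 ∧ j * j = 1 ∧ t * j = j * t ∧ t ≠ 1 ∧ j ≠ 1 ∧
    t ≠ j ∧ y * t * y⁻¹ = j ∧ y * j * y⁻¹ = t * j ∧ y * (t * j) * y⁻¹ = t := by
  haveI : Fact (Nat.Prime 2) := ⟨Nat.prime_two⟩
  haveI : Fact (Nat.Prime 3) := ⟨Nat.prime_three⟩
  obtain ⟨S⟩ := (inferInstance : Nonempty (Sylow 2 G))
  obtain ⟨hcard, hexp⟩ := R.syl2 S
  obtain ⟨hcent, hnorm⟩ := R.syl2n S
  have hinv : ∀ x ∈ (S : Subgroup G), x⁻¹ = x := fun x hx => inv_eq_of_mul_eq_one_left (hexp x hx)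
  have hcomm : ∀ x ∈ (S : Subgroup G), ∀ z ∈ (S : Subgroup G), x * z = z * x := by
    intro x hx z hz
    have h1 := hexp (x * z) (mul_mem hx hz)
    have h2 : x * z = (x * z)⁻¹ := (hinv _ (mul_mem hx hz)).symm
    rw [h2, mul_inv_rev, hinv x hx, hinv z hz]
  obtain ⟨y₀, hy₀⟩ := exists_prime_orderOf_dvd_card'
    (G := ↥(Subgroup.normalizer ((S : Subgroup G) : Set G))) 3 (by rw [hnorm]; norm_num)
  set y : G := y₀.1 with hy
  have hy3 : orderOf y = 3 := by
    rw [hy, ← hy₀]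
    exact Subgroup.orderOf_coe y₀
  have hyN : ∀ s ∈ (S : Subgroup G), y * s * y⁻¹ ∈ (S : Subgroup G) := fun s hs =>
    (Subgroup.mem_normalizer_iff.1 y₀.2 s).1 hs
  have hy3' : y ^ 3 = 1 := by rw [← hy3, pow_orderOf_eq_one]
  have hynot : y ∉ Subgroup.centralizer ((S : Subgroup G) : Set G) := by
    intro h
    rw [hcent] at h
    have h2 := hexp y h
    have h3 : orderOf y ∣ 2 := orderOf_dvd_of_pow_eq_one (by rw [pow_two]; exact h2)
    rw [hy3] at h3
    omega
  rw [Subgroup.mem_centralizer_iff] at hynot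
  push Not at hynot
  obtain ⟨s, hs, hsy⟩ := hynot
  set s₂ := y * s * y⁻¹ with hs₂
  set s₃ := y * s₂ * y⁻¹ with hs₃
  have hs₂S : s₂ ∈ (S : Subgroup G) := hyN s hs
  have hs₃S : s₃ ∈ (S : Subgroup G) := hyN s₂ hs₂S
  have hs₁ : y * s₃ * y⁻¹ = s := by
    rw [hs₃, hs₂]
    have h3 : y ^ 3 = y * y * y := by rw [pow_succ, pow_two]
    have : y * (y * (y * s * y⁻¹) * y⁻¹) * y⁻¹ = y ^ 3 * s * (y ^ 3)⁻¹ := by
      rw [h3]
      group
    rw [this, hy3']
    group
  have hne12 : s₂ ≠ s := by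
    intro h
    apply hsy
    rw [hs₂, mul_inv_eq_iff_eq_mul] at h
    exact h.symm
  have conj_mul : ∀ a b : G, y * (a * b) * y⁻¹ = (y * a * y⁻¹) * (y * b * y⁻¹) := by
    intro a b
    group
  have htj : (s * s₂) * (s₂ * s₃) = s * s₃ := by
    calc (s * s₂) * (s₂ * s₃) = s * (s₂ * s₂) * s₃ := by group
      _ = s * s₃ := by rw [hexp s₂ hs₂S, mul_one]
  have ht1 : s * s₂ ≠ 1 := by
    intro h
    apply hne12
    have : s₂ = s⁻¹ := eq_inv_of_mul_eq_one_right h
    rw [this, hinv s hs]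
  have e1 : y * (s * s₂) * y⁻¹ = s₂ * s₃ := by rw [conj_mul]
  have e2 : y * (s₂ * s₃) * y⁻¹ = (s * s₂) * (s₂ * s₃) := by
    rw [conj_mul, hs₁, htj, ← hs₃]
    exact hcomm _ hs₃S _ hs
  have e3 : y * ((s * s₂) * (s₂ * s₃)) * y⁻¹ = s * s₂ := by
    rw [htj, conj_mul, hs₁, ← hs₂]
    exact hcomm _ hs₂S _ hs
  have hj1 : s₂ * s₃ ≠ 1 := by
    intro h
    rw [h] at e1
    apply ht1
    have : s * s₂ = y⁻¹ * (y * (s * s₂) * y⁻¹) * y := by group
    rw [this, e1]
    group
  refine ⟨s * s₂, s₂ * s₃, y, hexp _ (mul_mem hs hs₂S), hexp _ (mul_mem hs₂S hs₃S),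
    hcomm _ (mul_mem hs hs₂S) _ (mul_mem hs₂S hs₃S), ht1, hj1, ?_, e1, e2, e3⟩
  intro h
  -- `t = j` gives `t j = 1`, but `y (t j) y⁻¹ = t ≠ 1`
  have h1 : (s * s₂) * (s₂ * s₃) = 1 := by
    rw [← h]
    exact hexp _ (mul_mem hs hs₂S)
  rw [h1] at e3
  apply ht1
  rw [← e3]
  group

end ReeData

end Cfsg.Agent.Helper2.Ree
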