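import Mathlib
import Cfsg.Agent.Lib.Helper2.Ree4

/-!
# Small Ree groups: the centraliser of an element of prime order dividing `(q+1)/4`
-/

set_option autoImplicit false
set_option linter.unusedSectionVars false
set_option linter.unusedVariables false

namespace Cfsg.Agent.Helper2.Ree

open Pointwise

variable {G : Type*} [Group G]

/-- a subgroup of exponent two of a group of order `2 * odd` has order at most two -/
theorem involution_unique [Finite G] (Z : Subgroup G) {k : ℕ} (hk : k % 2 = 1)
    (hZ : Nat.card Z = 2 * k) (hcomm : ∀ x ∈ Z, ∀ y ∈ Z, x * y = y * x) {j ℓ : G}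
    (hj : j ∈ Z) (hj1 : j ≠ 1) (hjj : j * j = 1) (hℓ : ℓ ∈ Z) (hℓℓ : ℓ * ℓ = 1) :
    ℓ = 1 ∨ ℓ = j := by
  classical
  let E : Subgroup G :=
    { carrier := {z | z ∈ Z ∧ z * z = 1}
      one_mem' := ⟨Z.one_mem, by group⟩
      mul_mem' := by
        rintro a b ⟨ha, ha2⟩ ⟨hb, hb2⟩
        refine ⟨mul_mem ha hb, ?_⟩
        calc a * b * (a * b) = a * (b * a) * b := by group
          _ = a * (a * b) * b := by rw [hcomm b hb a ha]
          _ = (a * a) * (b * b) := by group
          _ = 1 := by rw [ha2, hb2, one_mul]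
      inv_mem' := by
        rintro a ⟨ha, ha2⟩
        refine ⟨inv_mem ha, ?_⟩
        have : a⁻¹ = a := inv_eq_of_mul_eq_one_left ha2
        rw [this, ha2] }
  have hEZ : E ≤ Z := fun z hz => hz.1
  have hEp : IsPGroup 2 E := by
    intro g
    refine ⟨1, ?_⟩
    apply Subtype.ext
    rw [pow_one, pow_two]
    exact g.2.2
  obtain ⟨n, hn⟩ := hEp.exists_card_eq
  have hdvd : Nat.card E ∣ Nat.card Z := Subgroup.card_dvd_of_le hEZ
  rw [hn, hZ] at hdvd
  have hn1 : n ≤ 1 := by
    by_contra h
    push Not at h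
    have h4 : 4 ∣ 2 * k := Dvd.dvd.trans (pow_dvd_pow 2 h) hdvd
    omega
  have hcardE : Nat.card E ≤ 2 := by
    rw [hn]
    calc 2 ^ n ≤ 2 ^ 1 := Nat.pow_le_pow_right (by norm_num) hn1
      _ = 2 := by norm_num
  by_contra hne
  push Not at hne
  have h3 : ({1, j, ℓ} : Set G) ⊆ (E : Set G) := by
    intro z hz
    rcases hz with h | h | h
    · rw [h]; exact E.one_mem
    · rw [h]; exact ⟨hj, hjj⟩
    · have h' : z = ℓ := h
      rw [h']; exact ⟨hℓ, hℓℓ⟩
  have h4 : ({1, j, ℓ} : Set G).ncard = 3 := by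
    rw [Set.ncard_eq_three]
    exact ⟨1, j, ℓ, hj1.symm, hne.1.symm, fun h => hne.2 h.symm, rfl⟩
  have h5 : ({1, j, ℓ} : Set G).ncard ≤ (E : Set G).ncard := Set.ncard_le_ncard h3
  rw [h4, ← Nat.card_coe_set_eq] at h5
  have : Nat.card (E : Set G) = Nat.card E := rfl
  omega

namespace ReeData

variable [Finite G] {P : Type*} [Group P] {q r : ℕ} (R : ReeData G P q) (hq : QData q r)
include R hq

/-- the index of a subgroup of order `2 (q + 1)` is prime to every prime dividing `(q+1)/4` -/
theorem not_dvd_index_of_card (K : Subgroup G) (hK : Nat.card K = 2 * (q + 1)) {p : ℕ}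
    (hp : p.Prime) (hpk : p ∣ (q + 1) / 4) : ¬ p ∣ K.index := by
  intro hd
  have h1 := K.index_mul_card
  rw [hK, R.card_G, hq.card_fac] at h1
  obtain ⟨h2, h3, h4, h5, h6⟩ := hq.k_coprime hp hpk
  have hpos : 0 < q + 1 := Nat.succ_pos q
  have h7 : K.index * 2 = q ^ 3 * (q - 1) * (q * q - q + 1) := by
    apply Nat.eq_of_mul_eq_mul_right hpos
    calc K.index * 2 * (q + 1) = K.index * (2 * (q + 1)) := by ring
      _ = q ^ 3 * (q - 1) * ((q + 1) * (q * q - q + 1)) := h1
      _ = q ^ 3 * (q - 1) * (q * q - q + 1) * (q + 1) := by ring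
  have h8 : p ∣ q ^ 3 * (q - 1) * (q * q - q + 1) := by
    rw [← h7]
    exact Dvd.dvd.mul_right hd 2
  rcases (Nat.Prime.dvd_mul hp).1 h8 with h | h
  · rcases (Nat.Prime.dvd_mul hp).1 h with h' | h'
    · exact h4 (hp.dvd_of_dvd_pow h')
    · exact h5 h'
  · exact h6 h

/-- the main step: the centraliser of an element `x` of prime order dividing `(q+1)/4`
centralising the four-group `{1, t, j, tj}` -/
theorem cent_prime_k_aux {t j : G} {L : Subgroup G} (I : InvData q t L) (hjj : j * j = 1)
    (hj1 : j ≠ 1) (hjL : j ∈ L) {x : G} {p : ℕ} (hp : p.Prime) (hx : orderOf x = p)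
    (hpk : p ∣ (q + 1) / 4) (hxt : x * t = t * x) (hxj : x * j = j * x) :
    (∀ c : G, c * x = x * c → c * t = t * c ∧ c * j = j * c) ∧
    (∀ c₁ c₂ : G, c₁ * x = x * c₁ → c₂ * x = x * c₂ → c₁ * c₂ = c₂ * c₁) ∧
    Nat.card (Subgroup.centralizer ({x} : Set G)) = q + 1 := by
  classical
  obtain ⟨k, hk4, hkodd, hk7⟩ := hq.exists_k
  have hkk : (q + 1) / 4 = k := by omega
  have hk2 : (q + 1) / 2 = 2 * k := by omega
  have htt := I.tt
  have ht1 := I.t_ne_one
  have hjt : j * t = t * j := I.comm hjL
  have htj_ne : t ≠ j := fun h => I.not_mem (h ▸ hjL)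
  have hx1 : x ≠ 1 := by
    intro h
    rw [h, orderOf_one] at hx
    exact hp.one_lt.ne' hx.symm
  have hxodd : Odd (orderOf x) := by
    rw [hx]
    exact hp.odd_of_ne_two (hq.k_coprime hp hpk).1
  have hxk : orderOf x ∣ (q + 1) / 4 := by rw [hx]; exact hpk
  -- the data for an involution `u` centralising `x`
  have hinv : ∀ u : G, orderOf u = 2 → x * u = u * x →
      Nat.card ↥(Subgroup.centralizer ({u} : Set G) ⊓ Subgroup.centralizer ({x} : Set G)) = q + 1 ∧
      ∀ c₁ ∈ Subgroup.centralizer ({u} : Set G) ⊓ Subgroup.centralizer ({x} : Set G),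
        ∀ c₂ ∈ Subgroup.centralizer ({u} : Set G) ⊓ Subgroup.centralizer ({x} : Set G),
          c₁ * c₂ = c₂ * c₁ := by
    intro u hu hxu
    obtain ⟨Lu, Iu⟩ := R.exists_invData hu
    have hxLu : x ∈ Lu := Iu.odd_mem hxu hxodd
    obtain ⟨hc, hab⟩ := Iu.psl.cent_odd x hxLu hx1 hxk
    set K := Subgroup.centralizer ({u} : Set G) ⊓ Subgroup.centralizer ({x} : Set G) with hK
    have huK : u ∈ K := by
      refine ⟨Subgroup.mem_centralizer_singleton_iff.2 rfl, ?_⟩
      exact Subgroup.mem_centralizer_singleton_iff.2 hxu.symm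
    have hKL : K ⊓ Lu = Subgroup.centralizer ({x} : Set G) ⊓ Lu := by
      ext z
      constructor
      · rintro ⟨⟨-, h2⟩, h3⟩
        exact ⟨h2, h3⟩
      · rintro ⟨h2, h3⟩
        exact ⟨⟨Iu.le h3, h2⟩, h3⟩
    constructor
    · rw [Iu.card_two_mul K inf_le_left huK, hKL, hc, hk2]
      omega
    · -- commutativity
      have hdec : ∀ c ∈ K, ∃ ℓ ∈ Subgroup.centralizer ({x} : Set G) ⊓ Lu, c = ℓ ∨ c = u * ℓ := by
        intro c hcK
        rcases Iu.or_mem c hcK.1 with h | h
        · exact ⟨c, ⟨hcK.2, h⟩, Or.inl rfl⟩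
        · refine ⟨u * c, ⟨mul_mem huK.2 hcK.2, h⟩, Or.inr ?_⟩
          rw [← mul_assoc, Iu.tt, one_mul]
      intro c₁ hc₁ c₂ hc₂
      obtain ⟨ℓ₁, hℓ₁, e₁⟩ := hdec c₁ hc₁
      obtain ⟨ℓ₂, hℓ₂, e₂⟩ := hdec c₂ hc₂
      have h12 := hab ℓ₁ hℓ₁ ℓ₂ hℓ₂
      have hu1 : ℓ₁ * u = u * ℓ₁ := Iu.comm hℓ₁.2
      have hu2 : ℓ₂ * u = u * ℓ₂ := Iu.comm hℓ₂.2
      rcases e₁ with e₁ | e₁ <;> rcases e₂ with e₂ | e₂ <;> rw [e₁, e₂]
      · exact h12
      · calc ℓ₁ * (u * ℓ₂) = (ℓ₁ * u) * ℓ₂ := by group
          _ = u * (ℓ₁ * ℓ₂) := by rw [hu1]; group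
          _ = u * ℓ₂ * ℓ₁ := by rw [h12]; group
      · calc u * ℓ₁ * ℓ₂ = u * (ℓ₁ * ℓ₂) := by group
          _ = u * (ℓ₂ * ℓ₁) := by rw [h12]
          _ = (u * ℓ₂) * ℓ₁ := by group
          _ = ℓ₂ * (u * ℓ₁) := by rw [← hu2]; group
      · calc u * ℓ₁ * (u * ℓ₂) = u * (ℓ₁ * u) * ℓ₂ := by group
          _ = u * u * (ℓ₁ * ℓ₂) := by rw [hu1]; group
          _ = u * u * (ℓ₂ * ℓ₁) := by rw [h12]
          _ = u * (u * ℓ₂) * ℓ₁ := by group
          _ = u * (ℓ₂ * u) * ℓ₁ := by rw [hu2]
          _ = u * ℓ₂ * (u * ℓ₁) := by group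
  set M := Subgroup.centralizer ({t} : Set G) ⊓ Subgroup.centralizer ({x} : Set G) with hM
  obtain ⟨hMcard, hMab⟩ := hinv t I.ord hxt
  have htM : t ∈ M :=
    ⟨Subgroup.mem_centralizer_singleton_iff.2 rfl, Subgroup.mem_centralizer_singleton_iff.2 hxt.symm⟩
  have hjM : j ∈ M :=
    ⟨Subgroup.mem_centralizer_singleton_iff.2 hjt, Subgroup.mem_centralizer_singleton_iff.2 hxj.symm⟩
  have hxM : x ∈ M :=
    ⟨Subgroup.mem_centralizer_singleton_iff.2 hxt, Subgroup.mem_centralizer_singleton_iff.2 rfl⟩
  have htjM : t * j ∈ M := mul_mem htM hjM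
  have hj2 : orderOf j = 2 := orderOf_two_of_mul_self hjj hj1
  have htj1 : t * j ≠ 1 := by
    intro h
    apply htj_ne
    have : j = t⁻¹ := eq_inv_of_mul_eq_one_right h
    rw [this, I.t_inv]
  have htjtj : (t * j) * (t * j) = 1 := by
    calc t * j * (t * j) = t * (j * t) * j := by group
      _ = t * (t * j) * j := by rw [hjt]
      _ = (t * t) * (j * j) := by group
      _ = 1 := by rw [htt, hjj, one_mul]
  have htj2 : orderOf (t * j) = 2 := orderOf_two_of_mul_self htjtj htj1
  -- for `u ∈ {t, j, tj}`, `C(u) ∩ C(x) = M`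
  have hKu : ∀ u : G, u ∈ M → orderOf u = 2 →
      Subgroup.centralizer ({u} : Set G) ⊓ Subgroup.centralizer ({x} : Set G) = M := by
    intro u huM hu2
    have hxu : x * u = u * x := (Subgroup.mem_centralizer_singleton_iff.1 huM.2).symm
    obtain ⟨hc, -⟩ := hinv u hu2 hxu
    symm
    apply Subgroup.eq_of_le_of_card_ge
    · intro m hm
      exact ⟨Subgroup.mem_centralizer_singleton_iff.2 (hMab m hm u huM), hm.2⟩
    · rw [hc, hMcard]
  -- the elements of `M` of order at most two
  have hMinv : ∀ m ∈ M, m * m = 1 → m = 1 ∨ m = t ∨ m = j ∨ m = t * j := by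
    intro m hm hmm
    set Z := Subgroup.centralizer ({x} : Set G) ⊓ L with hZ
    obtain ⟨hZc, hZab⟩ := I.psl.cent_odd x (I.odd_mem hxt hxodd) hx1 hxk
    rw [hk2] at hZc
    have hjZ : j ∈ Z := ⟨hjM.2, hjL⟩
    rcases I.or_mem m hm.1 with h | h
    · rcases involution_unique Z hkodd hZc hZab hjZ hj1 hjj ⟨hm.2, h⟩ hmm with h1 | h1
      · exact Or.inl h1
      · exact Or.inr (Or.inr (Or.inl h1))
    · have htm : (t * m) * (t * m) = 1 := by
        have hmt : m * t = t * m := Subgroup.mem_centralizer_singleton_iff.1 hm.1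
        calc t * m * (t * m) = t * (m * t) * m := by group
          _ = t * (t * m) * m := by rw [hmt]
          _ = (t * t) * (m * m) := by group
          _ = 1 := by rw [htt, hmm, one_mul]
      have htmx : t * m ∈ Subgroup.centralizer ({x} : Set G) := mul_mem htM.2 hm.2
      rcases involution_unique Z hkodd hZc hZab hjZ hj1 hjj ⟨htmx, h⟩ htm with h1 | h1
      · right; left
        have : m = t⁻¹ := eq_inv_of_mul_eq_one_right h1
        rw [this, I.t_inv]
      · right; right; right
        have : m = t * (t * m) := by rw [← mul_assoc, htt, one_mul]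
        rw [this, h1]
  -- an element of `C(x)` normalising `M` centralises `t` and `j`
  have hnorm : ∀ c : G, c * x = x * c → (∀ m ∈ M, c * m * c⁻¹ ∈ M) → c * t = t * c ∧ c * j = j * c := by
    intro c hcx hcM
    have himg : ∀ v : G, v ∈ M → v * v = 1 → v ≠ 1 →
        c * v * c⁻¹ = t ∨ c * v * c⁻¹ = j ∨ c * v * c⁻¹ = t * j := by
      intro v hv hvv hv1
      have h1 : (c * v * c⁻¹) * (c * v * c⁻¹) = 1 := by
        calc c * v * c⁻¹ * (c * v * c⁻¹) = c * (v * v) * c⁻¹ := by group
          _ = 1 := by rw [hvv]; group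
      rcases hMinv _ (hcM v hv) h1 with h | h | h | h
      · exfalso
        apply hv1
        have : v = c⁻¹ * (c * v * c⁻¹) * c := by group
        rw [this, h]
        group
      · exact Or.inl h
      · exact Or.inr (Or.inl h)
      · exact Or.inr (Or.inr h)
    have hconj_inj : ∀ v w : G, c * v * c⁻¹ = c * w * c⁻¹ → v = w := fun v w h =>
      mul_left_cancel (mul_right_cancel h)
    have hno3 : ¬ 3 ∣ orderOf c := by
      intro h3
      have ho : orderOf (c ^ (orderOf c / 3)) = 3 :=
        orderOf_pow_orderOf_div (orderOf_pos c).ne' h3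
      apply R.no_three hq hp hx hpk ho
      have : Commute x c := hcx.symm
      exact (this.pow_right _).eq
    have ht := himg t htM htt ht1
    have hj := himg j hjM hjj hj1
    have htj := himg (t * j) htjM htjtj htj1
    have mul_conj : c * (t * j) * c⁻¹ = (c * t * c⁻¹) * (c * j * c⁻¹) := by group
    -- if `c` fixes one of them, it fixes all
    have fix_t : c * t * c⁻¹ = t → c * t = t * c ∧ c * j = j * c := by
      intro h
      have hct : c * t = t * c := mul_inv_eq_iff_eq_mul.1 h
      refine ⟨hct, ?_⟩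
      apply I.fix_all hjt (fun h => htj_ne h.symm) hct
      rcases hj with h' | h' | h'
      · exact Or.inl h'
      · exact Or.inr (Or.inl h')
      · exact Or.inr (Or.inr h')
    rcases ht with h | h | h
    · exact fix_t h
    · -- `t ↦ j`
      exfalso
      rcases hj with h' | h' | h'
      · -- `j ↦ t`: then `tj` is fixed
        obtain ⟨Ltj, Itj⟩ := R.exists_invData htj2
        have hfix : c * (t * j) * c⁻¹ = t * j := by
          rw [mul_conj, h, h', hjt]
        have hc1 : c * (t * j) = (t * j) * c := mul_inv_eq_iff_eq_mul.1 hfix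
        have htc : c * t = t * c := by
          apply Itj.fix_all _ _ hc1
          · right; right
            rw [h]
            calc j = (t * t) * j := by rw [htt, one_mul]
              _ = t * (t * j) := by group
              _ = t * (j * t) := by rw [hjt]
              _ = t * j * t := by group
          · calc t * (t * j) = (t * t) * j := by group
              _ = (t * j) * t := by rw [mul_assoc t j t, hjt]; group
          · intro h0
            apply hj1
            have : t * j = t * 1 := by rw [mul_one]; exact h0.symm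
            exact mul_left_cancel this
        rw [mul_inv_eq_iff_eq_mul, htc] at h
        exact htj_ne (mul_right_cancel h)
      · exact htj_ne (hconj_inj _ _ (h.trans h'.symm))
      · -- a `3`-cycle
        apply hno3
        have h3 : c * (t * j) * c⁻¹ = t := by
          rw [mul_conj, h, h']
          calc j * (t * j) = (j * t) * j := by group
            _ = t * (j * j) := by rw [hjt]; group
            _ = t := by rw [hjj, mul_one]
        exact three_dvd_of_cycle h h' h3 htj_ne (fun h0 => hj1 (by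
          have : t * 1 = t * j := by rw [mul_one]; exact h0
          exact (mul_left_cancel this).symm))
    · -- `t ↦ tj`
      exfalso
      rcases hj with h' | h' | h'
      · -- `j ↦ t`: a `3`-cycle `t ↦ tj ↦ j ↦ t`
        apply hno3
        have h3 : c * (t * j) * c⁻¹ = j := by
          rw [mul_conj, h, h']
          calc t * j * t = t * (j * t) := by group
            _ = (t * t) * j := by rw [hjt]; group
            _ = j := by rw [htt, one_mul]
        exact three_dvd_of_cycle h h3 h' (fun h0 => hj1 (by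
          have : t * 1 = t * j := by rw [mul_one]; exact h0
          exact (mul_left_cancel this).symm)) htj_ne
      · -- `j` is fixed
        obtain ⟨Lj, Ij⟩ := R.exists_invData hj2
        have hc1 : c * j = j * c := mul_inv_eq_iff_eq_mul.1 h'
        have htc : c * t = t * c := by
          apply Ij.fix_all hjt.symm htj_ne hc1
          right; right
          rw [h, hjt]
        rw [mul_inv_eq_iff_eq_mul, htc] at h
        have : t * 1 = t * j := by rw [mul_one]; exact mul_right_cancel h
        exact hj1 (mul_left_cancel this).symm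
      · exact htj_ne.symm (by
          have := hconj_inj _ _ (h'.trans h.symm)
          exact this)
  -- `C(x) ≤ M`
  have hle : ∀ c : G, c * x = x * c → c * t = t * c ∧ c * j = j * c := by
    intro c hcx
    set j' := c * j * c⁻¹ with hj'
    have hj'j' : j' * j' = 1 := by
      calc j' * j' = c * (j * j) * c⁻¹ := by rw [hj']; group
        _ = 1 := by rw [hjj]; group
    have hj'x : j' * x = x * j' := by
      have hcx' : c⁻¹ * x = x * c⁻¹ := by
        rw [inv_mul_eq_iff_eq_mul, ← mul_assoc, hcx, mul_assoc, mul_inv_cancel, mul_one]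
      calc j' * x = c * j * (c⁻¹ * x) := by rw [hj']; group
        _ = c * j * (x * c⁻¹) := by rw [hcx']
        _ = c * (j * x) * c⁻¹ := by group
        _ = c * (x * j) * c⁻¹ := by rw [hxj]
        _ = (c * x) * j * c⁻¹ := by group
        _ = (x * c) * j * c⁻¹ := by rw [hcx]
        _ = x * j' := by rw [hj']; group
    have hclos : Subgroup.closure ({t, j'} : Set G) ≤ Subgroup.centralizer ({x} : Set G) := by
      rw [Subgroup.closure_le]
      intro z hz
      rcases hz with h | h
      · rw [h]
        exact Subgroup.mem_centralizer_singleton_iff.2 hxt.symm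
      · have h0 : z = j' := h
        rw [h0]
        exact Subgroup.mem_centralizer_singleton_iff.2 hj'x
    -- conjugation by `c` maps `C(j) ∩ C(x)` to `C(j') ∩ C(x)`
    have hmap : ∀ m ∈ M, c * m * c⁻¹ ∈
        Subgroup.centralizer ({j'} : Set G) ⊓ Subgroup.centralizer ({x} : Set G) := by
      intro m hm
      rw [← hKu j hjM hj2] at hm
      have h1 : m * j = j * m := Subgroup.mem_centralizer_singleton_iff.1 hm.1
      have h2 : m * x = x * m := Subgroup.mem_centralizer_singleton_iff.1 hm.2
      have hcx' : c⁻¹ * x = x * c⁻¹ := by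
        rw [inv_mul_eq_iff_eq_mul, ← mul_assoc, hcx, mul_assoc, mul_inv_cancel, mul_one]
      refine ⟨Subgroup.mem_centralizer_singleton_iff.2 ?_, Subgroup.mem_centralizer_singleton_iff.2 ?_⟩
      · calc c * m * c⁻¹ * j' = c * (m * j) * c⁻¹ := by rw [hj']; group
          _ = c * (j * m) * c⁻¹ := by rw [h1]
          _ = j' * (c * m * c⁻¹) := by rw [hj']; group
      · calc c * m * c⁻¹ * x = c * m * (c⁻¹ * x) := by group
          _ = c * m * (x * c⁻¹) := by rw [hcx']
          _ = c * (m * x) * c⁻¹ := by group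
          _ = c * (x * m) * c⁻¹ := by rw [h2]
          _ = (c * x) * m * c⁻¹ := by group
          _ = (x * c) * m * c⁻¹ := by rw [hcx]
          _ = x * (c * m * c⁻¹) := by group
    rcases invol_pair htt hj'j' with ⟨d, hd, hdt⟩ | ⟨w, hw, hw2, hwt, hwj⟩
    · -- `t` and `j'` are conjugate in `C(x)`: impossible
      exfalso
      have hdx : d * x = x * d := Subgroup.mem_centralizer_singleton_iff.1 (hclos hd)
      set c' := c⁻¹ * d with hc'
      have hc'x : c' * x = x * c' := by
        have hcx' : c⁻¹ * x = x * c⁻¹ := by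
          rw [inv_mul_eq_iff_eq_mul, ← mul_assoc, hcx, mul_assoc, mul_inv_cancel, mul_one]
        calc c' * x = c⁻¹ * (d * x) := by rw [hc']; group
          _ = c⁻¹ * (x * d) := by rw [hdx]
          _ = (c⁻¹ * x) * d := by group
          _ = (x * c⁻¹) * d := by rw [hcx']
          _ = x * c' := by rw [hc']; group
      have hc't : c' * t * c'⁻¹ = j := by
        calc c' * t * c'⁻¹ = c⁻¹ * (d * t * d⁻¹) * c := by rw [hc']; group
          _ = c⁻¹ * j' * c := by rw [hdt]
          _ = j := by rw [hj']; group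
      have hc'M : ∀ m ∈ M, c' * m * c'⁻¹ ∈ M := by
        intro m hm
        rw [← hKu j hjM hj2]
        have h1 : m * t = t * m := Subgroup.mem_centralizer_singleton_iff.1 hm.1
        have h2 : m * x = x * m := Subgroup.mem_centralizer_singleton_iff.1 hm.2
        have hcx' : c'⁻¹ * x = x * c'⁻¹ := by
          rw [inv_mul_eq_iff_eq_mul, ← mul_assoc, hc'x, mul_assoc, mul_inv_cancel, mul_one]
        refine ⟨Subgroup.mem_centralizer_singleton_iff.2 ?_,
          Subgroup.mem_centralizer_singleton_iff.2 ?_⟩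
        · calc c' * m * c'⁻¹ * j = c' * m * c'⁻¹ * (c' * t * c'⁻¹) := by rw [hc't]
            _ = c' * (m * t) * c'⁻¹ := by group
            _ = c' * (t * m) * c'⁻¹ := by rw [h1]
            _ = (c' * t * c'⁻¹) * (c' * m * c'⁻¹) := by group
            _ = j * (c' * m * c'⁻¹) := by rw [hc't]
        · calc c' * m * c'⁻¹ * x = c' * m * (c'⁻¹ * x) := by group
            _ = c' * m * (x * c'⁻¹) := by rw [hcx']
            _ = c' * (m * x) * c'⁻¹ := by group
            _ = c' * (x * m) * c'⁻¹ := by rw [h2]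
            _ = (c' * x) * m * c'⁻¹ := by group
            _ = (x * c') * m * c'⁻¹ := by rw [hc'x]
            _ = x * (c' * m * c'⁻¹) := by group
      obtain ⟨h1, -⟩ := hnorm c' hc'x hc'M
      rw [mul_inv_eq_iff_eq_mul, h1] at hc't
      exact htj_ne (mul_right_cancel hc't)
    · -- a common commuting involution `w`
      have hwx : w * x = x * w := Subgroup.mem_centralizer_singleton_iff.1 (hclos hw)
      have hwM : w ∈ M :=
        ⟨Subgroup.mem_centralizer_singleton_iff.2 hwt, Subgroup.mem_centralizer_singleton_iff.2 hwx⟩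
      have hj'M : j' ∈ M := by
        rw [← hKu w hwM hw2]
        exact ⟨Subgroup.mem_centralizer_singleton_iff.2 hwj.symm,
          Subgroup.mem_centralizer_singleton_iff.2 hj'x⟩
      have hj'2 : orderOf j' = 2 := by
        apply orderOf_two_of_mul_self hj'j'
        intro h
        apply hj1
        have : j = c⁻¹ * j' * c := by rw [hj']; group
        rw [this, h]
        group
      have hcM : ∀ m ∈ M, c * m * c⁻¹ ∈ M := by
        intro m hm
        have := hmap m hm
        rw [hKu j' hj'M hj'2] at this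
        exact this
      exact hnorm c hcx hcM
  refine ⟨hle, ?_, ?_⟩
  · intro c₁ c₂ h1 h2
    apply hMab
    · exact ⟨Subgroup.mem_centralizer_singleton_iff.2 (hle c₁ h1).1,
        Subgroup.mem_centralizer_singleton_iff.2 h1⟩
    · exact ⟨Subgroup.mem_centralizer_singleton_iff.2 (hle c₂ h2).1,
        Subgroup.mem_centralizer_singleton_iff.2 h2⟩
  · have hEq : Subgroup.centralizer ({x} : Set G) = M := by
      apply le_antisymm
      · intro c hc
        have h1 := Subgroup.mem_centralizer_singleton_iff.1 hc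
        exact Subgroup.mem_inf.2 ⟨Subgroup.mem_centralizer_singleton_iff.2 (hle c h1).1, hc⟩
      · exact inf_le_right
    rw [hEq]
    exact hMcard

end ReeData

end Cfsg.Agent.Helper2.Ree
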