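import Mathlib
import Cfsg.Agent.Lib.Helper2.Ree5

/-!
# Small Ree groups: centralisers of the subgroups of the tori of orders `(q-1)/2` and `(q+1)/4`
-/

set_option autoImplicit false
set_option linter.unusedSectionVars false
set_option linter.unusedVariables false

namespace Cfsg.Agent.Helper2.Ree

open Pointwise

theorem QData.h_coprime {q r : ℕ} (h : QData q r) {p : ℕ} (hp : p.Prime)
    (hh : p ∣ (q - 1) / 2) :
    p ≠ 2 ∧ p ∣ q - 1 ∧ ¬ p ∣ q ∧ ¬ p ∣ q + 1 ∧ ¬ p ∣ q * q - q + 1 := by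
  obtain ⟨c, hc2, hcodd, hc13⟩ := h.exists_h
  have hcc : (q - 1) / 2 = c := by omega
  rw [hcc] at hh
  have hq1 : p ∣ q - 1 := by rw [hc2]; exact Dvd.dvd.mul_left hh 2
  have h2 : p ≠ 2 := by
    rintro rfl
    omega
  have hp1 : ¬ p ∣ 1 := fun h1 => hp.one_lt.ne' (Nat.dvd_one.1 h1)
  have hbig := h.big
  have h4 : ¬ p ∣ q := by
    intro hd
    have e : q = (q - 1) + 1 := by omega
    rw [e] at hd
    exact hp1 ((Nat.dvd_add_right hq1).1 hd)
  have h5 : ¬ p ∣ q + 1 := by
    intro hd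
    have e : q + 1 = (q - 1) + 2 := by omega
    rw [e] at hd
    have : p ∣ 2 := (Nat.dvd_add_right hq1).1 hd
    exact h2 ((Nat.prime_dvd_prime_iff_eq hp Nat.prime_two).1 this)
  refine ⟨h2, hq1, h4, h5, ?_⟩
  intro hD
  exact (h.D_coprime hp hD).2.1 hq1

variable {G : Type*} [Group G]

theorem conj_comm {c x : G} (g : G) (h : c * x = x * c) :
    (g⁻¹ * c * g) * (g⁻¹ * x * g) = (g⁻¹ * x * g) * (g⁻¹ * c * g) := by
  calc (g⁻¹ * c * g) * (g⁻¹ * x * g) = g⁻¹ * (c * x) * g := by group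
    _ = g⁻¹ * (x * c) * g := by rw [h]
    _ = (g⁻¹ * x * g) * (g⁻¹ * c * g) := by group

theorem conj_comm' {c x : G} (g : G) (h : c * (g⁻¹ * x * g) = (g⁻¹ * x * g) * c) :
    (g * c * g⁻¹) * x = x * (g * c * g⁻¹) := by
  calc (g * c * g⁻¹) * x = g * (c * (g⁻¹ * x * g)) * g⁻¹ := by group
    _ = g * ((g⁻¹ * x * g) * c) * g⁻¹ := by rw [h]
    _ = x * (g * c * g⁻¹) := by group

theorem card_centralizer_conj (g x : G) :
    Nat.card (Subgroup.centralizer ({g⁻¹ * x * g} : Set G)) =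
      Nat.card (Subgroup.centralizer ({x} : Set G)) := by
  apply Nat.card_congr
  refine ⟨fun c => ⟨g * c.1 * g⁻¹, ?_⟩, fun c => ⟨g⁻¹ * c.1 * g, ?_⟩, ?_, ?_⟩
  · rw [Subgroup.mem_centralizer_singleton_iff]
    exact conj_comm' g (Subgroup.mem_centralizer_singleton_iff.1 c.2)
  · rw [Subgroup.mem_centralizer_singleton_iff]
    exact conj_comm g (Subgroup.mem_centralizer_singleton_iff.1 c.2)
  · intro c
    apply Subtype.ext
    show g⁻¹ * (g * c.1 * g⁻¹) * g = c.1
    group
  · intro c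
    apply Subtype.ext
    show g * (g⁻¹ * c.1 * g) * g⁻¹ = c.1
    group

theorem orderOf_conj' (g x : G) : orderOf (g⁻¹ * x * g) = orderOf x := by
  have : g⁻¹ * x * g = (MulAut.conj g⁻¹) x := by simp
  rw [this, MulEquiv.orderOf_eq]

/-- if `C(x)` is abelian and `x ∈ A ≤ H` with `H` abelian then `C(A) = C(x)` -/
theorem centralizer_eq_of_comm {H A : Subgroup G}
    (hHc : ∀ a ∈ H, ∀ b ∈ H, a * b = b * a) (hAH : A ≤ H) {x : G} (hxA : x ∈ A)
    (hab : ∀ c₁ c₂ : G, c₁ * x = x * c₁ → c₂ * x = x * c₂ → c₁ * c₂ = c₂ * c₁) :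
    Subgroup.centralizer (A : Set G) = Subgroup.centralizer ({x} : Set G) := by
  apply le_antisymm
  · apply Subgroup.centralizer_le
    intro z hz
    have : z = x := hz
    rw [this]
    exact hxA
  · intro c hc
    rw [Subgroup.mem_centralizer_singleton_iff] at hc
    rw [Subgroup.mem_centralizer_iff]
    intro a ha
    have hax : a * x = x * a := hHc a (hAH ha) x (hAH hxA)
    exact hab a c hax hc

/-- a non-trivial subgroup contains an element of prime order -/
theorem exists_prime_order_mem [Finite G] {A : Subgroup G} (hA : A ≠ ⊥) :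
    ∃ x ∈ A, ∃ p : ℕ, p.Prime ∧ orderOf x = p ∧ p ∣ Nat.card A := by
  obtain ⟨a, ha1⟩ := (Subgroup.ne_bot_iff_exists_ne_one).1 hA
  rcases a with ⟨a, haA⟩
  have ha1' : a ≠ 1 := fun h => ha1 (Subtype.ext h)
  obtain ⟨p, hp, hpd, ho⟩ := exists_prime_order_pow ha1'
  refine ⟨a ^ (orderOf a / p), pow_mem haA _, p, hp, ho, ?_⟩
  exact hpd.trans (Subgroup.orderOf_dvd_natCard A haA)

namespace ReeData

variable [Finite G] {P : Type*} [Group P] {q r : ℕ} (R : ReeData G P q) (hq : QData q r)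
include R hq

/-- the centraliser of an element of prime order dividing `(q+1)/4` -/
theorem cent_prime_k {x : G} {p : ℕ} (hp : p.Prime) (hx : orderOf x = p)
    (hpk : p ∣ (q + 1) / 4) :
    (∀ c₁ c₂ : G, c₁ * x = x * c₁ → c₂ * x = x * c₂ → c₁ * c₂ = c₂ * c₁) ∧
    Nat.card (Subgroup.centralizer ({x} : Set G)) = q + 1 := by
  obtain ⟨t, j, y, htt, hjj, htj, ht1, hj1, htj_ne, e1, e2, e3⟩ := R.exists_four
  have ht2 : orderOf t = 2 := orderOf_two_of_mul_self htt ht1
  obtain ⟨L, I⟩ := R.exists_invData ht2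
  obtain ⟨j', hj'L, hj'j', hj'1⟩ : ∃ j' : G, j' ∈ L ∧ j' * j' = 1 ∧ j' ≠ 1 := by
    rcases I.or_mem j (Subgroup.mem_centralizer_singleton_iff.2 htj.symm) with h | h
    · exact ⟨j, h, hjj, hj1⟩
    · refine ⟨t * j, h, ?_, ?_⟩
      · calc (t * j) * (t * j) = t * (j * t) * j := by group
          _ = t * (t * j) * j := by rw [← htj]
          _ = (t * t) * (j * j) := by group
          _ = 1 := by rw [htt, hjj, one_mul]
      · intro h0
        apply htj_ne
        have : j = t⁻¹ := eq_inv_of_mul_eq_one_right h0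
        rw [this, I.t_inv]
  have hj'2 : orderOf j' = 2 := orderOf_two_of_mul_self hj'j' hj'1
  set K := Subgroup.centralizer ({t} : Set G) ⊓ Subgroup.centralizer ({j'} : Set G) with hK
  have htK : t ∈ K := Subgroup.mem_inf.2
    ⟨Subgroup.mem_centralizer_singleton_iff.2 rfl,
      Subgroup.mem_centralizer_singleton_iff.2 (I.comm hj'L).symm⟩
  have hKL : K ⊓ L = Subgroup.centralizer ({j'} : Set G) ⊓ L := by
    ext z
    constructor
    · intro h
      exact Subgroup.mem_inf.2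
        ⟨(Subgroup.mem_inf.1 (Subgroup.mem_inf.1 h).1).2, (Subgroup.mem_inf.1 h).2⟩
    · intro h
      exact Subgroup.mem_inf.2
        ⟨Subgroup.mem_inf.2 ⟨I.le (Subgroup.mem_inf.1 h).2, (Subgroup.mem_inf.1 h).1⟩,
          (Subgroup.mem_inf.1 h).2⟩
  have hKcard : Nat.card K = 2 * (q + 1) := by
    rw [I.card_two_mul K inf_le_left htK, hKL, I.psl.cent_inv j' hj'L hj'2]
  haveI : Fact p.Prime := ⟨hp⟩
  have hidx := R.not_dvd_index_of_card hq K hKcard hp hpk
  have hX : IsPGroup p (Subgroup.zpowers x) := by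
    apply IsPGroup.of_card (n := 1)
    rw [Nat.card_zpowers, hx, pow_one]
  obtain ⟨g, hg⟩ := exists_conj_mem_of_not_dvd_index K hidx (Subgroup.zpowers x) hX
  have hx'K := hg x (Subgroup.mem_zpowers x)
  have hx'o : orderOf (g⁻¹ * x * g) = p := by rw [orderOf_conj', hx]
  have hx't : (g⁻¹ * x * g) * t = t * (g⁻¹ * x * g) :=
    Subgroup.mem_centralizer_singleton_iff.1 (Subgroup.mem_inf.1 hx'K).1
  have hx'j : (g⁻¹ * x * g) * j' = j' * (g⁻¹ * x * g) :=
    Subgroup.mem_centralizer_singleton_iff.1 (Subgroup.mem_inf.1 hx'K).2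
  obtain ⟨-, hab, hcard⟩ := R.cent_prime_k_aux hq I hj'j' hj'1 hj'L hp hx'o hpk hx't hx'j
  constructor
  · intro c₁ c₂ h1 h2
    have h12 := hab _ _ (conj_comm g h1) (conj_comm g h2)
    calc c₁ * c₂ = g * ((g⁻¹ * c₁ * g) * (g⁻¹ * c₂ * g)) * g⁻¹ := by group
      _ = g * ((g⁻¹ * c₂ * g) * (g⁻¹ * c₁ * g)) * g⁻¹ := by rw [h12]
      _ = c₂ * c₁ := by group
  · rw [← card_centralizer_conj g x, hcard]

/-- the centraliser of an element of prime order dividing `(q-1)/2` is a conjugate of `H` -/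
theorem cent_prime_h {x : G} {p : ℕ} (hp : p.Prime) (hx : orderOf x = p)
    (hph : p ∣ (q - 1) / 2) :
    ∃ g : G, Subgroup.centralizer ({x} : Set G) = R.H.map (MulAut.conj g).toMonoidHom := by
  haveI : Fact p.Prime := ⟨hp⟩
  obtain ⟨h2, hq1, h4, h5, h6⟩ := hq.h_coprime hp hph
  have hidx : ¬ p ∣ R.H.index := by
    intro hd
    have h1 := R.H.index_mul_card
    rw [R.card_H, R.card_G] at h1
    have hpos : 0 < q - 1 := by have := hq.big; omega
    have h7 : R.H.index = q ^ 3 * (q ^ 3 + 1) := by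
      apply Nat.eq_of_mul_eq_mul_right hpos
      rw [h1]
      ring
    rw [h7, hq.cube_add_one] at hd
    rcases (Nat.Prime.dvd_mul hp).1 hd with h | h
    · exact h4 (hp.dvd_of_dvd_pow h)
    · rcases (Nat.Prime.dvd_mul hp).1 h with h' | h'
      · exact h5 h'
      · exact h6 h'
  have hX : IsPGroup p (Subgroup.zpowers x) := by
    apply IsPGroup.of_card (n := 1)
    rw [Nat.card_zpowers, hx, pow_one]
  obtain ⟨g, hg⟩ := exists_conj_mem_of_not_dvd_index R.H hidx (Subgroup.zpowers x) hX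
  have hx'H := hg x (Subgroup.mem_zpowers x)
  have hx'o : orderOf (g⁻¹ * x * g) = p := by rw [orderOf_conj', hx]
  have hx'1 : g⁻¹ * x * g ≠ 1 := by
    intro h
    rw [h, orderOf_one] at hx'o
    exact hp.one_lt.ne' hx'o.symm
  have hodd : Odd (orderOf (g⁻¹ * x * g)) := by
    rw [hx'o]
    exact hp.odd_of_ne_two h2
  have hC := R.centralizer_of_odd hq hx'H hx'1 hodd
  refine ⟨g, ?_⟩
  ext c
  rw [mem_conj_iff, ← hC, Subgroup.mem_centralizer_singleton_iff,
    Subgroup.mem_centralizer_singleton_iff]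
  constructor
  · intro h
    exact conj_comm g h
  · intro h
    have := conj_comm' g h
    have e : g * (g⁻¹ * c * g) * g⁻¹ = c := by group
    rw [e] at this
    exact this

omit hq in
/-- there are no elements of order four -/
theorem no_order_four (x : G) : orderOf x ≠ 4 := by
  intro h4
  haveI : Fact (Nat.Prime 2) := ⟨Nat.prime_two⟩
  have hX : IsPGroup 2 (Subgroup.zpowers x) := by
    apply IsPGroup.of_card (n := 2)
    rw [Nat.card_zpowers, h4]
    norm_num
  obtain ⟨S, hS⟩ := hX.exists_le_sylow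
  have := (R.syl2 S).2 x (hS (Subgroup.mem_zpowers x))
  have h2 : orderOf x ∣ 2 := orderOf_dvd_of_pow_eq_one (by rw [pow_two]; exact this)
  rw [h4] at h2
  omega

/-- the centralisers of the subgroups of the tori of orders `(q-1)/2` and `(q+1)/4` -/
theorem main_tori (H : Subgroup G) (hH : IsCyclic H) :
    (Nat.card H = (q - 1) / 2 →
      IsCyclic ↥(Subgroup.centralizer (H : Set G)) ∧
        Nat.card ↥(Subgroup.centralizer (H : Set G)) = q - 1 ∧
        ∀ A : Subgroup G, A ≤ H → A ≠ ⊥ →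
          Subgroup.centralizer (A : Set G) = Subgroup.centralizer (H : Set G)) ∧
    (Nat.card H = (q + 1) / 4 →
      IsMulCommutative ↥(Subgroup.centralizer (H : Set G)) ∧
        Nat.card ↥(Subgroup.centralizer (H : Set G)) = q + 1 ∧
        (∀ x ∈ Subgroup.centralizer (H : Set G), orderOf x ≠ 4) ∧
        ∀ A : Subgroup G, A ≤ H → A ≠ ⊥ →
          Subgroup.centralizer (A : Set G) = Subgroup.centralizer (H : Set G)) := by
  have hHc : ∀ a ∈ H, ∀ b ∈ H, a * b = b * a := fun a ha b hb => comm_of_isCyclic hH ha hb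
  constructor
  · intro hcard
    obtain ⟨c, hc2, hcodd, hc13⟩ := hq.exists_h
    have hcc : (q - 1) / 2 = c := by omega
    have hHne : H ≠ ⊥ := by
      intro h
      rw [h, Subgroup.card_bot] at hcard
      omega
    -- the key fact for every non-trivial subgroup
    have key : ∀ A : Subgroup G, A ≤ H → A ≠ ⊥ → ∃ x ∈ A,
        (∃ g : G, Subgroup.centralizer ({x} : Set G) = R.H.map (MulAut.conj g).toMonoidHom) ∧
        Subgroup.centralizer (A : Set G) = Subgroup.centralizer ({x} : Set G) ∧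
        Subgroup.centralizer (H : Set G) = Subgroup.centralizer ({x} : Set G) := by
      intro A hAH hA
      obtain ⟨x, hxA, p, hp, hxo, hpA⟩ := exists_prime_order_mem hA
      have hpH : p ∣ (q - 1) / 2 := by
        rw [← hcard]
        exact hpA.trans (Subgroup.card_dvd_of_le hAH)
      obtain ⟨g, hg⟩ := R.cent_prime_h hq hp hxo hpH
      have hab : ∀ c₁ c₂ : G, c₁ * x = x * c₁ → c₂ * x = x * c₂ → c₁ * c₂ = c₂ * c₁ := by
        intro c₁ c₂ h1 h2
        have m1 : c₁ ∈ Subgroup.centralizer ({x} : Set G) :=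
          Subgroup.mem_centralizer_singleton_iff.2 h1
        have m2 : c₂ ∈ Subgroup.centralizer ({x} : Set G) :=
          Subgroup.mem_centralizer_singleton_iff.2 h2
        rw [hg, mem_conj_iff] at m1 m2
        have h12 := R.H_comm m1 m2
        calc c₁ * c₂ = g * ((g⁻¹ * c₁ * g) * (g⁻¹ * c₂ * g)) * g⁻¹ := by group
          _ = g * ((g⁻¹ * c₂ * g) * (g⁻¹ * c₁ * g)) * g⁻¹ := by rw [h12]
          _ = c₂ * c₁ := by group
      exact ⟨x, hxA, ⟨g, hg⟩, centralizer_eq_of_comm hHc hAH hxA hab,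
        centralizer_eq_of_comm hHc le_rfl (hAH hxA) hab⟩
    obtain ⟨x, hxH, ⟨g, hg⟩, -, hCH⟩ := key H le_rfl hHne
    have hEq : Subgroup.centralizer (H : Set G) = R.H.map (MulAut.conj g).toMonoidHom := by
      rw [hCH, hg]
    refine ⟨?_, ?_, ?_⟩
    · rw [hEq]
      haveI := R.cyc_H
      exact ((MulAut.conj g).subgroupMap R.H).isCyclic.1 R.cyc_H
    · rw [hEq]
      exact (Nat.card_congr ((MulAut.conj g).subgroupMap R.H).symm.toEquiv).trans R.card_H
    · intro A hAH hA
      obtain ⟨x', hx'A, -, hCA, hCH'⟩ := key A hAH hA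
      rw [hCA, hCH']
  · intro hcard
    obtain ⟨k, hk4, hkodd, hk7⟩ := hq.exists_k
    have hkk : (q + 1) / 4 = k := by omega
    have hHne : H ≠ ⊥ := by
      intro h
      rw [h, Subgroup.card_bot] at hcard
      omega
    have key : ∀ A : Subgroup G, A ≤ H → A ≠ ⊥ → ∃ x ∈ A,
        ((∀ c₁ c₂ : G, c₁ * x = x * c₁ → c₂ * x = x * c₂ → c₁ * c₂ = c₂ * c₁) ∧
          Nat.card (Subgroup.centralizer ({x} : Set G)) = q + 1) ∧
        Subgroup.centralizer (A : Set G) = Subgroup.centralizer ({x} : Set G) ∧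
        Subgroup.centralizer (H : Set G) = Subgroup.centralizer ({x} : Set G) := by
      intro A hAH hA
      obtain ⟨x, hxA, p, hp, hxo, hpA⟩ := exists_prime_order_mem hA
      have hpH : p ∣ (q + 1) / 4 := by
        rw [← hcard]
        exact hpA.trans (Subgroup.card_dvd_of_le hAH)
      have h1 := R.cent_prime_k hq hp hxo hpH
      exact ⟨x, hxA, h1, centralizer_eq_of_comm hHc hAH hxA h1.1,
        centralizer_eq_of_comm hHc le_rfl (hAH hxA) h1.1⟩
    obtain ⟨x, hxH, ⟨hab, hc⟩, -, hCH⟩ := key H le_rfl hHne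
    refine ⟨?_, ?_, ?_, ?_⟩
    · rw [hCH]
      refine ⟨⟨fun a b => Subtype.ext ?_⟩⟩
      exact hab a.1 b.1 (Subgroup.mem_centralizer_singleton_iff.1 a.2)
        (Subgroup.mem_centralizer_singleton_iff.1 b.2)
    · rw [hCH, hc]
    · intro z _
      exact R.no_order_four z
    · intro A hAH hA
      obtain ⟨x', hx'A, -, hCA, hCH'⟩ := key A hAH hA
      rw [hCA, hCH']

end ReeData

end Cfsg.Agent.Helper2.Ree
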