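import Mathlib
import Cfsg.Agent.Lib.Lead.TwG2Stab

/-!
# The Weyl element of the small Ree group inverts the diagonal subgroup
-/

set_option autoImplicit false
set_option linter.unusedSectionVars false
set_option linter.unusedVariables false

namespace Cfsg.Agent.Helper2.Ree

open Cfsg Cfsg.Lie Cfsg.Agent.Lead.Chev Cfsg.Agent.Lead.Tw.G2

variable {K : Type*} [Field K]

theorem reflWord_w0 : ∀ r < chevG2.nroots, reflWord chevG2 [0, 1, 0, 1, 0, 1] r = chevG2.neg r := by
  decide

theorem neg_neg_g2 : ∀ r < chevG2.nroots, chevG2.neg (chevG2.neg r) = r ∧ chevG2.neg r < chevG2.nroots := by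
  decide

theorem bvec_inr_ne_zero (r : ℕ) (hr : r < chevG2.nroots) :
    (bvec chevG2 (.inr r) : chevG2.Idx → K) ≠ 0 := by
  rw [bvec_inr_eq chevG2 r hr]
  intro h
  have := congrFun h (Sum.inr ⟨r, hr⟩)
  simp at this

/-- `n₀ h n₀⁻¹ = h⁻¹` for `h` in the diagonal subgroup -/
theorem n₀_conj_diag (h : GL chevG2.Idx K) (hh : h ∈ chevG2.diagonalSubgroup K) :
    n₀ K * h * (n₀ K)⁻¹ = h⁻¹ := by
  have hFK : ChevFacts chevG2 K := hF
  obtain ⟨c, hc, hval⟩ := exists_Tmat_of_mem chevG2 hFK.hall h hh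
  have hh' : n₀ K * h * (n₀ K)⁻¹ ∈ chevG2.diagonalSubgroup K :=
    hFK.monomial_conj_mem_diagonal _ n₀_mem_monomial h hh
  obtain ⟨c', hc', hval'⟩ := exists_Tmat_of_mem chevG2 hFK.hall _ hh'
  -- the key relation between the characters
  have key : ∀ v < chevG2.nroots, chi chevG2 c' v * chi chevG2 c v = 1 := by
    intro v hv
    obtain ⟨hnn, hnlt⟩ := neg_neg_g2 v hv
    set r := chevG2.neg v with hr
    obtain ⟨ε, hε, hn⟩ := hFK.nWordGL_mulVec_inr [0, 1, 0, 1, 0, 1] (by decide) r hnlt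
    rw [reflWord_w0 r hnlt, hnn] at hn
    -- compute `h' e_v` in two ways
    have h1 : ((n₀ K * h * (n₀ K)⁻¹ : GL chevG2.Idx K) : Matrix chevG2.Idx chevG2.Idx K).mulVec
        (bvec chevG2 (.inr v)) = chi chevG2 c' v • (bvec chevG2 (.inr v) : chevG2.Idx → K) := by
      rw [hval']
      exact Tmat_mulVec_inr chevG2 c' v hv
    have h2 : ((n₀ K * h * (n₀ K)⁻¹ : GL chevG2.Idx K) : Matrix chevG2.Idx chevG2.Idx K).mulVec
        (ε • (bvec chevG2 (.inr v) : chevG2.Idx → K)) =
        (chi chevG2 c r * ε) • (bvec chevG2 (.inr v) : chevG2.Idx → K) := by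
      rw [← hn, Matrix.mulVec_mulVec, ← Units.val_mul]
      have e : n₀ K * h * (n₀ K)⁻¹ * n₀ K = n₀ K * h := by group
      rw [e, Units.val_mul, ← Matrix.mulVec_mulVec, hval, Tmat_mulVec_inr chevG2 c r hnlt,
        Matrix.mulVec_smul, hn, smul_smul]
    rw [Matrix.mulVec_smul, h1, smul_smul] at h2
    have h3 : ε * chi chevG2 c' v = chi chevG2 c r * ε := by
      by_contra hne
      apply bvec_inr_ne_zero (K := K) v hv
      have : (ε * chi chevG2 c' v - chi chevG2 c r * ε) • (bvec chevG2 (.inr v) : chevG2.Idx → K) = 0 := by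
        rw [sub_smul, h2, sub_self]
      rcases smul_eq_zero.1 this with h0 | h0
      · exact absurd (sub_eq_zero.1 h0) hne
      · exact h0
    have h4 : chi chevG2 c' v = chi chevG2 c r := by
      have : ε * chi chevG2 c' v = ε * chi chevG2 c r := by rw [h3, mul_comm]
      exact mul_left_cancel₀ hε this
    rw [h4, hr, chi_neg chevG2 hFK.cartan_neg c v hv]
    exact inv_mul_cancel₀ (chi_ne_zero chevG2 c hc v)
  rw [eq_inv_iff_mul_eq_one]
  apply Units.ext
  rw [Units.val_mul, hval', hval, Tmat_mul, Units.val_one]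
  unfold Tmat
  rw [← Matrix.diagonal_one]
  congr 1
  funext i
  rcases i with i | v
  · rfl
  · show chi chevG2 (fun i => c' i * c i) v.val = 1
    rw [chi_mul]
    exact key v.val v.isLt

end Cfsg.Agent.Helper2.Ree
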