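import Mathlib
import Cfsg.Agent.S2508
import Cfsg.Agent.Lib.Helper13.PSL2Invol
import Cfsg.Agent.Lib.Helper12.PSL2Orders
import Cfsg.Agent.Lib.Helper2.Ree2

/-!
# The facts on `PSL₂(q)` used for the small Ree groups
-/

set_option autoImplicit false
set_option linter.unusedSectionVars false
set_option linter.unusedVariables false

namespace Cfsg.Agent.Helper2.Ree

open Matrix Cfsg.Agent.Helper12 Cfsg.Agent.Helper13 Cfsg.Agent.Helper13.PSL2Invol
  Cfsg.Agent.Helper13.SL2TZ Cfsg.Agent.S2508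

variable {F : Type*} [Field F] [Fintype F]

theorem two_mul_card_psl2 (hodd : Odd (Fintype.card F)) :
    2 * Nat.card (ProjectiveSpecialLinearGroup (Fin 2) F) =
      Fintype.card F * (Fintype.card F ^ 2 - 1) := by
  have h5 := Subgroup.card_eq_card_quotient_mul_card_subgroup
    (Subgroup.center (SpecialLinearGroup (Fin 2) F))
  rw [card_center_two hodd, card_SL2] at h5
  have h6 : Nat.card (SpecialLinearGroup (Fin 2) F ⧸ Subgroup.center (SpecialLinearGroup (Fin 2) F))
      = Nat.card (ProjectiveSpecialLinearGroup (Fin 2) F) := rfl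
  rw [h6] at h5
  linarith

theorem card_commute_eq (j : ProjectiveSpecialLinearGroup (Fin 2) F) :
    Nat.card {x : ProjectiveSpecialLinearGroup (Fin 2) F // x * j = j * x} =
      Nat.card (Subgroup.centralizer ({j} : Set (ProjectiveSpecialLinearGroup (Fin 2) F))) :=
  Nat.card_congr (Equiv.subtypeEquivRight fun x => Subgroup.mem_centralizer_singleton_iff.symm)

/-- the centraliser of an involution of `PSL₂(q)`, `q ≡ 3 (mod 4)` -/
theorem psl_cent_inv (hF : ringChar F ≠ 2) (h4 : Fintype.card F % 4 = 3)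
    (j : ProjectiveSpecialLinearGroup (Fin 2) F) (hj : orderOf j = 2) :
    Nat.card {x : ProjectiveSpecialLinearGroup (Fin 2) F // x * j = j * x} =
      Fintype.card F + 1 := by
  classical
  have hodd : Odd (Fintype.card F) := by
    rw [Nat.odd_iff]
    omega
  have hj1 : j ≠ 1 := by
    intro h
    rw [h, orderOf_one] at hj
    omega
  have hjj : j * j = 1 := by
    have := pow_orderOf_eq_one j
    rw [hj, pow_two] at this
    exact this
  obtain ⟨a, rfl, ha⟩ := exists_lift_invol hF j hj1 hjj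
  rw [card_commute_eq, card_centralizer_pr hF hodd a ha,
    S2507.card_centralizer a (not_scalar_of_trace_zero hF a ha), ha]
  have h2 : (2 : F) ≠ 0 := Ring.two_ne_zero hF
  have h4' : (4 : F) ≠ 0 := by
    have : (4 : F) = 2 * 2 := by norm_num
    rw [this]
    exact mul_ne_zero h2 h2
  have h04 : (0 : F) ^ 2 ≠ 4 := by simpa using h4'.symm
  have h1 := conic_count_odd hF (0 : F) h04
  have h3 := (Rt_zero_eq (F := F) hF).2 h4
  unfold S2507.Rt at h3
  unfold S2507.Nt
  omega

theorem sl2_pow_coe (g : SpecialLinearGroup (Fin 2) F) (k : ℕ) :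
    ((g ^ k : SpecialLinearGroup (Fin 2) F) : Matrix (Fin 2) (Fin 2) F) =
      (g : Matrix (Fin 2) (Fin 2) F) ^ k := by
  simp

/-- an element of `SL₂(q)` whose characteristic polynomial has a root has order dividing
`2p(q-1)` -/
theorem sl2_pow_eq_one_of_root (p : ℕ) [Fact p.Prime] [CharP F p]
    (g : SpecialLinearGroup (Fin 2) F) (l : F)
    (hl : l ^ 2 - (g : Matrix (Fin 2) (Fin 2) F).trace * l + 1 = 0) :
    g ^ (2 * p * (Fintype.card F - 1)) = 1 := by
  have hl0 : l ≠ 0 := by
    rintro rfl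
    simp at hl
  have hq : l ^ (Fintype.card F - 1) = 1 := FiniteField.pow_card_sub_one_eq_one l hl0
  by_cases hl1 : l ^ 2 = 1
  · have h1 := pow_char_eq_smul_of_root (g : Matrix (Fin 2) (Fin 2) F) g.det_coe l hl hl1 p
    have h2 : g ^ (2 * p) = 1 := by
      apply Subtype.ext
      rw [sl2_pow_coe, mul_comm, pow_mul, h1, smul_pow, one_pow, ← pow_mul, mul_comm, pow_mul,
        hl1, one_pow, one_smul]
      rfl
    rw [pow_mul, h2, one_pow]
  · have h1 := pow_eq_smul_of_root (g : Matrix (Fin 2) (Fin 2) F) g.det_coe l hl hl1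
      (Fintype.card F - 1) (by rw [mul_comm, pow_mul, hq, one_pow])
    have h2 : g ^ (Fintype.card F - 1) = 1 := by
      apply Subtype.ext
      rw [sl2_pow_coe, h1, hq, one_smul]
      rfl
    rw [mul_comm, pow_mul, h2, one_pow]

/-- a lift of odd order -/
theorem exists_lift_odd (hF : ringChar F ≠ 2) (y : ProjectiveSpecialLinearGroup (Fin 2) F)
    (hodd : Odd (orderOf y)) :
    ∃ g : SpecialLinearGroup (Fin 2) F, pr g = y ∧ g ^ orderOf y = 1 := by
  obtain ⟨g₀, rfl⟩ := pr_surjective y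
  set s := orderOf (pr g₀) with hs
  have h1 : pr (g₀ ^ s) = 1 := by rw [map_pow, hs, pow_orderOf_eq_one]
  rcases (pr_eq_one_iff _).1 h1 with h | h
  · exact ⟨g₀, rfl, h⟩
  · refine ⟨-g₀, pr_neg g₀, ?_⟩
    rw [Odd.neg_pow hodd, h, neg_neg]

/-- the centraliser of an element of odd order dividing `(q+1)/4` -/
theorem psl_cent_odd {q r : ℕ} (hq : QData q r) (hFq : Fintype.card F = q) [CharP F 3]
    (hk : Nat.Coprime ((q + 1) / 4) (2 * 3 * (q - 1)))
    (y : ProjectiveSpecialLinearGroup (Fin 2) F) (hy1 : y ≠ 1)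
    (hyd : orderOf y ∣ (q + 1) / 4) :
    Nat.card {x : ProjectiveSpecialLinearGroup (Fin 2) F // x * y = y * x} = (q + 1) / 2 ∧
      ∀ x₁ x₂ : ProjectiveSpecialLinearGroup (Fin 2) F, x₁ * y = y * x₁ → x₂ * y = y * x₂ →
        x₁ * x₂ = x₂ * x₁ := by
  classical
  haveI : Fact (Nat.Prime 3) := ⟨Nat.prime_three⟩
  have hF : ringChar F ≠ 2 := by
    rw [ringChar.eq F 3]
    norm_num
  have h2 : (2 : F) ≠ 0 := Ring.two_ne_zero hF
  obtain ⟨k, hk4, hkodd, hk7⟩ := hq.exists_k
  have hkk : (q + 1) / 4 = k := by omega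
  rw [hkk] at hyd hk
  have hsodd : Odd (orderOf y) := by
    rw [Nat.odd_iff]
    obtain ⟨c, hc⟩ := hyd
    have : k % 2 = 1 := hkodd
    rw [hc, Nat.mul_mod] at this
    rcases Nat.mod_two_eq_zero_or_one (orderOf y) with h | h
    · rw [h] at this
      simp at this
    · exact h
  obtain ⟨g, rfl, hgs⟩ := exists_lift_odd hF y hsodd
  set s := orderOf (pr g) with hs
  have hg1 : g ≠ 1 := by
    intro h
    apply hy1
    rw [h, map_one]
  have hscop : Nat.Coprime s (2 * 3 * (q - 1)) := Nat.Coprime.coprime_dvd_left hyd hk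
  -- no eigenvalue in `F`
  have hell : ∀ l : F, l ^ 2 - (g : Matrix (Fin 2) (Fin 2) F).trace * l + 1 ≠ 0 := by
    intro l hl
    have h1 := sl2_pow_eq_one_of_root 3 g l hl
    rw [hFq] at h1
    have h3 : orderOf g ∣ Nat.gcd s (2 * 3 * (q - 1)) :=
      Nat.dvd_gcd (orderOf_dvd_of_pow_eq_one hgs) (orderOf_dvd_of_pow_eq_one h1)
    rw [hscop] at h3
    exact hg1 (orderOf_eq_one_iff.1 (Nat.dvd_one.1 h3))
  have htr0 : (g : Matrix (Fin 2) (Fin 2) F).trace ≠ 0 := by
    intro h0
    have h1 := mul_self_eq_neg_one_of_trace g h0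
    have h3 : g ^ 4 = 1 := pow_four_eq_one g h1
    have h4 : orderOf g ∣ Nat.gcd s 4 :=
      Nat.dvd_gcd (orderOf_dvd_of_pow_eq_one hgs) (orderOf_dvd_of_pow_eq_one h3)
    have h5 : Nat.gcd s 4 = 1 := by
      have : Nat.Coprime s 2 := Nat.Coprime.coprime_dvd_right (Dvd.intro _ (by ring : 2 * (3 * (q - 1)) = 2 * 3 * (q - 1))) hscop
      exact Nat.Coprime.pow_right 2 this
    rw [h5] at h4
    exact hg1 (orderOf_eq_one_iff.1 (Nat.dvd_one.1 h4))
  have htr4 : (g : Matrix (Fin 2) (Fin 2) F).trace ^ 2 ≠ 4 := by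
    intro h4
    set t := (g : Matrix (Fin 2) (Fin 2) F).trace with ht
    apply hell (t / 2)
    field_simp
    linear_combination -h4
  have hns : ¬ IsScalar2 (g : Matrix (Fin 2) (Fin 2) F) := by
    intro hsc
    have := mem_center_of_isScalar2 g hsc
    apply hy1
    show pr g = 1
    unfold pr
    rw [QuotientGroup.mk'_apply, QuotientGroup.eq_one_iff]
    exact this
  have hRt : S2507.Rt (g : Matrix (Fin 2) (Fin 2) F).trace = 0 := by
    unfold S2507.Rt
    rw [Finset.card_eq_zero, Finset.filter_eq_empty_iff]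
    intro r _ hr
    apply hell (-r)
    linear_combination hr
  have hNt : S2507.Nt (g : Matrix (Fin 2) (Fin 2) F).trace = q + 1 := by
    have h1 := conic_count_odd hF _ htr4
    unfold S2507.Rt at hRt
    unfold S2507.Nt
    rw [hFq] at h1
    omega
  have hodd : Odd (Fintype.card F) := by
    rw [Nat.odd_iff, hFq]
    have := hq.mod8
    omega
  constructor
  · rw [card_commute_eq]
    have h1 := idx_of_trace_ne hF g htr0
    unfold idx at h1
    have h3 := Subgroup.index_mul_card (Subgroup.centralizer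
      ({(QuotientGroup.mk g : ProjectiveSpecialLinearGroup (Fin 2) F)} :
        Set (ProjectiveSpecialLinearGroup (Fin 2) F)))
    have h4 := Subgroup.index_mul_card (Subgroup.centralizer
      ({g} : Set (SpecialLinearGroup (Fin 2) F)))
    rw [S2507.card_centralizer g hns, hNt, card_SL2, ← two_mul_card_psl2 hodd, ← h1, ← h3] at h4
    have hpos : 0 < (Subgroup.centralizer
      ({(QuotientGroup.mk g : ProjectiveSpecialLinearGroup (Fin 2) F)} :
        Set (ProjectiveSpecialLinearGroup (Fin 2) F))).index :=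
      Nat.pos_of_ne_zero Subgroup.index_ne_zero_of_finite
    have h5 : q + 1 = 2 * Nat.card (Subgroup.centralizer
      ({(QuotientGroup.mk g : ProjectiveSpecialLinearGroup (Fin 2) F)} :
        Set (ProjectiveSpecialLinearGroup (Fin 2) F))) := by
      apply Nat.eq_of_mul_eq_mul_left hpos
      rw [h4]
      ring
    show Nat.card (Subgroup.centralizer
      ({(QuotientGroup.mk g : ProjectiveSpecialLinearGroup (Fin 2) F)} :
        Set (ProjectiveSpecialLinearGroup (Fin 2) F))) = (q + 1) / 2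
    omega
  · intro x₁ x₂ hx₁ hx₂
    obtain ⟨h₁, rfl⟩ := pr_surjective x₁
    obtain ⟨h₂, rfl⟩ := pr_surjective x₂
    have comm : ∀ h : SpecialLinearGroup (Fin 2) F, pr h * pr g = pr g * pr h → h * g = g * h := by
      intro h hh
      rw [← map_mul, ← map_mul, pr_eq_iff] at hh
      rcases hh with e | e
      · exact e.symm
      · exfalso
        apply htr0
        apply trace_eq_zero_of_anti hF g h
        rw [e, neg_neg]
    have c1 := comm h₁ hx₁
    have c2 := comm h₂ hx₂
    have d1 : (h₁ : Matrix (Fin 2) (Fin 2) F) * (g : Matrix (Fin 2) (Fin 2) F) =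
        (g : Matrix (Fin 2) (Fin 2) F) * (h₁ : Matrix (Fin 2) (Fin 2) F) := by
      have := congrArg Subtype.val c1
      simpa using this
    have d2 : (h₂ : Matrix (Fin 2) (Fin 2) F) * (g : Matrix (Fin 2) (Fin 2) F) =
        (g : Matrix (Fin 2) (Fin 2) F) * (h₂ : Matrix (Fin 2) (Fin 2) F) := by
      have := congrArg Subtype.val c2
      simpa using this
    obtain ⟨a₁, b₁, e₁⟩ := (commute_iff_exists_smul _ _ hns).1 d1
    obtain ⟨a₂, b₂, e₂⟩ := (commute_iff_exists_smul _ _ hns).1 d2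
    rw [← map_mul, ← map_mul]
    congr 1
    apply Subtype.ext
    show (h₁ : Matrix (Fin 2) (Fin 2) F) * (h₂ : Matrix (Fin 2) (Fin 2) F) =
      (h₂ : Matrix (Fin 2) (Fin 2) F) * (h₁ : Matrix (Fin 2) (Fin 2) F)
    rw [e₁, e₂]
    simp only [add_mul, mul_add, smul_mul_assoc, mul_smul_comm, mul_one, one_mul, smul_add,
      smul_smul]
    rw [mul_comm a₁ a₂, mul_comm b₁ b₂, mul_comm a₁ b₂, mul_comm b₁ a₂]
    abel

/-- the facts on `PSL₂(q)` needed for the small Ree groups -/
theorem pslLike {q r : ℕ} (hq : QData q r) (hFq : Fintype.card F = q) [CharP F 3] :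
    PSLLike q (ProjectiveSpecialLinearGroup (Fin 2) F) := by
  have hF : ringChar F ≠ 2 := by
    rw [ringChar.eq F 3]
    norm_num
  have hm8 := hq.mod8
  have hodd : Odd (Fintype.card F) := by
    rw [Nat.odd_iff, hFq]
    omega
  refine ⟨?_, ?_, ?_⟩
  · rw [two_mul_card_psl2 hodd, hFq]
    have : q ^ 2 - 1 = (q - 1) * (q + 1) := by
      obtain ⟨c, rfl⟩ : ∃ c, q = c + 1 := ⟨q - 1, by have := hq.q_pos; omega⟩
      have e1 : c + 1 - 1 = c := by omega
      have e2 : (c + 1) ^ 2 = c * (c + 1 + 1) + 1 := by ring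
      rw [e1, e2]
      simp
    rw [this, mul_assoc]
  · intro j hj
    rw [psl_cent_inv hF (by rw [hFq]; omega) j hj, hFq]
  · intro y hy1 hyd
    exact psl_cent_odd hq hFq hq.coprime_k y hy1 hyd

end Cfsg.Agent.Helper2.Ree
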