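import Mathlib
import Cfsg.Agent.Lib.Lead.TwG2Stab
import Cfsg.Agent.Lib.Lead.TwG2Cent
import Cfsg.Agent.Lib.Lead.TwG2Syl
import Cfsg.Agent.Lib.Lead.TwReeSetup
import Cfsg.Agent.Lib.Helper2.ReeInv
import Cfsg.Agent.Lib.Helper2.ReePSL
import Cfsg.Agent.Lib.Helper2.Ree6

/-!
# The small Ree groups satisfy the abstract hypotheses `ReeData`
-/

set_option autoImplicit false
set_option linter.unusedSectionVars false
set_option linter.unusedVariables false

namespace Cfsg.Agent.Helper2.Ree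

open Cfsg Cfsg.Lie Cfsg.Agent.Lead.Chev Cfsg.Agent.Lead.Tw.G2

/-- the Borel subgroup of the small Ree group -/
abbrev RB (K : Type*) [Field K] (m : ℕ) : Subgroup ↥(twistedG2 K (3 ^ m)) :=
  (chevG2.borelSubgroup K ⊓ twistedG2 K (3 ^ m)).subgroupOf (twistedG2 K (3 ^ m))

/-- the unipotent subgroup of the small Ree group -/
abbrev RU (K : Type*) [Field K] (m : ℕ) : Subgroup ↥(twistedG2 K (3 ^ m)) :=
  (chevG2.posUnipotent K ⊓ twistedG2 K (3 ^ m)).subgroupOf (twistedG2 K (3 ^ m))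

/-- the diagonal subgroup of the small Ree group -/
abbrev RH (K : Type*) [Field K] (m : ℕ) : Subgroup ↥(twistedG2 K (3 ^ m)) :=
  (chevG2.diagonalSubgroup K ⊓ twistedG2 K (3 ^ m)).subgroupOf (twistedG2 K (3 ^ m))

section basic

variable {K : Type*} [Field K] {m : ℕ}

theorem mem_RB (g : ↥(twistedG2 K (3 ^ m))) :
    g ∈ RB K m ↔ (g : GL chevG2.Idx K) ∈ chevG2.borelSubgroup K := by
  rw [Subgroup.mem_subgroupOf, Subgroup.mem_inf]
  exact ⟨fun h => h.1, fun h => ⟨h, g.2⟩⟩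

theorem mem_RU (g : ↥(twistedG2 K (3 ^ m))) :
    g ∈ RU K m ↔ (g : GL chevG2.Idx K) ∈ chevG2.posUnipotent K := by
  rw [Subgroup.mem_subgroupOf, Subgroup.mem_inf]
  exact ⟨fun h => h.1, fun h => ⟨h, g.2⟩⟩

theorem mem_RH (g : ↥(twistedG2 K (3 ^ m))) :
    g ∈ RH K m ↔ (g : GL chevG2.Idx K) ∈ chevG2.diagonalSubgroup K := by
  rw [Subgroup.mem_subgroupOf, Subgroup.mem_inf]
  exact ⟨fun h => h.1, fun h => ⟨h, g.2⟩⟩

theorem card_subgroupOf_inf (X : Subgroup (GL chevG2.Idx K)) :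
    Nat.card ↥((X ⊓ twistedG2 K (3 ^ m)).subgroupOf (twistedG2 K (3 ^ m))) =
      Nat.card ↥(X ⊓ twistedG2 K (3 ^ m)) :=
  Nat.card_congr (Subgroup.subgroupOfEquivOfLe (inf_le_right :
    X ⊓ twistedG2 K (3 ^ m) ≤ twistedG2 K (3 ^ m))).toEquiv

end basic

section finite

variable {K : Type*} [Field K] [Fintype K] [CharP K 3] {m : ℕ}
  (hK : Fintype.card K = 3 ^ (2 * m + 1))
  (hperf : ∀ x : K, ∃ y : K, y ^ 3 = x) (f : K ≃+* K) (hf : ∀ t, f t = t ^ (3 ^ m))
include hK hperf hf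

/-- the small Ree groups satisfy `ReeData`, with the expected subgroup `U` -/
theorem exists_reeData_U (hm : 1 ≤ m) :
    ∃ R : ReeData ↥(twistedG2 K (3 ^ m)) (Matrix.ProjectiveSpecialLinearGroup (Fin 2) K)
      (3 ^ (2 * m + 1)), R.U = RU K m := by
  classical
  let a : ↥(twistedG2 K (3 ^ m)) :=
    ⟨pHom (m := m) (-1 : Kˣ), (pHom_mem hK hperf f hf (-1 : Kˣ)).2⟩
  obtain ⟨e, he⟩ := exists_centralizer_equiv hK hperf f hf a rfl
  let n : ↥(twistedG2 K (3 ^ m)) := ⟨n₀ K, n₀_mem hK hperf f hf⟩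
  refine ⟨{
    B := RB K m
    U := RU K m
    H := RH K m
    n := n
    a := a
    U_le := ?_
    H_le := ?_
    U_norm := ?_
    B_eq := ?_
    card_G := Cfsg.Agent.Lead.Tw.G2.card_group hK hperf f hf
    card_U := (card_subgroupOf_inf _).trans (Cfsg.Agent.Lead.Tw.G2.card_U hK hperf f hf)
    card_H := (card_subgroupOf_inf _).trans (Cfsg.Agent.Lead.Tw.G2.card_H hK hperf f hf)
    cyc_H := ?_
    bruhat := ?_
    conj_U := ?_
    conj_B := ?_
    inv_H := ?_
    fpf := ?_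
    a_mem := ?_
    a_ord := ?_
    cent_a := e
    cent_a_apply := he
    psl := pslLike (qdata m hm) hK
    syl2 := fun S => sylow_two hK hperf f hf S
    syl2n := fun S => sylow_two_normalizer hK hperf f hf hm S
    syl3 := fun S T hST => sylow_ti hK hperf f hf S T hST }, rfl⟩
  · -- U_le
    intro g hg
    rw [mem_RU] at hg
    rw [mem_RB]
    exact posUnipotent_le_borel chevG2 hg
  · -- H_le
    intro g hg
    rw [mem_RH] at hg
    rw [mem_RB]
    exact diagonal_le_borel chevG2 hg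
  · -- U_norm
    intro b hb u hu
    rw [mem_RB] at hb
    rw [mem_RU] at hu ⊢
    have hbN := borel_le_normalizer (K := K) hb
    exact (Subgroup.mem_normalizer_iff.1 hbN _).1 hu
  · -- B_eq
    intro b hb
    rw [mem_RB] at hb
    obtain ⟨u, hu, d, hd, e'⟩ :=
      (clsData hK hperf f hf).borel_decomp hS hC (b : GL chevG2.Idx K) hb b.2
    exact ⟨⟨u, hu.2⟩, (mem_RU _).2 hu.1, ⟨d, hd.2⟩, (mem_RH _).2 hd.1, Subtype.ext e'⟩
  · -- cyc_H
    exact (Subgroup.subgroupOfEquivOfLe (inf_le_right :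
      chevG2.diagonalSubgroup K ⊓ twistedG2 K (3 ^ m) ≤ twistedG2 K (3 ^ m))).isCyclic.2
        (isCyclic_H hK hperf f hf)
  · -- bruhat
    intro g hg
    rw [mem_RB] at hg
    obtain ⟨u, hu, β, hβ, e'⟩ := bruhat_inv hK hperf f hf (g : GL chevG2.Idx K) g.2 hg
    exact ⟨⟨u, hu.2⟩, (mem_RU _).2 hu.1, ⟨β, hβ.2⟩, (mem_RB _).2 hβ.1, Subtype.ext e'⟩
  · -- conj_U
    intro u hu hb
    rw [mem_RU] at hu
    rw [mem_RB] at hb
    apply Subtype.ext
    exact conj_eq_one hK hperf f hf (u : GL chevG2.Idx K) hu hb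
  · -- conj_B
    intro b hb hb'
    rw [mem_RB] at hb hb'
    rw [mem_RH]
    exact mem_diagonal_of_conj hK hperf f hf (b : GL chevG2.Idx K) hb hb'
  · -- inv_H
    intro h hh
    rw [mem_RH] at hh
    apply Subtype.ext
    exact n₀_conj_diag (h : GL chevG2.Idx K) hh
  · -- fpf
    intro h hh hne hodd u hu hc
    rw [mem_RH] at hh
    rw [mem_RU] at hu
    have hne' : (h : GL chevG2.Idx K) ≠ 1 := fun h0 => hne (Subtype.ext h0)
    have hodd' : Odd (orderOf (h : GL chevG2.Idx K)) := by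
      rw [Subgroup.orderOf_coe]
      exact hodd
    have h3 := odd_centralizer hK hperf f hf (h : GL chevG2.Idx K)
      (Subgroup.mem_inf.2 ⟨hh, h.2⟩) hne' hodd'
    have hmem : (u : GL chevG2.Idx K) ∈ (chevG2.posUnipotent K ⊓ twistedG2 K (3 ^ m)) ⊓
        Subgroup.centralizer {(h : GL chevG2.Idx K)} := by
      refine Subgroup.mem_inf.2 ⟨Subgroup.mem_inf.2 ⟨hu, u.2⟩, ?_⟩
      rw [Subgroup.mem_centralizer_singleton_iff]
      exact (congrArg Subtype.val hc).symm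
    rw [h3, Subgroup.mem_bot] at hmem
    exact Subtype.ext hmem
  · -- a_mem
    exact (mem_RH _).2 (pHom_mem hK hperf f hf (-1 : Kˣ)).1
  · -- a_ord
    have h1 : a * a = 1 := by
      apply Subtype.ext
      show pHom (m := m) (-1 : Kˣ) * pHom (m := m) (-1 : Kˣ) = 1
      rw [← map_mul]
      simp
    have h2 : a ≠ 1 := by
      intro h0
      have h3 : pHom (m := m) (K := K) (-1 : Kˣ) = 1 := congrArg Subtype.val h0
      have h4 : pHom (m := m) (K := K) (-1 : Kˣ) = pHom (m := m) 1 := by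
        rw [map_one]
        exact h3
      exact Cfsg.Agent.Lead.Tw.G2.neg_one_ne_one (K := K) (pHom_injective h4)
    exact orderOf_two_of_mul_self h1 h2

/-- the small Ree groups satisfy `ReeData` -/
theorem exists_reeData (hm : 1 ≤ m) :
    Nonempty (ReeData ↥(twistedG2 K (3 ^ m)) (Matrix.ProjectiveSpecialLinearGroup (Fin 2) K)
      (3 ^ (2 * m + 1))) := by
  obtain ⟨R, -⟩ := exists_reeData_U hK hperf f hf hm
  exact ⟨R⟩

end finite

end Cfsg.Agent.Helper2.Ree
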