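import Mathlib
import Cfsg.Agent.Lib.Helper2.NoQuadA
import Cfsg.Agent.Lib.Helper2.NoQuadB
import Cfsg.Agent.Lib.Helper2.ReeInst
import Cfsg.Agent.Lib.Lead.TwReeSimple
import Cfsg.Agent.Lib.Helper1.QuadraticGeneral

/-!
# No quadratic action for `PSL₂(q)` (`q` odd) and for the small Ree groups
-/

set_option autoImplicit false
set_option linter.unusedSectionVars false
set_option linter.unusedVariables false

namespace Cfsg.Agent.Helper2.NoQuad

open Cfsg Cfsg.Lie

/-- `PSL₂(F)`, `F` finite of odd characteristic `p`, acting faithfully on an elementary abelian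
`p`-group: no element `x ≠ 1` of order `p` has `x * x` acting quadratically -/
theorem no_quad_PSL2 {Γ W : Type*} [Group Γ] [CommGroup W] {F : Type*} [Field F] [Fintype F]
    (p : ℕ) [hp : Fact p.Prime] [CharP F p] (hp2 : p ≠ 2)
    (e : Γ ≃* Matrix.ProjectiveSpecialLinearGroup (Fin 2) F)
    (act : Γ →* MulAut W) (hact : Function.Injective act) (hW : ∀ w : W, w ^ p = 1)
    (x : Γ) (hx1 : x ≠ 1) (hxp : x ^ p = 1)
    (hq : ∀ w : W, act (x * x) (act (x * x) w / w) = act (x * x) w / w) : False := by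
  have hx1' : e x ≠ 1 := fun h => hx1 (e.injective (by rw [h, map_one]))
  have hxp' : e x ^ p = 1 := by rw [← map_pow, hxp, map_one]
  obtain ⟨g', h1, h2, h3⟩ := exists_braid_PSL2 p hp2 (e x) hx1' hxp'
  obtain ⟨g, rfl⟩ := e.surjective g'
  set y := g * (x * x) * g⁻¹ with hy
  have hey : e g * (e x * e x) * (e g)⁻¹ = e y := by
    rw [hy, map_mul, map_mul, map_mul, map_inv]
  have hexx : e x * e x = e (x * x) := (map_mul e x x).symm
  rw [hey, hexx] at h1 h2 h3
  have hbr : (x * x) * y * (x * x) = y * (x * x) * y := by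
    apply e.injective
    rw [← map_mul, ← map_mul, ← map_mul, ← map_mul] at h1
    exact h1
  have hn : ((x * x) * y * (x * x)) * ((x * x) * y * (x * x)) = 1 := by
    apply e.injective
    rw [← map_mul, ← map_mul, ← map_mul] at h2
    rw [h2, map_one]
  have hqy : ∀ w : W, act y (act y w / w) = act y w / w :=
    Cfsg.Agent.Helper4.QSec.quadratic_conj act (x * x) g hq
  have := eq_of_braid (hp.out.odd_of_ne_two hp2) act hact hW (x * x) y hq hqy hbr hn
  exact h3 (congrArg e this)

/-- a small Ree group acting faithfully on an elementary abelian `3`-group: no element `x ≠ 1`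
acts quadratically -/
theorem no_quad_Ree {Γ W : Type*} [Group Γ] [CommGroup W] [Finite W] (hΓ : Cfsg.Lie.IsoRee Γ)
    (act : Γ →* MulAut W) (hact : Function.Injective act) (hW : ∀ w : W, w ^ 3 = 1)
    (x : Γ) (hx1 : x ≠ 1)
    (hq : ∀ w : W, act x (act x w / w) = act x w / w) : False := by
  classical
  obtain ⟨K, _, _, m, hm, hK, ⟨e⟩⟩ := hΓ
  obtain ⟨hc, hperf, f, hf⟩ := Cfsg.Agent.Lead.Tw.exists_ree_setup 3 Nat.prime_three m hK
  have : CharP K 3 := hc
  have : Fact (Nat.Prime 3) := ⟨Nat.prime_three⟩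
  have : Fact (Nat.Prime 2) := ⟨Nat.prime_two⟩
  obtain ⟨R, hRU⟩ := Cfsg.Agent.Helper2.Ree.exists_reeData_U hK hperf f hf hm
  have hsimple : IsSimpleGroup ↥(twistedG2 K (3 ^ m)) :=
    (Cfsg.Agent.Lead.Tw.G2.simple hK hperf f hf hm).1
  -- Sylow `2`-subgroups are abelian
  have hab : ∀ T : Sylow 2 ↥(twistedG2 K (3 ^ m)), IsMulCommutative T := by
    intro T
    obtain ⟨-, hexp⟩ := R.syl2 T
    refine ⟨⟨?_⟩⟩
    rintro ⟨a, ha⟩ ⟨b, hb⟩
    apply Subtype.ext
    show a * b = b * a
    have h1 := hexp a ha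
    have h2 := hexp b hb
    have h3 := hexp (a * b) (mul_mem ha hb)
    calc a * b = (a * b)⁻¹ := (inv_eq_of_mul_eq_one_right h3).symm
      _ = b⁻¹ * a⁻¹ := mul_inv_rev a b
      _ = b * a := by rw [inv_eq_of_mul_eq_one_right h1, inv_eq_of_mul_eq_one_right h2]
  have hfree := Cfsg.Agent.Helper4.SLF.sl2free_of_abelian_sylow2 (p := 3) (by norm_num) hab
  apply hfree
  set act' : ↥(twistedG2 K (3 ^ m)) →* MulAut W := act.comp e.symm.toMonoidHom with hact'
  have hinj : Function.Injective act' := hact.comp e.symm.injective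
  refine Cfsg.Agent.Helper1.quadratic_section_general (p := 3) (by norm_num) act' hinj hW (e x)
    ?_ ?_
  · intro N hN hNp hxN
    rcases hN.eq_bot_or_eq_top with h | h
    · rw [h, Subgroup.mem_bot] at hxN
      exact hx1 (e.injective (by rw [hxN, map_one]))
    · -- the whole group is not a `3`-group
      have ha : (⟨R.a, by rw [h]; trivial⟩ : N) ≠ 1 := by
        intro h1
        have h2 : R.a = 1 := congrArg Subtype.val h1
        have h3 := R.a_ord
        rw [h2, orderOf_one] at h3
        omega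
      obtain ⟨k, hk⟩ := hNp ⟨R.a, by rw [h]; trivial⟩
      have h4 : R.a ^ 3 ^ k = 1 := congrArg Subtype.val hk
      have h5 : orderOf R.a ∣ 3 ^ k := orderOf_dvd_of_pow_eq_one h4
      rw [R.a_ord] at h5
      have h6 : 2 ∣ 3 := Nat.Prime.dvd_of_dvd_pow Nat.prime_two h5
      omega
  · intro w
    have e1 : act' (e x) = act x := by
      rw [hact']
      show act (e.symm (e x)) = act x
      rw [MulEquiv.symm_apply_apply]
    rw [e1]
    exact hq w

end Cfsg.Agent.Helper2.NoQuad
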