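import Mathlib

/-!
# S3999 piece FPF (helper2)

`fpf_of_orders` with the exact signature of `plans/OT_Skel.lean.txt`.
-/

set_option autoImplicit false

namespace Cfsg.Agent.Helper2.OT

theorem fpf_of_orders {G : Type*} [Group G] [Finite G] (K H : Subgroup G)
    (hcop : Nat.Coprime (Nat.card K) (Nat.card H))
    (hord : ∀ x : G, orderOf x ∣ Nat.card K ∨ orderOf x ∣ Nat.card H) :
    ∀ h ∈ H, h ≠ 1 → K ⊓ Subgroup.centralizer {h} = ⊥ := by
  intro h hh h1
  rw [eq_bot_iff]
  rintro y ⟨hyK, hyC⟩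
  rw [Subgroup.mem_bot]
  by_contra hy1
  have ha : orderOf h ∣ Nat.card H := Subgroup.orderOf_dvd_natCard H hh
  have hb : orderOf y ∣ Nat.card K := Subgroup.orderOf_dvd_natCard K hyK
  have ha1 : orderOf h ≠ 1 := fun e => h1 (orderOf_eq_one_iff.mp e)
  have hb1 : orderOf y ≠ 1 := fun e => hy1 (orderOf_eq_one_iff.mp e)
  have hco : (orderOf h).Coprime (orderOf y) :=
    (Nat.Coprime.coprime_dvd_left hb (Nat.Coprime.coprime_dvd_right ha hcop)).symm
  have hcomm : Commute h y := by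
    have := (Subgroup.mem_centralizer_iff.mp hyC) h (Set.mem_singleton h)
    exact this
  have hmul := hcomm.orderOf_mul_eq_mul_orderOf_of_coprime hco
  rcases hord (h * y) with hd | hd
  · rw [hmul] at hd
    have h2 : orderOf h ∣ Nat.card K := Dvd.dvd.trans (dvd_mul_right _ _) hd
    exact ha1 (Nat.eq_one_of_dvd_coprimes hcop h2 ha)
  · rw [hmul] at hd
    have h2 : orderOf y ∣ Nat.card H := Dvd.dvd.trans (dvd_mul_left _ _) hd
    exact hb1 (Nat.eq_one_of_dvd_coprimes hcop hb h2)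

end Cfsg.Agent.Helper2.OT
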