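import Mathlib
import Cfsg.Agent.Lib.Helper2.OTDefs

/-!
# S3999 pieces POW + CARD (helper2)

`card_pow_eq_one`, `card_eq` with the exact signatures of `plans/OT_Skel.lean.txt`.
-/

set_option autoImplicit false
set_option linter.style.haveILetI false

namespace Cfsg.Agent.Helper2.OT

/-- the solutions of `x ^ n = 1`, counted by their orders -/
theorem POW.card_pow_eq_sum {F : Type*} [Group F] [Finite F] (n : ℕ) (hn : 0 < n) :
    Nat.card {g : F // g ^ n = 1} = ∑ m ∈ n.divisors, Nat.card {g : F // orderOf g = m} := by
  classical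
  letI : Fintype F := Fintype.ofFinite F
  rw [Nat.card_eq_fintype_card, Fintype.card_subtype]
  rw [Finset.card_eq_sum_card_fiberwise (f := orderOf) (t := n.divisors)]
  · apply Finset.sum_congr rfl
    intro m hm
    rw [Nat.card_eq_fintype_card, Fintype.card_subtype]
    congr 1
    ext g
    simp only [Finset.mem_filter, Finset.mem_univ, true_and]
    constructor
    · exact fun h => h.2
    · intro h
      refine ⟨?_, h⟩
      rw [← orderOf_dvd_iff_pow_eq_one, h]
      exact Nat.dvd_of_mem_divisors hm
  · intro g hg
    have hg' : g ^ n = 1 := by simpa using hg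
    show orderOf g ∈ n.divisors
    rw [Nat.mem_divisors]
    exact ⟨orderOf_dvd_iff_pow_eq_one.mpr hg', hn.ne'⟩

theorem card_pow_eq_one {F G : Type*} [Group F] [Finite F] [Group G] [Finite G] (hT : SameOT F G)
    (n : ℕ) (hn : 0 < n) :
    Nat.card {g : F // g ^ n = 1} = Nat.card {h : G // h ^ n = 1} := by
  rw [POW.card_pow_eq_sum n hn, POW.card_pow_eq_sum n hn]
  exact Finset.sum_congr rfl (fun m _ => hT m)

theorem card_eq {F G : Type*} [Group F] [Finite F] [Group G] [Finite G] (hT : SameOT F G) :
    Nat.card F = Nat.card G := by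
  have hN : 0 < Nat.card F * Nat.card G := Nat.mul_pos Nat.card_pos Nat.card_pos
  have h := card_pow_eq_one hT (Nat.card F * Nat.card G) hN
  have hF : Nat.card {g : F // g ^ (Nat.card F * Nat.card G) = 1} = Nat.card F := by
    apply Nat.card_congr
    apply Equiv.subtypeUnivEquiv
    intro g
    rw [pow_mul, pow_card_eq_one', one_pow]
  have hG : Nat.card {g : G // g ^ (Nat.card F * Nat.card G) = 1} = Nat.card G := by
    apply Nat.card_congr
    apply Equiv.subtypeUnivEquiv
    intro g
    rw [mul_comm, pow_mul, pow_card_eq_one', one_pow]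
  exact hF.symm.trans (h.trans hG)

end Cfsg.Agent.Helper2.OT
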