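import Mathlib
import Cfsg.Agent.Lib.Helper23.OTSL25

/-!
# S3999 piece STRUCTA (helper2)

`struct_count` with the exact signature of `plans/OT_Skel.lean.txt`.
-/

set_option autoImplicit false
set_option linter.style.haveILetI false
set_option linter.unusedVariables false

namespace Cfsg.Agent.Helper2.OT

theorem struct_count {C : Type*} [Group C] [Finite C] (G₀ : Subgroup C) (hn : G₀.Normal)
    (hi : G₀.index = 1 ∨ G₀.index = 2) (S M : Subgroup C) (hsup : S ⊔ M = G₀) (hinf : S ⊓ M = ⊥)
    (hcomm : ∀ s ∈ S, ∀ x ∈ M, s * x = x * s)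
    (hS : Nonempty (S ≃* Matrix.SpecialLinearGroup (Fin 2) (ZMod 5))) (hM : (Nat.card M).Coprime 30) :
    Nat.card {x : C // orderOf x = 5} = 24 ∧ 30 ∣ Nat.card C ∧ ¬ 25 ∣ Nat.card C := by
  classical
  obtain ⟨e⟩ := hS
  have hM5 : (Nat.card M).Coprime 5 := Nat.Coprime.coprime_dvd_right (by norm_num) hM
  -- the product map `S × M → C`
  have comm : ∀ (s : S) (m : M), Commute (S.subtype s) (M.subtype m) :=
    fun s m => hcomm s.1 s.2 m.1 m.2
  set φ : S × M →* C := MonoidHom.noncommCoprod S.subtype M.subtype comm with hφ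
  have hinj : Function.Injective φ := by
    rw [hφ, MonoidHom.noncommCoprod_injective]
    refine ⟨S.subtype_injective, M.subtype_injective, ?_⟩
    rw [Subgroup.range_subtype, Subgroup.range_subtype, disjoint_iff]
    exact hinf
  have hrange : φ.range = G₀ := by
    rw [hφ, MonoidHom.noncommCoprod_range, Subgroup.range_subtype, Subgroup.range_subtype, hsup]
  have hSc : Nat.card S = 120 := by
    rw [Nat.card_congr e.toEquiv, sl25_card]
  have hG0c : Nat.card G₀ = 120 * Nat.card M := by
    rw [← hrange, ← Nat.card_congr (MonoidHom.ofInjective hinj).toEquiv, Nat.card_prod, hSc]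
  -- elements of order `5` lie in `S`
  have key : ∀ x : C, orderOf x = 5 → x ∈ S := by
    intro x hx
    have hx5 : x ^ 5 = 1 := by rw [← hx]; exact pow_orderOf_eq_one x
    have hxG : x ∈ G₀ := by
      rcases hi with h1 | h2
      · rw [Subgroup.index_eq_one.mp h1]
        exact Subgroup.mem_top x
      · have h2' := Subgroup.sq_mem_of_index_two h2 x
        have : x = (x ^ 2) ^ 3 := by
          rw [← pow_mul]
          calc x = x ^ 5 * x := by rw [hx5, one_mul]
            _ = x ^ (2 * 3) := by rw [← pow_succ]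
        rw [this]
        exact G₀.pow_mem h2' 3
    rw [← hrange] at hxG
    obtain ⟨⟨s, m⟩, rfl⟩ := hxG
    have hval : φ (s, m) = (s : C) * (m : C) := by
      rw [hφ, MonoidHom.noncommCoprod_apply]
      rfl
    rw [hval] at hx5 ⊢
    have hc : Commute (s : C) (m : C) := comm s m
    rw [hc.mul_pow] at hx5
    have hs5 : (s : C) ^ 5 = ((m : C) ^ 5)⁻¹ := eq_inv_of_mul_eq_one_left hx5
    have hmem : (m : C) ^ 5 ∈ S ⊓ M := by
      refine ⟨?_, M.pow_mem m.2 5⟩
      have : ((m : C) ^ 5) = ((s : C) ^ 5)⁻¹ := by rw [hs5, inv_inv]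
      rw [this]
      exact S.inv_mem (S.pow_mem s.2 5)
    rw [hinf, Subgroup.mem_bot] at hmem
    have hm5 : m ^ 5 = 1 := Subtype.ext (by simpa using hmem)
    have hd1 : orderOf m ∣ 5 := orderOf_dvd_of_pow_eq_one hm5
    have hd2 : orderOf m ∣ Nat.card M := orderOf_dvd_natCard m
    have hm1 : orderOf m = 1 := Nat.eq_one_of_dvd_coprimes hM5 hd2 hd1
    have : m = 1 := orderOf_eq_one_iff.mp hm1
    rw [this]
    simp
  -- the count
  have hcount : Nat.card {x : C // orderOf x = 5} = 24 := by
    have e1 : {x : C // orderOf x = 5} ≃ {s : S // orderOf s = 5} :=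
      { toFun := fun x => ⟨⟨x.1, key x.1 x.2⟩, by
          have := Subgroup.orderOf_coe (⟨x.1, key x.1 x.2⟩ : S)
          rw [← this]
          exact x.2⟩
        invFun := fun s => ⟨s.1.1, by rw [Subgroup.orderOf_coe]; exact s.2⟩
        left_inv := fun x => rfl
        right_inv := fun s => rfl }
    have e2 : {s : S // orderOf s = 5} ≃
        {A : Matrix.SpecialLinearGroup (Fin 2) (ZMod 5) // orderOf A = 5} :=
      e.toEquiv.subtypeEquiv (fun s => by
        show orderOf s = 5 ↔ orderOf (e s) = 5
        rw [MulEquiv.orderOf_eq])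
    rw [Nat.card_congr (e1.trans e2), sl25_card_order_five]
  refine ⟨hcount, ?_, ?_⟩
  · have h1 : Nat.card S ∣ Nat.card C := Subgroup.card_subgroup_dvd_card S
    rw [hSc] at h1
    exact Dvd.dvd.trans (by norm_num) h1
  · intro h25
    have hmul : Nat.card G₀ * G₀.index = Nat.card C := Subgroup.card_mul_index G₀
    rw [← hmul, hG0c] at h25
    have hM25 : (Nat.card M).Coprime 25 := by
      have : (25 : ℕ) = 5 ^ 2 := by norm_num
      rw [this]
      exact Nat.Coprime.pow_right 2 hM5
    have h25' : 25 ∣ Nat.card M * (120 * G₀.index) := by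
      have : 120 * Nat.card M * G₀.index = Nat.card M * (120 * G₀.index) := by ring
      rw [← this]
      exact h25
    have h3 : 25 ∣ 120 * G₀.index := hM25.symm.dvd_of_dvd_mul_left h25'
    rcases hi with h1 | h2
    · rw [h1] at h3
      omega
    · rw [h2] at h3
      omega

end Cfsg.Agent.Helper2.OT
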