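import Mathlib
import Cfsg.Agent.Lib.Helper2.OTDefs
import Cfsg.Agent.Lib.Helper2.OTPOW

/-!
# S3999 piece SYLNORM (helper2)

`sylow_normal_of_sameOT` with the exact signature of `plans/OT_Skel.lean.txt`.
-/

set_option autoImplicit false
set_option linter.style.haveILetI false

namespace Cfsg.Agent.Helper2.OT

/-- for a normal Sylow `p`-subgroup `P`, the solutions of `x ^ |P| = 1` are the elements of `P` -/
theorem SYLNORM.pow_eq_one_iff {F : Type*} [Group F] [Finite F] (p : ℕ) [Fact p.Prime] (P : Sylow p F)
    (hP : (P : Subgroup F).Normal) (x : F) :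
    x ^ Nat.card (P : Subgroup F) = 1 ↔ x ∈ (P : Subgroup F) := by
  have hp : p.Prime := Fact.out
  constructor
  · intro hx
    obtain ⟨a, ha⟩ := P.isPGroup'.exists_card_eq
    have hd : orderOf x ∣ p ^ a := by
      rw [← ha]
      exact orderOf_dvd_of_pow_eq_one hx
    obtain ⟨j, -, hj⟩ := (Nat.dvd_prime_pow hp).mp hd
    have hz : IsPGroup p (Subgroup.zpowers x) := by
      apply IsPGroup.of_card (n := j)
      rw [Nat.card_zpowers, hj]
    obtain ⟨P', hP'⟩ := hz.exists_le_sylow
    haveI := Sylow.unique_of_normal P hP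
    have : P' = P := Subsingleton.elim _ _
    rw [← this]
    exact hP' (Subgroup.mem_zpowers x)
  · intro hx
    have := pow_card_eq_one' (G := (P : Subgroup F)) (x := ⟨x, hx⟩)
    exact congrArg Subtype.val this

theorem sylow_normal_of_sameOT {F G : Type*} [Group F] [Finite F] [Group G] [Finite G] (hT : SameOT F G)
    (p : ℕ) [Fact p.Prime] (P : Sylow p F) (hP : (P : Subgroup F).Normal) (Q : Sylow p G) :
    (Q : Subgroup G).Normal := by
  classical
  set n := Nat.card (P : Subgroup F) with hn
  have hnpos : 0 < n := Nat.card_pos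
  -- the count in `F`
  have hF : Nat.card {x : F // x ^ n = 1} = n := by
    have : {x : F // x ^ n = 1} ≃ (P : Subgroup F) :=
      Equiv.subtypeEquivRight (fun x => SYLNORM.pow_eq_one_iff p P hP x)
    rw [Nat.card_congr this]
  have hG : Nat.card {y : G // y ^ n = 1} = n := by
    rw [← card_pow_eq_one hT n hnpos, hF]
  have hcard : ∀ Q' : Sylow p G, Nat.card (Q' : Subgroup G) = n := by
    intro Q'
    rw [hn, Sylow.card_eq_multiplicity, Sylow.card_eq_multiplicity, card_eq hT]
  -- every Sylow of `G` is the set of solutions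
  have hset : ∀ Q' : Sylow p G, ((Q' : Subgroup G) : Set G) = {y : G | y ^ n = 1} := by
    intro Q'
    apply Set.eq_of_subset_of_ncard_le
    · intro y hy
      have := pow_card_eq_one' (G := (Q' : Subgroup G)) (x := ⟨y, hy⟩)
      rw [hcard Q'] at this
      exact congrArg Subtype.val this
    · have h1 : ({y : G | y ^ n = 1} : Set G).ncard = n := by
        rw [← Nat.card_coe_set_eq]
        exact hG
      have h2 : (((Q' : Subgroup G) : Set G)).ncard = n := by
        rw [← Nat.card_coe_set_eq]
        exact hcard Q'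
      rw [h1, h2]
    · exact Set.toFinite _
  haveI : Subsingleton (Sylow p G) := by
    constructor
    intro Q1 Q2
    apply Sylow.ext
    apply SetLike.coe_injective
    rw [hset Q1, hset Q2]
  exact Sylow.normal_of_subsingleton Q

end Cfsg.Agent.Helper2.OT
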