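import Mathlib
import Cfsg.Agent.Lib.Helper2.OTDefs
import Cfsg.Agent.Lib.Helper2.OTPOW
import Cfsg.Agent.Lib.Helper2.OTSYLNORM
import Cfsg.Agent.Lib.Helper2.OTFROB
import Cfsg.Agent.Lib.Helper2.OTFPF
import Cfsg.Agent.Lib.Helper2.OTSTRUCTA
import Cfsg.Agent.Lib.Helper23.OTHALL
import Cfsg.Agent.Lib.Helper23.OTSL25
import Cfsg.Agent.Lib.Helper15.OTTRANSPORT
import Cfsg.Agent.Lib.Helper15.OTN5
import Cfsg.Agent.S0039
import Cfsg.Agent.S3359
import Cfsg.Agent.S4345
import Cfsg.Agent.Lib.Helper5.OrderPCount

/-!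
# S3999 (helper2): assembly

Part (a): a group with the order type of a Frobenius group has a Frobenius complement.
Lemma B: if `X` has a Frobenius complement and is not solvable, no group with the order type of `X` is solvable.
-/

set_option autoImplicit false
set_option linter.unusedVariables false
set_option linter.style.haveILetI false
set_option linter.deprecated false

namespace Cfsg.Agent.Helper2.OT

open Cfsg

/-- Part (a). -/
theorem exists_frobeniusComplement {F G : Type*} [Group F] [Finite F] [Group G] [Finite G]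
    (C : Subgroup F) (hC : IsFrobeniusComplement C) (hT : SameOT F G) :
    ∃ C' : Subgroup G, IsFrobeniusComplement C' := by
  classical
  obtain ⟨hcop, hk1, hc1⟩ := frob_coprime C hC
  have hcard : Nat.card F = Nat.card G := card_eq hT
  have hmul : Nat.card C * C.index = Nat.card F := Subgroup.card_mul_index C
  have hkd : C.index ∣ Nat.card G := by
    rw [← hcard, ← hmul]
    exact dvd_mul_left _ _
  have hkpos : 0 < C.index := by omega
  have hdiv : Nat.card G / C.index = Nat.card C := by
    rw [← hcard, ← hmul]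
    exact Nat.mul_div_cancel _ hkpos
  -- normal Sylow subgroups of `G` for the primes dividing `k`
  have hsyl : ∀ (p : ℕ) [Fact p.Prime], p ∣ C.index → ∀ Q : Sylow p G, (Q : Subgroup G).Normal := by
    intro p _ hp Q
    obtain ⟨P⟩ : Nonempty (Sylow p F) := inferInstance
    exact sylow_normal_of_sameOT hT p P (frob_sylow_normal C hC p hp P) Q
  obtain ⟨N, hNn, hNk⟩ := exists_normal_hall (G := G) C.index hkd (by rw [hdiv]; exact hcop) hsyl
  haveI := hNn
  have hNidx : N.index = Nat.card C := by
    have := Subgroup.card_mul_index N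
    rw [hNk, ← hcard, ← hmul, mul_comm] at this
    exact Nat.eq_of_mul_eq_mul_right hkpos this
  obtain ⟨H, hH⟩ := Subgroup.exists_right_complement'_of_coprime (N := N)
    (by rw [hNk, hNidx]; exact hcop)
  have hHc : Nat.card H = Nat.card C := by
    have := hH.card_mul
    rw [hNk, ← hcard, ← hmul, mul_comm] at this
    exact Nat.eq_of_mul_eq_mul_right hkpos this
  have hord : ∀ x : G, orderOf x ∣ Nat.card N ∨ orderOf x ∣ Nat.card H := by
    intro x
    obtain ⟨y, hy⟩ := hT.symm.exists_orderOf (orderOf x) x rfl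
    rw [hNk, hHc, ← hy]
    exact frob_orderOf_dvd C hC y
  have hfpf := fpf_of_orders N H (by rw [hNk, hHc]; exact hcop) hord
  have hN1 : N ≠ ⊥ := by
    intro h
    rw [h, Subgroup.card_bot] at hNk
    omega
  have hH1 : H ≠ ⊥ := by
    intro h
    rw [h, Subgroup.card_bot] at hHc
    omega
  exact ⟨H, (Cfsg.Agent.S0039.result N H hH hN1 hH1).mpr hfpf⟩

/-- a prime `p` with `p ∣ n`, `¬ p² ∣ n` has `n.factorization p = 1` -/
theorem factorization_eq_one {n p : ℕ} (hp : p.Prime) (h1 : p ∣ n) (h2 : ¬ p ^ 2 ∣ n) (hn : n ≠ 0) :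
    n.factorization p = 1 := by
  have hle : 1 ≤ n.factorization p := (hp.dvd_iff_one_le_factorization hn).mp h1
  have hlt : n.factorization p < 2 := by
    by_contra hcon
    push Not at hcon
    exact h2 ((hp.pow_dvd_iff_le_factorization hn).mpr hcon)
  omega

/-- Lemma B. -/
theorem not_solvable_of_sameOT {X Y : Type*} [Group X] [Finite X] [Group Y] [Finite Y]
    (hT : SameOT X Y) (C : Subgroup X) (hC : IsFrobeniusComplement C) (hX : ¬ Group.IsSolvable X) :
    ¬ Group.IsSolvable Y := by
  classical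
  intro hY
  haveI : Fact (Nat.Prime 5) := ⟨by norm_num⟩
  have h5 : Nat.Prime 5 := by norm_num
  have hCns : ¬ Group.IsSolvable C := fun hs => hX (solvable_of_complement C hC hs)
  obtain ⟨G₀, hn, hi, S, M, hsup, hinf, hcomm, hS, -, hM⟩ :=
    Cfsg.Agent.S3359.result hCns (exists_small_model C hC)
  obtain ⟨h24, h30, h25⟩ := struct_count G₀ hn hi S M hsup hinf hcomm hS hM
  obtain ⟨hcop, hk1, hc1⟩ := frob_coprime C hC
  have hmul : Nat.card C * C.index = Nat.card X := Subgroup.card_mul_index C
  have hcard : Nat.card X = Nat.card Y := card_eq hT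
  have hCpos : Nat.card C ≠ 0 := Nat.card_pos.ne'
  have h5C : 5 ∣ Nat.card C := Dvd.dvd.trans (by norm_num) h30
  have h2C : 2 ∣ Nat.card C := Dvd.dvd.trans (by norm_num) h30
  have h3C : 3 ∣ Nat.card C := Dvd.dvd.trans (by norm_num) h30
  -- `k` is prime to `30`
  have hk5 : ¬ 5 ∣ C.index := fun h =>
    absurd (Nat.eq_one_of_dvd_coprimes hcop h h5C) (by norm_num)
  have hk2 : ¬ 2 ∣ C.index := fun h =>
    absurd (Nat.eq_one_of_dvd_coprimes hcop h h2C) (by norm_num)
  -- Sylow `5`-subgroups have order `5` in `C`, `X`, `Y`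
  have hfC : (Nat.card C).factorization 5 = 1 := factorization_eq_one h5 h5C h25 hCpos
  have hXpos : Nat.card X ≠ 0 := Nat.card_pos.ne'
  have hkpos : C.index ≠ 0 := by omega
  have hfX : (Nat.card X).factorization 5 = 1 := by
    rw [← hmul, Nat.factorization_mul hCpos hkpos, Finsupp.add_apply, hfC,
      Nat.factorization_eq_zero_of_not_dvd hk5]
  have hsC : ∀ Q : Sylow 5 C, Nat.card (Q : Subgroup C) = 5 := by
    intro Q
    rw [Sylow.card_eq_multiplicity, hfC, pow_one]
  have hsX : ∀ Q : Sylow 5 X, Nat.card (Q : Subgroup X) = 5 := by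
    intro Q
    rw [Sylow.card_eq_multiplicity, hfX, pow_one]
  have hsY : ∀ Q : Sylow 5 Y, Nat.card (Q : Subgroup Y) = 5 := by
    intro Q
    rw [Sylow.card_eq_multiplicity, ← hcard, hfX, pow_one]
  -- counting elements of order `5`
  have hcC := Cfsg.Agent.Helper5.card_orderOf_eq_prime (G := C) (p := 5) hsC
  have hcX := Cfsg.Agent.Helper5.card_orderOf_eq_prime (G := X) (p := 5) hsX
  have hcY := Cfsg.Agent.Helper5.card_orderOf_eq_prime (G := Y) (p := 5) hsY
  have hn5C : Nat.card (Sylow 5 C) = 6 := by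
    rw [h24] at hcC
    omega
  have hn5X : Nat.card (Sylow 5 X) = C.index * 6 := by
    rw [frob_card_sylow C hC 5 h5C, hn5C]
  have hn5Y : Nat.card (Sylow 5 Y) = C.index * 6 := by
    have := hT 5
    rw [hcX, hcY, hn5X] at this
    omega
  -- the `2`-part of `n_5(Y)` is `2`
  have hfac : (Nat.card (Sylow 5 Y)).factorization 2 = 1 := by
    rw [hn5Y, Nat.factorization_mul hkpos (by norm_num), Finsupp.add_apply,
      Nat.factorization_eq_zero_of_not_dvd hk2]
    have : (6 : ℕ).factorization 2 = 1 := by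
      apply factorization_eq_one Nat.prime_two (by norm_num) (by norm_num) (by norm_num)
    rw [this]
  have := Cfsg.Agent.S4345.result hY 5 2 Nat.prime_two
  rw [hfac] at this
  revert this
  decide

end Cfsg.Agent.Helper2.OT
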