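import Mathlib
import Cfsg.Agent.Lib.Helper3.SmallOrd
import Cfsg.Agent.S0073
import Cfsg.Agent.S0713
import Cfsg.Agent.S0985

/-!
# No simple group of order 5880 (piece ORD5880 of S0983, helper2)

`n_7 ∈ {15, 120}`.  `n_7 = 120`: `N(P) = P` abelian, Burnside.  `n_7 = 15`: the action on the `15` Sylow
`7`-subgroups is primitive (an intermediate subgroup would have index `3` or `5`), and since
`15 ≢ 1 mod 49` two Sylow `7`-subgroups meet nontrivially: an element of order `7` in the intersection fixes
two points, so it is a `7`-cycle; Jordan's theorem (S0713) gives `A₁₅ ≤ G`: contradiction.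
-/

set_option autoImplicit false
set_option linter.style.haveILetI false
set_option linter.unusedVariables false
set_option linter.unusedSectionVars false
open Cfsg

namespace Cfsg.Agent.Helper3.SmallOrd

variable {G : Type*} [Group G] [Finite G] [IsSimpleGroup G]

/-- the image of `G` in `Perm Ω` is primitive when `G` is -/
theorem o5880_isPreprimitive_range {Ω : Type*} [MulAction G Ω] (hprim : MulAction.IsPreprimitive G Ω) :
    MulAction.IsPreprimitive ↥(MulAction.toPermHom G Ω).range Ω := by
  let φ : G → ↥(MulAction.toPermHom G Ω).range := fun g => ⟨MulAction.toPermHom G Ω g, ⟨g, rfl⟩⟩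
  let f : Ω →ₑ[φ] Ω := ⟨id, fun g x => rfl⟩
  exact MulAction.IsPreprimitive.of_surjective (f := f) Function.surjective_id

theorem no_simple_5880 (h : Nat.card G = 5880) : False := by
  classical
  have hG : ∃ x y : G, x * y ≠ y * x :=
    Cfsg.Agent.Lead.nonabelian_of_not_prime (by rw [h]; norm_num)
  haveI : Fact (Nat.Prime 7) := ⟨by norm_num⟩
  have hcard : Nat.card G = 7 ^ 2 * 120 := by rw [h]; norm_num
  obtain ⟨h1, h2, h3, h4, h5⟩ := basic hG (by norm_num) hcard (by norm_num)
  rw [h] at h4
  have hn : Nat.card (Sylow 7 G) = 15 ∨ Nat.card (Sylow 7 G) = 120 := by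
    have hle : Nat.card (Sylow 7 G) ≤ 120 := Nat.le_of_dvd (by norm_num) h1
    have hpos : 0 < Nat.card (Sylow 7 G) := Nat.card_pos
    generalize Nat.card (Sylow 7 G) = n at *
    interval_cases n <;> first | (left; rfl) | (right; rfl) | omega | (exfalso; revert h4; decide)
  rcases hn with hn | hn
  swap
  · -- `n_7 = 120`: `N(P) = P`
    obtain ⟨P⟩ : Nonempty (Sylow 7 G) := inferInstance
    obtain ⟨hP, hN⟩ := h5 P
    rw [hn, h] at hN
    have hNc : Nat.card (Subgroup.normalizer ((P : Subgroup G) : Set G)) = 49 := by omega
    have hPN : (P : Subgroup G) ≤ Subgroup.normalizer ((P : Subgroup G) : Set G) :=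
      Subgroup.le_normalizer
    have hEq : (P : Subgroup G) = Subgroup.normalizer ((P : Subgroup G) : Set G) := by
      apply Subgroup.eq_of_le_of_card_ge hPN
      rw [hNc, hP]
      norm_num
    have hcomm : ∀ a b : (P : Subgroup G), a * b = b * a := by
      intro a b
      have hP' : Nat.card (P : Subgroup G) = 7 ^ 2 := hP
      have hc : IsMulCommutative (P : Subgroup G) := IsPGroup.isMulCommutative_of_card_eq_prime_sq hP'
      exact hc.is_comm.comm a b
    apply Cfsg.Agent.S0073.not_normalizer_le_centralizer hG P (by rw [h]; norm_num)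
    rw [← hEq]
    intro x hx
    rw [Subgroup.mem_centralizer_iff]
    intro y hy
    have := hcomm ⟨y, hy⟩ ⟨x, hx⟩
    exact congrArg Subtype.val this
  · -- `n_7 = 15`
    letI : Fintype (Sylow 7 G) := Fintype.ofFinite _
    have hX : Fintype.card (Sylow 7 G) = 15 := by rw [← Nat.card_eq_fintype_card, hn]
    -- two Sylow subgroups meeting nontrivially
    obtain ⟨P, R, hPR, hidx⟩ := Cfsg.Agent.S0985.result (G := G) 7 2 (by rw [hn]; decide)
    obtain ⟨hP, hN⟩ := h5 P
    have hmul := Subgroup.card_mul_index ((R : Subgroup G).subgroupOf (P : Subgroup G))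
    rw [hP] at hmul
    have hne1 : Nat.card ((R : Subgroup G).subgroupOf (P : Subgroup G)) ≠ 1 := by
      intro h1'
      rw [h1', one_mul] at hmul
      rw [hmul] at hidx
      norm_num at hidx
    have hpg : IsPGroup 7 ((R : Subgroup G).subgroupOf (P : Subgroup G)) :=
      IsPGroup.of_injective P.isPGroup' (Subgroup.subtype _) (Subgroup.subtype_injective _)
    have hdvd : 7 ∣ Nat.card ((R : Subgroup G).subgroupOf (P : Subgroup G)) := by
      rcases hpg.card_eq_or_dvd with h' | h'
      · exact absurd h' hne1
      · exact h'
    obtain ⟨x, hx⟩ := exists_prime_orderOf_dvd_card' 7 hdvd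
    set d : G := ((x : (P : Subgroup G)) : G) with hd
    have hdP : d ∈ (P : Subgroup G) := (x : (P : Subgroup G)).2
    have hdR : d ∈ (R : Subgroup G) := Subgroup.mem_subgroupOf.mp x.2
    have hdo : orderOf d = 7 := by
      rw [hd, Subgroup.orderOf_coe, Subgroup.orderOf_coe, hx]
    -- the permutation representation
    set φ : G →* Equiv.Perm (Sylow 7 G) := MulAction.toPermHom G (Sylow 7 G) with hφ
    have hstab : ∀ Q : Sylow 7 G, MulAction.stabilizer G Q = Subgroup.normalizer ((Q : Subgroup G) : Set G) :=
      fun Q => Sylow.stabilizer_eq_normalizer Q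
    have hNP : Nat.card (Subgroup.normalizer ((P : Subgroup G) : Set G)) = 392 := by
      rw [hn, h] at hN
      omega
    have hNtop : Subgroup.normalizer ((P : Subgroup G) : Set G) ≠ ⊤ := by
      intro htop
      rw [htop, Subgroup.card_top, h] at hNP
      omega
    have hker : φ.ker = ⊥ := by
      rcases (MonoidHom.normal_ker φ).eq_bot_or_eq_top with hk | hk
      · exact hk
      · exfalso
        apply hNtop
        rw [eq_top_iff, ← hk]
        intro g hg
        rw [← hstab P, MulAction.mem_stabilizer_iff]
        have : φ g = 1 := MonoidHom.mem_ker.mp hg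
        have h2 := congrArg (fun s : Equiv.Perm (Sylow 7 G) => s P) this
        simpa [hφ] using h2
    have hinj : Function.Injective φ := (MonoidHom.ker_eq_bot_iff φ).mp hker
    set σ : Equiv.Perm (Sylow 7 G) := φ d with hσ
    have hσo : orderOf σ = 7 := by rw [hσ, orderOf_injective φ hinj, hdo]
    have hσP : σ P = P := by
      show d • P = P
      rw [Sylow.smul_eq_iff_mem_normalizer]
      exact Subgroup.le_normalizer hdP
    have hσR : σ R = R := by
      show d • R = R
      rw [Sylow.smul_eq_iff_mem_normalizer]
      exact Subgroup.le_normalizer hdR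
    have hsupp : σ.support ⊆ ({P, R} : Finset (Sylow 7 G))ᶜ := by
      intro y hy
      rw [Finset.mem_compl, Finset.mem_insert, Finset.mem_singleton]
      rintro (rfl | rfl)
      · exact (Equiv.Perm.mem_support.mp hy) hσP
      · exact (Equiv.Perm.mem_support.mp hy) hσR
    have hle : σ.support.card ≤ 13 := by
      have := Finset.card_le_card hsupp
      rw [Finset.card_compl, Finset.card_pair hPR, hX] at this
      exact this
    have hc : σ.IsCycle := Equiv.Perm.isCycle_of_prime_order (by rw [hσo]; norm_num)
      (by rw [hσo]; omega)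
    have hs : σ.support.card = 7 := by rw [← hc.orderOf, hσo]
    -- primitivity
    haveI : Nontrivial (Sylow 7 G) := by
      rw [← Fintype.one_lt_card_iff_nontrivial, hX]
      norm_num
    have hcoatom : IsCoatom (MulAction.stabilizer G P) := by
      rw [hstab P]
      refine ⟨hNtop, ?_⟩
      intro H hlt
      by_contra hH
      have hfac := two_mul_card_dvd_factorial_index hG H hH
      have hidxd : H.index ∣ (Subgroup.normalizer ((P : Subgroup G) : Set G)).index :=
        Subgroup.index_dvd_of_le hlt.le
      have hNidx : (Subgroup.normalizer ((P : Subgroup G) : Set G)).index = 15 := by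
        have := Subgroup.card_mul_index (Subgroup.normalizer ((P : Subgroup G) : Set G))
        rw [hNP, h] at this
        omega
      rw [hNidx] at hidxd
      have hHmul := Subgroup.card_mul_index H
      rw [h] at hHmul hfac
      have hile : H.index ≤ 15 := Nat.le_of_dvd (by norm_num) hidxd
      have hipos : 0 < H.index := Nat.pos_of_ne_zero Subgroup.index_ne_zero_of_finite
      have hcases : H.index = 15 := by
        generalize H.index = i at *
        interval_cases i <;> first | rfl | omega | (exfalso; revert hfac; decide)
      rw [hcases] at hHmul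
      have hHc : Nat.card H = 392 := by omega
      have : Subgroup.normalizer ((P : Subgroup G) : Set G) = H :=
        Subgroup.eq_of_le_of_card_ge hlt.le (by rw [hHc, hNP])
      exact hlt.ne this
    haveI : MulAction.IsPretransitive G (Sylow 7 G) := inferInstance
    have hprim : MulAction.IsPreprimitive G (Sylow 7 G) :=
      (MulAction.isCoatom_stabilizer_iff_preprimitive G P).mp hcoatom
    have hprim' := o5880_isPreprimitive_range hprim
    have hσΓ : σ ∈ (MulAction.toPermHom G (Sylow 7 G)).range := ⟨d, rfl⟩
    have halt := Cfsg.Agent.S0713.result (MulAction.toPermHom G (Sylow 7 G)).range hprim'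
      (p := 7) (by norm_num) (by rw [hX]; norm_num) (by rw [hX]; norm_num) hc hs hσΓ
    -- orders
    have hA := two_mul_card_alternatingGroup (α := Sylow 7 G)
    rw [Fintype.card_perm, hX] at hA
    have hle1 : Nat.card (alternatingGroup (Sylow 7 G)) ≤ Nat.card (MulAction.toPermHom G (Sylow 7 G)).range :=
      Subgroup.card_le_of_le halt
    have hle2 : Nat.card (MulAction.toPermHom G (Sylow 7 G)).range ≤ Nat.card G :=
      Nat.le_of_dvd Nat.card_pos (Subgroup.card_range_dvd _)
    rw [Nat.card_eq_fintype_card (α := alternatingGroup (Sylow 7 G))] at hle1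
    rw [h] at hle2
    have : (15 : ℕ).factorial = 1307674368000 := by decide
    omega

end Cfsg.Agent.Helper3.SmallOrd
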