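import Mathlib
import Cfsg.Agent.Lib.Helper2.OrthGen
import Cfsg.Agent.Lib.Helper17.OmegaTrans

set_option autoImplicit false
set_option linter.unusedSectionVars false
set_option linter.unusedSimpArgs false

namespace Cfsg.Agent.Helper2.Orth

open QuadraticMap Matrix Cfsg.Agent.Helper17.Spinor

variable {F : Type*} [Field F] [Fintype F] {ι : Type} [Fintype ι] [DecidableEq ι]
  (Q : QuadraticForm F (ι → F))

/-- an isotropic vector in the orthogonal complement of a non-degenerate subspace of
codimension at least three (odd characteristic) -/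
theorem exists_isotropic_orth (h2 : (2 : F) ≠ 0) (hQ : (polarBilin Q).Nondegenerate)
    (Y : Submodule F (ι → F)) (hY : Y ⊓ LinearMap.BilinForm.orthogonal (polarBilin Q) Y = ⊥)
    (hdim : 3 ≤ Module.finrank F ↥(LinearMap.BilinForm.orthogonal (polarBilin Q) Y)) :
    ∃ z ∈ LinearMap.BilinForm.orthogonal (polarBilin Q) Y, z ≠ 0 ∧ Q z = 0 := by
  have hX := orthogonal_inf_orthogonal_orthogonal Q hQ Y hY
  obtain ⟨u, huX, hu⟩ := exists_mem_Q_eq Q h2 (LinearMap.BilinForm.orthogonal (polarBilin Q) Y) hX (by omega) (one_ne_zero)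
  have huY : ∀ y ∈ Y, polar Q y u = 0 := (mem_orthogonal_iff' Q Y u).1 huX
  set Y' := Y ⊔ Submodule.span F {u} with hY'def
  have hY' : Y' ⊓ LinearMap.BilinForm.orthogonal (polarBilin Q) Y' = ⊥ := by
    rw [eq_bot_iff]
    rintro x ⟨hx1, hx2⟩
    rw [SetLike.mem_coe, hY'def, Submodule.mem_sup] at hx1
    obtain ⟨y, hy, w, hw, rfl⟩ := hx1
    obtain ⟨c, rfl⟩ := Submodule.mem_span_singleton.mp hw
    rw [SetLike.mem_coe, mem_orthogonal_iff'] at hx2
    have hy0 : y = 0 := by
      have : y ∈ Y ⊓ LinearMap.BilinForm.orthogonal (polarBilin Q) Y := by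
        refine ⟨hy, ?_⟩
        rw [SetLike.mem_coe, mem_orthogonal_iff']
        intro y' hy'
        have h1 := hx2 y' (Submodule.mem_sup_left hy')
        rw [polar_add_right, polar_smul_right, huY y' hy', smul_zero, add_zero] at h1
        exact h1
      rw [hY] at this
      exact (Submodule.mem_bot F).1 this
    have hc0 : c = 0 := by
      have h1 := hx2 u (Submodule.mem_sup_right (Submodule.mem_span_singleton_self u))
      rw [hy0, zero_add, polar_smul_right, polar_self, hu, smul_eq_mul] at h1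
      have h3 : c * (2 : F) = 0 := by
        have : (2 : ℕ) • (1 : F) = 2 := by norm_num
        rw [this] at h1
        exact h1
      rcases mul_eq_zero.1 h3 with h | h
      · exact h
      · exact absurd h h2
    rw [hy0, hc0, zero_smul, add_zero]
    exact Submodule.zero_mem _
  have hfr := LinearMap.BilinForm.finrank_orthogonal hQ Y
  have hfr' := LinearMap.BilinForm.finrank_orthogonal hQ Y'
  have hle : Module.finrank F ↥Y' ≤ Module.finrank F ↥Y + 1 := by
    rw [hY'def]
    have h1 := Submodule.finrank_add_le_finrank_add_finrank Y (Submodule.span F {u})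
    have h3 : Module.finrank F ↥(Submodule.span F {u}) ≤ 1 := by
      have := finrank_span_le_card (R := F) ({u} : Set (ι → F))
      simpa using this
    omega
  have hYle : Module.finrank F ↥Y ≤ Module.finrank F (ι → F) := Submodule.finrank_le Y
  have hY'le : Module.finrank F ↥Y' ≤ Module.finrank F (ι → F) := Submodule.finrank_le Y'
  have hX' := orthogonal_inf_orthogonal_orthogonal Q hQ Y' hY'
  obtain ⟨w, hwX, hw⟩ := exists_mem_Q_eq Q h2 (LinearMap.BilinForm.orthogonal (polarBilin Q) Y') hX' (by omega)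
    (neg_ne_zero.2 (one_ne_zero : (1 : F) ≠ 0))
  have hwY' : ∀ y ∈ Y', polar Q y w = 0 := (mem_orthogonal_iff' Q Y' w).1 hwX
  have huw : polar Q u w = 0 :=
    hwY' u (Submodule.mem_sup_right (Submodule.mem_span_singleton_self u))
  refine ⟨u + w, ?_, ?_, ?_⟩
  · rw [mem_orthogonal_iff']
    intro y hy
    rw [polar_add_right, huY y hy, hwY' y (Submodule.mem_sup_left hy), add_zero]
  · intro h0
    have hw' : w = -u := eq_neg_of_add_eq_zero_right h0
    rw [hw', polar_neg_right, polar_self, hu] at huw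
    have : (2 : ℕ) • (1 : F) = 2 := by norm_num
    rw [this, neg_eq_zero] at huw
    exact h2 huw
  · rw [Q_add', hu, hw, huw]
    ring

/-- two orthogonal hyperbolic pairs in dimension at least five (odd characteristic) -/
theorem exists_hypFrame_two (h2 : (2 : F) ≠ 0) (hQ : (polarBilin Q).Nondegenerate)
    (hn : 5 ≤ Fintype.card ι) : ∃ e f : Fin 2 → (ι → F), HypFrame Q e f := by
  have hcard : Module.finrank F (ι → F) = Fintype.card ι := Module.finrank_fintype_fun_eq_card F
  -- first pair
  have hbot : (⊥ : Submodule F (ι → F)) ⊓ LinearMap.BilinForm.orthogonal (polarBilin Q) ⊥ = ⊥ :=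
    bot_inf_eq _
  have hfr0 := LinearMap.BilinForm.finrank_orthogonal hQ (⊥ : Submodule F (ι → F))
  rw [finrank_bot] at hfr0
  obtain ⟨e₀, -, he₀0, hQe₀⟩ := exists_isotropic_orth Q h2 hQ ⊥ hbot (by omega)
  obtain ⟨f₀, -, hQf₀, hef₀⟩ := exists_partner Q ⊤ (top_inf_orthogonal_top Q hQ)
    (Submodule.mem_top : e₀ ∈ ⊤) he₀0 hQe₀
  have hfe₀ : polar Q f₀ e₀ = 1 := by rw [polar_comm, hef₀]
  have hee₀ := polar_self_of_singular Q hQe₀
  have hff₀ := polar_self_of_singular Q hQf₀
  -- the hyperbolic plane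
  set Y := Submodule.span F {e₀, f₀} with hYdef
  have he₀Y : e₀ ∈ Y := Submodule.subset_span (Set.mem_insert _ _)
  have hf₀Y : f₀ ∈ Y := Submodule.subset_span (Set.mem_insert_of_mem _ rfl)
  have hY : Y ⊓ LinearMap.BilinForm.orthogonal (polarBilin Q) Y = ⊥ := by
    rw [eq_bot_iff]
    rintro x ⟨hx1, hx2⟩
    rw [SetLike.mem_coe, hYdef, Submodule.mem_span_pair] at hx1
    obtain ⟨α, β, rfl⟩ := hx1
    rw [SetLike.mem_coe, mem_orthogonal_iff'] at hx2
    have h1 := hx2 e₀ he₀Y
    have h3 := hx2 f₀ hf₀Y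
    rw [polar_add_right, polar_smul_right, polar_smul_right, hee₀, hef₀] at h1
    rw [polar_add_right, polar_smul_right, polar_smul_right, hff₀, hfe₀] at h3
    simp only [smul_eq_mul, mul_zero, mul_one, zero_add, add_zero] at h1 h3
    rw [h1, h3, zero_smul, zero_smul, add_zero]
    exact Submodule.zero_mem _
  have hYle : Module.finrank F ↥Y ≤ 2 := by
    rw [hYdef, Submodule.span_insert]
    have h1 := Submodule.finrank_add_le_finrank_add_finrank (Submodule.span F {e₀})
      (Submodule.span F {f₀})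
    have h3 : Module.finrank F ↥(Submodule.span F {e₀}) ≤ 1 := by
      have := finrank_span_le_card (R := F) ({e₀} : Set (ι → F))
      simpa using this
    have h4 : Module.finrank F ↥(Submodule.span F {f₀}) ≤ 1 := by
      have := finrank_span_le_card (R := F) ({f₀} : Set (ι → F))
      simpa using this
    omega
  have hfr := LinearMap.BilinForm.finrank_orthogonal hQ Y
  obtain ⟨e₁, he₁Y, he₁0, hQe₁⟩ := exists_isotropic_orth Q h2 hQ Y hY (by omega)
  have hX := orthogonal_inf_orthogonal_orthogonal Q hQ Y hY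
  obtain ⟨f₁, hf₁Y, hQf₁, hef₁⟩ := exists_partner Q _ hX he₁Y he₁0 hQe₁
  have he₁ := (mem_orthogonal_iff' Q Y e₁).1 he₁Y
  have hf₁ := (mem_orthogonal_iff' Q Y f₁).1 hf₁Y
  have hee₁ := polar_self_of_singular Q hQe₁
  have hff₁ := polar_self_of_singular Q hQf₁
  refine ⟨![e₀, e₁], ![f₀, f₁], ?_⟩
  constructor
  · intro i; fin_cases i <;> simp [hQe₀, hQe₁]
  · intro i; fin_cases i <;> simp [hQf₀, hQf₁]
  · intro i j
    fin_cases i <;> fin_cases j
    · simpa using hee₀
    · simpa using he₁ e₀ he₀Y
    · simp only [Fin.mk_one, Fin.isValue, cons_val_one, cons_val_fin_one, Fin.zero_eta,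
        cons_val_zero]
      rw [polar_comm]
      exact he₁ e₀ he₀Y
    · simpa using hee₁
  · intro i j
    fin_cases i <;> fin_cases j
    · simpa using hff₀
    · simpa using hf₁ f₀ hf₀Y
    · simp only [Fin.mk_one, Fin.isValue, cons_val_one, cons_val_fin_one, Fin.zero_eta,
        cons_val_zero]
      rw [polar_comm]
      exact hf₁ f₀ hf₀Y
    · simpa using hff₁
  · intro i j
    fin_cases i <;> fin_cases j
    · simpa using hef₀
    · simpa using hf₁ e₀ he₀Y
    · simp only [Fin.mk_one, Fin.isValue, cons_val_one, cons_val_fin_one, Fin.zero_eta,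
        cons_val_zero]
      rw [polar_comm]
      simpa using he₁ f₀ hf₀Y
    · simpa using hef₁

end Cfsg.Agent.Helper2.Orth
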