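import Mathlib
import Cfsg.Prelude.Def_Sporadic_a
import Cfsg.Agent.Lib.Helper27.P13Defs
import Cfsg.Agent.Lib.Helper27.WittAut

/-!
# S2916 part (D), piece EMB (for helper27): a group of order 5616 acting faithfully on an
`S(2,4,13)` with a labelling onto the standard plane is isomorphic to `Astd`.
-/

set_option autoImplicit false
set_option linter.unusedVariables false
set_option linter.unusedSectionVars false

namespace Cfsg.Agent.Helper27.P13

open Finset

section Plane

variable {α : Type*} [Fintype α] [DecidableEq α]

/-- The permutation induced by a line-preserving group element is a collineation. -/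
theorem emb_toPerm_mem {H : Type*} [Group H] [MulAction H α]
    (L : Set (Finset α)) (hinv : ∀ h : H, ∀ l ∈ L, l.image (fun a => h • a) ∈ L) (h : H) :
    MulAction.toPerm h ∈ Cfsg.setSystemAut L := by
  rw [Cfsg.Agent.Helper27.Witt.mem_setSystemAut_iff]
  intro b
  constructor
  · intro hb
    have h1 := hinv h⁻¹ _ hb
    have h2 : (b.image (MulAction.toPerm h : Equiv.Perm α)).image (fun a => h⁻¹ • a) = b := by
      rw [Finset.image_image]
      have : ((fun a => h⁻¹ • a) ∘ (MulAction.toPerm h : Equiv.Perm α)) = id := by
        funext a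
        simp
      rw [this, Finset.image_id]
    rw [h2] at h1
    exact h1
  · intro hb
    exact hinv h b hb

/-- The action hom into the collineation group. -/
noncomputable def embHom {H : Type*} [Group H] [MulAction H α]
    (L : Set (Finset α)) (hinv : ∀ h : H, ∀ l ∈ L, l.image (fun a => h • a) ∈ L) :
    H →* Cfsg.setSystemAut L where
  toFun h := ⟨MulAction.toPerm h, emb_toPerm_mem L hinv h⟩
  map_one' := by
    apply Subtype.ext
    ext a
    simp
  map_mul' g g' := by
    apply Subtype.ext
    ext a
    simp [mul_smul]

theorem embHom_injective {H : Type*} [Group H] [MulAction H α] [FaithfulSMul H α]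
    (L : Set (Finset α)) (hinv : ∀ h : H, ∀ l ∈ L, l.image (fun a => h • a) ∈ L) :
    Function.Injective (embHom L hinv) := by
  intro g g' hgg
  apply FaithfulSMul.eq_of_smul_eq_smul (α := α)
  intro a
  have h1 := congrArg (fun x : Cfsg.setSystemAut L => (x : Equiv.Perm α) a) hgg
  simpa [embHom] using h1

theorem equiv_Astd {H : Type*} [Group H] [Finite H] [MulAction H α] [FaithfulSMul H α]
    (L : Set (Finset α)) (hL : Cfsg.IsSteinerSystem 2 4 L) (hα : Fintype.card α = 13)
    (hinv : ∀ h : H, ∀ l ∈ L, l.image (fun a => h • a) ∈ L) (hcard : Nat.card H = 5616)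
    (hlabel : ∃ e : α ≃ Fin 13,
      (fun b : Finset α => b.image e) '' L = (↑std : Set (Finset (Fin 13))))
    (hA : Nat.card Astd ≤ 5616) :
    Nonempty (H ≃* Astd) := by
  obtain ⟨e, he⟩ := hlabel
  let f : H →* Astd :=
    (Cfsg.Agent.Helper27.Witt.autCongr e he).toMonoidHom.comp (embHom L hinv)
  have hf : Function.Injective f := by
    intro g g' hgg
    apply embHom_injective L hinv
    exact (Cfsg.Agent.Helper27.Witt.autCongr e he).injective hgg
  have hle : Nat.card H ≤ Nat.card Astd := Nat.card_le_card_of_injective f hf
  have heq : Nat.card H = Nat.card Astd := le_antisymm hle (by rw [hcard]; exact hA)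
  have hbij : Function.Bijective f := by
    rw [Nat.bijective_iff_injective_and_card]
    exact ⟨hf, heq⟩
  exact ⟨MulEquiv.ofBijective f hbij⟩

end Plane

end Cfsg.Agent.Helper27.P13
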