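import Mathlib
import Cfsg.Prelude.Def_Sporadic_a
import Cfsg.Agent.Lib.Helper27.P13Defs

/-!
# S2916 part (D), piece LABLINES (for helper27): an injective labelling of the 13 points mapping the
six standard sides onto lines is an isomorphism onto the standard plane.
-/

set_option autoImplicit false
set_option linter.unusedVariables false
set_option linter.unusedSectionVars false

namespace Cfsg.Agent.Helper27.P13

open Finset

section Plane

variable {α : Type*} [Fintype α] [DecidableEq α]

theorem lablines_side_mem_std (k : Fin 6) : sideF k ∈ std := by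
  unfold std
  exact Finset.mem_union_left _ (Finset.mem_image_of_mem _ (Finset.mem_univ k))

theorem lablines_rest_mem_std (j : Fin 7) : restF j ∈ std := by
  unfold std
  exact Finset.mem_union_right _ (Finset.mem_image_of_mem _ (Finset.mem_univ j))

theorem label_of_points {L : Set (Finset α)} (hL : Cfsg.IsSteinerSystem 2 4 L)
    (hα : Fintype.card α = 13) (ψ : Fin 13 → α) (hinj : Function.Injective ψ)
    (hs : ∀ k : Fin 6, (sideF k).image ψ ∈ L)
    (hclass : ∀ X : Finset (Fin 13), X.card = 4 →
      (∀ k : Fin 6, (X ∩ sideF k).card = 1) → ∃ j : Fin 7, X = restF j)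
    (hstd : std.card = 13)
    (hcard : ∀ Bf : Finset (Finset α), Cfsg.IsSteinerSystem 2 4 (Bf : Set (Finset α)) → Bf.card = 13)
    (hmeet : ∀ l ∈ L, ∀ m ∈ L, l ≠ m → (l ∩ m).card = 1) :
    ∃ e : α ≃ Fin 13, (∀ i, e (ψ i) = i) ∧
      (fun b : Finset α => b.image e) '' L = (↑std : Set (Finset (Fin 13))) := by
  classical
  have hbij : Function.Bijective ψ := by
    rw [Fintype.bijective_iff_injective_and_card]
    exact ⟨hinj, by rw [hα]; simp⟩
  let e0 : Fin 13 ≃ α := Equiv.ofBijective ψ hbij
  let e : α ≃ Fin 13 := e0.symm
  have heψ : ∀ i, e (ψ i) = i := by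
    intro i
    exact e0.symm_apply_apply i
  have hside : ∀ k : Fin 6, ((sideF k).image ψ).image e = sideF k := by
    intro k
    rw [Finset.image_image]
    have : (⇑e ∘ ψ) = id := by
      funext i
      exact heψ i
    rw [this, Finset.image_id]
  -- the family of lines as a finset
  let Lf : Finset (Finset α) := (Set.toFinite L).toFinset
  have hLf : (Lf : Set (Finset α)) = L := Set.Finite.coe_toFinset _
  have hLfcard : Lf.card = 13 := hcard Lf (by rw [hLf]; exact hL)
  let F : Finset α → Finset (Fin 13) := fun b => b.image e
  have hFinj : Function.Injective F := Finset.image_injective e.injective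
  have hsub : Lf.image F ⊆ std := by
    intro X hX
    rw [Finset.mem_image] at hX
    obtain ⟨l, hl, rfl⟩ := hX
    have hlL : l ∈ L := by
      rw [← hLf]; exact hl
    by_cases hex : ∃ k : Fin 6, l = (sideF k).image ψ
    · obtain ⟨k, rfl⟩ := hex
      show ((sideF k).image ψ).image e ∈ std
      rw [hside k]
      exact lablines_side_mem_std k
    · push Not at hex
      have hX4 : (F l).card = 4 := by
        show (l.image e).card = 4
        rw [Finset.card_image_of_injective _ e.injective]
        exact hL.1 l hlL
      have hXk : ∀ k : Fin 6, (F l ∩ sideF k).card = 1 := by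
        intro k
        have h1 := hmeet l hlL _ (hs k) (hex k)
        have h2 : F l ∩ sideF k = (l ∩ (sideF k).image ψ).image e := by
          rw [Finset.image_inter _ _ e.injective, hside k]
        rw [h2, Finset.card_image_of_injective _ e.injective]
        exact h1
      obtain ⟨j, hj⟩ := hclass (F l) hX4 hXk
      rw [hj]
      exact lablines_rest_mem_std j
  have hcardimg : (Lf.image F).card = 13 := by
    rw [Finset.card_image_of_injective _ hFinj]
    exact hLfcard
  have heq : Lf.image F = std :=
    Finset.eq_of_subset_of_card_le hsub (by rw [hstd, hcardimg])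
  refine ⟨e, heψ, ?_⟩
  rw [← heq, Finset.coe_image, hLf]

end Plane

end Cfsg.Agent.Helper27.P13
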