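import Mathlib
import Cfsg.Agent.Lib.Helper2.Psu21
import Cfsg.Agent.Lib.Helper28.PADefs
import Cfsg.Agent.Lib.Helper26.PARANK1

/-! # S4613 piece PA-PSU, core (helper2): a `p'`-automorphism of `SU/Z` fixing a Sylow
`p`-subgroup pointwise is trivial, via the normal form `Psu20.exists_stdAutQ`. -/

set_option autoImplicit false
set_option linter.unusedSimpArgs false
set_option linter.unusedVariables false

namespace Cfsg.Agent.Helper2.PU

open Matrix Cfsg.Agent.Helper11 Cfsg.Agent.Helper11.Herm Cfsg.Agent.Helper28.PA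

section general

variable {F : Type*} [Field F] [Finite F] {ι : Type*} [Fintype ι] [DecidableEq ι] {φ : F →+* F}
  (H : HypU φ ι) (p : ℕ) [Fact p.Prime] [CharP F p]
  (hcomm : ∀ (σ : F ≃+* F) (x : F), σ (φ x) = φ (σ x))
  {e f : ι → F} (he : hdot φ e e = 0)
  (hf : hdot φ f f = 0) (hef : hdot φ e f = 1) (hfe : hdot φ f e = 1)

include H p he hf hef hfe in
/-- a standard automorphism fixing the image of `Qg e` pointwise fixes `Qg e` pointwise -/
theorem papsu_fix_lift {g : Matrix ι ι F} (hg : IsU φ g) (σ : F ≃+* F)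
    (hfix : ∀ y ∈ Qb φ e, stdAutQ g hg σ (hcomm σ) y = y) (x : SUg ι φ) (hx : x ∈ Qg φ e) :
    stdHom g hg σ (hcomm σ) x = x := by
  have : Nonempty ι := by
    have := H.hcard
    exact Fintype.card_pos_iff.1 (by omega)
  have h1 : mkq φ (stdHom g hg σ (hcomm σ) x) = mkq φ x := by
    rw [← stdAutQ_mk]
    exact hfix _ (Subgroup.mem_map_of_mem _ hx)
  have hx2 : x ^ (p ^ 2) = 1 := pow_eq_one_of_mem_Qg φ p hx
  have hs2 : (stdHom g hg σ (hcomm σ) x) ^ (p ^ 2) = 1 := by rw [← map_pow, hx2, map_one]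
  exact mkq_inj_of_pow H p he hf hef hfe hs2 hx2 h1

include H p he hf hef hfe in
/-- the semilinear map of a standard automorphism fixing `Qg e` pointwise commutes with `Qg e` -/
theorem papsu_comm {g : Matrix ι ι F} (hg : IsU φ g) (σ : F ≃+* F)
    (hfix : ∀ y ∈ Qb φ e, stdAutQ g hg σ (hcomm σ) y = y) (x : SUg ι φ) (hx : x ∈ Qg φ e)
    (y : ι → F) : x • semiMap g σ y = semiMap g σ (x • y) := by
  have := stdHom_smul_semiMap g hg σ (hcomm σ) x y
  rwa [papsu_fix_lift H p hcomm he hf hef hfe hg σ hfix x hx] at this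

include H p he hf hef hfe in
/-- ... hence it is linear -/
theorem papsu_sigma {g : Matrix ι ι F} (hg : IsU φ g) (σ : F ≃+* F)
    (hfix : ∀ y ∈ Qb φ e, stdAutQ g hg σ (hcomm σ) y = y) : σ = 1 := by
  have hφφ := H.hφφ
  have he0 : e ≠ 0 := by
    rintro rfl
    rw [hdot_zero_left] at hef
    exact zero_ne_one hef
  have hB := papsu_comm H p hcomm he hf hef hfe hg σ hfix
  -- T e = a • e
  obtain ⟨a, ha⟩ : ∃ a, semiMap g σ e = a • e := by
    apply eq_smul_of_fixed H.toHyp he0 he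
    intro x hx
    rw [hB x hx, hx.1]
  obtain ⟨m, hm⟩ : ∃ m, m = hdot φ (semiMap g σ f) e := ⟨_, rfl⟩
  -- m ≠ 0
  have hm0 : m ≠ 0 := by
    have h1 := semiMap_hdot hg σ (hcomm σ) f e
    rw [ha, hdot_smul_right, ← hm, hfe, map_one] at h1
    intro h0
    rw [h0, mul_zero] at h1
    exact zero_ne_one h1
  -- T w = m • w + c • e for w ⊥ e
  have hD : ∀ w, hdot φ w e = 0 → ∃ c : F, semiMap g σ w = m • w + c • e := by
    intro w hwe
    obtain ⟨s, hs⟩ := H.toHyp.exists_siegel_param w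
    have h1 := hB _ (sgG_mem_Qg φ hφφ he hwe hs) f
    rw [sgG_smul φ hφφ he hwe hs, sgG_smul φ hφφ he hwe hs, hfe, ← hm, semiMap_add, semiMap_add,
      semiMap_smul, semiMap_smul, ha, map_one, one_smul] at h1
    refine ⟨s * m - hdot φ (semiMap g σ f) w - σ (s * 1 - hdot φ f w) * a, ?_⟩
    have h2 : semiMap g σ w = (semiMap g σ f + m • w + (s * m - hdot φ (semiMap g σ f) w) • e) -
        semiMap g σ f - σ (s * 1 - hdot φ f w) • a • e := by
      rw [h1]; abel
    rw [h2]
    module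
  -- a vector of e^⊥ outside the line of e
  obtain ⟨d, ⟨hde, hdf⟩, hdd, hd0⟩ := exists_inW_ne_zero H.toHyp he hf hef
  have hed : hdot φ e d = 0 := hdot_eq_zero_symm φ hφφ _ _ hde
  obtain ⟨c1, hc1⟩ := hD d hde
  apply RingEquiv.ext
  intro c
  have hcd : hdot φ (c • d) e = 0 := by rw [hdot_smul_left, hde, mul_zero]
  obtain ⟨c2, hc2⟩ := hD (c • d) hcd
  rw [semiMap_smul, hc1] at hc2
  have h3 := congrArg (fun v => hdot φ v d) hc2
  simp only [hdot_add_left, hdot_smul_left, hdd, hed, mul_one, mul_zero, add_zero] at h3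
  -- h3 : σ c * m = m * c
  have h4 : m * (σ c - c) = 0 := by linear_combination h3
  rcases mul_eq_zero.1 h4 with h | h
  · exact absurd h hm0
  · exact sub_eq_zero.1 h

include H p he hf hef hfe in
/-- a standard automorphism of `p'`-order fixing the image of `Qg e` pointwise is trivial -/
theorem papsu_main {g : Matrix ι ι F} (hg : IsU φ g) (σ : F ≃+* F)
    (hnp : ¬ p ∣ orderOf (stdAutQ g hg σ (hcomm σ)))
    (hfix : ∀ y ∈ Qb φ e, stdAutQ g hg σ (hcomm σ) y = y) : stdAutQ g hg σ (hcomm σ) = 1 := by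
  have hσ := papsu_sigma H p hcomm he hf hef hfe hg σ hfix
  subst hσ
  have hφφ := H.hφφ
  have he0 : e ≠ 0 := by
    rintro rfl
    rw [hdot_zero_left] at hef
    exact zero_ne_one hef
  have : Nonempty ι := by
    have := H.hcard
    exact Fintype.card_pos_iff.1 (by omega)
  -- `g` commutes with `Qg e`
  have hc : ∀ x ∈ Qg φ e, g * smat φ x = smat φ x * g := by
    intro x hx
    have h1 := stdHom_spec g hg 1 (hcomm 1) x
    rw [papsu_fix_lift H p hcomm he hf hef hfe hg 1 hfix x hx, map_one_ringAut] at h1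
    exact h1.symm
  obtain ⟨l, c, hl, hc0, hgl⟩ := centralizer_Qg H.toHyp he0 he hg hc
  have htv : tv φ e c = smat φ (tvG φ e c) := (smat_tvG φ hφφ he hc0).symm
  have hU' : IsU φ (l • smat φ (tvG φ e c)) := by rw [← htv, ← hgl]; exact hg
  have h2 : stdAutQ g hg 1 (hcomm 1) = MulAut.conj (mkq φ (tvG φ e c)) := by
    rw [← stdAutQ_smat hcomm (tvG φ e c), ← stdAutQ_smul hcomm (smat_isU φ (tvG φ e c)) l hU' 1]
    exact stdAutQ_congr hcomm hg hU' (by rw [hgl, htv]) rfl
  have hu : (mkq φ (tvG φ e c)) ^ (p ^ 2) = 1 := by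
    rw [← map_pow, pow_eq_one_of_mem_Qg φ p (tvG_mem_Qg φ hφφ he hc0), map_one]
  have hpow : (stdAutQ g hg 1 (hcomm 1)) ^ (p ^ 2) = 1 := by
    rw [h2, ← map_pow, hu, map_one]
  have hdvd : orderOf (stdAutQ g hg 1 (hcomm 1)) ∣ p ^ 2 := orderOf_dvd_of_pow_eq_one hpow
  have hcop : Nat.Coprime (p ^ 2) (orderOf (stdAutQ g hg 1 (hcomm 1))) :=
    Nat.Coprime.pow_left 2 ((Nat.Prime.coprime_iff_not_dvd (Fact.out : p.Prime)).2 hnp)
  have h1 : orderOf (stdAutQ g hg 1 (hcomm 1)) = 1 := Nat.Coprime.eq_one_of_dvd hcop.symm hdvd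
  exact orderOf_eq_one_iff.1 h1

include H hcomm in
/-- **S4613 for the projective special unitary groups**, general form -/
theorem papsu_general : NoPAut p (PGq φ ι) := by
  obtain ⟨e, he0, he⟩ := exists_isotropic φ H.hN1 H.hcard
  obtain ⟨f, hf, hef, hfe⟩ := H.toHyp.exists_partner he0 he
  have : Nonempty ι := by
    have := H.hcard
    exact Fintype.card_pos_iff.1 (by omega)
  have : Finite (PGq φ ι) := inferInstance
  refine rank1_reduce p (Qb φ e) ?_ ?_
  · exact (isPGroup_Qg φ p e).map (mkq φ)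
  · intro β hβ hfix
    obtain ⟨σ, g, hg, rfl⟩ := exists_stdAutQ H p hcomm β
    exact papsu_main H p hcomm he hf hef hfe hg σ hβ hfix

include H hcomm in
theorem papsu_subgroup (S : Subgroup (Matrix.SpecialLinearGroup ι F)) (hS : S = SUg ι φ) :
    NoPAut p (S ⧸ Subgroup.center S) := by
  subst hS
  exact papsu_general H p hcomm

end general

end Cfsg.Agent.Helper2.PU
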