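import Mathlib
import Cfsg.Prelude.Def_LieTypeChar
import Cfsg.Agent.Lib.Helper28.PAQuot
import Cfsg.Agent.Lib.Helper2.PAPSUCore

/-! # S4613 family piece PA-PSU (helper2 for helper28): the projective special unitary groups. -/

set_option autoImplicit false

namespace Cfsg.Agent.Helper28.PA

open Cfsg Cfsg.Lie
open Matrix Cfsg.Agent.Helper11 Cfsg.Agent.Helper11.Herm Cfsg.Agent.Helper2.PU

section families
variable {F : Type*} [Field F] [Fintype F] (p : ℕ) [Fact p.Prime] [CharP F p]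

/-- FAMILY PA-PSU -/
theorem noPAut_PSU (n q : ℕ) (hF : Fintype.card F = q ^ 2) (hn : 3 ≤ n) (h32 : ¬ (n = 3 ∧ q = 2)) :
    NoPAut p (PSU n F q) := by
  classical
  obtain ⟨φ', hφ'⟩ := exists_frob hF
  have H := hypU_of_card hF φ' hφ' hn h32
  have hSU : Cfsg.SU n F q = SUg (Fin n) φ' := by
    ext g
    rw [mem_SU_iff_isU φ' hφ', mem_SUg_iff]
  exact papsu_subgroup H p (frob_comm φ' hφ') _ hSU

end families

end Cfsg.Agent.Helper28.PA
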