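import Mathlib
import Cfsg.Prelude.Def_Blocks
import Cfsg.Prelude.Def_CharExt
import Cfsg.Agent.Lib.Helper24.CharLinear
import Cfsg.Agent.Lib.Helper24.DetTrace
import Cfsg.Agent.Lib.Helper24.GlaubPGroup
import Cfsg.Agent.Lib.Helper23.BlockLocal
import Cfsg.Agent.Lib.Helper5.DetChar

/-!
# Principal block, small faithful degree: the centralizer of a Sylow `p`-subgroup (helper2)

For `χ` in the principal `p`-block and `x ∈ C_G(P)` the central character congruence gives
`χ x / χ 1 ≡ 1`.  For a `p`-regular `v ∈ C_G(P)` this forces all eigenvalue multiplicities of `v`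
other than that of `1` to be divisible by `p`; with `χ 1 < 2p` and `det = 1` (perfect group) the
element `v` lies in the kernel of `χ`.
-/

set_option autoImplicit false
set_option linter.unusedSectionVars false
set_option linter.unusedVariables false
set_option linter.style.haveILetI false

namespace Cfsg.Agent.Helper2.PBC

open Cfsg Cfsg.Agent.Helper24 Cfsg.Agent.Helper24.DetTrace Cfsg.Agent.Helper23.Blk Module

universe u

section LinAlg

/-- Part A: linear algebra. -/
theorem trace_eq_of_det_eq_one {n : ℕ} (A : (Fin n → ℂ) →ₗ[ℂ] (Fin n → ℂ)) {m p : ℕ}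
    (hm : 0 < m) (hp : p.Prime) (hpm : ¬ p ∣ m) (hA : A ^ m = 1) (hn : n < 2 * p)
    (hdet : LinearMap.det A = 1) {ω : ℂ} (hω : IsPrimitiveRoot ω m)
    (hdiv : ∀ j, 0 < j → j < m →
      p ∣ finrank ℂ (LinearMap.range (specIdem A m (ω ^ j)))) :
    LinearMap.trace ℂ (Fin n → ℂ) A = n := by
  classical
  set a : ℕ → ℕ := fun j => finrank ℂ (LinearMap.range (specIdem A m (ω ^ j))) with ha
  have hroot : ∀ j : ℕ, (ω ^ j) ^ m = 1 := by
    intro j
    rw [← pow_mul, mul_comm, pow_mul, hω.pow_eq_one, one_pow]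
  have htrj : ∀ j, LinearMap.trace ℂ (Fin n → ℂ) (specIdem A m (ω ^ j)) = (a j : ℂ) :=
    fun j => (LinearMap.IsIdempotentElem.isProj_range _
      (isIdempotentElem_specIdem A hm hA (hroot j))).trace
  -- the multiplicities add up to `n`
  have hsum : ∑ j ∈ Finset.range m, a j = n := by
    have h1 : ((∑ j ∈ Finset.range m, a j : ℕ) : ℂ) = (n : ℂ) := by
      push_cast
      rw [← Finset.sum_congr rfl (fun j _ => htrj j), ← map_sum, sum_specIdem A hm hω,
        LinearMap.trace_one]
      simp
    exact_mod_cast h1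
  -- the trace
  have htr : LinearMap.trace ℂ (Fin n → ℂ) A = ∑ j ∈ Finset.range m, ω ^ j * (a j : ℂ) := by
    conv_lhs => rw [eq_sum_smul_specIdem A hm hA hω]
    rw [map_sum]
    apply Finset.sum_congr rfl
    intro j _
    rw [map_smul, smul_eq_mul, htrj j]
  -- the determinant
  have hprod : ∏ j ∈ Finset.range m, (ω ^ j) ^ a j = 1 := by
    rw [← det_eq_prod_specIdem A hm hA hω, hdet]
  have h0m : 0 ∈ Finset.range m := Finset.mem_range.mpr hm
  by_cases hex : ∃ j, 0 < j ∧ j < m ∧ a j ≠ 0
  · exfalso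
    obtain ⟨j₀, hj0, hjm, haj⟩ := hex
    have hj₀m : j₀ ∈ Finset.range m := Finset.mem_range.mpr hjm
    obtain ⟨c, hc⟩ := hdiv j₀ hj0 hjm
    have hle : a j₀ ≤ n := by
      rw [← hsum]
      exact Finset.single_le_sum (f := a) (fun _ _ => Nat.zero_le _) hj₀m
    have hc1 : c = 1 := by
      have hc0 : c ≠ 0 := by
        rintro rfl
        apply haj
        show finrank ℂ (LinearMap.range (specIdem A m (ω ^ j₀))) = 0
        rw [hc, mul_zero]
      have h2 : a j₀ = p * c := hc
      have hp0 := hp.pos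
      by_contra hne
      have h3 : 2 ≤ c := by omega
      have h4 : p * 2 ≤ p * c := Nat.mul_le_mul_left p h3
      omega
    have haj₀ : a j₀ = p := by
      have h2 : a j₀ = p * c := hc
      rw [h2, hc1, mul_one]
    -- all the others vanish
    have hothers : ∀ j, 0 < j → j < m → j ≠ j₀ → a j = 0 := by
      intro j hj0' hjm' hne
      by_contra hne0
      obtain ⟨c', hc'⟩ := hdiv j hj0' hjm'
      have h2 : a j = p * c' := hc'
      have hc'0 : c' ≠ 0 := by
        rintro rfl
        apply hne0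
        rw [h2, mul_zero]
      have h3 : p ≤ a j := by
        rw [h2]
        exact Nat.le_mul_of_pos_right p (Nat.pos_of_ne_zero hc'0)
      have hjm'' : j ∈ Finset.range m := Finset.mem_range.mpr hjm'
      have hsub : ({j, j₀} : Finset ℕ) ⊆ Finset.range m := by
        intro x hx
        rcases Finset.mem_insert.mp hx with rfl | hx
        · exact hjm''
        · rw [Finset.mem_singleton] at hx
          rw [hx]
          exact hj₀m
      have h4 : ∑ i ∈ ({j, j₀} : Finset ℕ), a i ≤ ∑ i ∈ Finset.range m, a i :=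
        Finset.sum_le_sum_of_subset hsub
      rw [Finset.sum_pair hne, hsum, haj₀] at h4
      omega
    have hprod' : ∏ j ∈ Finset.range m, (ω ^ j) ^ a j = (ω ^ j₀) ^ a j₀ := by
      apply Finset.prod_eq_single j₀
      · intro j hj hne
        rcases Nat.eq_zero_or_pos j with rfl | hjpos
        · rw [pow_zero, one_pow]
        · rw [hothers j hjpos (Finset.mem_range.mp hj) hne, pow_zero]
      · intro h
        exact absurd hj₀m h
    rw [hprod', haj₀, ← pow_mul] at hprod
    have hdvd : m ∣ j₀ * p := (hω.pow_eq_one_iff_dvd _).mp hprod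
    have hcop : Nat.Coprime m p := ((Nat.Prime.coprime_iff_not_dvd hp).mpr hpm).symm
    have hdvd' : m ∣ j₀ := hcop.dvd_of_dvd_mul_right hdvd
    have := Nat.le_of_dvd hj0 hdvd'
    omega
  · push Not at hex
    have hz : ∀ j ∈ Finset.range m, j ≠ 0 → a j = 0 := by
      intro j hj hne
      exact hex j (Nat.pos_of_ne_zero hne) (Finset.mem_range.mp hj)
    have h1 : ∑ j ∈ Finset.range m, a j = a 0 := by
      apply Finset.sum_eq_single 0
      · intro j hj hne
        exact hz j hj hne
      · intro h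
        exact absurd h0m h
    rw [htr, Finset.sum_eq_single 0]
    · rw [pow_zero, one_mul, ← hsum, h1]
    · intro j hj hne
      rw [hz j hj hne, Nat.cast_zero, mul_zero]
    · intro h
      exact absurd h0m h

end LinAlg

section Block

variable {G : Type u} [Group G] [Finite G] {p : ℕ} [hp : Fact p.Prime] {M : Ideal AlgInt}

/-- Part B: the central character congruence on `C_G(P)` for a member of the principal block. -/
theorem memLocalIdeal_one_sub_div (hM : IsPModular p M) (P : Sylow p G) (χ : IrrCharacter G)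
    (hχ : χ ∈ principalBlock M G) {x : G}
    (hx : x ∈ Subgroup.centralizer ((P : Subgroup G) : Set G)) :
    MemLocalIdeal M (1 - (χ : G → ℂ) x / (χ : G → ℂ) 1) := by
  haveI := isPrime_of_isPModular hM
  have h := hχ x
  unfold centralChar at h
  have hle : (P : Subgroup G) ≤ Subgroup.centralizer ({x} : Set G) := by
    intro y hy
    rw [Subgroup.mem_centralizer_iff]
    intro h' hh'
    rw [Set.mem_singleton_iff] at hh'
    subst hh'
    exact ((Subgroup.mem_centralizer_iff.mp hx) y hy).symm
  have hidx : ¬ p ∣ (Subgroup.centralizer ({x} : Set G)).index := by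
    intro hd
    exact P.not_dvd_index (hd.trans (Subgroup.index_dvd_of_le hle))
  have e : (1 : ℂ) - (χ : G → ℂ) x / (χ : G → ℂ) 1 =
      (((Subgroup.centralizer ({x} : Set G)).index : ℕ) : ℂ)⁻¹ *
        (((Subgroup.centralizer ({x} : Set G)).index : ℂ) * 1 / 1 -
          ((Subgroup.centralizer ({x} : Set G)).index : ℂ) * (χ : G → ℂ) x / (χ : G → ℂ) 1) := by
    have h0 : (((Subgroup.centralizer ({x} : Set G)).index : ℕ) : ℂ) ≠ 0 := by
      have : (Subgroup.centralizer ({x} : Set G)).index ≠ 0 := Subgroup.index_ne_zero_of_finite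
      exact_mod_cast this
    field_simp
  rw [e]
  exact memLocalIdeal_mul_left (Cfsg.Agent.Helper24.Glaub.memLocalRing_inv_natCast hM hidx) h

/-- Part C: a `p`-regular element of `C_G(P)` lies in the kernel. -/
theorem eq_one_of_mem_centralizer (hM : IsPModular p M) (hperf : commutator G = ⊤)
    (P : Sylow p G) (χ : IrrCharacter G) (hχ : χ ∈ principalBlock M G)
    (hfaith : ∀ g : G, (χ : G → ℂ) g = (χ : G → ℂ) 1 → g = 1)
    (hdeg : charDegree (χ : G → ℂ) < 2 * p) {v : G}
    (hv : v ∈ Subgroup.centralizer ((P : Subgroup G) : Set G)) (hvp : ¬ p ∣ orderOf v) :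
    v = 1 := by
  classical
  haveI := isPrime_of_isPModular hM
  have hpp : p.Prime := hp.out
  have hc : IsCharacter G (χ : G → ℂ) := isCharacter_of_isIrrCharacter χ.2
  obtain ⟨n, R, hR, hdetR⟩ := Cfsg.Agent.Helper5.exists_rep_detChar hc
  have hval : ∀ g : G, (χ : G → ℂ) g = LinearMap.trace ℂ (Fin n → ℂ) (R g) := by
    intro g
    rw [← hR]
    rfl
  have hχ1 : (χ : G → ℂ) 1 = (n : ℂ) := by
    rw [hval 1, map_one, LinearMap.trace_one]
    simp
  have hdegn : charDegree (χ : G → ℂ) = n := by
    unfold charDegree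
    rw [hχ1]
    simp
  have hn0 : n ≠ 0 := by
    have := charDegree_pos χ.2
    omega
  have hnC : (n : ℂ) ≠ 0 := by exact_mod_cast hn0
  -- the determinant is trivial
  have hdet1 : LinearMap.det (R v) = 1 := by
    rw [← hdetR v]
    have hker : (Cfsg.Agent.Helper5.detHom hc).ker = ⊤ := by
      apply top_le_iff.mp
      rw [← hperf]
      exact Abelianization.commutator_subset_ker _
    have hvk : v ∈ (Cfsg.Agent.Helper5.detHom hc).ker := by rw [hker]; exact Subgroup.mem_top v
    have h1 := MonoidHom.mem_ker.mp hvk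
    have h2 := congrArg (fun u : ℂˣ => (u : ℂ)) h1
    simpa using h2
  set m := orderOf v with hm
  have hm0 : 0 < m := orderOf_pos v
  have hA : (R v) ^ m = 1 := by
    rw [← map_pow, hm, pow_orderOf_eq_one, map_one]
  have hω := Complex.isPrimitiveRoot_exp m hm0.ne'
  set ω := Complex.exp (2 * Real.pi * Complex.I / m) with hωdef
  -- the congruences
  have hz : ∀ i : ℕ, MemLocalIdeal M (1 - (χ : G → ℂ) (v ^ i) / (χ : G → ℂ) 1) := by
    intro i
    exact memLocalIdeal_one_sub_div hM P χ hχ (Subgroup.pow_mem _ hv i)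
  have hmM : MemLocalRing M ((m : ℂ)⁻¹) := Cfsg.Agent.Helper24.Glaub.memLocalRing_inv_natCast hM hvp
  have hdiv : ∀ j, 0 < j → j < m →
      p ∣ finrank ℂ (LinearMap.range (specIdem (R v) m (ω ^ j))) := by
    intro j hj0 hjm
    have hroot : (ω ^ j) ^ m = 1 := by
      rw [← pow_mul, mul_comm, pow_mul, hω.pow_eq_one, one_pow]
    have hne1 : ω ^ j ≠ 1 := by
      intro h
      have := (hω.pow_eq_one_iff_dvd j).mp h
      have := Nat.le_of_dvd hj0 this
      omega
    set r : ℂ := (ω ^ j)⁻¹ with hr
    have hrm : r ^ m = 1 := by rw [hr, inv_pow, hroot, inv_one]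
    have hr1 : r ≠ 1 := by
      intro h
      apply hne1
      rw [hr, inv_eq_one] at h
      exact h
    have hrM : ∀ i : ℕ, MemLocalRing M (r ^ i) := by
      intro i
      apply memLocalRing_of_isIntegral _ (ne_top (M := M))
      apply IsIntegral.pow
      apply IsIntegral.of_pow hm0
      rw [hrm]
      exact isIntegral_one
    have e1 := finrank_range_specIdem (R v) hm0 hA hroot
    rw [← memLocalIdeal_natCast_iff hM, e1]
    have e2 : ∑ i ∈ Finset.range m, r ^ i * LinearMap.trace ℂ (Fin n → ℂ) ((R v) ^ i) =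
        - ((n : ℂ) * ∑ i ∈ Finset.range m,
          r ^ i * (1 - (χ : G → ℂ) (v ^ i) / (χ : G → ℂ) 1)) := by
      have e3 : ∀ i ∈ Finset.range m, r ^ i * LinearMap.trace ℂ (Fin n → ℂ) ((R v) ^ i) =
          (n : ℂ) * r ^ i - (n : ℂ) * (r ^ i * (1 - (χ : G → ℂ) (v ^ i) / (χ : G → ℂ) 1)) := by
        intro i _
        rw [← map_pow, ← hval (v ^ i), hχ1]
        field_simp
        ring
      rw [Finset.sum_congr rfl e3, Finset.sum_sub_distrib, ← Finset.mul_sum, ← Finset.mul_sum,
        geom_sum_root hrm hr1, mul_zero, zero_sub]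
    rw [e2]
    apply memLocalIdeal_mul_left hmM
    apply memLocalIdeal_neg
    apply memLocalIdeal_mul_left (memLocalRing_natCast n)
    apply memLocalIdeal_sum
    intro i _
    exact memLocalIdeal_mul_left (hrM i) (hz i)
  have htrace := trace_eq_of_det_eq_one (R v) hm0 hpp hvp hA (by omega) hdet1 hω hdiv
  apply hfaith
  rw [hval v, htrace, hχ1]

/-- the centralizer of a Sylow `p`-subgroup is a `p`-group -/
theorem isPGroup_centralizer (hM : IsPModular p M) (hperf : commutator G = ⊤)
    (P : Sylow p G) (χ : IrrCharacter G) (hχ : χ ∈ principalBlock M G)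
    (hfaith : ∀ g : G, (χ : G → ℂ) g = (χ : G → ℂ) 1 → g = 1)
    (hdeg : charDegree (χ : G → ℂ) < 2 * p) :
    IsPGroup p ↥(Subgroup.centralizer ((P : Subgroup G) : Set G)) := by
  have hpp : p.Prime := hp.out
  intro g
  obtain ⟨k, m, hpm, hkm⟩ := Nat.exists_eq_pow_mul_and_not_dvd (orderOf_pos (g : G)).ne' p
    hpp.ne_one
  refine ⟨k, ?_⟩
  apply Subtype.ext
  rw [Subgroup.coe_pow, Subgroup.coe_one]
  apply eq_one_of_mem_centralizer hM hperf P χ hχ hfaith hdeg (Subgroup.pow_mem _ g.2 _)
  rw [orderOf_pow' (g : G) (pow_ne_zero k hpp.ne_zero), hkm, Nat.gcd_eq_right (Dvd.intro _ rfl),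
    Nat.mul_div_cancel_left m (pow_pos hpp.pos k)]
  exact hpm

end Block

end Cfsg.Agent.Helper2.PBC
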