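import Mathlib
import Cfsg.Agent.Lib.Helper2.Plb7
import Cfsg.Agent.Lib.Helper2.Pgeo11
import Cfsg.Agent.Lib.Helper2.Psln26

set_option autoImplicit false
set_option linter.unusedSimpArgs false
set_option linter.unusedVariables false
set_option linter.unusedSectionVars false

/-! Local balance for the linear groups, part 8: automorphisms of graph type and the
sesquilinear forms attached to the involutions among them. -/

namespace Cfsg.Agent.Helper2.PLB

open Matrix Matrix.SpecialLinearGroup Cfsg.Agent.Helper2.PN Cfsg.Agent.Helper2.SpA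
  Cfsg.Agent.Helper2.PGeo
open scoped MatrixGroups

section graph

variable {n : ℕ} {F : Type*} [Field F]

/-- the automorphisms of graph type -/
noncomputable def gb (g₀ : GL (Fin n) F) (σ : RingAut F) :
    MulAut (Matrix.ProjectiveSpecialLinearGroup (Fin n) F) :=
  Psi g₀ * (phiF σ * tauAut)

theorem gb_mul_Psi (g₀ g : GL (Fin n) F) (σ : RingAut F) :
    gb g₀ σ * Psi g = Psi (g₀ * starHom σ g) * (phiF σ * tauAut) := by
  unfold gb
  rw [mul_assoc, x0_mul_Psi, ← mul_assoc, ← map_mul]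

theorem Psi_mul_gb (g₀ g : GL (Fin n) F) (σ : RingAut F) :
    Psi g * gb g₀ σ = Psi (g * g₀) * (phiF σ * tauAut) := by
  unfold gb
  rw [← mul_assoc, ← map_mul]

theorem x0_mul_x0 (σ : RingAut F) :
    (phiF (ι := Fin n) σ * tauAut) * (phiF σ * tauAut) = phiF (σ * σ) := by
  have h1 := tau_mul_phiF (ι := Fin n) σ
  calc phiF (ι := Fin n) σ * tauAut * (phiF σ * tauAut)
      = phiF σ * (tauAut * phiF σ) * tauAut := by group
    _ = phiF σ * (phiF σ * tauAut) * tauAut := by rw [h1]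
    _ = phiF σ * phiF σ * (tauAut * tauAut) := by group
    _ = phiF (σ * σ) := by rw [tauAut_mul_self, mul_one, map_mul]

theorem gb_mul_gb (g₀ : GL (Fin n) F) (σ : RingAut F) :
    gb g₀ σ * gb g₀ σ = Psi (g₀ * starHom σ g₀) * phiF (σ * σ) := by
  have h1 : gb g₀ σ * gb g₀ σ = (gb g₀ σ * Psi g₀) * (phiF σ * tauAut) := by
    conv_lhs => rw [gb]
    conv_rhs => rw [gb]
    group
  rw [h1, gb_mul_Psi, mul_assoc, x0_mul_x0]

theorem scalar_coe_smul (u : Fˣ) :
    ((Matrix.GeneralLinearGroup.scalar (Fin n) u : GL (Fin n) F) : Matrix (Fin n) (Fin n) F) =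
      (u : F) • (1 : Matrix (Fin n) (Fin n) F) := by
  rw [Matrix.GeneralLinearGroup.coe_scalar, Matrix.smul_one_eq_diagonal]
  rfl

/-- the matrix of the form attached to an involution of graph type is `ε`-hermitian -/
theorem transpose_eq_of_star (g₀ : GL (Fin n) F) (σ : RingAut F) (l : Fˣ)
    (hl : Matrix.GeneralLinearGroup.scalar (Fin n) l = g₀ * starHom σ g₀) :
    (((g₀⁻¹ : GL (Fin n) F) : Matrix (Fin n) (Fin n) F))ᵀ =
      ((l⁻¹ : Fˣ) : F) • ((g₀⁻¹ : GL (Fin n) F) : Matrix (Fin n) (Fin n) F).map σ := by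
  have h1 : g₀⁻¹ = starHom σ g₀ * Matrix.GeneralLinearGroup.scalar (Fin n) l⁻¹ := by
    rw [map_inv, hl]
    group
  have h2 : ((g₀⁻¹ : GL (Fin n) F) : Matrix (Fin n) (Fin n) F) =
      ((l⁻¹ : Fˣ) : F) • (((g₀⁻¹ : GL (Fin n) F) : Matrix (Fin n) (Fin n) F)ᵀ).map σ := by
    conv_lhs => rw [h1]
    rw [Units.val_mul, scalar_coe_smul, Matrix.mul_smul, Matrix.mul_one, starHom_apply,
      fieldGLHom_coe', gT_coe]
  conv_lhs => rw [h2]
  rw [Matrix.transpose_smul, Matrix.transpose_map, Matrix.transpose_transpose]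

variable (p : ℕ) [CharP F p] [Fact p.Prime]

include p in
theorem of_gb_sq (hn : 2 ≤ n) (g₀ : GL (Fin n) F) (σ : RingAut F) (h : gb g₀ σ * gb g₀ σ = 1) :
    σ * σ = 1 ∧ ∃ l : Fˣ, Matrix.GeneralLinearGroup.scalar (Fin n) l = g₀ * starHom σ g₀ := by
  have hnt : Nontrivial (Fin n) := Fin.nontrivial_iff_two_le.mpr hn
  rw [gb_mul_gb] at h
  have h1 : Psi (g₀ * starHom σ g₀) * phiF (ι := Fin n) (σ * σ) = Psi 1 * phiF 1 := by
    rw [h, map_one, map_one, mul_one]
  obtain ⟨h2, h3⟩ := eq_of_Psi_mul_phiF_eq p h1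
  refine ⟨h2, ?_⟩
  rw [inv_one, one_mul, Matrix.GeneralLinearGroup.center_eq_range_scalar] at h3
  exact h3

include p in
/-- an inner-diagonal automorphism commutes with an automorphism of graph type if and only if
its matrix is a similitude of the form -/
theorem comm_iff_matrix (hn : 2 ≤ n) (g₀ g : GL (Fin n) F) (σ : RingAut F) :
    Psi g * gb g₀ σ = gb g₀ σ * Psi g ↔ ∃ c : Fˣ,
      ((g : Matrix (Fin n) (Fin n) F).map σ)ᵀ * ((g₀⁻¹ : GL (Fin n) F) : Matrix (Fin n) (Fin n) F) *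
        (g : Matrix (Fin n) (Fin n) F) =
      (c : F) • ((g₀⁻¹ : GL (Fin n) F) : Matrix (Fin n) (Fin n) F) := by
  have hnt : Nontrivial (Fin n) := Fin.nontrivial_iff_two_le.mpr hn
  have key : ∀ c : Fˣ, (((g : Matrix (Fin n) (Fin n) F).map σ)ᵀ *
        ((g₀⁻¹ : GL (Fin n) F) : Matrix (Fin n) (Fin n) F) * (g : Matrix (Fin n) (Fin n) F) =
      (c : F) • ((g₀⁻¹ : GL (Fin n) F) : Matrix (Fin n) (Fin n) F)) ↔
      (starHom σ g)⁻¹ * g₀⁻¹ * g = Matrix.GeneralLinearGroup.scalar (Fin n) c * g₀⁻¹ := by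
    intro c
    rw [Units.ext_iff, Units.val_mul, Units.val_mul, Units.val_mul, starHom_inv_coe,
      scalar_coe_smul, Matrix.smul_mul, Matrix.one_mul]
  rw [Psi_mul_gb, gb_mul_Psi]
  constructor
  · intro h
    have h1 : Psi (g * g₀) = Psi (g₀ * starHom σ g) := mul_right_cancel h
    have h2 : Psi ((g₀ * starHom σ g)⁻¹ * (g * g₀)) = 1 := by
      rw [map_mul, map_inv, h1, inv_mul_cancel]
    rw [Psi_eq_one_iff p, Matrix.GeneralLinearGroup.center_eq_range_scalar] at h2
    obtain ⟨c, hc⟩ := h2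
    refine ⟨c, (key c).2 ?_⟩
    rw [hc]
    group
  · rintro ⟨c, hc⟩
    rw [key c] at hc
    have h2 : (g₀ * starHom σ g)⁻¹ * (g * g₀) ∈ Subgroup.center (GL (Fin n) F) := by
      rw [Matrix.GeneralLinearGroup.center_eq_range_scalar]
      refine ⟨c, ?_⟩
      have : (g₀ * starHom σ g)⁻¹ * (g * g₀) = ((starHom σ g)⁻¹ * g₀⁻¹ * g) * g₀ := by group
      rw [this, hc]
      group
    have h3 := (Psi_eq_one_iff p _).2 h2
    rw [map_mul, map_inv, inv_mul_eq_one] at h3
    rw [h3]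

include p in
/-- the same for a rescaled matrix of the form -/
theorem comm_iff_sim (hn : 2 ≤ n) (g₀ g : GL (Fin n) F) (σ : RingAut F) (d : F) (hd : d ≠ 0)
    (M : Matrix (Fin n) (Fin n) F)
    (hM : M = d • ((g₀⁻¹ : GL (Fin n) F) : Matrix (Fin n) (Fin n) F)) :
    Psi g ∈ Subgroup.centralizer {gb g₀ σ} ↔ glLE g ∈ sim (matForm (σ : F →+* F) M) := by
  rw [Subgroup.mem_centralizer_singleton_iff, comm_iff_matrix p hn, mem_sim_iff]
  constructor
  · rintro ⟨c, hc⟩
    refine ⟨c, c.ne_zero, ?_⟩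
    rw [hM, Matrix.mul_smul, Matrix.smul_mul, smul_comm]
    exact congrArg (fun X => d • X) hc
  · rintro ⟨c, hc0, hc⟩
    refine ⟨Units.mk0 c hc0, ?_⟩
    rw [hM, Matrix.mul_smul, Matrix.smul_mul, smul_comm] at hc
    exact smul_right_injective _ hd hc

end graph

section normal

variable {n : ℕ} {F : Type*} [Field F] [Finite F] (p : ℕ) [CharP F p] [Fact p.Prime]

theorem coe_one_ringAut : ((1 : RingAut F) : F →+* F) = RingHom.id F := rfl

include p in
/-- the form attached to an involution of graph type, suitably rescaled, is symmetric,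
alternating or hermitian -/
theorem exists_polarHyp (hn : 3 ≤ n) (h2 : (2 : F) ≠ 0) (g₀ : GL (Fin n) F) (σ : RingAut F)
    (h : gb g₀ σ * gb g₀ σ = 1) :
    ∃ (d ε : F), d ≠ 0 ∧ PolarHyp (σ : F →+* F) ε
      (d • ((g₀⁻¹ : GL (Fin n) F) : Matrix (Fin n) (Fin n) F)) := by
  obtain ⟨hσσ, l, hl⟩ := of_gb_sq p (by omega) g₀ σ h
  have hT := transpose_eq_of_star g₀ σ l hl
  obtain ⟨M, hM⟩ : ∃ M, M = ((g₀⁻¹ : GL (Fin n) F) : Matrix (Fin n) (Fin n) F) := ⟨_, rfl⟩
  obtain ⟨ε, hε⟩ : ∃ ε : F, ε = ((l⁻¹ : Fˣ) : F) := ⟨_, rfl⟩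
  rw [← hM, ← hε] at hT
  rw [← hM]
  have hdet : M.det ≠ 0 := by
    rw [hM]
    exact Matrix.GeneralLinearGroup.det_ne_zero _
  have hσ2 : ∀ a, σ (σ a) = a := fun a => DFunLike.congr_fun hσσ a
  have hεε : ε * σ ε = 1 := by
    have h1 : M = (ε * σ ε) • M := by
      have e1 : M = (Mᵀ)ᵀ := (transpose_transpose M).symm
      conv_lhs => rw [e1, hT]
      rw [transpose_smul, ← transpose_map, hT]
      ext i j
      simp only [Matrix.smul_apply, map_apply, smul_eq_mul, map_mul, hσ2]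
      ring
    obtain ⟨i, j, hij⟩ : ∃ i j, M i j ≠ 0 := by
      by_contra hcon
      push Not at hcon
      apply hdet
      have : M = 0 := by
        ext i j
        exact hcon i j
      have hne : Nonempty (Fin n) := ⟨⟨0, by omega⟩⟩
      rw [this]
      exact det_zero
    have h3 := congrFun (congrFun h1 i) j
    rw [Matrix.smul_apply, smul_eq_mul] at h3
    have h4 : (ε * σ ε) * M i j = 1 * M i j := by rw [one_mul]; exact h3.symm
    exact mul_right_cancel₀ hij h4
  by_cases hσ1 : σ = 1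
  · subst hσ1
    have hε2 : ε * ε = 1 := hεε
    have hMσ : M.map ((1 : RingAut F)) = M := by
      ext i j
      rfl
    rw [coe_one_ringAut]
    rcases mul_self_eq_one_iff.1 hε2 with h1 | h1
    · refine ⟨1, 1, one_ne_zero, ?_⟩
      rw [one_smul]
      exact polarHyp_orth hn h2 (by rw [hT, h1, one_smul, hMσ]) hdet
    · refine ⟨1, -1, one_ne_zero, ?_⟩
      rw [one_smul]
      exact polarHyp_symp hn h2 (by rw [hT, h1, neg_smul, one_smul, hMσ]) hdet
  · have hord : orderOf σ = 2 := orderOf_eq_two_of_involution σ hσσ hσ1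
    obtain ⟨d0, hd0, hd⟩ := Cfsg.Agent.Helper13.FAut.hilbert90 σ 2 (by norm_num)
      (by rw [pow_two]; exact hσσ) (hmin_of_orderOf σ 2 hord) ε (by rw [pnorm_two]; exact hεε)
    refine ⟨σ d0, 1, (map_ne_zero σ).2 hd0, ?_⟩
    apply polarHyp_herm hn h2 σ hσ2
    · by_contra hcon
      push Not at hcon
      apply hσ1
      ext a
      exact hcon a
    · rw [transpose_smul, hT]
      ext i j
      simp only [Matrix.smul_apply, map_apply, smul_eq_mul, map_mul, hσ2]
      linear_combination (σ (M i j)) * hd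
    · rw [det_smul]
      exact mul_ne_zero (pow_ne_zero _ ((map_ne_zero σ).2 hd0)) hdet

end normal

end Cfsg.Agent.Helper2.PLB
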