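import Mathlib
import Cfsg.Agent.Lib.Helper2.Plb8
import Cfsg.Agent.Lib.Helper2.Psln27

set_option autoImplicit false
set_option linter.unusedSimpArgs false
set_option linter.unusedVariables false
set_option linter.unusedSectionVars false

/-! Involutory graph automorphisms of the linear groups, part 1: the automorphism attached to the
matrix of a bilinear form, its conjugates, its square and its centralizer. -/

namespace Cfsg.Agent.Helper2.PGR

open Matrix Matrix.SpecialLinearGroup Cfsg.Agent.Helper2.PN Cfsg.Agent.Helper2.PLB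
open scoped MatrixGroups

section basic

variable {n : ℕ} {F : Type*} [Field F]

/-- the automorphism of graph type attached to the bilinear form with matrix `M` -/
noncomputable def grM (M : GL (Fin n) F) :
    MulAut (Matrix.ProjectiveSpecialLinearGroup (Fin n) F) :=
  gb M⁻¹ 1

theorem grM_eq (M : GL (Fin n) F) : grM M = Psi M⁻¹ * tauAut := by
  unfold grM gb
  rw [map_one, one_mul]

theorem starHom_one (g : GL (Fin n) F) : starHom (1 : RingAut F) g = gT g := by
  rw [starHom_apply, map_one, MulAut.one_apply]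

/-- the matrix `Pᵀ M P` -/
def congT (P M : GL (Fin n) F) : GL (Fin n) F := (gT P)⁻¹ * M * P

theorem coe_congT (P M : GL (Fin n) F) :
    ((congT P M : GL (Fin n) F) : Matrix (Fin n) (Fin n) F) =
      (P : Matrix (Fin n) (Fin n) F)ᵀ * (M : Matrix (Fin n) (Fin n) F) *
        (P : Matrix (Fin n) (Fin n) F) := by
  unfold congT
  rw [Units.val_mul, Units.val_mul, gT_inv_coe]

theorem isGraphClass_iff (γ : MulAut (Matrix.ProjectiveSpecialLinearGroup (Fin n) F)) :
    Cfsg.IsGraphAutClassPSL γ ↔ 3 ≤ n ∧ ∃ M : GL (Fin n) F, γ = grM M := by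
  constructor
  · rintro ⟨hn, δ, γ₀, hδ, hγ₀, rfl⟩
    obtain ⟨g, rfl⟩ := exists_eq_Psi_of_isInnerDiagonal hδ
    rw [eq_tauAut_of_isInverseTranspose hγ₀]
    exact ⟨hn, g⁻¹, by rw [grM_eq, inv_inv]⟩
  · rintro ⟨hn, M, rfl⟩
    exact ⟨hn, Psi M⁻¹, tauAut, isInnerDiagonal_Psi _, isInverseTranspose_tauAut, grM_eq M⟩

/-- conjugation by an inner-diagonal automorphism is congruence of the matrices -/
theorem conj_grM (P M : GL (Fin n) F) :
    (Psi P)⁻¹ * grM M * Psi P = grM (congT P M) := by
  unfold grM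
  rw [mul_assoc, gb_mul_Psi, starHom_one, ← map_inv, ← mul_assoc, ← map_mul]
  unfold gb congT
  congr 2

theorem grM_mul_grM (M : GL (Fin n) F) :
    grM M * grM M = Psi (M⁻¹ * (gT M)⁻¹) := by
  unfold grM
  rw [gb_mul_gb, starHom_one, mul_one, map_one, mul_one, ← gTHom_apply, map_inv, gTHom_apply]

variable (p : ℕ) [CharP F p] [Fact p.Prime]

include p in
theorem grM_eq_iff (hn : 2 ≤ n) (M M' : GL (Fin n) F) :
    grM M = grM M' ↔ ∃ c : Fˣ, M' = Matrix.GeneralLinearGroup.scalar (Fin n) c * M := by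
  have hnt : Nontrivial (Fin n) := Fin.nontrivial_iff_two_le.mpr hn
  rw [grM_eq, grM_eq]
  constructor
  · intro h
    have h1 : Psi M⁻¹ = Psi M'⁻¹ := mul_right_cancel h
    have h2 : Psi (M' * M⁻¹) = 1 := by
      rw [map_mul, h1, ← map_mul, mul_inv_cancel, map_one]
    rw [Psi_eq_one_iff p, Matrix.GeneralLinearGroup.center_eq_range_scalar] at h2
    obtain ⟨c, hc⟩ := h2
    refine ⟨c, ?_⟩
    rw [hc]
    group
  · rintro ⟨c, rfl⟩
    have hc : Matrix.GeneralLinearGroup.scalar (Fin n) c⁻¹ ∈ Subgroup.center (GL (Fin n) F) := by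
      rw [Matrix.GeneralLinearGroup.center_eq_range_scalar]
      exact ⟨c⁻¹, rfl⟩
    rw [_root_.mul_inv_rev, map_mul, ← map_inv, Psi_of_mem_center hc, mul_one]

include p in
/-- the square of a graph automorphism is trivial if and only if the matrix is symmetric or
skew-symmetric -/
theorem grM_sq_iff (hn : 2 ≤ n) (M : GL (Fin n) F) :
    grM M * grM M = 1 ↔ ∃ l : F, l * l = 1 ∧
      (M : Matrix (Fin n) (Fin n) F)ᵀ = l • (M : Matrix (Fin n) (Fin n) F) := by
  have hnt : Nontrivial (Fin n) := Fin.nontrivial_iff_two_le.mpr hn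
  rw [grM_mul_grM, Psi_eq_one_iff p, Matrix.GeneralLinearGroup.center_eq_range_scalar]
  constructor
  · rintro ⟨c, hc⟩
    have h1 : (gT M)⁻¹ = M * Matrix.GeneralLinearGroup.scalar (Fin n) c := by
      rw [hc]
      group
    have h2 : (M : Matrix (Fin n) (Fin n) F)ᵀ = (c : F) • (M : Matrix (Fin n) (Fin n) F) := by
      have := congrArg (fun g : GL (Fin n) F => (g : Matrix (Fin n) (Fin n) F)) h1
      simp only [gT_inv_coe, Units.val_mul, scalar_coe_smul, Matrix.mul_smul, Matrix.mul_one]
        at this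
      exact this
    refine ⟨c, ?_, h2⟩
    have h3 : (M : Matrix (Fin n) (Fin n) F) =
        ((c : F) * (c : F)) • (M : Matrix (Fin n) (Fin n) F) := by
      conv_lhs => rw [← Matrix.transpose_transpose (M : Matrix (Fin n) (Fin n) F), h2,
        Matrix.transpose_smul, h2, smul_smul]
    by_contra hne
    have h4 : ((c : F) * (c : F) - 1) • (M : Matrix (Fin n) (Fin n) F) = 0 := by
      rw [sub_smul, one_smul, ← h3, sub_self]
    have h5 : (M : Matrix (Fin n) (Fin n) F) = 0 := by
      rcases smul_eq_zero.1 h4 with h | h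
      · exact absurd (sub_eq_zero.1 h) hne
      · exact h
    have h6 : (1 : Matrix (Fin n) (Fin n) F) = 0 := by
      rw [← Units.mul_inv M, h5, Matrix.zero_mul]
    exact one_ne_zero h6
  · rintro ⟨l, hl, hM⟩
    have hl0 : l ≠ 0 := by
      rintro rfl
      rw [mul_zero] at hl
      exact zero_ne_one hl
    refine ⟨Units.mk0 l hl0, ?_⟩
    have h1 : (gT M)⁻¹ = M * Matrix.GeneralLinearGroup.scalar (Fin n) (Units.mk0 l hl0) := by
      apply Units.ext
      rw [gT_inv_coe, Units.val_mul, scalar_coe_smul, Matrix.mul_smul, Matrix.mul_one, hM]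
      rfl
    rw [h1]
    group

include p in
/-- an inner-diagonal automorphism centralizes a graph automorphism if and only if its matrix
is a similitude of the form -/
theorem comm_grM_iff (hn : 2 ≤ n) (M g : GL (Fin n) F) :
    Psi g ∈ Subgroup.centralizer {grM M} ↔ ∃ c : Fˣ,
      (g : Matrix (Fin n) (Fin n) F)ᵀ * (M : Matrix (Fin n) (Fin n) F) *
        (g : Matrix (Fin n) (Fin n) F) = (c : F) • (M : Matrix (Fin n) (Fin n) F) := by
  unfold grM
  rw [Subgroup.mem_centralizer_singleton_iff, comm_iff_matrix p hn, inv_inv]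
  have h1 : (g : Matrix (Fin n) (Fin n) F).map ((1 : RingAut F) : F → F) =
      (g : Matrix (Fin n) (Fin n) F) := by
    ext i j
    rfl
  rw [h1]

end basic

end Cfsg.Agent.Helper2.PGR
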