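import Mathlib
import Cfsg.Agent.Lib.Helper2.Pgr1

set_option autoImplicit false
set_option linter.unusedSimpArgs false
set_option linter.unusedVariables false
set_option linter.unusedSectionVars false

/-! Involutory graph automorphisms of the linear groups, part 2: similitude groups of bilinear
forms given by matrices, congruence by rectangular invertible matrices, and the type of a form. -/

namespace Cfsg.Agent.Helper2.PGR

open Matrix Matrix.SpecialLinearGroup Cfsg.Agent.Helper2.PN Cfsg.Agent.Helper2.PLB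
open scoped MatrixGroups

section sim

variable {κ : Type*} [Fintype κ] [DecidableEq κ] {F : Type*} [Field F]

/-- the similitudes of the bilinear form with matrix `N` -/
def simG (N : Matrix κ κ F) : Subgroup (GL κ F) where
  carrier := {g | ∃ c : Fˣ, (g : Matrix κ κ F)ᵀ * N * (g : Matrix κ κ F) = (c : F) • N}
  mul_mem' := by
    rintro a b ⟨c, hc⟩ ⟨d, hd⟩
    refine ⟨c * d, ?_⟩
    rw [Units.val_mul, Matrix.transpose_mul]
    calc (b : Matrix κ κ F)ᵀ * (a : Matrix κ κ F)ᵀ * N * ((a : Matrix κ κ F) * (b : Matrix κ κ F))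
        = (b : Matrix κ κ F)ᵀ * ((a : Matrix κ κ F)ᵀ * N * (a : Matrix κ κ F)) *
            (b : Matrix κ κ F) := by simp only [Matrix.mul_assoc]
      _ = ((c * d : Fˣ) : F) • N := by
          rw [hc, Matrix.mul_smul, Matrix.smul_mul, hd, smul_smul, Units.val_mul]
  one_mem' := ⟨1, by simp⟩
  inv_mem' := by
    rintro a ⟨c, hc⟩
    refine ⟨c⁻¹, ?_⟩
    have h1 : ((a⁻¹ : GL κ F) : Matrix κ κ F)ᵀ * ((a : Matrix κ κ F)ᵀ * N * (a : Matrix κ κ F)) *
        ((a⁻¹ : GL κ F) : Matrix κ κ F) = N := by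
      calc ((a⁻¹ : GL κ F) : Matrix κ κ F)ᵀ * ((a : Matrix κ κ F)ᵀ * N * (a : Matrix κ κ F)) *
          ((a⁻¹ : GL κ F) : Matrix κ κ F)
          = (((a : Matrix κ κ F) * ((a⁻¹ : GL κ F) : Matrix κ κ F))ᵀ) * N *
              ((a : Matrix κ κ F) * ((a⁻¹ : GL κ F) : Matrix κ κ F)) := by
            rw [Matrix.transpose_mul]
            simp only [Matrix.mul_assoc]
        _ = N := by rw [Units.mul_inv, Matrix.transpose_one, Matrix.one_mul, Matrix.mul_one]
    rw [hc, Matrix.mul_smul, Matrix.smul_mul] at h1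
    have h2 : ((c⁻¹ : Fˣ) : F) • ((c : F) • (((a⁻¹ : GL κ F) : Matrix κ κ F)ᵀ * N *
        ((a⁻¹ : GL κ F) : Matrix κ κ F))) = ((c⁻¹ : Fˣ) : F) • N := by rw [h1]
    rw [smul_smul, ← Units.val_mul, inv_mul_cancel, Units.val_one, one_smul] at h2
    exact h2

theorem mem_simG_iff (N : Matrix κ κ F) (g : GL κ F) :
    g ∈ simG N ↔ ∃ c : Fˣ, (g : Matrix κ κ F)ᵀ * N * (g : Matrix κ κ F) = (c : F) • N :=
  Iff.rfl

theorem scalar_mem_simG (N : Matrix κ κ F) (a : Fˣ) :
    Matrix.GeneralLinearGroup.scalar κ a ∈ simG N := by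
  refine ⟨a * a, ?_⟩
  rw [Matrix.GeneralLinearGroup.coe_scalar]
  have : (Matrix.scalar κ) (a : F) = (a : F) • (1 : Matrix κ κ F) := by
    rw [Matrix.smul_one_eq_diagonal]
    rfl
  rw [this, Matrix.transpose_smul, Matrix.transpose_one, Matrix.smul_mul, Matrix.one_mul,
    Matrix.mul_smul, Matrix.mul_one, smul_smul, Units.val_mul]

end sim

section rect

variable {ι κ : Type*} [Fintype ι] [DecidableEq ι] [Fintype κ] [DecidableEq κ]
  {F : Type*} [Field F]

/-- conjugation by an invertible rectangular matrix -/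
def cjGL (P : Matrix ι κ F) (Pi : Matrix κ ι F) (h1 : P * Pi = 1) (h2 : Pi * P = 1) :
    GL ι F ≃* GL κ F where
  toFun g := ⟨Pi * (g : Matrix ι ι F) * P, Pi * ((g⁻¹ : GL ι F) : Matrix ι ι F) * P, by
    calc Pi * (g : Matrix ι ι F) * P * (Pi * ((g⁻¹ : GL ι F) : Matrix ι ι F) * P)
        = Pi * ((g : Matrix ι ι F) * (P * Pi) * ((g⁻¹ : GL ι F) : Matrix ι ι F)) * P := by
          simp only [Matrix.mul_assoc]
      _ = 1 := by rw [h1, Matrix.mul_one, Units.mul_inv, Matrix.mul_one, h2], by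
    calc Pi * ((g⁻¹ : GL ι F) : Matrix ι ι F) * P * (Pi * (g : Matrix ι ι F) * P)
        = Pi * (((g⁻¹ : GL ι F) : Matrix ι ι F) * (P * Pi) * (g : Matrix ι ι F)) * P := by
          simp only [Matrix.mul_assoc]
      _ = 1 := by rw [h1, Matrix.mul_one, Units.inv_mul, Matrix.mul_one, h2]⟩
  invFun g := ⟨P * (g : Matrix κ κ F) * Pi, P * ((g⁻¹ : GL κ F) : Matrix κ κ F) * Pi, by
    calc P * (g : Matrix κ κ F) * Pi * (P * ((g⁻¹ : GL κ F) : Matrix κ κ F) * Pi)
        = P * ((g : Matrix κ κ F) * (Pi * P) * ((g⁻¹ : GL κ F) : Matrix κ κ F)) * Pi := by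
          simp only [Matrix.mul_assoc]
      _ = 1 := by rw [h2, Matrix.mul_one, Units.mul_inv, Matrix.mul_one, h1], by
    calc P * ((g⁻¹ : GL κ F) : Matrix κ κ F) * Pi * (P * (g : Matrix κ κ F) * Pi)
        = P * (((g⁻¹ : GL κ F) : Matrix κ κ F) * (Pi * P) * (g : Matrix κ κ F)) * Pi := by
          simp only [Matrix.mul_assoc]
      _ = 1 := by rw [h2, Matrix.mul_one, Units.inv_mul, Matrix.mul_one, h1]⟩
  left_inv g := by
    apply Units.ext
    change P * (Pi * (g : Matrix ι ι F) * P) * Pi = (g : Matrix ι ι F)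
    calc P * (Pi * (g : Matrix ι ι F) * P) * Pi
        = (P * Pi) * (g : Matrix ι ι F) * (P * Pi) := by simp only [Matrix.mul_assoc]
      _ = (g : Matrix ι ι F) := by rw [h1, Matrix.one_mul, Matrix.mul_one]
  right_inv g := by
    apply Units.ext
    change Pi * (P * (g : Matrix κ κ F) * Pi) * P = (g : Matrix κ κ F)
    calc Pi * (P * (g : Matrix κ κ F) * Pi) * P
        = (Pi * P) * (g : Matrix κ κ F) * (Pi * P) := by simp only [Matrix.mul_assoc]
      _ = (g : Matrix κ κ F) := by rw [h2, Matrix.one_mul, Matrix.mul_one]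
  map_mul' a b := by
    apply Units.ext
    change Pi * ((a * b : GL ι F) : Matrix ι ι F) * P =
      (Pi * (a : Matrix ι ι F) * P) * (Pi * (b : Matrix ι ι F) * P)
    rw [Units.val_mul]
    calc Pi * ((a : Matrix ι ι F) * (b : Matrix ι ι F)) * P
        = Pi * ((a : Matrix ι ι F) * 1 * (b : Matrix ι ι F)) * P := by rw [Matrix.mul_one]
      _ = (Pi * (a : Matrix ι ι F) * P) * (Pi * (b : Matrix ι ι F) * P) := by
          rw [← h1]
          simp only [Matrix.mul_assoc]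

theorem coe_cjGL (P : Matrix ι κ F) (Pi : Matrix κ ι F) (h1 : P * Pi = 1) (h2 : Pi * P = 1)
    (g : GL ι F) :
    ((cjGL P Pi h1 h2 g : GL κ F) : Matrix κ κ F) = Pi * (g : Matrix ι ι F) * P := rfl

theorem coe_cjGL_symm (P : Matrix ι κ F) (Pi : Matrix κ ι F) (h1 : P * Pi = 1) (h2 : Pi * P = 1)
    (g : GL κ F) :
    (((cjGL P Pi h1 h2).symm g : GL ι F) : Matrix ι ι F) = P * (g : Matrix κ κ F) * Pi := rfl

theorem det_cjGL (P : Matrix ι κ F) (Pi : Matrix κ ι F) (h1 : P * Pi = 1) (h2 : Pi * P = 1)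
    (g : GL ι F) :
    Matrix.GeneralLinearGroup.det (cjGL P Pi h1 h2 g) = Matrix.GeneralLinearGroup.det g := by
  apply Units.ext
  change (Pi * (g : Matrix ι ι F) * P).det = (g : Matrix ι ι F).det
  rw [Matrix.mul_assoc, Matrix.det_comm' h2 h1, Matrix.mul_assoc, h1, Matrix.mul_one]

/-- scalar matrices correspond to scalar matrices -/
theorem cjGL_mem_scalars_iff (P : Matrix ι κ F) (Pi : Matrix κ ι F) (h1 : P * Pi = 1)
    (h2 : Pi * P = 1) (g : GL ι F) :
    (∃ a : Fˣ, (cjGL P Pi h1 h2 g : GL κ F) = Matrix.GeneralLinearGroup.scalar κ a) ↔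
      ∃ a : Fˣ, g = Matrix.GeneralLinearGroup.scalar ι a := by
  constructor
  · rintro ⟨a, ha⟩
    refine ⟨a, ?_⟩
    have h3 : g = (cjGL P Pi h1 h2).symm (Matrix.GeneralLinearGroup.scalar κ a) := by
      rw [← ha, MulEquiv.symm_apply_apply]
    rw [h3]
    apply Units.ext
    rw [coe_cjGL_symm, Matrix.GeneralLinearGroup.coe_scalar, Matrix.GeneralLinearGroup.coe_scalar]
    have e1 : (Matrix.scalar κ) (a : F) = (a : F) • (1 : Matrix κ κ F) := by
      rw [Matrix.smul_one_eq_diagonal]; rfl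
    have e2 : (Matrix.scalar ι) (a : F) = (a : F) • (1 : Matrix ι ι F) := by
      rw [Matrix.smul_one_eq_diagonal]; rfl
    rw [e1, e2, Matrix.mul_smul, Matrix.mul_one, Matrix.smul_mul, h1]
  · rintro ⟨a, rfl⟩
    refine ⟨a, ?_⟩
    apply Units.ext
    rw [coe_cjGL, Matrix.GeneralLinearGroup.coe_scalar, Matrix.GeneralLinearGroup.coe_scalar]
    have e1 : (Matrix.scalar κ) (a : F) = (a : F) • (1 : Matrix κ κ F) := by
      rw [Matrix.smul_one_eq_diagonal]; rfl
    have e2 : (Matrix.scalar ι) (a : F) = (a : F) • (1 : Matrix ι ι F) := by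
      rw [Matrix.smul_one_eq_diagonal]; rfl
    rw [e1, e2, Matrix.mul_smul, Matrix.mul_one, Matrix.smul_mul, h2]

/-- similitudes correspond under congruence -/
theorem cjGL_mem_simG_iff (P : Matrix ι κ F) (Pi : Matrix κ ι F) (h1 : P * Pi = 1)
    (h2 : Pi * P = 1) (M : Matrix ι ι F) (N : Matrix κ κ F) (c₀ : F) (hc₀ : c₀ ≠ 0)
    (hMN : Pᵀ * M * P = c₀ • N) (g : GL ι F) :
    cjGL P Pi h1 h2 g ∈ simG N ↔ g ∈ simG M := by
  have hPiT : Piᵀ * Pᵀ = 1 := by rw [← Matrix.transpose_mul, h1, Matrix.transpose_one]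
  have hPT : Pᵀ * Piᵀ = 1 := by rw [← Matrix.transpose_mul, h2, Matrix.transpose_one]
  have hN : N = c₀⁻¹ • (Pᵀ * M * P) := by
    rw [hMN, smul_smul, inv_mul_cancel₀ hc₀, one_smul]
  have hM : M = c₀ • (Piᵀ * N * Pi) := by
    rw [hN, Matrix.mul_smul, Matrix.smul_mul, smul_smul, mul_inv_cancel₀ hc₀, one_smul]
    calc M = (Piᵀ * Pᵀ) * M * (P * Pi) := by rw [hPiT, h1, Matrix.one_mul, Matrix.mul_one]
      _ = Piᵀ * (Pᵀ * M * P) * Pi := by simp only [Matrix.mul_assoc]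
  rw [mem_simG_iff, mem_simG_iff, coe_cjGL]
  have key : (Pi * (g : Matrix ι ι F) * P)ᵀ * N * (Pi * (g : Matrix ι ι F) * P) =
      c₀⁻¹ • (Pᵀ * ((g : Matrix ι ι F)ᵀ * M * (g : Matrix ι ι F)) * P) := by
    rw [Matrix.transpose_mul, Matrix.transpose_mul]
    conv_rhs => rw [hM]
    rw [Matrix.mul_smul, Matrix.smul_mul, Matrix.mul_smul, Matrix.smul_mul, smul_smul,
      inv_mul_cancel₀ hc₀, one_smul]
    simp only [Matrix.mul_assoc]
  constructor
  · rintro ⟨c, hc⟩
    refine ⟨c, ?_⟩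
    rw [key] at hc
    have h3 : Pᵀ * ((g : Matrix ι ι F)ᵀ * M * (g : Matrix ι ι F)) * P = (c : F) • (Pᵀ * M * P) := by
      have := congrArg (fun X => c₀ • X) hc
      simp only [smul_smul, mul_inv_cancel₀ hc₀, one_smul] at this
      rw [this, hMN, smul_smul, mul_comm]
    calc (g : Matrix ι ι F)ᵀ * M * (g : Matrix ι ι F)
        = (Piᵀ * Pᵀ) * ((g : Matrix ι ι F)ᵀ * M * (g : Matrix ι ι F)) * (P * Pi) := by
          rw [hPiT, h1, Matrix.one_mul, Matrix.mul_one]
      _ = Piᵀ * (Pᵀ * ((g : Matrix ι ι F)ᵀ * M * (g : Matrix ι ι F)) * P) * Pi := by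
          simp only [Matrix.mul_assoc]
      _ = (c : F) • ((Piᵀ * Pᵀ) * M * (P * Pi)) := by
          rw [h3, Matrix.mul_smul, Matrix.smul_mul]
          simp only [Matrix.mul_assoc]
      _ = (c : F) • M := by rw [hPiT, h1, Matrix.one_mul, Matrix.mul_one]
  · rintro ⟨c, hc⟩
    refine ⟨c, ?_⟩
    rw [key, hc, Matrix.mul_smul, Matrix.smul_mul, hMN, smul_smul, smul_smul]
    congr 1
    field_simp

end rect

end Cfsg.Agent.Helper2.PGR
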