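import Mathlib
import Cfsg.Agent.Lib.Helper2.Pgr2

set_option autoImplicit false
set_option linter.unusedSimpArgs false
set_option linter.unusedVariables false
set_option linter.unusedSectionVars false

/-! Involutory graph automorphisms of the linear groups, part 3: forms of a given type give
conjugate automorphisms, with centralizer the projective similitude group of the type. -/

namespace Cfsg.Agent.Helper2.PGR

open Matrix Matrix.SpecialLinearGroup Cfsg.Agent.Helper2.PN Cfsg.Agent.Helper2.PLB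
open scoped MatrixGroups

section hastype

variable {ι κ μ : Type*} [Fintype ι] [DecidableEq ι] [Fintype κ] [DecidableEq κ]
  [Fintype μ] [DecidableEq μ] {F : Type*} [Field F]

/-- the form with matrix `M` is, up to a scalar, congruent to the form with matrix `N` -/
def HasType (M : Matrix ι ι F) (N : Matrix κ κ F) : Prop :=
  ∃ (P : Matrix ι κ F) (Pi : Matrix κ ι F) (c : F),
    c ≠ 0 ∧ P * Pi = 1 ∧ Pi * P = 1 ∧ Pᵀ * M * P = c • N

theorem HasType.symm {M : Matrix ι ι F} {N : Matrix κ κ F} (h : HasType M N) : HasType N M := by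
  obtain ⟨P, Pi, c, hc, h1, h2, hM⟩ := h
  refine ⟨Pi, P, c⁻¹, inv_ne_zero hc, h2, h1, ?_⟩
  have hPiT : Piᵀ * Pᵀ = 1 := by rw [← Matrix.transpose_mul, h1, Matrix.transpose_one]
  have hN : N = c⁻¹ • (Pᵀ * M * P) := by
    rw [hM, smul_smul, inv_mul_cancel₀ hc, one_smul]
  rw [hN, Matrix.mul_smul, Matrix.smul_mul]
  congr 1
  calc Piᵀ * (Pᵀ * M * P) * Pi = (Piᵀ * Pᵀ) * M * (P * Pi) := by simp only [Matrix.mul_assoc]
    _ = M := by rw [hPiT, h1, Matrix.one_mul, Matrix.mul_one]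

theorem HasType.trans {M : Matrix ι ι F} {N : Matrix κ κ F} {L : Matrix μ μ F}
    (h : HasType M N) (h' : HasType N L) : HasType M L := by
  obtain ⟨P, Pi, c, hc, h1, h2, hM⟩ := h
  obtain ⟨Q, Qi, d, hd, k1, k2, hN⟩ := h'
  refine ⟨P * Q, Qi * Pi, c * d, mul_ne_zero hc hd, ?_, ?_, ?_⟩
  · calc P * Q * (Qi * Pi) = P * ((Q * Qi) * Pi) := by simp only [Matrix.mul_assoc]
      _ = 1 := by rw [k1, Matrix.one_mul, h1]
  · calc Qi * Pi * (P * Q) = Qi * ((Pi * P) * Q) := by simp only [Matrix.mul_assoc]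
      _ = 1 := by rw [h2, Matrix.one_mul, k2]
  · rw [Matrix.transpose_mul]
    calc Qᵀ * Pᵀ * M * (P * Q) = Qᵀ * (Pᵀ * M * P) * Q := by simp only [Matrix.mul_assoc]
      _ = (c * d) • L := by rw [hM, Matrix.mul_smul, Matrix.smul_mul, hN, smul_smul]

/-- a scalar multiple has the same type -/
theorem hasType_smul (M : Matrix ι ι F) (c : F) (hc : c ≠ 0) : HasType (c • M) M :=
  ⟨1, 1, c, hc, Matrix.one_mul 1, Matrix.one_mul 1, by
    rw [Matrix.transpose_one, Matrix.one_mul, Matrix.mul_one]⟩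

/-- the transposition type is inherited -/
theorem HasType.transpose_eq {M : Matrix ι ι F} {N : Matrix κ κ F} (h : HasType M N) (l : F)
    (hN : Nᵀ = l • N) : Mᵀ = l • M := by
  obtain ⟨P, Pi, c, hc, h1, h2, hM⟩ := h.symm
  have h3 : M = c⁻¹ • (Pᵀ * N * P) := by
    rw [hM, smul_smul, inv_mul_cancel₀ hc, one_smul]
  rw [h3, Matrix.transpose_smul, Matrix.transpose_mul, Matrix.transpose_mul,
    Matrix.transpose_transpose, hN, Matrix.smul_mul, Matrix.mul_smul, smul_comm, Matrix.mul_assoc]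

/-- a basis in which the form has matrix `c N` -/
theorem hasType_of_basis (M : Matrix ι ι F) (b : Module.Basis κ F (ι → F)) (N : Matrix κ κ F)
    (c : F) (hc : c ≠ 0) (h : ∀ k l, (b k) ⬝ᵥ (M *ᵥ (b l)) = c * N k l) : HasType M N := by
  have h1 := Module.Basis.toMatrix_mul_toMatrix_flip (Pi.basisFun F ι) b
  have h2 := Module.Basis.toMatrix_mul_toMatrix_flip b (Pi.basisFun F ι)
  refine ⟨(Pi.basisFun F ι).toMatrix b, b.toMatrix (Pi.basisFun F ι), c, hc, h1, h2, ?_⟩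
  ext k l
  rw [Matrix.smul_apply, smul_eq_mul, ← h k l]
  simp only [Matrix.mul_apply, Matrix.transpose_apply, dotProduct, Matrix.mulVec,
    Module.Basis.toMatrix_apply, Pi.basisFun_repr, Finset.sum_mul, Finset.mul_sum]
  rw [Finset.sum_comm]
  apply Finset.sum_congr rfl
  intro i _
  apply Finset.sum_congr rfl
  intro j _
  ring

end hastype

section types

variable {n : ℕ} {κ : Type} [Fintype κ] [DecidableEq κ] {F : Type*} [Field F]

theorem mem_scalars_iff' {ι : Type} [Fintype ι] [DecidableEq ι] (g : GL ι F) :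
    g ∈ Cfsg.Geo.scalars ι F ↔ ∃ a : Fˣ, g = Matrix.GeneralLinearGroup.scalar ι a := by
  rw [Cfsg.Geo.mem_scalars_iff]
  constructor
  · rintro ⟨a, ha⟩
    refine ⟨a, Units.ext ?_⟩
    rw [ha, scalar_coe_smul']
  · rintro ⟨a, rfl⟩
    exact ⟨a, scalar_coe_smul' a⟩
where
  scalar_coe_smul' {ι : Type} [Fintype ι] [DecidableEq ι] (u : Fˣ) :
      ((Matrix.GeneralLinearGroup.scalar ι u : GL ι F) : Matrix ι ι F) =
        (u : F) • (1 : Matrix ι ι F) := by
    rw [Matrix.GeneralLinearGroup.coe_scalar, Matrix.smul_one_eq_diagonal]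
    rfl

variable (p : ℕ) [CharP F p] [Fact p.Prime]

include p in
theorem comap_centralizer_grM (hn : 2 ≤ n) (M : GL (Fin n) F) :
    (Subgroup.centralizer {grM M}).comap Psi = simG (M : Matrix (Fin n) (Fin n) F) := by
  ext g
  rw [Subgroup.mem_comap, comm_grM_iff p hn, mem_simG_iff]

include p in
/-- forms of the same type give conjugate automorphisms -/
theorem conj_of_hasType (hn : 2 ≤ n) (M M' : GL (Fin n) F) (N : Matrix κ κ F)
    (h : HasType (M : Matrix (Fin n) (Fin n) F) N)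
    (h' : HasType (M' : Matrix (Fin n) (Fin n) F) N) :
    Cfsg.IsConjUnder (Cfsg.inndiagPSL n F) (grM M) (grM M') := by
  obtain ⟨P, Pi, c, hc, h1, h2, hM⟩ := h
  obtain ⟨P', Pi', c', hc', h1', h2', hM'⟩ := h'
  have hR1 : (P * Pi') * (P' * Pi) = 1 := by
    calc (P * Pi') * (P' * Pi) = P * ((Pi' * P') * Pi) := by simp only [Matrix.mul_assoc]
      _ = 1 := by rw [h2', Matrix.one_mul, h1]
  have hR2 : (P' * Pi) * (P * Pi') = 1 := by
    calc (P' * Pi) * (P * Pi') = P' * ((Pi * P) * Pi') := by simp only [Matrix.mul_assoc]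
      _ = 1 := by rw [h2, Matrix.one_mul, h1']
  obtain ⟨R, hR⟩ : ∃ R : GL (Fin n) F, (R : Matrix (Fin n) (Fin n) F) = P * Pi' :=
    ⟨⟨P * Pi', P' * Pi, hR1, hR2⟩, rfl⟩
  have hPiT' : Pi'ᵀ * P'ᵀ = 1 := by rw [← Matrix.transpose_mul, h1', Matrix.transpose_one]
  have hN : Pi'ᵀ * N * Pi' = c'⁻¹ • (M' : Matrix (Fin n) (Fin n) F) := by
    have h3 : N = c'⁻¹ • (P'ᵀ * (M' : Matrix (Fin n) (Fin n) F) * P') := by
      rw [hM', smul_smul, inv_mul_cancel₀ hc', one_smul]
    rw [h3, Matrix.mul_smul, Matrix.smul_mul]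
    congr 1
    calc Pi'ᵀ * (P'ᵀ * (M' : Matrix (Fin n) (Fin n) F) * P') * Pi'
        = (Pi'ᵀ * P'ᵀ) * (M' : Matrix (Fin n) (Fin n) F) * (P' * Pi') := by
          simp only [Matrix.mul_assoc]
      _ = (M' : Matrix (Fin n) (Fin n) F) := by rw [hPiT', h1', Matrix.one_mul, Matrix.mul_one]
  have hcc : c * c'⁻¹ ≠ 0 := mul_ne_zero hc (inv_ne_zero hc')
  have hcong : congT R M = Matrix.GeneralLinearGroup.scalar (Fin n) (Units.mk0 _ hcc) * M' := by
    apply Units.ext
    rw [coe_congT, hR, Units.val_mul, scalar_coe_smul, Matrix.smul_mul, Matrix.one_mul,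
      Matrix.transpose_mul]
    calc Pi'ᵀ * Pᵀ * (M : Matrix (Fin n) (Fin n) F) * (P * Pi')
        = Pi'ᵀ * (Pᵀ * (M : Matrix (Fin n) (Fin n) F) * P) * Pi' := by
          simp only [Matrix.mul_assoc]
      _ = (c * c'⁻¹) • (M' : Matrix (Fin n) (Fin n) F) := by
          rw [hM, Matrix.mul_smul, Matrix.smul_mul, hN, smul_smul]
  refine ⟨(Psi R)⁻¹, ?_, ?_⟩
  · rw [inndiag_eq]
    exact Subgroup.inv_mem _ ⟨R, rfl⟩
  · rw [inv_inv, conj_grM, grM_eq_iff p hn]
    exact ⟨_, hcong⟩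

include p in
/-- conjugate automorphisms have forms of the same type -/
theorem hasType_of_conj (hn : 2 ≤ n) (M M' : GL (Fin n) F) (N : Matrix κ κ F)
    (hconj : Cfsg.IsConjUnder (Cfsg.inndiagPSL n F) (grM M) (grM M'))
    (h : HasType (M : Matrix (Fin n) (Fin n) F) N) :
    HasType (M' : Matrix (Fin n) (Fin n) F) N := by
  obtain ⟨P, Pi, c, hc, h1, h2, hM⟩ := h
  obtain ⟨y, hy, hyM⟩ := hconj
  rw [inndiag_eq] at hy
  obtain ⟨R, rfl⟩ := hy
  have h3 : grM M' = grM (congT R⁻¹ M) := by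
    rw [← conj_grM, hyM, map_inv, inv_inv]
  obtain ⟨a, ha⟩ := (grM_eq_iff p hn _ _).1 h3
  -- `R⁻ᵀ M R⁻¹ = a M'`
  have h4 : ((R⁻¹ : GL (Fin n) F) : Matrix (Fin n) (Fin n) F)ᵀ * (M : Matrix (Fin n) (Fin n) F) *
      ((R⁻¹ : GL (Fin n) F) : Matrix (Fin n) (Fin n) F) =
      (a : F) • (M' : Matrix (Fin n) (Fin n) F) := by
    have := congrArg (fun g : GL (Fin n) F => (g : Matrix (Fin n) (Fin n) F)) ha
    simp only [coe_congT, Units.val_mul, scalar_coe_smul, Matrix.smul_mul, Matrix.one_mul] at this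
    exact this
  have h5 : (M' : Matrix (Fin n) (Fin n) F) = ((a⁻¹ : Fˣ) : F) •
      (((R⁻¹ : GL (Fin n) F) : Matrix (Fin n) (Fin n) F)ᵀ * (M : Matrix (Fin n) (Fin n) F) *
      ((R⁻¹ : GL (Fin n) F) : Matrix (Fin n) (Fin n) F)) := by
    rw [h4, smul_smul, ← Units.val_mul, inv_mul_cancel, Units.val_one, one_smul]
  refine ⟨(R : Matrix (Fin n) (Fin n) F) * P,
    Pi * ((R⁻¹ : GL (Fin n) F) : Matrix (Fin n) (Fin n) F), ((a⁻¹ : Fˣ) : F) * c,
    mul_ne_zero (Units.ne_zero _) hc, ?_, ?_, ?_⟩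
  · calc (R : Matrix (Fin n) (Fin n) F) * P *
        (Pi * ((R⁻¹ : GL (Fin n) F) : Matrix (Fin n) (Fin n) F))
        = (R : Matrix (Fin n) (Fin n) F) * ((P * Pi) *
            ((R⁻¹ : GL (Fin n) F) : Matrix (Fin n) (Fin n) F)) := by
          simp only [Matrix.mul_assoc]
      _ = 1 := by rw [h1, Matrix.one_mul, Units.mul_inv]
  · calc Pi * ((R⁻¹ : GL (Fin n) F) : Matrix (Fin n) (Fin n) F) *
        ((R : Matrix (Fin n) (Fin n) F) * P)
        = Pi * ((((R⁻¹ : GL (Fin n) F) : Matrix (Fin n) (Fin n) F) *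
            (R : Matrix (Fin n) (Fin n) F)) * P) := by
          simp only [Matrix.mul_assoc]
      _ = 1 := by rw [Units.inv_mul, Matrix.one_mul, h2]
  · have hRT : (R : Matrix (Fin n) (Fin n) F)ᵀ *
        ((R⁻¹ : GL (Fin n) F) : Matrix (Fin n) (Fin n) F)ᵀ = 1 := by
      rw [← Matrix.transpose_mul, Units.inv_mul, Matrix.transpose_one]
    rw [h5, Matrix.mul_smul, Matrix.smul_mul, Matrix.transpose_mul, mul_smul]
    congr 1
    calc Pᵀ * (R : Matrix (Fin n) (Fin n) F)ᵀ *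
        (((R⁻¹ : GL (Fin n) F) : Matrix (Fin n) (Fin n) F)ᵀ * (M : Matrix (Fin n) (Fin n) F) *
          ((R⁻¹ : GL (Fin n) F) : Matrix (Fin n) (Fin n) F)) *
        ((R : Matrix (Fin n) (Fin n) F) * P)
        = Pᵀ * ((R : Matrix (Fin n) (Fin n) F)ᵀ *
            ((R⁻¹ : GL (Fin n) F) : Matrix (Fin n) (Fin n) F)ᵀ) *
            (M : Matrix (Fin n) (Fin n) F) *
          ((((R⁻¹ : GL (Fin n) F) : Matrix (Fin n) (Fin n) F)) *
            (R : Matrix (Fin n) (Fin n) F)) * P := by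
          simp only [Matrix.mul_assoc]
      _ = c • N := by rw [hRT, Units.inv_mul, Matrix.mul_one, Matrix.mul_one, hM]

include p in
/-- the general centralizer isomorphism -/
theorem centralizer_equiv_of_equiv (hn : 2 ≤ n)
    (x : MulAut (Matrix.ProjectiveSpecialLinearGroup (Fin n) F)) (H : Subgroup (GL κ F))
    (E : GL (Fin n) F ≃* GL κ F)
    (hE : ∀ g, (∃ a : Fˣ, E g = Matrix.GeneralLinearGroup.scalar κ a) ↔
      ∃ a : Fˣ, g = Matrix.GeneralLinearGroup.scalar (Fin n) a)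
    (hsc : ∀ a : Fˣ, Matrix.GeneralLinearGroup.scalar κ a ∈ H)
    (hC : ∀ g, Psi g ∈ Subgroup.centralizer {x} ↔ E g ∈ H) :
    Nonempty (↥(Cfsg.inndiagPSL n F ⊓ Subgroup.centralizer {x}) ≃* Cfsg.projQuot H) := by
  have hnt : Nontrivial (Fin n) := Fin.nontrivial_iff_two_le.mpr hn
  obtain ⟨η, hη⟩ : ∃ η : H →* MulAut (Matrix.ProjectiveSpecialLinearGroup (Fin n) F),
      η = Psi.comp (E.symm.toMonoidHom.comp H.subtype) := ⟨_, rfl⟩
  have hηa : ∀ h : H, η h = Psi (E.symm (h : GL κ F)) := by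
    intro h
    rw [hη]
    rfl
  have hrange : η.range = Cfsg.inndiagPSL n F ⊓ Subgroup.centralizer {x} := by
    ext y
    rw [Subgroup.mem_inf, inndiag_eq]
    constructor
    · rintro ⟨h, rfl⟩
      rw [hηa]
      refine ⟨⟨_, rfl⟩, ?_⟩
      rw [hC, MulEquiv.apply_symm_apply]
      exact h.2
    · rintro ⟨⟨g, rfl⟩, hg⟩
      refine ⟨⟨E g, (hC g).1 hg⟩, ?_⟩
      rw [hηa]
      change Psi (E.symm (E g)) = Psi g
      rw [MulEquiv.symm_apply_apply]
  have hker : η.ker = (Cfsg.Geo.scalars κ F).subgroupOf H := by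
    ext h
    rw [MonoidHom.mem_ker, hηa, Psi_eq_one_iff p, Subgroup.mem_subgroupOf,
      Matrix.GeneralLinearGroup.center_eq_range_scalar, mem_scalars_iff']
    constructor
    · rintro ⟨a, ha⟩
      have := (hE (E.symm (h : GL κ F))).2 ⟨a, ha.symm⟩
      rw [MulEquiv.apply_symm_apply] at this
      exact this
    · intro hh
      have h1 : ∃ a : Fˣ, E (E.symm (h : GL κ F)) = Matrix.GeneralLinearGroup.scalar κ a := by
        rw [MulEquiv.apply_symm_apply]
        exact hh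
      obtain ⟨a, ha⟩ := (hE _).1 h1
      exact ⟨a, ha.symm⟩
  have e1 : (H ⧸ η.ker) ≃* η.range := QuotientGroup.quotientKerEquivRange η
  have e2 : (H ⧸ η.ker) ≃* (H ⧸ (Cfsg.Geo.scalars κ F).subgroupOf H) :=
    QuotientGroup.quotientMulEquivOfEq hker
  have e3 : η.range ≃* ↥(Cfsg.inndiagPSL n F ⊓ Subgroup.centralizer {x}) :=
    MulEquiv.subgroupCongr hrange
  exact ⟨e3.symm.trans (e1.symm.trans e2)⟩

include p in
/-- the centralizer of a graph automorphism with a form of type `N` -/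
theorem centralizer_equiv_of_hasType (hn : 2 ≤ n) (M : GL (Fin n) F) (N : Matrix κ κ F)
    (h : HasType (M : Matrix (Fin n) (Fin n) F) N) (H : Subgroup (GL κ F)) (hH : H = simG N) :
    Nonempty (↥(Cfsg.inndiagPSL n F ⊓ Subgroup.centralizer {grM M}) ≃* Cfsg.projQuot H) := by
  subst hH
  obtain ⟨P, Pi, c, hc, h1, h2, hM⟩ := h
  apply centralizer_equiv_of_equiv p hn (grM M) (simG N) (cjGL P Pi h1 h2)
    (cjGL_mem_scalars_iff P Pi h1 h2) (scalar_mem_simG N)
  intro g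
  rw [comm_grM_iff p hn, ← mem_simG_iff, cjGL_mem_simG_iff P Pi h1 h2 _ N c hc hM]

/-- the determinants of the similitudes only depend on the type -/
theorem map_det_simG_of_hasType (M : Matrix (Fin n) (Fin n) F) (N : Matrix κ κ F)
    (h : HasType M N) :
    (simG M).map Matrix.GeneralLinearGroup.det = (simG N).map Matrix.GeneralLinearGroup.det := by
  obtain ⟨P, Pi, c, hc, h1, h2, hM⟩ := h
  ext t
  constructor
  · rintro ⟨g, hg, rfl⟩
    refine ⟨cjGL P Pi h1 h2 g, ?_, det_cjGL P Pi h1 h2 g⟩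
    exact (cjGL_mem_simG_iff P Pi h1 h2 M N c hc hM g).2 hg
  · rintro ⟨g, hg, rfl⟩
    refine ⟨(cjGL P Pi h1 h2).symm g, ?_, ?_⟩
    · apply (cjGL_mem_simG_iff P Pi h1 h2 M N c hc hM _).1
      rw [MulEquiv.apply_symm_apply]
      exact hg
    · rw [← det_cjGL P Pi h1 h2, MulEquiv.apply_symm_apply]

end types

end Cfsg.Agent.Helper2.PGR
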