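import Mathlib
import Cfsg.Agent.Lib.Helper2.Pgr3
import Cfsg.Agent.S2616
import Cfsg.Agent.S2618
import Cfsg.Agent.S2622
import Cfsg.Agent.Lib.Helper28.SympIso
import Cfsg.Agent.Lib.Helper11.AltForm
import Cfsg.Agent.Lib.Helper13.MatQuad

set_option autoImplicit false
set_option linter.unusedSimpArgs false
set_option linter.unusedVariables false
set_option linter.unusedSectionVars false

/-! Involutory graph automorphisms of the linear groups, part 4: the types of the alternating and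
of the symmetric forms over a finite field. -/

namespace Cfsg.Agent.Helper2.PGR

open Matrix Cfsg.Agent.Helper13

section alt

variable {ι : Type*} [Fintype ι] [DecidableEq ι] {F : Type*} [Field F]

/-- a non-degenerate alternating form has the symplectic type -/
theorem hasType_J_of_alt (M : Matrix ι ι F) (hdet : M.det ≠ 0)
    (halt : ∀ v : ι → F, v ⬝ᵥ (M *ᵥ v) = 0) (m : ℕ) (hcard : Fintype.card ι = 2 * m) :
    HasType M (Matrix.J (Fin m) F) := by
  obtain ⟨B, hB⟩ : ∃ B : LinearMap.BilinForm F (ι → F), B = Matrix.toBilin' M := ⟨_, rfl⟩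
  have hBa : ∀ u v, B u v = u ⬝ᵥ (M *ᵥ v) := by
    intro u v
    rw [hB, Matrix.toBilin'_apply']
  have hAlt : B.IsAlt := fun v => by rw [hBa]; exact halt v
  have hnd : B.Nondegenerate := by
    rw [hB]
    exact LinearMap.BilinForm.nondegenerate_toBilin'_of_det_ne_zero' M hdet
  have hfin : Module.finrank F (ι → F) = 2 * m := by
    rw [Module.finrank_fintype_fun_eq_card, hcard]
  obtain ⟨e, he⟩ := Cfsg.Agent.Helper28.SympIso.exists_symp_equiv B hAlt hnd m hfin
  obtain ⟨b, hb⟩ : ∃ b : Module.Basis (Fin m ⊕ Fin m) F (ι → F),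
      b = (Pi.basisFun F (Fin m ⊕ Fin m)).map e.symm := ⟨_, rfl⟩
  have hbe : ∀ k, e (b k) = Pi.single k 1 := by
    intro k
    rw [hb, Module.Basis.map_apply, LinearEquiv.apply_symm_apply, Pi.basisFun_apply]
  apply hasType_of_basis M b _ 1 one_ne_zero
  intro k l
  rw [← hBa, ← he, hbe, hbe, one_mul, Cfsg.Agent.Helper28.SympIso.sympBil,
    Matrix.toBilin'_single]

/-- a non-degenerate alternating form lives in even dimension -/
theorem even_card_of_alt (M : Matrix ι ι F) (hdet : M.det ≠ 0)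
    (halt : ∀ v : ι → F, v ⬝ᵥ (M *ᵥ v) = 0) : Even (Fintype.card ι) := by
  obtain ⟨B, hB⟩ : ∃ B : LinearMap.BilinForm F (ι → F), B = Matrix.toBilin' M := ⟨_, rfl⟩
  have hBa : ∀ u v, B u v = u ⬝ᵥ (M *ᵥ v) := by
    intro u v
    rw [hB, Matrix.toBilin'_apply']
  have hAlt : B.IsAlt := fun v => by rw [hBa]; exact halt v
  have hnd : B.Nondegenerate := by
    rw [hB]
    exact LinearMap.BilinForm.nondegenerate_toBilin'_of_det_ne_zero' M hdet
  have := Cfsg.Agent.Helper11.even_finrank_of_nondegenerate_isAlt B hnd hAlt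
  rw [Module.finrank_fintype_fun_eq_card] at this
  exact this

/-- a symmetric form which is not alternating, in characteristic two, has the type of the
identity matrix -/
theorem hasType_one_of_not_alt [Finite F] [CharP F 2] (M : Matrix ι ι F) (hdet : M.det ≠ 0)
    (hsym : Mᵀ = M) (hna : ∃ v : ι → F, v ⬝ᵥ (M *ᵥ v) ≠ 0) (n : ℕ)
    (hcard : Fintype.card ι = n) : HasType M (1 : Matrix (Fin n) (Fin n) F) := by
  obtain ⟨B, hB⟩ : ∃ B : LinearMap.BilinForm F (ι → F), B = Matrix.toBilin' M := ⟨_, rfl⟩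
  have hBa : ∀ u v, B u v = u ⬝ᵥ (M *ᵥ v) := by
    intro u v
    rw [hB, Matrix.toBilin'_apply']
  have hnd : B.Nondegenerate := by
    rw [hB]
    exact LinearMap.BilinForm.nondegenerate_toBilin'_of_det_ne_zero' M hdet
  have hS : B.IsSymm := by
    constructor
    intro u v
    rw [hBa, hBa, Matrix.dotProduct_mulVec, ← Matrix.mulVec_transpose, hsym,
      dotProduct_comm]
  have hfin : Module.finrank F (ι → F) = n := by
    rw [Module.finrank_fintype_fun_eq_card, hcard]
  obtain ⟨v, hv⟩ := hna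
  obtain ⟨b, hb⟩ := Cfsg.Agent.S2622.result hfin B hS hnd ⟨v, by rw [hBa]; exact hv⟩
  apply hasType_of_basis M b _ 1 one_ne_zero
  intro k l
  rw [← hBa, hb, one_mul, Matrix.one_apply]

end alt

section sym

variable {ι : Type*} [Fintype ι] [DecidableEq ι] {F : Type*} [Field F]

theorem dot_eq_half_polar (M : Matrix ι ι F) (hsym : Mᵀ = M) (h2 : (2 : F) ≠ 0) (u v : ι → F) :
    u ⬝ᵥ (M *ᵥ v) = 2⁻¹ * QuadraticMap.polar (matQ M) u v := by
  rw [polar_matQ, hsym, Matrix.add_mulVec, dotProduct_add, ← two_mul, ← mul_assoc,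
    inv_mul_cancel₀ h2, one_mul]

theorem matQ_nondeg_of_sym (M : Matrix ι ι F) (hdet : M.det ≠ 0) (hsym : Mᵀ = M)
    (h2 : (2 : F) ≠ 0) : (QuadraticMap.polarBilin (matQ M)).Nondegenerate := by
  apply matQ_nondeg
  rw [hsym, ← two_smul F M, Matrix.det_smul]
  exact mul_ne_zero (pow_ne_zero _ h2) hdet

/-- the matrix of the polar form of the minus type form -/
def minusN (k : ℕ) (ζ : F) : Matrix ((Fin k ⊕ Fin k) ⊕ Fin 2) ((Fin k ⊕ Fin k) ⊕ Fin 2) F :=
  minusMat k 1 ζ + (minusMat k 1 ζ)ᵀ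

theorem minusN_eq (k : ℕ) (ζ : F) :
    minusN k ζ = fromBlocks (hypBlock k F) 0 0 !![2, 1; 1, 2 * ζ] := by
  unfold minusN
  rw [minusMat_add_transpose]

/-- a non-degenerate symmetric form in even dimension, odd characteristic, is of plus or of
minus type -/
theorem hasType_sym_even [Finite F] (M : Matrix ι ι F) (hdet : M.det ≠ 0) (hsym : Mᵀ = M)
    (h2 : (2 : F) ≠ 0) (m : ℕ) (hm : 1 ≤ m) (hcard : Fintype.card ι = 2 * m) :
    HasType M (hypBlock m F) ∨
      ∃ ζ : F, (∀ t : F, t ^ 2 + t + ζ ≠ 0) ∧ HasType M (minusN (m - 1) ζ) := by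
  have hQ := matQ_nondeg_of_sym M hdet hsym h2
  have hV : Module.finrank F (ι → F) = 2 * m := by
    rw [Module.finrank_fintype_fun_eq_card, hcard]
  rcases Cfsg.Agent.S2616.result hm hV (matQ M) hQ with
    ⟨b, h1, h2', h3⟩ | ⟨b, ζ, hζ, h1, h2', h3, h4, h5, h6, h7⟩
  · left
    apply hasType_of_basis M b _ 2⁻¹ (inv_ne_zero h2)
    intro k l
    rw [dot_eq_half_polar M hsym h2]
    congr 1
    rcases k with i | i <;> rcases l with j | j
    · rw [(h3 i j).1]; simp [hypBlock]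
    · rw [h2' i j]; simp [hypBlock, Matrix.one_apply]
    · rw [QuadraticMap.polar_comm, h2' j i]; simp [hypBlock, Matrix.one_apply, eq_comm]
    · rw [(h3 i j).2]; simp [hypBlock]
  · right
    refine ⟨ζ, hζ, ?_⟩
    apply hasType_of_basis M b _ 2⁻¹ (inv_ne_zero h2)
    intro k l
    rw [dot_eq_half_polar M hsym h2, minusN_eq]
    congr 1
    have hpol0 : QuadraticMap.polar ⇑(matQ M) (b (Sum.inr 0)) (b (Sum.inr 0)) = 2 := by
      rw [QuadraticMap.polar_self, h5]
      simp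
    have hpol1 : QuadraticMap.polar ⇑(matQ M) (b (Sum.inr 1)) (b (Sum.inr 1)) = 2 * ζ := by
      rw [QuadraticMap.polar_self, h7]
      simp
    rcases k with (i | i) | i <;> rcases l with (j | j) | j
    · rw [(h3 i j).1]; simp [hypBlock]
    · rw [h2' i j]; simp [hypBlock, Matrix.one_apply]
    · rw [(h4 i j).1]; simp
    · rw [QuadraticMap.polar_comm, h2' j i]; simp [hypBlock, Matrix.one_apply, eq_comm]
    · rw [(h3 i j).2]; simp [hypBlock]
    · rw [(h4 i j).2]; simp
    · rw [QuadraticMap.polar_comm, (h4 j i).1]; simp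
    · rw [QuadraticMap.polar_comm, (h4 j i).2]; simp
    · fin_cases i <;> fin_cases j
      · simp only [Fin.zero_eta]; rw [hpol0]; simp
      · simp only [Fin.zero_eta, Fin.mk_one]; rw [h6]; simp
      · simp only [Fin.zero_eta, Fin.mk_one]; rw [QuadraticMap.polar_comm, h6]; simp
      · simp only [Fin.mk_one]; rw [hpol1]; simp

/-- the matrix of the polar form of the odd-dimensional form -/
def oddN (m : ℕ) (F : Type*) [Field F] :
    Matrix (Unit ⊕ (Fin m ⊕ Fin m)) (Unit ⊕ (Fin m ⊕ Fin m)) F :=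
  fromBlocks (Matrix.of fun _ _ => (2 : F)) 0 0 (hypBlock m F)

/-- a non-degenerate symmetric form in odd dimension, odd characteristic -/
theorem hasType_sym_odd [Finite F] (M : Matrix ι ι F) (hdet : M.det ≠ 0) (hsym : Mᵀ = M)
    (h2 : (2 : F) ≠ 0) (m : ℕ) (hcard : Fintype.card ι = 2 * m + 1) :
    HasType M (oddN m F) := by
  have hQ := matQ_nondeg_of_sym M hdet hsym h2
  have hV : Module.finrank F (ι → F) = 2 * m + 1 := by
    rw [Module.finrank_fintype_fun_eq_card, hcard]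
  obtain ⟨b, hd, h1, h3, h4, h5⟩ := Cfsg.Agent.S2618.result hV (matQ M) hQ
  obtain ⟨d, hdd⟩ : ∃ d : F, d = matQ M (b (Sum.inl ())) := ⟨_, rfl⟩
  rw [← hdd] at hd
  obtain ⟨w, hw⟩ : ∃ w : Unit ⊕ (Fin m ⊕ Fin m) → Fˣ,
      w = fun k => Sum.elim (fun _ => 1) (Sum.elim (fun _ => 1) (fun _ => Units.mk0 d hd)) k :=
    ⟨_, rfl⟩
  obtain ⟨b', hb'⟩ : ∃ b' : Module.Basis (Unit ⊕ (Fin m ⊕ Fin m)) F (ι → F),
      b' = b.unitsSMul w := ⟨_, rfl⟩
  have hb'a : ∀ k, b' k = ((w k : Fˣ) : F) • b k := by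
    intro k
    rw [hb', Module.Basis.unitsSMul_apply]
    rfl
  have hpol : ∀ k l, QuadraticMap.polar ⇑(matQ M) (b' k) (b' l) =
      ((w k : Fˣ) : F) * ((w l : Fˣ) : F) * QuadraticMap.polar ⇑(matQ M) (b k) (b l) := by
    intro k l
    rw [hb'a, hb'a, QuadraticMap.polar_smul_left, QuadraticMap.polar_smul_right, smul_eq_mul,
      smul_eq_mul, mul_assoc]
  have hpol0 : QuadraticMap.polar ⇑(matQ M) (b (Sum.inl ())) (b (Sum.inl ())) = 2 * d := by
    rw [QuadraticMap.polar_self, ← hdd]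
    simp
  apply hasType_of_basis M b' _ (2⁻¹ * d) (mul_ne_zero (inv_ne_zero h2) hd)
  intro k l
  rw [dot_eq_half_polar M hsym h2, hpol, mul_assoc 2⁻¹]
  congr 1
  rcases k with u | (i | i) <;> rcases l with u' | (j | j)
  · rw [hpol0, hw]; simp [oddN]; ring
  · rw [(h1 j).1, hw]; simp [oddN]
  · rw [(h1 j).2, hw]; simp [oddN]
  · rw [QuadraticMap.polar_comm, (h1 i).1, hw]; simp [oddN]
  · rw [(h5 i j).1, hw]; simp [oddN, hypBlock]
  · rw [h4 i j, hw]; simp [oddN, hypBlock, Matrix.one_apply]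
  · rw [QuadraticMap.polar_comm, (h1 i).2, hw]; simp [oddN]
  · rw [QuadraticMap.polar_comm, h4 j i, hw]; simp [oddN, hypBlock, Matrix.one_apply, eq_comm]
  · rw [(h5 i j).2, hw]; simp [oddN, hypBlock]

end sym

end Cfsg.Agent.Helper2.PGR
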