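import Mathlib
import Cfsg.Agent.Lib.Helper2.Pgr4
import Cfsg.Agent.Lib.Helper2.OrthOrders

set_option autoImplicit false
set_option linter.unusedSimpArgs false
set_option linter.unusedVariables false
set_option linter.unusedSectionVars false

/-! Involutory graph automorphisms of the linear groups, part 5: the similitude groups of the
standard forms. -/

namespace Cfsg.Agent.Helper2.PGR

open Matrix Cfsg.Agent.Helper13 Cfsg.Agent.Helper2.Orth

section simgroups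

variable {κ : Type} [Fintype κ] [DecidableEq κ] {F : Type*} [Field F]

theorem dot_congr (g : Matrix κ κ F) (N : Matrix κ κ F) (u v : κ → F) :
    (g *ᵥ u) ⬝ᵥ (N *ᵥ (g *ᵥ v)) = u ⬝ᵥ ((gᵀ * N * g) *ᵥ v) := by
  conv_rhs => rw [← Matrix.mulVec_mulVec, ← Matrix.mulVec_mulVec, Matrix.dotProduct_mulVec,
    Matrix.vecMul_transpose]

theorem matrix_ext_of_dot (A B : Matrix κ κ F) (h : ∀ u v : κ → F, u ⬝ᵥ (A *ᵥ v) = u ⬝ᵥ (B *ᵥ v)) :
    A = B := by
  ext i j
  have := h (Pi.single i 1) (Pi.single j 1)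
  simpa [Matrix.mulVec_single_one] using this

/-- the similitude group of a matrix as the similarity group of the bilinear form -/
theorem simG_eq_similarityGroup (N : Matrix κ κ F) :
    simG N = Cfsg.Geo.similarityGroup (fun u v : κ → F => u ⬝ᵥ (N *ᵥ v)) := by
  ext g
  constructor
  · rintro ⟨c, hc⟩
    refine ⟨c, fun u v => ?_⟩
    change ((g : Matrix κ κ F) *ᵥ u) ⬝ᵥ (N *ᵥ ((g : Matrix κ κ F) *ᵥ v)) = (c : F) * (u ⬝ᵥ (N *ᵥ v))
    rw [dot_congr, hc, Matrix.smul_mulVec, dotProduct_smul, smul_eq_mul]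
  · rintro ⟨c, hc⟩
    refine ⟨c, ?_⟩
    apply matrix_ext_of_dot
    intro u v
    have := hc u v
    change ((g : Matrix κ κ F) *ᵥ u) ⬝ᵥ (N *ᵥ ((g : Matrix κ κ F) *ᵥ v)) =
      (c : F) * (u ⬝ᵥ (N *ᵥ v)) at this
    rw [← dot_congr, this, Matrix.smul_mulVec, dotProduct_smul, smul_eq_mul]

theorem simG_J (m : ℕ) : simG (Matrix.J (Fin m) F) = Cfsg.GSp m F := by
  rw [simG_eq_similarityGroup]
  rfl

/-- in odd characteristic the similitudes of the polar form are the similitudes of the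
quadratic form -/
theorem simG_polar_eq (h2 : (2 : F) ≠ 0) (A : Matrix κ κ F) :
    simG (A + Aᵀ) = Cfsg.Geo.quadSimilarityGroup (F := F) (⇑(matQ A)) := by
  rw [simG_eq_similarityGroup]
  ext g
  constructor
  · rintro ⟨c, hc⟩
    refine ⟨c, fun v => ?_⟩
    have h := hc v v
    change ((g : Matrix κ κ F) *ᵥ v) ⬝ᵥ ((A + Aᵀ) *ᵥ ((g : Matrix κ κ F) *ᵥ v)) =
      (c : F) * (v ⬝ᵥ ((A + Aᵀ) *ᵥ v)) at h
    rw [← polar_matQ, ← polar_matQ, QuadraticMap.polar_self, QuadraticMap.polar_self] at h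
    simp only [nsmul_eq_mul, Nat.cast_ofNat] at h
    have h3 : (2 : F) * matQ A ((g : Matrix κ κ F) *ᵥ v) = 2 * ((c : F) * matQ A v) := by
      rw [h]
      ring
    exact mul_left_cancel₀ h2 h3
  · rintro ⟨c, hc⟩
    refine ⟨c, fun u v => ?_⟩
    change ((g : Matrix κ κ F) *ᵥ u) ⬝ᵥ ((A + Aᵀ) *ᵥ ((g : Matrix κ κ F) *ᵥ v)) =
      (c : F) * (u ⬝ᵥ ((A + Aᵀ) *ᵥ v))
    rw [← polar_matQ, ← polar_matQ]
    unfold QuadraticMap.polar
    rw [← Matrix.mulVec_add, hc, hc, hc]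
    ring

theorem hypBlock_eq (m : ℕ) : hypBlock m F = plusMat m F + (plusMat m F)ᵀ :=
  (plusMat_add_transpose).symm

theorem oddN_eq (m : ℕ) : oddN m F = oddMat m F + (oddMat m F)ᵀ := by
  unfold oddN oddMat
  rw [fromBlocks_transpose, fromBlocks_add, plusMat_add_transpose]
  congr 1
  · ext i j
    simp [Matrix.one_apply]
    norm_num
  · simp
  · simp

theorem simG_hypBlock (h2 : (2 : F) ≠ 0) (m : ℕ) :
    simG (hypBlock m F) = Cfsg.Geo.quadSimilarityGroup (F := F) (Cfsg.quadFormPlus m F) := by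
  rw [hypBlock_eq, simG_polar_eq h2, quadFormPlus_eq]

theorem simG_minusN (h2 : (2 : F) ≠ 0) (k : ℕ) (ζ : F) :
    simG (minusN k ζ) = Cfsg.Geo.quadSimilarityGroup (F := F) (Cfsg.quadFormMinus k F 1 ζ) := by
  unfold minusN
  rw [simG_polar_eq h2, quadFormMinus_eq]

theorem simG_oddN (h2 : (2 : F) ≠ 0) (m : ℕ) :
    simG (oddN m F) = Cfsg.Geo.quadSimilarityGroup (F := F) (Cfsg.quadFormOdd m F) := by
  rw [oddN_eq, simG_polar_eq h2, quadFormOdd_eq]

end simgroups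

end Cfsg.Agent.Helper2.PGR
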