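import Mathlib
import Cfsg.Agent.Lib.Helper2.Pgr5
import Cfsg.Agent.Lib.Helper17.OrthFA7
import Cfsg.Agent.S2617

set_option autoImplicit false
set_option linter.unusedSimpArgs false
set_option linter.unusedVariables false
set_option linter.unusedSectionVars false

/-! Involutory graph automorphisms of the linear groups, part 6: the structure of the
involutions, reindexing, and the comparison of the types. -/

namespace Cfsg.Agent.Helper2.PGR

open Matrix Matrix.SpecialLinearGroup Cfsg.Agent.Helper2.PN Cfsg.Agent.Helper2.PLB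
  Cfsg.Agent.Helper13 Cfsg.Agent.Helper2.Orth
open scoped MatrixGroups

section invol

variable {n : ℕ} {F : Type*} [Field F] (p : ℕ) [CharP F p] [Fact p.Prime]

include p in
theorem grM_ne_one (hn : 3 ≤ n) (M : GL (Fin n) F) : grM M ≠ 1 := by
  obtain ⟨k, rfl⟩ : ∃ k, n = k + 2 := ⟨n - 2, by omega⟩
  intro h
  apply tauAut_not_mem_range (F := F) p (m := k) (by omega)
  rw [grM_eq] at h
  have h1 : (tauAut : MulAut (Matrix.ProjectiveSpecialLinearGroup (Fin (k + 2)) F)) = Psi M := by
    have : tauAut = (Psi M⁻¹)⁻¹ * (Psi M⁻¹ * tauAut) := by group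
    rw [this, h, mul_one, map_inv, inv_inv]
  rw [h1, Psi_apply]
  exact ⟨_, rfl⟩

include p in
theorem orderOf_grM (hn : 3 ≤ n) (M : GL (Fin n) F) (l : F) (hl : l * l = 1)
    (hM : (M : Matrix (Fin n) (Fin n) F)ᵀ = l • (M : Matrix (Fin n) (Fin n) F)) :
    orderOf (grM M) = 2 := by
  have h1 : grM M * grM M = 1 := (grM_sq_iff p (by omega) M).2 ⟨l, hl, hM⟩
  exact orderOf_eq_prime (by rw [pow_two]; exact h1) (grM_ne_one p hn M)

include p in
/-- **the involutions of graph type** -/
theorem exists_grM_of_invol (γ : MulAut (Matrix.ProjectiveSpecialLinearGroup (Fin n) F))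
    (hγ : Cfsg.IsGraphAutClassPSL γ) (hγ2 : orderOf γ = 2) :
    ∃ M : GL (Fin n) F, γ = grM M ∧
      ((M : Matrix (Fin n) (Fin n) F)ᵀ = (M : Matrix (Fin n) (Fin n) F) ∨
        ((2 : F) ≠ 0 ∧ (M : Matrix (Fin n) (Fin n) F)ᵀ = -(M : Matrix (Fin n) (Fin n) F))) := by
  obtain ⟨hn, M, rfl⟩ := (isGraphClass_iff γ).1 hγ
  refine ⟨M, rfl, ?_⟩
  have h1 : grM M * grM M = 1 := by
    rw [← pow_two, ← hγ2]
    exact pow_orderOf_eq_one _
  obtain ⟨l, hl, hM⟩ := (grM_sq_iff p (by omega) M).1 h1
  rcases mul_self_eq_one_iff.1 hl with rfl | rfl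
  · left
    rw [hM, one_smul]
  · by_cases h2 : (2 : F) = 0
    · left
      have : (-1 : F) = 1 := by
        rw [neg_eq_iff_add_eq_zero]
        rw [← h2]
        norm_num
      rw [hM, this, one_smul]
    · right
      exact ⟨h2, by rw [hM, neg_one_smul]⟩

end invol

section skew

variable {ι : Type*} [Fintype ι] [DecidableEq ι] {F : Type*} [Field F]

/-- a skew-symmetric matrix in odd characteristic is alternating -/
theorem alt_of_skew (h2 : (2 : F) ≠ 0) (M : Matrix ι ι F) (hM : Mᵀ = -M) (v : ι → F) :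
    v ⬝ᵥ (M *ᵥ v) = 0 := by
  have h1 : v ⬝ᵥ (M *ᵥ v) = -(v ⬝ᵥ (M *ᵥ v)) := by
    conv_lhs => rw [Matrix.dotProduct_mulVec, ← Matrix.mulVec_transpose, hM, Matrix.neg_mulVec,
      neg_dotProduct, dotProduct_comm]
  have h3 : (2 : F) * (v ⬝ᵥ (M *ᵥ v)) = 0 := by
    rw [two_mul]
    nth_rewrite 1 [h1]
    exact neg_add_cancel _
  exact (mul_eq_zero.1 h3).resolve_left h2

/-- a symmetric off-diagonal sum vanishes in characteristic two -/
theorem sum_offdiag_eq_zero (h2 : (2 : F) = 0) (f : ι → ι → F) (hf : ∀ i j, f j i = f i j) :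
    ∑ i, ∑ j ∈ Finset.univ.erase i, f i j = 0 := by
  classical
  let lo : LinearOrder ι := LinearOrder.lift' (Fintype.equivFin ι) (Fintype.equivFin ι).injective
  have e1 : ∑ i, ∑ j ∈ Finset.univ.erase i, f i j =
      ∑ i, (∑ j ∈ Finset.univ.filter (fun j => j < i), f i j +
        ∑ j ∈ Finset.univ.filter (fun j => i < j), f i j) := by
    apply Finset.sum_congr rfl
    intro i _
    rw [← Finset.sum_union]
    · apply Finset.sum_congr
      · ext j
        simp only [Finset.mem_erase, Finset.mem_univ, and_true, Finset.mem_union,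
          Finset.mem_filter, true_and]
        exact ⟨fun h => lt_or_gt_of_ne h, fun h => h.elim ne_of_lt ne_of_gt⟩
      · intro j _
        rfl
    · rw [Finset.disjoint_left]
      intro j h1 h2
      simp only [Finset.mem_filter, Finset.mem_univ, true_and] at h1 h2
      exact lt_asymm h1 h2
  rw [e1, Finset.sum_add_distrib]
  have e2 : ∑ i, ∑ j ∈ Finset.univ.filter (fun j => i < j), f i j =
      ∑ i, ∑ j ∈ Finset.univ.filter (fun j => j < i), f i j := by
    rw [Finset.sum_sigma', Finset.sum_sigma']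
    apply Finset.sum_nbij' (fun x => ⟨x.2, x.1⟩) (fun x => ⟨x.2, x.1⟩)
    · intro x hx
      simp only [Finset.mem_sigma, Finset.mem_univ, Finset.mem_filter, true_and] at hx ⊢
      exact hx
    · intro x hx
      simp only [Finset.mem_sigma, Finset.mem_univ, Finset.mem_filter, true_and] at hx ⊢
      exact hx
    · intro x _
      rfl
    · intro x _
      rfl
    · intro x _
      exact (hf _ _).symm
  rw [e2, ← two_mul, h2, zero_mul]

/-- the values of a symmetric form on the diagonal, in characteristic two -/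
theorem dot_self_of_symm_two (h2 : (2 : F) = 0) (M : Matrix ι ι F) (hM : Mᵀ = M) (v : ι → F) :
    v ⬝ᵥ (M *ᵥ v) = ∑ i, M i i * v i ^ 2 := by
  classical
  have hsym : ∀ i j, M i j = M j i := by
    intro i j
    have := congrFun (congrFun hM j) i
    rw [Matrix.transpose_apply] at this
    exact this
  have h1 : v ⬝ᵥ (M *ᵥ v) = ∑ i, ∑ j, v i * M i j * v j := by
    simp only [dotProduct, Matrix.mulVec, Finset.mul_sum, mul_assoc]
  rw [h1]
  have h3 : ∀ i, ∑ j, v i * M i j * v j =
      M i i * v i ^ 2 + ∑ j ∈ Finset.univ.erase i, v i * M i j * v j := by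
    intro i
    rw [← Finset.add_sum_erase _ _ (Finset.mem_univ i)]
    ring
  simp_rw [h3]
  rw [Finset.sum_add_distrib, sum_offdiag_eq_zero h2 (fun i j => v i * M i j * v j) (fun i j => by
      rw [hsym j i]; ring), add_zero]

end skew

end Cfsg.Agent.Helper2.PGR
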