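import Mathlib
import Cfsg.Agent.Lib.Helper2.Pgr6

set_option autoImplicit false
set_option linter.unusedSimpArgs false
set_option linter.unusedVariables false
set_option linter.unusedSectionVars false

/-! Involutory graph automorphisms of the linear groups, part 7: reindexing, the anisotropic
binary forms and the comparison of the plus and the minus type. -/

namespace Cfsg.Agent.Helper2.PGR

open Matrix Cfsg.Agent.Helper13 Cfsg.Agent.Helper2.Orth

section reindex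

variable {ι κ : Type*} [Fintype ι] [DecidableEq ι] [Fintype κ] [DecidableEq κ]
  {F : Type*} [Field F]

/-- reindexing does not change the type -/
theorem hasType_submatrix (e : ι ≃ κ) (N : Matrix κ κ F) : HasType (N.submatrix e e) N := by
  refine ⟨(1 : Matrix κ κ F).submatrix e (Equiv.refl κ), (1 : Matrix κ κ F).submatrix (Equiv.refl κ) e,
    1, one_ne_zero, ?_, ?_, ?_⟩
  · rw [Matrix.submatrix_mul_equiv, Matrix.one_mul, Matrix.submatrix_one_equiv]
  · rw [Matrix.submatrix_mul_equiv, Matrix.one_mul, Matrix.submatrix_one_equiv]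
  · rw [Matrix.transpose_submatrix, Matrix.transpose_one, Matrix.submatrix_mul_equiv,
      Matrix.one_mul, Matrix.submatrix_mul_equiv, Matrix.mul_one, one_smul]
    rfl

theorem det_submatrix_ne_zero (e : ι ≃ κ) (N : Matrix κ κ F) (h : N.det ≠ 0) :
    (N.submatrix e e).det ≠ 0 := by
  rw [Matrix.det_submatrix_equiv_self]
  exact h

/-- a polar form determined by its quadratic form -/
theorem hasType_of_matQ_eq (A₁ : Matrix ι ι F) (A₂ : Matrix κ κ F) (P : Matrix ι κ F)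
    (Pi : Matrix κ ι F) (h1 : P * Pi = 1) (h2 : Pi * P = 1) (d : F) (hd : d ≠ 0)
    (h : ∀ v : κ → F, matQ A₁ (P *ᵥ v) = d * matQ A₂ v) :
    HasType (A₁ + A₁ᵀ) (A₂ + A₂ᵀ) := by
  refine ⟨P, Pi, d, hd, h1, h2, ?_⟩
  ext k l
  have hk : ∀ (B : Matrix κ κ F) (k l : κ),
      (_root_.Pi.single k 1 : κ → F) ⬝ᵥ (B *ᵥ (_root_.Pi.single l 1 : κ → F)) = B k l := by
    intro B k l
    simp [Matrix.mulVec_single_one]
  rw [← hk (Pᵀ * (A₁ + A₁ᵀ) * P) k l, Matrix.smul_apply, ← hk (A₂ + A₂ᵀ) k l, ← polar_matQ,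
    ← Matrix.mulVec_mulVec, ← Matrix.mulVec_mulVec, Matrix.dotProduct_mulVec,
    Matrix.vecMul_transpose, ← polar_matQ]
  unfold QuadraticMap.polar
  rw [← Matrix.mulVec_add, h, h, h, smul_eq_mul]
  ring

end reindex

section zeta

variable {F : Type*} [Field F]

theorem exists_zeta [Finite F] : ∃ ζ : F, ∀ t : F, t ^ 2 + t + ζ ≠ 0 := by
  have hni : ¬ Function.Injective (fun t : F => t ^ 2 + t) := by
    intro hinj
    have h1 : (fun t : F => t ^ 2 + t) 0 = (fun t : F => t ^ 2 + t) (-1) := by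
      simp
    have h2 := hinj h1
    have h3 : (1 : F) = 0 := by
      have := congrArg (fun x : F => x + 1) h2
      simp at this
    exact one_ne_zero h3
  have hns : ¬ Function.Surjective (fun t : F => t ^ 2 + t) := fun hs =>
    hni (Finite.injective_iff_surjective.2 hs)
  rw [Function.Surjective] at hns
  push Not at hns
  obtain ⟨c, hc⟩ := hns
  refine ⟨-c, fun t ht => hc t ?_⟩
  linear_combination ht

theorem aniso_of_zeta (ζ : F) (hζ : ∀ t : F, t ^ 2 + t + ζ ≠ 0) (z₁ z₂ : F)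
    (h : z₁ ^ 2 + 1 * z₁ * z₂ + ζ * z₂ ^ 2 = 0) : z₁ = 0 ∧ z₂ = 0 := by
  by_cases hz : z₂ = 0
  · subst hz
    refine ⟨?_, rfl⟩
    have : z₁ ^ 2 = 0 := by linear_combination h
    exact pow_eq_zero_iff (two_ne_zero) |>.1 this
  · exfalso
    apply hζ (z₁ / z₂)
    field_simp
    linear_combination h

end zeta

section minus

variable {F : Type*} [Field F] [Finite F]

/-- the minus type forms for different anisotropic binary parts have the same type -/
theorem hasType_minusN (k : ℕ) (ζ ζ₀ : F) (hζ : ∀ t : F, t ^ 2 + t + ζ ≠ 0)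
    (hζ₀ : ∀ t : F, t ^ 2 + t + ζ₀ ≠ 0) : HasType (minusN k ζ) (minusN k ζ₀) := by
  have hft : Fintype F := Fintype.ofFinite F
  obtain ⟨T, hT⟩ := Cfsg.Agent.Helper17.OrthFA.exists_bin_iso (1 : F) ζ 1 ζ₀
    (aniso_of_zeta ζ hζ) (aniso_of_zeta ζ₀ hζ₀)
  unfold minusN
  apply hasType_of_matQ_eq (minusMat k 1 ζ) (minusMat k 1 ζ₀)
    (Matrix.fromBlocks (1 : Matrix (Fin k ⊕ Fin k) (Fin k ⊕ Fin k) F) 0 0
      (T : Matrix (Fin 2) (Fin 2) F))
    (Matrix.fromBlocks (1 : Matrix (Fin k ⊕ Fin k) (Fin k ⊕ Fin k) F) 0 0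
      ((T⁻¹ : GL (Fin 2) F) : Matrix (Fin 2) (Fin 2) F)) ?_ ?_ 1 one_ne_zero ?_
  · rw [Matrix.fromBlocks_multiply]
    simp
  · rw [Matrix.fromBlocks_multiply]
    simp
  · intro v
    rw [one_mul, matQ_minusMat, matQ_minusMat]
    have hv : v = Sum.elim (v ∘ Sum.inl) (v ∘ Sum.inr) := by
      funext x
      rcases x with x | x <;> rfl
    have h1 : ∀ x, (Matrix.fromBlocks (1 : Matrix (Fin k ⊕ Fin k) (Fin k ⊕ Fin k) F) 0 0
        (T : Matrix (Fin 2) (Fin 2) F) *ᵥ v) (Sum.inl x) = v (Sum.inl x) := by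
      intro x
      rw [hv, Matrix.fromBlocks_mulVec]
      simp
    have h2 : ∀ x, (Matrix.fromBlocks (1 : Matrix (Fin k ⊕ Fin k) (Fin k ⊕ Fin k) F) 0 0
        (T : Matrix (Fin 2) (Fin 2) F) *ᵥ v) (Sum.inr x) =
        ((T : Matrix (Fin 2) (Fin 2) F) *ᵥ (v ∘ Sum.inr)) x := by
      intro x
      rw [hv, Matrix.fromBlocks_mulVec]
      simp
    simp only [h1, h2]
    congr 1
    have := hT (v ∘ Sum.inr)
    unfold Cfsg.Agent.Helper17.ConfAut.binN at this
    simpa using this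

theorem dot_add_transpose {κ : Type*} [Fintype κ] [DecidableEq κ] (A : Matrix κ κ F)
    (v : κ → F) : v ⬝ᵥ ((A + Aᵀ) *ᵥ v) = 2 * matQ A v := by
  rw [← polar_matQ, QuadraticMap.polar_self]
  simp

/-- the plus type and the minus type are different -/
theorem not_hasType_hyp_minus (h2 : (2 : F) ≠ 0) (m : ℕ) (hm : 1 ≤ m) (ζ : F)
    (hζ : ∀ t : F, t ^ 2 + t + ζ ≠ 0) : ¬ HasType (hypBlock m F) (minusN (m - 1) ζ) := by
  rintro ⟨P, Pi, c, hc, h1, h2', hM⟩
  -- the quadratic forms correspond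
  have hQ : ∀ v, matQ (plusMat m F) (P *ᵥ v) = c * matQ (minusMat (m - 1) 1 ζ) v := by
    intro v
    have e1 := dot_add_transpose (plusMat m F) (P *ᵥ v)
    rw [← hypBlock_eq] at e1
    have e2 : (P *ᵥ v) ⬝ᵥ (hypBlock m F *ᵥ (P *ᵥ v)) = v ⬝ᵥ ((Pᵀ * hypBlock m F * P) *ᵥ v) := by
      conv_rhs => rw [← Matrix.mulVec_mulVec, ← Matrix.mulVec_mulVec, Matrix.dotProduct_mulVec,
        Matrix.vecMul_transpose]
    rw [e2, hM, Matrix.smul_mulVec, dotProduct_smul, smul_eq_mul] at e1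
    unfold minusN at e1
    rw [dot_add_transpose] at e1
    have e3 : (2 : F) * matQ (plusMat m F) (P *ᵥ v) =
        2 * (c * matQ (minusMat (m - 1) 1 ζ) v) := by
      rw [← e1]
      ring
    exact mul_left_cancel₀ h2 e3
  -- rescaling the plus type form
  obtain ⟨D, hD⟩ : ∃ D : Matrix (Fin m ⊕ Fin m) (Fin m ⊕ Fin m) F,
      D = Matrix.fromBlocks (c⁻¹ • (1 : Matrix (Fin m) (Fin m) F)) 0 0 1 := ⟨_, rfl⟩
  obtain ⟨Di, hDi⟩ : ∃ Di : Matrix (Fin m ⊕ Fin m) (Fin m ⊕ Fin m) F,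
      Di = Matrix.fromBlocks (c • (1 : Matrix (Fin m) (Fin m) F)) 0 0 1 := ⟨_, rfl⟩
  have hDDi : D * Di = 1 := by
    rw [hD, hDi, Matrix.fromBlocks_multiply]
    simp [hc]
  have hDiD : Di * D = 1 := by
    rw [hD, hDi, Matrix.fromBlocks_multiply]
    simp [hc]
  have hQD : ∀ w, matQ (plusMat m F) (D *ᵥ w) = c⁻¹ * matQ (plusMat m F) w := by
    intro w
    rw [matQ_plusMat, matQ_plusMat, Finset.mul_sum]
    apply Finset.sum_congr rfl
    intro i _
    have hw : w = Sum.elim (w ∘ Sum.inl) (w ∘ Sum.inr) := by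
      funext x
      rcases x with x | x <;> rfl
    have e1 : (D *ᵥ w) (Sum.inl i) = c⁻¹ * w (Sum.inl i) := by
      rw [hD, hw, Matrix.fromBlocks_mulVec]
      simp [Matrix.smul_mulVec]
    have e2 : (D *ᵥ w) (Sum.inr i) = w (Sum.inr i) := by
      rw [hD, hw, Matrix.fromBlocks_mulVec]
      simp
    rw [e1, e2]
    ring
  have k1 : (D * P) * (Pi * Di) = 1 := by
    calc (D * P) * (Pi * Di) = D * ((P * Pi) * Di) := by simp only [Matrix.mul_assoc]
      _ = 1 := by rw [h1, Matrix.one_mul, hDDi]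
  have k2 : (Pi * Di) * (D * P) = 1 := by
    calc (Pi * Di) * (D * P) = Pi * ((Di * D) * P) := by simp only [Matrix.mul_assoc]
      _ = 1 := by rw [hDiD, Matrix.one_mul, h2']
  have hfin : Finite F := inferInstance
  apply Cfsg.Agent.S2617.result hm ζ hζ (Matrix.toLin'OfInv k1 k2)
  intro v
  change Cfsg.quadFormMinus (m - 1) F 1 ζ (Matrix.toLin' (Pi * Di) v) = Cfsg.quadFormPlus m F v
  rw [quadFormMinus_eq, quadFormPlus_eq, Matrix.toLin'_apply]
  have e1 : v = D *ᵥ (P *ᵥ ((Pi * Di) *ᵥ v)) := by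
    rw [Matrix.mulVec_mulVec, Matrix.mulVec_mulVec]
    have : D * P * (Pi * Di) = 1 := k1
    rw [this, Matrix.one_mulVec]
  conv_rhs => rw [e1]
  rw [hQD, hQ, ← mul_assoc, inv_mul_cancel₀ hc, one_mul]

end minus

end Cfsg.Agent.Helper2.PGR
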