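import Mathlib
import Cfsg.Agent.Lib.Helper2.Pgr7

set_option autoImplicit false
set_option linter.unusedSimpArgs false
set_option linter.unusedVariables false
set_option linter.unusedSectionVars false

/-! Involutory graph automorphisms of the linear groups, part 8: the standard automorphism of a
given type and its properties. -/

namespace Cfsg.Agent.Helper2.PGR

open Matrix Matrix.SpecialLinearGroup Cfsg.Agent.Helper2.PN Cfsg.Agent.Helper2.PLB
  Cfsg.Agent.Helper13 Cfsg.Agent.Helper2.Orth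
open scoped MatrixGroups

section std

variable {n : ℕ} {κ : Type} [Fintype κ] [DecidableEq κ] {F : Type*} [Field F]

/-- the matrix of the standard form of type `N`, reindexed -/
noncomputable def stdM (e : Fin n ≃ κ) (N : Matrix κ κ F) (h : N.det ≠ 0) : GL (Fin n) F :=
  Matrix.GeneralLinearGroup.mkOfDetNeZero (N.submatrix e e) (det_submatrix_ne_zero e N h)

theorem coe_stdM (e : Fin n ≃ κ) (N : Matrix κ κ F) (h : N.det ≠ 0) :
    ((stdM e N h : GL (Fin n) F) : Matrix (Fin n) (Fin n) F) = N.submatrix e e := rfl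

theorem hasType_stdM (e : Fin n ≃ κ) (N : Matrix κ κ F) (h : N.det ≠ 0) :
    HasType ((stdM e N h : GL (Fin n) F) : Matrix (Fin n) (Fin n) F) N := by
  rw [coe_stdM]
  exact hasType_submatrix e N

variable (p : ℕ) [CharP F p] [Fact p.Prime]

include p in
/-- the standard automorphism is an involutory graph automorphism -/
theorem stdM_invol (hn : 3 ≤ n) (e : Fin n ≃ κ) (N : Matrix κ κ F) (h : N.det ≠ 0) (l : F)
    (hl : l * l = 1) (hN : Nᵀ = l • N) :
    Cfsg.IsGraphAutClassPSL (grM (stdM e N h)) ∧ orderOf (grM (stdM e N h)) = 2 := by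
  refine ⟨(isGraphClass_iff _).2 ⟨hn, _, rfl⟩, orderOf_grM p hn _ l hl ?_⟩
  rw [coe_stdM, Matrix.transpose_submatrix, hN]
  rfl

include p in
/-- the centralizer of the standard automorphism -/
theorem stdM_centralizer (hn : 2 ≤ n) (e : Fin n ≃ κ) (N : Matrix κ κ F) (h : N.det ≠ 0)
    (H : Subgroup (GL κ F)) (hH : H = simG N) :
    Nonempty (↥(Cfsg.inndiagPSL n F ⊓ Subgroup.centralizer {grM (stdM e N h)}) ≃*
      Cfsg.projQuot H) :=
  centralizer_equiv_of_hasType p hn _ N (hasType_stdM e N h) H hH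

include p in
/-- an automorphism of the type `N` is conjugate to the standard one -/
theorem stdM_conj (hn : 2 ≤ n) (e : Fin n ≃ κ) (N : Matrix κ κ F) (h : N.det ≠ 0)
    (M : GL (Fin n) F) (hM : HasType (M : Matrix (Fin n) (Fin n) F) N) :
    Cfsg.IsConjUnder (Cfsg.inndiagPSL n F) (grM (stdM e N h)) (grM M) :=
  conj_of_hasType p hn _ M N (hasType_stdM e N h) hM

include p in
/-- conjugate standard automorphisms have the same type -/
theorem hasType_of_stdM_conj (hn : 2 ≤ n) {κ' : Type} [Fintype κ'] [DecidableEq κ']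
    (e : Fin n ≃ κ) (N : Matrix κ κ F) (h : N.det ≠ 0)
    (e' : Fin n ≃ κ') (N' : Matrix κ' κ' F) (h' : N'.det ≠ 0)
    (hc : Cfsg.IsConjUnder (Cfsg.inndiagPSL n F) (grM (stdM e N h)) (grM (stdM e' N' h'))) :
    HasType N' N :=
  (hasType_stdM e' N' h').symm.trans
    (hasType_of_conj p hn _ _ N hc (hasType_stdM e N h))

end std

section dets

variable {F : Type*} [Field F]

theorem J_det_ne_zero (m : ℕ) : (Matrix.J (Fin m) F).det ≠ 0 :=
  (Matrix.isUnit_det_J (Fin m) F).ne_zero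

theorem hypBlock_det_ne_zero (m : ℕ) : (hypBlock m F).det ≠ 0 := by
  rw [hypBlock_det]
  exact pow_ne_zero _ (neg_ne_zero.2 one_ne_zero)

theorem hypBlock_transpose (m : ℕ) : (hypBlock m F)ᵀ = hypBlock m F := by
  rw [hypBlock_eq, Matrix.transpose_add, Matrix.transpose_transpose, add_comm]

theorem minusN_transpose (k : ℕ) (ζ : F) : (minusN k ζ)ᵀ = minusN k ζ := by
  unfold minusN
  rw [Matrix.transpose_add, Matrix.transpose_transpose, add_comm]

theorem oddN_transpose (m : ℕ) : (oddN m F)ᵀ = oddN m F := by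
  rw [oddN_eq, Matrix.transpose_add, Matrix.transpose_transpose, add_comm]

theorem minusN_det_ne_zero (k : ℕ) (ζ : F) (h2 : (2 : F) ≠ 0)
    (hζ : ∀ t : F, t ^ 2 + t + ζ ≠ 0) : (minusN k ζ).det ≠ 0 := by
  rw [minusN_eq, Matrix.det_fromBlocks_zero₂₁, hypBlock_det, Matrix.det_fin_two_of]
  apply mul_ne_zero (pow_ne_zero _ (neg_ne_zero.2 one_ne_zero))
  intro h
  apply hζ (-(2⁻¹))
  have h4 : (2 : F) * 2⁻¹ = 1 := mul_inv_cancel₀ h2
  have h5 : ζ = 2⁻¹ * 2⁻¹ := by
    have : (2 : F) * 2 * ζ = 1 := by linear_combination h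
    calc ζ = (2⁻¹ * 2⁻¹) * ((2 : F) * 2 * ζ) := by
          have : (2⁻¹ * 2⁻¹ : F) * (2 * 2) = 1 := by
            calc (2⁻¹ * 2⁻¹ : F) * (2 * 2) = (2 * 2⁻¹) * (2 * 2⁻¹) := by ring
              _ = 1 := by rw [h4, one_mul]
          calc ζ = 1 * ζ := (one_mul ζ).symm
            _ = (2⁻¹ * 2⁻¹ : F) * (2 * 2) * ζ := by rw [this]
            _ = (2⁻¹ * 2⁻¹) * ((2 : F) * 2 * ζ) := by ring
      _ = 2⁻¹ * 2⁻¹ := by rw [this, mul_one]
  rw [h5]
  have : (-(2⁻¹ : F)) ^ 2 + -(2⁻¹) + 2⁻¹ * 2⁻¹ = 2⁻¹ * (2 * 2⁻¹ - 1) := by ring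
  rw [this, h4, sub_self, mul_zero]

theorem oddN_det_ne_zero (m : ℕ) (h2 : (2 : F) ≠ 0) : (oddN m F).det ≠ 0 := by
  rw [oddN_eq, oddMat_det]
  exact mul_ne_zero h2 (pow_ne_zero _ (neg_ne_zero.2 one_ne_zero))

/-- a non-zero symmetric form and a skew-symmetric form have different types in odd
characteristic -/
theorem not_hasType_sym_skew {ι κ : Type*} [Fintype ι] [DecidableEq ι] [Fintype κ] [DecidableEq κ]
    (h2 : (2 : F) ≠ 0) (N₁ : Matrix ι ι F) (N₂ : Matrix κ κ F) (h1 : N₁ᵀ = N₁) (hne : N₁ ≠ 0)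
    (hskew : N₂ᵀ = -N₂) : ¬ HasType N₁ N₂ := by
  intro h
  have h3 := h.transpose_eq (-1) (by rw [hskew, neg_one_smul])
  rw [h1, neg_one_smul] at h3
  apply hne
  have h4 : (2 : F) • N₁ = 0 := by
    rw [two_smul]
    nth_rewrite 1 [h3]
    exact neg_add_cancel _
  rcases smul_eq_zero.1 h4 with h | h
  · exact absurd h h2
  · exact h

end dets

end Cfsg.Agent.Helper2.PGR
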