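import Mathlib
import Cfsg.Agent.Lib.Helper2.Pgr8

set_option autoImplicit false
set_option linter.unusedSimpArgs false
set_option linter.unusedVariables false
set_option linter.unusedSectionVars false

/-! Involutory graph automorphisms of the linear groups, part 9: determinants and types; the
type of the identity matrix. -/

namespace Cfsg.Agent.Helper2.PGR

open Matrix Cfsg.Agent.Helper13 Cfsg.Agent.Helper2.Orth

section dets

variable {ι κ : Type*} [Fintype ι] [DecidableEq ι] [Fintype κ] [DecidableEq κ]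
  {F : Type*} [Field F]

theorem card_eq_of_hasType {M : Matrix ι ι F} {N : Matrix κ κ F} (h : HasType M N) :
    Fintype.card ι = Fintype.card κ := by
  obtain ⟨P, Pi, c, hc, h1, h2, hM⟩ := h
  have e : (ι → F) ≃ₗ[F] (κ → F) := Matrix.toLin'OfInv h1 h2
  have := LinearEquiv.finrank_eq e
  rw [Module.finrank_fintype_fun_eq_card, Module.finrank_fintype_fun_eq_card] at this
  exact this

/-- the determinants of two forms of the same type -/
theorem det_of_hasType {M : Matrix ι ι F} {N : Matrix κ κ F} (h : HasType M N) :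
    ∃ s c : F, s ≠ 0 ∧ c ≠ 0 ∧ s ^ 2 * M.det = c ^ (Fintype.card κ) * N.det := by
  have hcard := card_eq_of_hasType h
  obtain ⟨P, Pi, c, hc, h1, h2, hM⟩ := h
  have e : ι ≃ κ := Fintype.equivOfCardEq hcard
  obtain ⟨P', hP'⟩ : ∃ P' : Matrix ι ι F, P' = P.submatrix id e := ⟨_, rfl⟩
  have hinv : P' * (Pi.submatrix e id) = 1 := by
    rw [hP']
    have := Matrix.submatrix_mul_equiv P Pi (id : ι → ι) e (id : ι → ι)
    rw [this, h1]
    exact Matrix.submatrix_one_equiv (Equiv.refl ι)
  have hdet : P'.det ≠ 0 := Matrix.det_ne_zero_of_right_inverse hinv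
  have h3 : P'ᵀ * M * P' = c • N.submatrix e e := by
    rw [hP', Matrix.transpose_submatrix]
    have e1 : (Pᵀ.submatrix e id) * M = (Pᵀ * M).submatrix e id := by
      ext i j
      simp [Matrix.mul_apply]
    have e2 : ((Pᵀ * M).submatrix e id) * (P.submatrix id e) = (Pᵀ * M * P).submatrix e e := by
      ext i j
      simp [Matrix.mul_apply]
    rw [e1, e2, hM]
    rfl
  refine ⟨P'.det, c, hdet, hc, ?_⟩
  have h4 := congrArg Matrix.det h3
  rw [Matrix.det_mul, Matrix.det_mul, Matrix.det_transpose, Matrix.det_smul,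
    Matrix.det_submatrix_equiv_self, hcard] at h4
  rw [← h4]
  ring

end dets

section identity

variable {F : Type*} [Field F] [Fintype F]

/-- the sign condition in terms of the order of the field -/
theorem isSquare_neg_one_pow_iff (hodd : Odd (Fintype.card F)) (m : ℕ) :
    IsSquare ((-1 : F) ^ m) ↔ Even (2 * m * (Fintype.card F - 1) / 4) := by
  obtain ⟨k, hk⟩ := hodd
  have h1 : 2 * m * (Fintype.card F - 1) / 4 = m * k := by
    rw [hk]
    have : 2 * m * (2 * k + 1 - 1) = 4 * (m * k) := by
      rw [Nat.add_sub_cancel]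
      ring
    rw [this, Nat.mul_div_cancel_left _ (by norm_num : 0 < 4)]
  rw [h1, Nat.even_mul]
  rcases Nat.even_or_odd m with hm | hm
  · have : ((-1 : F)) ^ m = 1 := Even.neg_one_pow hm
    rw [this]
    exact ⟨fun _ => Or.inl hm, fun _ => IsSquare.one⟩
  · have : ((-1 : F)) ^ m = -1 := Odd.neg_one_pow hm
    rw [this, FiniteField.isSquare_neg_one_iff, hk]
    constructor
    · intro h
      right
      rcases Nat.even_or_odd k with hk' | hk'
      · exact hk'
      · exfalso
        obtain ⟨j, hj⟩ := hk'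
        apply h
        omega
    · rintro (h | h)
      · exact absurd h (Nat.not_even_iff_odd.2 hm)
      · obtain ⟨j, hj⟩ := h
        omega

/-- the identity matrix in even dimension: plus type if and only if `(-1)^m` is a square -/
theorem hasType_one_even (h2 : (2 : F) ≠ 0) (n m : ℕ) (hm : 1 ≤ m) (hnm : n = 2 * m) :
    (IsSquare ((-1 : F) ^ m) → HasType (1 : Matrix (Fin n) (Fin n) F) (hypBlock m F)) ∧
    (¬ IsSquare ((-1 : F) ^ m) → ∃ ζ : F, (∀ t : F, t ^ 2 + t + ζ ≠ 0) ∧
      HasType (1 : Matrix (Fin n) (Fin n) F) (minusN (m - 1) ζ)) := by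
  have hfin : Finite F := inferInstance
  have hdich := hasType_sym_even (1 : Matrix (Fin n) (Fin n) F) (by rw [Matrix.det_one]; exact one_ne_zero)
    Matrix.transpose_one h2 m hm (by rw [Fintype.card_fin]; exact hnm)
  constructor
  · intro hsq
    rcases hdich with h | ⟨ζ, hζ, h⟩
    · exact h
    · exfalso
      obtain ⟨s, c, hs, hc, hdet⟩ := det_of_hasType h
      rw [Matrix.det_one, mul_one, minusN_eq, Matrix.det_fromBlocks_zero₂₁, hypBlock_det,
        Matrix.det_fin_two_of] at hdet
      have hcard : Fintype.card ((Fin (m - 1) ⊕ Fin (m - 1)) ⊕ Fin 2) = 2 * m := by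
        simp only [Fintype.card_sum, Fintype.card_fin]
        omega
      rw [hcard] at hdet
      obtain ⟨r, hr⟩ := hsq
      -- `1 - 4 ζ` is a square
      have hm1 : (-1 : F) ^ m = (-1) ^ (m - 1) * (-1) := by
        rw [← pow_succ]
        congr 1
        omega
      have hpm : ((-1 : F) ^ (m - 1)) * ((-1 : F) ^ (m - 1)) = 1 := by
        rw [← mul_pow]
        simp
      have hsq2 : (1 : F) - 4 * ζ = (s * r * (-1) ^ (m - 1) / c ^ m) ^ 2 := by
        have hcm : c ^ m ≠ 0 := pow_ne_zero _ hc
        rw [div_pow, eq_div_iff (pow_ne_zero _ hcm)]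
        have e1 : (s * r * (-1) ^ (m - 1)) ^ 2 = s ^ 2 * (r * r) * ((-1) ^ (m - 1) * (-1) ^ (m - 1)) := by
          ring
        rw [e1, ← hr, hdet, hpm, hm1]
        have e2 : ((-1 : F) ^ (m - 1)) * ((-1 : F) ^ (m - 1)) = 1 := hpm
        have : c ^ (2 * m) = (c ^ m) ^ 2 := by rw [← pow_mul, mul_comm]
        rw [this]
        linear_combination ((c ^ m) ^ 2 * (4 * ζ - 1)) * e2
      obtain ⟨w, hw⟩ : ∃ w : F, w = s * r * (-1) ^ (m - 1) / c ^ m := ⟨_, rfl⟩
      rw [← hw] at hsq2
      apply hζ ((w - 1) / 2)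
      field_simp
      linear_combination (-1 : F) * hsq2
  · intro hnsq
    rcases hdich with h | h
    · exfalso
      apply hnsq
      obtain ⟨s, c, hs, hc, hdet⟩ := det_of_hasType h
      rw [Matrix.det_one, mul_one, hypBlock_det] at hdet
      have hcard : Fintype.card (Fin m ⊕ Fin m) = 2 * m := by
        simp only [Fintype.card_sum, Fintype.card_fin]
        omega
      rw [hcard] at hdet
      refine ⟨s / c ^ m, ?_⟩
      have hcm : c ^ m ≠ 0 := pow_ne_zero _ hc
      have : c ^ (2 * m) = (c ^ m) ^ 2 := by rw [← pow_mul, mul_comm]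
      rw [this] at hdet
      field_simp
      linear_combination (-1 : F) * hdet
    · exact h

end identity

end Cfsg.Agent.Helper2.PGR
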