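import Mathlib
import Cfsg.Agent.Lib.Helper2.Pgr9

set_option autoImplicit false
set_option linter.unusedSimpArgs false
set_option linter.unusedVariables false
set_option linter.unusedSectionVars false

/-! Involutory graph automorphisms of the linear groups, part 10: characteristic two, odd
dimension. The similitudes of the quadratic form `x₀² + Σ xᵢ yᵢ` and those of the symmetric
bilinear form `x₀ x₀' + Σ (xᵢ yᵢ' + yᵢ xᵢ')`. -/

namespace Cfsg.Agent.Helper2.PGR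

open Matrix Cfsg.Agent.Helper13 Cfsg.Agent.Helper2.Orth

section chartwo

variable {F : Type*} [Field F] {m : ℕ}

/-- the symmetric form which is not alternating, in odd dimension -/
def oddB (m : ℕ) (F : Type*) [Field F] :
    Matrix (Unit ⊕ (Fin m ⊕ Fin m)) (Unit ⊕ (Fin m ⊕ Fin m)) F :=
  fromBlocks 1 0 0 (hypBlock m F)

theorem dot_add_transpose' {κ : Type*} [Fintype κ] [DecidableEq κ] (A : Matrix κ κ F)
    (v : κ → F) : v ⬝ᵥ ((A + Aᵀ) *ᵥ v) = 2 * matQ A v := by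
  rw [← polar_matQ, QuadraticMap.polar_self]
  simp

theorem hyp_alt (h2 : (2 : F) = 0) (w : Fin m ⊕ Fin m → F) :
    w ⬝ᵥ (hypBlock m F *ᵥ w) = 0 := by
  rw [hypBlock_eq, dot_add_transpose', h2, zero_mul]

theorem hyp_mul_hyp : hypBlock m F * hypBlock m F = 1 := by
  unfold hypBlock
  rw [Matrix.fromBlocks_multiply]
  simp [Matrix.fromBlocks_one]

theorem sq_inj_two (h2 : (2 : F) = 0) {x y : F} (h : x ^ 2 = y ^ 2) : x = y := by
  have h1 : (x - y) ^ 2 = 0 := by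
    linear_combination h + (y * y - x * y) * h2
  exact sub_eq_zero.1 ((pow_eq_zero_iff two_ne_zero).1 h1)

theorem add_sq_two (h2 : (2 : F) = 0) (x y : F) : (x + y) ^ 2 = x ^ 2 + y ^ 2 := by
  linear_combination (x * y) * h2

theorem sum_sq_two {ι : Type*} (h2 : (2 : F) = 0) (s : Finset ι) (f : ι → F) :
    (∑ i ∈ s, f i) ^ 2 = ∑ i ∈ s, f i ^ 2 := by
  classical
  induction s using Finset.induction_on with
  | empty => simp
  | insert a s ha ih => rw [Finset.sum_insert ha, Finset.sum_insert ha, add_sq_two h2, ih]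

/-- block matrices -/
def blk (a : F) (r c : Fin m ⊕ Fin m → F) (D : Matrix (Fin m ⊕ Fin m) (Fin m ⊕ Fin m) F) :
    Matrix (Unit ⊕ (Fin m ⊕ Fin m)) (Unit ⊕ (Fin m ⊕ Fin m)) F :=
  fromBlocks (Matrix.of fun _ _ => a) (Matrix.of fun _ j => r j) (Matrix.of fun j _ => c j) D

/-- the decomposition of a matrix into blocks -/
theorem exists_blocks (G : Matrix (Unit ⊕ (Fin m ⊕ Fin m)) (Unit ⊕ (Fin m ⊕ Fin m)) F) :
    ∃ (a : F) (r c : Fin m ⊕ Fin m → F) (D : Matrix (Fin m ⊕ Fin m) (Fin m ⊕ Fin m) F),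
      G = blk a r c D := by
  refine ⟨G (Sum.inl ()) (Sum.inl ()), fun j => G (Sum.inl ()) (Sum.inr j),
    fun j => G (Sum.inr j) (Sum.inl ()), G.toBlocks₂₂, ?_⟩
  ext i j
  rcases i with i | i <;> rcases j with j | j <;> rfl

/-- the action of a block matrix on a vector -/
theorem blk_mulVec (a : F) (r c : Fin m ⊕ Fin m → F)
    (D : Matrix (Fin m ⊕ Fin m) (Fin m ⊕ Fin m) F) (x : F) (w : Fin m ⊕ Fin m → F) :
    blk a r c D *ᵥ (Sum.elim (fun _ => x) w) =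
      Sum.elim (fun _ => a * x + r ⬝ᵥ w) (x • c + D *ᵥ w) := by
  unfold blk
  rw [Matrix.fromBlocks_mulVec]
  funext i
  rcases i with i | i
  · simp [Matrix.mulVec, dotProduct]
  · simp [Matrix.mulVec, dotProduct, mul_comm]

theorem eq_elim (v : Unit ⊕ (Fin m ⊕ Fin m) → F) :
    v = Sum.elim (fun _ => v (Sum.inl ())) (fun j => v (Sum.inr j)) := by
  funext i
  rcases i with i | i <;> rfl

theorem matQ_oddMat_elim (x : F) (w : Fin m ⊕ Fin m → F) :
    matQ (oddMat m F) (Sum.elim (fun _ => x) w) = x ^ 2 + matQ (plusMat m F) w := by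
  rw [matQ_oddMat, matQ_plusMat]
  rfl

/-- the bilinear form of a block diagonal matrix -/
theorem dot_blocks (x : F) (N : Matrix (Fin m ⊕ Fin m) (Fin m ⊕ Fin m) F) (x₁ x₂ : F)
    (w₁ w₂ : Fin m ⊕ Fin m → F) :
    (Sum.elim (fun _ : Unit => x₁) w₁) ⬝ᵥ
      (fromBlocks (Matrix.of fun (_ _ : Unit) => x) 0 0 N *ᵥ Sum.elim (fun _ : Unit => x₂) w₂) =
      x₁ * x * x₂ + w₁ ⬝ᵥ (N *ᵥ w₂) := by
  rw [Matrix.fromBlocks_mulVec]
  simp [dotProduct, Matrix.mulVec, mul_assoc]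

theorem polar_of_quadSim {κ : Type*} [Fintype κ] [DecidableEq κ] (A G : Matrix κ κ F) (c : F)
    (h : ∀ v, matQ A (G *ᵥ v) = c * matQ A v) (u v : κ → F) :
    (G *ᵥ u) ⬝ᵥ ((A + Aᵀ) *ᵥ (G *ᵥ v)) = c * (u ⬝ᵥ ((A + Aᵀ) *ᵥ v)) := by
  rw [← polar_matQ, ← polar_matQ]
  unfold QuadraticMap.polar
  rw [← Matrix.mulVec_add, h, h, h]
  ring

/-- the consequences of a similitude condition for a block matrix -/
theorem core_analysis (x a : F) (r c' : Fin m ⊕ Fin m → F)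
    (D : Matrix (Fin m ⊕ Fin m) (Fin m ⊕ Fin m) F) (c : F)
    (h : ∀ u v, (blk a r c' D *ᵥ u) ⬝ᵥ
      (fromBlocks (Matrix.of fun (_ _ : Unit) => x) 0 0 (hypBlock m F) *ᵥ (blk a r c' D *ᵥ v)) =
        c * (u ⬝ᵥ (fromBlocks (Matrix.of fun (_ _ : Unit) => x) 0 0 (hypBlock m F) *ᵥ v))) :
    (∀ w₁ w₂, x * (r ⬝ᵥ w₁) * (r ⬝ᵥ w₂) + (D *ᵥ w₁) ⬝ᵥ (hypBlock m F *ᵥ (D *ᵥ w₂)) =
      c * (w₁ ⬝ᵥ (hypBlock m F *ᵥ w₂))) ∧
    (∀ w, a * x * (r ⬝ᵥ w) + c' ⬝ᵥ (hypBlock m F *ᵥ (D *ᵥ w)) = 0) ∧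
    a * x * a + c' ⬝ᵥ (hypBlock m F *ᵥ c') = c * x := by
  refine ⟨fun w₁ w₂ => ?_, fun w => ?_, ?_⟩
  · have := h (Sum.elim (fun _ => 0) w₁) (Sum.elim (fun _ => 0) w₂)
    simp only [blk_mulVec, dot_blocks] at this
    simpa [mul_comm, mul_left_comm] using this
  · have := h (Sum.elim (fun _ => 1) 0) (Sum.elim (fun _ => 0) w)
    simp only [blk_mulVec, dot_blocks] at this
    simpa using this
  · have := h (Sum.elim (fun _ => 1) 0) (Sum.elim (fun _ => 1) 0)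
    simp only [blk_mulVec, dot_blocks] at this
    simpa using this

/-- a similitude of the hyperbolic form is invertible -/
theorem hyp_sim_inv (D : Matrix (Fin m ⊕ Fin m) (Fin m ⊕ Fin m) F) (c : F) (hc : c ≠ 0)
    (hD : ∀ w₁ w₂, (D *ᵥ w₁) ⬝ᵥ (hypBlock m F *ᵥ (D *ᵥ w₂)) = c * (w₁ ⬝ᵥ (hypBlock m F *ᵥ w₂))) :
    Dᵀ * hypBlock m F * D = c • hypBlock m F ∧ ∃ Di, D * Di = 1 ∧ Di * D = 1 := by
  have h1 : Dᵀ * hypBlock m F * D = c • hypBlock m F := by
    apply matrix_ext_of_dot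
    intro u v
    rw [← dot_congr, hD, Matrix.smul_mulVec, dotProduct_smul, smul_eq_mul]
  refine ⟨h1, c⁻¹ • (hypBlock m F * Dᵀ * hypBlock m F), ?_⟩
  have h2 : c⁻¹ • (hypBlock m F * Dᵀ * hypBlock m F) * D = 1 := by
    rw [Matrix.smul_mul, Matrix.mul_assoc, Matrix.mul_assoc, ← Matrix.mul_assoc Dᵀ, h1,
      Matrix.mul_smul, smul_smul, inv_mul_cancel₀ hc, one_smul, hyp_mul_hyp]
  exact ⟨mul_eq_one_comm.1 h2, h2⟩

theorem col_zero (c' : Fin m ⊕ Fin m → F) (D Di : Matrix (Fin m ⊕ Fin m) (Fin m ⊕ Fin m) F)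
    (hD : D * Di = 1) (h : ∀ w, c' ⬝ᵥ (hypBlock m F *ᵥ (D *ᵥ w)) = 0) : c' = 0 := by
  funext j
  have := h (Di *ᵥ (hypBlock m F *ᵥ Pi.single j 1))
  rw [Matrix.mulVec_mulVec _ D Di, hD, Matrix.one_mulVec, Matrix.mulVec_mulVec, hyp_mul_hyp,
    Matrix.one_mulVec, dotProduct_single_one] at this
  exact this

theorem vec_eq_zero_of_dot {κ : Type*} [Fintype κ] [DecidableEq κ] (r : κ → F)
    (h : ∀ w, r ⬝ᵥ w = 0) : r = 0 := by
  funext j
  have := h (Pi.single j 1)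
  rw [dotProduct_single_one] at this
  exact this

theorem oddB_eq' : oddB m F = fromBlocks (Matrix.of fun (_ _ : Unit) => (1 : F)) 0 0
    (hypBlock m F) := by
  unfold oddB
  congr 1

theorem oddN_eq' : oddMat m F + (oddMat m F)ᵀ =
    fromBlocks (Matrix.of fun (_ _ : Unit) => (2 : F)) 0 0 (hypBlock m F) := by
  rw [← oddN_eq]
  rfl

/-- similitudes of the quadratic form in odd dimension, characteristic two -/
theorem quad_iff (h2 : (2 : F) = 0) (a : F) (r c' : Fin m ⊕ Fin m → F)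
    (D : Matrix (Fin m ⊕ Fin m) (Fin m ⊕ Fin m) F) (c : F) (hc : c ≠ 0) :
    (∀ v, matQ (oddMat m F) (blk a r c' D *ᵥ v) = c * matQ (oddMat m F) v) ↔
      c' = 0 ∧ a ^ 2 = c ∧ Dᵀ * hypBlock m F * D = c • hypBlock m F ∧
        ∀ w, (r ⬝ᵥ w) ^ 2 + matQ (plusMat m F) (D *ᵥ w) = c * matQ (plusMat m F) w := by
  constructor
  · intro h
    have hp := polar_of_quadSim (oddMat m F) (blk a r c' D) c h
    rw [oddN_eq'] at hp
    obtain ⟨h1, h3, -⟩ := core_analysis 2 a r c' D c hp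
    have h1' : ∀ w₁ w₂, (D *ᵥ w₁) ⬝ᵥ (hypBlock m F *ᵥ (D *ᵥ w₂)) =
        c * (w₁ ⬝ᵥ (hypBlock m F *ᵥ w₂)) := by
      intro w₁ w₂
      have := h1 w₁ w₂
      rw [h2, zero_mul, zero_mul, zero_add] at this
      exact this
    obtain ⟨hDD, Di, hDi, -⟩ := hyp_sim_inv D c hc h1'
    have hc' : c' = 0 := by
      apply col_zero c' D Di hDi
      intro w
      have := h3 w
      rw [h2, mul_zero, zero_mul, zero_add] at this
      exact this
    refine ⟨hc', ?_, hDD, fun w => ?_⟩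
    · have := h (Sum.elim (fun _ => 1) 0)
      rw [blk_mulVec, matQ_oddMat_elim, matQ_oddMat_elim, hc'] at this
      simpa using this
    · have := h (Sum.elim (fun _ => 0) w)
      rw [blk_mulVec, matQ_oddMat_elim, matQ_oddMat_elim, hc'] at this
      simpa using this
  · rintro ⟨rfl, ha, -, hw⟩ v
    rw [eq_elim v, blk_mulVec, matQ_oddMat_elim, matQ_oddMat_elim, add_sq_two h2, smul_zero,
      zero_add, add_assoc, hw, mul_pow, ha]
    ring

/-- similitudes of the symmetric bilinear form in odd dimension, characteristic two -/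
theorem bil_iff (h2 : (2 : F) = 0) (a : F) (r c' : Fin m ⊕ Fin m → F)
    (D : Matrix (Fin m ⊕ Fin m) (Fin m ⊕ Fin m) F) (c : F) (hc : c ≠ 0) :
    (blk a r c' D)ᵀ * oddB m F * blk a r c' D = c • oddB m F ↔
      c' = 0 ∧ r = 0 ∧ a ^ 2 = c ∧ Dᵀ * hypBlock m F * D = c • hypBlock m F := by
  constructor
  · intro h
    have hp : ∀ u v, (blk a r c' D *ᵥ u) ⬝ᵥ (oddB m F *ᵥ (blk a r c' D *ᵥ v)) =
        c * (u ⬝ᵥ (oddB m F *ᵥ v)) := by
      intro u v
      rw [dot_congr, h, Matrix.smul_mulVec, dotProduct_smul, smul_eq_mul]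
    rw [oddB_eq'] at hp
    obtain ⟨h1, h3, h4⟩ := core_analysis 1 a r c' D c hp
    have hr : r = 0 := by
      apply vec_eq_zero_of_dot
      intro w
      have := h1 w w
      rw [hyp_alt h2, hyp_alt h2, mul_zero, add_zero, one_mul] at this
      exact mul_self_eq_zero.1 this
    have h1' : ∀ w₁ w₂, (D *ᵥ w₁) ⬝ᵥ (hypBlock m F *ᵥ (D *ᵥ w₂)) =
        c * (w₁ ⬝ᵥ (hypBlock m F *ᵥ w₂)) := by
      intro w₁ w₂
      have := h1 w₁ w₂
      rw [hr, zero_dotProduct, zero_dotProduct, mul_zero, zero_add] at this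
      exact this
    obtain ⟨hD, Di, hDi, -⟩ := hyp_sim_inv D c hc h1'
    have hc' : c' = 0 := by
      apply col_zero c' D Di hDi
      intro w
      have := h3 w
      rw [hr, zero_dotProduct, mul_zero, zero_add] at this
      exact this
    refine ⟨hc', hr, ?_, hD⟩
    rw [hc', zero_dotProduct, add_zero, mul_one, mul_one] at h4
    rw [pow_two]
    exact h4
  · rintro ⟨rfl, rfl, ha, hD⟩
    apply matrix_ext_of_dot
    intro u v
    rw [← dot_congr, eq_elim u, eq_elim v, blk_mulVec, blk_mulVec, oddB_eq', Matrix.smul_mulVec,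
      dotProduct_smul, dot_blocks, dot_blocks, smul_zero, smul_zero, zero_add, zero_add,
      zero_dotProduct, zero_dotProduct, add_zero, add_zero, dot_congr, hD, Matrix.smul_mulVec,
      dotProduct_smul, smul_eq_mul, smul_eq_mul, ← ha]
    ring

theorem exists_sqrt_two [Finite F] (h2 : (2 : F) = 0) (c : F) : ∃ d : F, d ^ 2 = c := by
  have hinj : Function.Injective (fun x : F => x ^ 2) := fun x y h => sq_inj_two h2 h
  exact Finite.injective_iff_surjective.1 hinj c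

theorem neg_eq_self_two {κ : Type*} (h2 : (2 : F) = 0) (A : Matrix κ κ F) : -A = A := by
  apply neg_eq_of_add_eq_zero_left
  rw [← two_smul F A, h2, zero_smul]

/-- the row which completes a similitude of the alternating form to a similitude of the
quadratic form -/
theorem exists_row [Finite F] (h2 : (2 : F) = 0)
    (D : Matrix (Fin m ⊕ Fin m) (Fin m ⊕ Fin m) F) (c : F)
    (hD : Dᵀ * hypBlock m F * D = c • hypBlock m F) :
    ∃ r : Fin m ⊕ Fin m → F, ∀ w, (r ⬝ᵥ w) ^ 2 + matQ (plusMat m F) (D *ᵥ w) =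
      c * matQ (plusMat m F) w := by
  obtain ⟨A', hA'⟩ : ∃ A' : Matrix (Fin m ⊕ Fin m) (Fin m ⊕ Fin m) F,
      A' = c • plusMat m F - Dᵀ * plusMat m F * D := ⟨_, rfl⟩
  have hsum : A' + A'ᵀ = 0 := by
    rw [hA', transpose_sub, transpose_smul, transpose_mul, transpose_mul, transpose_transpose]
    have : c • plusMat m F - Dᵀ * plusMat m F * D +
        (c • (plusMat m F)ᵀ - Dᵀ * ((plusMat m F)ᵀ * D)) =
        c • (plusMat m F + (plusMat m F)ᵀ) - Dᵀ * (plusMat m F + (plusMat m F)ᵀ) * D := by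
      rw [Matrix.mul_add, Matrix.add_mul, smul_add, Matrix.mul_assoc, Matrix.mul_assoc]
      abel
    rw [this, ← hypBlock_eq, hD, sub_self]
  have hsym : A'ᵀ = A' := by
    have h1 : A'ᵀ = -A' := (neg_eq_of_add_eq_zero_right hsum).symm
    rw [h1, neg_eq_self_two h2]
  choose r hr using fun i => exists_sqrt_two h2 (A' i i)
  refine ⟨r, fun w => ?_⟩
  have e1 : (r ⬝ᵥ w) ^ 2 = ∑ i, A' i i * w i ^ 2 := by
    unfold dotProduct
    rw [sum_sq_two h2]
    apply Finset.sum_congr rfl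
    intro i _
    rw [mul_pow, hr]
  have e2 := dot_self_of_symm_two h2 A' hsym w
  rw [e1, ← e2, hA', Matrix.sub_mulVec, dotProduct_sub, Matrix.smul_mulVec, dotProduct_smul,
    ← dot_congr, matQ_apply, matQ_apply, smul_eq_mul]
  ring

/-- remove the off-diagonal blocks -/
def strip (G : Matrix (Unit ⊕ (Fin m ⊕ Fin m)) (Unit ⊕ (Fin m ⊕ Fin m)) F) :
    Matrix (Unit ⊕ (Fin m ⊕ Fin m)) (Unit ⊕ (Fin m ⊕ Fin m)) F :=
  fromBlocks G.toBlocks₁₁ 0 0 G.toBlocks₂₂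

theorem strip_blk (a : F) (r c : Fin m ⊕ Fin m → F)
    (D : Matrix (Fin m ⊕ Fin m) (Fin m ⊕ Fin m) F) : strip (blk a r c D) = blk a 0 0 D := by
  unfold strip blk
  rw [toBlocks_fromBlocks₁₁, toBlocks_fromBlocks₂₂]
  rfl

theorem strip_one : strip (1 : Matrix (Unit ⊕ (Fin m ⊕ Fin m)) (Unit ⊕ (Fin m ⊕ Fin m)) F) = 1 := by
  unfold strip
  rw [← Matrix.fromBlocks_one, toBlocks_fromBlocks₁₁, toBlocks_fromBlocks₂₂]

theorem blk_mul_blk (a a' : F) (r r' : Fin m ⊕ Fin m → F)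
    (D D' : Matrix (Fin m ⊕ Fin m) (Fin m ⊕ Fin m) F) :
    blk a r 0 D * blk a' r' 0 D' = blk (a * a') (a • r' + r ᵥ* D') 0 (D * D') := by
  unfold blk
  rw [Matrix.fromBlocks_multiply]
  congr 1
  · ext i j
    simp [Matrix.mul_apply]
  · ext i j
    simp [Matrix.mul_apply, Matrix.vecMul, dotProduct]
  · ext i j
    simp [Matrix.mul_apply]
  · ext i j
    simp [Matrix.mul_apply]

theorem blk_inj {a a' : F} {r r' c c' : Fin m ⊕ Fin m → F}
    {D D' : Matrix (Fin m ⊕ Fin m) (Fin m ⊕ Fin m) F} (h : blk a r c D = blk a' r' c' D') :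
    a = a' ∧ r = r' ∧ c = c' ∧ D = D' := by
  unfold blk at h
  rw [Matrix.fromBlocks_inj] at h
  obtain ⟨h1, h2, h3, h4⟩ := h
  refine ⟨?_, ?_, ?_, h4⟩
  · exact congrFun (congrFun h1 ()) ()
  · funext j
    exact congrFun (congrFun h2 ()) j
  · funext j
    exact congrFun (congrFun h3 j) ()

theorem smul_one_eq_blk (s : F) :
    s • (1 : Matrix (Unit ⊕ (Fin m ⊕ Fin m)) (Unit ⊕ (Fin m ⊕ Fin m)) F) = blk s 0 0 (s • 1) := by
  unfold blk
  rw [← Matrix.fromBlocks_one, Matrix.fromBlocks_smul]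
  congr 1
  · ext i j
    simp
  · ext i j
    simp
  · ext i j
    simp

end chartwo

section groups

variable {F : Type*} [Field F] [Finite F] {m : ℕ}

/-- the block form of a similitude of the quadratic form -/
theorem exists_blk_of_quadSim (h2 : (2 : F) = 0) (g : GL (Unit ⊕ (Fin m ⊕ Fin m)) F)
    (hg : g ∈ Cfsg.Geo.quadSimilarityGroup (F := F) (Cfsg.quadFormOdd m F)) :
    ∃ (c : Fˣ) (a : F) (r : Fin m ⊕ Fin m → F) (D : Matrix (Fin m ⊕ Fin m) (Fin m ⊕ Fin m) F),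
      (g : Matrix (Unit ⊕ (Fin m ⊕ Fin m)) (Unit ⊕ (Fin m ⊕ Fin m)) F) = blk a r 0 D ∧
      a ^ 2 = c ∧ Dᵀ * hypBlock m F * D = (c : F) • hypBlock m F ∧
      ∀ w, (r ⬝ᵥ w) ^ 2 + matQ (plusMat m F) (D *ᵥ w) = c * matQ (plusMat m F) w := by
  obtain ⟨c, hc⟩ := hg
  obtain ⟨a, r, c', D, hG⟩ := exists_blocks
    (g : Matrix (Unit ⊕ (Fin m ⊕ Fin m)) (Unit ⊕ (Fin m ⊕ Fin m)) F)
  rw [quadFormOdd_eq, hG] at hc
  obtain ⟨rfl, ha, hD, hw⟩ := (quad_iff h2 a r c' D c c.ne_zero).1 hc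
  exact ⟨c, a, r, D, hG, ha, hD, hw⟩

/-- the removal of the off-diagonal blocks as a homomorphism -/
noncomputable def stripHom (h2 : (2 : F) = 0) :
    ↥(Cfsg.Geo.quadSimilarityGroup (F := F) (Cfsg.quadFormOdd m F)) →*
      Matrix (Unit ⊕ (Fin m ⊕ Fin m)) (Unit ⊕ (Fin m ⊕ Fin m)) F where
  toFun g := strip ((g : GL (Unit ⊕ (Fin m ⊕ Fin m)) F) :
    Matrix (Unit ⊕ (Fin m ⊕ Fin m)) (Unit ⊕ (Fin m ⊕ Fin m)) F)
  map_one' := strip_one
  map_mul' g g' := by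
    obtain ⟨c, a, r, D, hG, -⟩ := exists_blk_of_quadSim h2 g.1 g.2
    obtain ⟨c', a', r', D', hG', -⟩ := exists_blk_of_quadSim h2 g'.1 g'.2
    change strip (((g * g' : ↥(Cfsg.Geo.quadSimilarityGroup (F := F) (Cfsg.quadFormOdd m F))) :
      GL (Unit ⊕ (Fin m ⊕ Fin m)) F) :
        Matrix (Unit ⊕ (Fin m ⊕ Fin m)) (Unit ⊕ (Fin m ⊕ Fin m)) F) = _
    rw [Subgroup.coe_mul, Units.val_mul, hG, hG', blk_mul_blk, strip_blk, strip_blk, strip_blk,
      blk_mul_blk]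
    simp

noncomputable def stripGL (h2 : (2 : F) = 0) :
    ↥(Cfsg.Geo.quadSimilarityGroup (F := F) (Cfsg.quadFormOdd m F)) →*
      GL (Unit ⊕ (Fin m ⊕ Fin m)) F :=
  (stripHom h2).toHomUnits

theorem coe_stripGL (h2 : (2 : F) = 0)
    (g : ↥(Cfsg.Geo.quadSimilarityGroup (F := F) (Cfsg.quadFormOdd m F))) :
    ((stripGL h2 g : GL (Unit ⊕ (Fin m ⊕ Fin m)) F) :
      Matrix (Unit ⊕ (Fin m ⊕ Fin m)) (Unit ⊕ (Fin m ⊕ Fin m)) F) =
      strip ((g : GL (Unit ⊕ (Fin m ⊕ Fin m)) F) :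
        Matrix (Unit ⊕ (Fin m ⊕ Fin m)) (Unit ⊕ (Fin m ⊕ Fin m)) F) := rfl

theorem stripGL_mem (h2 : (2 : F) = 0)
    (g : ↥(Cfsg.Geo.quadSimilarityGroup (F := F) (Cfsg.quadFormOdd m F))) :
    stripGL h2 g ∈ simG (oddB m F) := by
  obtain ⟨c, a, r, D, hG, ha, hD, hw⟩ := exists_blk_of_quadSim h2 g.1 g.2
  refine ⟨c, ?_⟩
  rw [coe_stripGL, hG, strip_blk]
  exact (bil_iff h2 a 0 0 D c c.ne_zero).2 ⟨rfl, rfl, ha, hD⟩

noncomputable def stripSim (h2 : (2 : F) = 0) :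
    ↥(Cfsg.Geo.quadSimilarityGroup (F := F) (Cfsg.quadFormOdd m F)) →* ↥(simG (oddB m F)) :=
  (stripGL h2).codRestrict _ (stripGL_mem h2)

theorem det_ne_zero_of_hyp_sim (D : Matrix (Fin m ⊕ Fin m) (Fin m ⊕ Fin m) F) (c : F)
    (hc : c ≠ 0) (hD : Dᵀ * hypBlock m F * D = c • hypBlock m F) : D.det ≠ 0 := by
  intro h0
  have := congrArg Matrix.det hD
  rw [Matrix.det_mul, h0, mul_zero, Matrix.det_smul] at this
  exact mul_ne_zero (pow_ne_zero _ hc) (hypBlock_det_ne_zero m) this.symm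

theorem stripSim_surjective (h2 : (2 : F) = 0) :
    Function.Surjective (stripSim (m := m) h2) := by
  rintro ⟨h, c, hc⟩
  obtain ⟨a, r, c', D, hG⟩ := exists_blocks
    (h : Matrix (Unit ⊕ (Fin m ⊕ Fin m)) (Unit ⊕ (Fin m ⊕ Fin m)) F)
  rw [hG] at hc
  obtain ⟨rfl, rfl, ha, hD⟩ := (bil_iff h2 a r c' D c c.ne_zero).1 hc
  obtain ⟨r', hr'⟩ := exists_row h2 D c hD
  have ha0 : a ≠ 0 := by
    rintro rfl
    rw [zero_pow two_ne_zero] at ha
    exact c.ne_zero ha.symm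
  have hdet : (blk a r' 0 D).det ≠ 0 := by
    unfold blk
    have h0 : (Matrix.of fun (j : Fin m ⊕ Fin m) (_ : Unit) => (0 : Fin m ⊕ Fin m → F) j) = 0 := rfl
    rw [h0, Matrix.det_fromBlocks_zero₂₁, Matrix.det_unique]
    exact mul_ne_zero ha0 (det_ne_zero_of_hyp_sim D c c.ne_zero hD)
  refine ⟨⟨Matrix.GeneralLinearGroup.mkOfDetNeZero (blk a r' 0 D) hdet, ⟨c, ?_⟩⟩, ?_⟩
  · rw [quadFormOdd_eq]
    exact (quad_iff h2 a r' 0 D c c.ne_zero).2 ⟨rfl, ha, hD, hr'⟩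
  · apply Subtype.ext
    apply Units.ext
    change strip (blk a r' 0 D) = (h : Matrix (Unit ⊕ (Fin m ⊕ Fin m)) (Unit ⊕ (Fin m ⊕ Fin m)) F)
    rw [strip_blk, hG]

theorem stripSim_mem_scalars_iff (h2 : (2 : F) = 0)
    (g : ↥(Cfsg.Geo.quadSimilarityGroup (F := F) (Cfsg.quadFormOdd m F))) :
    ((stripSim h2 g : ↥(simG (oddB m F))) : GL (Unit ⊕ (Fin m ⊕ Fin m)) F) ∈
        Cfsg.Geo.scalars (Unit ⊕ (Fin m ⊕ Fin m)) F ↔
      (g : GL (Unit ⊕ (Fin m ⊕ Fin m)) F) ∈ Cfsg.Geo.scalars (Unit ⊕ (Fin m ⊕ Fin m)) F := by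
  obtain ⟨c, a, r, D, hG, ha, hD, hw⟩ := exists_blk_of_quadSim h2 g.1 g.2
  rw [Cfsg.Geo.mem_scalars_iff, Cfsg.Geo.mem_scalars_iff]
  change (∃ s : Fˣ, strip ((g : GL (Unit ⊕ (Fin m ⊕ Fin m)) F) :
    Matrix (Unit ⊕ (Fin m ⊕ Fin m)) (Unit ⊕ (Fin m ⊕ Fin m)) F) = (s : F) • 1) ↔ _
  rw [hG, strip_blk]
  constructor
  · rintro ⟨s, hs⟩
    rw [smul_one_eq_blk] at hs
    obtain ⟨rfl, -, -, rfl⟩ := blk_inj hs
    refine ⟨s, ?_⟩
    rw [smul_one_eq_blk]
    have hr : r = 0 := by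
      apply vec_eq_zero_of_dot
      intro w
      have := hw w
      rw [Matrix.smul_mulVec, Matrix.one_mulVec, QuadraticMap.map_smul, ← ha, smul_eq_mul] at this
      have h0 : (r ⬝ᵥ w) ^ 2 = 0 := by linear_combination this
      exact (pow_eq_zero_iff two_ne_zero).1 h0
    rw [hr]
  · rintro ⟨s, hs⟩
    rw [smul_one_eq_blk] at hs
    obtain ⟨rfl, rfl, -, rfl⟩ := blk_inj hs
    exact ⟨s, (smul_one_eq_blk _).symm⟩

/-- a surjective homomorphism which preserves and reflects the scalars induces an isomorphism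
of the projective groups -/
theorem projQuot_equiv_of_surjective {ι κ : Type} [Fintype ι] [DecidableEq ι] [Fintype κ]
    [DecidableEq κ] (H₁ : Subgroup (GL ι F)) (H₂ : Subgroup (GL κ F)) (π : H₁ →* H₂)
    (hsurj : Function.Surjective π)
    (hsc : ∀ g, ((π g : H₂) : GL κ F) ∈ Cfsg.Geo.scalars κ F ↔
      (g : GL ι F) ∈ Cfsg.Geo.scalars ι F) :
    Nonempty (Cfsg.projQuot H₁ ≃* Cfsg.projQuot H₂) := by
  obtain ⟨φ, hφd⟩ : ∃ φ : H₁ →* Cfsg.projQuot H₂, φ = (QuotientGroup.mk' _).comp π := ⟨_, rfl⟩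
  have hφ : Function.Surjective φ := by
    rw [hφd]
    exact (QuotientGroup.mk'_surjective _).comp hsurj
  have hker : φ.ker = (Cfsg.Geo.scalars ι F).subgroupOf H₁ := by
    ext g
    rw [MonoidHom.mem_ker, hφd, MonoidHom.comp_apply, QuotientGroup.mk'_apply,
      QuotientGroup.eq_one_iff, Subgroup.mem_subgroupOf, Subgroup.mem_subgroupOf, hsc]
  exact ⟨(QuotientGroup.quotientMulEquivOfEq hker).symm.trans
    (QuotientGroup.quotientKerEquivOfSurjective φ hφ)⟩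

/-- in characteristic two the projective similitude groups of the quadratic form and of the
symmetric bilinear form in odd dimension are isomorphic -/
theorem pgo_equiv_two (h2 : (2 : F) = 0) (m : ℕ) :
    Nonempty (Cfsg.projQuot (simG (oddB m F)) ≃* Cfsg.PGO F (Cfsg.quadFormOdd m F)) := by
  obtain ⟨e⟩ := projQuot_equiv_of_surjective _ _ (stripSim (m := m) h2) (stripSim_surjective h2)
    (stripSim_mem_scalars_iff h2)
  exact ⟨e.symm⟩

theorem oddB_det_ne_zero (m : ℕ) : (oddB m F).det ≠ 0 := by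
  unfold oddB
  rw [Matrix.det_fromBlocks_zero₂₁, Matrix.det_one, one_mul]
  exact hypBlock_det_ne_zero m

theorem oddB_transpose (m : ℕ) : (oddB m F)ᵀ = oddB m F := by
  unfold oddB
  rw [Matrix.fromBlocks_transpose, hypBlock_transpose, Matrix.transpose_one,
    Matrix.transpose_zero, Matrix.transpose_zero]

theorem oddB_not_alt (m : ℕ) :
    ∃ v : Unit ⊕ (Fin m ⊕ Fin m) → F, v ⬝ᵥ (oddB m F *ᵥ v) ≠ 0 := by
  refine ⟨Sum.elim (fun _ => 1) 0, ?_⟩
  rw [oddB_eq', dot_blocks]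
  simp

/-- the type of the standard symmetric non-alternating form in odd dimension -/
theorem hasType_oddB [CharP F 2] (m n : ℕ) (hn : n = 2 * m + 1) :
    HasType (oddB m F) (1 : Matrix (Fin n) (Fin n) F) := by
  apply hasType_one_of_not_alt _ (oddB_det_ne_zero m) (oddB_transpose m) (oddB_not_alt m)
  simp only [Fintype.card_sum, Fintype.card_fin, Fintype.card_unique]
  omega

end groups

end Cfsg.Agent.Helper2.PGR
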