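import Mathlib
import Cfsg.Agent.Lib.Helper2.Pgr10
import Cfsg.Agent.Lib.Helper2.Spa17

set_option autoImplicit false
set_option linter.unusedSimpArgs false
set_option linter.unusedVariables false
set_option linter.unusedSectionVars false

/-! Involutory graph automorphisms of the linear groups, part 11: characteristic two, even
dimension. The centralizers are the symplectic group and the centralizer of a transvection in
the symplectic group. -/

namespace Cfsg.Agent.Helper2.PGR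

open Matrix Cfsg.Agent.Helper13 Cfsg.Agent.Helper2.Symp Cfsg.Agent.Helper2.SpA

section symptwo

variable {F : Type*} [Field F] [Finite F] {m : ℕ}

theorem J_eq_hyp (h2 : (2 : F) = 0) : Matrix.J (Fin m) F = hypBlock m F := by
  unfold Matrix.J hypBlock
  rw [neg_eq_self_two h2]

theorem mem_symp_iff_hyp (h2 : (2 : F) = 0) (A : Mt m F) :
    A ∈ Matrix.symplecticGroup (Fin m) F ↔ Aᵀ * hypBlock m F * A = hypBlock m F := by
  rw [SymplecticGroup.mem_iff', J_eq_hyp h2]

theorem mem_symp_iff_hyp' (h2 : (2 : F) = 0) (A : Mt m F) :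
    A ∈ Matrix.symplecticGroup (Fin m) F ↔ A * hypBlock m F * Aᵀ = hypBlock m F := by
  rw [SymplecticGroup.mem_iff, J_eq_hyp h2]

/-- a subgroup of the symplectic group as the projective group of a group of similitudes -/
theorem symp_equiv_projQuot (h2 : (2 : F) = 0) (hm : 0 < m)
    (K : Subgroup (GL (Fin m ⊕ Fin m) F))
    (C : Subgroup ↥(Matrix.symplecticGroup (Fin m) F))
    (hCK : ∀ s ∈ C, toGL s ∈ K)
    (hKC : ∀ g ∈ K, ∃ s ∈ C, ∃ d : Fˣ, (g : Mt m F) = (d : F) • (s : Mt m F)) :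
    Nonempty (↥C ≃* Cfsg.projQuot K) := by
  obtain ⟨ψ₀, hψ₀⟩ : ∃ ψ₀ : ↥C →* ↥K, ∀ s : ↥C,
      ((ψ₀ s : ↥K) : GL (Fin m ⊕ Fin m) F) =
        toGL (s : ↥(Matrix.symplecticGroup (Fin m) F)) :=
    ⟨(toGL.comp C.subtype).codRestrict K (fun s => hCK s s.2), fun s => rfl⟩
  obtain ⟨ψ, hψ⟩ : ∃ ψ : ↥C →* Cfsg.projQuot K, ψ = (QuotientGroup.mk' _).comp ψ₀ := ⟨_, rfl⟩
  have hinj : Function.Injective ψ := by
    rw [injective_iff_map_eq_one]
    intro s hs
    rw [hψ, MonoidHom.comp_apply, QuotientGroup.mk'_apply, QuotientGroup.eq_one_iff,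
      Subgroup.mem_subgroupOf, hψ₀, Cfsg.Geo.mem_scalars_iff] at hs
    obtain ⟨a, ha⟩ := hs
    rw [toGL_coe] at ha
    have hmem := (mem_symp_iff_hyp h2 _).1 s.1.2
    rw [ha, transpose_smul, transpose_one, Matrix.smul_mul, Matrix.one_mul, Matrix.mul_smul,
      Matrix.mul_one, smul_smul] at hmem
    have ha2 : (a : F) * a = 1 := by
      have := congrFun (congrFun hmem (Sum.inl ⟨0, hm⟩)) (Sum.inr ⟨0, hm⟩)
      simpa [hypBlock] using this
    have ha1 : (a : F) = 1 := by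
      apply sq_inj_two h2
      rw [one_pow, pow_two, ha2]
    apply Subtype.ext
    apply Subtype.ext
    rw [ha, ha1, one_smul]
    rfl
  have hsurj : Function.Surjective ψ := by
    intro q
    obtain ⟨g, rfl⟩ := QuotientGroup.mk_surjective q
    obtain ⟨s, hs, d, hd⟩ := hKC g.1 g.2
    refine ⟨⟨s, hs⟩, ?_⟩
    rw [hψ, MonoidHom.comp_apply, QuotientGroup.mk'_apply, QuotientGroup.eq,
      Subgroup.mem_subgroupOf, Cfsg.Geo.mem_scalars_iff]
    refine ⟨d, ?_⟩
    rw [Subgroup.coe_mul, Subgroup.coe_inv, hψ₀, Units.val_mul, hd, Matrix.mul_smul,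
      ← toGL_coe s, ← Units.val_mul, inv_mul_cancel, Units.val_one]
  exact ⟨MulEquiv.ofBijective ψ ⟨hinj, hsurj⟩⟩

/-- in characteristic two the projective conformal symplectic group is the symplectic group -/
theorem pgsp_equiv_symp (h2 : (2 : F) = 0) (hm : 0 < m) :
    Nonempty (Cfsg.PGSp m F ≃* ↥(Matrix.symplecticGroup (Fin m) F)) := by
  obtain ⟨e⟩ := symp_equiv_projQuot h2 hm (Cfsg.GSp m F) ⊤ (fun s _ => toGL_mem_GSp s) (by
    intro g hg
    obtain ⟨s, d, hd⟩ := exists_symp_of_two h2 ⟨g, hg⟩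
    have hd0 : d ≠ 0 := by
      rintro rfl
      rw [zero_smul] at hd
      have hne : Nonempty (Fin m ⊕ Fin m) := ⟨Sum.inl ⟨0, hm⟩⟩
      have h1 := (Matrix.isUnits_det_units g).ne_zero
      change (g : Mt m F).det ≠ 0 at h1
      change (g : Mt m F) = 0 at hd
      rw [hd, Matrix.det_zero] at h1
      exact h1 rfl
    exact ⟨s, Subgroup.mem_top _, Units.mk0 d hd0, hd⟩)
  exact ⟨e.symm.trans Subgroup.topEquiv⟩

end symptwo

section transv

variable {F : Type*} [Field F] {m : ℕ}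

theorem hyp_symm (u v : Fin m ⊕ Fin m → F) :
    u ⬝ᵥ (hypBlock m F *ᵥ v) = v ⬝ᵥ (hypBlock m F *ᵥ u) := by
  rw [Matrix.dotProduct_mulVec, ← Matrix.mulVec_transpose, hypBlock_transpose, dotProduct_comm]

theorem vecMul_hyp (u : Fin m ⊕ Fin m → F) : u ᵥ* hypBlock m F = hypBlock m F *ᵥ u := by
  rw [← Matrix.mulVec_transpose, hypBlock_transpose]

theorem transpose_mulVec_dot (g : Mt m F) (e v : Fin m ⊕ Fin m → F) :
    (gᵀ *ᵥ e) ⬝ᵥ v = e ⬝ᵥ (g *ᵥ v) := by
  rw [Matrix.mulVec_transpose, ← Matrix.dotProduct_mulVec]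

theorem vecMulVec_dot (e a u v : Fin m ⊕ Fin m → F) :
    u ⬝ᵥ (vecMulVec a e *ᵥ v) = (u ⬝ᵥ a) * (e ⬝ᵥ v) := by
  rw [Matrix.vecMulVec_mulVec, op_smul_eq_smul, dotProduct_smul, smul_eq_mul, mul_comm]

theorem vec_ext_of_dot (x y : Fin m ⊕ Fin m → F) (h : ∀ v, x ⬝ᵥ v = y ⬝ᵥ v) : x = y := by
  funext j
  have := h (Pi.single j 1)
  rw [dotProduct_single_one, dotProduct_single_one] at this
  exact this

variable (e a : Fin m ⊕ Fin m → F)

/-- the symmetric form which is not alternating, in even dimension -/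
def symN : Mt m F := hypBlock m F + vecMulVec e e

/-- the transvection -/
def trT : Mt m F := 1 + vecMulVec a e

theorem symN_transpose : (symN e)ᵀ = symN e := by
  unfold symN
  rw [Matrix.transpose_add, hypBlock_transpose, Matrix.transpose_vecMulVec]

/-- similitudes of the non-alternating form are similitudes of the alternating form -/
theorem symN_sim (h2 : (2 : F) = 0) (g : Mt m F) (c d : F) (hd : d ^ 2 = c)
    (hg : gᵀ * symN e * g = c • symN e) :
    gᵀ *ᵥ e = d • e ∧ gᵀ * hypBlock m F * g = c • hypBlock m F := by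
  have h1 : ∀ v, e ⬝ᵥ (g *ᵥ v) = d * (e ⬝ᵥ v) := by
    intro v
    have h3 : v ⬝ᵥ ((gᵀ * symN e * g) *ᵥ v) = v ⬝ᵥ ((c • symN e) *ᵥ v) := by rw [hg]
    rw [← dot_congr, Matrix.smul_mulVec, dotProduct_smul, smul_eq_mul] at h3
    unfold symN at h3
    rw [Matrix.add_mulVec, dotProduct_add, hyp_alt h2, zero_add, Matrix.add_mulVec,
      dotProduct_add, hyp_alt h2, zero_add, vecMulVec_dot, vecMulVec_dot,
      dotProduct_comm _ e, dotProduct_comm v e] at h3
    apply sq_inj_two h2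
    rw [pow_two, h3, mul_pow, hd, pow_two]
  have h4 : gᵀ *ᵥ e = d • e := by
    apply vec_ext_of_dot
    intro v
    rw [transpose_mulVec_dot, h1, smul_dotProduct, smul_eq_mul]
  refine ⟨h4, ?_⟩
  have h5 : gᵀ * vecMulVec e e * g = c • vecMulVec e e := by
    rw [Matrix.mul_vecMulVec, Matrix.vecMulVec_mul, ← Matrix.mulVec_transpose, h4,
      Matrix.smul_vecMulVec, Matrix.vecMulVec_smul, smul_smul, ← pow_two, hd]
  unfold symN at hg
  rw [Matrix.mul_add, Matrix.add_mul, h5, smul_add] at hg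
  exact add_right_cancel hg

theorem symp_of_sim (g : Mt m F) (c d : F) (hd : d ^ 2 = c) (hc : c ≠ 0)
    (hg : gᵀ * hypBlock m F * g = c • hypBlock m F) :
    (d⁻¹ • g)ᵀ * hypBlock m F * (d⁻¹ • g) = hypBlock m F := by
  have hd0 : d ≠ 0 := by
    rintro rfl
    rw [zero_pow two_ne_zero] at hd
    exact hc hd.symm
  rw [Matrix.transpose_smul, Matrix.smul_mul, Matrix.smul_mul, Matrix.mul_smul, hg, smul_smul,
    smul_smul, ← hd]
  have : d⁻¹ * d⁻¹ * d ^ 2 = 1 := by field_simp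
  rw [this, one_smul]

theorem hyp_mulVec_a (he : hypBlock m F *ᵥ e = a) : hypBlock m F *ᵥ a = e := by
  rw [← he, Matrix.mulVec_mulVec, hyp_mul_hyp, Matrix.one_mulVec]

/-- an isometry fixing the linear form fixes the vector -/
theorem fix_a_of_fix_e (he : hypBlock m F *ᵥ e = a) (s : Mt m F)
    (hs : s * hypBlock m F * sᵀ = hypBlock m F) (hse : sᵀ *ᵥ e = e) : s *ᵥ a = a := by
  have h1 : (s * hypBlock m F * sᵀ) *ᵥ e = hypBlock m F *ᵥ e := by rw [hs]
  rw [← Matrix.mulVec_mulVec, ← Matrix.mulVec_mulVec, hse, he] at h1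
  exact h1

/-- the centralizer of the transvection -/
theorem comm_trT_iff (h2 : (2 : F) = 0) (he : hypBlock m F *ᵥ e = a) (hee : e ⬝ᵥ e = 1)
    (haa : a ⬝ᵥ a = 1) (s : Mt m F) (hs : s * hypBlock m F * sᵀ = hypBlock m F) :
    s * trT e a = trT e a * s ↔ sᵀ *ᵥ e = e := by
  unfold trT
  rw [Matrix.mul_add, Matrix.add_mul, Matrix.mul_one, Matrix.one_mul, Matrix.mul_vecMulVec,
    Matrix.vecMulVec_mul, ← Matrix.mulVec_transpose]
  constructor
  · intro h
    have h1 : vecMulVec (s *ᵥ a) e = vecMulVec a (sᵀ *ᵥ e) := add_left_cancel h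
    obtain ⟨μ, hμ⟩ : ∃ μ : F, μ = (sᵀ *ᵥ e) ⬝ᵥ e := ⟨_, rfl⟩
    have h3 : s *ᵥ a = μ • a := by
      have := congrArg (fun X : Mt m F => X *ᵥ e) h1
      simp only [Matrix.vecMulVec_mulVec, op_smul_eq_smul, hee, one_smul, ← hμ] at this
      exact this
    have h4 : sᵀ *ᵥ e = μ • e := by
      have := congrArg (fun X : Mt m F => a ᵥ* X) h1
      simp only [Matrix.vecMul_vecMulVec, haa, one_smul, h3, dotProduct_smul, smul_eq_mul,
        mul_one] at this
      exact this.symm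
    have h5 : (s * hypBlock m F * sᵀ) *ᵥ e = hypBlock m F *ᵥ e := by rw [hs]
    rw [← Matrix.mulVec_mulVec, ← Matrix.mulVec_mulVec, h4, Matrix.mulVec_smul, he,
      Matrix.mulVec_smul, h3, smul_smul] at h5
    have h6 : μ * μ = 1 := by
      have := congrArg (fun x => a ⬝ᵥ x) h5
      simp only [dotProduct_smul, haa, smul_eq_mul, mul_one] at this
      exact this
    have h7 : μ = 1 := by
      apply sq_inj_two h2
      rw [pow_two, h6, one_pow]
    rw [h4, h7, one_smul]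
  · intro h
    rw [h, fix_a_of_fix_e e a he s hs h]

theorem symN_of_fix (s : Mt m F) (hs : sᵀ * hypBlock m F * s = hypBlock m F)
    (hse : sᵀ *ᵥ e = e) : sᵀ * symN e * s = symN e := by
  unfold symN
  rw [Matrix.mul_add, Matrix.add_mul, hs, Matrix.mul_vecMulVec, Matrix.vecMulVec_mul,
    ← Matrix.mulVec_transpose, hse]

theorem trT_mem (h2 : (2 : F) = 0) (he : hypBlock m F *ᵥ e = a) (hea : e ⬝ᵥ a = 0) :
    (trT e a)ᵀ * hypBlock m F * trT e a = hypBlock m F := by
  unfold trT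
  have h1 : (1 + vecMulVec a e)ᵀ * hypBlock m F = hypBlock m F + vecMulVec e e := by
    rw [Matrix.transpose_add, Matrix.transpose_one, Matrix.transpose_vecMulVec, Matrix.add_mul,
      Matrix.one_mul, Matrix.vecMulVec_mul, vecMul_hyp, hyp_mulVec_a e a he]
  rw [h1, Matrix.mul_add, Matrix.mul_one, Matrix.add_mul, Matrix.mul_vecMulVec,
    hyp_mulVec_a e a he, Matrix.vecMulVec_mul_vecMulVec, hea, zero_smul,
    Matrix.vecMulVec_zero, add_zero, add_assoc, ← two_smul F (vecMulVec e e), h2, zero_smul,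
    add_zero]

theorem rank_vecMulVec_eq_one (hee : e ⬝ᵥ e = 1) (haa : a ⬝ᵥ a = 1) :
    (vecMulVec a e).rank = 1 := by
  apply le_antisymm (Matrix.rank_vecMulVec_le a e)
  rw [Nat.one_le_iff_ne_zero]
  intro h0
  unfold Matrix.rank at h0
  rw [Submodule.finrank_eq_zero] at h0
  have h1 : (vecMulVec a e).mulVecLin e ∈ LinearMap.range (vecMulVec a e).mulVecLin :=
    LinearMap.mem_range_self _ _
  rw [h0, Submodule.mem_bot, Matrix.mulVecLin_apply, Matrix.vecMulVec_mulVec, op_smul_eq_smul,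
    hee, one_smul] at h1
  rw [h1, dotProduct_zero] at haa
  exact zero_ne_one haa

theorem isTransvection_trT (hee : e ⬝ᵥ e = 1) (haa : a ⬝ᵥ a = 1) (hea : e ⬝ᵥ a = 0) :
    Cfsg.IsTransvection (trT e a) := by
  unfold Cfsg.IsTransvection trT
  rw [add_sub_cancel_left]
  refine ⟨rank_vecMulVec_eq_one e a hee haa, ?_⟩
  rw [Matrix.vecMulVec_mul_vecMulVec, hea, zero_smul, Matrix.vecMulVec_zero]

theorem symN_mul_inv (h2 : (2 : F) = 0) (he : hypBlock m F *ᵥ e = a) (hea : e ⬝ᵥ a = 0) :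
    symN e * (hypBlock m F + vecMulVec a a) = 1 := by
  unfold symN
  rw [Matrix.add_mul, Matrix.mul_add, Matrix.mul_add, hyp_mul_hyp, Matrix.mul_vecMulVec,
    hyp_mulVec_a e a he, Matrix.vecMulVec_mul, vecMul_hyp, he, Matrix.vecMulVec_mul_vecMulVec,
    hea, zero_smul, Matrix.vecMulVec_zero, add_zero, add_assoc, ← two_smul F (vecMulVec e a),
    h2, zero_smul, add_zero]

theorem symN_det_ne_zero (h2 : (2 : F) = 0) (he : hypBlock m F *ᵥ e = a)
    (hea : e ⬝ᵥ a = 0) : (symN e).det ≠ 0 :=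
  Matrix.det_ne_zero_of_right_inverse (symN_mul_inv e a h2 he hea)

theorem symN_not_alt (he : hypBlock m F *ᵥ e = a) (hee : e ⬝ᵥ e = 1) (hea : e ⬝ᵥ a = 0) :
    ∃ v : Fin m ⊕ Fin m → F, v ⬝ᵥ (symN e *ᵥ v) ≠ 0 := by
  refine ⟨e, ?_⟩
  unfold symN
  rw [Matrix.add_mulVec, dotProduct_add, he, hea, zero_add, vecMulVec_dot, hee, one_mul]
  exact one_ne_zero

end transv

section concrete

variable {F : Type*} [Field F] {m : ℕ}

theorem hyp_mulVec_eV (i : Fin m) : hypBlock m F *ᵥ eV i = fV i := by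
  unfold eV fV
  rw [Matrix.mulVec_single_one]
  funext k
  rcases k with k | k
  · simp [hypBlock, Matrix.col_apply]
  · simp [hypBlock, Matrix.col_apply, Matrix.one_apply, Pi.single_apply]

theorem eV_dot_eV (i : Fin m) : (eV i : Fin m ⊕ Fin m → F) ⬝ᵥ eV i = 1 := by
  unfold eV
  rw [dotProduct_single_one, Pi.single_eq_same]

theorem fV_dot_fV (i : Fin m) : (fV i : Fin m ⊕ Fin m → F) ⬝ᵥ fV i = 1 := by
  unfold fV
  rw [dotProduct_single_one, Pi.single_eq_same]

theorem eV_dot_fV (i : Fin m) : (eV i : Fin m ⊕ Fin m → F) ⬝ᵥ fV i = 0 := by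
  unfold eV fV
  rw [dotProduct_single_one, Pi.single_eq_of_ne]
  exact Sum.inr_ne_inl

variable [Finite F]

/-- the standard transvection in the symplectic group -/
noncomputable def stdTr (h2 : (2 : F) = 0) (i : Fin m) : ↥(Matrix.symplecticGroup (Fin m) F) :=
  ⟨trT (eV i) (fV i), (mem_symp_iff_hyp h2 _).2
    (trT_mem (eV i) (fV i) h2 (hyp_mulVec_eV i) (eV_dot_fV i))⟩

theorem coe_stdTr (h2 : (2 : F) = 0) (i : Fin m) :
    ((stdTr h2 i : ↥(Matrix.symplecticGroup (Fin m) F)) : Mt m F) = trT (eV i) (fV i) := rfl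

theorem isTransvection_stdTr (h2 : (2 : F) = 0) (i : Fin m) :
    Cfsg.IsTransvection ((stdTr h2 i : ↥(Matrix.symplecticGroup (Fin m) F)) : Mt m F) :=
  isTransvection_trT _ _ (eV_dot_eV i) (fV_dot_fV i) (eV_dot_fV i)

/-- the centralizer of the standard transvection as the projective group of similitudes of the
symmetric form which is not alternating -/
theorem symN_equiv (h2 : (2 : F) = 0) (i : Fin m) :
    Nonempty (↥(Subgroup.centralizer ({stdTr h2 i} : Set ↥(Matrix.symplecticGroup (Fin m) F))) ≃*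
      Cfsg.projQuot (simG (symN (eV i : Fin m ⊕ Fin m → F)))) := by
  have hm : 0 < m := Fin.pos i
  apply symp_equiv_projQuot h2 hm
  · intro s hs
    rw [Subgroup.mem_centralizer_singleton_iff] at hs
    have h1 : (s : Mt m F) * trT (eV i) (fV i) = trT (eV i) (fV i) * (s : Mt m F) := by
      have := congrArg (fun x : ↥(Matrix.symplecticGroup (Fin m) F) => (x : Mt m F)) hs
      exact this
    have h3 := (comm_trT_iff (eV i) (fV i) h2 (hyp_mulVec_eV i) (eV_dot_eV i) (fV_dot_fV i)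
      (s : Mt m F) ((mem_symp_iff_hyp' h2 _).1 s.2)).1 h1
    refine ⟨1, ?_⟩
    rw [toGL_coe, Units.val_one, one_smul]
    exact symN_of_fix _ _ ((mem_symp_iff_hyp h2 _).1 s.2) h3
  · rintro g ⟨c, hc⟩
    obtain ⟨d, hd⟩ := exists_sqrt_two h2 (c : F)
    have hd0 : d ≠ 0 := by
      rintro rfl
      rw [zero_pow two_ne_zero] at hd
      exact c.ne_zero hd.symm
    obtain ⟨h3, h4⟩ := symN_sim (eV i) h2 (g : Mt m F) c d hd hc
    have h5 := symp_of_sim (g : Mt m F) c d hd c.ne_zero h4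
    have h6 : d⁻¹ • (g : Mt m F) ∈ Matrix.symplecticGroup (Fin m) F :=
      (mem_symp_iff_hyp h2 _).2 h5
    have h7 : (d⁻¹ • (g : Mt m F))ᵀ *ᵥ (eV i : Fin m ⊕ Fin m → F) = eV i := by
      rw [Matrix.transpose_smul, Matrix.smul_mulVec, h3, smul_smul, inv_mul_cancel₀ hd0,
        one_smul]
    have h8 := (comm_trT_iff (eV i) (fV i) h2 (hyp_mulVec_eV i) (eV_dot_eV i) (fV_dot_fV i)
      (d⁻¹ • (g : Mt m F)) ((mem_symp_iff_hyp' h2 _).1 h6)).2 h7
    refine ⟨⟨_, h6⟩, ?_, Units.mk0 d hd0, ?_⟩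
    · rw [Subgroup.mem_centralizer_singleton_iff]
      apply Subtype.ext
      exact h8
    · change (g : Mt m F) = d • (d⁻¹ • (g : Mt m F))
      rw [smul_smul, mul_inv_cancel₀ hd0, one_smul]

end concrete

section altinv

variable {ι κ : Type*} [Fintype ι] [DecidableEq ι] [Fintype κ] [DecidableEq κ]
  {F : Type*} [Field F]

theorem dot_congr_rect (P : Matrix ι κ F) (M : Matrix ι ι F) (u v : κ → F) :
    (P *ᵥ u) ⬝ᵥ (M *ᵥ (P *ᵥ v)) = u ⬝ᵥ ((Pᵀ * M * P) *ᵥ v) := by
  conv_rhs => rw [← Matrix.mulVec_mulVec, ← Matrix.mulVec_mulVec, Matrix.dotProduct_mulVec,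
    Matrix.vecMul_transpose]

/-- being alternating only depends on the type -/
theorem HasType.alt {M : Matrix ι ι F} {N : Matrix κ κ F} (h : HasType M N)
    (hM : ∀ v : ι → F, v ⬝ᵥ (M *ᵥ v) = 0) (w : κ → F) : w ⬝ᵥ (N *ᵥ w) = 0 := by
  obtain ⟨P, Pi, c, hc, h1, h2, hPM⟩ := h
  have h3 := hM (P *ᵥ w)
  rw [dot_congr_rect, hPM, Matrix.smul_mulVec, dotProduct_smul, smul_eq_mul] at h3
  exact (mul_eq_zero.1 h3).resolve_left hc

end altinv

end Cfsg.Agent.Helper2.PGR
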