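import Mathlib
import Cfsg.Agent.Lib.Helper2.Pgr11
import Cfsg.Agent.Lib.Helper2.Psln21
import Cfsg.Agent.S2624
import Cfsg.Agent.Lib.Helper17.SpinorOmega

set_option autoImplicit false
set_option linter.unusedSimpArgs false
set_option linter.unusedVariables false
set_option linter.unusedSectionVars false

/-! Involutory graph automorphisms of the linear groups, part 12: the determinants of the
similitudes. -/

namespace Cfsg.Agent.Helper2.PGR

open Matrix Cfsg.Agent.Helper13 Cfsg.Agent.Helper2.Symp Cfsg.Agent.Helper2.SpA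

section dets

variable {κ : Type*} [Fintype κ] [DecidableEq κ] {F : Type*} [Field F]

theorem det_sq_of_sim (N g : Matrix κ κ F) (hN : N.det ≠ 0) (c : F)
    (h : gᵀ * N * g = c • N) : g.det ^ 2 = c ^ Fintype.card κ := by
  have h1 := congrArg Matrix.det h
  rw [Matrix.det_mul, Matrix.det_mul, Matrix.det_transpose, Matrix.det_smul] at h1
  apply mul_right_cancel₀ hN
  linear_combination h1

theorem pow_of_sq_eq {G : Type*} [CommGroup G] (d c : G) (n j : ℕ) (hn : n = 2 * j + 1)
    (h : d ^ 2 = c ^ n) : (d * (c⁻¹) ^ j) ^ n = d := by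
  rw [mul_pow, ← pow_mul, mul_comm j n, pow_mul, inv_pow, ← h, hn, pow_succ, pow_mul, inv_pow,
    mul_right_comm, mul_inv_cancel, one_mul]

theorem det_unit_sq (N : Matrix κ κ F) (hN : N.det ≠ 0) (g : GL κ F) (c : Fˣ)
    (h : (g : Matrix κ κ F)ᵀ * N * (g : Matrix κ κ F) = (c : F) • N) :
    (Matrix.GeneralLinearGroup.det g) ^ 2 = c ^ Fintype.card κ := by
  apply Units.ext
  have := det_sq_of_sim N _ hN c h
  simpa using this

/-- in odd dimension the determinant of a similitude is a power -/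
theorem det_simG_le_of_odd (N : Matrix κ κ F) (hN : N.det ≠ 0) (hodd : Odd (Fintype.card κ)) :
    (simG N).map Matrix.GeneralLinearGroup.det ≤
      (powMonoidHom (Fintype.card κ) : Fˣ →* Fˣ).range := by
  rintro _ ⟨g, ⟨c, hc⟩, rfl⟩
  obtain ⟨j, hj⟩ := hodd
  have h2 := det_unit_sq N hN g c hc
  exact ⟨Matrix.GeneralLinearGroup.det g * (c⁻¹) ^ j, pow_of_sq_eq _ _ _ j hj h2⟩

/-- in characteristic two the determinant of a similitude is a power -/
theorem det_simG_le_of_two [Finite F] (h2 : (2 : F) = 0) (N : Matrix κ κ F) (hN : N.det ≠ 0) :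
    (simG N).map Matrix.GeneralLinearGroup.det ≤
      (powMonoidHom (Fintype.card κ) : Fˣ →* Fˣ).range := by
  rcases Nat.even_or_odd (Fintype.card κ) with he | ho
  · rintro _ ⟨g, ⟨c, hc⟩, rfl⟩
    obtain ⟨k, hk⟩ := he
    obtain ⟨e, he⟩ := exists_sqrt_two h2 (c : F)
    have he0 : e ≠ 0 := by
      rintro rfl
      rw [zero_pow two_ne_zero] at he
      exact c.ne_zero he.symm
    have h3 := det_sq_of_sim N _ hN c hc
    have h4 : (g : Matrix κ κ F).det = e ^ Fintype.card κ := by
      apply sq_inj_two h2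
      rw [h3, ← he, ← pow_mul, ← pow_mul, mul_comm]
    refine ⟨Units.mk0 e he0, Units.ext ?_⟩
    rw [powMonoidHom_apply, Units.val_pow_eq_pow_val, Units.val_mk0, ← h4]
    rfl
  · exact det_simG_le_of_odd N hN ho

end dets

section sympdet

variable {F : Type*} [Field F] {k : ℕ}

/-- the standard similitude of the alternating form with a given multiplier -/
def dilM (k : ℕ) (c : F) : Mt k F := fromBlocks (c • (1 : Matrix (Fin k) (Fin k) F)) 0 0 1

theorem dilM_sim (c : F) :
    (dilM k c)ᵀ * Matrix.J (Fin k) F * dilM k c = c • Matrix.J (Fin k) F := by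
  unfold dilM Matrix.J
  rw [Matrix.fromBlocks_transpose, Matrix.fromBlocks_multiply, Matrix.fromBlocks_multiply,
    Matrix.fromBlocks_smul]
  simp

theorem dilM_det (c : F) : (dilM k c).det = c ^ k := by
  unfold dilM
  rw [Matrix.det_fromBlocks_zero₂₁, Matrix.det_one, mul_one, Matrix.det_smul, Matrix.det_one,
    mul_one, Fintype.card_fin]

/-- the determinant of a similitude of the alternating form -/
theorem det_of_sim_J (g : Mt k F) (c : F) (hc : c ≠ 0)
    (h : gᵀ * Matrix.J (Fin k) F * g = c • Matrix.J (Fin k) F) : g.det = c ^ k := by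
  have h1 : (g * dilM k c⁻¹)ᵀ * Matrix.J (Fin k) F * (g * dilM k c⁻¹) = Matrix.J (Fin k) F := by
    rw [Matrix.transpose_mul]
    calc (dilM k c⁻¹)ᵀ * gᵀ * Matrix.J (Fin k) F * (g * dilM k c⁻¹)
        = (dilM k c⁻¹)ᵀ * (gᵀ * Matrix.J (Fin k) F * g) * dilM k c⁻¹ := by
          simp only [Matrix.mul_assoc]
      _ = Matrix.J (Fin k) F := by
          rw [h, Matrix.mul_smul, Matrix.smul_mul, dilM_sim, smul_smul, mul_inv_cancel₀ hc,
            one_smul]
  have h2 := SymplecticGroup.det_eq_one (SymplecticGroup.mem_iff'.2 h1)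
  rw [Matrix.det_mul, dilM_det, inv_pow] at h2
  have hck : c ^ k ≠ 0 := pow_ne_zero _ hc
  field_simp at h2
  exact h2

/-- the determinants of the similitudes of the alternating form -/
theorem det_simG_J (k : ℕ) :
    (simG (Matrix.J (Fin k) F)).map Matrix.GeneralLinearGroup.det =
      (powMonoidHom k : Fˣ →* Fˣ).range := by
  ext t
  constructor
  · rintro ⟨g, ⟨c, hc⟩, rfl⟩
    refine ⟨c, Units.ext ?_⟩
    rw [powMonoidHom_apply, Units.val_pow_eq_pow_val]
    exact (det_of_sim_J (g : Mt k F) (c : F) c.ne_zero hc).symm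
  · rintro ⟨c, rfl⟩
    have hdet : (dilM k (c : F)).det ≠ 0 := by
      rw [dilM_det]
      exact pow_ne_zero _ c.ne_zero
    refine ⟨Matrix.GeneralLinearGroup.mkOfDetNeZero _ hdet, ⟨c, dilM_sim _⟩, Units.ext ?_⟩
    rw [powMonoidHom_apply, Units.val_pow_eq_pow_val]
    exact dilM_det _

end sympdet

section symdet

open Cfsg.Agent.Helper17.Spinor

variable {F : Type*} [Field F] {n : ℕ}

/-- in odd characteristic a similitude of the quadratic form of a symmetric matrix is a
similitude of the matrix -/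
theorem sim_of_quadSim_sym (M : Matrix (Fin n) (Fin n) F) (hsym : Mᵀ = M) (h2 : (2 : F) ≠ 0)
    (G : Matrix (Fin n) (Fin n) F) (c : F) (h : ∀ v, matQ M (G *ᵥ v) = c * matQ M v) :
    Gᵀ * M * G = c • M := by
  have hp := polar_of_quadSim M G c h
  rw [hsym, ← two_smul F M] at hp
  apply matrix_ext_of_dot
  intro u v
  have := hp u v
  rw [← dot_congr, Matrix.smul_mulVec, dotProduct_smul, smul_eq_mul]
  rw [Matrix.smul_mulVec, dotProduct_smul, Matrix.smul_mulVec, dotProduct_smul, smul_eq_mul,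
    smul_eq_mul] at this
  exact mul_left_cancel₀ h2 (by linear_combination this)

/-- every scalar is the multiplier of a similitude of a symmetric form in even dimension -/
theorem exists_sim_of_mult [Fintype F] (M : Matrix (Fin n) (Fin n) F) (hdet : M.det ≠ 0)
    (hsym : Mᵀ = M) (h2 : (2 : F) ≠ 0) (hn : 2 ≤ n) (he : Even n) (c : Fˣ) :
    ∃ g : GL (Fin n) F, (g : Matrix (Fin n) (Fin n) F)ᵀ * M * (g : Matrix (Fin n) (Fin n) F) =
      (c : F) • M := by
  have hQ := matQ_nondeg_of_sym M hdet hsym h2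
  obtain ⟨φ, hφ⟩ := Cfsg.Agent.S2624.result hn he (matQ M) hQ c c.ne_zero
  obtain ⟨G, hG⟩ : ∃ G : Matrix (Fin n) (Fin n) F,
      G = LinearMap.toMatrix' (φ : (Fin n → F) →ₗ[F] (Fin n → F)) := ⟨_, rfl⟩
  have hGv : ∀ v, G *ᵥ v = φ v := by
    intro v
    rw [hG, LinearMap.toMatrix'_mulVec]
    rfl
  have hsim : Gᵀ * M * G = (c : F) • M :=
    sim_of_quadSim_sym M hsym h2 G c (fun v => by rw [hGv]; exact hφ v)
  have hGdet : G.det ≠ 0 := by
    rw [hG, LinearMap.det_toMatrix']
    exact (LinearEquiv.isUnit_det' φ).ne_zero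
  exact ⟨Matrix.GeneralLinearGroup.mkOfDetNeZero G hGdet, hsim⟩

/-- an isometry of determinant `-1` -/
theorem exists_sim_det_neg_one (M : Matrix (Fin n) (Fin n) F) (hdet : M.det ≠ 0)
    (hsym : Mᵀ = M) (h2 : (2 : F) ≠ 0) (hn : 0 < n) :
    ∃ g : GL (Fin n) F, (g : Matrix (Fin n) (Fin n) F)ᵀ * M * (g : Matrix (Fin n) (Fin n) F) = M ∧
      (g : Matrix (Fin n) (Fin n) F).det = -1 := by
  have hv : ∃ v : Fin n → F, matQ M v ≠ 0 := by
    by_contra hcon
    push Not at hcon
    apply hdet
    have hM : M = 0 := by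
      ext i j
      have h1 := polar_matQ_single M i j
      unfold QuadraticMap.polar at h1
      rw [hcon, hcon, hcon, sub_zero, sub_zero] at h1
      have h3 : M j i = M i j := by
        have := congrFun (congrFun hsym i) j
        rw [Matrix.transpose_apply] at this
        exact this
      rw [h3, ← two_mul] at h1
      rw [Matrix.zero_apply]
      exact ((mul_eq_zero.1 h1.symm).resolve_left h2)
    have hne : Nonempty (Fin n) := ⟨⟨0, hn⟩⟩
    rw [hM, Matrix.det_zero]
  obtain ⟨v, hv⟩ := hv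
  obtain ⟨R, hR⟩ : ∃ R : Matrix (Fin n) (Fin n) F,
      R = Cfsg.reflectionMatrix (⇑(matQ M)) v := ⟨_, rfl⟩
  have hRdet : R.det = -1 := by
    rw [hR]
    exact det_reflectionMatrix (matQ M) hv
  have hRq : ∀ u, matQ M (R *ᵥ u) = 1 * matQ M u := by
    intro u
    rw [hR, one_mul]
    have := reflectionMatrix_mulVec (matQ M) v u
    change Cfsg.reflectionMatrix (⇑(matQ M)) v *ᵥ u = _ at this
    rw [this, Q_refl (matQ M) hv]
  have hsim := sim_of_quadSim_sym M hsym h2 R 1 hRq
  rw [one_smul] at hsim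
  have hRdet0 : R.det ≠ 0 := by
    rw [hRdet]
    exact neg_ne_zero.2 one_ne_zero
  exact ⟨Matrix.GeneralLinearGroup.mkOfDetNeZero R hRdet0, hsim, hRdet⟩

/-- the determinants of the similitudes of a symmetric form in even dimension -/
theorem det_simG_sym [Fintype F] (M : Matrix (Fin n) (Fin n) F) (hdet : M.det ≠ 0)
    (hsym : Mᵀ = M) (h2 : (2 : F) ≠ 0) (k : ℕ) (hk : 1 ≤ k) (hnk : n = 2 * k) :
    (powMonoidHom n : Fˣ →* Fˣ).range ⊔ (simG M).map Matrix.GeneralLinearGroup.det =
      Subgroup.zpowers (-1 : Fˣ) ⊔ (powMonoidHom k : Fˣ →* Fˣ).range := by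
  have key : ∀ (g : GL (Fin n) F) (c : Fˣ),
      (g : Matrix (Fin n) (Fin n) F)ᵀ * M * (g : Matrix (Fin n) (Fin n) F) = (c : F) • M →
      Matrix.GeneralLinearGroup.det g = c ^ k ∨ Matrix.GeneralLinearGroup.det g = -c ^ k := by
    intro g c hc
    have h3 := det_sq_of_sim M _ hdet c hc
    rw [Fintype.card_fin] at h3
    have h3' : (g : Matrix (Fin n) (Fin n) F).det ^ 2 = ((c : F) ^ k) ^ 2 := by
      rw [h3, ← pow_mul, mul_comm, ← hnk]
    rcases sq_eq_sq_iff_eq_or_eq_neg.1 h3' with h | h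
    · left
      apply Units.ext
      rw [Units.val_pow_eq_pow_val, ← h]
      rfl
    · right
      apply Units.ext
      rw [Units.val_neg, Units.val_pow_eq_pow_val, ← h]
      rfl
  have hneg : (-1 : Fˣ) ∈ (powMonoidHom n : Fˣ →* Fˣ).range ⊔
      (simG M).map Matrix.GeneralLinearGroup.det := by
    apply Subgroup.mem_sup_right
    obtain ⟨g, hg, hd⟩ := exists_sim_det_neg_one M hdet hsym h2 (by omega)
    refine ⟨g, ⟨1, ?_⟩, Units.ext ?_⟩
    · rw [Units.val_one, one_smul]
      exact hg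
    · rw [Units.val_neg, Units.val_one, ← hd]
      rfl
  apply le_antisymm
  · apply sup_le
    · rintro _ ⟨x, rfl⟩
      apply Subgroup.mem_sup_right
      refine ⟨x ^ 2, ?_⟩
      rw [powMonoidHom_apply, powMonoidHom_apply, ← pow_mul, hnk]
    · rintro _ ⟨g, ⟨c, hc⟩, rfl⟩
      rcases key g c hc with h | h
      · apply Subgroup.mem_sup_right
        exact ⟨c, h.symm⟩
      · have : Matrix.GeneralLinearGroup.det g = (-1 : Fˣ) * c ^ k := by
          rw [h, neg_one_mul]
        rw [this]
        exact Subgroup.mul_mem_sup (Subgroup.mem_zpowers _) ⟨c, rfl⟩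
  · apply sup_le
    · rw [Subgroup.zpowers_le]
      exact hneg
    · rintro _ ⟨x, rfl⟩
      obtain ⟨g, hg⟩ := exists_sim_of_mult M hdet hsym h2 (by omega) ⟨k, by omega⟩ x
      have hgm : Matrix.GeneralLinearGroup.det g ∈ (powMonoidHom n : Fˣ →* Fˣ).range ⊔
          (simG M).map Matrix.GeneralLinearGroup.det :=
        Subgroup.mem_sup_right ⟨g, ⟨x, hg⟩, rfl⟩
      rw [powMonoidHom_apply]
      rcases key g x hg with h | h
      · rw [← h]
        exact hgm
      · have : x ^ k = (-1 : Fˣ) * Matrix.GeneralLinearGroup.det g := by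
          rw [h, neg_one_mul, neg_neg]
        rw [this]
        exact Subgroup.mul_mem _ hneg hgm

/-- the index of the group generated by `-1` and the `k`-th powers -/
theorem index_neg_one_sup_pow [Fintype F] (hodd : Odd (Fintype.card F)) (k : ℕ) :
    (Subgroup.zpowers (-1 : Fˣ) ⊔ (powMonoidHom k : Fˣ →* Fˣ).range).index =
      Nat.gcd (2 * k) (Fintype.card F - 1) / 2 := by
  rw [sup_comm, Cfsg.Agent.Helper2.PN.index_pow_sup]
  have h2 : (2 : F) ≠ 0 := by
    have hc : ringChar F ≠ 2 := by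
      intro h
      have := FiniteField.even_card_of_char_two h
      have := Nat.odd_iff.1 hodd
      omega
    exact Ring.two_ne_zero hc
  have h1 : (Subgroup.zpowers (-1 : Fˣ)).index = (Fintype.card F - 1) / 2 := by
    have h3 : Nat.card (Subgroup.zpowers (-1 : Fˣ)) = 2 := by
      rw [Nat.card_zpowers]
      apply orderOf_eq_prime
      · rw [neg_one_sq]
      · intro h
        have h4 : ((-1 : Fˣ) : F) = ((1 : Fˣ) : F) := by rw [h]
        rw [Units.val_neg, Units.val_one] at h4
        apply h2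
        linear_combination -h4
    have := Subgroup.card_mul_index (Subgroup.zpowers (-1 : Fˣ))
    rw [h3, Nat.card_units, Nat.card_eq_fintype_card] at this
    omega
  rw [h1]
  obtain ⟨j, hj⟩ := hodd
  have hj' : Fintype.card F - 1 = 2 * j := by omega
  rw [hj', Nat.gcd_mul_left, Nat.mul_div_cancel_left _ (by norm_num : 0 < 2),
    Nat.mul_div_cancel_left _ (by norm_num : 0 < 2)]

end symdet

end Cfsg.Agent.Helper2.PGR
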