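import Mathlib
import Cfsg.Agent.Lib.Helper2.Pgr12
import Cfsg.Agent.Lib.Helper2.SympCard

set_option autoImplicit false
set_option linter.unusedSimpArgs false
set_option linter.unusedVariables false
set_option linter.unusedSectionVars false

/-! Involutory graph automorphisms of the linear groups, part 13: the multiplier homomorphism and
the orders of the projective similitude groups. -/

namespace Cfsg.Agent.Helper2.PGR

open Matrix Cfsg.Agent.Helper13 Cfsg.Agent.Helper2.Symp Cfsg.Agent.Helper2.SpA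
  Cfsg.Agent.Helper2.Orth

section mult

variable {κ : Type} [Fintype κ] [DecidableEq κ] {F : Type*} [Field F]

theorem mult_unique {N : Matrix κ κ F} (hN : N ≠ 0) {c d : F} (h : c • N = d • N) : c = d := by
  have h1 : (c - d) • N = 0 := by rw [sub_smul, h, sub_self]
  rcases smul_eq_zero.1 h1 with h3 | h3
  · exact sub_eq_zero.1 h3
  · exact absurd h3 hN

/-- the multiplier of a similitude -/
noncomputable def multHom (N : Matrix κ κ F) (hN : N ≠ 0) : ↥(simG N) →* Fˣ where
  toFun g := Classical.choose ((mem_simG_iff N g.1).1 g.2)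
  map_one' := by
    apply Units.ext
    apply mult_unique hN
    rw [← Classical.choose_spec ((mem_simG_iff N (1 : ↥(simG N)).1).1 (1 : ↥(simG N)).2)]
    simp
  map_mul' g h := by
    apply Units.ext
    apply mult_unique hN
    obtain ⟨cg, hcg, hg⟩ : ∃ cg : Fˣ, cg = Classical.choose ((mem_simG_iff N g.1).1 g.2) ∧
        ((g : GL κ F) : Matrix κ κ F)ᵀ * N * ((g : GL κ F) : Matrix κ κ F) = (cg : F) • N :=
      ⟨_, rfl, Classical.choose_spec ((mem_simG_iff N g.1).1 g.2)⟩
    obtain ⟨ch, hch, hh⟩ : ∃ ch : Fˣ, ch = Classical.choose ((mem_simG_iff N h.1).1 h.2) ∧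
        ((h : GL κ F) : Matrix κ κ F)ᵀ * N * ((h : GL κ F) : Matrix κ κ F) = (ch : F) • N :=
      ⟨_, rfl, Classical.choose_spec ((mem_simG_iff N h.1).1 h.2)⟩
    have hgh := Classical.choose_spec ((mem_simG_iff N (g * h).1).1 (g * h).2)
    rw [← hgh, ← hcg, ← hch, Subgroup.coe_mul, Units.val_mul, Matrix.transpose_mul]
    calc ((h : GL κ F) : Matrix κ κ F)ᵀ * ((g : GL κ F) : Matrix κ κ F)ᵀ * N *
          (((g : GL κ F) : Matrix κ κ F) * ((h : GL κ F) : Matrix κ κ F))
        = ((h : GL κ F) : Matrix κ κ F)ᵀ * (((g : GL κ F) : Matrix κ κ F)ᵀ * N *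
          ((g : GL κ F) : Matrix κ κ F)) * ((h : GL κ F) : Matrix κ κ F) := by
          simp only [Matrix.mul_assoc]
      _ = _ := by rw [hg, Matrix.mul_smul, Matrix.smul_mul, hh, smul_smul, Units.val_mul]

theorem multHom_spec (N : Matrix κ κ F) (hN : N ≠ 0) (g : ↥(simG N)) :
    ((g : GL κ F) : Matrix κ κ F)ᵀ * N * ((g : GL κ F) : Matrix κ κ F) =
      ((multHom N hN g : Fˣ) : F) • N :=
  Classical.choose_spec ((mem_simG_iff N g.1).1 g.2)

theorem multHom_eq (N : Matrix κ κ F) (hN : N ≠ 0) (g : ↥(simG N)) (c : Fˣ)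
    (h : ((g : GL κ F) : Matrix κ κ F)ᵀ * N * ((g : GL κ F) : Matrix κ κ F) = (c : F) • N) :
    multHom N hN g = c :=
  Units.ext (mult_unique hN (by rw [← multHom_spec, h]))

theorem mem_ker_multHom_iff (N : Matrix κ κ F) (hN : N ≠ 0) (g : ↥(simG N)) :
    g ∈ (multHom N hN).ker ↔
      ((g : GL κ F) : Matrix κ κ F)ᵀ * N * ((g : GL κ F) : Matrix κ κ F) = N := by
  rw [MonoidHom.mem_ker]
  constructor
  · intro h
    have := multHom_spec N hN g
    rw [h, Units.val_one, one_smul] at this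
    exact this
  · intro h
    apply multHom_eq
    rw [Units.val_one, one_smul]
    exact h

variable [Fintype F]

theorem card_scalars [Nonempty κ] : Nat.card (Cfsg.Geo.scalars κ F) = Fintype.card F - 1 := by
  unfold Cfsg.Geo.scalars
  have hinj : Function.Injective
      (Units.map (Matrix.scalar κ : F →+* Matrix κ κ F).toMonoidHom : Fˣ →* GL κ F) := by
    intro a b h
    obtain ⟨i⟩ := ‹Nonempty κ›
    have h1 := congrArg (fun g : GL κ F => (g : Matrix κ κ F) i i) h
    simp at h1
    exact Units.ext h1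
  rw [← Nat.card_congr (MonoidHom.ofInjective hinj).toEquiv, Nat.card_units,
    Nat.card_eq_fintype_card]

theorem scalars_le_simG (N : Matrix κ κ F) : Cfsg.Geo.scalars κ F ≤ simG N := by
  intro g hg
  obtain ⟨a, rfl⟩ := (mem_scalars_iff' g).1 hg
  exact scalar_mem_simG N a

theorem card_simG_eq_projQuot [Nonempty κ] (N : Matrix κ κ F) :
    Nat.card (simG N) = Nat.card (Cfsg.projQuot (simG N)) * (Fintype.card F - 1) := by
  rw [Subgroup.card_eq_card_quotient_mul_card_subgroup
    ((Cfsg.Geo.scalars κ F).subgroupOf (simG N)),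
    Nat.card_congr (Subgroup.subgroupOfEquivOfLe (scalars_le_simG N)).toEquiv, card_scalars]

theorem card_simG_eq_ker (N : Matrix κ κ F) (hN : N ≠ 0) :
    Nat.card (simG N) = Nat.card (multHom N hN).ker * Nat.card (multHom N hN).range := by
  rw [← Subgroup.index_ker, Subgroup.card_mul_index]

/-- the projective similitude group is at most as large as the isometry group -/
theorem card_projQuot_le [Nonempty κ] (N : Matrix κ κ F) (hN : N ≠ 0) :
    Nat.card (Cfsg.projQuot (simG N)) ≤ Nat.card (multHom N hN).ker := by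
  have h1 := card_simG_eq_projQuot N
  have h3 := card_simG_eq_ker N hN
  have h4 : Nat.card (multHom N hN).range ≤ Fintype.card F - 1 := by
    have := Nat.card_le_card_of_injective (Subtype.val : ↥(multHom N hN).range → Fˣ)
      Subtype.val_injective
    rw [Nat.card_units, Nat.card_eq_fintype_card (α := F)] at this
    exact this
  have hq : 0 < Fintype.card F - 1 := by
    have := Fintype.one_lt_card (α := F)
    omega
  rw [h1] at h3
  have h5 : Nat.card (Cfsg.projQuot (simG N)) * (Fintype.card F - 1) ≤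
      Nat.card (multHom N hN).ker * (Fintype.card F - 1) := by
    rw [h3]
    exact Nat.mul_le_mul_left _ h4
  exact Nat.le_of_mul_le_mul_right h5 hq

/-- if all multipliers occur the projective similitude group has the order of the isometry
group -/
theorem card_projQuot_eq [Nonempty κ] (N : Matrix κ κ F) (hN : N ≠ 0)
    (hsurj : Function.Surjective (multHom N hN)) :
    Nat.card (Cfsg.projQuot (simG N)) = Nat.card (multHom N hN).ker := by
  have h1 := card_simG_eq_projQuot N
  have h3 := card_simG_eq_ker N hN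
  have h4 : Nat.card (multHom N hN).range = Fintype.card F - 1 := by
    rw [MonoidHom.range_eq_top.2 hsurj, Subgroup.card_top, Nat.card_units,
      Nat.card_eq_fintype_card]
  have hq : 0 < Fintype.card F - 1 := by
    have := Fintype.one_lt_card (α := F)
    omega
  rw [h1, h4] at h3
  exact Nat.eq_of_mul_eq_mul_right hq h3

end mult

section cards

variable {F : Type*} [Field F] [Fintype F]

theorem J_ne_zero {k : ℕ} (hk : 0 < k) : Matrix.J (Fin k) F ≠ 0 := by
  intro h
  have hne : Nonempty (Fin k ⊕ Fin k) := ⟨Sum.inl ⟨0, hk⟩⟩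
  have := J_det_ne_zero (F := F) k
  rw [h, Matrix.det_zero] at this
  exact this rfl

/-- the order of the projective conformal symplectic group is at least the order of the
symplectic group -/
theorem card_symp_le_pgsp {k : ℕ} (hk : 0 < k) :
    Nat.card (Matrix.symplecticGroup (Fin k) F) ≤ Nat.card (Cfsg.PGSp k F) := by
  have hne : Nonempty (Fin k ⊕ Fin k) := ⟨Sum.inl ⟨0, hk⟩⟩
  have hJ := J_ne_zero (F := F) hk
  change _ ≤ Nat.card (Cfsg.projQuot (Cfsg.GSp k F))
  rw [← simG_J k]
  have hsurj : Function.Surjective (multHom (Matrix.J (Fin k) F) hJ) := by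
    intro c
    have hdet : (dilM k (c : F)).det ≠ 0 := by
      rw [dilM_det]
      exact pow_ne_zero _ c.ne_zero
    refine ⟨⟨Matrix.GeneralLinearGroup.mkOfDetNeZero _ hdet, ⟨c, dilM_sim _⟩⟩, ?_⟩
    apply multHom_eq
    exact dilM_sim _
  rw [card_projQuot_eq _ hJ hsurj]
  have hmem : ∀ s : Matrix.symplecticGroup (Fin k) F, toGL s ∈ simG (Matrix.J (Fin k) F) := by
    intro s
    refine ⟨1, ?_⟩
    rw [toGL_coe, Units.val_one, one_smul]
    exact SymplecticGroup.mem_iff'.1 s.2
  apply Nat.card_le_card_of_injective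
    (fun s : Matrix.symplecticGroup (Fin k) F =>
      (⟨⟨toGL s, hmem s⟩, (mem_ker_multHom_iff _ hJ _).2 (by
        change ((toGL s : GL (Fin k ⊕ Fin k) F) : Mt k F)ᵀ * _ * _ = _
        rw [toGL_coe]
        exact SymplecticGroup.mem_iff'.1 s.2)⟩ : ↥(multHom (Matrix.J (Fin k) F) hJ).ker))
  intro s t h
  have h1 := congrArg (fun x : ↥(multHom (Matrix.J (Fin k) F) hJ).ker =>
    (((x : ↥(simG (Matrix.J (Fin k) F))) : GL (Fin k ⊕ Fin k) F) : Mt k F)) h
  exact Subtype.ext h1

theorem quadSim_of_polar {κ : Type} [Fintype κ] [DecidableEq κ] (h2 : (2 : F) ≠ 0)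
    (A g : Matrix κ κ F) (c : F) (h : gᵀ * (A + Aᵀ) * g = c • (A + Aᵀ)) (v : κ → F) :
    matQ A (g *ᵥ v) = c * matQ A v := by
  have h1 : v ⬝ᵥ ((gᵀ * (A + Aᵀ) * g) *ᵥ v) = v ⬝ᵥ ((c • (A + Aᵀ)) *ᵥ v) := by rw [h]
  rw [← dot_congr, Matrix.smul_mulVec, dotProduct_smul, dot_add_transpose', dot_add_transpose',
    smul_eq_mul] at h1
  exact mul_left_cancel₀ h2 (by linear_combination h1)

/-- the isometries of the polar form are isometries of the quadratic form -/
theorem card_ker_le_isometry {κ : Type} [Fintype κ] [DecidableEq κ] (h2 : (2 : F) ≠ 0)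
    (A : Matrix κ κ F) (hN : A + Aᵀ ≠ 0) :
    Nat.card (multHom (A + Aᵀ) hN).ker ≤ Nat.card (Cfsg.isometryGroup F (⇑(matQ A))) := by
  apply Nat.card_le_card_of_injective
    (fun g : ↥(multHom (A + Aᵀ) hN).ker =>
      (⟨((g : ↥(simG (A + Aᵀ))) : GL κ F), fun u _ => by
        have h := (mem_ker_multHom_iff _ hN _).1 g.2
        have := quadSim_of_polar h2 A _ 1 (by rw [one_smul]; exact h) u
        rw [one_mul] at this
        exact this⟩ : ↥(Cfsg.isometryGroup F (⇑(matQ A)))))
  intro s t h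
  have h1 := congrArg (fun x : ↥(Cfsg.isometryGroup F (⇑(matQ A))) => (x : GL κ F)) h
  exact Subtype.ext (Subtype.ext h1)

end cards

section numeric

theorem sq_sub_one_succ (y : ℕ) : (y + 1) ^ 2 - 1 = y * (y + 2) := by
  have : (y + 1) ^ 2 = y * (y + 2) + 1 := by ring
  rw [this, Nat.add_sub_cancel]

theorem num_plus (q k P : ℕ) (hq : 3 ≤ q) (hP : 0 < P) :
    2 * q ^ ((k + 1) * k) * (q ^ (k + 1) - 1) * P <
      q ^ ((k + 1) ^ 2) * (P * (q ^ (2 * (k + 1)) - 1)) := by
  obtain ⟨y, hy⟩ : ∃ y, q ^ (k + 1) = y + 1 := by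
    have : 0 < q ^ (k + 1) := Nat.pow_pos (by omega)
    exact ⟨q ^ (k + 1) - 1, by omega⟩
  have hy2 : 2 ≤ y := by
    have h1 : q ^ 1 ≤ q ^ (k + 1) := Nat.pow_le_pow_right (by omega) (by omega)
    rw [pow_one] at h1
    omega
  have e1 : q ^ ((k + 1) ^ 2) = q ^ ((k + 1) * k) * (y + 1) := by
    rw [← hy, ← pow_add]
    congr 1
    ring
  have e2 : q ^ (2 * (k + 1)) = (y + 1) ^ 2 := by
    rw [← hy, ← pow_mul, mul_comm]
  have hA : 0 < q ^ ((k + 1) * k) := Nat.pow_pos (by omega)
  rw [e1, e2, hy, Nat.add_sub_cancel, sq_sub_one_succ]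
  have hB : 0 < q ^ ((k + 1) * k) * P := Nat.mul_pos hA hP
  have h3 : 2 * y < (y + 1) * (y * (y + 2)) := by nlinarith
  calc 2 * q ^ ((k + 1) * k) * y * P = (q ^ ((k + 1) * k) * P) * (2 * y) := by ring
    _ < (q ^ ((k + 1) * k) * P) * ((y + 1) * (y * (y + 2))) := Nat.mul_lt_mul_of_pos_left h3 hB
    _ = q ^ ((k + 1) * k) * (y + 1) * (P * (y * (y + 2))) := by ring

theorem num_minus (q k P : ℕ) (hq : 3 ≤ q) (hP : 0 < P) :
    2 * q ^ ((k + 1) * k) * (q ^ (k + 1) + 1) * P <
      q ^ ((k + 1) ^ 2) * (P * (q ^ (2 * (k + 1)) - 1)) := by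
  obtain ⟨y, hy⟩ : ∃ y, q ^ (k + 1) = y + 1 := by
    have : 0 < q ^ (k + 1) := Nat.pow_pos (by omega)
    exact ⟨q ^ (k + 1) - 1, by omega⟩
  have hy2 : 2 ≤ y := by
    have h1 : q ^ 1 ≤ q ^ (k + 1) := Nat.pow_le_pow_right (by omega) (by omega)
    rw [pow_one] at h1
    omega
  have e1 : q ^ ((k + 1) ^ 2) = q ^ ((k + 1) * k) * (y + 1) := by
    rw [← hy, ← pow_add]
    congr 1
    ring
  have e2 : q ^ (2 * (k + 1)) = (y + 1) ^ 2 := by
    rw [← hy, ← pow_mul, mul_comm]
  have hA : 0 < q ^ ((k + 1) * k) := Nat.pow_pos (by omega)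
  rw [e1, e2, hy, sq_sub_one_succ]
  have hB : 0 < q ^ ((k + 1) * k) * P := Nat.mul_pos hA hP
  have h3 : 2 * (y + 1 + 1) < (y + 1) * (y * (y + 2)) := by nlinarith
  calc 2 * q ^ ((k + 1) * k) * (y + 1 + 1) * P = (q ^ ((k + 1) * k) * P) * (2 * (y + 1 + 1)) := by
        ring
    _ < (q ^ ((k + 1) * k) * P) * ((y + 1) * (y * (y + 2))) := Nat.mul_lt_mul_of_pos_left h3 hB
    _ = q ^ ((k + 1) * k) * (y + 1) * (P * (y * (y + 2))) := by ring

theorem prod_pos' (q k : ℕ) (hq : 2 ≤ q) :
    0 < ∏ i ∈ Finset.range k, (q ^ (2 * (i + 1)) - 1) := by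
  apply Finset.prod_pos
  intro i _
  have : 1 < q ^ (2 * (i + 1)) := Nat.one_lt_pow (by omega) (by omega)
  omega

end numeric

section final

variable {F : Type*} [Field F] [Fintype F]

theorem three_le_card (h2 : (2 : F) ≠ 0) : 3 ≤ Fintype.card F := by
  have h1 := Fintype.one_lt_card (α := F)
  by_contra hlt
  have h3 : Fintype.card F = 2 := by omega
  apply h2
  have : ((Fintype.card F : ℕ) : F) = 0 := Nat.cast_card_eq_zero F
  rw [h3] at this
  exact_mod_cast this

/-- the projective conformal orthogonal group of plus type is smaller than the projective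
conformal symplectic group -/
theorem card_pgo_plus_lt (h2 : (2 : F) ≠ 0) (k : ℕ) :
    Nat.card (Cfsg.projQuot (simG (hypBlock (k + 1) F))) < Nat.card (Cfsg.PGSp (k + 1) F) := by
  have hne : Nonempty (Fin (k + 1) ⊕ Fin (k + 1)) := ⟨Sum.inl 0⟩
  have hH : hypBlock (k + 1) F ≠ 0 := by
    intro h
    have := hypBlock_det_ne_zero (F := F) (k + 1)
    rw [h, Matrix.det_zero] at this
    exact this rfl
  have hH' : plusMat (k + 1) F + (plusMat (k + 1) F)ᵀ ≠ 0 := by
    rw [← hypBlock_eq]
    exact hH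
  have h1 : Nat.card (Cfsg.projQuot (simG (hypBlock (k + 1) F))) ≤
      Nat.card (Cfsg.isometryGroup F (Cfsg.quadFormPlus (k + 1) F)) := by
    rw [quadFormPlus_eq]
    have e : hypBlock (k + 1) F = plusMat (k + 1) F + (plusMat (k + 1) F)ᵀ := hypBlock_eq _
    rw [e]
    exact (card_projQuot_le _ hH').trans (card_ker_le_isometry h2 _ hH')
  have h3 := card_symp_le_pgsp (F := F) (k := k + 1) (by omega)
  rw [card_symplecticGroup, Finset.prod_range_succ] at h3
  rw [card_plus_succ] at h1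
  have h4 := num_plus (Fintype.card F) k _ (three_le_card h2)
    (prod_pos' (Fintype.card F) k (by have := three_le_card h2; omega))
  exact lt_of_le_of_lt h1 (lt_of_lt_of_le h4 h3)

/-- the projective conformal orthogonal group of minus type is smaller than the projective
conformal symplectic group -/
theorem card_pgo_minus_lt (h2 : (2 : F) ≠ 0) (k : ℕ) (ζ : F) (hζ : ∀ t : F, t ^ 2 + t + ζ ≠ 0) :
    Nat.card (Cfsg.projQuot (simG (minusN k ζ))) < Nat.card (Cfsg.PGSp (k + 1) F) := by
  have hne : Nonempty ((Fin k ⊕ Fin k) ⊕ Fin 2) := ⟨Sum.inr 0⟩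
  have hH : minusN k ζ ≠ 0 := by
    intro h
    have := minusN_det_ne_zero k ζ h2 hζ
    rw [h, Matrix.det_zero] at this
    exact this rfl
  have h1 : Nat.card (Cfsg.projQuot (simG (minusN k ζ))) ≤
      Nat.card (Cfsg.isometryGroup F (Cfsg.quadFormMinus k F 1 ζ)) := by
    rw [quadFormMinus_eq]
    exact (card_projQuot_le _ hH).trans (card_ker_le_isometry h2 _ hH)
  have h3 := card_symp_le_pgsp (F := F) (k := k + 1) (by omega)
  rw [card_symplecticGroup, Finset.prod_range_succ] at h3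
  rw [card_minus 1 ζ (aniso_of_zeta ζ hζ)] at h1
  have h4 := num_minus (Fintype.card F) k _ (three_le_card h2)
    (prod_pos' (Fintype.card F) k (by have := three_le_card h2; omega))
  exact lt_of_le_of_lt h1 (lt_of_lt_of_le h4 h3)

end final

end Cfsg.Agent.Helper2.PGR
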