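import Mathlib
import Cfsg.Agent.Lib.Helper5.PimDefs

set_option autoImplicit false

/-! S4427 piece C: a valuation subring of `ℂ` in which `p` is a non-unit gives `LocData p`. -/

namespace Cfsg.Agent.Helper5.Pim

open Polynomial

theorem exists_multiset_map {α β : Type*} (c : β → α) (m : Multiset α)
    (h : ∀ a ∈ m, ∃ b, c b = a) : ∃ s : Multiset β, s.map c = m := by
  induction m using Multiset.induction with
  | empty => exact ⟨0, rfl⟩
  | cons a m ih =>
    obtain ⟨b, hb⟩ := h a (Multiset.mem_cons_self a m)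
    obtain ⟨s, hs⟩ := ih (fun x hx => h x (Multiset.mem_cons_of_mem hx))
    exact ⟨b ::ₘ s, by rw [Multiset.map_cons, hb, hs]⟩

theorem splits_valuationSubring (B : ValuationSubring ℂ) (f : (B : Type)[X]) (hf : f.Monic) :
    ∃ s : Multiset B, f = (s.map fun a => (X - C a : (B : Type)[X])).prod := by
  have hinj : Function.Injective (algebraMap B ℂ) := Subtype.val_injective
  obtain ⟨g, hg⟩ : ∃ g : ℂ[X], g = f.map (algebraMap B ℂ) := ⟨_, rfl⟩
  have hgm : g.Monic := by rw [hg]; exact hf.map _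
  have hgs : g = (g.roots.map (X - C ·)).prod :=
    (IsAlgClosed.splits g).eq_prod_roots_of_monic hgm
  have hr : ∀ r ∈ g.roots, ∃ y : B, algebraMap B ℂ y = r := by
    intro r hr
    apply IsIntegrallyClosed.isIntegral_iff.1
    refine ⟨f, hf, ?_⟩
    have h1 := (mem_roots hgm.ne_zero).1 hr
    rw [IsRoot.def, hg, eval_map] at h1
    exact h1
  obtain ⟨s, hs⟩ := exists_multiset_map (algebraMap B ℂ) g.roots hr
  refine ⟨s, ?_⟩
  apply Polynomial.map_injective (algebraMap B ℂ) hinj
  rw [← hg, hgs, Polynomial.map_multiset_prod, Multiset.map_map, ← hs, Multiset.map_map]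
  congr 1
  apply Multiset.map_congr rfl
  intro a _
  simp

theorem exists_locData (p : ℕ) (hp : p.Prime) : Nonempty (LocData p) := by
  obtain ⟨A, hA⟩ : ∃ A : Subring ℂ, A = (Int.castRingHom ℂ).range := ⟨_, rfl⟩
  have hpA : (p : ℂ) ∈ A := by
    rw [hA]
    exact ⟨(p : ℤ), by simp⟩
  have hI : Ideal.span {(⟨(p : ℂ), hpA⟩ : A)} ≠ ⊤ := by
    intro h
    have h1 : (1 : A) ∈ Ideal.span {(⟨(p : ℂ), hpA⟩ : A)} := by rw [h]; exact Submodule.mem_top
    obtain ⟨a, ha⟩ := Ideal.mem_span_singleton'.1 h1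
    obtain ⟨a, haA⟩ := a
    have haA' := haA
    rw [hA] at haA'
    obtain ⟨m, hm⟩ := haA'
    have h2 := congrArg Subtype.val ha
    simp only [Subring.coe_mul, Subring.coe_one] at h2
    rw [← hm] at h2
    have h3 : m * (p : ℤ) = 1 := by
      have : ((m * (p : ℤ) : ℤ) : ℂ) = ((1 : ℤ) : ℂ) := by
        push_cast
        simpa using h2
      exact Int.cast_injective this
    have h4 : (p : ℤ) ∣ 1 := Dvd.intro_left m h3
    have h5 : p ∣ 1 := by exact_mod_cast h4
    have := hp.one_lt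
    have := Nat.le_of_dvd one_pos h5
    omega
  obtain ⟨B, -, hB⟩ := Ideal.image_subset_nonunits_valuationSubring _ hI
  have hpB : (p : ℂ) ∈ B.nonunits :=
    hB ⟨⟨(p : ℂ), hpA⟩, Ideal.subset_span rfl, rfl⟩
  refine ⟨{ O := B, φ := B.subtype, φ_inj := Subtype.val_injective, p_mem := ?_, splits := ?_ }⟩
  · rw [← ValuationSubring.coe_mem_nonunits_iff]
    have : (((p : ℕ) : B) : ℂ) = (p : ℂ) := by simp
    rw [this]
    exact hpB
  · exact splits_valuationSubring B

end Cfsg.Agent.Helper5.Pim
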