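import Mathlib
import Cfsg.Agent.Lib.Helper5.PimDefs

set_option autoImplicit false

/-! S4427 piece C2: units and roots of unity in `LocData`. -/

namespace Cfsg.Agent.Helper5.Pim

open Polynomial

theorem LocData.isUnit_natCast {p : ℕ} (D : LocData p) (hp : p.Prime) {n : ℕ} (hn : n.Coprime p) :
    IsUnit (n : D.O) := by
  have _hp := hp
  by_contra h
  have hm : (n : D.O) ∈ IsLocalRing.maximalIdeal D.O := (IsLocalRing.mem_maximalIdeal _).2 h
  have hc : IsCoprime (n : ℤ) (p : ℤ) := Nat.isCoprime_iff_coprime.2 hn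
  obtain ⟨a, b, hab⟩ := hc
  have h1 : (a : D.O) * (n : D.O) + (b : D.O) * (p : D.O) = 1 := by
    have := congrArg (Int.cast : ℤ → D.O) hab
    push_cast at this
    exact this
  have h2 : (1 : D.O) ∈ IsLocalRing.maximalIdeal D.O := by
    rw [← h1]
    exact Ideal.add_mem _ (Ideal.mul_mem_left _ _ hm) (Ideal.mul_mem_left _ _ D.p_mem)
  exact (Ideal.ne_top_iff_one _).1 (IsLocalRing.maximalIdeal.isMaximal D.O).ne_top h2

theorem LocData.exists_root_of_unity {p : ℕ} (D : LocData p) (hp : p.Prime) :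
    ∃ ω : D.O, ω ≠ 1 ∧ ω ^ p = 1 ∧ ω - 1 ∈ IsLocalRing.maximalIdeal D.O := by
  obtain ⟨f, hf⟩ : ∃ f : D.O[X], f = ∑ i ∈ Finset.range p, (X : D.O[X]) ^ i := ⟨_, rfl⟩
  have hfm : f.Monic := by
    rw [hf]
    exact Polynomial.monic_geom_sum_X hp.ne_zero
  obtain ⟨s, hs⟩ := D.splits f hfm
  have hev : ∀ x : D.O, ∑ i ∈ Finset.range p, x ^ i = (s.map fun a => x - a).prod := by
    intro x
    have h1 := congrArg (Polynomial.eval x) hs
    rw [hf, Polynomial.eval_finsetSum, Polynomial.eval_multiset_prod, Multiset.map_map] at h1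
    simpa using h1
  have hp1 : (p : D.O) = (s.map fun a => (1 : D.O) - a).prod := by
    rw [← hev 1]
    simp
  have hmem : (s.map fun a => (1 : D.O) - a).prod ∈ IsLocalRing.maximalIdeal D.O := by
    rw [← hp1]
    exact D.p_mem
  obtain ⟨x, hx, hxm⟩ :=
    ((IsLocalRing.maximalIdeal.isMaximal D.O).isPrime.multiset_prod_mem_iff_exists_mem _).1 hmem
  obtain ⟨ω, hωs, rfl⟩ := Multiset.mem_map.1 hx
  have hroot : ∑ i ∈ Finset.range p, ω ^ i = 0 := by
    rw [hev ω]
    apply Multiset.prod_eq_zero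
    exact Multiset.mem_map.2 ⟨ω, hωs, sub_self ω⟩
  have hp0 : (p : D.O) ≠ 0 := by
    intro h
    have h1 := congrArg D.φ h
    rw [map_natCast, map_zero] at h1
    have : (p : ℂ) ≠ 0 := by exact_mod_cast hp.ne_zero
    exact this h1
  refine ⟨ω, ?_, ?_, ?_⟩
  · intro h1
    rw [h1] at hroot
    apply hp0
    simpa using hroot
  · have h1 := geom_sum_mul ω p
    rw [hroot, zero_mul] at h1
    exact (sub_eq_zero.1 h1.symm)
  · have : ω - 1 = -(1 - ω) := by ring
    rw [this]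
    exact Ideal.neg_mem_iff _ |>.2 hxm

end Cfsg.Agent.Helper5.Pim
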