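import Mathlib
import Cfsg.Agent.Lib.Helper2.Plb8

set_option autoImplicit false
set_option linter.unusedSimpArgs false
set_option linter.unusedVariables false
set_option linter.unusedSectionVars false

/-! Local balance for the linear groups, part 9: the centralizer of an involution of graph type
has trivial core. -/

namespace Cfsg.Agent.Helper2.PLB

open Matrix Matrix.SpecialLinearGroup Cfsg.Agent.Helper2.PN Cfsg.Agent.Helper2.SpA
  Cfsg.Agent.Helper2.PGeo Polynomial
open scoped MatrixGroups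

section aux

variable {n : ℕ} {F : Type*} [Field F]

theorem det_eq_one_of_unipotent (R : Matrix (Fin n) (Fin n) F)
    (h : (R - 1) * (R - 1) * (R - 1) = 0) : R.det = 1 := by
  have hnil : IsNilpotent (-(R - 1)) := by
    apply IsNilpotent.neg
    exact ⟨3, by rw [pow_succ, pow_two]; exact h⟩
  have h1 := Matrix.isNilpotent_charpoly_sub_pow_of_isNilpotent hnil
  have h2 : (-(R - 1)).charpoly = X ^ (Fintype.card (Fin n)) := sub_eq_zero.1 h1.eq_zero
  have h3 := Matrix.eval_charpoly (-(R - 1)) 1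
  rw [h2, eval_pow, eval_X, one_pow, map_one] at h3
  rw [h3]
  congr 1
  abel

theorem mem_center_of_coe_eq_smul (m : GL (Fin n) F) (c : F)
    (h : (m : Matrix (Fin n) (Fin n) F) = c • 1) : m ∈ Subgroup.center (GL (Fin n) F) := by
  rw [Matrix.GeneralLinearGroup.mem_center_iff_val_mem_range_scalar]
  refine ⟨c, ?_⟩
  show Matrix.scalar (Fin n) c = (m : Matrix (Fin n) (Fin n) F)
  rw [h, Matrix.smul_one_eq_diagonal]
  rfl

theorem coe_eq_smul_of_mem_center (m : GL (Fin n) F)
    (h : m ∈ Subgroup.center (GL (Fin n) F)) :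
    ∃ c : F, (m : Matrix (Fin n) (Fin n) F) = c • 1 := by
  rw [Matrix.GeneralLinearGroup.center_eq_range_scalar] at h
  obtain ⟨l, rfl⟩ := h
  exact ⟨l, scalar_coe_smul l⟩

end aux

section H1

variable {n : ℕ} {F : Type*} [Field F] [Finite F] (p : ℕ) [CharP F p] [Fact p.Prime]

include p in
/-- the inner automorphisms from the fixed points of an involution of graph type contain no
non-trivial subgroup of odd order invariant under the centralizer of the involution -/
theorem odd_inv_bot (hn : 3 ≤ n) (g₀ : GL (Fin n) F) (σ : RingAut F) {d ε : F} (hd : d ≠ 0)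
    (H : PolarHyp (σ : F →+* F) ε (d • ((g₀⁻¹ : GL (Fin n) F) : Matrix (Fin n) (Fin n) F)))
    (R : Subgroup (MulAut (Matrix.ProjectiveSpecialLinearGroup (Fin n) F)))
    (hR : R ≤ (MonoidHom.eqLocus (gb g₀ σ).toMonoidHom (MonoidHom.id _)).map MulAut.conj)
    (hodd : (Nat.card R).Coprime 2)
    (hinv : ∀ a ∈ Subgroup.centralizer {gb g₀ σ}, ∀ x ∈ R, a * x * a⁻¹ ∈ R) : R = ⊥ := by
  have hnt : Nontrivial (Fin n) := Fin.nontrivial_iff_two_le.mpr (by omega)
  have hfinK : Finite (MulAut (Matrix.ProjectiveSpecialLinearGroup (Fin n) F)) := by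
    have : Fintype (Matrix.ProjectiveSpecialLinearGroup (Fin n) F) := Fintype.ofFinite _
    classical
    infer_instance
  obtain ⟨M, hM⟩ : ∃ M, M = d • ((g₀⁻¹ : GL (Fin n) F) : Matrix (Fin n) (Fin n) F) := ⟨_, rfl⟩
  rw [← hM] at H
  have hcs : ∀ g : GL (Fin n) F, Psi g ∈ Subgroup.centralizer {gb g₀ σ} ↔
      glLE g ∈ sim (matForm (σ : F →+* F) M) :=
    fun g => comm_iff_sim p (by omega) g₀ g σ d hd M hM
  obtain ⟨𝓜, h𝓜⟩ : ∃ 𝓜 : Subgroup (GL (Fin n) F), 𝓜 =
      (sim (matForm (σ : F →+* F) M)).comap (glLE (n := n) (F₀ := F)).toMonoidHom ⊓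
        R.comap Psi := ⟨_, rfl⟩
  have hmem : ∀ m, m ∈ 𝓜 ↔ glLE m ∈ sim (matForm (σ : F →+* F) M) ∧ Psi m ∈ R := by
    intro m
    rw [h𝓜]
    exact Iff.rfl
  have key := scalar_of_odd_normal_mat hn H 𝓜 (fun m hm => ((hmem m).1 hm).1)
    (by
      intro g hg m hm
      rw [hmem] at hm ⊢
      constructor
      · rw [map_mul, map_mul, map_inv]
        exact Subgroup.mul_mem _ (Subgroup.mul_mem _ hg hm.1) (Subgroup.inv_mem _ hg)
      · rw [map_mul, map_mul, map_inv]
        exact hinv _ ((hcs g).2 hg) _ hm.2)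
    (by
      intro m hm
      rw [hmem] at hm
      refine ⟨orderOf (Psi m), ?_, ?_⟩
      · have h1 : orderOf (Psi m) ∣ Nat.card R := by
          have := orderOf_dvd_natCard (⟨Psi m, hm.2⟩ : ↥R)
          rwa [Subgroup.orderOf_mk] at this
        exact Nat.coprime_two_right.1 (Nat.Coprime.coprime_dvd_left h1 hodd)
      · apply coe_eq_smul_of_mem_center
        rw [← Psi_eq_one_iff p, map_pow, pow_orderOf_eq_one])
  rw [eq_bot_iff]
  intro x hx
  rw [Subgroup.mem_bot]
  obtain ⟨k, hk, rfl⟩ := hR hx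
  obtain ⟨s, rfl⟩ := mkn_surjective k
  have hk' : gb g₀ σ (mkn s) = mkn s := hk
  have h1 : MulAut.conj (mkn s) ∈ Subgroup.centralizer {gb g₀ σ} :=
    fix_conj_mem_centralizer _ hk'
  rw [← Psi_toGL] at h1 hx ⊢
  obtain ⟨c, hc⟩ := key (toGL s) ((hmem _).2 ⟨(hcs _).1 h1, hx⟩)
  exact Psi_of_mem_center (mem_center_of_coe_eq_smul _ c hc)

end H1

section H2

variable {n : ℕ} {F : Type*} [Field F] [Fintype F] (p : ℕ) [CharP F p] [Fact p.Prime]

include p in
/-- an automorphism of odd order lies in the group generated by the inner-diagonal and the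
field automorphisms -/
theorem mem_range_of_odd (hn : 3 ≤ n)
    (a : MulAut (Matrix.ProjectiveSpecialLinearGroup (Fin n) F)) (hodd : Odd (orderOf a)) :
    ∃ (hh : GL (Fin n) F) (τ : RingAut F), a = Psi hh * phiF τ := by
  rcases aut_cases p (by omega : 2 ≤ n) a with h | ⟨-, hh, τ, ha⟩
  · exact h
  · exfalso
    obtain ⟨m, rfl⟩ : ∃ m, n = m + 2 := ⟨n - 2, by omega⟩
    have ha' : a = gb hh τ := by rw [ha, gb, mul_assoc]
    have h1 : a * a ∈ (Phi (ι := Fin (m + 2)) (F := F)).range := by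
      rw [ha', gb_mul_gb, ← Phi_eq]
      exact ⟨_, rfl⟩
    obtain ⟨j, hj⟩ := hodd
    have h2 : a = (a * a) ^ (j + 1) := by
      rw [← pow_two, ← pow_mul]
      have : 2 * (j + 1) = orderOf a + 1 := by omega
      rw [this, pow_succ, pow_orderOf_eq_one, one_mul]
    have h3 : a ∈ (Phi (ι := Fin (m + 2)) (F := F)).range := by
      rw [h2]
      exact Subgroup.pow_mem _ h1 _
    have h4 : (Psi hh * phiF τ : MulAut (Matrix.ProjectiveSpecialLinearGroup (Fin (m + 2)) F)) ∈
        (Phi (ι := Fin (m + 2)) (F := F)).range := by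
      rw [← Phi_eq]
      exact ⟨_, rfl⟩
    apply tauAut_not_mem_range (F := F) p (m := m) (by omega)
    have h5 := Subgroup.mul_mem _ (Subgroup.inv_mem _ h4) h3
    rw [ha, inv_mul_cancel_left] at h5
    exact h5

include p in
/-- an automorphism of odd order fixing all the fixed points of an involution of graph type is
trivial -/
theorem odd_fix_eq_one (hn : 3 ≤ n) (g₀ : GL (Fin n) F) (σ : RingAut F) {d ε : F} (hd : d ≠ 0)
    (H : PolarHyp (σ : F →+* F) ε (d • ((g₀⁻¹ : GL (Fin n) F) : Matrix (Fin n) (Fin n) F)))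
    (a : MulAut (Matrix.ProjectiveSpecialLinearGroup (Fin n) F)) (hodd : (orderOf a).Coprime 2)
    (hfix : ∀ k, gb g₀ σ k = k → a k = k) : a = 1 := by
  have hnt : Nontrivial (Fin n) := Fin.nontrivial_iff_two_le.mpr (by omega)
  have hfin : Finite F := Finite.of_fintype F
  obtain ⟨hh, τ, ha⟩ := mem_range_of_odd p hn a (Nat.coprime_two_right.1 hodd)
  obtain ⟨M, hM⟩ : ∃ M, M = d • ((g₀⁻¹ : GL (Fin n) F) : Matrix (Fin n) (Fin n) F) := ⟨_, rfl⟩
  rw [← hM] at H
  have hinj := conj_injective_L (ι := Fin n) (F := F) p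
  obtain ⟨⟨l, hl⟩, hτ⟩ := rigid_mat hn H (RingHom.id F) hh (τ : F →+* F) (by
    intro R hiso h3
    have hRid : R.map (RingHom.id F) = R := by
      ext i j
      rfl
    rw [hRid]
    obtain ⟨s, hs⟩ : ∃ s : Matrix.SpecialLinearGroup (Fin n) F, s.1 = R :=
      ⟨⟨R, det_eq_one_of_unipotent R h3⟩, rfl⟩
    have h1 : Psi (toGL s) ∈ Subgroup.centralizer {gb g₀ σ} := by
      rw [comm_iff_sim p (by omega) g₀ (toGL s) σ d hd M hM, mem_sim_iff]
      refine ⟨1, one_ne_zero, matrix_eq_of_form fun u v => ?_⟩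
      rw [one_mul, coe_GL_coe_matrix, hs]
      exact hiso u v
    rw [Psi_toGL] at h1
    have h4 := hfix _ (fix_of_conj_mem_centralizer hinj _ h1)
    rw [ha, MulAut.mul_apply, phiF_mk, Psi_mk, mkn_eq_iff] at h4
    obtain ⟨z, hz, hzs⟩ := h4
    have hz0 : z ≠ 0 := by
      rintro rfl
      rw [zero_pow (by rw [Fintype.card_fin]; omega)] at hz
      exact zero_ne_one hz
    rw [conjSL_coe, fieldSLHom_coe', hs] at hzs
    refine ⟨z⁻¹, ?_⟩
    have hhi : ((hh⁻¹ : GL (Fin n) F) : Matrix (Fin n) (Fin n) F) *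
        (hh : Matrix (Fin n) (Fin n) F) = 1 := by
      rw [← Units.val_mul, inv_mul_cancel, Units.val_one]
    have h5 : R * (hh : Matrix (Fin n) (Fin n) F) =
        z • ((hh : Matrix (Fin n) (Fin n) F) * R.map τ) := by
      conv_lhs => rw [hzs]
      rw [Matrix.smul_mul, Matrix.mul_assoc, hhi, Matrix.mul_one]
    rw [h5, smul_smul, inv_mul_cancel₀ hz0, one_smul]
    rfl)
  have hτ1 : τ = 1 := by
    ext c
    exact hτ c
  rw [ha, hτ1, map_one, mul_one]
  exact Psi_of_mem_center (mem_center_of_coe_eq_smul _ l hl)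

end H2

section final

variable {n : ℕ} {F : Type*} [Field F] [Fintype F] (p : ℕ) [CharP F p] [Fact p.Prime]

include p in
/-- **the centralizer of an involution of graph type has trivial core** -/
theorem core_bot_graph (hn : 3 ≤ n) (h2 : (2 : F) ≠ 0) (g₀ : GL (Fin n) F) (σ : RingAut F)
    (hsq : gb g₀ σ * gb g₀ σ = 1)
    (A : Subgroup (MulAut (Matrix.ProjectiveSpecialLinearGroup (Fin n) F)))
    (hinn : ∀ k, MulAut.conj k ∈ A)
    (N : Subgroup (MulAut (Matrix.ProjectiveSpecialLinearGroup (Fin n) F)))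
    (hN : N ≤ A ⊓ Subgroup.centralizer {gb g₀ σ}) (hcard : (Nat.card N).Coprime 2)
    (hnorm : ∀ h ∈ A ⊓ Subgroup.centralizer {gb g₀ σ}, ∀ x ∈ N, h * x * h⁻¹ ∈ N) : N = ⊥ := by
  have hnt : Nontrivial (Fin n) := Fin.nontrivial_iff_two_le.mpr (by omega)
  have hfin : Finite F := Finite.of_fintype F
  obtain ⟨d, ε, hd, H⟩ := exists_polarHyp p hn h2 g₀ σ hsq
  have hfinK : Finite (Matrix.ProjectiveSpecialLinearGroup (Fin n) F) := inferInstance
  exact core_bot_of_fix 2 (conj_injective_L (ι := Fin n) (F := F) p) A hinn (gb g₀ σ)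
    (fun R hR hodd hinv => odd_inv_bot p hn g₀ σ hd H R hR hodd hinv)
    (fun a hodd hfix => odd_fix_eq_one p hn g₀ σ hd H a hodd hfix) N hN hcard hnorm

end final

end Cfsg.Agent.Helper2.PLB
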