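import Mathlib
import Cfsg.Agent.Lib.Helper2.Psu27
import Cfsg.Agent.Lib.Helper2.Psln21

set_option autoImplicit false
set_option linter.unusedSimpArgs false
set_option linter.unusedVariables false
set_option linter.unusedSectionVars false

/-! Field automorphisms of the unitary groups, part 28: the centralizer of a standard field
automorphism as a projective unitary group over the fixed field, and the class count. -/

namespace Cfsg.Agent.Helper2.PU

open Matrix Cfsg.Agent.Helper11 Cfsg.Agent.Helper11.Herm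

section mapj

variable {F F₀ : Type*} [Field F] [Finite F] [Field F₀] {φ : F →+* F} {σ : RingAut F}
  {φ₀ : F₀ →+* F₀} {j : F₀ →+* F} {ι : Type*} [Fintype ι] [DecidableEq ι]
  (hcomm : ∀ (σ : F ≃+* F) (x : F), σ (φ x) = φ (σ x)) (D : Desc φ σ φ₀ j)

/-- the embedding of the unitary group of the fixed field -/
def mapJ : UG ι φ₀ →* UG ι φ where
  toFun g₀ := toUG ((D.isU_map_iff _).2 (UG_isU g₀))
  map_one' := Subtype.ext (Units.ext map_ringHom_one)
  map_mul' a b := Subtype.ext (Units.ext (map_ringHom_mul _ _))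

omit [Finite F] in
theorem mapJ_val (g₀ : UG ι φ₀) :
    (((mapJ D g₀ : UG ι φ) : GL ι F) : Matrix ι ι F) =
      ((g₀ : GL ι F₀) : Matrix ι ι F₀).map j := rfl

theorem range_mapJ : (mapJ (ι := ι) D).range = UGfix hcomm σ := by
  ext g
  rw [MonoidHom.mem_range, mem_UGfix_iff]
  constructor
  · rintro ⟨g₀, rfl⟩
    rw [mapJ_val]
    exact D.map_fixed _
  · intro hg
    obtain ⟨M₀, hM₀⟩ := D.exists_of_fixed hg
    have hU : IsU φ₀ M₀ := by
      rw [← D.isU_map_iff, hM₀]
      exact UG_isU g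
    refine ⟨toUG hU, ?_⟩
    apply Subtype.ext
    apply Units.ext
    exact hM₀

omit [Finite F] in
theorem mapJ_scalar_iff [Nonempty ι] (g₀ : UG ι φ₀) :
    (∃ c : F, (((mapJ D g₀ : UG ι φ) : GL ι F) : Matrix ι ι F) = c • (1 : Matrix ι ι F)) ↔
      ∃ c₀ : F₀, ((g₀ : GL ι F₀) : Matrix ι ι F₀) = c₀ • (1 : Matrix ι ι F₀) := by
  constructor
  · rintro ⟨c, hc⟩
    obtain ⟨i₀⟩ := ‹Nonempty ι›
    refine ⟨((g₀ : GL ι F₀) : Matrix ι ι F₀) i₀ i₀, ?_⟩
    apply map_ringHom_injective (j := j)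
    simp only []
    rw [← mapJ_val D, hc]
    have h1 : c = j (((g₀ : GL ι F₀) : Matrix ι ι F₀) i₀ i₀) := by
      have := congrFun (congrFun hc i₀) i₀
      rw [mapJ_val, Matrix.map_apply, Matrix.smul_apply, Matrix.one_apply_eq, smul_eq_mul,
        mul_one] at this
      exact this.symm
    ext a b
    rw [Matrix.map_apply, Matrix.smul_apply, Matrix.smul_apply, Matrix.one_apply,
      Matrix.one_apply, h1]
    split_ifs <;> simp
  · rintro ⟨c₀, hc₀⟩
    refine ⟨j c₀, ?_⟩
    rw [mapJ_val, hc₀]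
    ext a b
    rw [Matrix.map_apply, Matrix.smul_apply, Matrix.smul_apply, Matrix.one_apply,
      Matrix.one_apply]
    split_ifs <;> simp

include D in
/-- the fixed points of the norm-one group are the norm-one group of the fixed field -/
theorem card_nOneFix : Nat.card (nOneFix φ σ) = Nat.card (nOne φ₀) := by
  symm
  have hmem : ∀ u₀ : nOne φ₀, j ((u₀ : F₀ˣ) : F₀) * φ (j ((u₀ : F₀ˣ) : F₀)) = 1 := by
    intro u₀
    rw [← D.hj, ← map_mul, u₀.2, map_one]
  let f : nOne φ₀ → nOneFix φ σ := fun u₀ =>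
    ⟨mkNOne φ (hmem u₀), D.hjfix _⟩
  apply Nat.card_congr (Equiv.ofBijective f ⟨?_, ?_⟩)
  · intro u v h
    have h1 : j ((u : F₀ˣ) : F₀) = j ((v : F₀ˣ) : F₀) := by
      have := congrArg (fun w : nOneFix φ σ => (((w : nOne φ) : Fˣ) : F)) h
      exact this
    exact Subtype.ext (Units.ext (j.injective h1))
  · intro w
    obtain ⟨a, ha⟩ := D.hfix _ w.2
    have ha1 : a * φ₀ a = 1 := by
      apply j.injective
      rw [map_mul, D.hj, ha, map_one]
      exact (w : nOne φ).2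
    refine ⟨mkNOne φ₀ ha1, ?_⟩
    apply Subtype.ext
    apply Subtype.ext
    apply Units.ext
    exact ha

end mapj

section central

variable {F F₀ : Type*} [Field F] [Finite F] [Field F₀] {φ : F →+* F} {σ : RingAut F}
  {φ₀ : F₀ →+* F₀} {j : F₀ →+* F} {ι : Type*} [Fintype ι] [DecidableEq ι]
  (H : HypU φ ι) (p : ℕ) [Fact p.Prime] [CharP F p]
  (hcomm : ∀ (σ : F ≃+* F) (x : F), σ (φ x) = φ (σ x)) (D : Desc φ σ φ₀ j)

include H p

theorem inf_centralizer_eq_map (x : MulAut (PGq φ ι)) (C : Subgroup (UG ι φ))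
    (hC : (Subgroup.centralizer {x}).comap (psiU hcomm) = (psiU hcomm).ker ⊔ C) :
    (psiU hcomm).range ⊓ Subgroup.centralizer {x} = C.map (psiU hcomm) := by
  ext y
  rw [Subgroup.mem_inf]
  constructor
  · rintro ⟨⟨g, rfl⟩, hc⟩
    have hg : g ∈ (Subgroup.centralizer {x}).comap (psiU hcomm) := hc
    rw [hC, ← SetLike.mem_coe, Subgroup.normal_mul, Set.mem_mul] at hg
    obtain ⟨z, hz, g₁, hg₁, rfl⟩ := hg
    refine ⟨g₁, hg₁, ?_⟩
    rw [map_mul, MonoidHom.mem_ker.1 hz, one_mul]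
  · rintro ⟨g, hg, rfl⟩
    refine ⟨⟨g, rfl⟩, ?_⟩
    have : g ∈ (Subgroup.centralizer {x}).comap (psiU hcomm) := by
      rw [hC]
      exact Subgroup.mem_sup_right hg
    exact this

include D in
/-- the centralizer of a standard field automorphism in the inner-diagonal group -/
theorem centralizer_phiU_equiv (r : ℕ) (hr : 0 < r) (hord : orderOf σ = r)
    (Z₀ : Subgroup (UG ι φ₀))
    (hZ₀ : ∀ g₀ : UG ι φ₀, g₀ ∈ Z₀ ↔
      ∃ c₀ : F₀, ((g₀ : GL ι F₀) : Matrix ι ι F₀) = c₀ • (1 : Matrix ι ι F₀)) :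
    ∃ hn : Z₀.Normal, Nonempty (↥((psiU hcomm).range ⊓
      Subgroup.centralizer {phiU (ι := ι) hcomm σ}) ≃* (UG ι φ₀ ⧸ Z₀)) := by
  have hne : Nonempty ι := nonempty_of_hyp H
  have hS : SigHyp φ σ r ι := D.sigHyp r hr hord
  rw [inf_centralizer_eq_map H p hcomm _ _ (comap_centralizer_phiU H p hcomm σ r hS)]
  set η : UG ι φ₀ →* MulAut (PGq φ ι) := (psiU hcomm).comp (mapJ D) with hη
  have hrange : η.range = (UGfix (ι := ι) hcomm σ).map (psiU hcomm) := by
    rw [hη, MonoidHom.range_comp, range_mapJ hcomm D]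
  have hker : η.ker = Z₀ := by
    ext g₀
    rw [MonoidHom.mem_ker, hη, MonoidHom.comp_apply, psiU_eq_one_iff H p hcomm,
      mapJ_scalar_iff D, hZ₀]
  have hn : Z₀.Normal := by
    rw [← hker]
    exact MonoidHom.normal_ker η
  refine ⟨hn, ?_⟩
  rw [← hrange]
  have e1 : (UG ι φ₀ ⧸ η.ker) ≃* η.range := QuotientGroup.quotientKerEquivRange η
  have e2 : (UG ι φ₀ ⧸ η.ker) ≃* (UG ι φ₀ ⧸ Z₀) := QuotientGroup.quotientMulEquivOfEq hker
  exact ⟨e1.symm.trans e2⟩

include D in
/-- the class count of a standard field automorphism -/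
theorem splitClassCount_phiU (r : ℕ) (hr : 0 < r) (hord : orderOf σ = r) :
    Cfsg.splitClassCount (psiU hcomm).range (Cfsg.Inn (PGq φ ι)) (phiU hcomm σ) =
      Nat.gcd (Fintype.card ι) (nOneFix φ σ).index := by
  have hne : Nonempty ι := nonempty_of_hyp H
  have hS : SigHyp φ σ r ι := D.sigHyp r hr hord
  have hcyc : IsCyclic (nOne φ) := by
    have : IsCyclic Fˣ := inferInstance
    exact Subgroup.isCyclic _
  rw [splitClassCount_eq H p hcomm _ _ (comap_centralizer_phiU H p hcomm σ r hS),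
    Subgroup.map_sup, map_detU_ker H p hcomm, map_detU_UGfix hcomm, ← sup_assoc, sup_idem,
    Cfsg.Agent.Helper2.PN.index_pow_sup]

end central

end Cfsg.Agent.Helper2.PU
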