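import Mathlib
import Cfsg.Agent.Lib.Helper2.Psu28
import Cfsg.Agent.Lib.Helper2.Psln27

set_option autoImplicit false
set_option linter.unusedSimpArgs false
set_option linter.unusedVariables false
set_option linter.unusedSectionVars false

/-! Field automorphisms of the unitary groups, part 29: the descent data for a finite field. -/

namespace Cfsg.Agent.Helper2.PU

open Matrix Cfsg.Agent.Helper11 Cfsg.Agent.Helper11.Herm
open Cfsg.Agent.Helper13.FAut (fixedField mem_fixedField card_fixedField)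
open Cfsg.Agent.Helper2.PN (jEmb jEmb_apply jEmb_fixed exists_jEmb_eq)

section numeric

/-- odd powers of the Frobenius of a field with `q₀²` elements act as the Frobenius -/
theorem pow_pow_odd {F₀ : Type*} [Field F₀] [Fintype F₀] {q₀ : ℕ}
    (hF₀ : Fintype.card F₀ = q₀ ^ 2) (k : ℕ) (a : F₀) : a ^ (q₀ ^ (2 * k + 1)) = a ^ q₀ := by
  induction k with
  | zero => rw [mul_zero, zero_add, pow_one]
  | succ k ih =>
    have h1 : q₀ ^ (2 * (k + 1) + 1) = q₀ ^ (2 * k + 1) * q₀ ^ 2 := by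
      rw [← pow_add]
      congr 1
    rw [h1, pow_mul, ih, ← pow_mul, mul_comm, pow_mul, ← hF₀, FiniteField.pow_card]

end numeric

section concrete

variable {F : Type*} [Field F] [Fintype F] {F₀ : Type*} [Field F₀] [Fintype F₀]

/-- **descent data for finite fields** -/
theorem exists_desc {p f q r : ℕ} [Fact p.Prime] (hq : q = p ^ f)
    (hF : Fintype.card F = q ^ 2) (φ : F →+* F) (hφ : ∀ x, φ x = x ^ q)
    (σ : RingAut F) (hr : r.Prime) (hro : Odd r) (hord : orderOf σ = r)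
    (hF₀ : Fintype.card F₀ = p ^ (2 * (f / r))) (φ₀ : F₀ →+* F₀)
    (hφ₀ : ∀ x, φ₀ x = x ^ (p ^ (f / r))) :
    r ∣ f ∧ ∃ j : F₀ →+* F, Desc φ σ φ₀ j := by
  have hF' : Fintype.card F = p ^ (2 * f) := by rw [hF, hq, ← pow_mul, mul_comm]
  have hrf : r ∣ f := by
    have h1 := orderOf_dvd_natCard σ
    rw [hord, Cfsg.Agent.Helper2.OutCongr.card_ringEquiv hF'] at h1
    have hcop : Nat.Coprime r 2 := by
      rw [Nat.coprime_two_right]
      exact hro
    exact hcop.dvd_of_dvd_mul_left h1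
  refine ⟨hrf, ?_⟩
  obtain ⟨q₀, hq₀⟩ : ∃ q₀, q₀ = p ^ (f / r) := ⟨_, rfl⟩
  have hF₀' : Fintype.card F₀ = q₀ ^ 2 := by rw [hF₀, hq₀, ← pow_mul, mul_comm]
  have hqq₀ : q = q₀ ^ r := by rw [hq, hq₀, ← pow_mul, Nat.div_mul_cancel hrf]
  have hcardfix : Nat.card (fixedField σ) = p ^ (2 * (f / r)) :=
    card_fixedField σ r (p ^ (2 * (f / r))) hr.pos hord
      (by rw [hF', ← pow_mul, mul_assoc, Nat.div_mul_cancel hrf])
  have : Fintype (fixedField σ) := Fintype.ofFinite _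
  have e : F₀ ≃+* fixedField σ :=
    FiniteField.ringEquivOfCardEq (by rw [hF₀, ← Nat.card_eq_fintype_card, hcardfix])
  refine ⟨jEmb σ e, ?_⟩
  obtain ⟨k, hk⟩ := hro
  rw [← hq₀] at hφ₀
  refine ⟨?_, ?_, ?_, ?_, ?_, ?_, ?_⟩
  · intro a
    rw [hφ, hφ₀, hqq₀, hk, ← map_pow, pow_pow_odd hF₀']
  · intro x hx
    exact exists_jEmb_eq σ e x hx
  · intro a
    exact jEmb_fixed σ e a
  · exact frob_frob hF₀' φ₀ hφ₀
  · exact frob_ne_id hF₀' φ₀ hφ₀
  · exact frob_norm_surj hF₀' φ₀ hφ₀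
  · exact frob_trace_ne_zero hF₀' φ₀ hφ₀

/-- the norm-one group as a kernel -/
theorem nOne_eq_ker {q : ℕ} (φ : F →+* F) (hφ : ∀ x, φ x = x ^ q) :
    nOne φ = (powMonoidHom (q + 1) : Fˣ →* Fˣ).ker := by
  ext u
  rw [mem_nOne, MonoidHom.mem_ker, powMonoidHom_apply, hφ, Units.ext_iff,
    Units.val_pow_eq_pow_val, Units.val_one, pow_succ, mul_comm]

theorem card_nOne {q : ℕ} (hF : Fintype.card F = q ^ 2) (φ : F →+* F) (hφ : ∀ x, φ x = x ^ q) :
    Nat.card (nOne φ) = q + 1 := by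
  rw [nOne_eq_ker φ hφ, card_ker_norm hF]

/-- the index of the fixed points in the norm-one group -/
theorem index_nOneFix {q q₀ : ℕ} (hF : Fintype.card F = q ^ 2) (φ : F →+* F)
    (hφ : ∀ x, φ x = x ^ q) (σ : RingAut F) (hF₀ : Fintype.card F₀ = q₀ ^ 2) (φ₀ : F₀ →+* F₀)
    (hφ₀ : ∀ x, φ₀ x = x ^ q₀) (j : F₀ →+* F) (D : Desc φ σ φ₀ j) :
    (nOneFix φ σ).index = (q + 1) / (q₀ + 1) := by
  have h1 := Subgroup.index_mul_card (nOneFix φ σ)
  rw [card_nOneFix D, card_nOne hF₀ φ₀ hφ₀, card_nOne hF φ hφ] at h1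
  exact (Nat.div_eq_of_eq_mul_left (by omega) h1.symm).symm

end concrete

end Cfsg.Agent.Helper2.PU
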