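import Mathlib
import Cfsg.Agent.Lib.Helper2.Psu29

set_option autoImplicit false
set_option linter.unusedSimpArgs false
set_option linter.unusedVariables false
set_option linter.unusedSectionVars false

/-! Field automorphisms of the unitary groups, part 30: the theorems on field automorphism
classes for a general subgroup equal to the special unitary group. -/

namespace Cfsg.Agent.Helper2.PU

open Matrix Cfsg.Agent.Helper11 Cfsg.Agent.Helper11.Herm
open Cfsg.Agent.Helper13.FAut (fixedField mem_fixedField card_fixedField)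

section general

variable {F : Type*} [Field F] [Finite F] {φ : F →+* F}

/-- conjugacy in the coset of a field automorphism -/
theorem conj_iff_general {ι : Type*} [Fintype ι] [DecidableEq ι]
    (H : HypU φ ι) (p : ℕ) [Fact p.Prime] [CharP F p]
    (hcomm : ∀ (σ : F ≃+* F) (x : F), σ (φ x) = φ (σ x))
    (S : Subgroup (Matrix.SpecialLinearGroup ι F)) (hS : S = SUg ι φ)
    (U : Subgroup (GL ι F)) (hU : U = UG ι φ)
    (x δ : MulAut (S ⧸ Subgroup.center S)) (hx : IsFieldAutClassS S x) {r : ℕ} (hr : r.Prime)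
    (hxr : orderOf x = r) (hδ : δ ∈ inndiagS S U)
    (hSig : ∀ σ : RingAut F, orderOf σ = r → Odd r → SigHyp φ σ r ι) :
    orderOf (δ * x) = r ↔ Cfsg.IsConjUnder (inndiagS S U) x (δ * x) := by
  subst hS hU
  have hG : (inndiagS (SUg ι φ) (UG ι φ)).Normal := by
    rw [inndiagS_eq hcomm]
    exact normal_range_psiU H p hcomm
  constructor
  · intro h
    obtain ⟨α, φ₁, σ, hσ1, hσodd, hφ₁, hα⟩ := hx
    rw [isFieldAutS_iff hcomm] at hφ₁
    subst hφ₁
    have hord : orderOf σ = r := by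
      rw [← orderOf_phiU (ι := ι) H p hcomm σ, ← hα, ← hxr]
      exact (MulAut.conj α).orderOf_eq x
    have hodd : Odd r := hord ▸ hσodd
    apply Cfsg.Agent.Helper2.PN.isConjUnder_of_core (inndiagS (SUg ι φ) (UG ι φ)) α x δ r hδ ?_ h
    intro δ₀ hδ₀ h0
    rw [hα] at h0 ⊢
    rw [inndiagS_eq hcomm] at hδ₀
    obtain ⟨g, rfl⟩ := hδ₀
    have hpow : (psiU hcomm g * phiU hcomm σ) ^ r = 1 := by
      rw [← h0]
      exact pow_orderOf_eq_one _
    obtain ⟨k, hk⟩ := exists_conj_phiU H p hcomm σ r (hSig σ hord hodd) g hpow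
    refine ⟨psiU hcomm k, ?_, hk⟩
    rw [inndiagS_eq hcomm]
    exact ⟨k, rfl⟩
  · rintro ⟨h, -, heq⟩
    rw [heq, ← hxr]
    exact (MulAut.conj h).orderOf_eq x

/-- the centralizer and the class count of a field automorphism -/
theorem field_class_general {ι : Type} [Fintype ι] [DecidableEq ι]
    {F₀ : Type*} [Field F₀] {φ₀ : F₀ →+* F₀}
    (H : HypU φ ι) (p : ℕ) [Fact p.Prime] [CharP F p]
    (hcomm : ∀ (σ : F ≃+* F) (x : F), σ (φ x) = φ (σ x))
    (S : Subgroup (Matrix.SpecialLinearGroup ι F)) (hS : S = SUg ι φ)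
    (U : Subgroup (GL ι F)) (hU : U = UG ι φ)
    (U₀ : Subgroup (GL ι F₀)) (hU₀ : U₀ = UG ι φ₀)
    (x : MulAut (S ⧸ Subgroup.center S)) (hx : IsFieldAutClassS S x) {r : ℕ} (hr : r.Prime)
    (hxr : orderOf x = r)
    (hD : ∀ σ : RingAut F, orderOf σ = r → ∃ j : F₀ →+* F, Desc φ σ φ₀ j) :
    Nonempty (↥(inndiagS S U ⊓ Subgroup.centralizer {x}) ≃*
      U₀ ⧸ (Cfsg.Geo.scalars ι F₀).subgroupOf U₀) ∧
    ∃ σ : RingAut F, orderOf σ = r ∧
      Cfsg.splitClassCount (inndiagS S U) (Cfsg.Inn (S ⧸ Subgroup.center S)) x =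
        Nat.gcd (Fintype.card ι) (nOneFix φ σ).index := by
  subst hS hU hU₀
  have hne : Nonempty ι := nonempty_of_hyp H
  have hG : (inndiagS (SUg ι φ) (UG ι φ)).Normal := by
    rw [inndiagS_eq hcomm]
    exact normal_range_psiU H p hcomm
  obtain ⟨α, φ₁, σ, hσ1, hσodd, hφ₁, hα⟩ := hx
  rw [isFieldAutS_iff hcomm] at hφ₁
  subst hφ₁
  have hord : orderOf σ = r := by
    rw [← orderOf_phiU (ι := ι) H p hcomm σ, ← hα, ← hxr]
    exact (MulAut.conj α).orderOf_eq x
  obtain ⟨j, D⟩ := hD σ hord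
  constructor
  · have e2 := Cfsg.Agent.Helper2.PN.centralizerInfEquiv (inndiagS (SUg ι φ) (UG ι φ)) α x
    rw [hα] at e2
    have hZ₀ : ∀ g₀ : UG ι φ₀, g₀ ∈ (Cfsg.Geo.scalars ι F₀).subgroupOf (UG ι φ₀) ↔
        ∃ c₀ : F₀, ((g₀ : GL ι F₀) : Matrix ι ι F₀) = c₀ • (1 : Matrix ι ι F₀) := by
      intro g₀
      rw [Subgroup.mem_subgroupOf, Cfsg.Geo.mem_scalars_iff]
      constructor
      · rintro ⟨c, hc⟩
        exact ⟨c, hc⟩
      · rintro ⟨c₀, hc₀⟩
        have h0 : c₀ ≠ 0 := by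
          rintro rfl
          have h1 := (UG_isU g₀).det_ne_zero φ₀
          rw [hc₀, zero_smul, Matrix.det_zero] at h1
          exact h1 rfl
        exact ⟨Units.mk0 c₀ h0, hc₀⟩
    obtain ⟨hn, ⟨e1⟩⟩ := centralizer_phiU_equiv H p hcomm D r hr.pos hord _ hZ₀
    rw [inndiagS_eq hcomm] at e2 ⊢
    exact ⟨e2.trans e1⟩
  · refine ⟨σ, hord, ?_⟩
    rw [← Cfsg.Agent.Helper2.PN.splitClassCount_conj _ _ α x, hα, inndiagS_eq hcomm,
      splitClassCount_phiU H p hcomm D r hr.pos hord]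

end general

section concrete

variable {F : Type*} [Field F] [Fintype F]

/-- the hypotheses on a field automorphism of odd prime order hold for finite fields -/
theorem sigHyp_concrete {ι : Type*} [Fintype ι] [DecidableEq ι] {p f q r : ℕ} [Fact p.Prime]
    (hq : q = p ^ f) (hF : Fintype.card F = q ^ 2) (φ : F →+* F) (hφ : ∀ x, φ x = x ^ q)
    (σ : RingAut F) (hr : r.Prime) (hro : Odd r) (hord : orderOf σ = r) :
    SigHyp φ σ r ι := by
  have hF' : Fintype.card F = p ^ (2 * f) := by rw [hF, hq, ← pow_mul, mul_comm]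
  have hrf : r ∣ f := by
    have h1 := orderOf_dvd_natCard σ
    rw [hord, Cfsg.Agent.Helper2.OutCongr.card_ringEquiv hF'] at h1
    have hcop : Nat.Coprime r 2 := by
      rw [Nat.coprime_two_right]
      exact hro
    exact hcop.dvd_of_dvd_mul_left h1
  have hcardfix : Nat.card (fixedField σ) = p ^ (2 * (f / r)) :=
    card_fixedField σ r (p ^ (2 * (f / r))) hr.pos hord
      (by rw [hF', ← pow_mul, mul_assoc, Nat.div_mul_cancel hrf])
  have : Fintype (fixedField σ) := Fintype.ofFinite _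
  have hF₀ : Fintype.card (fixedField σ) = p ^ (2 * (f / r)) := by
    rw [← Nat.card_eq_fintype_card, hcardfix]
  have hF₀' : Fintype.card (fixedField σ) = (p ^ (f / r)) ^ 2 := by
    rw [hF₀, ← pow_mul, mul_comm]
  obtain ⟨φ₀, hφ₀⟩ := exists_frob hF₀'
  obtain ⟨-, j, D⟩ := exists_desc hq hF φ hφ σ hr hro hord hF₀ φ₀ hφ₀
  exact D.sigHyp r hr.pos hord

end concrete

end Cfsg.Agent.Helper2.PU
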