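import Mathlib
import Cfsg.Agent.Lib.Helper2.Psu30
import Cfsg.Agent.Lib.Helper2.Plb9

set_option autoImplicit false
set_option linter.unusedSimpArgs false
set_option linter.unusedVariables false
set_option linter.unusedSectionVars false

/-! Local balance for the unitary groups, field automorphisms of odd order, part 1: the special
unitary matrices fixed by a field automorphism and the inner automorphisms attached to them. -/

namespace Cfsg.Agent.Helper2.PUA

open Matrix Cfsg.Agent.Helper11 Cfsg.Agent.Helper11.Herm Cfsg.Agent.Helper2.PU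
open Cfsg.Agent.Helper2.SpA (fix_conj_mem_centralizer fix_of_conj_mem_centralizer aut_conj_conj)

section fixed

variable {F : Type*} [Field F] [Finite F] {ι : Type*} [Fintype ι] [DecidableEq ι] {φ : F →+* F}
  (hcomm : ∀ (σ : F ≃+* F) (x : F), σ (φ x) = φ (σ x))

/-- a field automorphism acting on the special unitary group -/
noncomputable def sigS (σ : RingAut F) : SUg ι φ →* SUg ι φ :=
  stdHom (1 : Matrix ι ι F) (isU_one φ) σ (hcomm σ)

omit [Finite F] in
theorem smat_sigS (σ : RingAut F) (s : SUg ι φ) :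
    smat φ (sigS hcomm σ s) = (smat φ s).map σ := by
  unfold sigS
  rw [smat_stdHom, adjU_one, Matrix.one_mul, Matrix.mul_one]

/-- the special unitary matrices fixed by a field automorphism -/
noncomputable def SUfix (σ : RingAut F) : Subgroup (SUg ι φ) :=
  MonoidHom.eqLocus (sigS hcomm σ) (MonoidHom.id _)

omit [Finite F] in
theorem mem_SUfix (σ : RingAut F) (s : SUg ι φ) : s ∈ SUfix hcomm σ ↔ sigS hcomm σ s = s :=
  Iff.rfl

omit [Finite F] in
theorem mem_SUfix_iff (σ : RingAut F) (s : SUg ι φ) :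
    s ∈ SUfix hcomm σ ↔ (smat φ s).map σ = smat φ s := by
  rw [mem_SUfix]
  constructor
  · intro h
    rw [← smat_sigS hcomm, h]
  · intro h
    apply sug_ext
    rw [smat_sigS hcomm, h]

theorem phiU_mkq (σ : RingAut F) (s : SUg ι φ) :
    phiU hcomm σ (mkq φ s) = mkq φ (sigS hcomm σ s) := rfl

theorem phiU_mkq_of_mem {σ : RingAut F} {s : SUg ι φ} (hs : s ∈ SUfix hcomm σ) :
    phiU hcomm σ (mkq φ s) = mkq φ s := by
  rw [phiU_mkq, (mem_SUfix hcomm σ s).1 hs]

/-- the inner automorphism attached to a special unitary matrix -/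
noncomputable def thetaV : SUg ι φ →* MulAut (PGq φ ι) :=
  (MulAut.conj : PGq φ ι →* _).comp (mkq φ)

omit [Finite F] in
theorem thetaV_apply (t : SUg ι φ) : thetaV t = MulAut.conj (mkq φ t) := rfl

theorem thetaV_mem_centralizer {σ : RingAut F} {t : SUg ι φ} (ht : t ∈ SUfix hcomm σ) :
    thetaV t ∈ Subgroup.centralizer {phiU (ι := ι) hcomm σ} :=
  fix_conj_mem_centralizer _ (phiU_mkq_of_mem hcomm ht)

omit [Finite F] in
theorem thetaV_mem_inn (t : SUg ι φ) : thetaV t ∈ Cfsg.Inn (PGq φ ι) := ⟨mkq φ t, rfl⟩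

/-- a fixed point of the field automorphism normalises the image of the fixed matrices -/
theorem conj_mkq_of_fixed {σ : RingAut F} {k : PGq φ ι} (hk : phiU hcomm σ k = k)
    {t : SUg ι φ} (ht : t ∈ SUfix hcomm σ) :
    ∃ t' ∈ SUfix hcomm σ, k * mkq φ t * k⁻¹ = mkq φ t' := by
  obtain ⟨s, rfl⟩ := mkq_surjective k
  rw [phiU_mkq, mkq_eq_iff] at hk
  obtain ⟨z, hz⟩ : ∃ z, z = (sigS hcomm σ s)⁻¹ * s := ⟨_, rfl⟩
  rw [← hz] at hk
  have hs : sigS hcomm σ s = s * z⁻¹ := by
    rw [hz]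
    group
  have hzc := Subgroup.mem_center_iff.1 hk
  refine ⟨s * t * s⁻¹, ?_, by simp only [map_mul, map_inv]⟩
  rw [mem_SUfix, map_mul, map_mul, map_inv, hs, (mem_SUfix hcomm σ t).1 ht]
  have h1 : z⁻¹ * t = t * z⁻¹ := by
    have := hzc t
    calc z⁻¹ * t = z⁻¹ * (t * z) * z⁻¹ := by group
      _ = z⁻¹ * (z * t) * z⁻¹ := by rw [this]
      _ = t * z⁻¹ := by group
  calc s * z⁻¹ * t * (s * z⁻¹)⁻¹ = s * (z⁻¹ * t) * z * s⁻¹ := by group
    _ = s * (t * z⁻¹) * z * s⁻¹ := by rw [h1]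
    _ = s * t * s⁻¹ := by group

end fixed

section scalar

variable {F : Type*} [Field F] [Finite F] {ι : Type*} [Fintype ι] [DecidableEq ι] {φ : F →+* F}
  (H : HypU φ ι) (p : ℕ) [Fact p.Prime] [CharP F p]
  (hcomm : ∀ (σ : F ≃+* F) (x : F), σ (φ x) = φ (σ x))

include H p hcomm in
/-- the inner automorphism of a special unitary matrix is trivial exactly when the matrix is a
scalar -/
theorem thetaV_eq_one_iff (t : SUg ι φ) :
    thetaV t = 1 ↔ ∃ c : F, smat φ t = c • (1 : Matrix ι ι F) := by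
  rw [thetaV_apply, ← stdAutQ_smat hcomm]
  constructor
  · intro h
    rw [← PU.stdAutQ_one hcomm] at h
    obtain ⟨-, c, hc⟩ := stdAutQ_eq H p hcomm _ _ h
    exact ⟨c, hc⟩
  · rintro ⟨c, hc⟩
    have hU : IsU φ (c • (1 : Matrix ι ι F)) := hc ▸ smat_isU φ t
    rw [stdAutQ_congr hcomm (smat_isU φ t) hU hc rfl, stdAutQ_smul hcomm (isU_one φ) c hU,
      PU.stdAutQ_one]

end scalar

end Cfsg.Agent.Helper2.PUA
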