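import Mathlib
import Cfsg.Agent.Lib.Helper2.Pua1

set_option autoImplicit false
set_option linter.unusedSimpArgs false
set_option linter.unusedVariables false
set_option linter.unusedSectionVars false

/-! Local balance for the unitary groups, field automorphisms of odd order, part 2: the special
unitary group over the fixed field. -/

namespace Cfsg.Agent.Helper2.PUA

open Matrix Cfsg.Agent.Helper11 Cfsg.Agent.Helper11.Herm Cfsg.Agent.Helper2.PU
open Cfsg.Agent.Helper2.SpA (fix_conj_mem_centralizer fix_of_conj_mem_centralizer aut_conj_conj)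

section maps

variable {F F₀ : Type*} [Field F] [Field F₀] {φ : F →+* F} {σ : RingAut F}
  {φ₀ : F₀ →+* F₀} {j : F₀ →+* F} {ι : Type*} [Fintype ι] [DecidableEq ι]
  (hcomm : ∀ (σ : F ≃+* F) (x : F), σ (φ x) = φ (σ x)) (D : Desc φ σ φ₀ j)

/-- the embedding of the special unitary group of the fixed field -/
noncomputable def mapS : SUg ι φ₀ →* SUg ι φ where
  toFun s₀ := mkS φ ((smat φ₀ s₀).map j) ((D.isU_map_iff _).2 (smat_isU φ₀ s₀))
    (by rw [det_map_j, smat_det, map_one])
  map_one' := by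
    apply sug_ext
    rw [mat_mkS, smat_one, smat_one, map_ringHom_one]
  map_mul' a b := by
    apply sug_ext
    rw [mat_mkS, smat_mul, smat_mul, map_ringHom_mul]
    rfl

theorem smat_mapS (s₀ : SUg ι φ₀) : smat φ (mapS D s₀) = (smat φ₀ s₀).map j := rfl

theorem mapS_injective : Function.Injective (mapS (ι := ι) D) := by
  intro a b h
  apply sug_ext
  have h1 : smat φ (mapS D a) = smat φ (mapS D b) := by rw [h]
  rw [smat_mapS, smat_mapS] at h1
  exact map_ringHom_injective (j := j) h1

theorem mapS_mem_SUfix [Finite F] (s₀ : SUg ι φ₀) : mapS D s₀ ∈ SUfix hcomm σ := by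
  rw [mem_SUfix_iff, smat_mapS]
  exact D.map_fixed _

theorem range_mapS [Finite F] : (mapS (ι := ι) D).range = SUfix hcomm σ := by
  apply le_antisymm
  · rintro _ ⟨s₀, rfl⟩
    exact mapS_mem_SUfix hcomm D s₀
  · intro t ht
    rw [mem_SUfix_iff] at ht
    obtain ⟨M₀, hM₀⟩ := D.exists_of_fixed ht
    have hU : IsU φ₀ M₀ := by
      rw [← D.isU_map_iff, hM₀]
      exact smat_isU φ t
    have hdet : M₀.det = 1 := by
      apply j.injective
      rw [← det_map_j, hM₀, smat_det, map_one]
    refine ⟨mkS φ₀ M₀ hU hdet, ?_⟩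
    apply sug_ext
    rw [smat_mapS, mat_mkS, hM₀]

/-- a matrix over the fixed field which becomes scalar is scalar -/
theorem scalar_of_map_scalar [Nonempty ι] (A : Matrix ι ι F₀) (c : F)
    (h : A.map j = c • (1 : Matrix ι ι F)) : ∃ c₀ : F₀, A = c₀ • (1 : Matrix ι ι F₀) := by
  obtain ⟨i₀⟩ := ‹Nonempty ι›
  refine ⟨A i₀ i₀, ?_⟩
  have h2 := congrFun (congrFun h i₀) i₀
  rw [Matrix.map_apply, Matrix.smul_apply, Matrix.one_apply_eq, smul_eq_mul, mul_one] at h2
  ext a b
  apply j.injective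
  have h3 := congrFun (congrFun h a) b
  rw [Matrix.map_apply] at h3
  rw [h3, Matrix.smul_apply, Matrix.smul_apply, Matrix.one_apply, Matrix.one_apply,
    smul_eq_mul, smul_eq_mul, map_mul, h2]
  split_ifs
  · rw [map_one]
  · rw [map_zero]

include D in
/-- compatibility of the hermitian forms -/
theorem hdot_map (x y : ι → F₀) : hdot φ (j ∘ x) (j ∘ y) = j (hdot φ₀ x y) := by
  rw [hdot_def, hdot_def, map_sum]
  apply Finset.sum_congr rfl
  intro i _
  rw [Function.comp_apply, Function.comp_apply, map_mul, D.hj]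

theorem comp_add (x y : ι → F₀) : j ∘ (x + y) = j ∘ x + j ∘ y := by
  funext i
  simp

theorem comp_smul (a : F₀) (x : ι → F₀) : j ∘ (a • x) = j a • (j ∘ x) := by
  funext i
  simp

theorem comp_zero : j ∘ (0 : ι → F₀) = 0 := by
  funext i
  simp

theorem comp_ne_zero {x : ι → F₀} (hx : x ≠ 0) : j ∘ x ≠ 0 := by
  intro h
  apply hx
  funext i
  have := congrFun h i
  rw [Function.comp_apply, Pi.zero_apply] at this
  rw [Pi.zero_apply]
  exact (map_eq_zero j).1 this

/-- the image of a transvection -/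
theorem mapS_tvG (hφφ : ∀ x, φ (φ x) = x) {v : ι → F₀} {c : F₀} (hv : hdot φ₀ v v = 0)
    (hc : c + φ₀ c = 0) :
    mapS D (tvG φ₀ v c) = tvG φ (j ∘ v) (j c) := by
  have hv' : hdot φ (j ∘ v) (j ∘ v) = 0 := by rw [hdot_map D, hv, map_zero]
  have hc' : j c + φ (j c) = 0 := by rw [← D.hj, ← map_add, hc, map_zero]
  apply sug_ext
  rw [smat_mapS, smat_tvG φ₀ D.hφφ₀ hv hc, smat_tvG φ hφφ hv' hc']
  unfold tv
  ext a b
  simp only [Matrix.map_apply, Matrix.add_apply, Matrix.smul_apply, Matrix.one_apply,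
    Matrix.vecMulVec_apply, Function.comp_apply, smul_eq_mul, map_add, map_mul, D.hj]
  split_ifs <;> simp

end maps

end Cfsg.Agent.Helper2.PUA
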