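import Mathlib
import Cfsg.Agent.Lib.Helper2.Pua2

set_option autoImplicit false
set_option linter.unusedSimpArgs false
set_option linter.unusedVariables false
set_option linter.unusedSectionVars false

/-! Local balance for the unitary groups, field automorphisms of odd order, part 3: a semilinear
isometry fixing all the isotropic points defined over the fixed field is a scalar, and its field
automorphism fixes the fixed field. -/

namespace Cfsg.Agent.Helper2.PUA

open Matrix Cfsg.Agent.Helper11 Cfsg.Agent.Helper11.Herm Cfsg.Agent.Helper2.PU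
open Cfsg.Agent.Helper2.SpA (fix_conj_mem_centralizer fix_of_conj_mem_centralizer aut_conj_conj)

section rigid

variable {F F₀ : Type*} [Field F] [Field F₀] [Finite F₀] {φ : F →+* F} {σ : RingAut F}
  {φ₀ : F₀ →+* F₀} {j : F₀ →+* F} {ι : Type*} [Fintype ι] [DecidableEq ι]
  (hφφ : ∀ x, φ (φ x) = x)
  (D : Desc φ σ φ₀ j)
  (hcard : 3 ≤ Fintype.card ι)

include hφφ D hcard in
/-- **rigidity**: a semilinear isometry fixing every isotropic point defined over the fixed
field is a scalar, and its field automorphism is trivial on the fixed field -/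
theorem semi_rigid {g : Matrix ι ι F} (hg : IsU φ g) (τ : F ≃+* F)
    (hτ : ∀ x, τ (φ x) = φ (τ x))
    (hfix : ∀ v₀ : ι → F₀, v₀ ≠ 0 → hdot φ₀ v₀ v₀ = 0 →
      ∃ l : F, semiMap g τ (j ∘ v₀) = l • (j ∘ v₀)) :
    (∀ a₀ : F₀, τ (j a₀) = j a₀) ∧ ∃ l : F, g = l • (1 : Matrix ι ι F) := by
  obtain ⟨e₀, he₀0, he₀⟩ := exists_isotropic φ₀ D.hN1₀ hcard
  obtain ⟨f₀, hf₀, hef₀⟩ := Herm.exists_partner φ₀ D.hφ₀ D.hφφ₀ e₀ he₀ he₀0
  have hfe₀ : hdot φ₀ f₀ e₀ = 1 := by rw [← hdot_conj φ₀ D.hφφ₀ e₀ f₀, hef₀, map_one]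
  have hf₀0 : f₀ ≠ 0 := by
    rintro rfl
    rw [hdot_zero_left] at hfe₀
    exact zero_ne_one hfe₀
  obtain ⟨e, hedef⟩ : ∃ e, e = j ∘ e₀ := ⟨_, rfl⟩
  obtain ⟨f, hfdef⟩ : ∃ f, f = j ∘ f₀ := ⟨_, rfl⟩
  have he : hdot φ e e = 0 := by rw [hedef, hdot_map D, he₀, map_zero]
  have hf : hdot φ f f = 0 := by rw [hfdef, hdot_map D, hf₀, map_zero]
  have hef : hdot φ e f = 1 := by rw [hedef, hfdef, hdot_map D, hef₀, map_one]
  have hfe : hdot φ f e = 1 := by rw [hedef, hfdef, hdot_map D, hfe₀, map_one]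
  obtain ⟨le, hle⟩ := hfix e₀ he₀0 he₀
  obtain ⟨lf, hlf⟩ := hfix f₀ hf₀0 hf₀
  rw [← hedef] at hle
  rw [← hfdef] at hlf
  have hlef : le * φ lf = 1 := by
    have := semiMap_hdot hg τ hτ e f
    rw [hle, hlf, hdot_smul_left, hdot_smul_right, hef, mul_one, map_one] at this
    exact this
  have hle0 : le ≠ 0 := left_ne_zero_of_mul_eq_one hlef
  have hlf0 : lf ≠ 0 := by
    have : φ lf ≠ 0 := right_ne_zero_of_mul_eq_one hlef
    intro h0
    rw [h0, map_zero] at this
    exact this rfl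
  -- the key computation on `W`
  have key : ∀ (w₀ : ι → F₀) (a₀ : F₀), InW φ₀ e₀ f₀ w₀ → a₀ + φ₀ a₀ + hdot φ₀ w₀ w₀ = 0 →
      semiMap g τ (j ∘ w₀) = le • (j ∘ w₀) ∧ le * j a₀ = τ (j a₀) * lf := by
    intro w₀ a₀ hw₀ ha₀
    obtain ⟨w, hwdef⟩ : ∃ w, w = j ∘ w₀ := ⟨_, rfl⟩
    obtain ⟨a, hadef⟩ : ∃ a, a = j a₀ := ⟨_, rfl⟩
    rw [← hwdef, ← hadef]
    have hw : InW φ e f w := by
      constructor
      · rw [hwdef, hedef, hdot_map D, hw₀.1, map_zero]
      · rw [hwdef, hfdef, hdot_map D, hw₀.2, map_zero]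
    have ha : a + φ a + hdot φ w w = 0 := by
      rw [hadef, hwdef, hdot_map D, ← D.hj, ← map_add, ← map_add, ha₀, map_zero]
    obtain ⟨v₀, hv₀def⟩ : ∃ v₀, v₀ = e₀ + a₀ • f₀ + w₀ := ⟨_, rfl⟩
    obtain ⟨v, hvdef⟩ : ∃ v, v = e + a • f + w := ⟨_, rfl⟩
    have hvv₀ : v = j ∘ v₀ := by
      rw [hvdef, hv₀def, comp_add, comp_add, comp_smul, ← hedef, ← hfdef, ← hwdef, ← hadef]
    have hvv : hdot φ v v = 0 := by
      have h1 : v = (1 : F) • e + a • f + w := by rw [hvdef, one_smul]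
      rw [h1, hdot_decomp hφφ he hf hef hfe hw hw, map_one, mul_one]
      linear_combination ha
    have hvf : hdot φ v f = 1 := by
      rw [hvdef, hdot_add_left, hdot_add_left, hdot_smul_left, hef, hf, hw.2]
      ring
    have hve : hdot φ v e = a := by
      rw [hvdef, hdot_add_left, hdot_add_left, hdot_smul_left, he, hfe, hw.1]
      ring
    have hv₀0 : v₀ ≠ 0 := by
      rintro h0
      rw [hvv₀, h0, comp_zero, hdot_zero_left] at hvf
      exact zero_ne_one hvf
    have hv₀v₀ : hdot φ₀ v₀ v₀ = 0 := by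
      apply j.injective
      rw [← hdot_map D, ← hvv₀, hvv, map_zero]
    obtain ⟨lv, hlv⟩ := hfix v₀ hv₀0 hv₀v₀
    rw [← hvv₀] at hlv
    have hTw1 : hdot φ (semiMap g τ w) e = 0 := by
      have := semiMap_hdot hg τ hτ w e
      rw [hle, hdot_smul_right, hw.1, map_zero] at this
      rcases mul_eq_zero.1 this with h0 | h0
      · exfalso
        apply hle0
        have := congrArg φ h0
        rw [hφφ, map_zero] at this
        exact this
      · exact h0
    have hTw2 : hdot φ (semiMap g τ w) f = 0 := by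
      have := semiMap_hdot hg τ hτ w f
      rw [hlf, hdot_smul_right, hw.2, map_zero] at this
      rcases mul_eq_zero.1 this with h0 | h0
      · exfalso
        apply hlf0
        have := congrArg φ h0
        rw [hφφ, map_zero] at this
        exact this
      · exact h0
    have hT : semiMap g τ v = le • e + (τ a * lf) • f + semiMap g τ w := by
      rw [hvdef, semiMap_add, semiMap_add, semiMap_smul, hle, hlf, smul_smul]
    have e1 : lv = le := by
      have := congrArg (fun x => hdot φ x f) hlv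
      rw [hT, hdot_smul_left, hvf, hdot_add_left, hdot_add_left, hdot_smul_left, hdot_smul_left,
        hef, hf, hTw2] at this
      linear_combination -this
    have e2 : lv * a = τ a * lf := by
      have := congrArg (fun x => hdot φ x e) hlv
      rw [hT, hdot_smul_left, hve, hdot_add_left, hdot_add_left, hdot_smul_left, hdot_smul_left,
        he, hfe, hTw1] at this
      linear_combination -this
    refine ⟨?_, by rw [← e1]; exact e2⟩
    have h5 : le • e + (τ a * lf) • f + semiMap g τ w = lv • (e + a • f + w) := by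
      rw [← hT, hlv, hvdef]
    rw [e1, ← e2, e1] at h5
    have h6 : semiMap g τ w = le • (e + a • f + w) - (le • e + (le * a) • f) := by
      rw [← h5]
      abel
    rw [h6, smul_add, smul_add, smul_smul]
    abel
  have hsieg : ∀ w₀ : ι → F₀, ∃ a₀ : F₀, a₀ + φ₀ a₀ + hdot φ₀ w₀ w₀ = 0 := by
    intro w₀
    obtain ⟨s, hs⟩ := Witt.exists_trace_eq φ₀ D.hφ₀ D.hφφ₀ (-hdot φ₀ w₀ w₀)
      (by rw [map_neg, hdot_conj φ₀ D.hφφ₀])
    exact ⟨s, by rw [hs, neg_add_cancel]⟩
  -- `τ` fixes the fixed field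
  obtain ⟨d₀, hdd₀, hde₀, hdf₀⟩ :=
    exists_norm_one_orth_hyp φ₀ D.hφ₀ D.hφφ₀ D.hN1₀ hcard e₀ f₀ he₀ hf₀ hef₀
  have hdW₀ : InW φ₀ e₀ f₀ d₀ := ⟨hde₀, hdf₀⟩
  have hd0 : j ∘ d₀ ≠ 0 := by
    apply comp_ne_zero
    rintro rfl
    rw [hdot_zero_left] at hdd₀
    exact zero_ne_one hdd₀
  have hτfix : ∀ μ₀ : F₀, τ (j μ₀) = j μ₀ := by
    intro μ₀
    obtain ⟨a, ha⟩ := hsieg (μ₀ • d₀)
    obtain ⟨a', ha'⟩ := hsieg d₀
    have h1 := (key (μ₀ • d₀) a (hdW₀.smul μ₀) ha).1
    have h2 := (key d₀ a' hdW₀ ha').1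
    rw [comp_smul, semiMap_smul, h2, smul_smul, smul_smul] at h1
    have h3 : (τ (j μ₀) * le - le * j μ₀) • (j ∘ d₀) = 0 := by
      rw [sub_smul, h1, sub_self]
    rcases smul_eq_zero.1 h3 with h4 | h4
    · have h5 : (τ (j μ₀) - j μ₀) * le = 0 := by linear_combination h4
      rcases mul_eq_zero.1 h5 with h6 | h6
      · exact sub_eq_zero.1 h6
      · exact absurd h6 hle0
    · exact absurd h4 hd0
  refine ⟨hτfix, le, ?_⟩
  obtain ⟨t₀, ht₀0, ht₀⟩ := Witt.exists_trace_zero φ₀ D.hφ₀ D.hφφ₀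
  have hlelf : le = lf := by
    have := (key 0 t₀ InW.zero (by rw [hdot_zero_left, add_zero, ht₀])).2
    rw [hτfix] at this
    have ht0 : j t₀ ≠ 0 := (map_ne_zero j).2 ht₀0
    have h2 : j t₀ * (le - lf) = 0 := by linear_combination this
    rcases mul_eq_zero.1 h2 with h3 | h3
    · exact absurd h3 ht0
    · exact sub_eq_zero.1 h3
  -- the action on rational vectors
  have hrat : ∀ x₀ : ι → F₀, g *ᵥ (j ∘ x₀) = le • (j ∘ x₀) := by
    intro x₀
    have hx := eq_decomp (φ := φ₀) e₀ f₀ x₀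
    obtain ⟨w₀, hw₀def⟩ : ∃ w₀, w₀ = x₀ - hdot φ₀ x₀ f₀ • e₀ - hdot φ₀ x₀ e₀ • f₀ := ⟨_, rfl⟩
    have hwW : InW φ₀ e₀ f₀ w₀ := by
      rw [hw₀def]
      exact inW_proj he₀ hf₀ hef₀ hfe₀ x₀
    obtain ⟨a, ha⟩ := hsieg w₀
    have hTw := (key w₀ a hwW ha).1
    have hT : semiMap g τ (j ∘ x₀) = le • (j ∘ x₀) := by
      rw [hx, ← hw₀def, comp_add, comp_add, comp_smul, comp_smul, semiMap_add, semiMap_add,
        semiMap_smul, semiMap_smul, ← hedef, ← hfdef, hle, hlf, hTw, hτfix, hτfix, ← hlelf]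
      simp only [smul_add, smul_smul]
      rw [mul_comm le, mul_comm le]
    have hT2 : semiMap g τ (j ∘ x₀) = g *ᵥ (j ∘ x₀) := by
      unfold semiMap
      congr 1
      funext i
      simp only [Function.comp_apply]
      exact hτfix _
    rw [← hT2, hT]
  ext a b
  have h1 := congrFun (hrat (Pi.single b 1)) a
  have h2 : j ∘ (Pi.single b (1 : F₀) : ι → F₀) = Pi.single b (1 : F) := by
    funext i
    rw [Function.comp_apply]
    by_cases hib : i = b
    · subst hib
      rw [Pi.single_eq_same, Pi.single_eq_same, map_one]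
    · rw [Pi.single_eq_of_ne hib, Pi.single_eq_of_ne hib, map_zero]
  rw [h2, Matrix.mulVec_single_one] at h1
  rw [Matrix.smul_apply, Matrix.one_apply]
  rw [Pi.smul_apply] at h1
  rw [show g a b = (g.col b) a from rfl, h1, Pi.single_apply]

end rigid

end Cfsg.Agent.Helper2.PUA
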