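import Mathlib
import Cfsg.Agent.Lib.Helper2.Pua3

set_option autoImplicit false
set_option linter.unusedSimpArgs false
set_option linter.unusedVariables false
set_option linter.unusedSectionVars false

/-! Local balance for the unitary groups, field automorphisms of odd order, part 4: normal
subgroups of the special unitary group acting non-trivially on the isotropic points contain the
elements of order prime to the characteristic of the group generated by the root groups. -/

namespace Cfsg.Agent.Helper2.PUA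

open Matrix Cfsg.Agent.Helper11 Cfsg.Agent.Helper11.Herm Cfsg.Agent.Helper2.PU
open Cfsg.Agent.Helper2.SpA (fix_conj_mem_centralizer fix_of_conj_mem_centralizer aut_conj_conj)

section abstractgp

variable {M α : Type*} [Group M] [MulAction M α]

open scoped Pointwise in
/-- the Frattini argument behind the Iwasawa criterion, without the generation hypothesis -/
theorem iSup_le_sup_of_normal [MulAction.IsQuasiPreprimitive M α] (T : α → Subgroup M)
    (is_conj : ∀ (g : M) (x : α), T (g • x) = MulAut.conj g • T x)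
    (N : Subgroup M) [nN : N.Normal] (hNX : MulAction.fixedPoints N α ≠ Set.univ) (a : α) :
    iSup T ≤ N ⊔ T a := by
  have is_transN := MulAction.IsQuasiPreprimitive.isPretransitive_of_normal hNX
  rw [iSup_le_iff]
  intro x
  obtain ⟨g, rfl⟩ := MulAction.exists_smul_eq N a x
  rw [Subgroup.smul_def, is_conj g a]
  rintro _ ⟨k, hk, rfl⟩
  have hg' : ↑g ∈ N ⊔ T a := Subgroup.mem_sup_left (Subtype.mem g)
  have hk' : k ∈ N ⊔ T a := Subgroup.mem_sup_right hk
  exact (N ⊔ T a).mul_mem ((N ⊔ T a).mul_mem hg' hk') ((N ⊔ T a).inv_mem hg')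

/-- an element of order prime to `q` in the product of a normal subgroup and a subgroup of
exponent `q` lies in the normal subgroup -/
theorem mem_of_pow_coprime (N : Subgroup M) [nN : N.Normal] (Ta : Subgroup M) (q : ℕ)
    (hTa : ∀ t ∈ Ta, t ^ q = 1) (x : M) (hx : x ∈ N ⊔ Ta) (k : ℕ) (hk : k.Coprime q)
    (hxk : x ^ k = 1) : x ∈ N := by
  rw [Subgroup.mem_sup_of_normal_left] at hx
  obtain ⟨n, hn, t, ht, rfl⟩ := hx
  have h1 : QuotientGroup.mk' N (n * t) = QuotientGroup.mk' N t := by
    have h0 : QuotientGroup.mk' N n = 1 := (QuotientGroup.eq_one_iff n).2 hn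
    rw [map_mul, h0, one_mul]
  have h2 : (QuotientGroup.mk' N (n * t)) ^ q = 1 := by
    rw [h1, ← map_pow, hTa t ht, map_one]
  have h3 : (QuotientGroup.mk' N (n * t)) ^ k = 1 := by
    rw [← map_pow, hxk, map_one]
  have h4 : orderOf (QuotientGroup.mk' N (n * t)) = 1 :=
    Nat.eq_one_of_dvd_coprimes hk (orderOf_dvd_of_pow_eq_one h3) (orderOf_dvd_of_pow_eq_one h2)
  have h5 := orderOf_eq_one_iff.1 h4
  exact (QuotientGroup.eq_one_iff _).1 h5

end abstractgp

section unitary

variable {F : Type*} [Field F] [Finite F] {ι : Type*} [Fintype ι] [DecidableEq ι] {φ : F →+* F}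
  (hφ : φ ≠ RingHom.id F) (hφφ : ∀ x, φ (φ x) = x)
  (hN1 : ∀ c : F, c ≠ 0 → φ c = c → ∃ l : F, l ≠ 0 ∧ l * φ l = c)
  (hcard : 3 ≤ Fintype.card ι) (p : ℕ) [Fact p.Prime] [CharP F p]

/-- the group generated by the root groups -/
noncomputable def rootClosure (φ : F →+* F) (ι : Type*) [Fintype ι] [DecidableEq ι] :
    Subgroup (SUg ι φ) :=
  ⨆ P : isoPts (ι := ι) φ, rootGroup φ P.1.rep

include hφφ in
theorem tvG_mem_rootClosure {v : ι → F} (hv0 : v ≠ 0) (hv : hdot φ v v = 0) {c : F}
    (hc : c + φ c = 0) : tvG φ v c ∈ rootClosure φ ι := by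
  apply Subgroup.mem_iSup_of_mem (mkI φ v hv0 hv)
  show _ ∈ rootGroup φ (Projectivization.mk F v hv0).rep
  rw [rootGroup_rep φ hφφ hv0 hv]
  exact tvG_mem_rootGroup φ hφφ hv hc

open scoped Pointwise in
include hφ hφφ hN1 hcard p in
/-- a normal subgroup not fixing all the isotropic points contains the elements of order prime
to the characteristic of the group generated by the root groups -/
theorem mem_of_normal_of_coprimeU (M₀ : Subgroup (SUg ι φ)) [hM₀ : M₀.Normal]
    (hfix : MulAction.fixedPoints M₀ (isoPts (ι := ι) φ) ≠ Set.univ)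
    (x : SUg ι φ) (hx : x ∈ rootClosure φ ι) (k : ℕ) (hk : k.Coprime p) (hxk : x ^ k = 1) :
    x ∈ M₀ := by
  have hne : Nonempty ι := by
    rw [← Fintype.card_pos_iff]
    omega
  have hprim := isPreprimitive_isoPts φ hφ hφφ hN1 hcard
  have hq : MulAction.IsQuasiPreprimitive (SUg ι φ) (isoPts (ι := ι) φ) := inferInstance
  obtain ⟨e, he0, he⟩ := exists_isotropic φ hN1 hcard
  have h1 := iSup_le_sup_of_normal (fun P : isoPts (ι := ι) φ => rootGroup φ P.1.rep)
    (by
      intro g P
      obtain ⟨v, hv, hvv, rfl⟩ := exists_eq_mkI φ P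
      rw [smul_mkI]
      show rootGroup φ (Projectivization.mk F (g • v) _).rep =
        MulAut.conj g • rootGroup φ (Projectivization.mk F v hv).rep
      rw [rootGroup_rep φ hφφ _ (by rw [sug_hdot_smul, hvv]), rootGroup_rep φ hφφ hv hvv,
        rootGroup_conj φ g v hvv])
    M₀ hfix (mkI φ e he0 he)
  have h2 : x ∈ M₀ ⊔ rootGroup φ (mkI φ e he0 he).1.rep := h1 hx
  apply mem_of_pow_coprime M₀ _ (p ^ 2) ?_ x h2 k (Nat.Coprime.pow_right 2 hk) hxk
  intro t ht
  have ht' : t ∈ rootGroup φ (Projectivization.mk F e he0).rep := ht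
  rw [rootGroup_rep φ hφφ he0 he] at ht'
  exact pow_eq_one_of_mem_Qg φ p (rootGroup_le_Qg φ hφφ he ht')

end unitary

end Cfsg.Agent.Helper2.PUA
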