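import Mathlib
import Cfsg.Agent.Lib.Helper2.Pua4

set_option autoImplicit false
set_option linter.unusedSimpArgs false
set_option linter.unusedVariables false
set_option linter.unusedSectionVars false

/-! Local balance for the unitary groups, field automorphisms of odd order, part 5: consequences
of rigidity: elements fixing the isotropic points are scalars, and automorphisms fixing the image
of the special unitary group over the fixed field are powers of the field automorphism. -/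

namespace Cfsg.Agent.Helper2.PUA

open Matrix Cfsg.Agent.Helper11 Cfsg.Agent.Helper11.Herm Cfsg.Agent.Helper2.PU
open Cfsg.Agent.Helper2.SpA (fix_conj_mem_centralizer fix_of_conj_mem_centralizer aut_conj_conj
  mem_zpowers_of_fixes_fixedField)

section trivialdesc

variable {F₀ : Type*} [Field F₀] [Finite F₀] {φ₀ : F₀ →+* F₀} {ι : Type*} [Fintype ι]
  [DecidableEq ι]

/-- the trivial descent data -/
theorem desc_trivial (hφ₀ : φ₀ ≠ RingHom.id F₀) (hφφ₀ : ∀ a, φ₀ (φ₀ a) = a)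
    (hN1₀ : ∀ c : F₀, c ≠ 0 → φ₀ c = c → ∃ l : F₀, l ≠ 0 ∧ l * φ₀ l = c)
    (hN2₀ : ∃ μ : F₀, μ + φ₀ μ ≠ 0) :
    Desc φ₀ (1 : RingAut F₀) φ₀ (RingHom.id F₀) :=
  ⟨fun a => rfl, fun x _ => ⟨x, rfl⟩, fun a => rfl, hφφ₀, hφ₀, hN1₀, hN2₀⟩

theorem comp_id_eq (x : ι → F₀) : (RingHom.id F₀) ∘ x = x := rfl

/-- an element of the special unitary group fixing all the isotropic points is a scalar -/
theorem scalar_of_fixes (hφ₀ : φ₀ ≠ RingHom.id F₀) (hφφ₀ : ∀ a, φ₀ (φ₀ a) = a)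
    (hN1₀ : ∀ c : F₀, c ≠ 0 → φ₀ c = c → ∃ l : F₀, l ≠ 0 ∧ l * φ₀ l = c)
    (hN2₀ : ∃ μ : F₀, μ + φ₀ μ ≠ 0) (hcard : 3 ≤ Fintype.card ι)
    (s₀ : SUg ι φ₀) (h : ∀ P : isoPts (ι := ι) φ₀, s₀ • P = P) :
    ∃ l : F₀, smat φ₀ s₀ = l • (1 : Matrix ι ι F₀) := by
  have D := desc_trivial hφ₀ hφφ₀ hN1₀ hN2₀
  refine (semi_rigid hφφ₀ D hcard (smat_isU φ₀ s₀) (1 : F₀ ≃+* F₀) (fun x => rfl) ?_).2
  intro v₀ hv₀0 hv₀
  have h1 := h (mkI φ₀ v₀ hv₀0 hv₀)
  rw [smul_mkI, mkI_eq_mkI_iff] at h1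
  obtain ⟨l, hl⟩ := h1
  refine ⟨l, ?_⟩
  rw [comp_id_eq, hl]
  rfl

end trivialdesc

section fix

variable {F : Type*} [Field F] [Finite F] {ι : Type*} [Fintype ι] [DecidableEq ι] {φ : F →+* F}
  (H : HypU φ ι) (p : ℕ) [Fact p.Prime] [CharP F p]
  (hcomm : ∀ (σ : F ≃+* F) (x : F), σ (φ x) = φ (σ x))

include H p in
/-- an automorphism fixing the image of a transvection fixes its point -/
theorem semiMap_of_fix {g : Matrix ι ι F} (hg : IsU φ g) (τ : F ≃+* F) {v : ι → F}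
    (hv : hdot φ v v = 0) (hv0 : v ≠ 0) {c : F} (hc : c + φ c = 0) (hc0 : c ≠ 0)
    (h : stdAutQ g hg τ (hcomm τ) (mkq φ (tvG φ v c)) = mkq φ (tvG φ v c)) :
    ∃ l : F, semiMap g τ v = l • v := by
  obtain ⟨e, he0, he⟩ := exists_isotropic φ H.hN1 H.hcard
  obtain ⟨f, hf, hef, hfe⟩ := H.exists_partner he0 he
  have hv' : hdot φ (semiMap g τ v) (semiMap g τ v) = 0 := by
    rw [semiMap_hdot hg τ (hcomm τ), hv, map_zero]
  have hc' : τ c + φ (τ c) = 0 := by rw [← hcomm, ← map_add, hc, map_zero]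
  have h1 : stdHom g hg τ (hcomm τ) (tvG φ v c) = tvG φ v c := by
    rw [stdAutQ_mk] at h
    refine mkq_inj_of_pow H p he hf hef hfe (a := 2) (b := 2) ?_ ?_ h
    · rw [stdHom_tvG H.hφφ g hg τ (hcomm τ) hv hc]
      exact pow_of_mem_rootGroup H p he hv' (tvG_mem_rootGroup φ H.hφφ hv' hc')
    · exact pow_of_mem_rootGroup H p he hv (tvG_mem_rootGroup φ H.hφφ hv hc)
  obtain ⟨y, hy⟩ := exists_hdot_ne_zero H.hφφ hv0
  have h2 := stdHom_smul_semiMap g hg τ (hcomm τ) (tvG φ v c) y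
  rw [h1, tvG_smul φ H.hφφ hv hc, tvG_smul φ H.hφφ hv hc, semiMap_add, semiMap_smul] at h2
  have h3 : (c * hdot φ (semiMap g τ y) v) • v = τ (c * hdot φ y v) • semiMap g τ v :=
    add_left_cancel h2
  have h4 : τ (c * hdot φ y v) ≠ 0 := by
    rw [Ne, EmbeddingLike.map_eq_zero_iff]
    exact mul_ne_zero hc0 hy
  refine ⟨(τ (c * hdot φ y v))⁻¹ * (c * hdot φ (semiMap g τ y) v), ?_⟩
  rw [mul_smul, h3, smul_smul, inv_mul_cancel₀ h4, one_smul]

end fix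

section zpowers

variable {F F₀ : Type*} [Field F] [Finite F] [Field F₀] [Finite F₀] {φ : F →+* F}
  {σ : RingAut F} {φ₀ : F₀ →+* F₀} {j : F₀ →+* F} {ι : Type*} [Fintype ι] [DecidableEq ι]
  (H : HypU φ ι) (p : ℕ) [Fact p.Prime] [CharP F p]
  (hcomm : ∀ (σ : F ≃+* F) (x : F), σ (φ x) = φ (σ x)) (D : Desc φ σ φ₀ j)

include H p in
/-- **an automorphism fixing the image of the special unitary group over the fixed field is a
power of the field automorphism** -/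
theorem mem_zpowers_of_fixesU (a : MulAut (PGq φ ι))
    (hfix : ∀ s₀ : SUg ι φ₀, a (mkq φ (mapS D s₀)) = mkq φ (mapS D s₀)) :
    a ∈ Subgroup.zpowers (phiU (ι := ι) hcomm σ) := by
  obtain ⟨τ, g, hg, rfl⟩ := exists_stdAutQ H p hcomm a
  obtain ⟨c₀, hc₀0, hc₀⟩ := Witt.exists_trace_zero φ₀ D.hφ₀ D.hφφ₀
  obtain ⟨hτ, l, hl⟩ := semi_rigid H.hφφ D H.hcard hg τ (hcomm τ) (by
    intro v₀ hv₀0 hv₀
    have h1 := hfix (tvG φ₀ v₀ c₀)
    rw [mapS_tvG D H.hφφ hv₀ hc₀] at h1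
    exact semiMap_of_fix H p hcomm hg τ (by rw [hdot_map D, hv₀, map_zero])
      (comp_ne_zero hv₀0) (by rw [← D.hj, ← map_add, hc₀, map_zero])
      ((map_ne_zero j).2 hc₀0) h1)
  have hτz : τ ∈ Subgroup.zpowers σ := by
    apply mem_zpowers_of_fixes_fixedField σ τ
    intro x hx
    obtain ⟨x₀, rfl⟩ := D.hfix x hx
    exact hτ x₀
  obtain ⟨k, hk⟩ := Subgroup.mem_zpowers_iff.1 hτz
  have hU : IsU φ (l • (1 : Matrix ι ι F)) := hl ▸ hg
  rw [stdAutQ_congr hcomm hg hU hl rfl, stdAutQ_smul hcomm (isU_one φ) l hU, ← phiU_apply, ← hk,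
    map_zpow]
  exact Subgroup.zpow_mem_zpowers _ k

end zpowers

end Cfsg.Agent.Helper2.PUA
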