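import Mathlib
import Cfsg.Agent.Lib.Helper2.Pua5

set_option autoImplicit false
set_option linter.unusedSimpArgs false
set_option linter.unusedVariables false
set_option linter.unusedSectionVars false

/-! Local balance for the unitary groups, field automorphisms of odd order, part 6: explicit
elements of prime order in the special unitary group. -/

namespace Cfsg.Agent.Helper2.PUA

open Matrix Cfsg.Agent.Helper11 Cfsg.Agent.Helper11.Herm Cfsg.Agent.Helper2.PU
open Cfsg.Agent.Helper2.SpA (fix_conj_mem_centralizer fix_of_conj_mem_centralizer aut_conj_conj)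

section diag

variable {F₀ : Type*} [Field F₀] {φ₀ : F₀ →+* F₀} {ι : Type*} [Fintype ι] [DecidableEq ι]

/-- a diagonal element of prime order, from an element of norm one of that order -/
theorem exists_diag_elt (hcard : 3 ≤ Fintype.card ι) {ζ : F₀} (hζ : ζ * φ₀ ζ = 1) (hζ1 : ζ ≠ 1)
    {ℓ : ℕ} (hζℓ : ζ ^ ℓ = 1) :
    ∃ t₁ : SUg ι φ₀, t₁ ^ ℓ = 1 ∧ ¬ ∃ c : F₀, smat φ₀ t₁ = c • (1 : Matrix ι ι F₀) := by
  obtain ⟨i0, i1, i2, h01, h02, h12⟩ := Fintype.two_lt_card_iff.1 hcard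
  have hζ0 : ζ ≠ 0 := left_ne_zero_of_mul_eq_one hζ
  obtain ⟨d, hd⟩ : ∃ d : ι → F₀, d = fun i => if i = i0 then ζ else if i = i1 then ζ⁻¹ else 1 :=
    ⟨_, rfl⟩
  have hd0 : d i0 = ζ := by rw [hd]; simp
  have hd1 : d i1 = ζ⁻¹ := by rw [hd]; simp [h01.symm]
  have hd2 : d i2 = 1 := by rw [hd]; simp [h02.symm, h12.symm]
  have hdn : ∀ i, d i * φ₀ (d i) = 1 := by
    intro i
    rw [hd]
    simp only []
    split_ifs
    · exact hζ
    · rw [map_inv₀, ← mul_inv, hζ, inv_one]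
    · rw [map_one, mul_one]
  have hU : IsU φ₀ (Matrix.diagonal d) := isU_diagonal φ₀ d hdn
  have hdet : (Matrix.diagonal d).det = 1 := by
    rw [Matrix.det_diagonal, Finset.prod_eq_mul i0 i1 h01 ?_ ?_ ?_, hd0, hd1, mul_inv_cancel₀ hζ0]
    · intro c _ hc
      rw [hd]
      simp [hc.1, hc.2]
    · intro h
      exact absurd (Finset.mem_univ _) h
    · intro h
      exact absurd (Finset.mem_univ _) h
  refine ⟨mkS φ₀ (Matrix.diagonal d) hU hdet, ?_, ?_⟩
  · apply sug_ext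
    rw [smat_pow, mat_mkS, Matrix.diagonal_pow, smat_one, ← Matrix.diagonal_one]
    congr 1
    funext i
    rw [Pi.pow_apply, hd]
    simp only []
    split_ifs
    · exact hζℓ
    · rw [inv_pow, hζℓ, inv_one]
    · rw [one_pow]
  · rintro ⟨c, hc⟩
    rw [mat_mkS] at hc
    have e0 := congrFun (congrFun hc i0) i0
    have e2 := congrFun (congrFun hc i2) i2
    rw [Matrix.diagonal_apply_eq, Matrix.smul_apply, Matrix.one_apply_eq, smul_eq_mul,
      mul_one] at e0 e2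
    apply hζ1
    rw [← hd0, e0, ← e2, hd2]

end diag

section chartwo

variable {F₀ : Type*} [Field F₀] [Finite F₀] {φ₀ : F₀ →+* F₀} {ι : Type*} [Fintype ι]
  [DecidableEq ι]

/-- in characteristic two, the product of two transvections of a hyperbolic pair has order
three -/
theorem exists_elt_three (hφ₀ : φ₀ ≠ RingHom.id F₀) (hφφ₀ : ∀ a, φ₀ (φ₀ a) = a)
    (hN1₀ : ∀ c : F₀, c ≠ 0 → φ₀ c = c → ∃ l : F₀, l ≠ 0 ∧ l * φ₀ l = c)
    (hcard : 3 ≤ Fintype.card ι) (h2 : (2 : F₀) = 0) :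
    ∃ t₁ : SUg ι φ₀, t₁ ∈ rootClosure φ₀ ι ∧ t₁ ^ 3 = 1 ∧
      ¬ ∃ c : F₀, smat φ₀ t₁ = c • (1 : Matrix ι ι F₀) := by
  obtain ⟨e, he0, he⟩ := exists_isotropic φ₀ hN1₀ hcard
  obtain ⟨f, hf, hef⟩ := Herm.exists_partner φ₀ hφ₀ hφφ₀ e he he0
  have hfe : hdot φ₀ f e = 1 := by rw [← hdot_conj φ₀ hφφ₀ e f, hef, map_one]
  have hf0 : f ≠ 0 := by
    rintro rfl
    rw [hdot_zero_left] at hfe
    exact zero_ne_one hfe
  have h1 : (1 : F₀) + φ₀ 1 = 0 := by
    rw [map_one]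
    linear_combination h2
  obtain ⟨t₁, ht₁⟩ : ∃ t₁, t₁ = tvG φ₀ e 1 * tvG φ₀ f 1 := ⟨_, rfl⟩
  have hact : ∀ x : ι → F₀, t₁ • x = x + hdot φ₀ x f • f + (hdot φ₀ x e + hdot φ₀ x f) • e := by
    intro x
    rw [ht₁, mul_smul, tvG_smul φ₀ hφφ₀ hf h1, tvG_smul φ₀ hφφ₀ he h1, one_mul, one_mul,
      hdot_add_left, hdot_smul_left, hfe, mul_one]
  have hA : ∀ x : ι → F₀, hdot φ₀ (t₁ • x) e = hdot φ₀ x e + hdot φ₀ x f := by
    intro x
    rw [hact, hdot_add_left, hdot_add_left, hdot_smul_left, hdot_smul_left, hfe, he]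
    ring
  have hB : ∀ x : ι → F₀, hdot φ₀ (t₁ • x) f = hdot φ₀ x e := by
    intro x
    rw [hact, hdot_add_left, hdot_add_left, hdot_smul_left, hdot_smul_left, hf, hef]
    linear_combination hdot φ₀ x f * h2
  refine ⟨t₁, ?_, ?_, ?_⟩
  · rw [ht₁]
    exact Subgroup.mul_mem _ (tvG_mem_rootClosure hφφ₀ he0 he h1)
      (tvG_mem_rootClosure hφφ₀ hf0 hf h1)
  · apply sug_ext_smul
    intro x
    rw [pow_succ, pow_two, mul_smul, mul_smul, one_smul]
    have e1 := hact (t₁ • (t₁ • x))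
    have e2 := hact (t₁ • x)
    have e3 := hact x
    simp only [hA, hB] at e1 e2
    rw [e1, e2, e3]
    obtain ⟨A, hAdef⟩ : ∃ A, A = hdot φ₀ x e := ⟨_, rfl⟩
    obtain ⟨B, hBdef⟩ : ∃ B, B = hdot φ₀ x f := ⟨_, rfl⟩
    rw [← hAdef, ← hBdef]
    have h3 : x + B • f + (A + B) • e + A • f + (A + B + A) • e + (A + B) • f +
        (A + B + A + (A + B)) • e = x + (2 * (A + B)) • f + (2 * (3 * A + 2 * B)) • e := by
      module
    rw [h3, h2, zero_mul, zero_mul, zero_smul, zero_smul, add_zero, add_zero]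
  · rintro ⟨c, hc⟩
    have e1 := hact e
    rw [sug_smul_def, hc, Matrix.smul_mulVec, Matrix.one_mulVec, he, hef, zero_add, one_smul,
      one_smul] at e1
    have e2 := congrArg (fun y => hdot φ₀ y f) e1
    simp only [hdot_smul_left, hdot_add_left, hef, hf] at e2
    have e3 := congrArg (fun y => hdot φ₀ y e) e1
    simp only [hdot_smul_left, hdot_add_left, he, hfe] at e3
    rw [mul_zero, add_zero, zero_add] at e3
    exact zero_ne_one e3

end chartwo

end Cfsg.Agent.Helper2.PUA
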