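import Mathlib
import Cfsg.Agent.Lib.Helper2.Pua6

set_option autoImplicit false
set_option linter.unusedSimpArgs false
set_option linter.unusedVariables false
set_option linter.unusedSectionVars false

/-! Local balance for the unitary groups, field automorphisms of odd order, part 7: existence of
a non-scalar element of order a power of `ℓ` in the group generated by the root groups of the
special unitary group over the fixed field, when `ℓ` divides the number of fixed points. -/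

namespace Cfsg.Agent.Helper2.PUA

open Matrix Cfsg.Agent.Helper11 Cfsg.Agent.Helper11.Herm Cfsg.Agent.Helper2.PU
open Cfsg.Agent.Helper2.SpA (fix_conj_mem_centralizer fix_of_conj_mem_centralizer aut_conj_conj)

section ell

variable {F F₀ : Type*} [Field F] [Finite F] [Field F₀] [Finite F₀] {φ : F →+* F}
  {σ : RingAut F} {φ₀ : F₀ →+* F₀} {j : F₀ →+* F} {ι : Type*} [Fintype ι] [DecidableEq ι]
  (H : HypU φ ι) (p : ℕ) [Fact p.Prime] [CharP F p]
  (hcomm : ∀ (σ : F ≃+* F) (x : F), σ (φ x) = φ (σ x)) (D : Desc φ σ φ₀ j)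

include H p in
/-- the inner automorphism of a fixed point of the field automorphism is induced by a unitary
matrix over the fixed field -/
theorem exists_mapJ_of_fixed (r : ℕ) (hS : SigHyp φ σ r ι) (s : SUg ι φ)
    (hs : phiU hcomm σ (mkq φ s) = mkq φ s) :
    ∃ g₀ : UG ι φ₀, psiU hcomm (mapJ D g₀) = MulAut.conj (mkq φ s) := by
  have h1 : psiU hcomm (toUG (smat_isU φ s)) ∈ Subgroup.centralizer {phiU (ι := ι) hcomm σ} := by
    rw [← conj_mkq_eq_psiU]
    exact fix_conj_mem_centralizer _ hs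
  have h2 : toUG (smat_isU φ s) ∈
      (Subgroup.centralizer {phiU (ι := ι) hcomm σ}).comap (psiU hcomm) := h1
  rw [comap_centralizer_phiU H p hcomm σ r hS, Subgroup.mem_sup_of_normal_left] at h2
  obtain ⟨z, hz, g₁, hg₁, hzg⟩ := h2
  rw [← range_mapJ hcomm D] at hg₁
  obtain ⟨g₀, rfl⟩ := hg₁
  refine ⟨g₀, ?_⟩
  rw [conj_mkq_eq_psiU hcomm, ← hzg, map_mul, MonoidHom.mem_ker.1 hz, one_mul]

include H p D in
/-- the number of fixed points divides the order of the unitary group over the fixed field -/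
theorem card_fix_dvd (r : ℕ) (hS : SigHyp φ σ r ι) :
    Nat.card ↥(MonoidHom.eqLocus (phiU (ι := ι) hcomm σ).toMonoidHom (MonoidHom.id (PGq φ ι))) ∣
      Nat.card (UG ι φ₀) := by
  obtain ⟨Ψ, hΨ⟩ : ∃ Ψ : UG ι φ₀ →* MulAut (PGq φ ι), Ψ = (psiU hcomm).comp (mapJ D) :=
    ⟨_, rfl⟩
  have h1 : (MonoidHom.eqLocus (phiU (ι := ι) hcomm σ).toMonoidHom
      (MonoidHom.id (PGq φ ι))).map (MulAut.conj : PGq φ ι →* _) ≤ Ψ.range := by
    rintro _ ⟨k, hk, rfl⟩
    obtain ⟨s, rfl⟩ := mkq_surjective k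
    have hk' : phiU hcomm σ (mkq φ s) = mkq φ s := hk
    obtain ⟨g₀, hg₀⟩ := exists_mapJ_of_fixed H p hcomm D r hS s hk'
    exact ⟨g₀, by rw [hΨ]; exact hg₀⟩
  have h2 := Subgroup.card_dvd_of_le h1
  rw [Subgroup.card_map_of_injective (conj_injective H p hcomm)] at h2
  exact h2.trans (Subgroup.card_range_dvd Ψ)

include H p D in
/-- **existence of a non-scalar element of `ℓ`-power order** in the group generated by the root
groups over the fixed field -/
theorem exists_ell_eltU (r : ℕ) (hS : SigHyp φ σ r ι) {ℓ : ℕ} (hℓ : ℓ.Prime)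
    (hgood : (∀ M : Matrix ι ι F₀, IsU φ₀ M → M.det = 1 → M ∈ TM φ₀) ∨
      ((2 : F₀) = 0 ∧ ℓ = 3))
    (hdiv : ℓ ∣ Nat.card ↥(MonoidHom.eqLocus (phiU (ι := ι) hcomm σ).toMonoidHom
      (MonoidHom.id (PGq φ ι)))) :
    ∃ (t₁ : SUg ι φ₀) (a : ℕ), t₁ ∈ rootClosure φ₀ ι ∧ t₁ ^ (ℓ ^ a) = 1 ∧
      ¬ ∃ c : F₀, smat φ₀ t₁ = c • (1 : Matrix ι ι F₀) := by
  have hne : Nonempty ι := nonempty_of_hyp H
  rcases hgood with hgen | ⟨h2, rfl⟩
  swap
  · obtain ⟨t₁, h1, h3, h4⟩ := exists_elt_three D.hφ₀ D.hφφ₀ D.hN1₀ H.hcard h2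
    exact ⟨t₁, 1, h1, by rw [pow_one]; exact h3, h4⟩
  have htop : rootClosure φ₀ ι = ⊤ := (suIwasawa φ₀ D.hφφ₀ hgen).is_generator
  have hfact : Fact ℓ.Prime := ⟨hℓ⟩
  have hfinF₀ : Fintype F₀ := Fintype.ofFinite F₀
  by_cases hA : ℓ ∣ Nat.card (nOne φ₀)
  · -- an element of order `ℓ` in the norm-one group
    obtain ⟨ζ, hζ⟩ := exists_prime_orderOf_dvd_card' ℓ hA
    have hζ1 : ζ ≠ 1 := by
      intro h
      rw [h, orderOf_one] at hζ
      exact hℓ.one_lt.ne hζ
    have hζℓ : (((ζ : nOne φ₀) : F₀ˣ) : F₀) ^ ℓ = 1 := by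
      rw [← Units.val_pow_eq_pow_val, ← Subgroup.coe_pow, ← hζ, pow_orderOf_eq_one,
        Subgroup.coe_one, Units.val_one]
    obtain ⟨t₁, h1, h3⟩ := exists_diag_elt (φ₀ := φ₀) (ι := ι) H.hcard ζ.2
      (by
        intro h
        apply hζ1
        apply Subtype.ext
        apply Units.ext
        exact h) hζℓ
    exact ⟨t₁, 1, by rw [htop]; trivial, by rw [pow_one]; exact h1, h3⟩
  · -- the generic case
    have hfinP : Finite (PGq φ ι) := inferInstance
    obtain ⟨x, hx⟩ := exists_prime_orderOf_dvd_card' ℓ hdiv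
    obtain ⟨k, hkfix⟩ := x
    have hk : phiU hcomm σ k = k := hkfix
    have hordk : orderOf k = ℓ := by
      rw [← hx]
      exact (Subgroup.orderOf_mk k hkfix).symm
    obtain ⟨s, rfl⟩ := mkq_surjective k
    obtain ⟨g₀, hg₀⟩ := exists_mapJ_of_fixed H p hcomm D r hS s hk
    obtain ⟨c, hc⟩ : ∃ c : MulAut (PGq φ ι), c = psiU hcomm (mapJ D g₀) := ⟨_, rfl⟩
    have hordc : orderOf c = ℓ := by
      rw [hc, hg₀, orderOf_injective _ (conj_injective H p hcomm) (mkq φ s), hordk]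
    obtain ⟨N, hN⟩ : ∃ N : ℕ, N = Nat.card (nOne φ₀) := ⟨_, rfl⟩
    rw [← hN] at hA
    have hdetN : detU (g₀ ^ N) = 1 := by
      rw [map_pow, hN]
      exact pow_card_eq_one'
    have hdetN' : (((g₀ ^ N : UG ι φ₀) : GL ι F₀) : Matrix ι ι F₀).det = 1 := by
      rw [← detU_val, hdetN]
      rfl
    obtain ⟨t₁, ht₁⟩ : ∃ t₁ : SUg ι φ₀,
        smat φ₀ t₁ = (((g₀ ^ N : UG ι φ₀) : GL ι F₀) : Matrix ι ι F₀) :=
      ⟨mkS φ₀ _ (UG_isU (g₀ ^ N)) hdetN', rfl⟩
    have hθ : thetaV (mapS D t₁) = c ^ N := by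
      rw [thetaV_apply, conj_mkq_eq_psiU hcomm, hc, ← map_pow, ← map_pow]
      congr 1
      apply Subtype.ext
      apply Units.ext
      rw [toUG_val, smat_mapS, ht₁, mapJ_val]
    refine ⟨t₁, 1, by rw [htop]; trivial, ?_, ?_⟩
    · -- the `ℓ`-th power is trivial
      have h1 : c ^ ℓ = 1 := by rw [← hordc, pow_orderOf_eq_one]
      rw [hc, ← map_pow, ← map_pow, psiU_eq_one_iff H p hcomm, mapJ_scalar_iff D] at h1
      obtain ⟨u, hu⟩ := h1
      have hun : u * φ₀ u = 1 := by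
        have h3 : IsU φ₀ (u • (1 : Matrix ι ι F₀)) := hu ▸ UG_isU (g₀ ^ ℓ)
        exact norm_of_isU_smul (isU_one φ₀) h3
      have huN : u ^ N = 1 := by
        have h4 : (mkNOne φ₀ hun) ^ N = 1 := by
          rw [hN]
          exact pow_card_eq_one'
        have h5 := congrArg (fun z : nOne φ₀ => ((z : F₀ˣ) : F₀)) h4
        simp only [Subgroup.coe_pow, Units.val_pow_eq_pow_val, mkNOne_val, Subgroup.coe_one,
          Units.val_one] at h5
        exact h5
      rw [pow_one]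
      apply sug_ext
      rw [smat_pow, ht₁, smat_one, Subgroup.coe_pow, Units.val_pow_eq_pow_val, ← pow_mul, mul_comm,
        pow_mul, ← Units.val_pow_eq_pow_val, ← Subgroup.coe_pow, hu, smul_pow, one_pow, huN,
        one_smul]
    · rintro ⟨c', hc'⟩
      have h1 : thetaV (mapS D t₁) = 1 := by
        rw [thetaV_eq_one_iff H p hcomm]
        refine ⟨j c', ?_⟩
        rw [smat_mapS, hc']
        ext a b
        rw [Matrix.map_apply, Matrix.smul_apply, Matrix.smul_apply, Matrix.one_apply,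
          Matrix.one_apply]
        split_ifs <;> simp
      rw [hθ] at h1
      have h2 := orderOf_dvd_of_pow_eq_one h1
      rw [hordc] at h2
      exact hA h2

end ell

end Cfsg.Agent.Helper2.PUA
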