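import Mathlib
import Cfsg.Agent.Lib.Helper2.Pua7

set_option autoImplicit false
set_option linter.unusedSimpArgs false
set_option linter.unusedVariables false
set_option linter.unusedSectionVars false

/-! Local balance for the unitary groups, field automorphisms of odd order, part 8: the core of
the centralizer of a standard field automorphism. -/

namespace Cfsg.Agent.Helper2.PUA

open Matrix Cfsg.Agent.Helper11 Cfsg.Agent.Helper11.Herm Cfsg.Agent.Helper2.PU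
open Cfsg.Agent.Helper2.SpA (fix_conj_mem_centralizer fix_of_conj_mem_centralizer aut_conj_conj)

section iwasawa

variable {F F₀ : Type*} [Field F] [Finite F] [Field F₀] [Finite F₀] {φ : F →+* F}
  {σ : RingAut F} {φ₀ : F₀ →+* F₀} {j : F₀ →+* F} {ι : Type*} [Fintype ι] [DecidableEq ι]
  (H : HypU φ ι) (p : ℕ) [Fact p.Prime] [CharP F p]
  (hcomm : ∀ (σ : F ≃+* F) (x : F), σ (φ x) = φ (σ x)) (D : Desc φ σ φ₀ j)

include H p D in
/-- **the Iwasawa argument**: a subgroup of order prime to `ℓ` normalised by the inner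
automorphisms of the fixed matrices contains none of them but the identity -/
theorem thetaV_eq_one_of_memU (r : ℕ) (hS : SigHyp φ σ r ι) {ℓ : ℕ} (hℓ : ℓ.Prime)
    (hℓp : ℓ ≠ p)
    (hgood : (∀ M : Matrix ι ι F₀, IsU φ₀ M → M.det = 1 → M ∈ TM φ₀) ∨
      ((2 : F₀) = 0 ∧ ℓ = 3))
    (N₁ : Subgroup (MulAut (PGq φ ι)))
    (hnorm : ∀ t ∈ SUfix (ι := ι) hcomm σ, ∀ a ∈ N₁, thetaV t * a * (thetaV t)⁻¹ ∈ N₁)
    (hcop : (Nat.card N₁).Coprime ℓ)
    (hdiv : ℓ ∣ Nat.card ↥(MonoidHom.eqLocus (phiU (ι := ι) hcomm σ).toMonoidHom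
      (MonoidHom.id (PGq φ ι))))
    {t : SUg ι φ} (ht : t ∈ SUfix hcomm σ) (htN : thetaV t ∈ N₁) : thetaV t = 1 := by
  have hne : Nonempty ι := nonempty_of_hyp H
  have hcharF₀ : CharP F₀ p := RingHom.charP j j.injective p
  obtain ⟨θ₀, hθ₀⟩ : ∃ θ₀ : SUg ι φ₀ →* MulAut (PGq φ ι),
      θ₀ = (thetaV (ι := ι) (φ := φ)).comp (mapS D) := ⟨_, rfl⟩
  have hθ₀a : ∀ s₀, θ₀ s₀ = thetaV (mapS D s₀) := by
    intro s₀
    rw [hθ₀]
    rfl
  obtain ⟨M₀, hM₀⟩ : ∃ M₀ : Subgroup (SUg ι φ₀), M₀ = N₁.comap θ₀ := ⟨_, rfl⟩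
  have hM₀n : M₀.Normal := by
    constructor
    intro s hs h
    rw [hM₀, Subgroup.mem_comap] at hs ⊢
    rw [map_mul, map_mul, map_inv, hθ₀a h]
    exact hnorm _ (mapS_mem_SUfix hcomm D h) _ hs
  obtain ⟨s₀, rfl⟩ : ∃ s₀, mapS D s₀ = t := by
    have : t ∈ (mapS (ι := ι) D).range := by rw [range_mapS hcomm D]; exact ht
    exact this
  by_cases hfix : MulAction.fixedPoints M₀ (isoPts (ι := ι) φ₀) = Set.univ
  · have hs₀M : s₀ ∈ M₀ := by
      rw [hM₀, Subgroup.mem_comap, hθ₀a]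
      exact htN
    obtain ⟨l, hl⟩ := scalar_of_fixes D.hφ₀ D.hφφ₀ D.hN1₀ D.hN2₀ H.hcard s₀ (by
      intro P
      have hP : P ∈ MulAction.fixedPoints M₀ (isoPts (ι := ι) φ₀) := by
        rw [hfix]; trivial
      exact hP ⟨s₀, hs₀M⟩)
    rw [thetaV_eq_one_iff H p hcomm]
    refine ⟨j l, ?_⟩
    rw [smat_mapS, hl]
    ext a b
    rw [Matrix.map_apply, Matrix.smul_apply, Matrix.smul_apply, Matrix.one_apply,
      Matrix.one_apply]
    split_ifs <;> simp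
  · exfalso
    obtain ⟨t₁, a, ht₁R, ht₁, hnc⟩ := exists_ell_eltU H p hcomm D r hS hℓ hgood hdiv
    have hcopk : (ℓ ^ a).Coprime p :=
      Nat.Coprime.pow_left a ((Nat.coprime_primes hℓ (Fact.out : p.Prime)).2 hℓp)
    have ht₁M : t₁ ∈ M₀ :=
      mem_of_normal_of_coprimeU D.hφ₀ D.hφφ₀ D.hN1₀ H.hcard p M₀ hfix t₁ ht₁R (ℓ ^ a) hcopk ht₁
    rw [hM₀, Subgroup.mem_comap] at ht₁M
    have hfinA : Finite (MulAut (PGq φ ι)) := by
      have : Fintype (PGq φ ι) := Fintype.ofFinite _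
      classical
      infer_instance
    have h1 : orderOf (θ₀ t₁) ∣ ℓ ^ a := by
      apply orderOf_dvd_of_pow_eq_one
      rw [← map_pow, ht₁, map_one]
    have h2 : orderOf (θ₀ t₁) ∣ Nat.card N₁ := by
      rw [← Subgroup.orderOf_mk (θ₀ t₁) ht₁M]
      exact orderOf_dvd_natCard _
    have h3 : orderOf (θ₀ t₁) = 1 :=
      Nat.eq_one_of_dvd_coprimes (Nat.Coprime.pow_right a hcop) h2 h1
    have h4 : θ₀ t₁ = 1 := orderOf_eq_one_iff.1 h3
    rw [hθ₀a, thetaV_eq_one_iff H p hcomm] at h4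
    obtain ⟨c, hc⟩ := h4
    rw [smat_mapS] at hc
    exact hnc (scalar_of_map_scalar _ c hc)

end iwasawa

section core

variable {F F₀ : Type*} [Field F] [Finite F] [Field F₀] [Finite F₀] {φ : F →+* F}
  {σ : RingAut F} {φ₀ : F₀ →+* F₀} {j : F₀ →+* F} {ι : Type*} [Fintype ι] [DecidableEq ι]
  (H : HypU φ ι) (p : ℕ) [Fact p.Prime] [CharP F p]
  (hcomm : ∀ (σ : F ≃+* F) (x : F), σ (φ x) = φ (σ x)) (D : Desc φ σ φ₀ j)

include H p hcomm in
theorem fix_of_comm_eq_oneU {a : MulAut (PGq φ ι)} {t : SUg ι φ}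
    (h : a * thetaV t * a⁻¹ * (thetaV t)⁻¹ = 1) : a (mkq φ t) = mkq φ t := by
  rw [thetaV_apply, aut_conj_conj, mul_inv_eq_one] at h
  exact conj_injective H p hcomm h

include H p D in
/-- **the core theorem for a standard field automorphism** -/
theorem core_phiU {ℓ : ℕ} (hℓ : ℓ.Prime) (hℓp : ℓ ≠ p) (hS : SigHyp φ σ ℓ ι)
    (hgood : (∀ M : Matrix ι ι F₀, IsU φ₀ M → M.det = 1 → M ∈ TM φ₀) ∨
      ((2 : F₀) = 0 ∧ ℓ = 3))
    (N : Subgroup (MulAut (PGq φ ι)))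
    (hNC : N ≤ Subgroup.centralizer {phiU (ι := ι) hcomm σ})
    (hnorm : ∀ t ∈ SUfix (ι := ι) hcomm σ, ∀ a ∈ N, thetaV t * a * (thetaV t)⁻¹ ∈ N)
    (hcop : (Nat.card N).Coprime ℓ)
    (hdiv : ℓ ∣ Nat.card ↥(MonoidHom.eqLocus (phiU (ι := ι) hcomm σ).toMonoidHom
      (MonoidHom.id (PGq φ ι)))) : N = ⊥ := by
  have hord : orderOf σ = ℓ := hS.hord
  have hfinA : Finite (MulAut (PGq φ ι)) := by
    have : Fintype (PGq φ ι) := Fintype.ofFinite _
    classical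
    infer_instance
  -- elements of `N` in the cyclic group generated by the field automorphism are trivial
  have hcyc : ∀ a ∈ N, a ∈ Subgroup.zpowers (phiU (ι := ι) hcomm σ) → a = 1 := by
    intro a haN haz
    obtain ⟨k, rfl⟩ := Subgroup.mem_zpowers_iff.1 haz
    have h1 : (phiU (ι := ι) hcomm σ ^ k) ^ ℓ = 1 := by
      rw [← zpow_natCast, ← _root_.zpow_mul, mul_comm, _root_.zpow_mul, zpow_natCast, ← hord,
        ← orderOf_phiU (ι := ι) H p hcomm σ, pow_orderOf_eq_one, _root_.one_zpow]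
    have h2 : orderOf (phiU (ι := ι) hcomm σ ^ k) ∣ ℓ := orderOf_dvd_of_pow_eq_one h1
    have h3 : orderOf (phiU (ι := ι) hcomm σ ^ k) ∣ Nat.card N := by
      rw [← Subgroup.orderOf_mk _ haN]
      exact orderOf_dvd_natCard _
    exact orderOf_eq_one_iff.1 (Nat.eq_one_of_dvd_coprimes hcop h3 h2)
  have hfixone : ∀ a ∈ N, (∀ t ∈ SUfix (ι := ι) hcomm σ, a (mkq φ t) = mkq φ t) → a = 1 := by
    intro a haN hfix
    exact hcyc a haN (mem_zpowers_of_fixesU H p hcomm D a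
      (fun s₀ => hfix _ (mapS_mem_SUfix hcomm D s₀)))
  -- the inner part
  obtain ⟨N₁, hN₁⟩ : ∃ N₁ : Subgroup (MulAut (PGq φ ι)), N₁ = N ⊓ Cfsg.Inn (PGq φ ι) :=
    ⟨_, rfl⟩
  have hnorm₁ : ∀ t ∈ SUfix (ι := ι) hcomm σ, ∀ a ∈ N₁, thetaV t * a * (thetaV t)⁻¹ ∈ N₁ := by
    intro t ht a ha
    rw [hN₁] at ha ⊢
    exact ⟨hnorm t ht a ha.1, (Cfsg.innNormal (PGq φ ι)).conj_mem a ha.2 (thetaV t)⟩
  have hcop₁ : (Nat.card N₁).Coprime ℓ := by
    have h1 : Nat.card N₁ ∣ Nat.card N := by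
      rw [hN₁]
      exact Subgroup.card_dvd_of_le inf_le_left
    exact Nat.Coprime.coprime_dvd_left h1 hcop
  have hI := fun (t : SUg ι φ) (ht : t ∈ SUfix (ι := ι) hcomm σ) (htN : thetaV t ∈ N₁) =>
    thetaV_eq_one_of_memU H p hcomm D ℓ hS hℓ hℓp hgood N₁ hnorm₁ hcop₁ hdiv ht htN
  have hN₁bot : ∀ a₁ ∈ N₁, a₁ = 1 := by
    intro a₁ ha₁
    have ha₁' := ha₁
    rw [hN₁] at ha₁'
    obtain ⟨ha₁N, k, hk⟩ := ha₁'
    have hkfix : phiU (ι := ι) hcomm σ k = k := by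
      apply fix_of_conj_mem_centralizer (conj_injective H p hcomm)
      rw [hk]
      exact hNC ha₁N
    apply hfixone a₁ ha₁N
    intro t ht
    apply fix_of_comm_eq_oneU H p hcomm
    obtain ⟨t', ht', htt'⟩ := conj_mkq_of_fixed hcomm hkfix ht
    have h1 : a₁ * thetaV t * a₁⁻¹ = thetaV t' := by
      rw [← hk, thetaV_apply, thetaV_apply, ← map_inv, ← map_mul, ← map_mul, htt']
    have h2 : a₁ * thetaV t * a₁⁻¹ * (thetaV t)⁻¹ = thetaV (t' * t⁻¹) := by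
      rw [h1, map_mul, map_inv]
    rw [h2]
    apply hI _ ((SUfix hcomm σ).mul_mem ht' ((SUfix hcomm σ).inv_mem ht))
    rw [← h2]
    have h3 : a₁ * thetaV t * a₁⁻¹ * (thetaV t)⁻¹ = a₁ * (thetaV t * a₁⁻¹ * (thetaV t)⁻¹) := by
      group
    rw [h3]
    exact N₁.mul_mem ha₁ (hnorm₁ t ht _ (N₁.inv_mem ha₁))
  -- the general case
  rw [eq_bot_iff]
  intro a haN
  rw [Subgroup.mem_bot]
  apply hfixone a haN
  intro t ht
  apply fix_of_comm_eq_oneU H p hcomm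
  apply hN₁bot
  rw [hN₁]
  constructor
  · have h3 : a * thetaV t * a⁻¹ * (thetaV t)⁻¹ = a * (thetaV t * a⁻¹ * (thetaV t)⁻¹) := by
      group
    rw [h3]
    exact N.mul_mem haN (hnorm t ht _ (N.inv_mem haN))
  · exact (Cfsg.Inn (PGq φ ι)).mul_mem
      ((Cfsg.innNormal (PGq φ ι)).conj_mem _ (thetaV_mem_inn t) a)
      ((Cfsg.Inn (PGq φ ι)).inv_mem (thetaV_mem_inn t))

end core

end Cfsg.Agent.Helper2.PUA
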