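import Mathlib
import Cfsg.Agent.Lib.Helper2.Pua8

set_option autoImplicit false
set_option linter.unusedSimpArgs false
set_option linter.unusedVariables false
set_option linter.unusedSectionVars false

/-! Local balance for the unitary groups, field automorphisms of odd order, part 9: the
criterion for the conjugates of a standard field automorphism of prime order. -/

namespace Cfsg.Agent.Helper2.PUA

open Matrix Cfsg.Agent.Helper11 Cfsg.Agent.Helper11.Herm Cfsg.Agent.Helper2.PU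
open Cfsg.Agent.Helper2.SpA (fix_conj_mem_centralizer fix_of_conj_mem_centralizer aut_conj_conj
  card_eqLocus_conj)

section criterion

variable {F F₀ : Type*} [Field F] [Finite F] [Field F₀] [Finite F₀] {φ : F →+* F}
  {σ : RingAut F} {φ₀ : F₀ →+* F₀} {j : F₀ →+* F} {ι : Type*} [Fintype ι] [DecidableEq ι]
  (H : HypU φ ι) (p : ℕ) [Fact p.Prime] [CharP F p]
  (hcomm : ∀ (σ : F ≃+* F) (x : F), σ (φ x) = φ (σ x)) (D : Desc φ σ φ₀ j)

include H p D in
/-- a fixed matrix with a non-trivial image -/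
theorem exists_fixed_nontrivial : ∃ t ∈ SUfix (ι := ι) hcomm σ, mkq φ t ≠ 1 := by
  have hne : Nonempty ι := nonempty_of_hyp H
  obtain ⟨e₀, he₀0, he₀⟩ := exists_isotropic φ₀ D.hN1₀ H.hcard
  obtain ⟨f₀, hf₀, hef₀⟩ := Herm.exists_partner φ₀ D.hφ₀ D.hφφ₀ e₀ he₀ he₀0
  have hfe₀ : hdot φ₀ f₀ e₀ = 1 := by rw [← hdot_conj φ₀ D.hφφ₀ e₀ f₀, hef₀, map_one]
  obtain ⟨c₀, hc₀0, hc₀⟩ := Witt.exists_trace_zero φ₀ D.hφ₀ D.hφφ₀
  refine ⟨mapS D (tvG φ₀ e₀ c₀), mapS_mem_SUfix hcomm D _, ?_⟩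
  intro h1
  have h2 : thetaV (mapS D (tvG φ₀ e₀ c₀)) = 1 := by rw [thetaV_apply, h1, map_one]
  rw [thetaV_eq_one_iff H p hcomm, smat_mapS] at h2
  obtain ⟨c, hc⟩ := h2
  obtain ⟨l, hl⟩ := scalar_of_map_scalar _ c hc
  have h3 := tvG_smul φ₀ D.hφφ₀ he₀ hc₀ f₀
  rw [sug_smul_def, hl, Matrix.smul_mulVec, Matrix.one_mulVec, hfe₀, mul_one] at h3
  have h4 := congrArg (fun y => hdot φ₀ y f₀) h3
  simp only [hdot_smul_left, hdot_add_left, hf₀, hef₀, mul_zero, zero_add, mul_one] at h4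
  exact hc₀0 h4.symm

include H p D in
/-- **the criterion**, for a conjugate of a standard field automorphism of prime order -/
theorem core_criterionU {ℓ : ℕ} (hℓ : ℓ.Prime) (hℓp : ℓ ≠ p) (hS : SigHyp φ σ ℓ ι)
    (hgood' : ℓ ∣ Nat.card (UG ι φ₀) →
      ((∀ M : Matrix ι ι F₀, IsU φ₀ M → M.det = 1 → M ∈ TM φ₀) ∨ ((2 : F₀) = 0 ∧ ℓ = 3)))
    (A : Subgroup (MulAut (PGq φ ι))) (hinn : ∀ k : PGq φ ι, MulAut.conj k ∈ A)
    (a : MulAut (PGq φ ι)) :
    (∃ N : Subgroup (MulAut (PGq φ ι)),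
      N ≤ A ⊓ Subgroup.centralizer {a * phiU hcomm σ * a⁻¹} ∧ N ≠ ⊥ ∧
      (Nat.card N).Coprime ℓ ∧
      ∀ h ∈ A ⊓ Subgroup.centralizer {a * phiU hcomm σ * a⁻¹}, ∀ n ∈ N, h * n * h⁻¹ ∈ N) ↔
    Nat.Coprime ℓ (Nat.card ↥(MonoidHom.eqLocus (a * phiU hcomm σ * a⁻¹).toMonoidHom
      (MonoidHom.id (PGq φ ι)))) := by
  obtain ⟨x, hx⟩ : ∃ x : MulAut (PGq φ ι), x = a * phiU hcomm σ * a⁻¹ := ⟨_, rfl⟩
  rw [← hx]
  constructor
  · rintro ⟨N, hNC, hne, hcop, hnorm⟩
    rw [hℓ.coprime_iff_not_dvd]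
    intro hdvd
    rw [hx, card_eqLocus_conj] at hdvd
    have hgood := hgood' (hdvd.trans (card_fix_dvd H p hcomm D ℓ hS))
    apply hne
    -- transport to the standard field automorphism
    obtain ⟨N', hN'⟩ : ∃ N' : Subgroup (MulAut (PGq φ ι)),
        N' = N.map (MulAut.conj a⁻¹).toMonoidHom := ⟨_, rfl⟩
    have hmem' : ∀ n', n' ∈ N' ↔ a * n' * a⁻¹ ∈ N := by
      intro n'
      rw [hN']
      constructor
      · rintro ⟨n, hn, rfl⟩
        simp only [MulEquiv.coe_toMonoidHom, MulAut.conj_apply, inv_inv]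
        have : a * (a⁻¹ * n * a) * a⁻¹ = n := by group
        rw [this]
        exact hn
      · intro h
        refine ⟨a * n' * a⁻¹, h, ?_⟩
        simp only [MulEquiv.coe_toMonoidHom, MulAut.conj_apply, inv_inv]
        group
    have hN'bot : N' = ⊥ := by
      apply core_phiU H p hcomm D hℓ hℓp hS hgood N'
      · intro n' hn'
        have h1 : a * n' * a⁻¹ ∈ Subgroup.centralizer {x} := (hNC ((hmem' n').1 hn')).2
        rw [Subgroup.mem_centralizer_singleton_iff, hx] at h1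
        rw [Subgroup.mem_centralizer_singleton_iff]
        calc n' * phiU hcomm σ = a⁻¹ * (a * n' * a⁻¹ * (a * phiU hcomm σ * a⁻¹)) * a := by group
          _ = a⁻¹ * (a * phiU hcomm σ * a⁻¹ * (a * n' * a⁻¹)) * a := by rw [h1]
          _ = phiU hcomm σ * n' := by group
      · intro t ht n' hn'
        rw [hmem']
        have hc : a * thetaV t * a⁻¹ ∈ A ⊓ Subgroup.centralizer {x} := by
          refine Subgroup.mem_inf.2 ⟨?_, ?_⟩
          · rw [thetaV_apply, aut_conj_conj]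
            exact hinn _
          · have h1 := thetaV_mem_centralizer hcomm (σ := σ) ht
            rw [Subgroup.mem_centralizer_singleton_iff] at h1
            rw [Subgroup.mem_centralizer_singleton_iff, hx]
            calc a * thetaV t * a⁻¹ * (a * phiU hcomm σ * a⁻¹)
                = a * (thetaV t * phiU hcomm σ) * a⁻¹ := by group
              _ = a * (phiU hcomm σ * thetaV t) * a⁻¹ := by rw [h1]
              _ = a * phiU hcomm σ * a⁻¹ * (a * thetaV t * a⁻¹) := by group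
        have h2 := hnorm _ hc _ ((hmem' n').1 hn')
        have h3 : a * (thetaV t * n' * (thetaV t)⁻¹) * a⁻¹ =
            a * thetaV t * a⁻¹ * (a * n' * a⁻¹) * (a * thetaV t * a⁻¹)⁻¹ := by group
        rw [h3]
        exact h2
      · rw [hN', Subgroup.card_map_of_injective (MulAut.conj a⁻¹).injective]
        exact hcop
      · exact hdvd
    rw [hN', Subgroup.map_eq_bot_iff_of_injective _ (MulAut.conj a⁻¹).injective] at hN'bot
    exact hN'bot
  · intro hcop
    obtain ⟨Fx, hFx⟩ : ∃ Fx : Subgroup (PGq φ ι),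
        Fx = MonoidHom.eqLocus x.toMonoidHom (MonoidHom.id (PGq φ ι)) := ⟨_, rfl⟩
    have hFxmem : ∀ k, k ∈ Fx ↔ x k = k := by
      intro k
      rw [hFx]
      rfl
    rw [← hFx] at hcop
    refine ⟨Fx.map (MulAut.conj : PGq φ ι →* MulAut _), ?_, ?_, ?_, ?_⟩
    · rintro _ ⟨k, hk, rfl⟩
      exact Subgroup.mem_inf.2 ⟨hinn k, fix_conj_mem_centralizer x ((hFxmem k).1 hk)⟩
    · intro hbot
      rw [Subgroup.map_eq_bot_iff_of_injective _ (conj_injective H p hcomm)] at hbot
      obtain ⟨t, ht, htne⟩ := exists_fixed_nontrivial H p hcomm D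
      have h1 : a (mkq φ t) ∈ Fx := by
        rw [hFxmem, hx]
        simp only [MulAut.mul_apply, MulAut.inv_apply_self]
        rw [phiU_mkq_of_mem hcomm ht]
      rw [hbot, Subgroup.mem_bot] at h1
      apply htne
      apply a.injective
      rw [h1, map_one]
    · rw [Subgroup.card_map_of_injective (conj_injective H p hcomm)]
      exact hcop.symm
    · rintro c hc' _ ⟨k, hk, rfl⟩
      have hc : c ∈ Subgroup.centralizer {x} := (Subgroup.mem_inf.1 hc').2
      rw [Subgroup.mem_centralizer_singleton_iff] at hc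
      have hk' : k ∈ Fx := hk
      have hk2 : x k = k := (hFxmem k).1 hk'
      refine ⟨c k, (hFxmem _).2 ?_, (aut_conj_conj c k).symm⟩
      have h1 : (x * c) k = (c * x) k := by rw [hc]
      rw [MulAut.mul_apply, MulAut.mul_apply, hk2] at h1
      exact h1

end criterion

end Cfsg.Agent.Helper2.PUA
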