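import Mathlib
import Cfsg.Agent.Lib.Helper2.Psu30
import Cfsg.Agent.Lib.Helper2.Plb9

set_option autoImplicit false
set_option linter.unusedSimpArgs false
set_option linter.unusedVariables false
set_option linter.unusedSectionVars false

/-! Local balance for the unitary groups, part 1: the automorphisms induced by unitary
similitudes. -/

namespace Cfsg.Agent.Helper2.PUB

open Matrix Cfsg.Agent.Helper11 Cfsg.Agent.Helper11.Herm Cfsg.Agent.Helper2.PU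

section us

variable {F : Type*} [Field F] {ι : Type*} [Fintype ι] [DecidableEq ι] {φ : F →+* F}

/-- unitary similitudes -/
def IsUS (φ : F →+* F) (h : Matrix ι ι F) : Prop := ∃ c : F, c ≠ 0 ∧ hᵀ * h.map φ = c • 1

theorem isUS_of_isU {u : Matrix ι ι F} (hu : IsU φ u) : IsUS φ u :=
  ⟨1, one_ne_zero, by rw [one_smul]; exact hu⟩

theorem IsUS.mul {h₁ h₂ : Matrix ι ι F} (hh₁ : IsUS φ h₁) (hh₂ : IsUS φ h₂) :
    IsUS φ (h₁ * h₂) := by
  obtain ⟨c₁, hc₁, e₁⟩ := hh₁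
  obtain ⟨c₂, hc₂, e₂⟩ := hh₂
  refine ⟨c₁ * c₂, mul_ne_zero hc₁ hc₂, ?_⟩
  rw [Matrix.transpose_mul, Matrix.map_mul, Matrix.mul_assoc, ← Matrix.mul_assoc h₁ᵀ, e₁,
    Matrix.smul_mul, Matrix.one_mul, Matrix.mul_smul, e₂, smul_smul]

theorem IsUS.smul {h : Matrix ι ι F} (hh : IsUS φ h) {d : F} (hd : d ≠ 0) : IsUS φ (d • h) := by
  obtain ⟨c, hc, e⟩ := hh
  refine ⟨d * φ d * c, mul_ne_zero (mul_ne_zero hd ((map_ne_zero φ).2 hd)) hc, ?_⟩
  rw [Matrix.transpose_smul, map_smul_ringHom, Matrix.smul_mul, Matrix.mul_smul, smul_smul, e,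
    smul_smul]

/-- the multiplier of a unitary similitude is fixed by the involution -/
theorem IsUS.fixed [Nonempty ι] (hφφ : ∀ x, φ (φ x) = x) {h : Matrix ι ι F} {c : F}
    (e : hᵀ * h.map φ = c • 1) : φ c = c := by
  have h1 : ((hᵀ * h.map φ).map φ)ᵀ = hᵀ * h.map φ := by
    rw [Matrix.map_mul, Matrix.transpose_mul]
    congr 1
    ext a b
    simp only [Matrix.transpose_apply, Matrix.map_apply, hφφ]
  rw [e, map_smul_ringHom, Matrix.transpose_smul] at h1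
  obtain ⟨i⟩ := ‹Nonempty ι›
  have h2 := congrFun (congrFun h1 i) i
  simp only [Matrix.smul_apply, Matrix.transpose_apply, Matrix.map_apply, Matrix.one_apply_eq,
    map_one, smul_eq_mul, mul_one] at h2
  exact h2

theorem IsUS.exists_smul [Nonempty ι] (hφφ : ∀ x, φ (φ x) = x)
    (hN1 : ∀ c : F, c ≠ 0 → φ c = c → ∃ l : F, l ≠ 0 ∧ l * φ l = c) {h : Matrix ι ι F}
    (hh : IsUS φ h) : ∃ d : F, d ≠ 0 ∧ IsU φ (d • h) := by
  obtain ⟨c, hc, e⟩ := hh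
  have hφc : φ c = c := IsUS.fixed hφφ e
  obtain ⟨l, hl0, hl⟩ := hN1 c⁻¹ (inv_ne_zero hc) (by rw [map_inv₀, hφc])
  refine ⟨l, hl0, ?_⟩
  unfold IsU
  rw [Matrix.transpose_smul, map_smul_ringHom, Matrix.smul_mul, Matrix.mul_smul, smul_smul, e,
    smul_smul, hl, inv_mul_cancel₀ hc, one_smul]

end us

section simaut

variable {F : Type*} [Field F] [Finite F] {ι : Type*} [Fintype ι] [DecidableEq ι] {φ : F →+* F}
  (H : HypU φ ι) (hcomm : ∀ (σ : F ≃+* F) (x : F), σ (φ x) = φ (σ x))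

include H in
theorem IsUS.exists_smul' {h : Matrix ι ι F} (hh : IsUS φ h) : ∃ d : F, d ≠ 0 ∧ IsU φ (d • h) :=
  haveI := nonempty_of_hyp H
  IsUS.exists_smul H.hφφ H.hN1 hh

/-- the automorphism induced by a unitary similitude -/
noncomputable def simAut {h : Matrix ι ι F} (hh : IsUS φ h) : MulAut (PGq φ ι) :=
  stdAutQ (Classical.choose (IsUS.exists_smul' H hh) • h)
    (Classical.choose_spec (IsUS.exists_smul' H hh)).2 (1 : F ≃+* F) (hcomm 1)

theorem simAut_eq {h : Matrix ι ι F} (hh : IsUS φ h) {u : Matrix ι ι F} (hu : IsU φ u) {d : F}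
    (hud : u = d • h) : simAut H hcomm hh = stdAutQ u hu (1 : F ≃+* F) (hcomm 1) := by
  unfold simAut
  obtain ⟨d', hd'⟩ : ∃ d', d' = Classical.choose (IsUS.exists_smul' H hh) := ⟨_, rfl⟩
  have hd'0 : d' ≠ 0 := hd' ▸ (Classical.choose_spec (IsUS.exists_smul' H hh)).1
  have hU' : IsU φ (d' • h) := hd' ▸ (Classical.choose_spec (IsUS.exists_smul' H hh)).2
  have e1 : u = (d * d'⁻¹) • (d' • h) := by
    rw [smul_smul, mul_assoc, inv_mul_cancel₀ hd'0, mul_one, hud]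
  have hu' : IsU φ ((d * d'⁻¹) • (d' • h)) := e1 ▸ hu
  have e2 := stdAutQ_smul hcomm hU' (d * d'⁻¹) hu' (1 : F ≃+* F)
  calc stdAutQ (Classical.choose (IsUS.exists_smul' H hh) • h)
        (Classical.choose_spec (IsUS.exists_smul' H hh)).2 (1 : F ≃+* F) (hcomm 1)
      = stdAutQ (d' • h) hU' (1 : F ≃+* F) (hcomm 1) :=
        stdAutQ_congr hcomm _ _ (by rw [hd']) rfl
    _ = stdAutQ ((d * d'⁻¹) • (d' • h)) hu' (1 : F ≃+* F) (hcomm 1) := e2.symm
    _ = stdAutQ u hu (1 : F ≃+* F) (hcomm 1) := stdAutQ_congr hcomm _ _ e1.symm rfl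

theorem simAut_mul {h₁ h₂ : Matrix ι ι F} (hh₁ : IsUS φ h₁) (hh₂ : IsUS φ h₂)
    (hh₁₂ : IsUS φ (h₁ * h₂)) :
    simAut H hcomm hh₁₂ = simAut H hcomm hh₁ * simAut H hcomm hh₂ := by
  obtain ⟨d₁, hd₁, hu₁⟩ := IsUS.exists_smul' H hh₁
  obtain ⟨d₂, hd₂, hu₂⟩ := IsUS.exists_smul' H hh₂
  rw [simAut_eq H hcomm hh₁ hu₁ rfl, simAut_eq H hcomm hh₂ hu₂ rfl, stdAutQ_mul hcomm]
  have e : (d₁ • h₁) * (d₂ • h₂).map (1 : F ≃+* F) = (d₁ * d₂) • (h₁ * h₂) := by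
    rw [map_one_ringAut, Matrix.smul_mul, Matrix.mul_smul, smul_smul]
  rw [simAut_eq H hcomm hh₁₂ (hu₁.mul φ (isU_map 1 (hcomm 1) hu₂)) e]
  exact stdAutQ_congr hcomm _ _ rfl (mul_one _).symm

theorem simAut_of_isU {u : Matrix ι ι F} (hu : IsU φ u) :
    simAut H hcomm (isUS_of_isU hu) = stdAutQ u hu (1 : F ≃+* F) (hcomm 1) :=
  simAut_eq H hcomm _ hu (one_smul _ _).symm

theorem simAut_smul_one {d : F} (hh : IsUS φ (d • (1 : Matrix ι ι F))) :
    simAut H hcomm hh = 1 := by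
  obtain ⟨d', hd', hu'⟩ := IsUS.exists_smul' H hh
  rw [simAut_eq H hcomm hh hu' rfl, ← stdAutQ_one hcomm]
  have hu'' : IsU φ ((d' * d) • (1 : Matrix ι ι F)) := by rw [← smul_smul]; exact hu'
  rw [← stdAutQ_smul hcomm (isU_one φ) (d' * d) hu'' (1 : F ≃+* F)]
  exact stdAutQ_congr hcomm _ _ (smul_smul _ _ _) rfl

end simaut

end Cfsg.Agent.Helper2.PUB
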