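import Mathlib
import Cfsg.Agent.Lib.Helper2.Pub1

set_option autoImplicit false
set_option linter.unusedSimpArgs false
set_option linter.unusedVariables false
set_option linter.unusedSectionVars false

/-! Local balance for the unitary groups, part 2: the involutions in the coset of the standard
involutory field automorphism, and the descent to a form over the fixed field. -/

namespace Cfsg.Agent.Helper2.PUB

open Matrix Cfsg.Agent.Helper11 Cfsg.Agent.Helper11.Herm Cfsg.Agent.Helper2.PU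
open Cfsg.Agent.Helper2.PN (mnorm mnorm_zero mnorm_succ exists_descent hmin_of_orderOf)

section invol

variable {F : Type*} [Field F] [Finite F] {ι : Type*} [Fintype ι] [DecidableEq ι] {φ : F →+* F}
  (H : HypU φ ι) (p : ℕ) [Fact p.Prime] [CharP F p]
  (hcomm : ∀ (σ : F ≃+* F) (x : F), σ (φ x) = φ (σ x))
  (ψ : F ≃+* F) (hψ : ∀ x, ψ x = φ x)

omit [Finite F] in
include hψ in
theorem map_psi (M : Matrix ι ι F) : M.map ψ = M.map φ := by
  ext a b
  simp only [Matrix.map_apply, hψ]

omit [Finite F] in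
include H hψ in
theorem map_psi_psi (M : Matrix ι ι F) : (M.map ψ).map ψ = M := by
  ext a b
  simp only [Matrix.map_apply, hψ, H.hφφ]

omit [Finite F] in
include H hψ in
theorem psi_mul_psi : ψ * ψ = 1 := by
  ext x
  show ψ (ψ x) = x
  rw [hψ, hψ, H.hφφ]

omit [Finite F] in
include H hψ in
theorem psi_ne_one : ψ ≠ 1 := by
  intro h
  apply H.hφ
  ext x
  rw [← hψ, h]
  rfl

include H p hψ in
/-- the data of an involution in the coset of the standard involutory field automorphism -/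
theorem sq_data {g : Matrix ι ι F} (hg : IsU φ g)
    (hsq : stdAutQ g hg ψ (hcomm ψ) * stdAutQ g hg ψ (hcomm ψ) = 1) :
    ∃ c : F, c * c = 1 ∧ g * g.map φ = c • 1 ∧ g = c • gᵀ := by
  have hne : Nonempty ι := nonempty_of_hyp H
  rw [stdAutQ_mul hcomm, ← stdAutQ_one hcomm] at hsq
  obtain ⟨-, c, hc⟩ := stdAutQ_eq H p hcomm _ (isU_one φ) hsq
  rw [map_psi ψ hψ] at hc
  have h1 : g.map φ * gᵀ = 1 := mul_eq_one_comm.1 hg
  have h2 : g = c • gᵀ := by
    calc g = g * (g.map φ * gᵀ) := by rw [h1, Matrix.mul_one]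
      _ = (g * g.map φ) * gᵀ := by rw [Matrix.mul_assoc]
      _ = c • gᵀ := by rw [hc, Matrix.smul_mul, Matrix.one_mul]
  refine ⟨c, ?_, ?_, h2⟩
  · have h3 : gᵀ = c • g := by
      conv_lhs => rw [h2]
      rw [Matrix.transpose_smul, Matrix.transpose_transpose]
    have h4 : g = (c * c) • g := by
      conv_lhs => rw [h2, h3]
      rw [smul_smul]
    obtain ⟨i, k, hik⟩ : ∃ i k, g i k ≠ 0 := by
      by_contra hcon
      push Not at hcon
      apply hg.det_ne_zero φ
      have : g = 0 := by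
        ext i k
        exact hcon i k
      rw [this]
      exact Matrix.det_zero
    have h5 := congrFun (congrFun h4 i) k
    rw [Matrix.smul_apply, smul_eq_mul] at h5
    have h6 : (c * c) * g i k = 1 * g i k := by rw [one_mul]; exact h5.symm
    exact mul_right_cancel₀ hik h6
  · exact hc

include H hψ in
/-- **Lang's theorem** for the involution: descent -/
theorem exists_lang {g : Matrix ι ι F} (hg : IsU φ g) {c : F} (hcc : c * c = 1)
    (hgc : g * g.map φ = c • 1) :
    ∃ (μ : F) (a ai : Matrix ι ι F), μ ≠ 0 ∧ μ * φ μ = c ∧ a * ai = 1 ∧ ai * a = 1 ∧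
      (μ • g) * a.map φ = a := by
  have hφc : φ c = c := by
    rcases mul_self_eq_one_iff.1 hcc with h | h
    · rw [h, map_one]
    · rw [h, map_neg, map_one]
  have hc0 : c ≠ 0 := by
    rintro rfl
    rw [mul_zero] at hcc
    exact zero_ne_one hcc
  obtain ⟨μ, hμ0, hμ⟩ := H.hN1 c hc0 hφc
  have hord : orderOf ψ = 2 := by
    apply orderOf_eq_prime
    · rw [pow_two, psi_mul_psi H ψ hψ]
    · exact psi_ne_one H ψ hψ
  have hnorm : mnorm ψ (μ • g) 2 = 1 := by
    rw [mnorm_succ, mnorm_succ, mnorm_zero, map_one_ringEquiv, Matrix.mul_one, map_psi ψ hψ,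
      map_smul_ringHom, Matrix.smul_mul, Matrix.mul_smul, smul_smul, hgc, smul_smul,
      hμ, hcc, one_smul]
  obtain ⟨a, ha, haeq⟩ := exists_descent (σ := ψ) (g := μ • g) 2 (by norm_num)
    (by rw [pow_two, psi_mul_psi H ψ hψ]) (hmin_of_orderOf ψ 2 hord) hnorm
  obtain ⟨au, rfl⟩ := ha
  refine ⟨μ, (au : Matrix ι ι F), ((au⁻¹ : (Matrix ι ι F)ˣ) : Matrix ι ι F), hμ0, hμ, ?_, ?_, ?_⟩
  · rw [← Units.val_mul, mul_inv_cancel, Units.val_one]
  · rw [← Units.val_mul, inv_mul_cancel, Units.val_one]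
  · rw [← map_psi ψ hψ]
    exact haeq

omit [Finite F] in
include H in
/-- the hermitian matrix attached to the descent is symmetric or alternating -/
theorem herm_data {g : Matrix ι ι F} (hg : IsU φ g) {c μ : F} (hμ : μ * φ μ = c)
    {a : Matrix ι ι F} (ha : (μ • g) * a.map φ = a) :
    aᵀ * a.map φ = c • (aᵀ * a.map φ)ᵀ ∧ (aᵀ * a.map φ).map φ = (aᵀ * a.map φ)ᵀ := by
  have hmm : ∀ M : Matrix ι ι F, (M.map φ).map φ = M := by
    intro M
    ext i k
    simp only [Matrix.map_apply, H.hφφ]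
  have h2 : (aᵀ * a.map φ).map φ = (aᵀ * a.map φ)ᵀ := by
    rw [Matrix.map_mul, hmm, Matrix.transpose_mul, Matrix.transpose_transpose, Matrix.transpose_map]
  refine ⟨?_, h2⟩
  have h3 : aᵀ = (a.map φ)ᵀ * (μ • g)ᵀ := by
    conv_lhs => rw [← ha]
    rw [Matrix.transpose_mul]
  have h4 : a.map φ = (μ • g).map φ * a := by
    conv_lhs => rw [← ha]
    rw [Matrix.map_mul, hmm]
  have h5 : (μ • g)ᵀ * (μ • g).map φ = c • 1 := by
    rw [Matrix.transpose_smul, map_smul_ringHom, Matrix.smul_mul, Matrix.mul_smul, smul_smul, hg,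
      hμ]
  calc aᵀ * a.map φ = ((a.map φ)ᵀ * (μ • g)ᵀ) * ((μ • g).map φ * a) := by
        rw [← h3, ← h4]
    _ = (a.map φ)ᵀ * ((μ • g)ᵀ * (μ • g).map φ) * a := by simp only [Matrix.mul_assoc]
    _ = c • ((a.map φ)ᵀ * a) := by
        rw [h5, Matrix.mul_smul, Matrix.mul_one, Matrix.smul_mul]
    _ = c • (aᵀ * a.map φ)ᵀ := by
        rw [Matrix.transpose_mul, Matrix.transpose_transpose]

end invol

end Cfsg.Agent.Helper2.PUB
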