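import Mathlib
import Cfsg.Agent.Lib.Helper2.Pub2

set_option autoImplicit false
set_option linter.unusedSimpArgs false
set_option linter.unusedVariables false
set_option linter.unusedSectionVars false

/-! Local balance for the unitary groups, part 3: the symmetric or alternating form over the
fixed field of the involution attached to an involution in the coset of the standard involutory
field automorphism. -/

namespace Cfsg.Agent.Helper2.PUB

open Matrix Cfsg.Agent.Helper11 Cfsg.Agent.Helper11.Herm Cfsg.Agent.Helper2.PU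
  Cfsg.Agent.Helper2.PGeo

section rational

variable {F F₀ : Type*} [Field F] [Field F₀] {n : ℕ} {φ : F →+* F} (j : F₀ →+* F)

theorem map_j_injective : Function.Injective (fun A : Matrix (Fin n) (Fin n) F₀ => A.map j) := by
  intro A B h
  ext a b
  have := congrFun (congrFun h a) b
  exact j.injective this

theorem map_j_smul (c : F₀) (A : Matrix (Fin n) (Fin n) F₀) : (c • A).map j = j c • A.map j := by
  ext a b
  simp only [Matrix.map_apply, Matrix.smul_apply, smul_eq_mul, map_mul]

theorem map_j_one : (1 : Matrix (Fin n) (Fin n) F₀).map j = 1 := by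
  ext a b
  simp only [Matrix.map_apply, Matrix.one_apply]
  split_ifs <;> simp

theorem map_j_mul (A B : Matrix (Fin n) (Fin n) F₀) : (A * B).map j = A.map j * B.map j :=
  Matrix.map_mul

theorem map_j_transpose (A : Matrix (Fin n) (Fin n) F₀) : (Aᵀ).map j = (A.map j)ᵀ := rfl

theorem map_j_det (A : Matrix (Fin n) (Fin n) F₀) : (A.map j).det = j A.det := by
  rw [RingHom.map_det]
  rfl

variable (hjfix : ∀ a, φ (j a) = j a) (hfix : ∀ x, φ x = x → ∃ a, j a = x)

include hjfix in
theorem map_j_phi (A : Matrix (Fin n) (Fin n) F₀) : (A.map j).map φ = A.map j := by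
  ext a b
  simp only [Matrix.map_apply, hjfix]

include hfix in
/-- a matrix fixed entrywise by the involution is rational -/
theorem exists_rat {M : Matrix (Fin n) (Fin n) F} (hM : M.map φ = M) :
    ∃ M₀ : Matrix (Fin n) (Fin n) F₀, M₀.map j = M := by
  have h1 : ∀ a b, φ (M a b) = M a b := fun a b => congrFun (congrFun hM a) b
  choose c hc using fun a b => hfix _ (h1 a b)
  refine ⟨Matrix.of c, ?_⟩
  ext a b
  rw [Matrix.map_apply, Matrix.of_apply, hc]

include hjfix hfix in
/-- the rescaled form is defined over the fixed field, and is symmetric or alternating -/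
theorem form_data {c t : F} (hcc : c * c = 1) (ht0 : t ≠ 0) (ht : φ t = c * t)
    {Hm : Matrix (Fin n) (Fin n) F} (h1 : Hm = c • Hmᵀ) (h2 : Hm.map φ = Hmᵀ)
    (hdet : Hm.det ≠ 0) :
    ∃ (M₀ : Matrix (Fin n) (Fin n) F₀), M₀.map j = t • Hm ∧ M₀.det ≠ 0 ∧
      ((c = 1 ∧ M₀ᵀ = M₀) ∨ (c = -1 ∧ M₀ᵀ = -M₀)) := by
  have hT : Hmᵀ = c • Hm := by
    conv_lhs => rw [h1]
    rw [Matrix.transpose_smul, Matrix.transpose_transpose]
  have hfixM : (t • Hm).map φ = t • Hm := by
    rw [map_smul_ringHom, h2, hT, ht, smul_smul, mul_assoc, mul_comm t c, ← mul_assoc, hcc, one_mul]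
  obtain ⟨M₀, hM₀⟩ := exists_rat j hfix hfixM
  refine ⟨M₀, hM₀, ?_, ?_⟩
  · intro h0
    have h3 := map_j_det j M₀
    rw [hM₀, h0, map_zero, Matrix.det_smul] at h3
    rcases mul_eq_zero.1 h3 with h4 | h4
    · exact pow_ne_zero _ ht0 h4
    · exact hdet h4
  · rcases mul_self_eq_one_iff.1 hcc with hc | hc
    · left
      refine ⟨hc, ?_⟩
      apply map_j_injective j
      simp only []
      rw [map_j_transpose, hM₀, Matrix.transpose_smul, hT, hc, one_smul]
    · right
      refine ⟨hc, ?_⟩
      apply map_j_injective j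
      simp only []
      have hneg : (-M₀).map j = -(M₀.map j) := by
        ext a b
        simp only [Matrix.map_apply, Matrix.neg_apply, map_neg]
      rw [map_j_transpose, hneg, hM₀, Matrix.transpose_smul, hT, hc, neg_smul, one_smul, smul_neg]

end rational

section polar

variable {F₀ : Type*} [Field F₀] [Finite F₀] {n : ℕ}

/-- the polar geometry of a symmetric or alternating form -/
theorem polar_of_form (hn : 3 ≤ n) (h2 : (2 : F₀) ≠ 0) {M₀ : Matrix (Fin n) (Fin n) F₀}
    (hdet : M₀.det ≠ 0) (h : M₀ᵀ = M₀ ∨ M₀ᵀ = -M₀) :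
    ∃ ε : F₀, PolarHyp (RingHom.id F₀) ε M₀ := by
  rcases h with h | h
  · exact ⟨1, polarHyp_orth hn h2 h hdet⟩
  · exact ⟨-1, polarHyp_symp hn h2 h hdet⟩

end polar

end Cfsg.Agent.Helper2.PUB
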