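import Mathlib
import Cfsg.Agent.Lib.Helper2.Pub3

set_option autoImplicit false
set_option linter.unusedSimpArgs false
set_option linter.unusedVariables false
set_option linter.unusedSectionVars false

/-! Local balance for the unitary groups, part 4: the inner-diagonal automorphisms commuting
with an involution in the coset of the standard involutory field automorphism are those induced
by the similitudes of the form over the fixed field. -/

namespace Cfsg.Agent.Helper2.PUB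

open Matrix Cfsg.Agent.Helper11 Cfsg.Agent.Helper11.Herm Cfsg.Agent.Helper2.PU
  Cfsg.Agent.Helper2.PGeo

section matrices

variable {F F₀ : Type*} [Field F] [Field F₀] {n : ℕ} {φ : F →+* F} (j : F₀ →+* F)
  (hφφ : ∀ x, φ (φ x) = x)
  (hjfix : ∀ a, φ (j a) = j a) (hfix : ∀ x, φ x = x → ∃ a, j a = x)
  {g a ai : Matrix (Fin n) (Fin n) F} {μ t : F} {M₀ : Matrix (Fin n) (Fin n) F₀}
  (hμ0 : μ ≠ 0) (ha1 : a * ai = 1) (ha2 : ai * a = 1) (hga : (μ • g) * a.map φ = a)
  (ht0 : t ≠ 0) (hM₀ : M₀.map j = t • (aᵀ * a.map φ))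

include ha1 in
theorem map_a_mul_map_ai : a.map φ * ai.map φ = 1 := by
  rw [← Matrix.map_mul, ha1]
  ext x y
  simp only [Matrix.map_apply, Matrix.one_apply]
  split_ifs <;> simp

include ha2 in
theorem map_ai_mul_map_a : ai.map φ * a.map φ = 1 := by
  rw [← Matrix.map_mul, ha2]
  ext x y
  simp only [Matrix.map_apply, Matrix.one_apply]
  split_ifs <;> simp

include hμ0 hga in
theorem g_mul_map_a : g * a.map φ = μ⁻¹ • a := by
  rw [Matrix.smul_mul] at hga
  calc g * a.map φ = μ⁻¹ • (μ • (g * a.map φ)) := by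
        rw [smul_smul, inv_mul_cancel₀ hμ0, one_smul]
    _ = μ⁻¹ • a := by rw [hga]

include hμ0 ha1 hga in
theorem g_eq : g = μ⁻¹ • (a * ai.map φ) := by
  have h1 := g_mul_map_a hμ0 hga
  calc g = g * (a.map φ * ai.map φ) := by rw [map_a_mul_map_ai ha1, Matrix.mul_one]
    _ = (g * a.map φ) * ai.map φ := by rw [Matrix.mul_assoc]
    _ = μ⁻¹ • (a * ai.map φ) := by rw [h1, Matrix.smul_mul]

include hμ0 ha1 ha2 hga in
theorem ai_mul_g : ai * g = μ⁻¹ • ai.map φ := by
  conv_lhs => rw [g_eq hμ0 ha1 hga]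
  rw [Matrix.mul_smul, ← Matrix.mul_assoc, ha2, Matrix.one_mul]

include hjfix ha1 ht0 hM₀ in
/-- the conjugate of a similitude of the form over the fixed field is a unitary similitude -/
theorem conj_sim_isUS {m₀ : Matrix (Fin n) (Fin n) F₀} {c₁ : F₀}
    (hm : m₀ᵀ * M₀ * m₀ = c₁ • M₀) :
    (a * m₀.map j * ai)ᵀ * (a * m₀.map j * ai).map φ = j c₁ • 1 := by
  obtain ⟨m, hmdef⟩ : ∃ m, m = m₀.map j := ⟨_, rfl⟩
  have hmφ : m.map φ = m := by rw [hmdef]; exact map_j_phi j hjfix m₀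
  have h1 : mᵀ * (aᵀ * a.map φ) * m = j c₁ • (aᵀ * a.map φ) := by
    have h2 := congrArg (fun A : Matrix (Fin n) (Fin n) F₀ => A.map j) hm
    rw [map_j_mul, map_j_mul, map_j_transpose, hM₀, map_j_smul, hM₀, ← hmdef, Matrix.mul_smul,
      Matrix.smul_mul, smul_comm] at h2
    exact smul_right_injective _ ht0 h2
  rw [← hmdef, Matrix.transpose_mul, Matrix.transpose_mul, Matrix.map_mul, Matrix.map_mul, hmφ]
  calc aiᵀ * (mᵀ * aᵀ) * (a.map φ * m * ai.map φ)
      = aiᵀ * (mᵀ * (aᵀ * a.map φ) * m) * ai.map φ := by simp only [Matrix.mul_assoc]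
    _ = j c₁ • ((aiᵀ * aᵀ) * (a.map φ * ai.map φ)) := by
        rw [h1, Matrix.mul_smul, Matrix.smul_mul]
        simp only [Matrix.mul_assoc]
    _ = j c₁ • 1 := by
        rw [map_a_mul_map_ai ha1, ← Matrix.transpose_mul, ha1, Matrix.transpose_one,
          Matrix.mul_one]

include hjfix hμ0 ha1 ha2 hga in
/-- the conjugate of a rational matrix commutes with the involution, up to a scalar -/
theorem conj_rat_comm (m₀ : Matrix (Fin n) (Fin n) F₀) {d : F} (hd : d ≠ 0)
    {u : Matrix (Fin n) (Fin n) F} (hu : u = d • (a * m₀.map j * ai)) :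
    u * g = (d * (φ d)⁻¹) • (g * u.map φ) := by
  obtain ⟨m, hmdef⟩ : ∃ m, m = m₀.map j := ⟨_, rfl⟩
  have hmφ : m.map φ = m := by rw [hmdef]; exact map_j_phi j hjfix m₀
  have hφd : φ d ≠ 0 := (map_ne_zero φ).2 hd
  rw [← hmdef] at hu
  have h1 : u * g = (d * μ⁻¹) • (a * m * ai.map φ) := by
    rw [hu, Matrix.smul_mul, Matrix.mul_assoc, ai_mul_g hμ0 ha1 ha2 hga, Matrix.mul_smul,
      smul_smul]
  have h2 : g * u.map φ = (φ d * μ⁻¹) • (a * m * ai.map φ) := by
    rw [hu, map_smul_ringHom, Matrix.map_mul, Matrix.map_mul, hmφ, Matrix.mul_smul,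
      ← Matrix.mul_assoc, ← Matrix.mul_assoc, g_mul_map_a hμ0 hga, Matrix.smul_mul,
      Matrix.smul_mul, smul_smul]
  rw [h1, h2, smul_smul]
  congr 1
  field_simp

include hφφ hjfix hfix hμ0 ha1 ha2 hga ht0 hM₀ in
/-- a unitary matrix commuting with the involution up to a scalar is a multiple of the conjugate
of a similitude of the form over the fixed field -/
theorem rat_of_comm [Nonempty (Fin n)] (hT : ∃ t' : F, t' ≠ 0 ∧ t' + φ t' = 0)
    {u : Matrix (Fin n) (Fin n) F}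
    (hu : IsU φ u) {z : F} (hz : u * g = z • (g * u.map φ)) :
    ∃ (m₀ m₀i : Matrix (Fin n) (Fin n) F₀) (c₁ : F₀) (d : F), m₀ * m₀i = 1 ∧ m₀i * m₀ = 1 ∧
      c₁ ≠ 0 ∧ d ≠ 0 ∧ m₀ᵀ * M₀ * m₀ = c₁ • M₀ ∧ u = d • (a * m₀.map j * ai) := by
  obtain ⟨s, hs⟩ : ∃ s, s = ai * u * a := ⟨_, rfl⟩
  obtain ⟨si, hsi⟩ : ∃ si, si = ai * adjU φ u * a := ⟨_, rfl⟩
  have hssi : s * si = 1 := by
    rw [hs, hsi]
    calc ai * u * a * (ai * adjU φ u * a) = ai * (u * ((a * ai) * adjU φ u)) * a := by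
          simp only [Matrix.mul_assoc]
      _ = 1 := by rw [ha1, Matrix.one_mul, self_mul_adjU hu, Matrix.mul_one, ha2]
  have hsis : si * s = 1 := mul_eq_one_comm.1 hssi
  have husa : u = a * s * ai := by
    rw [hs]
    calc u = (a * ai) * u * (a * ai) := by rw [ha1, Matrix.one_mul, Matrix.mul_one]
      _ = a * (ai * u * a) * ai := by simp only [Matrix.mul_assoc]
  -- `s = z • s^φ`
  have h1 : s = z • s.map φ := by
    have e1 : ai * (u * g) * a.map φ = μ⁻¹ • s := by
      rw [Matrix.mul_assoc, Matrix.mul_assoc, g_mul_map_a hμ0 hga, Matrix.mul_smul,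
        Matrix.mul_smul, hs, Matrix.mul_assoc]
    have e2 : ai * (z • (g * u.map φ)) * a.map φ = (z * μ⁻¹) • s.map φ := by
      rw [Matrix.mul_smul, Matrix.smul_mul, ← Matrix.mul_assoc, ai_mul_g hμ0 ha1 ha2 hga,
        Matrix.smul_mul, Matrix.smul_mul, smul_smul, hs, Matrix.map_mul, Matrix.map_mul,
        Matrix.mul_assoc]
    rw [hz, e2] at e1
    have e3 : μ⁻¹ • (z • s.map φ) = μ⁻¹ • s := by rw [smul_smul, mul_comm]; exact e1
    exact (smul_right_injective _ (inv_ne_zero hμ0) e3).symm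
  have hsφφ : (s.map φ).map φ = s := by
    ext x y
    simp only [Matrix.map_apply, hφφ]
  have hdets : s.det ≠ 0 := by
    intro h0
    have := congrArg Matrix.det hssi
    rw [Matrix.det_mul, h0, zero_mul, Matrix.det_one] at this
    exact zero_ne_one this
  have hs0 : ∃ x y, s x y ≠ 0 := by
    by_contra hcon
    push Not at hcon
    have : s = 0 := by
      ext x y
      exact hcon x y
    rw [this] at hdets
    exact hdets Matrix.det_zero
  obtain ⟨x, y, hxy⟩ := hs0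
  have hz0 : z ≠ 0 := by
    rintro rfl
    rw [zero_smul] at h1
    rw [h1] at hxy
    exact hxy rfl
  have hzz : z * φ z = 1 := by
    have e1 : s.map φ = φ z • s := by
      conv_lhs => rw [h1]
      rw [map_smul_ringHom, hsφφ]
    have e2 : s = (z * φ z) • s := by
      conv_lhs => rw [h1, e1]
      rw [smul_smul]
    have e3 := congrFun (congrFun e2 x) y
    rw [Matrix.smul_apply, smul_eq_mul] at e3
    have e4 : (z * φ z) * s x y = 1 * s x y := by rw [one_mul]; exact e3.symm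
    exact mul_right_cancel₀ hxy e4
  have hzi : z⁻¹ * φ z⁻¹ = 1 := by rw [map_inv₀, ← mul_inv, hzz, inv_one]
  obtain ⟨t', ht'0, ht'⟩ := hT
  obtain ⟨d, hd0, -, hd⟩ := h90_invol φ (RingEquiv.refl F) hφφ ⟨t', ht'0, rfl, ht'⟩ hzi rfl
  have hφd0 : φ d ≠ 0 := (map_ne_zero φ).2 hd0
  have hsφ : s.map φ = z⁻¹ • s := by
    conv_rhs => rw [h1]
    rw [smul_smul, inv_mul_cancel₀ hz0, one_smul]
  have hmfix : (d • s).map φ = d • s := by
    rw [map_smul_ringHom, hsφ, smul_smul, mul_comm, hd]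
  obtain ⟨m₀, hm₀⟩ := exists_rat j hfix hmfix
  have e1 : (d • s) * (d⁻¹ • si) = 1 := by
    rw [Matrix.smul_mul, Matrix.mul_smul, smul_smul, mul_inv_cancel₀ hd0, one_smul, hssi]
  have e3 : (d⁻¹ • si) * (d • s) = 1 := mul_eq_one_comm.1 e1
  have hmifix : (d⁻¹ • si).map φ = d⁻¹ • si := by
    have e2 : (d • s).map φ * (d⁻¹ • si).map φ = 1 := by
      rw [← Matrix.map_mul, e1]
      ext x y
      simp only [Matrix.map_apply, Matrix.one_apply]
      split_ifs <;> simp
    rw [hmfix] at e2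
    calc (d⁻¹ • si).map φ = ((d⁻¹ • si) * (d • s)) * (d⁻¹ • si).map φ := by
          rw [e3, Matrix.one_mul]
      _ = (d⁻¹ • si) * ((d • s) * (d⁻¹ • si).map φ) := by rw [Matrix.mul_assoc]
      _ = d⁻¹ • si := by rw [e2, Matrix.mul_one]
  obtain ⟨m₀i, hm₀i⟩ := exists_rat j hfix hmifix
  have hcfix : φ (d * φ d) = d * φ d := by rw [map_mul, hφφ, mul_comm]
  obtain ⟨c₁, hc₁⟩ := hfix _ hcfix
  refine ⟨m₀, m₀i, c₁, d⁻¹, ?_, ?_, ?_, inv_ne_zero hd0, ?_, ?_⟩
  · apply map_j_injective j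
    simp only []
    rw [map_j_mul, hm₀, hm₀i, e1, map_j_one]
  · apply map_j_injective j
    simp only []
    rw [map_j_mul, hm₀, hm₀i, e3, map_j_one]
  · rintro rfl
    rw [map_zero] at hc₁
    exact mul_ne_zero hd0 hφd0 hc₁.symm
  · -- the similitude condition
    have h2 : sᵀ * (aᵀ * a.map φ) * s.map φ = aᵀ * a.map φ := by
      have h3 : uᵀ * u.map φ = 1 := hu
      rw [husa, Matrix.transpose_mul, Matrix.transpose_mul, Matrix.map_mul, Matrix.map_mul] at h3
      calc sᵀ * (aᵀ * a.map φ) * s.map φ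
          = (aᵀ * aiᵀ) * (sᵀ * (aᵀ * a.map φ) * s.map φ) * (ai.map φ * a.map φ) := by
            rw [map_ai_mul_map_a ha2, ← Matrix.transpose_mul, ha2, Matrix.transpose_one,
              Matrix.one_mul, Matrix.mul_one]
        _ = aᵀ * (aiᵀ * (sᵀ * aᵀ) * (a.map φ * s.map φ * ai.map φ)) * a.map φ := by
            simp only [Matrix.mul_assoc]
        _ = aᵀ * a.map φ := by rw [h3, Matrix.mul_one]
    have h4 : (d • s)ᵀ * (aᵀ * a.map φ) * (d • s) = (d * φ d) • (aᵀ * a.map φ) := by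
      have h5 : (d • s) = φ d • s.map φ := by
        conv_lhs => rw [← hmfix]
        rw [map_smul_ringHom]
      conv_lhs => rw [h5]
      rw [Matrix.mul_smul, ← h5, Matrix.transpose_smul, Matrix.smul_mul, Matrix.smul_mul, smul_smul,
        h2, mul_comm]
    apply map_j_injective j
    simp only []
    rw [map_j_mul, map_j_mul, map_j_transpose, hm₀, hM₀, map_j_smul, hM₀, hc₁]
    obtain ⟨m, hm⟩ : ∃ m, m = d • s := ⟨_, rfl⟩
    rw [← hm] at h4 ⊢
    rw [Matrix.mul_smul, Matrix.smul_mul, h4, smul_comm]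
  · rw [hm₀, husa, Matrix.mul_smul, Matrix.smul_mul, smul_smul, inv_mul_cancel₀ hd0, one_smul]

end matrices

end Cfsg.Agent.Helper2.PUB
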