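import Mathlib
import Cfsg.Agent.Lib.Helper2.Pub4

set_option autoImplicit false
set_option linter.unusedSimpArgs false
set_option linter.unusedVariables false
set_option linter.unusedSectionVars false

/-! Local balance for the unitary groups, part 5: the homomorphism from the group of
similitudes of the form over the fixed field to the centralizer of the involution. -/

namespace Cfsg.Agent.Helper2.PUB

open Matrix Cfsg.Agent.Helper11 Cfsg.Agent.Helper11.Herm Cfsg.Agent.Helper2.PU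
  Cfsg.Agent.Helper2.PGeo Cfsg.Agent.Helper2.SpA

section simgroup

variable {F₀ : Type*} [Field F₀] {n : ℕ}

/-- the group of similitudes of a bilinear form, as a group of matrices -/
noncomputable def simG (M₀ : Matrix (Fin n) (Fin n) F₀) : Subgroup (GL (Fin n) F₀) :=
  (sim (matForm (RingHom.id F₀) M₀)).comap (glLE (n := n) (F₀ := F₀)).toMonoidHom

theorem map_id_eq (A : Matrix (Fin n) (Fin n) F₀) : A.map (RingHom.id F₀) = A := by
  ext x y
  rfl

theorem mem_simG_iff (M₀ : Matrix (Fin n) (Fin n) F₀) (m : GL (Fin n) F₀) :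
    m ∈ simG M₀ ↔ ∃ c : F₀, c ≠ 0 ∧
      ((m : Matrix (Fin n) (Fin n) F₀))ᵀ * M₀ * (m : Matrix (Fin n) (Fin n) F₀) = c • M₀ := by
  unfold simG
  rw [Subgroup.mem_comap, MulEquiv.coe_toMonoidHom, mem_sim_iff, map_id_eq]

theorem mem_simG_iff' (M₀ : Matrix (Fin n) (Fin n) F₀) (m : GL (Fin n) F₀) :
    m ∈ simG M₀ ↔ glLE m ∈ sim (matForm (RingHom.id F₀) M₀) := Iff.rfl

end simgroup

section theta

variable {F : Type*} [Field F] [Finite F] {F₀ : Type*} [Field F₀] {n : ℕ} {φ : F →+* F}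
  (H : HypU φ (Fin n)) (r : ℕ) [Fact r.Prime] [CharP F r]
  (hcomm : ∀ (σ : F ≃+* F) (x : F), σ (φ x) = φ (σ x))
  (ψ : F ≃+* F) (hψ : ∀ x, ψ x = φ x)
  (j : F₀ →+* F) (hjfix : ∀ a, φ (j a) = j a) (hfix : ∀ x, φ x = x → ∃ a, j a = x)
  {g a ai : Matrix (Fin n) (Fin n) F} {μ t : F} {M₀ : Matrix (Fin n) (Fin n) F₀}
  (hg : IsU φ g)
  (hμ0 : μ ≠ 0) (ha1 : a * ai = 1) (ha2 : ai * a = 1) (hga : (μ • g) * a.map φ = a)
  (ht0 : t ≠ 0) (hM₀ : M₀.map j = t • (aᵀ * a.map φ))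

omit [Finite F] in
theorem simAut_congr' {h h' : Matrix (Fin n) (Fin n) F} (e : h = h') (hh : IsUS φ h) :
    IsUS φ h' := e ▸ hh

theorem simAut_congr {h h' : Matrix (Fin n) (Fin n) F} (hh : IsUS φ h) (hh' : IsUS φ h')
    (e : h = h') : simAut H hcomm hh = simAut H hcomm hh' := by
  subst e
  rfl

include H hψ hjfix hμ0 ha1 ha2 hga in
/-- the conjugate of a rational matrix induces an automorphism commuting with the involution -/
theorem comm_of_conj (m₀ : Matrix (Fin n) (Fin n) F₀) {d : F}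
    {u : Matrix (Fin n) (Fin n) F} (hu : IsU φ u) (hud : u = d • (a * m₀.map j * ai)) :
    stdAutQ u hu (1 : F ≃+* F) (hcomm 1) ∈
      Subgroup.centralizer {stdAutQ g hg ψ (hcomm ψ)} := by
  have hne : Nonempty (Fin n) := nonempty_of_hyp H
  have hd : d ≠ 0 := by
    rintro rfl
    rw [zero_smul] at hud
    have := hu.det_ne_zero φ
    rw [hud] at this
    exact this Matrix.det_zero
  have h1 := conj_rat_comm j hjfix hμ0 ha1 ha2 hga m₀ hd hud
  rw [Subgroup.mem_centralizer_singleton_iff, stdAutQ_mul hcomm, stdAutQ_mul hcomm]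
  have hU : IsU φ ((d * (φ d)⁻¹) • (g * u.map ψ)) := by
    rw [map_psi ψ hψ, ← h1]
    exact hu.mul φ hg
  rw [← stdAutQ_smul hcomm (hg.mul φ (isU_map ψ (hcomm ψ) hu)) (d * (φ d)⁻¹) hU]
  apply stdAutQ_congr hcomm
  · rw [map_one_ringAut, map_psi ψ hψ]
    exact h1
  · rw [one_mul, mul_one]

include H r hψ hjfix hfix hμ0 ha1 ha2 hga ht0 hM₀ in
/-- a unitary matrix inducing an automorphism commuting with the involution is a multiple of the
conjugate of a similitude -/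
theorem conj_of_comm {u : Matrix (Fin n) (Fin n) F} (hu : IsU φ u)
    (h : stdAutQ u hu (1 : F ≃+* F) (hcomm 1) ∈
      Subgroup.centralizer {stdAutQ g hg ψ (hcomm ψ)}) :
    ∃ (m₀ m₀i : Matrix (Fin n) (Fin n) F₀) (c₁ : F₀) (d : F), m₀ * m₀i = 1 ∧ m₀i * m₀ = 1 ∧
      c₁ ≠ 0 ∧ d ≠ 0 ∧ m₀ᵀ * M₀ * m₀ = c₁ • M₀ ∧ u = d • (a * m₀.map j * ai) := by
  have hne : Nonempty (Fin n) := nonempty_of_hyp H
  rw [Subgroup.mem_centralizer_singleton_iff, stdAutQ_mul hcomm, stdAutQ_mul hcomm] at h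
  obtain ⟨-, z, hz⟩ := stdAutQ_eq H r hcomm _ _ h
  rw [map_one_ringAut, map_psi ψ hψ] at hz
  obtain ⟨t', ht'0, ht'⟩ := H.exists_trace_zero
  exact rat_of_comm j H.hφφ hjfix hfix hμ0 ha1 ha2 hga ht0 hM₀ ⟨t', ht'0, ht'⟩ hu hz

end theta

end Cfsg.Agent.Helper2.PUB
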