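import Mathlib
import Cfsg.Agent.Lib.Helper2.Pub5

set_option autoImplicit false
set_option linter.unusedSimpArgs false
set_option linter.unusedVariables false
set_option linter.unusedSectionVars false

/-! Local balance for the unitary groups, part 6: the homomorphism from the group of
similitudes of the form over the fixed field to the group of automorphisms. -/

namespace Cfsg.Agent.Helper2.PUB

open Matrix Cfsg.Agent.Helper11 Cfsg.Agent.Helper11.Herm Cfsg.Agent.Helper2.PU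
  Cfsg.Agent.Helper2.PGeo Cfsg.Agent.Helper2.SpA

section thetahom

variable {F : Type*} [Field F] [Finite F] {F₀ : Type*} [Field F₀] {n : ℕ} {φ : F →+* F}
  (H : HypU φ (Fin n)) (r : ℕ) [Fact r.Prime] [CharP F r]
  (hcomm : ∀ (σ : F ≃+* F) (x : F), σ (φ x) = φ (σ x))
  (ψ : F ≃+* F) (hψ : ∀ x, ψ x = φ x)
  (j : F₀ →+* F) (hjfix : ∀ a, φ (j a) = j a) (hfix : ∀ x, φ x = x → ∃ a, j a = x)
  {g a ai : Matrix (Fin n) (Fin n) F} {μ t : F} {M₀ : Matrix (Fin n) (Fin n) F₀}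
  (hg : IsU φ g)
  (hμ0 : μ ≠ 0) (ha1 : a * ai = 1) (ha2 : ai * a = 1) (hga : (μ • g) * a.map φ = a)
  (ht0 : t ≠ 0) (hM₀ : M₀.map j = t • (aᵀ * a.map φ))

omit [Finite F] in
include hjfix ha1 ht0 hM₀ in
theorem isUS_of_simG (m : simG M₀) :
    IsUS φ (a * ((m : GL (Fin n) F₀) : Matrix (Fin n) (Fin n) F₀).map j * ai) := by
  obtain ⟨c₁, hc₁, hm⟩ := (mem_simG_iff M₀ m.1).1 m.2
  exact ⟨j c₁, (map_ne_zero j).2 hc₁, conj_sim_isUS j hjfix ha1 ht0 hM₀ hm⟩

/-- the homomorphism from the similitudes of the form to the automorphisms -/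
noncomputable def ThetaS : simG M₀ →* MulAut (PGq φ (Fin n)) where
  toFun m := simAut H hcomm (isUS_of_simG j hjfix ha1 ht0 hM₀ m)
  map_one' := by
    have e : a * (((1 : simG M₀) : GL (Fin n) F₀) : Matrix (Fin n) (Fin n) F₀).map j * ai =
        (1 : F) • (1 : Matrix (Fin n) (Fin n) F) := by
      rw [Subgroup.coe_one, Units.val_one, map_j_one, Matrix.mul_one, ha1, one_smul]
    rw [simAut_congr H hcomm _ (simAut_congr' e (isUS_of_simG j hjfix ha1 ht0 hM₀ 1)) e]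
    exact simAut_smul_one H hcomm _
  map_mul' m m' := by
    have e : a * (((m * m' : simG M₀) : GL (Fin n) F₀) : Matrix (Fin n) (Fin n) F₀).map j * ai =
        (a * ((m : GL (Fin n) F₀) : Matrix (Fin n) (Fin n) F₀).map j * ai) *
          (a * ((m' : GL (Fin n) F₀) : Matrix (Fin n) (Fin n) F₀).map j * ai) := by
      rw [Subgroup.coe_mul, Units.val_mul, map_j_mul]
      calc a * (((m : GL (Fin n) F₀) : Matrix (Fin n) (Fin n) F₀).map j *
            ((m' : GL (Fin n) F₀) : Matrix (Fin n) (Fin n) F₀).map j) * ai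
          = a * ((m : GL (Fin n) F₀) : Matrix (Fin n) (Fin n) F₀).map j * 1 *
            ((m' : GL (Fin n) F₀) : Matrix (Fin n) (Fin n) F₀).map j * ai := by
            rw [Matrix.mul_one]
            simp only [Matrix.mul_assoc]
        _ = _ := by
            rw [← ha2]
            simp only [Matrix.mul_assoc]
    rw [simAut_congr H hcomm _ (simAut_congr' e (isUS_of_simG j hjfix ha1 ht0 hM₀ (m * m'))) e]
    exact simAut_mul H hcomm _ _ _

theorem ThetaS_apply (m : simG M₀) :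
    ThetaS H hcomm j hjfix ha1 ha2 ht0 hM₀ m =
      simAut H hcomm (isUS_of_simG j hjfix ha1 ht0 hM₀ m) := rfl

include hψ hg hμ0 hga in
/-- the image commutes with the involution -/
theorem ThetaS_mem_centralizer (m : simG M₀) :
    ThetaS H hcomm j hjfix ha1 ha2 ht0 hM₀ m ∈
      Subgroup.centralizer {stdAutQ g hg ψ (hcomm ψ)} := by
  rw [ThetaS_apply]
  obtain ⟨d, hd, hu⟩ := IsUS.exists_smul' H (isUS_of_simG j hjfix ha1 ht0 hM₀ m)
  rw [simAut_eq H hcomm _ hu rfl]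
  exact comm_of_conj H hcomm ψ hψ j hjfix hg hμ0 ha1 ha2 hga _ hu rfl

/-- scalars are in the kernel -/
theorem ThetaS_of_scalar (m : simG M₀) (c₀ : F₀)
    (hm : ((m : GL (Fin n) F₀) : Matrix (Fin n) (Fin n) F₀) = c₀ • 1) :
    ThetaS H hcomm j hjfix ha1 ha2 ht0 hM₀ m = 1 := by
  rw [ThetaS_apply]
  have e : a * ((m : GL (Fin n) F₀) : Matrix (Fin n) (Fin n) F₀).map j * ai =
      j c₀ • (1 : Matrix (Fin n) (Fin n) F) := by
    rw [hm, map_j_smul, map_j_one, Matrix.mul_smul, Matrix.smul_mul, Matrix.mul_one, ha1]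
  rw [simAut_congr H hcomm _ (simAut_congr' e (isUS_of_simG j hjfix ha1 ht0 hM₀ m)) e]
  exact simAut_smul_one H hcomm _

include r in
/-- the kernel consists of scalars -/
theorem scalar_of_ThetaS_eq_one (m : simG M₀)
    (hm : ThetaS H hcomm j hjfix ha1 ha2 ht0 hM₀ m = 1) :
    ∃ c₀ : F₀, ((m : GL (Fin n) F₀) : Matrix (Fin n) (Fin n) F₀) = c₀ • 1 := by
  have hne : Nonempty (Fin n) := nonempty_of_hyp H
  rw [ThetaS_apply] at hm
  obtain ⟨d, hd, hu⟩ := IsUS.exists_smul' H (isUS_of_simG j hjfix ha1 ht0 hM₀ m)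
  rw [simAut_eq H hcomm _ hu rfl, ← stdAutQ_one hcomm] at hm
  obtain ⟨-, c, hc⟩ := stdAutQ_eq H r hcomm _ _ hm
  obtain ⟨m', hm'⟩ : ∃ m', m' = ((m : GL (Fin n) F₀) : Matrix (Fin n) (Fin n) F₀).map j :=
    ⟨_, rfl⟩
  rw [← hm'] at hc
  have h1 : m' = (d⁻¹ * c) • (1 : Matrix (Fin n) (Fin n) F) := by
    calc m' = (ai * a) * m' * (ai * a) := by rw [ha2, Matrix.one_mul, Matrix.mul_one]
      _ = d⁻¹ • (ai * (d • (a * m' * ai)) * a) := by
          rw [Matrix.mul_smul, Matrix.smul_mul, smul_smul, inv_mul_cancel₀ hd, one_smul]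
          simp only [Matrix.mul_assoc]
      _ = (d⁻¹ * c) • (1 : Matrix (Fin n) (Fin n) F) := by
          rw [hc, Matrix.mul_smul, Matrix.smul_mul, Matrix.mul_one, ha2, smul_smul]
  obtain ⟨i₀⟩ := hne
  refine ⟨((m : GL (Fin n) F₀) : Matrix (Fin n) (Fin n) F₀) i₀ i₀, ?_⟩
  apply map_j_injective j
  simp only []
  rw [← hm', map_j_smul, map_j_one]
  have h2 := congrFun (congrFun h1 i₀) i₀
  rw [hm', Matrix.map_apply, Matrix.smul_apply, Matrix.one_apply_eq, smul_eq_mul, mul_one] at h2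
  rw [h2]
  exact h1

include r hψ hfix hg hμ0 hga in
/-- the inner automorphisms of the fixed points of the involution are in the image -/
theorem exists_ThetaS_eq (s : SUg (Fin n) φ)
    (hs : stdAutQ g hg ψ (hcomm ψ) (mkq φ s) = mkq φ s) :
    ∃ m : simG M₀, ThetaS H hcomm j hjfix ha1 ha2 ht0 hM₀ m = MulAut.conj (mkq φ s) := by
  have h1 := fix_conj_mem_centralizer _ hs
  rw [← stdAutQ_smat hcomm] at h1
  obtain ⟨m₀, m₀i, c₁, d, h12, h21, hc₁, hd, hsim, hud⟩ :=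
    conj_of_comm H r hcomm ψ hψ j hjfix hfix hg hμ0 ha1 ha2 hga ht0 hM₀ (smat_isU φ s) h1
  obtain ⟨m, hm⟩ : ∃ m : GL (Fin n) F₀, (m : Matrix (Fin n) (Fin n) F₀) = m₀ :=
    ⟨⟨m₀, m₀i, h12, h21⟩, rfl⟩
  have hmem : m ∈ simG M₀ := by
    rw [mem_simG_iff, hm]
    exact ⟨c₁, hc₁, hsim⟩
  refine ⟨⟨m, hmem⟩, ?_⟩
  rw [ThetaS_apply, ← stdAutQ_smat hcomm]
  apply simAut_eq H hcomm _ (smat_isU φ s) (d := d)
  rw [hud]
  congr 3
  exact congrArg (fun A : Matrix (Fin n) (Fin n) F₀ => A.map j) hm.symm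

end thetahom

end Cfsg.Agent.Helper2.PUB
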