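import Mathlib
import Cfsg.Agent.Lib.Helper2.Pub6

set_option autoImplicit false
set_option linter.unusedSimpArgs false
set_option linter.unusedVariables false
set_option linter.unusedSectionVars false

/-! Local balance for the unitary groups, part 7: the two hypotheses of the abstract criterion
for an involution in the coset of the standard involutory field automorphism. -/

namespace Cfsg.Agent.Helper2.PUB

open Matrix Cfsg.Agent.Helper11 Cfsg.Agent.Helper11.Herm Cfsg.Agent.Helper2.PU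
  Cfsg.Agent.Helper2.PGeo Cfsg.Agent.Helper2.SpA Cfsg.Agent.Helper2.PLB

section hyps

variable {F : Type*} [Field F] [Finite F] {F₀ : Type*} [Field F₀] [Finite F₀] {n : ℕ}
  {φ : F →+* F}
  (H : HypU φ (Fin n)) (r : ℕ) [Fact r.Prime] [CharP F r]
  (hcomm : ∀ (σ : F ≃+* F) (x : F), σ (φ x) = φ (σ x))
  (ψ : F ≃+* F) (hψ : ∀ x, ψ x = φ x)
  (j : F₀ →+* F) (hjfix : ∀ a, φ (j a) = j a) (hfix : ∀ x, φ x = x → ∃ a, j a = x)
  {g a ai : Matrix (Fin n) (Fin n) F} {μ t : F} {M₀ : Matrix (Fin n) (Fin n) F₀}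
  (hg : IsU φ g)
  (hμ0 : μ ≠ 0) (ha1 : a * ai = 1) (ha2 : ai * a = 1) (hga : (μ • g) * a.map φ = a)
  (ht0 : t ≠ 0) (hM₀ : M₀.map j = t • (aᵀ * a.map φ))

omit [Finite F₀] in
theorem finite_aut_PGq : Finite (MulAut (PGq φ (Fin n))) := by
  have : Fintype (PGq φ (Fin n)) := Fintype.ofFinite _
  classical
  infer_instance

include H r hψ hjfix hfix hg hμ0 ha1 ha2 hga ht0 hM₀ in
/-- the inner automorphisms from the fixed points of the involution contain no non-trivial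
subgroup of odd order invariant under the centralizer of the involution -/
theorem odd_inv_botU (hn : 3 ≤ n) {ε : F₀} (HP : PolarHyp (RingHom.id F₀) ε M₀)
    (R : Subgroup (MulAut (PGq φ (Fin n))))
    (hR : R ≤ (MonoidHom.eqLocus (stdAutQ g hg ψ (hcomm ψ)).toMonoidHom
      (MonoidHom.id _)).map MulAut.conj)
    (hodd : (Nat.card R).Coprime 2)
    (hinv : ∀ x ∈ Subgroup.centralizer {stdAutQ g hg ψ (hcomm ψ)}, ∀ y ∈ R, x * y * x⁻¹ ∈ R) :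
    R = ⊥ := by
  have hfinA : Finite (MulAut (PGq φ (Fin n))) := finite_aut_PGq
  obtain ⟨Θ, hΘ⟩ : ∃ Θ : simG M₀ →* MulAut (PGq φ (Fin n)),
      Θ = ThetaS H hcomm j hjfix ha1 ha2 ht0 hM₀ := ⟨_, rfl⟩
  have hΘc : ∀ m, Θ m ∈ Subgroup.centralizer {stdAutQ g hg ψ (hcomm ψ)} := by
    intro m
    rw [hΘ]
    exact ThetaS_mem_centralizer H hcomm ψ hψ j hjfix hg hμ0 ha1 ha2 hga ht0 hM₀ m
  obtain ⟨𝓜, h𝓜⟩ : ∃ 𝓜 : Subgroup (GL (Fin n) F₀), 𝓜 = (R.comap Θ).map (simG M₀).subtype :=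
    ⟨_, rfl⟩
  have hmem : ∀ m, m ∈ 𝓜 ↔ ∃ hm : m ∈ simG M₀, Θ ⟨m, hm⟩ ∈ R := by
    intro m
    rw [h𝓜]
    constructor
    · rintro ⟨m', hm', rfl⟩
      exact ⟨m'.2, hm'⟩
    · rintro ⟨hm, hm'⟩
      exact ⟨⟨m, hm⟩, hm', rfl⟩
  have key := scalar_of_odd_normal_mat hn HP 𝓜
    (fun m hm => ((hmem m).1 hm).1)
    (by
      intro g' hg' m hm
      obtain ⟨hm1, hm2⟩ := (hmem m).1 hm
      rw [hmem]
      have hg'' : g' ∈ simG M₀ := hg'
      refine ⟨Subgroup.mul_mem _ (Subgroup.mul_mem _ hg'' hm1) (Subgroup.inv_mem _ hg''), ?_⟩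
      have e : (⟨g' * m * g'⁻¹, Subgroup.mul_mem _ (Subgroup.mul_mem _ hg'' hm1)
          (Subgroup.inv_mem _ hg'')⟩ : simG M₀) = ⟨g', hg''⟩ * ⟨m, hm1⟩ * ⟨g', hg''⟩⁻¹ := rfl
      rw [e, map_mul, map_mul, map_inv]
      exact hinv _ (hΘc _) _ hm2)
    (by
      intro m hm
      obtain ⟨hm1, hm2⟩ := (hmem m).1 hm
      refine ⟨orderOf (Θ ⟨m, hm1⟩), ?_, ?_⟩
      · have h1 : orderOf (Θ ⟨m, hm1⟩) ∣ Nat.card R := by
          have := orderOf_dvd_natCard (⟨Θ ⟨m, hm1⟩, hm2⟩ : ↥R)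
          rwa [Subgroup.orderOf_mk] at this
        exact Nat.coprime_two_right.1 (Nat.Coprime.coprime_dvd_left h1 hodd)
      · have h2 : Θ (⟨m, hm1⟩ ^ orderOf (Θ ⟨m, hm1⟩)) = 1 := by
          rw [map_pow, pow_orderOf_eq_one]
        rw [hΘ] at h2
        have h3 := scalar_of_ThetaS_eq_one H r hcomm j hjfix ha1 ha2 ht0 hM₀ _ h2
        rw [← hΘ] at h3
        exact h3)
  rw [eq_bot_iff]
  intro x hx
  rw [Subgroup.mem_bot]
  obtain ⟨k, hk, rfl⟩ := hR hx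
  obtain ⟨s, rfl⟩ := mkq_surjective k
  have hk' : stdAutQ g hg ψ (hcomm ψ) (mkq φ s) = mkq φ s := hk
  obtain ⟨m, hm⟩ := exists_ThetaS_eq H r hcomm ψ hψ j hjfix hfix hg hμ0 ha1 ha2 hga ht0 hM₀ s hk'
  have hm𝓜 : (m : GL (Fin n) F₀) ∈ 𝓜 := by
    rw [hmem]
    refine ⟨m.2, ?_⟩
    rw [hΘ, hm]
    exact hx
  obtain ⟨c, hc⟩ := key _ hm𝓜
  rw [← hm]
  exact ThetaS_of_scalar H hcomm j hjfix ha1 ha2 ht0 hM₀ m c hc

end hyps

end Cfsg.Agent.Helper2.PUB
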