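import Mathlib
import Cfsg.Agent.Lib.Helper2.Pub7

set_option autoImplicit false
set_option linter.unusedSimpArgs false
set_option linter.unusedVariables false
set_option linter.unusedSectionVars false

/-! Local balance for the unitary groups, part 8: automorphisms of odd order fixing the fixed
points of an involution in the coset of the standard involutory field automorphism. -/

namespace Cfsg.Agent.Helper2.PUB

open Matrix Cfsg.Agent.Helper11 Cfsg.Agent.Helper11.Herm Cfsg.Agent.Helper2.PU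
  Cfsg.Agent.Helper2.PGeo Cfsg.Agent.Helper2.SpA Cfsg.Agent.Helper2.PLB

section hyp2

variable {F : Type*} [Field F] [Finite F] {F₀ : Type*} [Field F₀] [Finite F₀] {n : ℕ}
  {φ : F →+* F}
  (H : HypU φ (Fin n)) (r : ℕ) [Fact r.Prime] [CharP F r]
  (hcomm : ∀ (σ : F ≃+* F) (x : F), σ (φ x) = φ (σ x))
  (ψ : F ≃+* F) (hψ : ∀ x, ψ x = φ x)
  (j : F₀ →+* F) (hjfix : ∀ a, φ (j a) = j a) (hfix : ∀ x, φ x = x → ∃ a, j a = x)
  {g a ai : Matrix (Fin n) (Fin n) F} {μ t : F} {M₀ : Matrix (Fin n) (Fin n) F₀}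
  (hg : IsU φ g)
  (hμ0 : μ ≠ 0) (ha1 : a * ai = 1) (ha2 : ai * a = 1) (hga : (μ • g) * a.map φ = a)
  (ht0 : t ≠ 0) (hM₀ : M₀.map j = t • (aᵀ * a.map φ))

include H r hψ hjfix hfix hg hμ0 ha1 ha2 hga ht0 hM₀ in
/-- an automorphism of odd order fixing all the fixed points of the involution is trivial -/
theorem odd_fix_eq_oneU (hn : 3 ≤ n) {ε : F₀} (HP : PolarHyp (RingHom.id F₀) ε M₀)
    (hsq : stdAutQ g hg ψ (hcomm ψ) * stdAutQ g hg ψ (hcomm ψ) = 1)
    (a' : MulAut (PGq φ (Fin n))) (hodd : (orderOf a').Coprime 2)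
    (hfixa : ∀ k, stdAutQ g hg ψ (hcomm ψ) k = k → a' k = k) : a' = 1 := by
  have hfinA : Finite (MulAut (PGq φ (Fin n))) := finite_aut_PGq
  obtain ⟨τ, hh, hhU, ha'⟩ := exists_stdAutQ H r hcomm a'
  have hτ1 : a.map τ * ai.map τ = 1 := by
    rw [← map_mul_ringEquiv, ha1, map_one_ringEquiv]
  have hτ2 : ai.map τ * a.map τ = 1 := by
    rw [← map_mul_ringEquiv, ha2, map_one_ringEquiv]
  obtain ⟨hh', hhh'⟩ : ∃ hh' : GL (Fin n) F,
      (hh' : Matrix (Fin n) (Fin n) F) = ai * hh * a.map τ := by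
    refine ⟨⟨ai * hh * a.map τ, ai.map τ * adjU φ hh * a, ?_, ?_⟩, rfl⟩
    · calc ai * hh * a.map τ * (ai.map τ * adjU φ hh * a)
          = ai * (hh * ((a.map τ * ai.map τ) * adjU φ hh)) * a := by
            simp only [Matrix.mul_assoc]
        _ = 1 := by rw [hτ1, Matrix.one_mul, self_mul_adjU hhU, Matrix.mul_one, ha2]
    · calc ai.map τ * adjU φ hh * a * (ai * hh * a.map τ)
          = ai.map τ * (adjU φ hh * ((a * ai) * hh)) * a.map τ := by
            simp only [Matrix.mul_assoc]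
        _ = 1 := by rw [ha1, Matrix.one_mul, adjU_mul_self hhU, Matrix.mul_one, hτ2]
  obtain ⟨⟨l, hl⟩, hτ⟩ := rigid_mat hn HP j hh' (τ : F →+* F) (by
    intro R₀ hiso h3
    have hsim : R₀ᵀ * M₀ * R₀ = (1 : F₀) • M₀ := by
      have := matrix_eq_of_form (σ := RingHom.id F₀) (M := M₀) (h := R₀) (c := 1)
        (fun u v => by rw [one_mul]; exact hiso u v)
      rwa [map_id_eq] at this
    obtain ⟨S, hS⟩ : ∃ S, S = a * R₀.map j * ai := ⟨_, rfl⟩
    have hSU : IsU φ S := by
      unfold IsU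
      rw [hS, conj_sim_isUS j hjfix ha1 ht0 hM₀ hsim, map_one, one_smul]
    have hSdet : S.det = 1 := by
      rw [hS, Matrix.det_mul, Matrix.det_mul, map_j_det, det_eq_one_of_unipotent R₀ h3, map_one,
        mul_one, ← Matrix.det_mul, ha1, Matrix.det_one]
    obtain ⟨s, hs⟩ : ∃ s : SUg (Fin n) φ, smat φ s = S := ⟨mkS φ S hSU hSdet, rfl⟩
    have hfixs : stdAutQ g hg ψ (hcomm ψ) (mkq φ s) = mkq φ s := by
      apply fix_of_conj_mem_centralizer (conj_injective H r hcomm)
      rw [← stdAutQ_smat hcomm]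
      exact comm_of_conj H hcomm ψ hψ j hjfix hg hμ0 ha1 ha2 hga R₀ (smat_isU φ s)
        (d := 1) (by rw [one_smul, hs, hS])
    have h4 := hfixa _ hfixs
    have h5 : a' * MulAut.conj (mkq φ s) = MulAut.conj (mkq φ s) * a' := by
      have := aut_conj_conj a' (mkq φ s)
      rw [h4] at this
      calc a' * MulAut.conj (mkq φ s) = (a' * MulAut.conj (mkq φ s) * a'⁻¹) * a' := by group
        _ = MulAut.conj (mkq φ s) * a' := by rw [this]
    rw [ha', ← stdAutQ_smat hcomm, stdAutQ_mul hcomm, stdAutQ_mul hcomm] at h5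
    obtain ⟨-, c, hc⟩ := stdAutQ_eq H r hcomm _ _ h5
    rw [map_one_ringAut, hs] at hc
    refine ⟨c, ?_⟩
    rw [hhh']
    have e1 : S.map τ * a.map τ = a.map τ * (R₀.map j).map τ := by
      rw [hS, map_mul_ringEquiv, map_mul_ringEquiv, Matrix.mul_assoc, hτ2, Matrix.mul_one]
    have e2 : ai * S = R₀.map j * ai := by
      rw [hS, ← Matrix.mul_assoc, ← Matrix.mul_assoc, ha2, Matrix.one_mul]
    calc ai * hh * a.map τ * (R₀.map j).map (τ : F →+* F)
        = ai * hh * (a.map τ * (R₀.map j).map τ) := by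
          rw [Matrix.mul_assoc]
          rfl
      _ = ai * (hh * S.map τ) * a.map τ := by
          rw [← e1]
          simp only [Matrix.mul_assoc]
      _ = c • ((ai * S) * hh * a.map τ) := by
          rw [hc, Matrix.mul_smul, Matrix.smul_mul]
          simp only [Matrix.mul_assoc]
      _ = c • (R₀.map j * (ai * hh * a.map τ)) := by
          rw [e2]
          simp only [Matrix.mul_assoc])
  rw [hhh'] at hl
  -- the field automorphism is trivial or the standard one
  have hτz : τ ∈ Subgroup.zpowers ψ := by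
    apply mem_zpowers_of_fixes_fixedField ψ τ
    intro x hx
    rw [hψ] at hx
    obtain ⟨x₀, rfl⟩ := hfix x hx
    exact hτ x₀
  have hψψ : ψ * ψ = 1 := psi_mul_psi H ψ hψ
  have hτ12 : τ = 1 ∨ τ = ψ := by
    obtain ⟨k, hk⟩ := Subgroup.mem_zpowers_iff.1 hτz
    rcases Int.even_or_odd' k with ⟨m, hm | hm⟩
    · left
      rw [← hk, hm, _root_.zpow_mul, zpow_two, hψψ, _root_.one_zpow]
    · right
      rw [← hk, hm, _root_.zpow_add, _root_.zpow_mul, zpow_two, hψψ, _root_.one_zpow, one_mul, zpow_one]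
  have hhh : hh = l • (a * ai.map τ) := by
    calc hh = (a * ai) * hh * (a.map τ * ai.map τ) := by
          rw [ha1, hτ1, Matrix.one_mul, Matrix.mul_one]
      _ = a * (ai * hh * a.map τ) * ai.map τ := by simp only [Matrix.mul_assoc]
      _ = l • (a * ai.map τ) := by
          rw [hl, Matrix.mul_smul, Matrix.smul_mul, Matrix.mul_one]
  rcases hτ12 with hτe | hτe
  · subst hτe
    rw [map_one_ringAut, ha1] at hhh
    have hU' : IsU φ (l • (1 : Matrix (Fin n) (Fin n) F)) := hhh ▸ hhU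
    rw [ha', stdAutQ_congr hcomm hhU hU' hhh rfl, stdAutQ_smul hcomm (isU_one φ) l hU',
      PU.stdAutQ_one]
  · subst hτe
    have hgeq := g_eq hμ0 ha1 hga
    have hhh2 : hh = (l * μ) • g := by
      rw [hhh, map_psi τ hψ, hgeq, smul_smul, mul_assoc, mul_inv_cancel₀ hμ0, mul_one]
    have hU' : IsU φ ((l * μ) • g) := hhh2 ▸ hhU
    have ha'' : a' = stdAutQ g hg τ (hcomm τ) := by
      rw [ha', stdAutQ_congr hcomm hhU hU' hhh2 rfl, stdAutQ_smul hcomm hg (l * μ) hU']
    rw [← ha''] at hsq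
    have h1 : orderOf a' ∣ 2 := orderOf_dvd_of_pow_eq_one (by rw [pow_two]; exact hsq)
    have h2 : orderOf a' = 1 := Nat.eq_one_of_dvd_coprimes hodd dvd_rfl h1
    exact orderOf_eq_one_iff.1 h2

end hyp2

end Cfsg.Agent.Helper2.PUB
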