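import Mathlib
import Cfsg.Agent.Lib.Helper2.Pub8

set_option autoImplicit false
set_option linter.unusedSimpArgs false
set_option linter.unusedVariables false
set_option linter.unusedSectionVars false

/-! Local balance for the unitary groups, part 9: an automorphism of order two fixes an
involution; the centralizer of an involution in the coset of the standard involutory field
automorphism has trivial core. -/

namespace Cfsg.Agent.Helper2.PUB

open Matrix Cfsg.Agent.Helper11 Cfsg.Agent.Helper11.Herm Cfsg.Agent.Helper2.PU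
  Cfsg.Agent.Helper2.PGeo Cfsg.Agent.Helper2.SpA Cfsg.Agent.Helper2.PLB
open Cfsg.Agent.Helper13.FAut (fixedField mem_fixedField)
open Cfsg.Agent.Helper2.PN (jEmb jEmb_apply jEmb_fixed exists_jEmb_eq)

section parity

/-- an involution of a finite type with an even number of elements and a fixed point has a second
fixed point -/
theorem exists_fixed_ne {α : Type*} [Finite α] (f : α → α) (hf : ∀ x, f (f x) = x)
    (heven : 2 ∣ Nat.card α) (x₀ : α) (hx₀ : f x₀ = x₀) : ∃ x, x ≠ x₀ ∧ f x = x := by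
  classical
  have : Fintype α := Fintype.ofFinite α
  have h2 : Fact (Nat.Prime 2) := ⟨Nat.prime_two⟩
  obtain ⟨F, hF⟩ : ∃ F : Function.End α, F = f := ⟨f, rfl⟩
  have hf' : F ^ 2 ^ 1 = 1 := by
    rw [pow_one, pow_two]
    funext x
    show F (F x) = x
    rw [hF]
    exact hf x
  have h1 := Equiv.Perm.card_fixedPoints_modEq (f := F) (p := 2) (n := 1) hf'
  rw [Nat.card_eq_fintype_card] at heven
  have h3 : 2 ∣ Fintype.card (Function.fixedPoints F) :=
    (Nat.modEq_zero_iff_dvd.1 (h1.symm.trans (Nat.modEq_zero_iff_dvd.2 heven)))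
  by_contra hcon
  push Not at hcon
  have h4 : Fintype.card (Function.fixedPoints F) = 1 := by
    rw [Fintype.card_eq_one_iff]
    refine ⟨⟨x₀, by rw [hF]; exact hx₀⟩, ?_⟩
    rintro ⟨y, hy⟩
    apply Subtype.ext
    by_contra hne
    rw [hF] at hy
    exact hcon y hne hy
  rw [h4] at h3
  omega

/-- the number of fixed points of an involution of a finite type with an even number of elements
is even -/
theorem two_dvd_card_fixed {α : Type*} [Finite α] (f : α → α) (hf : ∀ x, f (f x) = x)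
    (heven : 2 ∣ Nat.card α) : 2 ∣ Nat.card {x : α // f x = x} := by
  classical
  have : Fintype α := Fintype.ofFinite α
  have h2 : Fact (Nat.Prime 2) := ⟨Nat.prime_two⟩
  obtain ⟨F, hF⟩ : ∃ F : Function.End α, F = f := ⟨f, rfl⟩
  have hf' : F ^ 2 ^ 1 = 1 := by
    rw [pow_one, pow_two]
    funext x
    show F (F x) = x
    rw [hF]
    exact hf x
  have h1 := Equiv.Perm.card_fixedPoints_modEq (f := F) (p := 2) (n := 1) hf'
  rw [Nat.card_eq_fintype_card] at heven
  have h3 : 2 ∣ Fintype.card (Function.fixedPoints F) :=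
    (Nat.modEq_zero_iff_dvd.1 (h1.symm.trans (Nat.modEq_zero_iff_dvd.2 heven)))
  rw [← Nat.card_eq_fintype_card] at h3
  subst hF
  exact h3

/-- an automorphism of order two of a group of even order fixes an involution -/
theorem two_dvd_card_fix {K : Type*} [Group K] [Finite K] (heven : 2 ∣ Nat.card K)
    (β : MulAut K) (hβ : β * β = 1) :
    2 ∣ Nat.card ↥(MonoidHom.eqLocus β.toMonoidHom (MonoidHom.id K)) := by
  have hE : 2 ∣ Nat.card {x : K // x⁻¹ = x} :=
    two_dvd_card_fixed (fun x : K => x⁻¹) (fun x => inv_inv x) heven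
  have hββ : ∀ x, β (β x) = x := by
    intro x
    have := DFunLike.congr_fun hβ x
    exact this
  obtain ⟨⟨x, hx⟩, hne, hfix⟩ := exists_fixed_ne
    (fun x : {x : K // x⁻¹ = x} => (⟨β x.1, by rw [← map_inv, x.2]⟩ : {x : K // x⁻¹ = x}))
    (fun x => Subtype.ext (hββ x.1)) hE ⟨1, inv_one⟩ (Subtype.ext (map_one β))
  have hfix' : β x = x := congrArg Subtype.val hfix
  have hx1 : x ≠ 1 := fun h => hne (Subtype.ext h)
  have hxx : x * x = 1 := by
    nth_rewrite 1 [← hx]
    exact inv_mul_cancel x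
  have hord : orderOf x = 2 := orderOf_eq_prime (by rw [pow_two]; exact hxx) hx1
  have hmem : x ∈ MonoidHom.eqLocus β.toMonoidHom (MonoidHom.id K) := hfix'
  have := orderOf_dvd_natCard (⟨x, hmem⟩ : ↥(MonoidHom.eqLocus β.toMonoidHom (MonoidHom.id K)))
  rw [Subgroup.orderOf_mk, hord] at this
  exact this

end parity

section even

variable {F : Type*} [Field F] [Finite F] {n : ℕ} {φ : F →+* F}
  (H : HypU φ (Fin n)) (r : ℕ) [Fact r.Prime] [CharP F r]
  (hcomm : ∀ (σ : F ≃+* F) (x : F), σ (φ x) = φ (σ x))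

/-- the diagonal matrix with two entries `-1` -/
def dm (n : ℕ) (F : Type*) [Field F] : Matrix (Fin n) (Fin n) F :=
  Matrix.diagonal (fun i => if (i : ℕ) < 2 then -1 else 1)

omit [Finite F] in
theorem dm_mul_dm : dm n F * dm n F = 1 := by
  unfold dm
  rw [Matrix.diagonal_mul_diagonal, ← Matrix.diagonal_one]
  congr 1
  funext i
  split_ifs <;> simp

omit [Finite F] in
theorem dm_isU : IsU φ (dm n F) := by
  unfold IsU
  have h1 : (dm n F).map φ = dm n F := by
    unfold dm
    rw [Matrix.diagonal_map (map_zero φ)]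
    congr 1
    funext i
    split_ifs <;> simp
  have h2 : (dm n F)ᵀ = dm n F := by
    unfold dm
    rw [Matrix.diagonal_transpose]
  rw [h1, h2, dm_mul_dm]

omit [Finite F] in
theorem dm_det (hn : 2 ≤ n) : (dm n F).det = 1 := by
  obtain ⟨m, rfl⟩ : ∃ m, n = m + 2 := ⟨n - 2, by omega⟩
  unfold dm
  rw [Matrix.det_diagonal, Fin.prod_univ_succ, Fin.prod_univ_succ]
  simp

include H r hcomm in
/-- the order of the projective special unitary group is even in odd characteristic -/
theorem two_dvd_card_PGq (hn : 3 ≤ n) (h2 : (2 : F) ≠ 0) : 2 ∣ Nat.card (PGq φ (Fin n)) := by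
  obtain ⟨s, hs⟩ : ∃ s : SUg (Fin n) φ, smat φ s = dm n F :=
    ⟨mkS φ (dm n F) dm_isU (dm_det (by omega)), rfl⟩
  have hss : s * s = 1 := by
    apply sug_ext
    rw [smat_mul, hs, dm_mul_dm]
    rfl
  have hne : mkq φ s ≠ 1 := by
    intro h1
    have h3 : MulAut.conj (mkq φ s) = 1 := by rw [h1, map_one]
    rw [← stdAutQ_smat hcomm, ← PU.stdAutQ_one hcomm] at h3
    obtain ⟨-, c, hc⟩ := stdAutQ_eq H r hcomm _ _ h3
    rw [hs] at hc
    have e0 := congrFun (congrFun hc ⟨0, by omega⟩) ⟨0, by omega⟩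
    have e2 := congrFun (congrFun hc ⟨2, by omega⟩) ⟨2, by omega⟩
    unfold dm at e0 e2
    rw [Matrix.diagonal_apply_eq, Matrix.smul_apply, Matrix.one_apply_eq, smul_eq_mul,
      mul_one] at e0 e2
    simp only [Nat.ofNat_pos, if_true, lt_self_iff_false, if_false] at e0 e2
    apply h2
    rw [← e0] at e2
    linear_combination e2
  have hord : orderOf (mkq φ s) = 2 := by
    apply orderOf_eq_prime _ hne
    rw [pow_two, ← map_mul, hss, map_one]
  rw [← hord]
  exact orderOf_dvd_natCard _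

end even

section final

variable {F : Type*} [Field F] [Finite F] {n : ℕ} {φ : F →+* F}
  (H : HypU φ (Fin n)) (r : ℕ) [Fact r.Prime] [CharP F r]
  (hcomm : ∀ (σ : F ≃+* F) (x : F), σ (φ x) = φ (σ x))
  (ψ : F ≃+* F) (hψ : ∀ x, ψ x = φ x)

include H r hψ in
/-- **the centralizer of an involution in the coset of the standard involutory field
automorphism has trivial core** -/
theorem core_bot_invol (hn : 3 ≤ n) (h2 : (2 : F) ≠ 0) {g : Matrix (Fin n) (Fin n) F}
    (hg : IsU φ g)
    (hsq : stdAutQ g hg ψ (hcomm ψ) * stdAutQ g hg ψ (hcomm ψ) = 1)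
    (A : Subgroup (MulAut (PGq φ (Fin n)))) (hinn : ∀ k, MulAut.conj k ∈ A)
    (N : Subgroup (MulAut (PGq φ (Fin n))))
    (hN : N ≤ A ⊓ Subgroup.centralizer {stdAutQ g hg ψ (hcomm ψ)})
    (hcard : (Nat.card N).Coprime 2)
    (hnorm : ∀ h ∈ A ⊓ Subgroup.centralizer {stdAutQ g hg ψ (hcomm ψ)}, ∀ x ∈ N,
      h * x * h⁻¹ ∈ N) : N = ⊥ := by
  obtain ⟨c, hcc, hgc, hgT⟩ := sq_data H r hcomm ψ hψ hg hsq
  obtain ⟨μ, a, ai, hμ0, hμ, ha1, ha2, hga⟩ := exists_lang H ψ hψ hg hcc hgc
  obtain ⟨hH1, hH2⟩ := herm_data H hg hμ hga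
  obtain ⟨t, ht0, ht⟩ : ∃ t : F, t ≠ 0 ∧ φ t = c * t := by
    rcases mul_self_eq_one_iff.1 hcc with h | h
    · exact ⟨1, one_ne_zero, by rw [h, map_one, one_mul]⟩
    · obtain ⟨t, ht0, ht⟩ := H.exists_trace_zero
      exact ⟨t, ht0, by rw [h]; linear_combination ht⟩
  have hdet : (aᵀ * a.map φ).det ≠ 0 := by
    have h1 : (aᵀ * a.map φ) * (ai.map φ * aiᵀ) = 1 := by
      calc (aᵀ * a.map φ) * (ai.map φ * aiᵀ) = aᵀ * ((a.map φ * ai.map φ) * aiᵀ) := by
            simp only [Matrix.mul_assoc]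
        _ = 1 := by
            rw [map_a_mul_map_ai ha1, Matrix.one_mul, ← Matrix.transpose_mul, ha2,
              Matrix.transpose_one]
    intro h0
    have := congrArg Matrix.det h1
    rw [Matrix.det_mul, h0, zero_mul, Matrix.det_one] at this
    exact zero_ne_one this
  obtain ⟨j, hj⟩ : ∃ j : fixedField ψ →+* F, j = jEmb ψ (RingEquiv.refl (fixedField ψ)) :=
    ⟨_, rfl⟩
  have hjfix : ∀ x, φ (j x) = j x := by
    intro x
    rw [← hψ, hj]
    exact jEmb_fixed ψ _ x
  have hfix : ∀ x, φ x = x → ∃ x₀, j x₀ = x := by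
    intro x hx
    rw [hj]
    exact exists_jEmb_eq ψ _ x (by rw [hψ]; exact hx)
  obtain ⟨M₀, hM₀, hdet₀, hsa⟩ := form_data j hjfix hfix hcc ht0 ht hH1 hH2 hdet
  have h2₀ : (2 : fixedField ψ) ≠ 0 := by
    intro h0
    apply h2
    have := congrArg j h0
    rwa [map_ofNat, map_zero] at this
  obtain ⟨ε, HP⟩ := polar_of_form hn h2₀ hdet₀
    (by
      rcases hsa with ⟨-, h⟩ | ⟨-, h⟩
      · exact Or.inl h
      · exact Or.inr h)
  have hfinK : Finite (PGq φ (Fin n)) := inferInstance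
  exact core_bot_of_fix 2 (conj_injective H r hcomm) A hinn (stdAutQ g hg ψ (hcomm ψ))
    (fun R hR hodd hinv =>
      odd_inv_botU H r hcomm ψ hψ j hjfix hfix hg hμ0 ha1 ha2 hga ht0 hM₀ hn HP R hR hodd hinv)
    (fun a' hodd hfixa =>
      odd_fix_eq_oneU H r hcomm ψ hψ j hjfix hfix hg hμ0 ha1 ha2 hga ht0 hM₀ hn HP hsq a' hodd
        hfixa)
    N hN hcard hnorm

end final

end Cfsg.Agent.Helper2.PUB
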