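import Mathlib
import Cfsg.Agent.Lib.Helper2.Pua9
import Cfsg.Agent.Lib.Helper2.Pub9

set_option autoImplicit false
set_option linter.unusedSimpArgs false
set_option linter.unusedVariables false
set_option linter.unusedSectionVars false

/-! Local balance for the unitary groups, part 10: the concrete hypotheses for finite fields and
the criterion for a general subgroup equal to the special unitary group. -/

namespace Cfsg.Agent.Helper2.PUA

open Matrix Cfsg.Agent.Helper11 Cfsg.Agent.Helper11.Herm Cfsg.Agent.Helper2.PU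
open Cfsg.Agent.Helper2.SpA (fix_conj_mem_centralizer fix_of_conj_mem_centralizer aut_conj_conj
  card_eqLocus_conj mem_zpowers_of_fixes_fixedField pPrimeCore_ne_bot_iff)
open Cfsg.Agent.Helper13.FAut (fixedField mem_fixedField card_fixedField)

section concrete

variable {F : Type*} [Field F] [Fintype F]

/-- the only involution among the automorphisms of a field with `q²` elements is the Frobenius
map of `q` -/
theorem invol_eq_frob {q : ℕ} (hF : Fintype.card F = q ^ 2) (φ : F →+* F)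
    (hφ : ∀ x, φ x = x ^ q) (σ : RingAut F) (hσσ : σ * σ = 1) (hσ1 : σ ≠ 1) (x : F) :
    σ x = φ x := by
  have hφφ := frob_frob hF φ hφ
  have hφid := frob_ne_id hF φ hφ
  have hord : orderOf σ = 2 := orderOf_eq_prime (by rw [pow_two]; exact hσσ) hσ1
  have hcard : Nat.card (fixedField σ) = q := card_fixedField σ 2 q (by norm_num) hord hF
  obtain ⟨ψ, hψ⟩ : ∃ ψ : F ≃+* F, ∀ x, ψ x = φ x :=
    ⟨RingEquiv.ofRingHom φ φ (RingHom.ext hφφ) (RingHom.ext hφφ), fun x => rfl⟩
  have hfix : ∀ a, σ a = a → ψ a = a := by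
    intro a ha
    have : Fintype (fixedField σ) := Fintype.ofFinite _
    have h1 : Fintype.card (fixedField σ) = q := by rw [← Nat.card_eq_fintype_card, hcard]
    have h2 := FiniteField.pow_card (⟨a, (mem_fixedField σ a).2 ha⟩ : fixedField σ)
    rw [h1] at h2
    have h3 := congrArg (fun y : fixedField σ => (y : F)) h2
    simp only [SubmonoidClass.coe_pow] at h3
    rw [hψ, hφ]
    exact h3
  have hz := mem_zpowers_of_fixes_fixedField σ ψ hfix
  obtain ⟨k, hk⟩ := Subgroup.mem_zpowers_iff.1 hz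
  rcases Int.even_or_odd' k with ⟨m, hm | hm⟩
  · exfalso
    apply hφid
    have h1 : ψ = 1 := by rw [← hk, hm, _root_.zpow_mul, zpow_two, hσσ, _root_.one_zpow]
    ext y
    rw [← hψ, h1]
    rfl
  · have h1 : ψ = σ := by
      rw [← hk, hm, _root_.zpow_add, _root_.zpow_mul, zpow_two, hσσ, _root_.one_zpow, one_mul,
        zpow_one]
    rw [← hψ, h1]

/-- **the criterion for field automorphisms of odd prime order**, for finite fields -/
theorem odd_case {r f q ℓ : ℕ} [Fact r.Prime] [CharP F r] (hq : q = r ^ f)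
    (hF : Fintype.card F = q ^ 2) (φ : F →+* F) (hφ : ∀ x, φ x = x ^ q) {n : ℕ} (hn : 3 ≤ n)
    (H : HypU φ (Fin n)) (hcomm : ∀ (σ : F ≃+* F) (x : F), σ (φ x) = φ (σ x))
    (σ : RingAut F) (hℓ : ℓ.Prime) (hℓo : Odd ℓ) (hℓr : ℓ ≠ r) (hord : orderOf σ = ℓ)
    (A : Subgroup (MulAut (PGq φ (Fin n)))) (hinn : ∀ k : PGq φ (Fin n), MulAut.conj k ∈ A)
    (a : MulAut (PGq φ (Fin n))) :
    (∃ N : Subgroup (MulAut (PGq φ (Fin n))),
      N ≤ A ⊓ Subgroup.centralizer {a * phiU hcomm σ * a⁻¹} ∧ N ≠ ⊥ ∧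
      (Nat.card N).Coprime ℓ ∧
      ∀ h ∈ A ⊓ Subgroup.centralizer {a * phiU hcomm σ * a⁻¹}, ∀ n ∈ N, h * n * h⁻¹ ∈ N) ↔
    Nat.Coprime ℓ (Nat.card ↥(MonoidHom.eqLocus (a * phiU hcomm σ * a⁻¹).toMonoidHom
      (MonoidHom.id (PGq φ (Fin n))))) := by
  have hr : r.Prime := Fact.out
  have hS := sigHyp_concrete (ι := Fin n) hq hF φ hφ σ hℓ hℓo hord
  have hF' : Fintype.card F = r ^ (2 * f) := by rw [hF, hq, ← pow_mul, mul_comm]
  have hℓf : ℓ ∣ f := by
    have h1 := orderOf_dvd_natCard σ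
    rw [hord, Cfsg.Agent.Helper2.OutCongr.card_ringEquiv hF'] at h1
    have hcop : Nat.Coprime ℓ 2 := by
      rw [Nat.coprime_two_right]
      exact hℓo
    exact hcop.dvd_of_dvd_mul_left h1
  have hcardfix : Nat.card (fixedField σ) = r ^ (2 * (f / ℓ)) :=
    card_fixedField σ ℓ (r ^ (2 * (f / ℓ))) hℓ.pos hord
      (by rw [hF', ← pow_mul, mul_assoc, Nat.div_mul_cancel hℓf])
  have : Fintype (fixedField σ) := Fintype.ofFinite _
  have hF₀ : Fintype.card (fixedField σ) = r ^ (2 * (f / ℓ)) := by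
    rw [← Nat.card_eq_fintype_card, hcardfix]
  have hF₀' : Fintype.card (fixedField σ) = (r ^ (f / ℓ)) ^ 2 := by
    rw [hF₀, ← pow_mul, mul_comm]
  obtain ⟨φ₀, hφ₀⟩ := exists_frob hF₀'
  obtain ⟨-, j, D⟩ := exists_desc hq hF φ hφ σ hℓ hℓo hord hF₀ φ₀ hφ₀
  apply core_criterionU H r hcomm D hℓ hℓr hS ?_ A hinn a
  intro hdvd
  by_cases h32 : n = 3 ∧ r ^ (f / ℓ) = 2
  · right
    obtain ⟨hn3, hq₀⟩ := h32
    subst hn3
    have hr2 : r = 2 := by
      have h0 : f / ℓ ≠ 0 := by
        intro h0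
        rw [h0, pow_zero] at hq₀
        omega
      have h1 : r ∣ 2 := by
        rw [← hq₀]
        exact dvd_pow_self r h0
      exact (Nat.prime_dvd_prime_iff_eq hr Nat.prime_two).1 h1
    have hchar₀ : CharP (fixedField σ) r := RingHom.charP j j.injective r
    constructor
    · have h1 : ((r : ℕ) : fixedField σ) = 0 := CharP.cast_eq_zero _ r
      rw [hr2] at h1
      exact_mod_cast h1
    · have h648 : guOrder 2 3 = 2 ^ 3 * 3 ^ 4 := by
        unfold guOrder
        simp [Finset.prod_range_succ]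
      rw [card_UG_fin hF₀' φ₀ hφ₀ 3, hq₀, h648] at hdvd
      rcases (Nat.Prime.dvd_mul hℓ).1 hdvd with h1 | h1
      · exfalso
        have h2 := (Nat.prime_dvd_prime_iff_eq hℓ Nat.prime_two).1 (hℓ.dvd_of_dvd_pow h1)
        exact hℓr (h2.trans hr2.symm)
      · exact (Nat.prime_dvd_prime_iff_eq hℓ Nat.prime_three).1 (hℓ.dvd_of_dvd_pow h1)
  · left
    exact (hypU_of_card hF₀' φ₀ hφ₀ hn h32).hgen

end concrete

end Cfsg.Agent.Helper2.PUA
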