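import Mathlib
import Cfsg.Agent.Lib.Helper2.Pua10

set_option autoImplicit false
set_option linter.unusedSimpArgs false
set_option linter.unusedVariables false
set_option linter.unusedSectionVars false

/-! Local balance for the unitary groups, part 11: the final statement for a general pair of
subgroups equal to the special unitary and the general unitary group. -/

namespace Cfsg.Agent.Helper2.PUA

open Matrix Cfsg.Agent.Helper11 Cfsg.Agent.Helper11.Herm Cfsg.Agent.Helper2.PU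
open Cfsg.Agent.Helper2.SpA (pPrimeCore_ne_bot_iff)
open Cfsg.Agent.Helper2.PUB (core_bot_invol two_dvd_card_fix two_dvd_card_PGq)

/-- **local balance for the projective special unitary groups** -/
theorem local_balance_general {F : Type*} [Field F] [Fintype F] {r f q : ℕ} [Fact r.Prime]
    [CharP F r] (hq : q = r ^ f) (hF : Fintype.card F = q ^ 2) (φ : F →+* F)
    (hφ : ∀ x, φ x = x ^ q) {n : ℕ} (hn : 3 ≤ n) (H : HypU φ (Fin n))
    (hcomm : ∀ (σ : F ≃+* F) (x : F), σ (φ x) = φ (σ x))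
    (S : Subgroup (Matrix.SpecialLinearGroup (Fin n) F)) (hS : S = SUg (Fin n) φ)
    (U : Subgroup (GL (Fin n) F)) (hU : U = UG (Fin n) φ)
    (𝒢 : Subgroup (MulAut (S ⧸ Subgroup.center S)))
    (hinn : ∀ k : S ⧸ Subgroup.center S, MulAut.conj k ∈ 𝒢)
    (p : ℕ) [Fact p.Prime] (hpr : p ≠ r) (β : MulAut (S ⧸ Subgroup.center S)) (hβ : β ∈ 𝒢)
    (hord : orderOf β = p) (hnot : ¬ IsInnDiagS S U β) :
    Cfsg.pPrimeCore p ↥(𝒢 ⊓ Subgroup.centralizer {β}) ≠ ⊥ ↔
      ((∃ γ φ' : MulAut (S ⧸ Subgroup.center S), IsInnDiagS S U γ ∧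
          (∃ σ : F ≃+* F, IsFieldAutS S σ φ') ∧ β = φ'.trans γ) ∧
        Nat.Coprime p (Nat.card ↥(MonoidHom.eqLocus β.toMonoidHom
          (MonoidHom.id (S ⧸ Subgroup.center S))))) := by
  subst hS hU
  have hp : p.Prime := Fact.out
  have hr : r.Prime := Fact.out
  rw [pPrimeCore_ne_bot_iff p (𝒢 ⊓ Subgroup.centralizer {β})]
  obtain ⟨σ, g, hg, hβe⟩ := exists_stdAutQ H r hcomm β
  have hβe' : β = psiU hcomm (toUG hg) * phiU hcomm σ := by
    rw [psiU_mul_phiU]
    exact hβe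
  have hfield : ∃ γ φ' : MulAut (PGq φ (Fin n)), IsInnDiagS (SUg (Fin n) φ) (UG (Fin n) φ) γ ∧
      (∃ σ : F ≃+* F, IsFieldAutS (SUg (Fin n) φ) σ φ') ∧ β = φ'.trans γ :=
    ⟨psiU hcomm (toUG hg), phiU hcomm σ, (isInnDiagS_iff hcomm _).2 ⟨_, rfl⟩,
      ⟨σ, (isFieldAutS_iff hcomm σ _).2 rfl⟩, hβe'⟩
  have hσ1 : σ ≠ 1 := by
    rintro rfl
    apply hnot
    rw [isInnDiagS_iff hcomm]
    exact ⟨toUG hg, by rw [hβe', map_one, mul_one]⟩
  have hpow : (psiU hcomm (toUG hg) * phiU hcomm σ) ^ p = 1 := by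
    rw [← hβe', ← hord]
    exact pow_orderOf_eq_one β
  have hσp : σ ^ p = 1 := by
    have h1 := hpow
    rw [pow_psiU_mul_phiU] at h1
    have h2 : psiU hcomm (gnormU hcomm σ (toUG hg) p) * phiU hcomm (σ ^ p) =
        psiU hcomm 1 * phiU (ι := Fin n) hcomm 1 := by
      rw [h1, map_one, map_one, one_mul]
    exact (eq_of_psiU_mul_phiU_eq H r hcomm h2).1
  have hordσ : orderOf σ = p := orderOf_eq_prime hσp hσ1
  rcases hp.eq_two_or_odd' with hp2 | hodd
  · -- the involutions: both sides are false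
    subst hp2
    have hσσ : σ * σ = 1 := by rw [← pow_two]; exact hσp
    have hψ : ∀ x, σ x = φ x := invol_eq_frob hF φ hφ σ hσσ hσ1
    have h2 : (2 : F) ≠ 0 := by
      intro h
      have h1 : ((2 : ℕ) : F) = 0 := by exact_mod_cast h
      rw [CharP.cast_eq_zero_iff F r 2] at h1
      exact hpr ((Nat.prime_dvd_prime_iff_eq hr Nat.prime_two).1 h1).symm
    have hsq : β * β = 1 := by
      rw [← pow_two, ← hord]
      exact pow_orderOf_eq_one β
    constructor
    · rintro ⟨N, hNC, hne, hcop, hnorm⟩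
      exfalso
      apply hne
      rw [hβe] at hNC hnorm hsq
      exact core_bot_invol H r hcomm σ hψ hn h2 hg hsq 𝒢 hinn N hNC hcop hnorm
    · rintro ⟨-, hcop⟩
      exfalso
      have h1 := two_dvd_card_fix (two_dvd_card_PGq H r hcomm hn h2) β hsq
      have h3 : (2 : ℕ) ∣ 1 := by
        have := Nat.dvd_gcd (dvd_refl 2) h1
        rwa [Nat.Coprime.gcd_eq_one hcop] at this
      omega
  · -- odd order: the field automorphisms
    have hSig := sigHyp_concrete (ι := Fin n) hq hF φ hφ σ hp hodd hordσ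
    obtain ⟨h, hh⟩ := exists_conj_phiU H r hcomm σ p hSig (toUG hg) hpow
    have hcrit := odd_case hq hF φ hφ hn H hcomm σ hp hodd hpr hordσ 𝒢 hinn (psiU hcomm h)
    rw [← hh, ← hβe'] at hcrit
    rw [hcrit]
    exact ⟨fun h => ⟨hfield, h⟩, fun h => h.2⟩

end Cfsg.Agent.Helper2.PUA
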