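import Mathlib
import Cfsg.Agent.Lib.Helper2.Psu30
import Cfsg.Agent.Lib.Helper2.Pgr13

set_option autoImplicit false
set_option linter.unusedSimpArgs false
set_option linter.unusedVariables false
set_option linter.unusedSectionVars false

/-! Involutory graph automorphisms of the unitary groups, part 1: the automorphisms
`s ↦ M⁻¹ (s⁻¹)ᵀ M`. -/

namespace Cfsg.Agent.Helper2.PUG

open Matrix Cfsg.Agent.Helper11 Cfsg.Agent.Helper11.Herm Cfsg.Agent.Helper2.PU

section basic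

variable {F : Type*} [Field F] [Finite F] {ι : Type*} [Fintype ι] [DecidableEq ι] {φ : F →+* F}
  (hcomm : ∀ (σ : F ≃+* F) (x : F), σ (φ x) = φ (σ x))
  (σ₀ : RingAut F) (hσ₀ : ∀ x, σ₀ x = φ x)

/-- the graph automorphism attached to a unitary matrix -/
noncomputable def grU (M : UG ι φ) : MulAut (PGq φ ι) := psiU hcomm M⁻¹ * phiU hcomm σ₀

omit [Finite F] in
include hσ₀ in
theorem map_sig_eq (X : Matrix ι ι F) : X.map σ₀ = X.map φ := by
  ext i j
  exact hσ₀ _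

include hσ₀ in
/-- the inverse of the conjugate of a unitary matrix is its transpose -/
theorem sigU_inv_val (h : UG ι φ) :
    ((((sigU hcomm σ₀ h)⁻¹ : UG ι φ) : GL ι F) : Matrix ι ι F) =
      ((h : GL ι F) : Matrix ι ι F)ᵀ := by
  rw [Subgroup.coe_inv]
  apply Units.inv_eq_of_mul_eq_one_left
  rw [sigU_val, map_sig_eq σ₀ hσ₀]
  exact h.2

/-- the congruence action of the unitary group on itself -/
noncomputable def congU (h M : UG ι φ) : UG ι φ := (sigU hcomm σ₀ h)⁻¹ * M * h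

include hσ₀ in
theorem congU_val (h M : UG ι φ) :
    (((congU hcomm σ₀ h M : UG ι φ) : GL ι F) : Matrix ι ι F) =
      ((h : GL ι F) : Matrix ι ι F)ᵀ * ((M : GL ι F) : Matrix ι ι F) *
        ((h : GL ι F) : Matrix ι ι F) := by
  unfold congU
  rw [Subgroup.coe_mul, Subgroup.coe_mul, Units.val_mul, Units.val_mul,
    sigU_inv_val hcomm σ₀ hσ₀]

/-- conjugating a graph automorphism by an inner-diagonal automorphism -/
theorem conj_grU (h M : UG ι φ) :
    (psiU hcomm h)⁻¹ * grU hcomm σ₀ M * psiU hcomm h = grU hcomm σ₀ (congU hcomm σ₀ h M) := by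
  unfold grU congU
  rw [mul_assoc, mul_assoc, phiU_mul_psiU, ← mul_assoc, ← mul_assoc, ← map_inv, ← map_mul,
    ← map_mul]
  congr 2
  group

end basic

section withhyp

variable {F : Type*} [Field F] [Finite F] {ι : Type*} [Fintype ι] [DecidableEq ι] {φ : F →+* F}
  (H : HypU φ ι) (p : ℕ) [Fact p.Prime] [CharP F p]
  (hcomm : ∀ (σ : F ≃+* F) (x : F), σ (φ x) = φ (σ x))
  (σ₀ : RingAut F) (hσ₀ : ∀ x, σ₀ x = φ x)

include H p

/-- proportional unitary matrices induce the same automorphism -/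
theorem psiU_eq_of_smul (g g' : UG ι φ) (c : F)
    (h : ((g : GL ι F) : Matrix ι ι F) = c • ((g' : GL ι F) : Matrix ι ι F)) :
    psiU hcomm g = psiU hcomm g' := by
  rw [psiU_apply, psiU_apply]
  have hcg : IsU φ (c • ((g' : GL ι F) : Matrix ι ι F)) := by
    rw [← h]
    exact g.2
  rw [← stdAutQ_smul hcomm g'.2 c hcg]
  exact stdAutQ_congr hcomm _ _ h rfl

theorem psiU_eq_iff (g g' : UG ι φ) :
    psiU hcomm g = psiU hcomm g' ↔
      ∃ c : F, ((g : GL ι F) : Matrix ι ι F) = c • ((g' : GL ι F) : Matrix ι ι F) := by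
  constructor
  · intro h
    have h1 : psiU hcomm g * phiU hcomm 1 = psiU hcomm g' * phiU hcomm 1 := by rw [h]
    exact (eq_of_psiU_mul_phiU_eq H p hcomm h1).2
  · rintro ⟨c, hc⟩
    exact psiU_eq_of_smul H p hcomm g g' c hc

/-- two matrices give the same graph automorphism iff they are proportional -/
theorem grU_eq_iff (M M' : UG ι φ) :
    grU hcomm σ₀ M = grU hcomm σ₀ M' ↔
      ∃ c : F, ((M' : GL ι F) : Matrix ι ι F) = c • ((M : GL ι F) : Matrix ι ι F) := by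
  unfold grU
  rw [mul_left_inj, psiU_eq_iff H p hcomm]
  constructor
  · rintro ⟨c, hc⟩
    refine ⟨c, ?_⟩
    have h1 : ((M' : GL ι F) : Matrix ι ι F) * (((M⁻¹ : UG ι φ) : GL ι F) : Matrix ι ι F) *
        ((M : GL ι F) : Matrix ι ι F) =
        ((M' : GL ι F) : Matrix ι ι F) * (c • (((M'⁻¹ : UG ι φ) : GL ι F) : Matrix ι ι F)) *
        ((M : GL ι F) : Matrix ι ι F) := by rw [hc]
    rw [Matrix.mul_assoc, Subgroup.coe_inv, ← Units.val_mul, inv_mul_cancel, Units.val_one,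
      Matrix.mul_one, Matrix.mul_smul, Subgroup.coe_inv, ← Units.val_mul, mul_inv_cancel,
      Units.val_one, Matrix.smul_mul, Matrix.one_mul] at h1
    exact h1
  · rintro ⟨c, hc⟩
    refine ⟨c, ?_⟩
    have h1 : (((M⁻¹ : UG ι φ) : GL ι F) : Matrix ι ι F) * ((M' : GL ι F) : Matrix ι ι F) *
        (((M'⁻¹ : UG ι φ) : GL ι F) : Matrix ι ι F) =
        (((M⁻¹ : UG ι φ) : GL ι F) : Matrix ι ι F) * (c • ((M : GL ι F) : Matrix ι ι F)) *
        (((M'⁻¹ : UG ι φ) : GL ι F) : Matrix ι ι F) := by rw [hc]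
    rw [Matrix.mul_assoc, Subgroup.coe_inv, Subgroup.coe_inv, ← Units.val_mul, mul_inv_cancel,
      Units.val_one, Matrix.mul_one, Matrix.mul_smul, ← Units.val_mul, inv_mul_cancel,
      Units.val_one, Matrix.smul_mul, Matrix.one_mul] at h1
    rw [Subgroup.coe_inv, Subgroup.coe_inv]
    exact h1

include hσ₀ in
/-- the centralizer of a graph automorphism in the inner-diagonal group -/
theorem comm_grU_iff (M h : UG ι φ) :
    psiU hcomm h ∈ Subgroup.centralizer {grU hcomm σ₀ M} ↔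
      ∃ c : F, ((h : GL ι F) : Matrix ι ι F)ᵀ * ((M : GL ι F) : Matrix ι ι F) *
        ((h : GL ι F) : Matrix ι ι F) = c • ((M : GL ι F) : Matrix ι ι F) := by
  rw [Subgroup.mem_centralizer_singleton_iff]
  have h1 : psiU hcomm h * grU hcomm σ₀ M = grU hcomm σ₀ M * psiU hcomm h ↔
      grU hcomm σ₀ M = grU hcomm σ₀ (congU hcomm σ₀ h M) := by
    rw [← conj_grU]
    constructor
    · intro h3
      rw [mul_assoc, ← h3, ← mul_assoc, inv_mul_cancel, one_mul]
    · intro h3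
      calc psiU hcomm h * grU hcomm σ₀ M
          = psiU hcomm h * ((psiU hcomm h)⁻¹ * grU hcomm σ₀ M * psiU hcomm h) := by rw [← h3]
        _ = grU hcomm σ₀ M * psiU hcomm h := by group
  rw [h1, grU_eq_iff H p hcomm, congU_val hcomm σ₀ hσ₀]

end withhyp

section invol

variable {F : Type*} [Field F] [Finite F] {ι : Type*} [Fintype ι] [DecidableEq ι] {φ : F →+* F}
  (H : HypU φ ι) (p : ℕ) [Fact p.Prime] [CharP F p]
  (hcomm : ∀ (σ : F ≃+* F) (x : F), σ (φ x) = φ (σ x))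
  (σ₀ : RingAut F) (hσ₀ : ∀ x, σ₀ x = φ x)

/-- graph automorphisms, for a general pair of subgroups -/
def IsGraphAutS (S : Subgroup (Matrix.SpecialLinearGroup ι F)) (U : Subgroup (GL ι F))
    (β : MulAut (S ⧸ Subgroup.center S)) : Prop :=
  ∃ (δ φ₁ : MulAut (S ⧸ Subgroup.center S)) (σ : F ≃+* F),
    Even (orderOf σ) ∧ IsInnDiagS S U δ ∧ IsFieldAutS S σ φ₁ ∧ β = δ * φ₁

include H hσ₀

omit [Finite F] p in
theorem sig_sq : σ₀ * σ₀ = 1 := by
  ext x
  rw [RingAut.mul_apply, hσ₀, hσ₀, H.hφφ]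
  rfl

omit [Finite F] p in
theorem sig_ne_one : σ₀ ≠ 1 := by
  intro h
  apply H.hφ
  ext x
  rw [← hσ₀, h]
  rfl

omit [Finite F] p in
theorem orderOf_sig : orderOf σ₀ = 2 :=
  orderOf_eq_prime (by rw [pow_two]; exact sig_sq H σ₀ hσ₀) (sig_ne_one H σ₀ hσ₀)

include p

theorem grU_sq (M : UG ι φ) :
    grU hcomm σ₀ M * grU hcomm σ₀ M = psiU hcomm (M⁻¹ * (sigU hcomm σ₀ M)⁻¹) := by
  have h1 := pow_psiU_mul_phiU hcomm σ₀ M⁻¹ 2
  rw [pow_two, pow_two, sig_sq H σ₀ hσ₀, map_one, mul_one] at h1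
  unfold grU
  rw [h1]
  congr 1
  change M⁻¹ * sigU hcomm σ₀ (M⁻¹ * sigU hcomm σ₀ 1) = _
  rw [map_one, mul_one, map_inv]

/-- the graph automorphism is an involution iff the matrix is symmetric or skew-symmetric -/
theorem grU_sq_iff (M : UG ι φ) :
    grU hcomm σ₀ M * grU hcomm σ₀ M = 1 ↔
      ∃ l : F, l * l = 1 ∧ ((M : GL ι F) : Matrix ι ι F)ᵀ = l • ((M : GL ι F) : Matrix ι ι F) := by
  have hne : Nonempty ι := nonempty_of_hyp H
  rw [grU_sq H p hcomm σ₀ hσ₀, psiU_eq_one_iff H p hcomm, Subgroup.coe_mul, Units.val_mul,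
    sigU_inv_val hcomm σ₀ hσ₀]
  have key : ∀ c : F, (((M⁻¹ : UG ι φ) : GL ι F) : Matrix ι ι F) *
      ((M : GL ι F) : Matrix ι ι F)ᵀ = c • (1 : Matrix ι ι F) ↔
      ((M : GL ι F) : Matrix ι ι F)ᵀ = c • ((M : GL ι F) : Matrix ι ι F) := by
    intro c
    constructor
    · intro h
      have h1 : ((M : GL ι F) : Matrix ι ι F) * ((((M⁻¹ : UG ι φ) : GL ι F) : Matrix ι ι F) *
          ((M : GL ι F) : Matrix ι ι F)ᵀ) = ((M : GL ι F) : Matrix ι ι F) *
          (c • (1 : Matrix ι ι F)) := by rw [h]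
      rw [← Matrix.mul_assoc, Subgroup.coe_inv, ← Units.val_mul, mul_inv_cancel, Units.val_one,
        Matrix.one_mul, Matrix.mul_smul, Matrix.mul_one] at h1
      exact h1
    · intro h
      rw [h, Matrix.mul_smul, Subgroup.coe_inv, ← Units.val_mul, inv_mul_cancel, Units.val_one]
  constructor
  · rintro ⟨c, hc⟩
    have hc' := (key c).1 hc
    refine ⟨c, ?_, hc'⟩
    have h1 : ((M : GL ι F) : Matrix ι ι F) = (c * c) • ((M : GL ι F) : Matrix ι ι F) := by
      have := congrArg Matrix.transpose hc'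
      rw [Matrix.transpose_transpose, Matrix.transpose_smul, hc', smul_smul] at this
      exact this
    have h3 : (c * c - 1) • ((M : GL ι F) : Matrix ι ι F) = 0 := by
      rw [sub_smul, one_smul, ← h1, sub_self]
    rcases smul_eq_zero.1 h3 with h4 | h4
    · exact sub_eq_zero.1 h4
    · exfalso
      have h5 := (Matrix.isUnits_det_units (M : GL ι F)).ne_zero
      change ((M : GL ι F) : Matrix ι ι F).det ≠ 0 at h5
      rw [h4, Matrix.det_zero] at h5
      exact h5 rfl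
  · rintro ⟨l, -, hl⟩
    exact ⟨l, (key l).2 hl⟩

theorem grU_ne_one (M : UG ι φ) : grU hcomm σ₀ M ≠ 1 := by
  intro h
  have h1 : psiU hcomm M⁻¹ * phiU hcomm σ₀ = psiU hcomm 1 * phiU hcomm 1 := by
    rw [map_one, map_one, one_mul]
    exact h
  exact sig_ne_one H σ₀ hσ₀ (eq_of_psiU_mul_phiU_eq H p hcomm h1).1

theorem orderOf_grU (M : UG ι φ) (l : F) (hl : l * l = 1)
    (hM : ((M : GL ι F) : Matrix ι ι F)ᵀ = l • ((M : GL ι F) : Matrix ι ι F)) :
    orderOf (grU hcomm σ₀ M) = 2 :=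
  orderOf_eq_prime (by rw [pow_two]; exact (grU_sq_iff H p hcomm σ₀ hσ₀ M).2 ⟨l, hl, hM⟩)
    (grU_ne_one H p hcomm σ₀ hσ₀ M)

theorem isGraphAutS_grU (M : UG ι φ) : IsGraphAutS (SUg ι φ) (UG ι φ) (grU hcomm σ₀ M) :=
  ⟨psiU hcomm M⁻¹, phiU hcomm σ₀, σ₀, by rw [orderOf_sig H σ₀ hσ₀]; exact even_two,
    (isInnDiagS_iff hcomm _).2 ⟨_, rfl⟩, (isFieldAutS_iff hcomm σ₀ _).2 rfl, rfl⟩

/-- **the involutions of graph type** -/
theorem exists_grU_of_invol (hinv : ∀ σ : RingAut F, σ * σ = 1 → σ ≠ 1 → σ = σ₀)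
    (β : MulAut (PGq φ ι)) (hβ : IsGraphAutS (SUg ι φ) (UG ι φ) β) (h2 : orderOf β = 2) :
    ∃ M : UG ι φ, β = grU hcomm σ₀ M ∧
      (((M : GL ι F) : Matrix ι ι F)ᵀ = ((M : GL ι F) : Matrix ι ι F) ∨
        ((2 : F) ≠ 0 ∧ ((M : GL ι F) : Matrix ι ι F)ᵀ = -((M : GL ι F) : Matrix ι ι F))) := by
  obtain ⟨δ, φ₁, σ, hev, hδ, hφ₁, rfl⟩ := hβ
  obtain ⟨g, rfl⟩ := (isInnDiagS_iff hcomm δ).1 hδ
  have hφ₁' := (isFieldAutS_iff hcomm σ φ₁).1 hφ₁
  subst hφ₁'
  have hpow : (psiU hcomm g * phiU hcomm σ) ^ 2 = 1 := by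
    rw [← h2]
    exact pow_orderOf_eq_one _
  rw [pow_psiU_mul_phiU] at hpow
  have h1 : psiU hcomm (gnormU hcomm σ g 2) * phiU hcomm (σ ^ 2) =
      psiU hcomm 1 * phiU hcomm 1 := by
    rw [hpow, map_one, map_one, one_mul]
  have hσσ : σ * σ = 1 := by
    rw [← pow_two]
    exact (eq_of_psiU_mul_phiU_eq H p hcomm h1).1
  have hσ1 : σ ≠ 1 := by
    rintro rfl
    rw [orderOf_one] at hev
    exact absurd hev (by decide)
  have hσ := hinv σ hσσ hσ1
  subst hσ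
  refine ⟨g⁻¹, by unfold grU; rw [inv_inv], ?_⟩
  have hsq : grU hcomm σ g⁻¹ * grU hcomm σ g⁻¹ = 1 := by
    unfold grU
    rw [inv_inv, ← pow_two, ← h2]
    exact pow_orderOf_eq_one _
  obtain ⟨l, hl, hM⟩ := (grU_sq_iff H p hcomm σ hσ₀ g⁻¹).1 hsq
  rcases mul_self_eq_one_iff.1 hl with rfl | rfl
  · left
    rw [hM, one_smul]
  · rw [neg_one_smul] at hM
    by_cases h2F : (2 : F) = 0
    · left
      rw [hM, Cfsg.Agent.Helper2.PGR.neg_eq_self_two h2F]
    · right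
      exact ⟨h2F, hM⟩

end invol

end Cfsg.Agent.Helper2.PUG
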