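import Mathlib
import Cfsg.Agent.Lib.Helper2.Pug1
import Cfsg.Agent.Lib.Helper2.Pub1

set_option autoImplicit false
set_option linter.unusedSimpArgs false
set_option linter.unusedVariables false
set_option linter.unusedSectionVars false

/-! Involutory graph automorphisms of the unitary groups, part 2: descent of a symmetric or
skew-symmetric unitary matrix to a bilinear form over the fixed field. -/

namespace Cfsg.Agent.Helper2.PUG

open Matrix Cfsg.Agent.Helper11 Cfsg.Agent.Helper11.Herm Cfsg.Agent.Helper2.PU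
open Cfsg.Agent.Helper2.PGR Cfsg.Agent.Helper2.PUB

section rect

variable {α β : Type*} [Semiring α] [Semiring β] {m n o : Type*}

theorem map_smul_rect (f : α →+* β) (c : α) (A : Matrix m n α) :
    (c • A).map f = f c • A.map f := by
  ext a b
  simp only [Matrix.map_apply, Matrix.smul_apply, smul_eq_mul, map_mul]

theorem map_inj_rect (f : α →+* β) (hf : Function.Injective f) {A B : Matrix m n α}
    (h : A.map f = B.map f) : A = B := by
  ext a b
  have := congrFun (congrFun h a) b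
  exact hf this

theorem map_one_rect [DecidableEq n] (f : α →+* β) : (1 : Matrix n n α).map f = 1 := by
  ext a b
  simp only [Matrix.map_apply, Matrix.one_apply]
  split_ifs <;> simp

end rect

section descent

variable {F : Type*} [Field F] {F₀ : Type*} [Field F₀] (φ : F →+* F) (j : F₀ →+* F)
variable {ι κ κ' : Type*} [Fintype ι] [DecidableEq ι] [Fintype κ] [DecidableEq κ]
  [Fintype κ'] [DecidableEq κ']

/-- `j` identifies `F₀` with the fixed field of the involution `φ` -/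
structure RealStr : Prop where
  hφφ : ∀ x, φ (φ x) = x
  hjfix : ∀ a, φ (j a) = j a
  hfix : ∀ x, φ x = x → ∃ a, j a = x
  hN1 : ∀ c : F, c ≠ 0 → φ c = c → ∃ l : F, l ≠ 0 ∧ l * φ l = c
  h90 : ∀ c : F, c * φ c = 1 → ∃ a : F, a ≠ 0 ∧ c * φ a = a

/-- descent data -/
def IsDesc (M : Matrix ι ι F) (N : Matrix κ κ F₀) (P : Matrix ι κ F) (Pi : Matrix κ ι F)
    (c e : F) : Prop :=
  P * Pi = 1 ∧ Pi * P = 1 ∧ c ≠ 0 ∧ e ≠ 0 ∧ P.map φ = c • (M * P) ∧
    N.map j = e • (Pᵀ * M * P)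

/-- the form `M` descends to the form `N` over the fixed field -/
def DescG (M : Matrix ι ι F) (N : Matrix κ κ F₀) : Prop :=
  ∃ (P : Matrix ι κ F) (Pi : Matrix κ ι F) (c e : F), IsDesc φ j M N P Pi c e

variable {φ j}

theorem RealStr.exists_real (R : RealStr φ j) (A : Matrix κ κ' F) (hA : A.map φ = A) :
    ∃ Q : Matrix κ κ' F₀, Q.map j = A := by
  have h1 : ∀ a b, ∃ x : F₀, j x = A a b := by
    intro a b
    apply R.hfix
    have := congrFun (congrFun hA a) b
    exact this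
  choose Q hQ using h1
  refine ⟨Matrix.of Q, ?_⟩
  ext a b
  exact hQ a b

theorem RealStr.map_map (R : RealStr φ j) (A : Matrix κ κ' F₀) : (A.map j).map φ = A.map j := by
  ext a b
  exact R.hjfix _

/-- the inverse of a real matrix is real -/
theorem real_inv (hφφ : ∀ x, φ (φ x) = x) (A : Matrix κ κ' F) (B : Matrix κ' κ F)
    (h1 : A * B = 1) (h2 : B * A = 1) (hA : A.map φ = A) : B.map φ = B := by
  have h3 : B.map φ * A = 1 := by
    have := congrArg (fun X : Matrix κ' κ' F => X.map φ) h2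
    simp only [Matrix.map_mul, map_one_rect, hA] at this
    exact this
  calc B.map φ = B.map φ * (A * B) := by rw [h1, Matrix.mul_one]
    _ = (B.map φ * A) * B := by rw [Matrix.mul_assoc]
    _ = B := by rw [h3, Matrix.one_mul]

/-- **from unitary to real**: a unitary matrix carrying `M` to a multiple of `M'` gives a
similitude between the descended forms -/
theorem IsDesc.real_of_conj (R : RealStr φ j) {M M' : Matrix ι ι F} {N : Matrix κ κ F₀}
    {N' : Matrix κ' κ' F₀} {P : Matrix ι κ F} {Pi : Matrix κ ι F} {c e : F}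
    {P' : Matrix ι κ' F} {Pi' : Matrix κ' ι F} {c' e' : F}
    (D : IsDesc φ j M N P Pi c e) (D' : IsDesc φ j M' N' P' Pi' c' e') (hMU : IsU φ M)
    (hN' : N' ≠ 0) (h : Matrix ι ι F) (hU : IsU φ h) (μ : F) (hμ : μ ≠ 0)
    (hM : hᵀ * M * h = μ • M') :
    ∃ (Q : Matrix κ κ' F₀) (Qi : Matrix κ' κ F₀) (ν : F₀) (d : F), d ≠ 0 ∧ ν ≠ 0 ∧
      Q * Qi = 1 ∧ Qi * Q = 1 ∧ Qᵀ * N * Q = ν • N' ∧ Q.map j = d • (Pi * h * P') := by
  obtain ⟨hP1, hP2, hc, he, hPφ, hN⟩ := D
  obtain ⟨hP1', hP2', hc', he', hPφ', hN'e⟩ := D'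
  obtain ⟨k, hk⟩ : ∃ k, k = Pi * h * P' := ⟨_, rfl⟩
  obtain ⟨kinv, hkinv⟩ : ∃ kinv, kinv = Pi' * adjU φ h * P := ⟨_, rfl⟩
  have hk1 : k * kinv = 1 := by
    rw [hk, hkinv]
    calc Pi * h * P' * (Pi' * adjU φ h * P) = Pi * (h * ((P' * Pi') * adjU φ h)) * P := by
          simp only [Matrix.mul_assoc]
      _ = 1 := by rw [hP1', Matrix.one_mul, self_mul_adjU hU, Matrix.mul_one, hP2]
  have hk2 : kinv * k = 1 := by
    rw [hk, hkinv]
    calc Pi' * adjU φ h * P * (Pi * h * P') = Pi' * (adjU φ h * ((P * Pi) * h)) * P' := by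
          simp only [Matrix.mul_assoc]
      _ = 1 := by rw [hP1, Matrix.one_mul, adjU_mul_self hU, Matrix.mul_one, hP2']
  have hPk : P * k = h * P' := by
    rw [hk]
    calc P * (Pi * h * P') = (P * Pi) * h * P' := by simp only [Matrix.mul_assoc]
      _ = h * P' := by rw [hP1, Matrix.one_mul]
  -- the semilinear relation for `h`
  have hφ1 : μ • (h.map φ * M') = M * h := by
    have h1 : h.map φ * hᵀ = 1 := mul_eq_one_comm.1 hU
    calc μ • (h.map φ * M') = h.map φ * (μ • M') := by rw [Matrix.mul_smul]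
      _ = h.map φ * (hᵀ * M * h) := by rw [hM]
      _ = (h.map φ * hᵀ) * (M * h) := by simp only [Matrix.mul_assoc]
      _ = M * h := by rw [h1, Matrix.one_mul]
  have hkφ : (c * μ) • k.map φ = c' • k := by
    have h1 : (P * k).map φ = (h * P').map φ := by rw [hPk]
    rw [Matrix.map_mul, Matrix.map_mul, hPφ, hPφ'] at h1
    have h2 : (c * μ) • (M * P * k.map φ) = c' • (M * P * k) := by
      calc (c * μ) • (M * P * k.map φ) = μ • (c • (M * P) * k.map φ) := by
            rw [Matrix.smul_mul, smul_smul, mul_comm]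
        _ = μ • (h.map φ * c' • (M' * P')) := by rw [h1]
        _ = c' • ((μ • (h.map φ * M')) * P') := by
            rw [Matrix.mul_smul, smul_comm, Matrix.smul_mul, Matrix.mul_assoc]
        _ = c' • (M * h * P') := by rw [hφ1]
        _ = c' • (M * P * k) := by rw [Matrix.mul_assoc M h, ← hPk, Matrix.mul_assoc]
    have h3 : ∀ Y : Matrix κ κ' F, Pi * (adjU φ M * (M * P * Y)) = Y := by
      intro Y
      calc Pi * (adjU φ M * (M * P * Y)) = Pi * ((adjU φ M * M) * P) * Y := by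
            simp only [Matrix.mul_assoc]
        _ = Y := by rw [adjU_mul_self hMU, Matrix.one_mul, hP2, Matrix.one_mul]
    have h4 := congrArg (fun Y => Pi * (adjU φ M * Y)) h2
    simp only [Matrix.mul_smul, h3] at h4
    exact h4
  -- a nonzero entry
  have hne' : Nonempty κ' := by
    by_contra hemp
    rw [not_nonempty_iff] at hemp
    apply hN'
    ext a
    exact hemp.elim a
  have hk0 : k ≠ 0 := by
    intro h0
    rw [h0, Matrix.mul_zero] at hk2
    obtain ⟨a⟩ := hne'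
    have := congrFun (congrFun hk2 a) a
    simp only [Matrix.zero_apply, Matrix.one_apply_eq] at this
    exact zero_ne_one this
  obtain ⟨a₀, b₀, hx⟩ : ∃ a₀ b₀, k a₀ b₀ ≠ 0 := by
    by_contra hcon
    apply hk0
    ext a b
    by_contra hab
    exact hcon ⟨a, b, hab⟩
  obtain ⟨x, hxx⟩ : ∃ x, x = k a₀ b₀ := ⟨_, rfl⟩
  rw [← hxx] at hx
  have hxφ : c * μ * φ x = c' * x := by
    have := congrFun (congrFun hkφ a₀) b₀
    simp only [Matrix.smul_apply, Matrix.map_apply, smul_eq_mul] at this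
    rw [hxx]
    exact this
  have hφx0 : φ x ≠ 0 := (map_ne_zero φ).2 hx
  have hcμ : c * μ ≠ 0 := mul_ne_zero hc hμ
  obtain ⟨d, hd⟩ : ∃ d, d = x⁻¹ := ⟨_, rfl⟩
  have hd0 : d ≠ 0 := by rw [hd]; exact inv_ne_zero hx
  have hdφ : φ d * c' = d * (c * μ) := by
    rw [hd, map_inv₀]
    field_simp
    linear_combination -hxφ
  have hreal : (d • k).map φ = d • k := by
    rw [map_smul_rect]
    have h1 : (c * μ) • (φ d • k.map φ) = (c * μ) • (d • k) := by
      rw [smul_comm, hkφ, smul_smul, smul_smul, hdφ, mul_comm]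
    have h2 := congrArg (fun Y => (c * μ)⁻¹ • Y) h1
    simp only [smul_smul, inv_mul_cancel_left₀ hcμ] at h2
    exact h2
  have hA1 : (d • k) * (d⁻¹ • kinv) = 1 := by
    rw [Matrix.smul_mul, Matrix.mul_smul, smul_smul, mul_inv_cancel₀ hd0, one_smul, hk1]
  have hA2 : (d⁻¹ • kinv) * (d • k) = 1 := by
    rw [Matrix.smul_mul, Matrix.mul_smul, smul_smul, inv_mul_cancel₀ hd0, one_smul, hk2]
  have hreal' : (d⁻¹ • kinv).map φ = d⁻¹ • kinv := real_inv R.hφφ _ _ hA1 hA2 hreal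
  obtain ⟨Q, hQ⟩ := R.exists_real _ hreal
  obtain ⟨Qi, hQi⟩ := R.exists_real _ hreal'
  have hQ1 : Q * Qi = 1 := by
    apply map_inj_rect j j.injective
    rw [Matrix.map_mul, hQ, hQi, hA1, map_one_rect]
  have hQ2 : Qi * Q = 1 := by
    apply map_inj_rect j j.injective
    rw [Matrix.map_mul, hQ, hQi, hA2, map_one_rect]
  -- the form
  obtain ⟨t, ht⟩ : ∃ t, t = d * d * e * μ * e'⁻¹ := ⟨_, rfl⟩
  have ht0 : t ≠ 0 := by
    rw [ht]
    exact mul_ne_zero (mul_ne_zero (mul_ne_zero (mul_ne_zero hd0 hd0) he) hμ) (inv_ne_zero he')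
  have hform : (Qᵀ * N * Q).map j = t • N'.map j := by
    rw [Matrix.map_mul, Matrix.map_mul, Matrix.transpose_map, hQ, hN, hN'e]
    have h1 : kᵀ * (Pᵀ * M * P) * k = μ • (P'ᵀ * M' * P') := by
      calc kᵀ * (Pᵀ * M * P) * k = (P * k)ᵀ * M * (P * k) := by
            rw [Matrix.transpose_mul]
            simp only [Matrix.mul_assoc]
        _ = P'ᵀ * (hᵀ * M * h) * P' := by
            rw [hPk, Matrix.transpose_mul]
            simp only [Matrix.mul_assoc]
        _ = μ • (P'ᵀ * M' * P') := by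
            rw [hM, Matrix.mul_smul, Matrix.smul_mul]
    rw [Matrix.transpose_smul, Matrix.smul_mul, Matrix.smul_mul, Matrix.mul_smul, Matrix.mul_smul,
      Matrix.smul_mul, h1, smul_smul, smul_smul, smul_smul, smul_smul, ht]
    congr 1
    field_simp
  obtain ⟨a₁, b₁, hy⟩ : ∃ a₁ b₁, N' a₁ b₁ ≠ 0 := by
    by_contra hcon
    apply hN'
    ext a b
    by_contra hab
    exact hcon ⟨a, b, hab⟩
  obtain ⟨ν, hν⟩ : ∃ ν, ν = (Qᵀ * N * Q) a₁ b₁ / N' a₁ b₁ := ⟨_, rfl⟩
  have hjν : j ν = t := by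
    have := congrFun (congrFun hform a₁) b₁
    simp only [Matrix.smul_apply, Matrix.map_apply, smul_eq_mul] at this
    rw [hν, map_div₀, this, mul_div_assoc, div_self ((map_ne_zero j).2 hy), mul_one]
  have hν0 : ν ≠ 0 := by
    intro h0
    rw [h0, map_zero] at hjν
    exact ht0 hjν.symm
  refine ⟨Q, Qi, ν, d, hd0, hν0, hQ1, hQ2, ?_, ?_⟩
  · apply map_inj_rect j j.injective
    rw [hform, map_smul_rect, hjν]
  · rw [hQ, hk]

/-- conjugate forms have descents of the same type -/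
theorem DescG.hasType_of_conj (R : RealStr φ j) {M M' : Matrix ι ι F} {N : Matrix κ κ F₀}
    {N' : Matrix κ' κ' F₀} (D : DescG φ j M N) (D' : DescG φ j M' N') (hMU : IsU φ M)
    (hN' : N' ≠ 0) (h : Matrix ι ι F) (hU : IsU φ h) (μ : F) (hμ : μ ≠ 0)
    (hM : hᵀ * M * h = μ • M') : HasType N N' := by
  obtain ⟨P, Pi, c, e, D⟩ := D
  obtain ⟨P', Pi', c', e', D'⟩ := D'
  obtain ⟨Q, Qi, ν, d, hd0, hν0, hQ1, hQ2, hQ, -⟩ := D.real_of_conj R D' hMU hN' h hU μ hμ hM
  exact ⟨Q, Qi, ν, hν0, hQ1, hQ2, hQ⟩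

/-- **from real to unitary**: a similitude between the descended forms gives a unitary
similitude -/
theorem IsDesc.sim_of_real (R : RealStr φ j) {M M' : Matrix ι ι F} {N : Matrix κ κ F₀}
    {N' : Matrix κ' κ' F₀} {P : Matrix ι κ F} {Pi : Matrix κ ι F} {c e : F}
    {P' : Matrix ι κ' F} {Pi' : Matrix κ' ι F} {c' e' : F}
    (D : IsDesc φ j M N P Pi c e) (D' : IsDesc φ j M' N' P' Pi' c' e') (hMU' : IsU φ M')
    (Q : Matrix κ κ' F₀) (ν : F₀) (hν : ν ≠ 0) (hQ : Qᵀ * N * Q = ν • N') :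
    (P * Q.map j * Pi')ᵀ * M * (P * Q.map j * Pi') = (j ν * e' * e⁻¹) • M' ∧
    (P * Q.map j * Pi')ᵀ * (P * Q.map j * Pi').map φ =
      (c * c'⁻¹ * (j ν * e' * e⁻¹)) • (1 : Matrix ι ι F) := by
  obtain ⟨hP1, hP2, hc, he, hPφ, hN⟩ := D
  obtain ⟨hP1', hP2', hc', he', hPφ', hN'e⟩ := D'
  obtain ⟨K, hK⟩ : ∃ K, K = Q.map j := ⟨_, rfl⟩
  obtain ⟨X, hX⟩ : ∃ X, X = P * K * Pi' := ⟨_, rfl⟩
  rw [← hK, ← hX]
  have hKφ : K.map φ = K := by rw [hK]; exact R.map_map Q
  have hPM : Pᵀ * M * P = e⁻¹ • N.map j := by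
    rw [hN, smul_smul, inv_mul_cancel₀ he, one_smul]
  have hPiT : Pi'ᵀ * P'ᵀ = 1 := by rw [← Matrix.transpose_mul, hP1', Matrix.transpose_one]
  have hQj : Kᵀ * N.map j * K = j ν • N'.map j := by
    have := congrArg (fun Y : Matrix κ' κ' F₀ => Y.map j) hQ
    simp only [Matrix.map_mul, map_smul_rect] at this
    rw [hK, ← Matrix.transpose_map]
    exact this
  have ha : Xᵀ * M * X = (j ν * e' * e⁻¹) • M' := by
    rw [hX]
    calc (P * K * Pi')ᵀ * M * (P * K * Pi') = Pi'ᵀ * (Kᵀ * (Pᵀ * M * P) * K) * Pi' := by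
          rw [Matrix.transpose_mul, Matrix.transpose_mul]
          simp only [Matrix.mul_assoc]
      _ = (e⁻¹ * j ν * e') • (Pi'ᵀ * (P'ᵀ * M' * P') * Pi') := by
          rw [hPM, Matrix.mul_smul, Matrix.smul_mul, hQj, hN'e]
          simp only [Matrix.mul_smul, Matrix.smul_mul, smul_smul, mul_assoc]
      _ = (e⁻¹ * j ν * e') • ((Pi'ᵀ * P'ᵀ) * M' * (P' * Pi')) := by
          simp only [Matrix.mul_assoc]
      _ = (j ν * e' * e⁻¹) • M' := by
          rw [hPiT, hP1', Matrix.one_mul, Matrix.mul_one]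
          congr 1
          ring
  refine ⟨ha, ?_⟩
  have hXP : X * P' = P * K := by
    rw [hX]
    calc P * K * Pi' * P' = P * K * (Pi' * P') := by simp only [Matrix.mul_assoc]
      _ = P * K := by rw [hP2', Matrix.mul_one]
  have hb : c' • (X.map φ * M') = c • (M * X) := by
    have h1 : (X * P').map φ = (P * K).map φ := by rw [hXP]
    rw [Matrix.map_mul, Matrix.map_mul, hPφ, hPφ', hKφ] at h1
    calc c' • (X.map φ * M') = (X.map φ * c' • (M' * P')) * Pi' := by
          rw [Matrix.mul_smul, Matrix.smul_mul]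
          congr 1
          calc X.map φ * M' = X.map φ * M' * (P' * Pi') := by rw [hP1', Matrix.mul_one]
            _ = X.map φ * (M' * P') * Pi' := by simp only [Matrix.mul_assoc]
      _ = (c • (M * P) * K) * Pi' := by rw [h1]
      _ = c • (M * X) := by
          rw [hX, Matrix.smul_mul, Matrix.smul_mul]
          simp only [Matrix.mul_assoc]
  have h2 : c' • (Xᵀ * X.map φ * M') = (c * (j ν * e' * e⁻¹)) • M' := by
    calc c' • (Xᵀ * X.map φ * M') = Xᵀ * (c' • (X.map φ * M')) := by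
          rw [Matrix.mul_smul, Matrix.mul_assoc]
      _ = Xᵀ * (c • (M * X)) := by rw [hb]
      _ = c • (Xᵀ * M * X) := by rw [Matrix.mul_smul, Matrix.mul_assoc]
      _ = (c * (j ν * e' * e⁻¹)) • M' := by rw [ha, smul_smul]
  have h3 := congrArg (fun Y => c'⁻¹ • (Y * adjU φ M')) h2
  simp only [Matrix.smul_mul, Matrix.mul_assoc, self_mul_adjU hMU', Matrix.mul_one, smul_smul,
    inv_mul_cancel₀ hc', one_smul] at h3
  rw [h3]
  congr 1
  ring

/-- forms whose descents have the same type are conjugate under the unitary group -/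
theorem DescG.exists_conj [Nonempty ι] (R : RealStr φ j) {M M' : Matrix ι ι F}
    {N : Matrix κ κ F₀} {N' : Matrix κ' κ' F₀} (D : DescG φ j M N) (D' : DescG φ j M' N')
    (hMU' : IsU φ M') (hT : HasType N N') :
    ∃ (h : Matrix ι ι F) (μ : F), IsU φ h ∧ μ ≠ 0 ∧ hᵀ * M * h = μ • M' := by
  obtain ⟨P, Pi, c, e, D⟩ := D
  obtain ⟨P', Pi', c', e', D'⟩ := D'
  obtain ⟨Q, Qi, ν, hν0, hQ1, hQ2, hQ⟩ := hT
  obtain ⟨ha, hb⟩ := D.sim_of_real R D' hMU' Q ν hν0 hQ
  have hc := D.2.2.1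
  have he := D.2.2.2.1
  have hc' := D'.2.2.1
  have he' := D'.2.2.2.1
  have hjν : j ν ≠ 0 := (map_ne_zero j).2 hν0
  have hs0 : c * c'⁻¹ * (j ν * e' * e⁻¹) ≠ 0 :=
    mul_ne_zero (mul_ne_zero hc (inv_ne_zero hc'))
      (mul_ne_zero (mul_ne_zero hjν he') (inv_ne_zero he))
  have hUS : IsUS φ (P * Q.map j * Pi') := ⟨_, hs0, hb⟩
  obtain ⟨d, hd0, hdU⟩ := IsUS.exists_smul R.hφφ R.hN1 hUS
  refine ⟨d • (P * Q.map j * Pi'), d * d * (j ν * e' * e⁻¹), hdU,
    mul_ne_zero (mul_ne_zero hd0 hd0) (mul_ne_zero (mul_ne_zero hjν he') (inv_ne_zero he)), ?_⟩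
  rw [Matrix.transpose_smul, Matrix.smul_mul, Matrix.smul_mul, Matrix.mul_smul, ha, smul_smul,
    smul_smul]

/-- the descended form may be replaced by one of the same type -/
theorem DescG.of_hasType (R : RealStr φ j) {M : Matrix ι ι F} {N : Matrix κ κ F₀}
    {N' : Matrix κ' κ' F₀} (D : DescG φ j M N) (hT : HasType N N') : DescG φ j M N' := by
  obtain ⟨P, Pi, c, e, hP1, hP2, hc, he, hPφ, hN⟩ := D
  obtain ⟨Q, Qi, ν, hν0, hQ1, hQ2, hQ⟩ := hT
  have hjν : j ν ≠ 0 := (map_ne_zero j).2 hν0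
  refine ⟨P * Q.map j, Qi.map j * Pi, c, e * (j ν)⁻¹, ?_, ?_, hc,
    mul_ne_zero he (inv_ne_zero hjν), ?_, ?_⟩
  · calc P * Q.map j * (Qi.map j * Pi) = P * ((Q * Qi).map j) * Pi := by
          rw [Matrix.map_mul]
          simp only [Matrix.mul_assoc]
      _ = 1 := by rw [hQ1, map_one_rect, Matrix.mul_one, hP1]
  · calc Qi.map j * Pi * (P * Q.map j) = Qi.map j * ((Pi * P) * Q.map j) := by
          simp only [Matrix.mul_assoc]
      _ = 1 := by rw [hP2, Matrix.one_mul, ← Matrix.map_mul, hQ2, map_one_rect]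
  · rw [Matrix.map_mul, hPφ, R.map_map, Matrix.smul_mul, Matrix.mul_assoc]
  · have h1 : N' = ν⁻¹ • (Qᵀ * N * Q) := by
      rw [hQ, smul_smul, inv_mul_cancel₀ hν0, one_smul]
    rw [h1, map_smul_rect, Matrix.map_mul, Matrix.map_mul, Matrix.transpose_map, hN, map_inv₀,
      Matrix.transpose_mul]
    simp only [Matrix.mul_smul, Matrix.smul_mul, smul_smul, Matrix.mul_assoc]
    congr 1
    ring

end descent

end Cfsg.Agent.Helper2.PUG
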