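import Mathlib
import Cfsg.Agent.Lib.Helper2.Pug2

set_option autoImplicit false
set_option linter.unusedSimpArgs false
set_option linter.unusedVariables false
set_option linter.unusedSectionVars false

/-! Involutory graph automorphisms of the unitary groups, part 3: existence of descents and of
unitary matrices with a prescribed descent. -/

namespace Cfsg.Agent.Helper2.PUG

open Matrix Cfsg.Agent.Helper11 Cfsg.Agent.Helper11.Herm Cfsg.Agent.Helper2.PU
open Cfsg.Agent.Helper2.PGR Cfsg.Agent.Helper2.PUB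

section generic

variable {F : Type*} [Field F] {F₀ : Type*} [Field F₀] {φ : F →+* F} {j : F₀ →+* F}
variable {ι κ : Type*} [Fintype ι] [DecidableEq ι] [Fintype κ] [DecidableEq κ]

theorem DescG.transpose_eq {M : Matrix ι ι F} {N : Matrix κ κ F₀} (D : DescG φ j M N)
    (hM : Mᵀ = M) : Nᵀ = N := by
  obtain ⟨P, Pi, c, e, hP1, hP2, hc, he, hPφ, hN⟩ := D
  apply map_inj_rect j j.injective
  rw [Matrix.transpose_map, hN, Matrix.transpose_smul, Matrix.transpose_mul,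
    Matrix.transpose_mul, Matrix.transpose_transpose, hM, Matrix.mul_assoc]

theorem DescG.transpose_neg {M : Matrix ι ι F} {N : Matrix κ κ F₀} (D : DescG φ j M N)
    (hM : Mᵀ = -M) : Nᵀ = -N := by
  obtain ⟨P, Pi, c, e, hP1, hP2, hc, he, hPφ, hN⟩ := D
  apply map_inj_rect j j.injective
  have h1 : (-N).map j = -(N.map j) := by
    ext a b
    simp only [Matrix.map_apply, Matrix.neg_apply, map_neg]
  rw [h1, Matrix.transpose_map, hN, Matrix.transpose_smul, Matrix.transpose_mul,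
    Matrix.transpose_mul, Matrix.transpose_transpose, hM, Matrix.mul_assoc, Matrix.neg_mul,
    Matrix.mul_neg, smul_neg]

theorem DescG.det_ne_zero {M : Matrix ι ι F} {N : Matrix κ κ F₀} (D : DescG φ j M N)
    (hMU : IsU φ M) : N.det ≠ 0 := by
  obtain ⟨P, Pi, c, e, hP1, hP2, hc, he, hPφ, hN⟩ := D
  have hPiT : Pᵀ * Piᵀ = 1 := by rw [← Matrix.transpose_mul, hP2, Matrix.transpose_one]
  have h1 : N.map j * (e⁻¹ • (Pi * adjU φ M * Piᵀ)) = 1 := by
    rw [hN, Matrix.smul_mul, Matrix.mul_smul, smul_smul, mul_inv_cancel₀ he, one_smul]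
    calc Pᵀ * M * P * (Pi * adjU φ M * Piᵀ) = Pᵀ * (M * ((P * Pi) * adjU φ M)) * Piᵀ := by
          simp only [Matrix.mul_assoc]
      _ = 1 := by rw [hP1, Matrix.one_mul, self_mul_adjU hMU, Matrix.mul_one, hPiT]
  have h2 := congrArg Matrix.det h1
  rw [Matrix.det_mul, Matrix.det_one] at h2
  intro h0
  have h3 : (N.map j).det = j N.det := by
    rw [RingHom.map_det]
    rfl
  rw [h3, h0, map_zero, zero_mul] at h2
  exact zero_ne_one h2

theorem DescG.ne_zero [Nonempty κ] {M : Matrix ι ι F} {N : Matrix κ κ F₀} (D : DescG φ j M N)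
    (hMU : IsU φ M) : N ≠ 0 := by
  intro h0
  apply D.det_ne_zero hMU
  rw [h0, Matrix.det_zero]

end generic

section exist

variable {F : Type*} [Field F] {F₀ : Type*} [Field F₀] {φ : F →+* F} {j : F₀ →+* F}
variable {ι : Type*} [Fintype ι] [DecidableEq ι]
  (σ₀ : F ≃+* F) (hσ₀ : ∀ x, σ₀ x = φ x)

include hσ₀ in
theorem map_sig_eq' (X : Matrix ι ι F) : X.map σ₀ = X.map φ := by
  ext a b
  exact hσ₀ _

theorem map_map_invol (hφφ : ∀ x, φ (φ x) = x) {m n : Type*} (X : Matrix m n F) :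
    (X.map φ).map φ = X := by
  ext a b
  exact hφφ _

include hσ₀ in
/-- **existence of descents** -/
theorem exists_descG (R : RealStr φ j) (hσ1 : σ₀ ≠ 1) (M : Matrix ι ι F) (hMU : IsU φ M)
    (l : F) (hl : l * l = 1) (hM : Mᵀ = l • M) :
    ∃ B₀ : Matrix ι ι F₀, DescG φ j M B₀ := by
  have hl0 : l ≠ 0 := by
    rintro rfl
    rw [mul_zero] at hl
    exact zero_ne_one hl
  have hφl : φ l = l := by
    rcases mul_self_eq_one_iff.1 hl with rfl | rfl
    · exact map_one φ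
    · rw [map_neg, map_one]
  obtain ⟨c, hc0, hc⟩ := R.hN1 l hl0 hφl
  have hMM : M.map φ * M = l • (1 : Matrix ι ι F) := by
    have h1 : (l • M) * M.map φ = 1 := by rw [← hM]; exact hMU
    have h2 : M.map φ * (l • M) = 1 := mul_eq_one_comm.1 h1
    rw [Matrix.mul_smul] at h2
    have h3 := congrArg (fun Y => l • Y) h2
    simp only [smul_smul, hl, one_smul] at h3
    exact h3
  obtain ⟨g, hg⟩ : ∃ g, g = φ c • M.map φ := ⟨_, rfl⟩
  have hgφ : g.map φ = c • M := by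
    rw [hg, map_smul_rect, R.hφφ, map_map_invol R.hφφ]
  have hnorm : Cfsg.Agent.Helper2.PN.mnorm σ₀ g 2 = 1 := by
    rw [Cfsg.Agent.Helper2.PN.mnorm_succ, Cfsg.Agent.Helper2.PN.mnorm_succ,
      Cfsg.Agent.Helper2.PN.mnorm_zero, map_sig_eq' σ₀ hσ₀, map_sig_eq' σ₀ hσ₀, map_one_rect,
      Matrix.mul_one, hgφ, hg, Matrix.smul_mul, Matrix.mul_smul, smul_smul, hMM, smul_smul,
      mul_comm (φ c), hc, hl, one_smul]
  have hσ2 : σ₀ ^ 2 = 1 := by
    ext x
    rw [pow_two, RingAut.mul_apply, hσ₀, hσ₀, R.hφφ]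
    rfl
  have hmin : ∀ i, 0 < i → i < 2 → σ₀ ^ i ≠ 1 := by
    intro i h1 h2
    have h3 : i = 1 := by omega
    subst h3
    rw [pow_one]
    exact hσ1
  obtain ⟨P, hPu, hP⟩ := Cfsg.Agent.Helper2.PN.exists_descent σ₀ g 2 (by norm_num) hσ2 hmin hnorm
  rw [map_sig_eq' σ₀ hσ₀] at hP
  have hPφ : P.map φ = c • (M * P) := by
    have := congrArg (fun Y : Matrix ι ι F => Y.map φ) hP
    simp only [Matrix.map_mul, map_map_invol R.hφφ, hgφ] at this
    rw [← this, Matrix.smul_mul]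
  have hdet : IsUnit P.det := (Matrix.isUnit_iff_isUnit_det P).1 hPu
  have hP1 : P * P⁻¹ = 1 := Matrix.mul_nonsing_inv P hdet
  have hP2 : P⁻¹ * P = 1 := Matrix.nonsing_inv_mul P hdet
  have hcc : (c * c) * φ (c * c) = 1 := by
    rw [map_mul]
    calc c * c * (φ c * φ c) = (c * φ c) * (c * φ c) := by ring
      _ = 1 := by rw [hc, hl]
  obtain ⟨e, he0, he⟩ := R.h90 (c * c) hcc
  have hMU' : Mᵀ * M.map φ = 1 := hMU
  have hB : (e • (Pᵀ * M * P)).map φ = e • (Pᵀ * M * P) := by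
    rw [map_smul_rect, Matrix.map_mul, Matrix.map_mul, Matrix.transpose_map, hPφ,
      Matrix.transpose_smul, Matrix.transpose_mul]
    calc φ e • (c • (Pᵀ * Mᵀ) * M.map φ * c • (M * P))
        = (c * c * φ e) • (Pᵀ * (Mᵀ * M.map φ) * M * P) := by
          simp only [Matrix.smul_mul, Matrix.mul_smul, smul_smul, Matrix.mul_assoc]
          congr 1
          ring
      _ = e • (Pᵀ * M * P) := by rw [hMU', Matrix.mul_one, he]
  obtain ⟨B₀, hB₀⟩ := R.exists_real _ hB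
  exact ⟨B₀, P, P⁻¹, c, e, hP1, hP2, hc0, he0, hPφ, hB₀⟩

include hσ₀ in
/-- **existence of unitary matrices with a prescribed descent** -/
theorem exists_of_descG (R : RealStr φ j) (htr : ∃ t : F, t + φ t ≠ 0) (N : Matrix ι ι F₀)
    (hdet : N.det ≠ 0) (l₀ : F₀) (hl₀ : l₀ * l₀ = 1) (hN : Nᵀ = l₀ • N) :
    ∃ M : Matrix ι ι F, IsU φ M ∧ Mᵀ = j l₀ • M ∧ DescG φ j M N := by
  obtain ⟨l, hl⟩ : ∃ l, l = j l₀ := ⟨_, rfl⟩
  have hll : l * l = 1 := by rw [hl, ← map_mul, hl₀, map_one]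
  have hφl : φ l = l := by rw [hl]; exact R.hjfix _
  have hl0 : l ≠ 0 := by
    rintro rfl
    rw [mul_zero] at hll
    exact zero_ne_one hll
  obtain ⟨c, hc0, hc⟩ := R.hN1 l hl0 hφl
  have hcc : (c * c) * φ (c * c) = 1 := by
    rw [map_mul]
    calc c * c * (φ c * φ c) = (c * φ c) * (c * φ c) := by ring
      _ = 1 := by rw [hc, hll]
  obtain ⟨e, he0, he⟩ := R.h90 (c * c) hcc
  have hφe0 : φ e ≠ 0 := (map_ne_zero φ).2 he0
  obtain ⟨B, hB⟩ : ∃ B, B = e⁻¹ • N.map j := ⟨_, rfl⟩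
  have hBT : Bᵀ = l • B := by
    rw [hB, Matrix.transpose_smul, ← Matrix.transpose_map, hN, map_smul_rect, smul_comm, hl]
  have hBφ : B.map φ = (c * c) • B := by
    rw [hB, map_smul_rect, R.map_map, smul_smul, map_inv₀]
    congr 1
    field_simp
    linear_combination -he
  obtain ⟨Hm, hHm⟩ : ∃ Hm, Hm = c • B := ⟨_, rfl⟩
  have hHherm : (Hm.map σ₀)ᵀ = Hm := by
    rw [map_sig_eq' σ₀ hσ₀, hHm, map_smul_rect, hBφ, Matrix.transpose_smul, Matrix.transpose_smul,
      hBT, smul_smul, smul_smul]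
    congr 1
    linear_combination (c * l) * hc + c * hll
  have hHu : IsUnit Hm := by
    rw [Matrix.isUnit_iff_isUnit_det, hHm, hB, smul_smul, Matrix.det_smul, isUnit_iff_ne_zero]
    refine mul_ne_zero (pow_ne_zero _ (mul_ne_zero hc0 (inv_ne_zero he0))) ?_
    have h3 : (N.map j).det = j N.det := by
      rw [RingHom.map_det]
      rfl
    rw [h3]
    exact (map_ne_zero j).2 hdet
  have hnorm' : ∀ a : F, a ≠ 0 → σ₀ a = a → ∃ b : F, b * σ₀ b = a := by
    intro a ha hfa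
    obtain ⟨b, -, hb⟩ := R.hN1 a ha (by rw [← hσ₀]; exact hfa)
    exact ⟨b, by rw [hσ₀]; exact hb⟩
  have htr' : ∃ t : F, t + σ₀ t ≠ 0 := by
    obtain ⟨t, ht⟩ := htr
    exact ⟨t, by rw [hσ₀]; exact ht⟩
  have hσσ : ∀ x, σ₀ (σ₀ x) = x := by
    intro x
    rw [hσ₀, hσ₀, R.hφφ]
  obtain ⟨h, hh⟩ := Cfsg.Agent.Helper2.PN.exists_herm_congr σ₀ Hm hσσ hHherm htr' hnorm' hHu
  rw [map_sig_eq' σ₀ hσ₀] at hh
  have hhdet : IsUnit h.det := by
    have := congrArg Matrix.det hh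
    rw [Matrix.det_mul, Matrix.det_mul, Matrix.det_one, mul_assoc] at this
    exact IsUnit.of_mul_eq_one _ this
  obtain ⟨hi, hhi⟩ : ∃ hi, hi = h⁻¹ := ⟨_, rfl⟩
  have hi1 : h * hi = 1 := by rw [hhi]; exact Matrix.mul_nonsing_inv h hhdet
  have hi2 : hi * h = 1 := by rw [hhi]; exact Matrix.nonsing_inv_mul h hhdet
  obtain ⟨P, hP⟩ : ∃ P, P = hiᵀ := ⟨_, rfl⟩
  obtain ⟨Pi, hPi⟩ : ∃ Pi, Pi = hᵀ := ⟨_, rfl⟩
  have hP1 : P * Pi = 1 := by rw [hP, hPi, ← Matrix.transpose_mul, hi1, Matrix.transpose_one]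
  have hP2 : Pi * P = 1 := by rw [hP, hPi, ← Matrix.transpose_mul, hi2, Matrix.transpose_one]
  have hPP : Pᵀ * P.map φ = Hm := by
    rw [hP, Matrix.transpose_transpose, Matrix.transpose_map]
    calc hi * (hi.map φ)ᵀ = hi * (h * Hm * (h.map φ)ᵀ) * (hi.map φ)ᵀ := by
          rw [hh, Matrix.mul_one]
      _ = (hi * h) * Hm * ((h.map φ)ᵀ * (hi.map φ)ᵀ) := by simp only [Matrix.mul_assoc]
      _ = Hm := by
          rw [hi2, Matrix.one_mul, ← Matrix.transpose_mul, ← Matrix.map_mul, hi2, map_one_rect,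
            Matrix.transpose_one, Matrix.mul_one]
  obtain ⟨M, hM⟩ : ∃ M, M = Piᵀ * B * Pi := ⟨_, rfl⟩
  have hPiT : Pᵀ * Piᵀ = 1 := by rw [← Matrix.transpose_mul, hP2, Matrix.transpose_one]
  have hPiT' : Piᵀ * Pᵀ = 1 := by rw [← Matrix.transpose_mul, hP1, Matrix.transpose_one]
  have h_i : Pᵀ * M * P = B := by
    rw [hM]
    calc Pᵀ * (Piᵀ * B * Pi) * P = (Pᵀ * Piᵀ) * B * (Pi * P) := by simp only [Matrix.mul_assoc]
      _ = B := by rw [hPiT, hP2, Matrix.one_mul, Matrix.mul_one]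
  have h_ii : P.map φ = c • (M * P) := by
    have h1 : M * P = Piᵀ * B := by
      rw [hM]
      calc Piᵀ * B * Pi * P = Piᵀ * B * (Pi * P) := by simp only [Matrix.mul_assoc]
        _ = Piᵀ * B := by rw [hP2, Matrix.mul_one]
    rw [h1, ← Matrix.mul_smul, ← hHm, ← hPP, ← Matrix.mul_assoc, hPiT', Matrix.one_mul]
  have h_iii : Mᵀ = l • M := by
    rw [hM, Matrix.transpose_mul, Matrix.transpose_mul, Matrix.transpose_transpose, hBT,
      Matrix.smul_mul, Matrix.mul_smul, Matrix.mul_assoc]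
  have h_iv : IsU φ M := by
    have h1 : M = c⁻¹ • (P.map φ * Pi) := by
      rw [h_ii, Matrix.smul_mul, smul_smul, inv_mul_cancel₀ hc0, one_smul, Matrix.mul_assoc, hP1,
        Matrix.mul_one]
    have h2 : M.map φ = (φ c)⁻¹ • (P * Pi.map φ) := by
      conv_lhs => rw [h1]
      rw [map_smul_rect, Matrix.map_mul, map_map_invol R.hφφ, map_inv₀]
    have h3 : P.map φ * Pi.map φ = 1 := by
      rw [← Matrix.map_mul, hP1, map_one_rect]
    change Mᵀ * M.map φ = 1
    rw [h_iii, h2]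
    conv_lhs => rw [h1]
    calc l • c⁻¹ • (P.map φ * Pi) * (φ c)⁻¹ • (P * Pi.map φ)
        = (l * c⁻¹ * (φ c)⁻¹) • (P.map φ * ((Pi * P) * Pi.map φ)) := by
          simp only [Matrix.smul_mul, Matrix.mul_smul, smul_smul, Matrix.mul_assoc]
          congr 1
          ring
      _ = 1 := by
          rw [hP2, Matrix.one_mul, h3]
          have hφc0 : φ c ≠ 0 := (map_ne_zero φ).2 hc0
          have : l * c⁻¹ * (φ c)⁻¹ = 1 := by
            field_simp
            linear_combination -hc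
          rw [this, one_smul]
  refine ⟨M, h_iv, by rw [← hl]; exact h_iii, P, Pi, c, e, hP1, hP2, hc0, he0, h_ii, ?_⟩
  rw [h_i, hB, smul_smul, mul_inv_cancel₀ he0, one_smul]

end exist

end Cfsg.Agent.Helper2.PUG
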