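import Mathlib
import Cfsg.Agent.Lib.Helper2.Pug3

set_option autoImplicit false
set_option linter.unusedSimpArgs false
set_option linter.unusedVariables false
set_option linter.unusedSectionVars false

/-! Involutory graph automorphisms of the unitary groups, part 4: the centralizer of a graph
automorphism in the inner-diagonal group. -/

namespace Cfsg.Agent.Helper2.PUG

open Matrix Cfsg.Agent.Helper11 Cfsg.Agent.Helper11.Herm Cfsg.Agent.Helper2.PU
open Cfsg.Agent.Helper2.PGR Cfsg.Agent.Helper2.PUB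

section cent

variable {F : Type*} [Field F] [Finite F] {F₀ : Type*} [Field F₀] {ι : Type*} [Fintype ι]
  [DecidableEq ι] {κ : Type} [Fintype κ] [DecidableEq κ] {φ : F →+* F} {j : F₀ →+* F}
  (H : HypU φ ι) (p : ℕ) [Fact p.Prime] [CharP F p]
  (hcomm : ∀ (σ : F ≃+* F) (x : F), σ (φ x) = φ (σ x))
  (σ₀ : RingAut F) (hσ₀ : ∀ x, σ₀ x = φ x)

theorem simAut_congr {h h' : Matrix ι ι F} (hh : IsUS φ h) (hh' : IsUS φ h') (e : h = h') :
    simAut H hcomm hh = simAut H hcomm hh' := by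
  subst e
  rfl

include H in
theorem isU_ne_zero {M : Matrix ι ι F} (hM : IsU φ M) : M ≠ 0 := by
  have hne : Nonempty ι := nonempty_of_hyp H
  intro h0
  have h1 : Mᵀ * M.map φ = 1 := hM
  rw [h0, Matrix.transpose_zero, Matrix.zero_mul] at h1
  obtain ⟨i⟩ := hne
  have := congrFun (congrFun h1 i) i
  simp only [Matrix.zero_apply, Matrix.one_apply_eq] at this
  exact zero_ne_one this

include H p hσ₀ in
/-- **the centralizer of a graph automorphism** -/
theorem centralizer_equiv [Nonempty κ] (R : RealStr φ j) (M : UG ι φ) (N : Matrix κ κ F₀)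
    (D : DescG φ j ((M : GL ι F) : Matrix ι ι F) N) :
    Nonempty (↥((psiU hcomm).range ⊓ Subgroup.centralizer {grU hcomm σ₀ M}) ≃*
      Cfsg.projQuot (simG N)) := by
  have hne : Nonempty ι := nonempty_of_hyp H
  have hMU : IsU φ ((M : GL ι F) : Matrix ι ι F) := M.2
  have hN0 : N ≠ 0 := D.ne_zero hMU
  obtain ⟨P, Pi, c, e, D⟩ := D
  obtain ⟨hP1, hP2, hc0, he0, hPφ, hN⟩ := id D
  -- the unitary similitude attached to a similitude of `N`
  have hUS : ∀ Q : simG N, IsUS φ (P * ((Q : GL κ F₀) : Matrix κ κ F₀).map j * Pi) := by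
    rintro ⟨Q, ν, hQ⟩
    obtain ⟨-, hb⟩ := D.sim_of_real R D hMU (Q : Matrix κ κ F₀) (ν : F₀) ν.ne_zero hQ
    refine ⟨_, ?_, hb⟩
    exact mul_ne_zero (mul_ne_zero hc0 (inv_ne_zero hc0))
      (mul_ne_zero (mul_ne_zero ((map_ne_zero j).2 ν.ne_zero) he0) (inv_ne_zero he0))
  have hform : ∀ Q : simG N, ∃ t : F, t ≠ 0 ∧
      (P * ((Q : GL κ F₀) : Matrix κ κ F₀).map j * Pi)ᵀ * ((M : GL ι F) : Matrix ι ι F) *
        (P * ((Q : GL κ F₀) : Matrix κ κ F₀).map j * Pi) = t • ((M : GL ι F) : Matrix ι ι F) := by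
    rintro ⟨Q, ν, hQ⟩
    obtain ⟨ha, -⟩ := D.sim_of_real R D hMU (Q : Matrix κ κ F₀) (ν : F₀) ν.ne_zero hQ
    exact ⟨_, mul_ne_zero (mul_ne_zero ((map_ne_zero j).2 ν.ne_zero) he0) (inv_ne_zero he0), ha⟩
  have hXmul : ∀ Q₁ Q₂ : simG N,
      P * (((Q₁ * Q₂ : simG N) : GL κ F₀) : Matrix κ κ F₀).map j * Pi =
        (P * ((Q₁ : GL κ F₀) : Matrix κ κ F₀).map j * Pi) *
          (P * ((Q₂ : GL κ F₀) : Matrix κ κ F₀).map j * Pi) := by
    intro Q₁ Q₂
    rw [Subgroup.coe_mul, Units.val_mul, Matrix.map_mul]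
    calc P * (((Q₁ : GL κ F₀) : Matrix κ κ F₀).map j * ((Q₂ : GL κ F₀) : Matrix κ κ F₀).map j) * Pi
        = P * ((Q₁ : GL κ F₀) : Matrix κ κ F₀).map j * (Pi * P) *
            (((Q₂ : GL κ F₀) : Matrix κ κ F₀).map j * Pi) := by
          rw [hP2, Matrix.mul_one]
          simp only [Matrix.mul_assoc]
      _ = _ := by
          simp only [Matrix.mul_assoc]
  obtain ⟨η, hη⟩ : ∃ η : simG N →* MulAut (PGq φ ι), ∀ Q, η Q = simAut H hcomm (hUS Q) := by
    refine ⟨MonoidHom.mk' (fun Q => simAut H hcomm (hUS Q)) ?_, fun Q => rfl⟩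
    intro Q₁ Q₂
    have h12 : IsUS φ ((P * ((Q₁ : GL κ F₀) : Matrix κ κ F₀).map j * Pi) *
          (P * ((Q₂ : GL κ F₀) : Matrix κ κ F₀).map j * Pi)) := (hUS Q₁).mul (hUS Q₂)
    rw [simAut_congr H hcomm (hUS (Q₁ * Q₂)) h12 (hXmul Q₁ Q₂)]
    exact simAut_mul H hcomm (hUS Q₁) (hUS Q₂) h12
  have hrange : η.range = (psiU hcomm).range ⊓ Subgroup.centralizer {grU hcomm σ₀ M} := by
    ext y
    rw [Subgroup.mem_inf]
    constructor
    · rintro ⟨Q, rfl⟩
      rw [hη]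
      obtain ⟨d, hd0, hu⟩ := IsUS.exists_smul' H (hUS Q)
      rw [simAut_eq H hcomm (hUS Q) hu rfl, ← psiU_toUG hcomm hu]
      refine ⟨⟨_, rfl⟩, ?_⟩
      rw [comm_grU_iff H p hcomm σ₀ hσ₀, toUG_val]
      obtain ⟨t, ht0, ht⟩ := hform Q
      refine ⟨d * d * t, ?_⟩
      rw [Matrix.transpose_smul, Matrix.smul_mul, Matrix.smul_mul, Matrix.mul_smul, ht, smul_smul,
        smul_smul]
    · rintro ⟨⟨h, rfl⟩, hcen⟩
      rw [comm_grU_iff H p hcomm σ₀ hσ₀] at hcen
      obtain ⟨μ, hμ⟩ := hcen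
      have hhU : IsU φ ((h : GL ι F) : Matrix ι ι F) := h.2
      have hμ0 : μ ≠ 0 := by
        rintro rfl
        rw [zero_smul] at hμ
        apply isU_ne_zero H hMU
        have h1 : ((h : GL ι F) : Matrix ι ι F) * adjU φ ((h : GL ι F) : Matrix ι ι F) = 1 :=
          self_mul_adjU hhU
        have h2 : (adjU φ ((h : GL ι F) : Matrix ι ι F))ᵀ * ((h : GL ι F) : Matrix ι ι F)ᵀ = 1 := by
          rw [← Matrix.transpose_mul, h1, Matrix.transpose_one]
        calc ((M : GL ι F) : Matrix ι ι F)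
            = ((adjU φ ((h : GL ι F) : Matrix ι ι F))ᵀ * ((h : GL ι F) : Matrix ι ι F)ᵀ) *
              ((M : GL ι F) : Matrix ι ι F) *
              (((h : GL ι F) : Matrix ι ι F) * adjU φ ((h : GL ι F) : Matrix ι ι F)) := by
              rw [h1, h2, Matrix.one_mul, Matrix.mul_one]
          _ = (adjU φ ((h : GL ι F) : Matrix ι ι F))ᵀ * (((h : GL ι F) : Matrix ι ι F)ᵀ *
              ((M : GL ι F) : Matrix ι ι F) * ((h : GL ι F) : Matrix ι ι F)) *
              adjU φ ((h : GL ι F) : Matrix ι ι F) := by simp only [Matrix.mul_assoc]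
          _ = 0 := by rw [hμ, Matrix.mul_zero, Matrix.zero_mul]
      obtain ⟨Q, Qi, ν, d, hd0, hν0, hQ1, hQ2, hQ, hQd⟩ :=
        D.real_of_conj R D hMU hN0 _ hhU μ hμ0 hμ
      have hmem : (⟨Q, Qi, hQ1, hQ2⟩ : GL κ F₀) ∈ simG N := ⟨Units.mk0 ν hν0, hQ⟩
      refine ⟨⟨_, hmem⟩, ?_⟩
      rw [hη, psiU_apply]
      apply simAut_eq H hcomm _ hhU (d := d⁻¹)
      change ((h : GL ι F) : Matrix ι ι F) = d⁻¹ • (P * Q.map j * Pi)
      rw [hQd, Matrix.mul_smul, Matrix.smul_mul, smul_smul, inv_mul_cancel₀ hd0, one_smul]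
      calc ((h : GL ι F) : Matrix ι ι F)
          = (P * Pi) * ((h : GL ι F) : Matrix ι ι F) * (P * Pi) := by
            rw [hP1, Matrix.one_mul, Matrix.mul_one]
        _ = P * (Pi * ((h : GL ι F) : Matrix ι ι F) * P) * Pi := by simp only [Matrix.mul_assoc]
  have hker : η.ker = (Cfsg.Geo.scalars κ F₀).subgroupOf (simG N) := by
    ext Q
    rw [MonoidHom.mem_ker, hη, Subgroup.mem_subgroupOf, Cfsg.Geo.mem_scalars_iff]
    obtain ⟨d, hd0, hu⟩ := IsUS.exists_smul' H (hUS Q)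
    rw [simAut_eq H hcomm (hUS Q) hu rfl, ← psiU_toUG hcomm hu, psiU_eq_one_iff H p hcomm,
      toUG_val]
    constructor
    · rintro ⟨a, ha⟩
      have h1 : P * ((Q : GL κ F₀) : Matrix κ κ F₀).map j * Pi = (d⁻¹ * a) • (1 : Matrix ι ι F) := by
        rw [← smul_smul, ← ha, smul_smul, inv_mul_cancel₀ hd0, one_smul]
      have h2 : ((Q : GL κ F₀) : Matrix κ κ F₀).map j = (d⁻¹ * a) • (1 : Matrix κ κ F) := by
        calc ((Q : GL κ F₀) : Matrix κ κ F₀).map j
            = (Pi * P) * ((Q : GL κ F₀) : Matrix κ κ F₀).map j * (Pi * P) := by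
              rw [hP2, Matrix.one_mul, Matrix.mul_one]
          _ = Pi * (P * ((Q : GL κ F₀) : Matrix κ κ F₀).map j * Pi) * P := by
              simp only [Matrix.mul_assoc]
          _ = (d⁻¹ * a) • (1 : Matrix κ κ F) := by
              rw [h1, Matrix.mul_smul, Matrix.smul_mul, Matrix.mul_one, hP2]
      obtain ⟨i⟩ := ‹Nonempty κ›
      have h3 : j (((Q : GL κ F₀) : Matrix κ κ F₀) i i) = d⁻¹ * a := by
        have := congrFun (congrFun h2 i) i
        simp only [Matrix.map_apply, Matrix.smul_apply, Matrix.one_apply_eq, smul_eq_mul,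
          mul_one] at this
        exact this
      have h4 : ((Q : GL κ F₀) : Matrix κ κ F₀) =
          (((Q : GL κ F₀) : Matrix κ κ F₀) i i) • (1 : Matrix κ κ F₀) := by
        apply map_inj_rect j j.injective
        rw [h2, map_smul_rect, map_one_rect, h3]
      have h5 : ((Q : GL κ F₀) : Matrix κ κ F₀) i i ≠ 0 := by
        intro h0
        rw [h0, zero_smul] at h4
        have h6 := (Matrix.isUnits_det_units (Q : GL κ F₀)).ne_zero
        change ((Q : GL κ F₀) : Matrix κ κ F₀).det ≠ 0 at h6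
        rw [h4, Matrix.det_zero] at h6
        exact h6 rfl
      exact ⟨Units.mk0 _ h5, h4⟩
    · rintro ⟨a, ha⟩
      refine ⟨d * j (a : F₀), ?_⟩
      rw [ha, map_smul_rect, map_one_rect, Matrix.mul_smul, Matrix.smul_mul, Matrix.mul_one, hP1,
        smul_smul]
  have e1 : (simG N ⧸ η.ker) ≃* η.range := QuotientGroup.quotientKerEquivRange η
  have e2 : (simG N ⧸ η.ker) ≃* (simG N ⧸ (Cfsg.Geo.scalars κ F₀).subgroupOf (simG N)) :=
    QuotientGroup.quotientMulEquivOfEq hker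
  have e3 : η.range ≃* ↥((psiU hcomm).range ⊓ Subgroup.centralizer {grU hcomm σ₀ M}) :=
    MulEquiv.subgroupCongr hrange
  exact ⟨e3.symm.trans (e1.symm.trans e2)⟩

end cent

end Cfsg.Agent.Helper2.PUG
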