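import Mathlib
import Cfsg.Agent.Lib.Helper2.Pug4
import Cfsg.Agent.Lib.Helper2.Pua10

set_option autoImplicit false
set_option linter.unusedSimpArgs false
set_option linter.unusedVariables false
set_option linter.unusedSectionVars false

/-! Involutory graph automorphisms of the unitary groups, part 5: classes and types. -/

namespace Cfsg.Agent.Helper2.PUG

open Matrix Cfsg.Agent.Helper11 Cfsg.Agent.Helper11.Herm Cfsg.Agent.Helper2.PU
open Cfsg.Agent.Helper2.PGR Cfsg.Agent.Helper2.PUB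
open Cfsg.Agent.Helper13.FAut (fixedField mem_fixedField card_fixedField)
open Cfsg.Agent.Helper2.PN (jEmb jEmb_apply jEmb_fixed exists_jEmb_eq)

section types

variable {F : Type*} [Field F] [Finite F] {F₀ : Type*} [Field F₀] {ι : Type*} [Fintype ι]
  [DecidableEq ι] {κ κ' : Type*} [Fintype κ] [DecidableEq κ] [Fintype κ'] [DecidableEq κ']
  {φ : F →+* F} {j : F₀ →+* F}
  (H : HypU φ ι) (p : ℕ) [Fact p.Prime] [CharP F p]
  (hcomm : ∀ (σ : F ≃+* F) (x : F), σ (φ x) = φ (σ x))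
  (σ₀ : RingAut F) (hσ₀ : ∀ x, σ₀ x = φ x)

include H p hσ₀

/-- every involutory graph automorphism has a type -/
theorem exists_type (R : RealStr φ j) (hinv : ∀ σ : RingAut F, σ * σ = 1 → σ ≠ 1 → σ = σ₀)
    (β : MulAut (PGq φ ι)) (hβ : IsGraphAutS (SUg ι φ) (UG ι φ) β) (h2 : orderOf β = 2) :
    ∃ (M : UG ι φ) (B₀ : Matrix ι ι F₀), β = grU hcomm σ₀ M ∧
      DescG φ j ((M : GL ι F) : Matrix ι ι F) B₀ ∧ B₀.det ≠ 0 ∧
      (B₀ᵀ = B₀ ∨ ((2 : F₀) ≠ 0 ∧ B₀ᵀ = -B₀)) := by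
  obtain ⟨M, rfl, hM⟩ := exists_grU_of_invol H p hcomm σ₀ hσ₀ hinv β hβ h2
  have hMU : IsU φ ((M : GL ι F) : Matrix ι ι F) := M.2
  have hσ1 : σ₀ ≠ 1 := sig_ne_one H σ₀ hσ₀
  rcases hM with hM | ⟨h2F, hM⟩
  · obtain ⟨B₀, D⟩ := exists_descG σ₀ hσ₀ R hσ1 _ hMU 1 (one_mul 1) (by rw [one_smul]; exact hM)
    exact ⟨M, B₀, rfl, D, D.det_ne_zero hMU, Or.inl (D.transpose_eq hM)⟩
  · obtain ⟨B₀, D⟩ := exists_descG σ₀ hσ₀ R hσ1 _ hMU (-1) (by ring)
      (by rw [neg_one_smul]; exact hM)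
    refine ⟨M, B₀, rfl, D, D.det_ne_zero hMU, Or.inr ⟨?_, D.transpose_neg hM⟩⟩
    intro h0
    apply h2F
    have := congrArg j h0
    rw [map_zero, map_ofNat] at this
    exact this

/-- forms of the same type give conjugate graph automorphisms -/
theorem conj_of_type (R : RealStr φ j) (M M' : UG ι φ) (N : Matrix κ κ F₀)
    (N' : Matrix κ' κ' F₀) (D : DescG φ j ((M : GL ι F) : Matrix ι ι F) N)
    (D' : DescG φ j ((M' : GL ι F) : Matrix ι ι F) N') (hT : HasType N N') :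
    Cfsg.IsConjUnder (psiU hcomm).range (grU hcomm σ₀ M) (grU hcomm σ₀ M') := by
  have hne : Nonempty ι := nonempty_of_hyp H
  obtain ⟨h, μ, hU, hμ0, hM⟩ := D.exists_conj R D' M'.2 hT
  refine ⟨(psiU hcomm (toUG hU))⁻¹, inv_mem ⟨_, rfl⟩, ?_⟩
  rw [inv_inv, conj_grU, grU_eq_iff H p hcomm]
  refine ⟨μ, ?_⟩
  rw [congU_val hcomm σ₀ hσ₀, toUG_val, hM]

/-- conjugate graph automorphisms have forms of the same type -/
theorem type_of_conj [Nonempty κ'] (R : RealStr φ j) (M M' : UG ι φ) (N : Matrix κ κ F₀)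
    (N' : Matrix κ' κ' F₀) (D : DescG φ j ((M : GL ι F) : Matrix ι ι F) N)
    (D' : DescG φ j ((M' : GL ι F) : Matrix ι ι F) N')
    (hc : Cfsg.IsConjUnder (psiU hcomm).range (grU hcomm σ₀ M) (grU hcomm σ₀ M')) :
    HasType N N' := by
  obtain ⟨g, ⟨h₀, rfl⟩, hg⟩ := hc
  have h1 : psiU hcomm h₀ = (psiU hcomm h₀⁻¹)⁻¹ := by rw [map_inv, inv_inv]
  rw [h1, inv_inv, conj_grU, grU_eq_iff H p hcomm] at hg
  obtain ⟨c, hc⟩ := hg
  have hne0 := isU_ne_zero H (congU hcomm σ₀ h₀⁻¹ M).2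
  rw [congU_val hcomm σ₀ hσ₀] at hc hne0
  have hc0 : c ≠ 0 := by
    rintro rfl
    rw [zero_smul] at hc
    exact hne0 hc
  exact D.hasType_of_conj R D' M.2 (D'.ne_zero M'.2) _ (h₀⁻¹).2 c hc0 hc

/-- every nondegenerate symmetric or skew-symmetric form over the fixed field is the type of an
involutory graph automorphism -/
theorem exists_of_type (R : RealStr φ j) (htr : ∃ t : F, t + φ t ≠ 0) (N : Matrix κ κ F₀)
    (hdet : N.det ≠ 0) (hN : Nᵀ = N ∨ Nᵀ = -N) (hcard : Fintype.card ι = Fintype.card κ) :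
    ∃ M : UG ι φ, DescG φ j ((M : GL ι F) : Matrix ι ι F) N ∧
      IsGraphAutS (SUg ι φ) (UG ι φ) (grU hcomm σ₀ M) ∧ orderOf (grU hcomm σ₀ M) = 2 := by
  obtain ⟨e⟩ : Nonempty (ι ≃ κ) := ⟨Fintype.equivOfCardEq hcard⟩
  obtain ⟨N', hN'⟩ : ∃ N', N' = N.submatrix e e := ⟨_, rfl⟩
  have hdet' : N'.det ≠ 0 := by
    rw [hN', Matrix.det_submatrix_equiv_self]
    exact hdet
  obtain ⟨l₀, hl₀, hNl⟩ : ∃ l₀ : F₀, l₀ * l₀ = 1 ∧ N'ᵀ = l₀ • N' := by
    rcases hN with h | h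
    · refine ⟨1, one_mul 1, ?_⟩
      rw [one_smul, hN', Matrix.transpose_submatrix, h]
    · refine ⟨-1, by ring, ?_⟩
      rw [neg_one_smul, hN', Matrix.transpose_submatrix, h]
      rfl
  obtain ⟨M, hMU, hMT, D⟩ := exists_of_descG σ₀ hσ₀ R htr N' hdet' l₀ hl₀ hNl
  have D' : DescG φ j M N := D.of_hasType R (hN' ▸ hasType_submatrix e N)
  have hll : j l₀ * j l₀ = 1 := by rw [← map_mul, hl₀, map_one]
  refine ⟨toUG hMU, D', isGraphAutS_grU H p hcomm σ₀ hσ₀ _, ?_⟩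
  exact orderOf_grU H p hcomm σ₀ hσ₀ _ (j l₀) hll hMT

end types

section concrete

variable {F : Type*} [Field F] [Fintype F] {F₀ : Type*} [Field F₀] [Fintype F₀]

/-- the involution as a ring automorphism -/
def sigOf (φ : F →+* F) (hφφ : ∀ x, φ (φ x) = x) : RingAut F :=
  RingEquiv.ofRingHom φ φ (RingHom.ext hφφ) (RingHom.ext hφφ)

omit [Fintype F] in
theorem sigOf_apply (φ : F →+* F) (hφφ : ∀ x, φ (φ x) = x) (x : F) : sigOf φ hφφ x = φ x := rfl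

/-- a field with `q` elements is the fixed field of the Frobenius map of a field with `q²`
elements -/
theorem exists_realStr {q : ℕ} (hF : Fintype.card F = q ^ 2) (hF₀ : Fintype.card F₀ = q)
    (φ : F →+* F) (hφ : ∀ x, φ x = x ^ q) : ∃ j : F₀ →+* F, RealStr φ j := by
  have hφφ := frob_frob hF φ hφ
  have hφid := frob_ne_id hF φ hφ
  obtain ⟨σ, hσ⟩ : ∃ σ, σ = sigOf φ hφφ := ⟨_, rfl⟩
  have hσa : ∀ x, σ x = φ x := by
    intro x
    rw [hσ]
    rfl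
  have hσσ : σ * σ = 1 := by
    ext x
    rw [RingAut.mul_apply, hσa, hσa, hφφ]
    rfl
  have hσ1 : σ ≠ 1 := by
    intro h
    apply hφid
    ext x
    rw [← hσa, h]
    rfl
  have hord : orderOf σ = 2 := orderOf_eq_prime (by rw [pow_two]; exact hσσ) hσ1
  have hcard : Nat.card (fixedField σ) = q := card_fixedField σ 2 q (by norm_num) hord hF
  have : Fintype (fixedField σ) := Fintype.ofFinite _
  have e : F₀ ≃+* fixedField σ :=
    FiniteField.ringEquivOfCardEq (by rw [hF₀, ← Nat.card_eq_fintype_card, hcard])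
  refine ⟨jEmb σ e, hφφ, ?_, ?_, frob_norm_surj hF φ hφ, ?_⟩
  · intro a
    rw [← hσa]
    exact jEmb_fixed σ e a
  · intro x hx
    exact exists_jEmb_eq σ e x (by rw [hσa]; exact hx)
  · intro c hc
    obtain ⟨t, ht0, ht⟩ := Witt.exists_trace_zero φ hφid hφφ
    obtain ⟨a, ha0, -, ha⟩ := h90_invol φ (1 : F ≃+* F) hφφ ⟨t, ht0, rfl, ht⟩ hc rfl
    exact ⟨a, ha0, ha⟩

theorem hinv_frob {q : ℕ} (hF : Fintype.card F = q ^ 2) (φ : F →+* F) (hφ : ∀ x, φ x = x ^ q)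
    (σ : RingAut F) (hσσ : σ * σ = 1) (hσ1 : σ ≠ 1) :
    σ = sigOf φ (frob_frob hF φ hφ) := by
  ext x
  rw [sigOf_apply]
  exact Cfsg.Agent.Helper2.PUA.invol_eq_frob hF φ hφ σ hσσ hσ1 x

end concrete

end Cfsg.Agent.Helper2.PUG
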