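import Mathlib
import Cfsg.Agent.Lib.Helper2.Pug5

set_option autoImplicit false
set_option linter.unusedSimpArgs false
set_option linter.unusedVariables false
set_option linter.unusedSectionVars false

/-! Involutory graph automorphisms of the unitary groups, part 6: the type of a graph
automorphism, for a general pair of subgroups. -/

namespace Cfsg.Agent.Helper2.PUG

open Matrix Cfsg.Agent.Helper11 Cfsg.Agent.Helper11.Herm Cfsg.Agent.Helper2.PU
open Cfsg.Agent.Helper2.PGR Cfsg.Agent.Helper2.PUB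

section oftype

variable {F : Type*} [Field F] [Finite F] {F₀ : Type*} [Field F₀] {ι : Type*} [Fintype ι]
  [DecidableEq ι] {φ : F →+* F}
  (hcomm : ∀ (σ : F ≃+* F) (x : F), σ (φ x) = φ (σ x))
  (σ₀ : RingAut F) (j : F₀ →+* F)

/-- the graph automorphism `γ` is attached to a form descending to `N` -/
def IsOfType {κ : Type*} [Fintype κ] [DecidableEq κ]
    (S : Subgroup (Matrix.SpecialLinearGroup ι F))
    (γ : MulAut (S ⧸ Subgroup.center S)) (N : Matrix κ κ F₀) : Prop :=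
  ∃ (_ : S = SUg ι φ), ∀ γ' : MulAut (PGq φ ι), HEq γ γ' →
    ∃ M : UG ι φ, γ' = grU hcomm σ₀ M ∧ DescG φ j ((M : GL ι F) : Matrix ι ι F) N

theorem isOfType_iff {κ : Type*} [Fintype κ] [DecidableEq κ] (γ : MulAut (PGq φ ι))
    (N : Matrix κ κ F₀) :
    IsOfType hcomm σ₀ j (SUg ι φ) γ N ↔
      ∃ M : UG ι φ, γ = grU hcomm σ₀ M ∧ DescG φ j ((M : GL ι F) : Matrix ι ι F) N := by
  constructor
  · rintro ⟨-, h⟩
    exact h γ HEq.rfl
  · rintro ⟨M, hM, D⟩
    refine ⟨rfl, fun γ' hγ' => ?_⟩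
    have := eq_of_heq hγ'
    subst this
    exact ⟨M, hM, D⟩

variable {κ κ' : Type*} [Fintype κ] [DecidableEq κ] [Fintype κ'] [DecidableEq κ']
  (H : HypU φ ι) (p : ℕ) [Fact p.Prime] [CharP F p] (hσ₀ : ∀ x, σ₀ x = φ x)

include H p hσ₀

/-- every involutory graph automorphism has a type -/
theorem exists_isOfType (R : RealStr φ j)
    (hinv : ∀ σ : RingAut F, σ * σ = 1 → σ ≠ 1 → σ = σ₀)
    (S : Subgroup (Matrix.SpecialLinearGroup ι F)) (hS : S = SUg ι φ)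
    (U : Subgroup (GL ι F)) (hU : U = UG ι φ)
    (γ : MulAut (S ⧸ Subgroup.center S)) (hγ : IsGraphAutS S U γ) (h2 : orderOf γ = 2) :
    ∃ B₀ : Matrix ι ι F₀, B₀.det ≠ 0 ∧ (B₀ᵀ = B₀ ∨ ((2 : F₀) ≠ 0 ∧ B₀ᵀ = -B₀)) ∧
      IsOfType hcomm σ₀ j S γ B₀ := by
  subst hS hU
  obtain ⟨M, B₀, hM, D, hdet, hB⟩ := exists_type H p hcomm σ₀ hσ₀ R hinv γ hγ h2
  exact ⟨B₀, hdet, hB, (isOfType_iff hcomm σ₀ j γ B₀).2 ⟨M, hM, D⟩⟩

/-- every nondegenerate symmetric or skew-symmetric form is the type of an involutory graph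
automorphism -/
theorem exists_class (R : RealStr φ j) (htr : ∃ t : F, t + φ t ≠ 0)
    (S : Subgroup (Matrix.SpecialLinearGroup ι F)) (hS : S = SUg ι φ)
    (U : Subgroup (GL ι F)) (hU : U = UG ι φ) (N : Matrix κ κ F₀)
    (hdet : N.det ≠ 0) (hN : Nᵀ = N ∨ Nᵀ = -N) (hcard : Fintype.card ι = Fintype.card κ) :
    ∃ γ : MulAut (S ⧸ Subgroup.center S), IsGraphAutS S U γ ∧ orderOf γ = 2 ∧
      IsOfType hcomm σ₀ j S γ N := by
  subst hS hU
  obtain ⟨M, D, hg, ho⟩ := exists_of_type H p hcomm σ₀ hσ₀ R htr N hdet hN hcard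
  exact ⟨_, hg, ho, (isOfType_iff hcomm σ₀ j _ N).2 ⟨M, rfl, D⟩⟩

omit H p hσ₀ in
theorem IsOfType.of_hasType (R : RealStr φ j) {S : Subgroup (Matrix.SpecialLinearGroup ι F)}
    {γ : MulAut (S ⧸ Subgroup.center S)} {N : Matrix κ κ F₀} {N' : Matrix κ' κ' F₀}
    (h : IsOfType hcomm σ₀ j S γ N) (hT : HasType N N') : IsOfType hcomm σ₀ j S γ N' := by
  obtain ⟨hS, h⟩ := h
  refine ⟨hS, fun γ' hγ' => ?_⟩
  obtain ⟨M, hM, D⟩ := h γ' hγ'
  exact ⟨M, hM, D.of_hasType R hT⟩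

/-- automorphisms of the same type are conjugate -/
theorem IsOfType.conj (R : RealStr φ j) {S : Subgroup (Matrix.SpecialLinearGroup ι F)}
    (U : Subgroup (GL ι F)) (hU : U = UG ι φ)
    {γ γ' : MulAut (S ⧸ Subgroup.center S)} {N : Matrix κ κ F₀} {N' : Matrix κ' κ' F₀}
    (h : IsOfType hcomm σ₀ j S γ N) (h' : IsOfType hcomm σ₀ j S γ' N') (hT : HasType N N') :
    Cfsg.IsConjUnder (inndiagS S U) γ γ' := by
  obtain ⟨hS, -⟩ := id h
  subst hS hU
  obtain ⟨M, rfl, D⟩ := (isOfType_iff hcomm σ₀ j γ N).1 h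
  obtain ⟨M', rfl, D'⟩ := (isOfType_iff hcomm σ₀ j γ' N').1 h'
  rw [inndiagS_eq hcomm]
  exact conj_of_type H p hcomm σ₀ hσ₀ R M M' N N' D D' hT

/-- conjugate automorphisms have the same type -/
theorem IsOfType.hasType [Nonempty κ'] (R : RealStr φ j)
    {S : Subgroup (Matrix.SpecialLinearGroup ι F)}
    (U : Subgroup (GL ι F)) (hU : U = UG ι φ)
    {γ γ' : MulAut (S ⧸ Subgroup.center S)} {N : Matrix κ κ F₀} {N' : Matrix κ' κ' F₀}
    (h : IsOfType hcomm σ₀ j S γ N) (h' : IsOfType hcomm σ₀ j S γ' N')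
    (hc : Cfsg.IsConjUnder (inndiagS S U) γ γ') : HasType N N' := by
  obtain ⟨hS, -⟩ := id h
  subst hS hU
  obtain ⟨M, rfl, D⟩ := (isOfType_iff hcomm σ₀ j γ N).1 h
  obtain ⟨M', rfl, D'⟩ := (isOfType_iff hcomm σ₀ j γ' N').1 h'
  rw [inndiagS_eq hcomm] at hc
  exact type_of_conj H p hcomm σ₀ hσ₀ R M M' N N' D D' hc

end oftype

section cent

variable {F : Type*} [Field F] [Finite F] {F₀ : Type*} [Field F₀] {ι : Type*} [Fintype ι]
  [DecidableEq ι] {φ : F →+* F}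
  (hcomm : ∀ (σ : F ≃+* F) (x : F), σ (φ x) = φ (σ x))
  (σ₀ : RingAut F) (j : F₀ →+* F)
  {κ : Type} [Fintype κ] [DecidableEq κ]
  (H : HypU φ ι) (p : ℕ) [Fact p.Prime] [CharP F p] (hσ₀ : ∀ x, σ₀ x = φ x)

include H p hσ₀ in
/-- the centralizer of an automorphism of type `N` -/
theorem IsOfType.cent [Nonempty κ] (R : RealStr φ j)
    {S : Subgroup (Matrix.SpecialLinearGroup ι F)}
    (U : Subgroup (GL ι F)) (hU : U = UG ι φ)
    {γ : MulAut (S ⧸ Subgroup.center S)} {N : Matrix κ κ F₀}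
    (h : IsOfType hcomm σ₀ j S γ N) :
    Nonempty (↥(inndiagS S U ⊓ Subgroup.centralizer {γ}) ≃* Cfsg.projQuot (simG N)) := by
  obtain ⟨hS, -⟩ := id h
  subst hS hU
  obtain ⟨M, rfl, D⟩ := (isOfType_iff hcomm σ₀ j γ N).1 h
  rw [inndiagS_eq hcomm]
  exact centralizer_equiv H p hcomm σ₀ hσ₀ R M N D

include H p hσ₀ in
/-- the standard field automorphism of the involution has the type of the unit form -/
theorem isOfType_field (S : Subgroup (Matrix.SpecialLinearGroup ι F)) (hS : S = SUg ι φ)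
    (x : MulAut (S ⧸ Subgroup.center S)) (hx : IsFieldAutS S σ₀ x) :
    IsOfType hcomm σ₀ j S x (1 : Matrix ι ι F₀) := by
  subst hS
  rw [isFieldAutS_iff hcomm] at hx
  subst hx
  rw [isOfType_iff]
  refine ⟨1, ?_, 1, 1, 1, 1, Matrix.one_mul 1, Matrix.one_mul 1, one_ne_zero, one_ne_zero, ?_, ?_⟩
  · unfold grU
    rw [inv_one, map_one, one_mul]
  · rw [OneMemClass.coe_one, Units.val_one, map_one_rect, Matrix.one_mul, one_smul]
  · rw [OneMemClass.coe_one, Units.val_one, map_one_rect, Matrix.transpose_one, Matrix.one_mul,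
      Matrix.one_mul, one_smul]

end cent

end Cfsg.Agent.Helper2.PUG
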