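import Mathlib
import Cfsg.Agent.Lib.Helper2.Pug6

set_option autoImplicit false
set_option linter.unusedSimpArgs false
set_option linter.unusedVariables false
set_option linter.unusedSectionVars false

/-! Involutory graph automorphisms of the unitary groups, part 7: the splitting of the classes
under the inner automorphisms. -/

namespace Cfsg.Agent.Helper2.PUG

open Matrix Cfsg.Agent.Helper11 Cfsg.Agent.Helper11.Herm Cfsg.Agent.Helper2.PU
open Cfsg.Agent.Helper2.PGR Cfsg.Agent.Helper2.PUB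

section construct

variable {F : Type*} [Field F] {F₀ : Type*} [Field F₀] {φ : F →+* F} {j : F₀ →+* F}
variable {ι κ : Type*} [Fintype ι] [DecidableEq ι] [Fintype κ] [DecidableEq κ]

/-- a similitude of the descended form with multiplier `ν`, scaled by `d` with
`N(d) ν = 1`, gives a unitary similitude of `M` with multiplier `d² ν` -/
theorem IsDesc.unitary_of_sim (R : RealStr φ j) {M : Matrix ι ι F} {N : Matrix κ κ F₀}
    {P : Matrix ι κ F} {Pi : Matrix κ ι F} {c e : F}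
    (D : IsDesc φ j M N P Pi c e) (hMU : IsU φ M)
    (Q : Matrix κ κ F₀) (ν : F₀) (hν : ν ≠ 0) (hQ : Qᵀ * N * Q = ν • N) (d : F)
    (hd : d * φ d * j ν = 1) :
    IsU φ (d • (P * Q.map j * Pi)) ∧
      (d • (P * Q.map j * Pi))ᵀ * M * (d • (P * Q.map j * Pi)) = (d * d * j ν) • M ∧
      (d • (P * Q.map j * Pi)).det = d ^ Fintype.card ι * j Q.det := by
  obtain ⟨ha, hb⟩ := D.sim_of_real R D hMU Q ν hν hQ
  obtain ⟨hP1, hP2, hc, he, hPφ, hN⟩ := D
  have h1 : j ν * e * e⁻¹ = j ν := by rw [mul_assoc, mul_inv_cancel₀ he, mul_one]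
  have h2 : c * c⁻¹ * (j ν * e * e⁻¹) = j ν := by rw [h1, mul_inv_cancel₀ hc, one_mul]
  rw [h1] at ha
  rw [h2] at hb
  refine ⟨?_, ?_, ?_⟩
  · unfold IsU
    rw [Matrix.transpose_smul, map_smul_rect, Matrix.smul_mul, Matrix.mul_smul, smul_smul, hb,
      smul_smul, hd, one_smul]
  · rw [Matrix.transpose_smul, Matrix.smul_mul, Matrix.smul_mul, Matrix.mul_smul, ha, smul_smul,
      smul_smul]
  · rw [Matrix.det_smul, Matrix.mul_assoc, Matrix.det_comm' hP1 hP2, Matrix.mul_assoc, hP2,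
      Matrix.mul_one]
    congr 1
    rw [RingHom.map_det]
    rfl

end construct

section count

variable {F : Type*} [Field F] [Finite F] {F₀ : Type*} [Field F₀] {ι : Type*} [Fintype ι]
  [DecidableEq ι] {φ : F →+* F} {j : F₀ →+* F}
  (H : HypU φ ι) (p : ℕ) [Fact p.Prime] [CharP F p]
  (hcomm : ∀ (σ : F ≃+* F) (x : F), σ (φ x) = φ (σ x))
  (σ₀ : RingAut F) (hσ₀ : ∀ x, σ₀ x = φ x)

/-- the unitary similitudes of `M` -/
noncomputable def CM (M : UG ι φ) : Subgroup (UG ι φ) :=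
  (Subgroup.centralizer {grU hcomm σ₀ M}).comap (psiU hcomm)

include H p hσ₀

theorem mem_CM_iff (M h : UG ι φ) :
    h ∈ CM hcomm σ₀ M ↔
      ∃ c : F, ((h : GL ι F) : Matrix ι ι F)ᵀ * ((M : GL ι F) : Matrix ι ι F) *
        ((h : GL ι F) : Matrix ι ι F) = c • ((M : GL ι F) : Matrix ι ι F) := by
  unfold CM
  rw [Subgroup.mem_comap]
  exact comm_grU_iff H p hcomm σ₀ hσ₀ M h

omit hσ₀ in
theorem count_grU (M : UG ι φ) :
    Cfsg.splitClassCount (psiU hcomm).range (Cfsg.Inn (PGq φ ι)) (grU hcomm σ₀ M) =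
      ((powMonoidHom (Fintype.card ι) : nOne φ →* nOne φ).range ⊔
        (CM hcomm σ₀ M).map detU).index :=
  splitClassCount_eq H p hcomm (grU hcomm σ₀ M) (CM hcomm σ₀ M) rfl

include hcomm in
/-- the multiplier of a unitary similitude has norm one and its determinant squares to a power
of the multiplier -/
theorem mult_facts (M h : UG ι φ) (μ : F)
    (hμ : ((h : GL ι F) : Matrix ι ι F)ᵀ * ((M : GL ι F) : Matrix ι ι F) *
        ((h : GL ι F) : Matrix ι ι F) = μ • ((M : GL ι F) : Matrix ι ι F)) :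
    μ * φ μ = 1 ∧ ((h : GL ι F) : Matrix ι ι F).det ^ 2 = μ ^ Fintype.card ι := by
  have hne : Nonempty ι := nonempty_of_hyp H
  constructor
  · have h1 : IsU φ (μ • ((M : GL ι F) : Matrix ι ι F)) := by
      rw [← hμ, ← congU_val hcomm σ₀ hσ₀]
      exact (congU hcomm σ₀ h M).2
    exact norm_of_isU_smul M.2 h1
  · have hdet : ((M : GL ι F) : Matrix ι ι F).det ≠ 0 := (Matrix.isUnits_det_units _).ne_zero
    exact det_sq_of_sim _ _ hdet μ hμ

omit H p hσ₀ in
/-- `-1` in the norm-one group -/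
def negOne (φ : F →+* F) : nOne φ :=
  mkNOne φ (c := -1) (by rw [map_neg, map_one]; ring)

/-- in odd dimension the determinants of the unitary similitudes are powers -/
theorem map_detU_le_of_odd (M : UG ι φ) (hodd : Odd (Fintype.card ι)) :
    (CM hcomm σ₀ M).map detU ≤ (powMonoidHom (Fintype.card ι) : nOne φ →* nOne φ).range := by
  rintro _ ⟨h, hh, rfl⟩
  rw [SetLike.mem_coe, mem_CM_iff H p hcomm σ₀ hσ₀] at hh
  obtain ⟨μ, hμ⟩ := hh
  obtain ⟨hn1, hd2⟩ := mult_facts H p hcomm σ₀ hσ₀ M h μ hμ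
  obtain ⟨k, hk⟩ := hodd
  have h2 : (detU h : nOne φ) ^ 2 = (mkNOne φ hn1) ^ Fintype.card ι := by
    apply Subtype.ext
    apply Units.ext
    rw [Subgroup.coe_pow, Subgroup.coe_pow, Units.val_pow_eq_pow_val, Units.val_pow_eq_pow_val,
      detU_val, mkNOne_val]
    exact hd2
  exact ⟨detU h * ((mkNOne φ hn1)⁻¹) ^ k, pow_of_sq_eq _ _ _ k hk h2⟩

/-- in characteristic two the determinants of the unitary similitudes are powers -/
theorem map_detU_le_of_two (M : UG ι φ) (h2 : (2 : F) = 0) (k : ℕ)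
    (hk : Fintype.card ι = 2 * k) :
    (CM hcomm σ₀ M).map detU ≤ (powMonoidHom (Fintype.card ι) : nOne φ →* nOne φ).range := by
  rintro _ ⟨h, hh, rfl⟩
  rw [SetLike.mem_coe, mem_CM_iff H p hcomm σ₀ hσ₀] at hh
  obtain ⟨μ, hμ⟩ := hh
  obtain ⟨hn1, hd2⟩ := mult_facts H p hcomm σ₀ hσ₀ M h μ hμ
  obtain ⟨e, he⟩ := exists_sqrt_two h2 μ
  have he1 : e * φ e = 1 := by
    have h3 : (e * φ e) ^ 2 = 1 ^ 2 := by
      rw [mul_pow, ← map_pow, he, hn1, one_pow]
    exact sq_inj_two h2 h3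
  have hdet : ((h : GL ι F) : Matrix ι ι F).det = e ^ Fintype.card ι := by
    apply sq_inj_two h2
    rw [hd2, ← he, ← pow_mul, ← pow_mul, mul_comm]
  refine ⟨mkNOne φ he1, ?_⟩
  apply Subtype.ext
  apply Units.ext
  rw [powMonoidHom_apply, Subgroup.coe_pow, Units.val_pow_eq_pow_val, mkNOne_val, detU_val, hdet]

end count

section symp

variable {F : Type*} [Field F] [Finite F] {F₀ : Type*} [Field F₀] {ι : Type*} [Fintype ι]
  [DecidableEq ι] {φ : F →+* F} {j : F₀ →+* F}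
  (H : HypU φ ι) (p : ℕ) [Fact p.Prime] [CharP F p]
  (hcomm : ∀ (σ : F ≃+* F) (x : F), σ (φ x) = φ (σ x))
  (σ₀ : RingAut F) (hσ₀ : ∀ x, σ₀ x = φ x)

omit [Finite F] in
theorem J_map (j : F₀ →+* F) (k : ℕ) : (Matrix.J (Fin k) F₀).map j = Matrix.J (Fin k) F := by
  ext a b
  rcases a with a | a <;> rcases b with b | b <;>
    simp [Matrix.J, Matrix.one_apply, apply_ite]

omit [Finite F] in
/-- the determinant of a unitary similitude of a form of symplectic type -/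
theorem det_of_symp (M h : Matrix ι ι F) (k : ℕ)
    (D : DescG φ j M (Matrix.J (Fin k) F₀)) (μ : F) (hμ0 : μ ≠ 0)
    (hμ : hᵀ * M * h = μ • M) : h.det = μ ^ k := by
  obtain ⟨P, Pi, c, e, hP1, hP2, hc, he, hPφ, hN⟩ := D
  rw [J_map] at hN
  have hPiT : Piᵀ * Pᵀ = 1 := by rw [← Matrix.transpose_mul, hP1, Matrix.transpose_one]
  have h1 : (Pi * h * P)ᵀ * Matrix.J (Fin k) F * (Pi * h * P) = μ • Matrix.J (Fin k) F := by
    rw [hN]
    calc (Pi * h * P)ᵀ * e • (Pᵀ * M * P) * (Pi * h * P)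
        = e • (Pᵀ * (hᵀ * ((Piᵀ * Pᵀ) * M * (P * Pi)) * h) * P) := by
          rw [Matrix.transpose_mul, Matrix.transpose_mul]
          simp only [Matrix.mul_smul, Matrix.smul_mul, Matrix.mul_assoc]
      _ = μ • e • (Pᵀ * M * P) := by
          rw [hPiT, hP1, Matrix.one_mul, Matrix.mul_one, hμ, Matrix.mul_smul,
            Matrix.smul_mul, smul_comm]
  have h2 := det_of_sim_J (Pi * h * P) μ hμ0 h1
  rw [Matrix.mul_assoc, Matrix.det_comm' hP2 hP1, Matrix.mul_assoc, hP1, Matrix.mul_one] at h2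
  exact h2

include H p hσ₀ in
/-- the determinants of the unitary similitudes of a form of symplectic type -/
theorem map_detU_symp (R : RealStr φ j) (M : UG ι φ) (k : ℕ)
    (D : DescG φ j ((M : GL ι F) : Matrix ι ι F) (Matrix.J (Fin k) F₀)) :
    (CM hcomm σ₀ M).map detU = (powMonoidHom k : nOne φ →* nOne φ).range := by
  ext t
  constructor
  · rintro ⟨h, hh, rfl⟩
    rw [SetLike.mem_coe, mem_CM_iff H p hcomm σ₀ hσ₀] at hh
    obtain ⟨μ, hμ⟩ := hh
    obtain ⟨hn1, -⟩ := mult_facts H p hcomm σ₀ hσ₀ M h μ hμ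
    have hμ0 : μ ≠ 0 := left_ne_zero_of_mul_eq_one hn1
    refine ⟨mkNOne φ hn1, ?_⟩
    apply Subtype.ext
    apply Units.ext
    rw [powMonoidHom_apply, Subgroup.coe_pow, Units.val_pow_eq_pow_val, mkNOne_val, detU_val]
    exact (det_of_symp _ _ k D μ hμ0 hμ).symm
  · rintro ⟨μ₀, rfl⟩
    obtain ⟨P, Pi, c, e, D'⟩ := id D
    have hμ₀ : ((μ₀ : Fˣ) : F) * φ ((μ₀ : Fˣ) : F) = 1 := μ₀.2
    obtain ⟨a, ha0, ha⟩ := R.h90 _ hμ₀
    have hφa0 : φ a ≠ 0 := (map_ne_zero φ).2 ha0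
    have ht0 : a * φ a ≠ 0 := mul_ne_zero ha0 hφa0
    have htφ : φ (a * φ a)⁻¹ = (a * φ a)⁻¹ := by
      rw [map_inv₀, map_mul, R.hφφ, mul_comm]
    obtain ⟨ν₀, hν₀⟩ := R.hfix _ htφ
    have hν₀0 : ν₀ ≠ 0 := by
      rintro rfl
      rw [map_zero] at hν₀
      exact inv_ne_zero ht0 hν₀.symm
    have hd : a * φ a * j ν₀ = 1 := by rw [hν₀, mul_inv_cancel₀ ht0]
    obtain ⟨hU, hmul, -⟩ := D'.unitary_of_sim R M.2 (dilM k ν₀) ν₀ hν₀0 (dilM_sim ν₀) a hd
    have hmult : a * a * j ν₀ = ((μ₀ : Fˣ) : F) := by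
      rw [hν₀, mul_inv, ← mul_assoc, mul_assoc a a, mul_inv_cancel₀ ha0, mul_one,
        ← div_eq_mul_inv, div_eq_iff hφa0]
      exact ha.symm
    rw [hmult] at hmul
    have hmem : toUG hU ∈ CM hcomm σ₀ M := by
      rw [mem_CM_iff H p hcomm σ₀ hσ₀, toUG_val]
      exact ⟨_, hmul⟩
    refine ⟨toUG hU, hmem, ?_⟩
    apply Subtype.ext
    apply Units.ext
    rw [powMonoidHom_apply, Subgroup.coe_pow, Units.val_pow_eq_pow_val, detU_val, toUG_val]
    exact det_of_symp _ _ k D _ (left_ne_zero_of_mul_eq_one hμ₀) hmul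

end symp

end Cfsg.Agent.Helper2.PUG
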