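import Mathlib
import Cfsg.Agent.Lib.Helper2.Pug7

set_option autoImplicit false
set_option linter.unusedSimpArgs false
set_option linter.unusedVariables false
set_option linter.unusedSectionVars false

/-! Involutory graph automorphisms of the unitary groups, part 8: the class counts. -/

namespace Cfsg.Agent.Helper2.PUG

open Matrix Cfsg.Agent.Helper11 Cfsg.Agent.Helper11.Herm Cfsg.Agent.Helper2.PU
open Cfsg.Agent.Helper2.PGR Cfsg.Agent.Helper2.PUB

section orth

variable {F : Type*} [Field F] [Finite F] {F₀ : Type*} [Field F₀] [Fintype F₀] {ι : Type*}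
  [Fintype ι] [DecidableEq ι] {φ : F →+* F} {j : F₀ →+* F}
  (H : HypU φ ι) (p : ℕ) [Fact p.Prime] [CharP F p]
  (hcomm : ∀ (σ : F ≃+* F) (x : F), σ (φ x) = φ (σ x))
  (σ₀ : RingAut F) (hσ₀ : ∀ x, σ₀ x = φ x)

omit [Finite F] in
theorem negOne_val : (((negOne φ : nOne φ) : Fˣ) : F) = -1 := rfl

omit [Finite F] in
theorem negOne_sq : negOne φ * negOne φ = 1 := by
  apply Subtype.ext
  apply Units.ext
  rw [Subgroup.coe_mul, Units.val_mul, negOne_val, Subgroup.coe_one, Units.val_one]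
  ring

include H p hσ₀ in
/-- the determinants of the unitary similitudes of a form of orthogonal type in even
dimension -/
theorem sup_map_detU_orth (R : RealStr φ j) (M : UG ι φ) {n : ℕ}
    (N : Matrix (Fin n) (Fin n) F₀) (hdet : N.det ≠ 0) (hsym : Nᵀ = N) (h2 : (2 : F₀) ≠ 0)
    (k : ℕ) (hk1 : 1 ≤ k) (hnk : n = 2 * k) (hcard : Fintype.card ι = n)
    (D : DescG φ j ((M : GL ι F) : Matrix ι ι F) N) :
    (powMonoidHom (Fintype.card ι) : nOne φ →* nOne φ).range ⊔ (CM hcomm σ₀ M).map detU =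
      Subgroup.zpowers (negOne φ) ⊔ (powMonoidHom k : nOne φ →* nOne φ).range := by
  obtain ⟨P, Pi, c, e, D'⟩ := id D
  -- `-1` is a determinant
  have hneg : negOne φ ∈ (CM hcomm σ₀ M).map detU := by
    obtain ⟨g, hg, hgd⟩ := exists_sim_det_neg_one N hdet hsym h2 (by omega)
    have hQ : (g : Matrix (Fin n) (Fin n) F₀)ᵀ * N * (g : Matrix (Fin n) (Fin n) F₀) =
        (1 : F₀) • N := by rw [one_smul]; exact hg
    obtain ⟨hU, hmul, hd⟩ := D'.unitary_of_sim R M.2 _ 1 one_ne_zero hQ 1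
      (by rw [map_one, map_one, mul_one, mul_one])
    have hmem : toUG hU ∈ CM hcomm σ₀ M := by
      rw [mem_CM_iff H p hcomm σ₀ hσ₀, toUG_val]
      exact ⟨_, hmul⟩
    refine ⟨toUG hU, hmem, ?_⟩
    apply Subtype.ext
    apply Units.ext
    rw [detU_val, toUG_val, hd, hgd, one_pow, one_mul, map_neg, map_one, negOne_val]
  apply le_antisymm
  · apply sup_le
    · rintro _ ⟨x, rfl⟩
      apply Subgroup.mem_sup_right
      refine ⟨x ^ 2, ?_⟩
      rw [powMonoidHom_apply, powMonoidHom_apply, ← pow_mul, hcard, hnk]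
    · rintro _ ⟨h, hh, rfl⟩
      rw [SetLike.mem_coe, mem_CM_iff H p hcomm σ₀ hσ₀] at hh
      obtain ⟨μ, hμ⟩ := hh
      obtain ⟨hn1, hd2⟩ := mult_facts H p hcomm σ₀ hσ₀ M h μ hμ
      have h3 : ((h : GL ι F) : Matrix ι ι F).det ^ 2 = (μ ^ k) ^ 2 := by
        rw [hd2, ← pow_mul, mul_comm, hcard, hnk]
      rcases sq_eq_sq_iff_eq_or_eq_neg.1 h3 with h4 | h4
      · apply Subgroup.mem_sup_right
        refine ⟨mkNOne φ hn1, ?_⟩
        apply Subtype.ext
        apply Units.ext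
        rw [powMonoidHom_apply, Subgroup.coe_pow, Units.val_pow_eq_pow_val, mkNOne_val, detU_val,
          h4]
      · have h5 : detU h = negOne φ * (mkNOne φ hn1) ^ k := by
          apply Subtype.ext
          apply Units.ext
          rw [Subgroup.coe_mul, Units.val_mul, negOne_val, Subgroup.coe_pow,
            Units.val_pow_eq_pow_val, mkNOne_val, detU_val, h4, neg_one_mul]
        rw [h5]
        exact Subgroup.mul_mem _ (Subgroup.mem_sup_left (Subgroup.mem_zpowers _))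
          (Subgroup.mem_sup_right ⟨mkNOne φ hn1, rfl⟩)
  · apply sup_le
    · rw [Subgroup.zpowers_le]
      exact Subgroup.mem_sup_right hneg
    · rintro _ ⟨μ₀, rfl⟩
      have hμ₀ : ((μ₀ : Fˣ) : F) * φ ((μ₀ : Fˣ) : F) = 1 := μ₀.2
      obtain ⟨a, ha0, ha⟩ := R.h90 _ hμ₀
      have hφa0 : φ a ≠ 0 := (map_ne_zero φ).2 ha0
      have ht0 : a * φ a ≠ 0 := mul_ne_zero ha0 hφa0
      have htφ : φ (a * φ a)⁻¹ = (a * φ a)⁻¹ := by
        rw [map_inv₀, map_mul, R.hφφ, mul_comm]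
      obtain ⟨ν₀, hν₀⟩ := R.hfix _ htφ
      have hν₀0 : ν₀ ≠ 0 := by
        rintro rfl
        rw [map_zero] at hν₀
        exact inv_ne_zero ht0 hν₀.symm
      have hd : a * φ a * j ν₀ = 1 := by rw [hν₀, mul_inv_cancel₀ ht0]
      obtain ⟨g, hg⟩ := exists_sim_of_mult N hdet hsym h2 (by omega) ⟨k, by omega⟩
        (Units.mk0 ν₀ hν₀0)
      rw [Units.val_mk0] at hg
      obtain ⟨hU, hmul, -⟩ := D'.unitary_of_sim R M.2 _ ν₀ hν₀0 hg a hd
      have hmult : a * a * j ν₀ = ((μ₀ : Fˣ) : F) := by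
        rw [hν₀, mul_inv, ← mul_assoc, mul_assoc a a, mul_inv_cancel₀ ha0, mul_one,
          ← div_eq_mul_inv, div_eq_iff hφa0]
        exact ha.symm
      rw [hmult] at hmul
      have hmem : toUG hU ∈ CM hcomm σ₀ M := by
        rw [mem_CM_iff H p hcomm σ₀ hσ₀, toUG_val]
        exact ⟨_, hmul⟩
      have hdmem : detU (toUG hU) ∈ (CM hcomm σ₀ M).map detU := ⟨_, hmem, rfl⟩
      obtain ⟨-, hd2⟩ := mult_facts H p hcomm σ₀ hσ₀ M (toUG hU) _ hmul
      have h3 : (((toUG hU : UG ι φ) : GL ι F) : Matrix ι ι F).det ^ 2 =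
          (((μ₀ : Fˣ) : F) ^ k) ^ 2 := by
        rw [hd2, ← pow_mul, mul_comm, hcard, hnk]
      rw [powMonoidHom_apply]
      rcases sq_eq_sq_iff_eq_or_eq_neg.1 h3 with h4 | h4
      · have h5 : μ₀ ^ k = detU (toUG hU) := by
          apply Subtype.ext
          apply Units.ext
          rw [Subgroup.coe_pow, Units.val_pow_eq_pow_val, detU_val, h4]
        rw [h5]
        exact Subgroup.mem_sup_right hdmem
      · have h5 : μ₀ ^ k = negOne φ * detU (toUG hU) := by
          apply Subtype.ext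
          apply Units.ext
          rw [Subgroup.coe_mul, Units.val_mul, negOne_val, Subgroup.coe_pow,
            Units.val_pow_eq_pow_val, detU_val, h4]
          ring
        rw [h5]
        exact Subgroup.mul_mem _ (Subgroup.mem_sup_right hneg) (Subgroup.mem_sup_right hdmem)

omit [Fintype F₀] in
/-- the index of the group generated by `-1` and the `k`-th powers in the norm-one group -/
theorem index_negOne_sup_pow (h2 : (2 : F) ≠ 0) (q : ℕ) (hq1 : Nat.card (nOne φ) = q + 1)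
    (k : ℕ) :
    (Subgroup.zpowers (negOne φ) ⊔ (powMonoidHom k : nOne φ →* nOne φ).range).index =
      Nat.gcd (2 * k) (q + 1) / 2 := by
  rw [sup_comm, Cfsg.Agent.Helper2.PN.index_pow_sup]
  have h3 : Nat.card (Subgroup.zpowers (negOne φ)) = 2 := by
    rw [Nat.card_zpowers]
    apply orderOf_eq_prime
    · rw [pow_two]
      exact negOne_sq
    · intro h
      have h4 : (((negOne φ : nOne φ) : Fˣ) : F) = (((1 : nOne φ) : Fˣ) : F) := by rw [h]
      rw [negOne_val, Subgroup.coe_one, Units.val_one] at h4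
      apply h2
      linear_combination -h4
  have h4 := Subgroup.card_mul_index (Subgroup.zpowers (negOne φ))
  rw [h3, hq1] at h4
  rw [← h4, Nat.gcd_mul_left, Nat.mul_div_cancel_left _ (by norm_num : 0 < 2)]

end orth

section general

variable {F : Type*} [Field F] [Finite F] {F₀ : Type*} [Field F₀] [Fintype F₀] {ι : Type*}
  [Fintype ι] [DecidableEq ι] {φ : F →+* F}
  (hcomm : ∀ (σ : F ≃+* F) (x : F), σ (φ x) = φ (σ x))
  (σ₀ : RingAut F) (j : F₀ →+* F)
  (H : HypU φ ι) (p : ℕ) [Fact p.Prime] [CharP F p] (hσ₀ : ∀ x, σ₀ x = φ x)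

include H p hσ₀

/-- the class count in odd dimension or in characteristic two -/
theorem IsOfType.count_eq_gcd {κ : Type*} [Fintype κ] [DecidableEq κ]
    {S : Subgroup (Matrix.SpecialLinearGroup ι F)} (U : Subgroup (GL ι F)) (hU : U = UG ι φ)
    {γ : MulAut (S ⧸ Subgroup.center S)} {N : Matrix κ κ F₀}
    (h : IsOfType hcomm σ₀ j S γ N)
    (hcase : Odd (Fintype.card ι) ∨ ((2 : F) = 0 ∧ Even (Fintype.card ι))) (q : ℕ)
    (hq1 : Nat.card (nOne φ) = q + 1) :
    Cfsg.splitClassCount (inndiagS S U) (Cfsg.Inn (S ⧸ Subgroup.center S)) γ =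
      Nat.gcd (Fintype.card ι) (q + 1) := by
  obtain ⟨hS, -⟩ := id h
  subst hS hU
  obtain ⟨M, rfl, D⟩ := (isOfType_iff hcomm σ₀ j γ N).1 h
  rw [inndiagS_eq hcomm, count_grU H p hcomm σ₀ M]
  have hle : (CM hcomm σ₀ M).map detU ≤
      (powMonoidHom (Fintype.card ι) : nOne φ →* nOne φ).range := by
    rcases hcase with ho | ⟨h2, ⟨k, hk⟩⟩
    · exact map_detU_le_of_odd H p hcomm σ₀ hσ₀ M ho
    · exact map_detU_le_of_two H p hcomm σ₀ hσ₀ M h2 k (by omega)
  rw [sup_eq_left.2 hle, IsCyclic.index_powMonoidHom_range, hq1, Nat.gcd_comm]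

/-- the class count for the symplectic type -/
theorem IsOfType.count_symp (R : RealStr φ j)
    {S : Subgroup (Matrix.SpecialLinearGroup ι F)} (U : Subgroup (GL ι F)) (hU : U = UG ι φ)
    {γ : MulAut (S ⧸ Subgroup.center S)} (k : ℕ)
    (h : IsOfType hcomm σ₀ j S γ (Matrix.J (Fin k) F₀))
    (hnk : Fintype.card ι = 2 * k) (q : ℕ) (hq1 : Nat.card (nOne φ) = q + 1) :
    Cfsg.splitClassCount (inndiagS S U) (Cfsg.Inn (S ⧸ Subgroup.center S)) γ =
      Nat.gcd k (q + 1) := by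
  obtain ⟨hS, -⟩ := id h
  subst hS hU
  obtain ⟨M, rfl, D⟩ := (isOfType_iff hcomm σ₀ j γ _).1 h
  rw [inndiagS_eq hcomm, count_grU H p hcomm σ₀ M, map_detU_symp H p hcomm σ₀ hσ₀ R M k D]
  have hle : (powMonoidHom (Fintype.card ι) : nOne φ →* nOne φ).range ≤
      (powMonoidHom k : nOne φ →* nOne φ).range := by
    rintro _ ⟨x, rfl⟩
    exact ⟨x ^ 2, by rw [powMonoidHom_apply, powMonoidHom_apply, ← pow_mul, hnk]⟩
  rw [sup_eq_right.2 hle, IsCyclic.index_powMonoidHom_range, hq1, Nat.gcd_comm]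

/-- the class count for the orthogonal types in even dimension -/
theorem IsOfType.count_orth (R : RealStr φ j)
    {S : Subgroup (Matrix.SpecialLinearGroup ι F)} (U : Subgroup (GL ι F)) (hU : U = UG ι φ)
    {γ : MulAut (S ⧸ Subgroup.center S)} {n : ℕ} (N : Matrix (Fin n) (Fin n) F₀)
    (h : IsOfType hcomm σ₀ j S γ N) (hdet : N.det ≠ 0) (hsym : Nᵀ = N) (h2 : (2 : F₀) ≠ 0)
    (k : ℕ) (hk1 : 1 ≤ k) (hnk : n = 2 * k) (hcard : Fintype.card ι = n) (q : ℕ)
    (hq1 : Nat.card (nOne φ) = q + 1) :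
    Cfsg.splitClassCount (inndiagS S U) (Cfsg.Inn (S ⧸ Subgroup.center S)) γ =
      Nat.gcd (2 * k) (q + 1) / 2 := by
  obtain ⟨hS, -⟩ := id h
  subst hS hU
  obtain ⟨M, rfl, D⟩ := (isOfType_iff hcomm σ₀ j γ _).1 h
  have h2F : (2 : F) ≠ 0 := by
    intro h0
    apply h2
    apply j.injective
    rw [map_ofNat, map_zero]
    exact h0
  rw [inndiagS_eq hcomm, count_grU H p hcomm σ₀ M,
    sup_map_detU_orth H p hcomm σ₀ hσ₀ R M N hdet hsym h2 k hk1 hnk hcard D,
    index_negOne_sup_pow h2F q hq1]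

end general

end Cfsg.Agent.Helper2.PUG
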