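import Mathlib
import Cfsg.Agent.Lib.Helper24.RUDefs
import Cfsg.Agent.Lib.Helper24.CharAbelian

/-!
# S4751 piece C2A (helper2): `|P| ≤ 2 |B'|` for a 2-group `B` containing `P` with index two.
-/

set_option autoImplicit false
set_option linter.style.haveILetI false

namespace Cfsg.Agent.Helper24.RU

open Cfsg Cfsg.Agent.Helper24
open scoped ComplexConjugate commutatorElement

universe u

section Abstract

variable {H : Type u} [Group H] [Fintype H]

theorem c2a_pow_card (μ : H →* ℂˣ) (x : H) : ((μ x : ℂˣ) : ℂ) ^ Fintype.card H = 1 := by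
  rw [← Units.val_pow_eq_pow_val, ← map_pow, pow_card_eq_one, map_one, Units.val_one]

theorem c2a_norm (μ : H →* ℂˣ) (x : H) : ‖((μ x : ℂˣ) : ℂ)‖ = 1 :=
  Complex.norm_eq_one_of_pow_eq_one (c2a_pow_card μ x) Fintype.card_ne_zero

theorem c2a_normSq (μ : H →* ℂˣ) (x : H) : Complex.normSq ((μ x : ℂˣ) : ℂ) = 1 := by
  rw [Complex.normSq_eq_norm_sq, c2a_norm, one_pow]

theorem c2a_mul_conj (μ : H →* ℂˣ) (x : H) :
    ((μ x : ℂˣ) : ℂ) * conj ((μ x : ℂˣ) : ℂ) = 1 := by
  rw [Complex.mul_conj, c2a_normSq]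
  simp

theorem c2a_finite_hom : Finite (H →* ℂˣ) := by
  apply Nat.finite_of_card_ne_zero
  rw [card_monoidHom_units]
  exact Subgroup.index_ne_zero_of_finite

/-- column orthogonality for the linear characters, on the commutator subgroup -/
theorem c2a_col_sum_mem [Fintype (H →* ℂˣ)] {x : H} (hx : x ∈ commutator H) :
    ∑ μ : H →* ℂˣ, ((μ x : ℂˣ) : ℂ) = ((commutator H).index : ℂ) := by
  have h1 : ∀ μ : H →* ℂˣ, ((μ x : ℂˣ) : ℂ) = 1 := by
    intro μ
    have := Abelianization.commutator_subset_ker μ hx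
    rw [MonoidHom.mem_ker] at this
    rw [this]
    rfl
  simp only [h1, Finset.sum_const, Finset.card_univ, nsmul_eq_mul, mul_one]
  rw [← card_monoidHom_units, Nat.card_eq_fintype_card]

/-- column orthogonality for the linear characters, off the commutator subgroup -/
theorem c2a_col_sum_not_mem [Fintype (H →* ℂˣ)] {x : H} (hx : x ∉ commutator H) :
    ∑ μ : H →* ℂˣ, ((μ x : ℂˣ) : ℂ) = 0 := by
  have hx' : (Abelianization.of x : Abelianization H) ≠ 1 := by
    intro h
    apply hx
    exact (QuotientGroup.eq_one_iff x).mp h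
  obtain ⟨φ, hφ⟩ :=
    CommGroup.exists_apply_ne_one_of_hasEnoughRootsOfUnity (Abelianization H) ℂ hx'
  set μ₀ : H →* ℂˣ := φ.comp Abelianization.of with hμ₀
  have hμ₀x : ((μ₀ x : ℂˣ) : ℂ) ≠ 1 := by
    intro h
    apply hφ
    apply Units.ext
    exact h
  set A := ∑ μ : H →* ℂˣ, ((μ x : ℂˣ) : ℂ) with hA
  have h1 : ((μ₀ x : ℂˣ) : ℂ) * A = A := by
    rw [hA, Finset.mul_sum]
    exact Fintype.sum_equiv (Equiv.mulLeft μ₀) _ _ (fun μ => by simp [MonoidHom.mul_apply])
  have h2 : (((μ₀ x : ℂˣ) : ℂ) - 1) * A = 0 := by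
    rw [sub_mul, h1, one_mul, sub_self]
  rcases mul_eq_zero.mp h2 with h | h
  · exact absurd (sub_eq_zero.mp h) hμ₀x
  · exact h

/-- a complex number of norm one with real part one is one -/
theorem c2a_eq_one_of_re {z : ℂ} (hn : Complex.normSq z = 1) (hre : z.re = 1) : z = 1 := by
  rw [Complex.normSq_apply, hre] at hn
  have him : z.im = 0 := by nlinarith
  apply Complex.ext
  · simpa using hre
  · simpa using him

theorem c2a_re_le_one {z : ℂ} (hn : Complex.normSq z = 1) : z.re ≤ 1 := by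
  rw [Complex.normSq_apply] at hn
  nlinarith [sq_nonneg z.im, sq_nonneg (z.re - 1)]

/-- the sum of a linear character over a subgroup has nonnegative real part -/
theorem c2a_sub_sum_re_nonneg [DecidableEq H] (Q : Subgroup H) [DecidablePred (· ∈ Q)]
    (μ : H →* ℂˣ) :
    0 ≤ (∑ x ∈ Finset.univ.filter (· ∈ Q), ((μ x : ℂˣ) : ℂ)).re := by
  by_cases hex : ∃ y ∈ Q, ((μ y : ℂˣ) : ℂ) ≠ 1
  · obtain ⟨y, hy, hμy⟩ := hex
    set T := ∑ x ∈ Finset.univ.filter (· ∈ Q), ((μ x : ℂˣ) : ℂ) with hT
    have h1 : ((μ y : ℂˣ) : ℂ) * T = T := by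
      rw [hT, Finset.mul_sum]
      refine Finset.sum_equiv (Equiv.mulLeft y) ?_ ?_
      · intro i
        simp only [Finset.mem_filter, Finset.mem_univ, true_and, Equiv.coe_mulLeft]
        exact ⟨fun h => Q.mul_mem hy h, fun h => by
          have := Q.mul_mem (Q.inv_mem hy) h
          rwa [inv_mul_cancel_left] at this⟩
      · intro i _
        simp
    have h2 : (((μ y : ℂˣ) : ℂ) - 1) * T = 0 := by
      rw [sub_mul, h1, one_mul, sub_self]
    rcases mul_eq_zero.mp h2 with h | h
    · exact absurd (sub_eq_zero.mp h) hμy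
    · rw [h]
      simp
  · push Not at hex
    have : ∑ x ∈ Finset.univ.filter (· ∈ Q), ((μ x : ℂˣ) : ℂ) =
        ∑ x ∈ Finset.univ.filter (· ∈ Q), (1 : ℂ) :=
      Finset.sum_congr rfl (fun x hx => hex x (Finset.mem_filter.1 hx).2)
    rw [this]
    simp

theorem c2a_card_filter (Q : Subgroup H) [DecidablePred (· ∈ Q)] :
    (Finset.univ.filter (· ∈ Q)).card = Nat.card Q := by
  rw [Nat.card_eq_fintype_card, Fintype.card_subtype]

/-- the abstract form of piece C2A -/
theorem c2a_main {ψ : H → ℂ} (hψ : IsCharacter H ψ)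
    (Q : Subgroup H) (hidx : Q.index = 2) (h1 : ψ 1 = (Nat.card Q : ℂ) - 1)
    (hval : ∀ x ∈ Q, x ≠ 1 → ψ x = -1) (hns : ∀ x, x ∉ Q → Complex.normSq (ψ x) = 1) :
    Nat.card Q ≤ 2 * Nat.card (commutator H) := by
  classical
  have : Finite (H →* ℂˣ) := c2a_finite_hom
  letI : Fintype (H →* ℂˣ) := Fintype.ofFinite _
  letI : Fintype (IrrCharacter H) := irrFintype
  set q := Nat.card Q with hq
  have hqpos : 0 < q := Nat.card_pos
  have hmul : ∀ {a b : H}, a * b ∈ Q ↔ (a ∈ Q ↔ b ∈ Q) :=
    fun {a b} => Subgroup.mul_mem_iff_of_index_two hidx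
  have hn : Q.Normal := Subgroup.normal_of_index_eq_two hidx
  have hcardH : Fintype.card H = 2 * q := by
    have := Q.card_mul_index
    rw [hidx, Nat.card_eq_fintype_card (α := H)] at this
    omega
  -- the commutator subgroup lies in Q
  have hDQ : commutator H ≤ Q := by
    rw [commutator_def, Subgroup.commutator_le]
    intro a _ b _
    rw [commutatorElement_def, hmul, Q.inv_mem_iff]
    constructor
    · intro h
      have := hn.conj_mem _ h a⁻¹
      have e : a⁻¹ * (a * b * a⁻¹) * a⁻¹⁻¹ = b := by group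
      rwa [e] at this
    · intro h
      exact hn.conj_mem _ h a
  -- values on Q
  have hvalQ : ∀ x ∈ Q, ψ x = (if x = 1 then (q : ℂ) else 0) - 1 := by
    intro x hx
    by_cases hx1 : x = 1
    · rw [if_pos hx1, hx1, h1]
    · rw [if_neg hx1, hval x hx hx1]
      ring
  have hcountQ : (Finset.univ.filter (fun x : H => x ∈ Q)).card = q := c2a_card_filter Q
  have hcountN : (Finset.univ.filter (fun x : H => x ∉ Q)).card = q := by
    have := Finset.card_filter_add_card_filter_not (s := (Finset.univ : Finset H))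
      (fun x : H => x ∈ Q)
    rw [hcountQ, Finset.card_univ, hcardH] at this
    omega
  have h2q : ((2 * q : ℕ) : ℂ) ≠ 0 := by
    exact_mod_cast (by omega : 2 * q ≠ 0)
  -- multiplicities
  have hnat : ∀ μ : H →* ℂˣ, ∃ m : ℕ,
      ∑ x : H, ψ x * conj ((μ x : ℂˣ) : ℂ) = (m : ℂ) * ((2 * q : ℕ) : ℂ) := by
    intro μ
    obtain ⟨m, hm⟩ := classInner_char_nat hψ
      (isCharacter_of_isIrrCharacter (isIrrCharacter_of_monoidHom μ))
    refine ⟨m, ?_⟩
    unfold classInner at hm
    rw [Nat.card_eq_fintype_card, hcardH, inv_mul_eq_iff_eq_mul₀ h2q] at hm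
    rw [hm]
    ring
  -- the bound and the equality case
  have hbound : ∀ μ : H →* ℂˣ,
      (∑ x : H, ψ x * conj ((μ x : ℂˣ) : ℂ)).re ≤ 2 * q ∧
      ((∑ x : H, ψ x * conj ((μ x : ℂˣ) : ℂ)).re = 2 * q →
        ∀ x, x ∉ Q → ψ x = ((μ x : ℂˣ) : ℂ)) := by
    intro μ
    set f : H → ℂ := fun x => ψ x * conj ((μ x : ℂˣ) : ℂ) with hf
    have hsplit : ∑ x : H, f x = ∑ x ∈ Finset.univ.filter (fun x : H => x ∈ Q), f x +
        ∑ x ∈ Finset.univ.filter (fun x : H => x ∉ Q), f x :=
      (Finset.sum_filter_add_sum_filter_not _ _ _).symm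
    have hQpart : ∑ x ∈ Finset.univ.filter (fun x : H => x ∈ Q), f x =
        (q : ℂ) - conj (∑ x ∈ Finset.univ.filter (fun x : H => x ∈ Q), ((μ x : ℂˣ) : ℂ)) := by
      have e1 : ∀ x ∈ Finset.univ.filter (fun x : H => x ∈ Q),
          f x = (if x = 1 then (q : ℂ) else 0) - conj ((μ x : ℂˣ) : ℂ) := by
        intro x hx
        have hxQ := (Finset.mem_filter.1 hx).2
        rw [hf]
        simp only
        rw [hvalQ x hxQ]
        by_cases hx1 : x = 1
        · subst hx1
          simp
        · rw [if_neg hx1]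
          ring
      rw [Finset.sum_congr rfl e1, Finset.sum_sub_distrib, Finset.sum_ite_eq', map_sum]
      rw [if_pos (by simp [Q.one_mem])]
    have hT := c2a_sub_sum_re_nonneg Q μ
    have hterm : ∀ x, x ∉ Q → Complex.normSq (f x) = 1 := by
      intro x hx
      rw [hf]
      simp only
      rw [map_mul, hns x hx, Complex.normSq_conj, c2a_normSq, mul_one]
    have hout : (∑ x ∈ Finset.univ.filter (fun x : H => x ∉ Q), f x).re ≤ q := by
      rw [Complex.re_sum]
      calc ∑ x ∈ Finset.univ.filter (fun x : H => x ∉ Q), (f x).re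
          ≤ ∑ x ∈ Finset.univ.filter (fun x : H => x ∉ Q), (1 : ℝ) :=
            Finset.sum_le_sum (fun x hx => c2a_re_le_one (hterm x (Finset.mem_filter.1 hx).2))
        _ = q := by simp [hcountN]
    have hQre : (∑ x ∈ Finset.univ.filter (fun x : H => x ∈ Q), f x).re ≤ q := by
      rw [hQpart, Complex.sub_re, Complex.conj_re]
      simp only [Complex.natCast_re]
      linarith
    constructor
    · rw [hsplit, Complex.add_re]
      linarith
    · intro heq x hx
      rw [hsplit, Complex.add_re] at heq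
      have hout' : (∑ x ∈ Finset.univ.filter (fun x : H => x ∉ Q), f x).re = q := by linarith
      rw [Complex.re_sum] at hout'
      have hre1 : (f x).re = 1 := by
        by_contra hne
        have hlt : (f x).re < 1 := lt_of_le_of_ne (c2a_re_le_one (hterm x hx)) hne
        have : ∑ y ∈ Finset.univ.filter (fun x : H => x ∉ Q), (f y).re <
            ∑ y ∈ Finset.univ.filter (fun x : H => x ∉ Q), (1 : ℝ) :=
          Finset.sum_lt_sum
            (fun y hy => c2a_re_le_one (hterm y (Finset.mem_filter.1 hy).2))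
            ⟨x, by simp [hx], hlt⟩
        rw [hout'] at this
        simp [hcountN] at this
      have hfx : f x = 1 := c2a_eq_one_of_re (hterm x hx) hre1
      rw [hf] at hfx
      simp only at hfx
      calc ψ x = ψ x * (conj ((μ x : ℂˣ) : ℂ) * ((μ x : ℂˣ) : ℂ)) := by
            rw [mul_comm (conj _), c2a_mul_conj, mul_one]
        _ = (ψ x * conj ((μ x : ℂˣ) : ℂ)) * ((μ x : ℂˣ) : ℂ) := by ring
        _ = ((μ x : ℂˣ) : ℂ) := by rw [hfx, one_mul]
  choose m hm using hnat
  have hmre : ∀ μ : H →* ℂˣ, (∑ x : H, ψ x * conj ((μ x : ℂˣ) : ℂ)).re = (m μ : ℝ) * (2 * q) := by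
    intro μ
    rw [hm μ]
    simp
  have hmle : ∀ μ, m μ ≤ 1 := by
    intro μ
    have h := (hbound μ).1
    rw [hmre μ] at h
    have hq' : (0 : ℝ) < 2 * q := by positivity
    have : (m μ : ℝ) ≤ 1 := by
      by_contra hcon
      push Not at hcon
      nlinarith
    exact_mod_cast this
  -- an element outside Q
  obtain ⟨y, hy⟩ : ∃ y, y ∉ Q := by
    by_contra hcon
    push Not at hcon
    have : Q = ⊤ := eq_top_iff.2 (fun g _ => hcon g)
    rw [this, Subgroup.index_top] at hidx
    omega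
  have huniq : ∀ μ μ' : H →* ℂˣ, m μ = 1 → m μ' = 1 → μ = μ' := by
    intro μ μ' h1' h2'
    have e1 := (hbound μ).2 (by rw [hmre μ, h1']; simp)
    have e2 := (hbound μ').2 (by rw [hmre μ', h2']; simp)
    have hout : ∀ x, x ∉ Q → μ x = μ' x := by
      intro x hx
      apply Units.ext
      rw [← e1 x hx, ← e2 x hx]
    ext x
    congr 1
    by_cases hx : x ∈ Q
    · have hxy : x * y ∉ Q := by
        rw [hmul]
        exact fun h => hy (h.1 hx)
      have h3 := hout (x * y) hxy
      rw [map_mul, map_mul, hout y hy] at h3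
      exact mul_right_cancel h3
    · exact hout x hx
  have hM : ∑ μ : H →* ℂˣ, m μ ≤ 1 := by
    by_cases hex : ∃ μ₁, m μ₁ = 1
    · obtain ⟨μ₁, hμ₁⟩ := hex
      rw [Finset.sum_eq_single μ₁, hμ₁]
      · intro μ _ hne
        have h1' := hmle μ
        have h2' : m μ ≠ 1 := fun h => hne (huniq μ μ₁ h hμ₁)
        omega
      · intro h
        exact absurd (Finset.mem_univ _) h
    · push Not at hex
      have : ∀ μ ∈ (Finset.univ : Finset (H →* ℂˣ)), m μ = 0 := by
        intro μ _
        have h1' := hmle μ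
        have h2' := hex μ
        omega
      rw [Finset.sum_eq_zero this]
      omega
  -- the double sum
  set d := Nat.card (commutator H) with hd
  have hcountD : (Finset.univ.filter (fun x : H => x ∈ commutator H)).card = d :=
    c2a_card_filter (commutator H)
  have hsum : ∑ μ : H →* ℂˣ, ∑ x : H, ψ x * conj ((μ x : ℂˣ) : ℂ) =
      ((commutator H).index : ℂ) * ((q : ℂ) - (d : ℂ)) := by
    rw [Finset.sum_comm]
    have e1 : ∀ x : H, ∑ μ : H →* ℂˣ, ψ x * conj ((μ x : ℂˣ) : ℂ) =
        if x ∈ commutator H then ψ x * ((commutator H).index : ℂ) else 0 := by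
      intro x
      rw [← Finset.mul_sum, ← map_sum]
      split_ifs with hx
      · rw [c2a_col_sum_mem hx, Complex.conj_natCast]
      · rw [c2a_col_sum_not_mem hx, map_zero, mul_zero]
    rw [Finset.sum_congr rfl (fun x _ => e1 x), ← Finset.sum_filter, ← Finset.sum_mul]
    have e2 : ∑ x ∈ Finset.univ.filter (fun x : H => x ∈ commutator H), ψ x = (q : ℂ) - (d : ℂ) := by
      have e3 : ∀ x ∈ Finset.univ.filter (fun x : H => x ∈ commutator H),
          ψ x = (if x = 1 then (q : ℂ) else 0) - 1 :=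
        fun x hx => hvalQ x (hDQ (Finset.mem_filter.1 hx).2)
      rw [Finset.sum_congr rfl e3, Finset.sum_sub_distrib, Finset.sum_ite_eq',
        if_pos (by simp [(commutator H).one_mem])]
      simp [hcountD]
    rw [e2, mul_comm]
  have hsum2 : ∑ μ : H →* ℂˣ, ∑ x : H, ψ x * conj ((μ x : ℂˣ) : ℂ) =
      ((∑ μ : H →* ℂˣ, m μ : ℕ) : ℂ) * ((2 * q : ℕ) : ℂ) := by
    rw [Finset.sum_congr rfl (fun μ _ => hm μ), ← Finset.sum_mul]
    push_cast
    rfl
  set M := ∑ μ : H →* ℂˣ, m μ with hMdef
  have hidxd : d * (commutator H).index = 2 * q := by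
    rw [hd, (commutator H).card_mul_index, Nat.card_eq_fintype_card, hcardH]
  have hidx0 : ((commutator H).index : ℂ) ≠ 0 := by
    exact_mod_cast Subgroup.index_ne_zero_of_finite
  have hfin : (q : ℂ) = ((M + 1) * d : ℕ) := by
    have h3 : ((commutator H).index : ℂ) * ((q : ℂ) - (d : ℂ)) =
        (M : ℂ) * ((d : ℂ) * ((commutator H).index : ℂ)) := by
      rw [← hsum, hsum2, ← hidxd]
      push_cast
      ring
    have h4 : ((commutator H).index : ℂ) * ((q : ℂ) - (d : ℂ) - (M : ℂ) * (d : ℂ)) = 0 := by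
      linear_combination h3
    rcases mul_eq_zero.mp h4 with h | h
    · exact absurd h hidx0
    · push_cast
      linear_combination h
  have hfin' : q = (M + 1) * d := by exact_mod_cast hfin
  rw [hfin']
  have : M + 1 ≤ 2 := by omega
  exact Nat.mul_le_mul_right d this

end Abstract

variable {G : Type u} [Group G] [Fintype G]

/-- PIECE C2A. -/
theorem card_le_two_mul_commutator {χ : G → ℂ} (h : Hyp G 2 χ) (P : Subgroup G)
    (hres : Res χ P) (B : Subgroup G) (hB : IsPGroup 2 B) (hPB : P ≤ B)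
    (hcard : Nat.card B = 2 * Nat.card P) : Nat.card P ≤ 2 * Nat.card (commutator B) := by
  classical
  letI : Fintype B := Fintype.ofFinite B
  have hψ : IsCharacter B (fun x : B => χ x) :=
    isCharacter_restrict B (isCharacter_of_isIrrCharacter h.irr)
  set Q : Subgroup B := P.subgroupOf B with hQ
  have hcQ : Nat.card Q = Nat.card P :=
    Nat.card_congr (Subgroup.subgroupOfEquivOfLe hPB).toEquiv
  have hidx : Q.index = 2 := by
    have h1 := Q.card_mul_index
    rw [hcQ, hcard] at h1
    have hpos : 0 < Nat.card P := Nat.card_pos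
    have h2 : Nat.card P * Q.index = Nat.card P * 2 := by rw [h1]; ring
    exact Nat.eq_of_mul_eq_mul_left hpos h2
  have key := c2a_main hψ Q hidx ?_ ?_ ?_
  · rwa [hcQ] at key
  · show χ ((1 : B) : G) = _
    rw [hcQ, Subgroup.coe_one]
    exact hres.deg
  · intro x hx hx1
    refine hres.val x.1 (Subgroup.mem_subgroupOf.1 hx) ?_
    intro h'
    apply hx1
    exact Subtype.ext h'
  · intro x hx
    have hx1 : (x : G) ≠ 1 := by
      intro h'
      apply hx
      rw [hQ, Subgroup.mem_subgroupOf, h']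
      exact P.one_mem
    have : Fact (Nat.Prime 2) := ⟨Nat.prime_two⟩
    exact h.normSq_eq_one (dvd_orderOf_of_isPGroup hB x.2 hx1)

end Cfsg.Agent.Helper24.RU
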