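import Mathlib
import Cfsg.Agent.Lib.Helper24.RUDefs

/-!
# S4751 piece C2B (helper2): the commutator subgroup of a group with an elementary abelian
subgroup of index two.
-/

set_option autoImplicit false

namespace Cfsg.Agent.Helper24.RU

universe u

open scoped commutatorElement

/-- the commutator map `u ↦ u⁻¹ * (y⁻¹ * u * y)` on an abelian normal subgroup -/
noncomputable def c2bKappa {X : Type u} [Group X] (Q : Subgroup X) (hn : Q.Normal)
    (hcomm : ∀ x ∈ Q, ∀ y ∈ Q, x * y = y * x) (y : X) : Q →* Q where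
  toFun u := ⟨(u : X)⁻¹ * (y⁻¹ * u * y), Q.mul_mem (Q.inv_mem u.2)
    (by have := hn.conj_mem u.1 u.2 y⁻¹; simpa using this)⟩
  map_one' := by
    apply Subtype.ext
    simp
  map_mul' u v := by
    apply Subtype.ext
    have hvy : y⁻¹ * (v : X) * y ∈ Q := by have := hn.conj_mem v.1 v.2 y⁻¹; simpa using this
    have huy : y⁻¹ * (u : X) * y ∈ Q := by have := hn.conj_mem u.1 u.2 y⁻¹; simpa using this
    show ((u : X) * v)⁻¹ * (y⁻¹ * ((u : X) * v) * y) =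
      (u : X)⁻¹ * (y⁻¹ * u * y) * ((v : X)⁻¹ * (y⁻¹ * v * y))
    have h1 : (y⁻¹ * (u : X) * y) * (v : X)⁻¹ = (v : X)⁻¹ * (y⁻¹ * u * y) :=
      hcomm _ huy _ (Q.inv_mem v.2)
    have h2 : (u : X)⁻¹ * (v : X)⁻¹ = (v : X)⁻¹ * (u : X)⁻¹ :=
      hcomm _ (Q.inv_mem u.2) _ (Q.inv_mem v.2)
    calc ((u : X) * v)⁻¹ * (y⁻¹ * ((u : X) * v) * y)
        = (v : X)⁻¹ * (u : X)⁻¹ * ((y⁻¹ * u * y) * (y⁻¹ * v * y)) := by group
      _ = (u : X)⁻¹ * (v : X)⁻¹ * ((y⁻¹ * u * y) * (y⁻¹ * v * y)) := by rw [h2]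
      _ = (u : X)⁻¹ * ((v : X)⁻¹ * (y⁻¹ * u * y)) * (y⁻¹ * v * y) := by group
      _ = (u : X)⁻¹ * ((y⁻¹ * u * y) * (v : X)⁻¹) * (y⁻¹ * v * y) := by rw [h1]
      _ = (u : X)⁻¹ * (y⁻¹ * u * y) * ((v : X)⁻¹ * (y⁻¹ * v * y)) := by group

theorem c2bKappa_coe {X : Type u} [Group X] (Q : Subgroup X) (hn : Q.Normal)
    (hcomm : ∀ x ∈ Q, ∀ y ∈ Q, x * y = y * x) (y : X) (u : Q) :
    ((c2bKappa Q hn hcomm y u : Q) : X) = (u : X)⁻¹ * (y⁻¹ * u * y) := rfl

/-- PIECE C2B. -/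
theorem commutator_sq_le {X : Type u} [Group X] [Finite X] (Q : Subgroup X) (hidx : Q.index = 2)
    (hcomm : ∀ x ∈ Q, ∀ y ∈ Q, x * y = y * x) (hexp : ∀ x ∈ Q, x ^ 2 = 1) :
    Nat.card (commutator X) ^ 2 ≤ Nat.card Q := by
  have hn : Q.Normal := Subgroup.normal_of_index_eq_two hidx
  obtain ⟨y, hy⟩ : ∃ y, y ∉ Q := by
    by_contra hcon
    push Not at hcon
    have : Q = ⊤ := eq_top_iff.2 (fun g _ => hcon g)
    rw [this, Subgroup.index_top] at hidx
    omega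
  have hmul : ∀ {a b : X}, a * b ∈ Q ↔ (a ∈ Q ↔ b ∈ Q) :=
    fun {a b} => Subgroup.mul_mem_iff_of_index_two hidx
  have hy2 : y * y ∈ Q := hmul.2 Iff.rfl
  have hyinv : y⁻¹ ∉ Q := fun h => hy (by simpa using Q.inv_mem h)
  set κ := c2bKappa Q hn hcomm y with hκ
  -- the range of κ, as a subgroup of X
  set R : Subgroup X := κ.range.map Q.subtype with hR
  have hRmem : ∀ u : X, u ∈ Q → u⁻¹ * (y⁻¹ * u * y) ∈ R := by
    intro u hu
    refine ⟨κ ⟨u, hu⟩, ⟨⟨u, hu⟩, rfl⟩, ?_⟩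
    simp [hκ, c2bKappa_coe]
  have hRQ : R ≤ Q := by
    rintro _ ⟨w, -, rfl⟩
    exact w.2
  -- every element outside Q is of the form v * y with v ∈ Q
  have hrep : ∀ g : X, g ∉ Q → ∃ v ∈ Q, g = v * y := by
    intro g hg
    refine ⟨g * y⁻¹, ?_, by group⟩
    rw [hmul]
    exact ⟨fun h => absurd h hg, fun h => absurd h hyinv⟩
  -- the key elements w * (y * w⁻¹ * y⁻¹) with w ∈ Q lie in R
  have hkey : ∀ w : X, w ∈ Q → w * (y * w⁻¹ * y⁻¹) ∈ R := by
    intro w hw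
    have hw' : y * w⁻¹ * y⁻¹ ∈ Q := hn.conj_mem _ (Q.inv_mem hw) y
    have := hRmem (y * w * y⁻¹) (hn.conj_mem _ hw y)
    have h2 : (y * w * y⁻¹)⁻¹ * (y⁻¹ * (y * w * y⁻¹) * y) = (y * w⁻¹ * y⁻¹) * w := by group
    rw [h2, hcomm _ hw' _ hw] at this
    exact this
  have hle : commutator X ≤ R := by
    rw [commutator_def, Subgroup.commutator_le]
    intro a _ b _
    by_cases ha : a ∈ Q
    · by_cases hb : b ∈ Q
      · rw [commutatorElement_def, hcomm a ha b hb]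
        have : b * a * a⁻¹ * b⁻¹ = 1 := by group
        rw [this]
        exact R.one_mem
      · obtain ⟨v, hv, rfl⟩ := hrep b hb
        -- [a, v y] = a * (y a⁻¹ y⁻¹)
        have h1 : ⁅a, v * y⁆ = a * (v * (y * a⁻¹ * y⁻¹) * v⁻¹) := by
          rw [commutatorElement_def]; group
        have h2 : v * (y * a⁻¹ * y⁻¹) * v⁻¹ = y * a⁻¹ * y⁻¹ := by
          have hc := hcomm v hv _ (hn.conj_mem _ (Q.inv_mem ha) y)
          rw [hc]; group
        rw [h1, h2]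
        exact hkey a ha
    · obtain ⟨u, hu, rfl⟩ := hrep a ha
      by_cases hb : b ∈ Q
      · -- [u y, b] = (y b y⁻¹ b⁻¹) conjugated by u, inverse of the key element
        have h1 : ⁅u * y, b⁆ = u * (y * b * y⁻¹) * u⁻¹ * b⁻¹ := by
          rw [commutatorElement_def]; group
        have h2 : u * (y * b * y⁻¹) * u⁻¹ = y * b * y⁻¹ := by
          have hc := hcomm u hu _ (hn.conj_mem _ hb y)
          rw [hc]; group
        have h3 : y * b * y⁻¹ * b⁻¹ = (b * (y * b⁻¹ * y⁻¹))⁻¹ := by group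
        rw [h1, h2, h3]
        exact R.inv_mem (hkey b hb)
      · obtain ⟨v, hv, rfl⟩ := hrep b hb
        -- [u y, v y] = w * (y w⁻¹ y⁻¹) with w = u v⁻¹
        have hw : u * v⁻¹ ∈ Q := Q.mul_mem hu (Q.inv_mem hv)
        have h1 : ⁅u * y, v * y⁆ = u * (y * (v * u⁻¹) * y⁻¹) * v⁻¹ := by
          rw [commutatorElement_def]; group
        have hc := hcomm (y * (v * u⁻¹) * y⁻¹)
          (hn.conj_mem _ (Q.mul_mem hv (Q.inv_mem hu)) y) v⁻¹ (Q.inv_mem hv)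
        have h2 : u * (y * (v * u⁻¹) * y⁻¹) * v⁻¹ = (u * v⁻¹) * (y * (u * v⁻¹)⁻¹ * y⁻¹) := by
          calc u * (y * (v * u⁻¹) * y⁻¹) * v⁻¹ = u * ((y * (v * u⁻¹) * y⁻¹) * v⁻¹) := by group
            _ = u * (v⁻¹ * (y * (v * u⁻¹) * y⁻¹)) := by rw [hc]
            _ = (u * v⁻¹) * (y * (u * v⁻¹)⁻¹ * y⁻¹) := by group
        rw [h1, h2]
        exact hkey _ hw
  -- range κ ≤ ker κ
  have hrk : κ.range ≤ κ.ker := by
    rintro _ ⟨u, rfl⟩
    rw [MonoidHom.mem_ker]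
    apply Subtype.ext
    have huy : y⁻¹ * (u : X) * y ∈ Q := by have := hn.conj_mem u.1 u.2 y⁻¹; simpa using this
    have hsq1 : (u : X) * u = 1 := by have := hexp u u.2; rwa [pow_two] at this
    have hsq2 : (y⁻¹ * (u : X) * y) * (y⁻¹ * u * y) = 1 := by
      have := hexp _ huy; rwa [pow_two] at this
    have hinv1 : (u : X)⁻¹ = u := by
      calc (u : X)⁻¹ = (u : X)⁻¹ * ((u : X) * u) := by rw [hsq1, mul_one]
        _ = u := by group
    -- conjugation by y * y fixes u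
    have hyy : (y * y)⁻¹ * (u : X) * (y * y) = u := by
      have hc := hcomm (u : X) u.2 (y * y) hy2
      calc (y * y)⁻¹ * (u : X) * (y * y) = (y * y)⁻¹ * ((u : X) * (y * y)) := by group
        _ = (y * y)⁻¹ * ((y * y) * (u : X)) := by rw [hc]
        _ = u := by group
    show (((κ (κ u) : Q)) : X) = ((1 : Q) : X)
    rw [hκ, c2bKappa_coe, c2bKappa_coe]
    have e1 : ((u : X)⁻¹ * (y⁻¹ * u * y))⁻¹ * (y⁻¹ * ((u : X)⁻¹ * (y⁻¹ * u * y)) * y) =
        (y⁻¹ * (u : X) * y)⁻¹ * (u : X) * (y⁻¹ * (u : X)⁻¹ * y) *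
          ((y * y)⁻¹ * (u : X) * (y * y)) := by group
    rw [e1, hyy, hinv1]
    have hc := hcomm _ (Q.inv_mem huy) (u : X) u.2
    calc (y⁻¹ * (u : X) * y)⁻¹ * (u : X) * (y⁻¹ * (u : X) * y) * (u : X)
        = ((y⁻¹ * (u : X) * y)⁻¹ * (u : X)) * (y⁻¹ * (u : X) * y) * (u : X) := by group
      _ = ((u : X) * (y⁻¹ * (u : X) * y)⁻¹) * (y⁻¹ * (u : X) * y) * (u : X) := by rw [hc]
      _ = (u : X) * (u : X) := by group
      _ = 1 := hsq1
  -- counting
  have hcardR : Nat.card R = Nat.card κ.range := by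
    rw [hR]
    exact Nat.card_congr (Subgroup.equivMapOfInjective _ _ Q.subtype_injective).symm.toEquiv
  have h1 : Nat.card (commutator X) ≤ Nat.card κ.range := by
    rw [← hcardR]
    exact Subgroup.card_le_of_le hle
  have h2 : Nat.card κ.range ≤ Nat.card κ.ker := Subgroup.card_le_of_le hrk
  have h3 : Nat.card κ.ker * Nat.card κ.range = Nat.card Q := by
    have := Subgroup.card_eq_card_quotient_mul_card_subgroup κ.ker
    rw [this, mul_comm]
    congr 1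
    exact Nat.card_congr (QuotientGroup.quotientKerEquivRange κ).toEquiv |>.symm
  calc Nat.card (commutator X) ^ 2 ≤ Nat.card κ.range ^ 2 := Nat.pow_le_pow_left h1 2
    _ = Nat.card κ.range * Nat.card κ.range := by ring
    _ ≤ Nat.card κ.ker * Nat.card κ.range := Nat.mul_le_mul_right _ h2
    _ = Nat.card Q := h3

end Cfsg.Agent.Helper24.RU
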