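import Mathlib
import Cfsg.Agent.Lib.Helper2.Ree6

/-!
# Small Ree groups: Sylow subgroups for primes above `3`, conjugacy of toral cyclic subgroups
-/

set_option autoImplicit false
set_option linter.unusedSectionVars false
set_option linter.unusedVariables false
set_option linter.style.haveILetI false

namespace Cfsg.Agent.Helper2.Ree

section general

variable {G : Type*} [Group G]

theorem pow_card_of_mem [Finite G] {S : Subgroup G} {a : G} (ha : a ∈ S) : a ^ Nat.card S = 1 := by
  have h : (⟨a, ha⟩ : S) ^ Nat.card S = 1 := pow_card_eq_one'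
  exact congrArg Subtype.val h

theorem subgroup_eq_of_card_eq_of_isCyclic {C : Type*} [Group C] [Finite C] [IsCyclic C]
    (S T : Subgroup C) (h : Nat.card S = Nat.card T) : S = T := by
  classical
  haveI : Fintype C := Fintype.ofFinite C
  set d := Nat.card S with hd
  have hdpos : 0 < d := Nat.card_pos
  have hE : ({a : C | a ^ d = 1} : Set C).ncard ≤ d := by
    have h1 := IsCyclic.card_pow_eq_one_le (α := C) hdpos
    rw [Set.ncard_eq_toFinset_card']
    convert h1 using 2
    ext a
    simp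
  have key : ∀ X : Subgroup C, Nat.card X = d → (X : Set C) = {a : C | a ^ d = 1} := by
    intro X hX
    refine Set.eq_of_subset_of_ncard_le ?_ ?_ (Set.toFinite _)
    · intro a ha
      show a ^ d = 1
      rw [← hX]
      exact pow_card_of_mem ha
    · have : (X : Set C).ncard = d := by
        rw [← hX]
        exact (Nat.card_coe_set_eq (X : Set C)).symm
      rw [this]
      exact hE
  apply SetLike.coe_injective
  rw [key S rfl, key T h.symm]

theorem isCyclic_of_conj_mem {Hs : Subgroup G} (hHs : IsCyclic Hs) {X : Subgroup G} {g : G}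
    (h : ∀ x ∈ X, g⁻¹ * x * g ∈ Hs) : IsCyclic X := by
  let φ : X →* Hs :=
    { toFun := fun x => ⟨g⁻¹ * x.1 * g, h x.1 x.2⟩
      map_one' := by
        apply Subtype.ext
        simp
      map_mul' := by
        intro a b
        apply Subtype.ext
        simp only [Subgroup.coe_mul]
        group }
  have hinj : Function.Injective φ := by
    intro a b hab
    have h1 : g⁻¹ * a.1 * g = g⁻¹ * b.1 * g := congrArg Subtype.val hab
    apply Subtype.ext
    have h2 := mul_right_cancel h1
    exact mul_left_cancel h2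
  exact isCyclic_of_injective φ hinj

theorem not_dvd_index_of_mul [Finite G] {Hs : Subgroup G} {M p : ℕ}
    (h : Nat.card Hs * M = Nat.card G) (hp : ¬ p ∣ M) : ¬ p ∣ Hs.index := by
  have h1 := Hs.index_mul_card
  have hpos : 0 < Nat.card Hs := Nat.card_pos
  have : Hs.index = M := by
    apply Nat.eq_of_mul_eq_mul_left hpos
    rw [h, ← h1, mul_comm]
  rwa [this]

end general

/-- what the seven-dimensional module gives on the elements of prime order dividing
`q² - q + 1` -/
structure ReeLin (G : Type*) [Group G] (q : ℕ) : Prop where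
  comm : ∀ x : G, (orderOf x).Prime → orderOf x ∣ q * q - q + 1 →
    ∀ g g' : G, g * x = x * g → g' * x = x * g' → g * g' = g' * g
  cyc : ∀ x : G, (orderOf x).Prime → orderOf x ∣ q * q - q + 1 →
    ∀ P : Subgroup G, (∀ g ∈ P, g * x = x * g) → Nat.Coprime (Nat.card P) (q - 1) → IsCyclic P
  conj_le : ∀ x : G, (orderOf x).Prime → orderOf x ∣ q * q - q + 1 →
    Nat.card {y : G // y ∈ Subgroup.zpowers x ∧ ∃ n : G, y = n * x * n⁻¹} ≤ 6

namespace ReeData

variable {G : Type*} [Group G] [Finite G] {P : Type*} [Group P] {q r : ℕ}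
  (R : ReeData G P q) (hq : QData q r)

include R in
/-- orders of elements of `PSL₂(q)` occur in `G` -/
theorem exists_of_psl {n : ℕ} (hz : ∃ z : P, orderOf z = n) : ∃ z : G, orderOf z = n := by
  obtain ⟨z, hz⟩ := hz
  refine ⟨((R.cent_a.symm (1, z) : ↥(Subgroup.centralizer ({R.a} : Set G))) : G), ?_⟩
  rw [Subgroup.orderOf_coe, MulEquiv.orderOf_eq, Prod.orderOf]
  simp [hz]

variable (L : ReeLin G q) (hz : ∃ z : G, orderOf z = (q + 1) / 2)
include R hq L hz

/-- **the Sylow `p`-subgroups are cyclic for `p > 3`** -/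
theorem sylow_cyclic {p : ℕ} [hpf : Fact p.Prime] (hp3 : 3 < p) (S : Sylow p G) :
    IsCyclic (S : Subgroup G) := by
  have hp := hpf.out
  obtain ⟨k, hk4, hkodd, hk7⟩ := hq.exists_k
  obtain ⟨c, hc2, hcodd, hc13⟩ := hq.exists_h
  have hkk : (q + 1) / 4 = k := by omega
  have hcc : (q - 1) / 2 = c := by omega
  have key : ∀ Hs : Subgroup G, IsCyclic Hs → ¬ p ∣ Hs.index → IsCyclic (S : Subgroup G) := by
    intro Hs hcyc hidx
    obtain ⟨g, hg⟩ := exists_conj_mem_of_not_dvd_index Hs hidx (S : Subgroup G) S.2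
    exact isCyclic_of_conj_mem hcyc hg
  by_cases hG : p ∣ Nat.card G
  · have hG' := hG
    rw [R.card_G, hq.card_fac] at hG'
    rcases (Nat.Prime.dvd_mul hp).1 hG' with h | h
    · rcases (Nat.Prime.dvd_mul hp).1 h with h' | h'
      · have := hq.pow3 p hp (hp.dvd_of_dvd_pow h')
        omega
      · -- `p ∣ q - 1`
        have hpc : p ∣ (q - 1) / 2 := by
          rw [hcc]
          rw [hc2] at h'
          rcases (Nat.Prime.dvd_mul hp).1 h' with h2 | h2
          · have := Nat.le_of_dvd (by norm_num) h2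
            omega
          · exact h2
        obtain ⟨h2, hq1, h4, h5, h6⟩ := hq.h_coprime hp hpc
        apply key R.H R.cyc_H
        apply not_dvd_index_of_mul (M := q ^ 3 * (q ^ 3 + 1))
        · rw [R.card_H, R.card_G]
          ring
        · rw [hq.cube_add_one]
          intro hd
          rcases (Nat.Prime.dvd_mul hp).1 hd with h7 | h7
          · exact h4 (hp.dvd_of_dvd_pow h7)
          · rcases (Nat.Prime.dvd_mul hp).1 h7 with h8 | h8
            · exact h5 h8
            · exact h6 h8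
    · rcases (Nat.Prime.dvd_mul hp).1 h with h' | h'
      · -- `p ∣ q + 1`
        have hpk : p ∣ (q + 1) / 4 := by
          rw [hkk]
          rw [hk4] at h'
          rcases (Nat.Prime.dvd_mul hp).1 h' with h2 | h2
          · have := Nat.le_of_dvd (by norm_num) h2
            have h22 : (4 : ℕ) = 2 * 2 := by norm_num
            rw [h22] at h2
            rcases (Nat.Prime.dvd_mul hp).1 h2 with h3 | h3 <;>
              · have := Nat.le_of_dvd (by norm_num) h3
                omega
          · exact h2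
        obtain ⟨h2, h3, h4, h5, h6⟩ := hq.k_coprime hp hpk
        obtain ⟨z, hz⟩ := hz
        apply key (Subgroup.zpowers z) inferInstance
        apply not_dvd_index_of_mul (M := 2 * (q ^ 3 * (q - 1) * (q * q - q + 1)))
        · rw [Nat.card_zpowers, hz, R.card_G, hq.card_fac, hk4]
          have : 4 * k / 2 = 2 * k := by omega
          rw [this]
          ring
        · intro hd
          rcases (Nat.Prime.dvd_mul hp).1 hd with h7 | h7
          · exact h2 ((Nat.prime_dvd_prime_iff_eq hp Nat.prime_two).1 h7)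
          · rcases (Nat.Prime.dvd_mul hp).1 h7 with h8 | h8
            · rcases (Nat.Prime.dvd_mul hp).1 h8 with h9 | h9
              · exact h4 (hp.dvd_of_dvd_pow h9)
              · exact h5 h9
            · exact h6 h8
      · -- `p ∣ q² - q + 1`
        obtain ⟨hD1, hD2, hD3, hD4, hD5⟩ := hq.D_coprime hp h'
        have hSne : (S : Subgroup G) ≠ ⊥ := S.ne_bot_of_dvd_card hG
        haveI : Nontrivial ↥(S : Subgroup G) := (Subgroup.nontrivial_iff_ne_bot _).2 hSne
        haveI := IsPGroup.center_nontrivial S.2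
        obtain ⟨z₀, hz₀⟩ := exists_ne (1 : ↥(Subgroup.center ↥(S : Subgroup G)))
        set w : G := ((z₀ : ↥(S : Subgroup G)) : G) with hw
        have hw1 : w ≠ 1 := by
          intro h1
          apply hz₀
          apply Subtype.ext
          apply Subtype.ext
          exact h1
        have hwc : ∀ g ∈ (S : Subgroup G), g * w = w * g := by
          intro g hg
          have := Subgroup.mem_center_iff.1 z₀.2 ⟨g, hg⟩
          exact congrArg Subtype.val this
        obtain ⟨p', hp', hp'd, ho⟩ := exists_prime_order_pow hw1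
        have hwS : w ∈ (S : Subgroup G) := (z₀ : ↥(S : Subgroup G)).2
        obtain ⟨n, hn⟩ := (IsPGroup.iff_orderOf.1 S.2) ⟨w, hwS⟩
        rw [Subgroup.orderOf_mk] at hn
        have hpp : p' = p := by
          rw [hn] at hp'd
          exact (Nat.prime_dvd_prime_iff_eq hp' hp).1 (hp'.dvd_of_dvd_pow hp'd)
        subst hpp
        set x := w ^ (orderOf w / p') with hx
        obtain ⟨n', hn'⟩ := IsPGroup.iff_card.1 S.2
        refine L.cyc x (by rw [ho]; exact hp) (by rw [ho]; exact h') (S : Subgroup G) ?_ ?_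
        · intro g hg
          exact ((Commute.pow_right (hwc g hg) _ : Commute g (w ^ (orderOf w / p')))).eq
        · rw [hn']
          exact Nat.Coprime.pow_left n' ((Nat.Prime.coprime_iff_not_dvd hp).2 hD2)
  · apply key ⊥ inferInstance
    rwa [Subgroup.index_bot]

omit [Finite G] R hq L hz in
theorem prime_gt_three {p : ℕ} (hp : p.Prime) (h2 : p ≠ 2) (h3 : p ≠ 3) : 3 < p := by
  by_contra hc
  push Not at hc
  have := hp.two_le
  interval_cases p
  · exact h2 rfl
  · exact h3 rfl

/-- the primes dividing one of the torus orders are larger than `3`, and the centralisers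
of the elements of these orders are abelian -/
theorem toral_prime {d : ℕ}
    (hd : d ∣ (q - 1) / 2 ∨ d ∣ (q + 1) / 4 ∨ d ∣ q * q - q + 1) {p : ℕ} (hp : p.Prime)
    (hpd : p ∣ d) :
    3 < p ∧ ∀ x : G, orderOf x = p → ∀ c₁ c₂ : G, c₁ * x = x * c₁ → c₂ * x = x * c₂ →
      c₁ * c₂ = c₂ * c₁ := by
  rcases hd with hd | hd | hd
  · have hph := hpd.trans hd
    obtain ⟨h2, hq1, h4, h5, h6⟩ := hq.h_coprime hp hph
    refine ⟨prime_gt_three hp h2 ?_, ?_⟩
    · rintro rfl
      exact hq.not_three_dvd_pred hq1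
    · intro x hx c₁ c₂ h1 h2'
      obtain ⟨g, hg⟩ := R.cent_prime_h hq hp hx hph
      have m1 : c₁ ∈ R.H.map (MulAut.conj g).toMonoidHom := by
        rw [← hg, Subgroup.mem_centralizer_singleton_iff]
        exact h1
      have m2 : c₂ ∈ R.H.map (MulAut.conj g).toMonoidHom := by
        rw [← hg, Subgroup.mem_centralizer_singleton_iff]
        exact h2'
      rw [mem_conj_iff] at m1 m2
      have h7 := comm_of_isCyclic R.cyc_H m1 m2
      have h8 : g⁻¹ * (c₁ * c₂) * g = g⁻¹ * (c₂ * c₁) * g := by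
        calc g⁻¹ * (c₁ * c₂) * g = (g⁻¹ * c₁ * g) * (g⁻¹ * c₂ * g) := by group
          _ = (g⁻¹ * c₂ * g) * (g⁻¹ * c₁ * g) := h7
          _ = g⁻¹ * (c₂ * c₁) * g := by group
      exact mul_left_cancel (mul_right_cancel h8)
  · have hpk := hpd.trans hd
    obtain ⟨h2, h3, h4, h5, h6⟩ := hq.k_coprime hp hpk
    exact ⟨prime_gt_three hp h2 h3, fun x hx => (R.cent_prime_k hq hp hx hpk).1⟩
  · have hpD := hpd.trans hd
    obtain ⟨hD1, hD2, hD3, hD4, hD5⟩ := hq.D_coprime hp hpD
    refine ⟨prime_gt_three hp hD4 hD5, fun x hx c₁ c₂ h1 h2 => ?_⟩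
    exact L.comm x (by rw [hx]; exact hp) (by rw [hx]; exact hpD) c₁ c₂ h1 h2

/-- an abelian subgroup all of whose elements have order dividing `d` is cyclic, when all
prime divisors of `d` are larger than `3` -/
theorem isCyclic_of_abelian {d : ℕ} (hd3 : ∀ p : ℕ, p.Prime → p ∣ d → 3 < p)
    (O : Subgroup G) (hOc : ∀ a ∈ O, ∀ b ∈ O, a * b = b * a) (hOd : ∀ a ∈ O, a ^ d = 1) :
    IsCyclic O := by
  letI : CommGroup ↥O :=
    { (inferInstance : Group ↥O) with
      mul_comm := fun a b => Subtype.ext (hOc a.1 a.2 b.1 b.2) }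
  haveI : IsZGroup ↥O := by
    refine ⟨fun p' hp' Q => ?_⟩
    haveI : Fact p'.Prime := ⟨hp'⟩
    by_cases hpd : p' ∣ d
    · have h3 := hd3 p' hp' hpd
      have hQ' : IsPGroup p' ↥((Q : Subgroup ↥O).map O.subtype) :=
        Q.2.map O.subtype
      obtain ⟨S, hS⟩ := hQ'.exists_le_sylow
      haveI := R.sylow_cyclic hq L hz h3 S
      haveI : IsCyclic ↥((Q : Subgroup ↥O).map O.subtype) := Subgroup.isCyclic_of_le hS
      exact isCyclic_of_surjective _
        ((Q : Subgroup ↥O).equivMapOfInjective O.subtype O.subtype_injective).symm.surjective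
    · have h1 : ∀ c ∈ (Q : Subgroup ↥O), c = 1 := by
        intro c hc
        obtain ⟨n, hn⟩ := (IsPGroup.iff_orderOf.1 Q.2) ⟨c, hc⟩
        rw [Subgroup.orderOf_mk] at hn
        have h2 : orderOf c ∣ d := by
          apply orderOf_dvd_of_pow_eq_one
          apply Subtype.ext
          rw [Subgroup.coe_pow]
          exact hOd c.1 c.2
        rw [hn] at h2
        rcases Nat.eq_zero_or_pos n with h0 | h0
        · rw [h0, pow_zero] at hn
          exact orderOf_eq_one_iff.1 hn
        · exfalso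
          exact hpd ((dvd_pow_self p' h0.ne').trans h2)
      haveI : Subsingleton ↥(Q : Subgroup ↥O) :=
        ⟨fun a b => Subtype.ext (by rw [h1 a.1 a.2, h1 b.1 b.2])⟩
      exact isCyclic_of_subsingleton
  infer_instance

/-- **cyclic subgroups of toral order are conjugate** -/
theorem toral_conj (d : ℕ)
    (hd : d ∣ (q - 1) / 2 ∨ d ∣ (q + 1) / 4 ∨ d ∣ q - r + 1 ∨ d ∣ q + r + 1)
    (A B : Subgroup G) (hA : IsCyclic A) (hB : IsCyclic B) (hAd : Nat.card A = d)
    (hBd : Nat.card B = d) : ∃ g : G, B = A.map (MulAut.conj g).toMonoidHom := by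
  have hd' : d ∣ (q - 1) / 2 ∨ d ∣ (q + 1) / 4 ∨ d ∣ q * q - q + 1 := by
    rcases hd with h | h | h | h
    · exact Or.inl h
    · exact Or.inr (Or.inl h)
    · right; right
      rw [← hq.D_fac]
      exact Dvd.dvd.mul_left h _
    · right; right
      rw [← hq.D_fac]
      exact Dvd.dvd.mul_right h _
  by_cases hd1 : d = 1
  · refine ⟨1, ?_⟩
    have hA1 : A = ⊥ := Subgroup.eq_bot_of_card_eq A (by rw [hAd, hd1])
    have hB1 : B = ⊥ := Subgroup.eq_bot_of_card_eq B (by rw [hBd, hd1])
    rw [hA1, hB1, Subgroup.map_bot]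
  obtain ⟨p, hp, hpd⟩ := Nat.exists_prime_and_dvd hd1
  haveI : Fact p.Prime := ⟨hp⟩
  obtain ⟨hp3, hab⟩ := R.toral_prime hq L hz hd' hp hpd
  obtain ⟨x₀, hx₀⟩ := exists_prime_orderOf_dvd_card' (G := ↥A) p (by rw [hAd]; exact hpd)
  obtain ⟨x₀', hx₀'⟩ := exists_prime_orderOf_dvd_card' (G := ↥B) p (by rw [hBd]; exact hpd)
  set x : G := (x₀ : G) with hxdef
  set x' : G := (x₀' : G) with hx'def
  have hx : orderOf x = p := by rw [hxdef, Subgroup.orderOf_coe]; exact hx₀
  have hx' : orderOf x' = p := by rw [hx'def, Subgroup.orderOf_coe]; exact hx₀'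
  have hxA : x ∈ A := x₀.2
  have hx'B : x' ∈ B := x₀'.2
  have hX : ∀ z : G, orderOf z = p → IsPGroup p (Subgroup.zpowers z) := by
    intro z hz
    apply IsPGroup.of_card (n := 1)
    rw [Nat.card_zpowers, hz, pow_one]
  obtain ⟨S, hS⟩ := (hX x hx).exists_le_sylow
  obtain ⟨S', hS'⟩ := (hX x' hx').exists_le_sylow
  obtain ⟨g, hg⟩ := MulAction.exists_smul_eq G S S'
  set y : G := g * x * g⁻¹ with hy
  have hyo : orderOf y = p := by
    have : y = (g⁻¹)⁻¹ * x * g⁻¹ := by rw [inv_inv]
    rw [this, orderOf_conj', hx]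
  have hyS' : y ∈ (S' : Subgroup G) := by
    rw [← hg, Sylow.coe_subgroup_smul, mem_conj_smul]
    have : g⁻¹ * y * g = x := by rw [hy]; group
    rw [this]
    exact hS (Subgroup.mem_zpowers x)
  have hx'S' : x' ∈ (S' : Subgroup G) := hS' (Subgroup.mem_zpowers x')
  haveI := R.sylow_cyclic hq L hz hp3 S'
  have heq : Subgroup.zpowers (⟨y, hyS'⟩ : ↥(S' : Subgroup G)) =
      Subgroup.zpowers (⟨x', hx'S'⟩ : ↥(S' : Subgroup G)) := by
    apply subgroup_eq_of_card_eq_of_isCyclic
    rw [Nat.card_zpowers, Nat.card_zpowers, Subgroup.orderOf_mk, Subgroup.orderOf_mk, hyo, hx']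
  -- `y` is a power of `x'`
  obtain ⟨j, hj⟩ : ∃ j : ℤ, x' ^ j = y := by
    have : (⟨y, hyS'⟩ : ↥(S' : Subgroup G)) ∈
        Subgroup.zpowers (⟨x', hx'S'⟩ : ↥(S' : Subgroup G)) := by
      rw [← heq]
      exact Subgroup.mem_zpowers _
    obtain ⟨j, hj⟩ := Subgroup.mem_zpowers_iff.1 this
    exact ⟨j, by simpa using congrArg Subtype.val hj⟩
  have hyB : y ∈ B := by
    rw [← hj]
    exact zpow_mem hx'B j
  set A' := A.map (MulAut.conj g).toMonoidHom with hA'
  have hyA' : y ∈ A' := by
    rw [hA', mem_conj_iff]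
    have : g⁻¹ * y * g = x := by rw [hy]; group
    rw [this]
    exact hxA
  have hA'c : ∀ a ∈ A', ∀ b ∈ A', a * b = b * a := by
    intro a ha b hb
    rw [hA', mem_conj_iff] at ha hb
    have h7 := comm_of_isCyclic hA ha hb
    have h8 : g⁻¹ * (a * b) * g = g⁻¹ * (b * a) * g := by
      calc g⁻¹ * (a * b) * g = (g⁻¹ * a * g) * (g⁻¹ * b * g) := by group
        _ = (g⁻¹ * b * g) * (g⁻¹ * a * g) := h7
        _ = g⁻¹ * (b * a) * g := by group
    exact mul_left_cancel (mul_right_cancel h8)
  have hA'd : Nat.card A' = d := by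
    rw [hA', Subgroup.card_map_of_injective (MulAut.conj g).injective, hAd]
  have haby := hab y hyo
  -- the subgroup of the centraliser of `y` of exponent `d`
  let O : Subgroup G :=
    { carrier := {c | c * y = y * c ∧ c ^ d = 1}
      one_mem' := ⟨by simp, one_pow d⟩
      mul_mem' := by
        rintro a b ⟨ha, ha'⟩ ⟨hb, hb'⟩
        refine ⟨?_, ?_⟩
        · calc a * b * y = a * (b * y) := mul_assoc _ _ _
            _ = a * (y * b) := by rw [hb]
            _ = (a * y) * b := (mul_assoc _ _ _).symm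
            _ = y * a * b := by rw [ha]
            _ = y * (a * b) := mul_assoc _ _ _
        · have hc : Commute a b := haby a b ha hb
          rw [hc.mul_pow, ha', hb', one_mul]
      inv_mem' := by
        rintro a ⟨ha, ha'⟩
        refine ⟨?_, by rw [inv_pow, ha', inv_one]⟩
        calc a⁻¹ * y = a⁻¹ * (y * a) * a⁻¹ := by group
          _ = a⁻¹ * (a * y) * a⁻¹ := by rw [ha]
          _ = y * a⁻¹ := by group }
  have hOmem : ∀ c : G, c ∈ O ↔ c * y = y * c ∧ c ^ d = 1 := fun c => Iff.rfl
  have hA'O : A' ≤ O := by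
    intro a ha
    rw [hOmem]
    refine ⟨hA'c a ha y hyA', ?_⟩
    rw [← hA'd]
    exact pow_card_of_mem ha
  have hBO : B ≤ O := by
    intro b hb
    rw [hOmem]
    refine ⟨comm_of_isCyclic hB hb hyB, ?_⟩
    rw [← hBd]
    exact pow_card_of_mem hb
  have hd3 : ∀ p : ℕ, p.Prime → p ∣ d → 3 < p := fun p' hp' hp'd =>
    (R.toral_prime hq L hz hd' hp' hp'd).1
  haveI := R.isCyclic_of_abelian hq L hz hd3 O
    (fun a ha b hb => haby a b ((hOmem a).1 ha).1 ((hOmem b).1 hb).1)
    (fun a ha => ((hOmem a).1 ha).2)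
  have hsub : A'.subgroupOf O = B.subgroupOf O := by
    apply subgroup_eq_of_card_eq_of_isCyclic
    rw [Nat.card_congr (Subgroup.subgroupOfEquivOfLe hA'O).toEquiv,
      Nat.card_congr (Subgroup.subgroupOfEquivOfLe hBO).toEquiv, hA'd, hBd]
  refine ⟨g, ?_⟩
  ext b
  constructor
  · intro hb
    have : (⟨b, hBO hb⟩ : ↥O) ∈ B.subgroupOf O := Subgroup.mem_subgroupOf.2 hb
    rw [← hsub] at this
    exact Subgroup.mem_subgroupOf.1 this
  · intro hb
    have : (⟨b, hA'O hb⟩ : ↥O) ∈ A'.subgroupOf O := Subgroup.mem_subgroupOf.2 hb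
    rw [hsub] at this
    exact Subgroup.mem_subgroupOf.1 this

end ReeData

end Cfsg.Agent.Helper2.Ree
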