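import Mathlib
import Cfsg.Agent.Lib.Helper2.Ree8

/-!
# Small Ree groups: general counting lemmas
-/

set_option autoImplicit false
set_option linter.unusedSectionVars false
set_option linter.unusedVariables false
set_option linter.style.haveILetI false

namespace Cfsg.Agent.Helper2.Ree

section general

variable {G : Type*} [Group G]

/-- counting the elements conjugate into a set `X` which is controlled by a subgroup `N` -/
theorem conj_count [Finite G] (X : Set G) (N : Subgroup G)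
    (hN : ∀ n ∈ N, ∀ a ∈ X, n⁻¹ * a * n ∈ X)
    (hTI : ∀ a ∈ X, ∀ h : G, h⁻¹ * a * h ∈ X → h ∈ N) :
    Nat.card {g : G // ∃ h : G, h⁻¹ * g * h ∈ X} * Nat.card N = Nat.card G * Nat.card X := by
  classical
  let e1 : {p : G × G // p.1⁻¹ * p.2 * p.1 ∈ X} ≃ G × X :=
    { toFun := fun p => (p.1.1, ⟨p.1.1⁻¹ * p.1.2 * p.1.1, p.2⟩)
      invFun := fun x => ⟨(x.1, x.1 * x.2.1 * x.1⁻¹), by
        have h2 : x.1⁻¹ * (x.1 * x.2.1 * x.1⁻¹) * x.1 = (x.2 : G) := by group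
        show x.1⁻¹ * (x.1 * x.2.1 * x.1⁻¹) * x.1 ∈ X
        rw [h2]
        exact x.2.2⟩
      left_inv := by
        rintro ⟨⟨h, g⟩, hp⟩
        apply Subtype.ext
        show (h, h * (h⁻¹ * g * h) * h⁻¹) = (h, g)
        congr 1
        group
      right_inv := by
        rintro ⟨h, ⟨a, ha⟩⟩
        show (h, (⟨h⁻¹ * (h * a * h⁻¹) * h, _⟩ : X)) = (h, ⟨a, ha⟩)
        congr 1
        apply Subtype.ext
        show h⁻¹ * (h * a * h⁻¹) * h = a
        group }
  have hex : ∀ g : {g : G // ∃ h : G, h⁻¹ * g * h ∈ X}, ∃ h : G, h⁻¹ * g.1 * h ∈ X :=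
    fun g => g.2
  choose h₀ hh₀ using hex
  let e2 : {p : G × G // p.1⁻¹ * p.2 * p.1 ∈ X} ≃
      {g : G // ∃ h : G, h⁻¹ * g * h ∈ X} × N :=
    { toFun := fun p => (⟨p.1.2, p.1.1, p.2⟩,
        ⟨(h₀ ⟨p.1.2, p.1.1, p.2⟩)⁻¹ * p.1.1, by
          have ha := hh₀ ⟨p.1.2, p.1.1, p.2⟩
          apply hTI _ ha
          have h2 : ((h₀ ⟨p.1.2, p.1.1, p.2⟩)⁻¹ * p.1.1)⁻¹ *
              ((h₀ ⟨p.1.2, p.1.1, p.2⟩)⁻¹ * p.1.2 *
                (h₀ ⟨p.1.2, p.1.1, p.2⟩)) *
              ((h₀ ⟨p.1.2, p.1.1, p.2⟩)⁻¹ * p.1.1) = p.1.1⁻¹ * p.1.2 * p.1.1 := by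
            group
          rw [h2]
          exact p.2⟩)
      invFun := fun x => ⟨(h₀ x.1 * x.2.1, x.1.1), by
        have h2 : (h₀ x.1 * x.2.1)⁻¹ * x.1.1 * (h₀ x.1 * x.2.1) =
            (x.2.1 : G)⁻¹ * ((h₀ x.1)⁻¹ * x.1.1 * h₀ x.1) * x.2.1 := by group
        show (h₀ x.1 * x.2.1)⁻¹ * x.1.1 * (h₀ x.1 * x.2.1) ∈ X
        rw [h2]
        exact hN _ x.2.2 _ (hh₀ x.1)⟩
      left_inv := by
        rintro ⟨⟨h, g⟩, hp⟩
        apply Subtype.ext
        show (h₀ ⟨g, h, hp⟩ * ((h₀ ⟨g, h, hp⟩)⁻¹ * h), g) = (h, g)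
        congr 1
        group
      right_inv := by
        rintro ⟨g, n⟩
        show ((⟨g.1, _⟩ : {g : G // ∃ h : G, h⁻¹ * g * h ∈ X}),
          (⟨(h₀ ⟨g.1, _⟩)⁻¹ * (h₀ g * n.1), _⟩ : N)) = (g, n)
        congr 1
        apply Subtype.ext
        show (h₀ g)⁻¹ * (h₀ g * n.1) = n.1
        group }
  have h1 := Nat.card_congr e1
  have h2 := Nat.card_congr e2
  rw [Nat.card_prod] at h1 h2
  rw [← h2, h1]

/-- the number of elements of a given order of a cyclic subgroup -/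
theorem card_orderOf_of_isCyclic [Finite G] {A : Subgroup G} (hA : IsCyclic A) {i : ℕ}
    (hi : i ∣ Nat.card A) :
    Nat.card {g : G // g ∈ A ∧ orderOf g = i} = Nat.totient i := by
  classical
  haveI : Fintype ↥A := Fintype.ofFinite _
  have h1 : Nat.card {g : G // g ∈ A ∧ orderOf g = i} = Nat.card {a : ↥A // orderOf a = i} := by
    apply Nat.card_congr
    refine ⟨fun g => ⟨⟨g.1, g.2.1⟩, by rw [Subgroup.orderOf_mk]; exact g.2.2⟩,
      fun a => ⟨a.1.1, a.1.2, by rw [Subgroup.orderOf_coe]; exact a.2⟩, fun g => rfl, fun a => rfl⟩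
  rw [h1, Nat.card_eq_fintype_card, Fintype.card_subtype]
  rw [Nat.card_eq_fintype_card] at hi
  exact IsCyclic.card_orderOf_eq_totient hi

/-- counting the elements with orders in `S` which are conjugate into a subgroup `A` that
controls the fusion of its elements with orders in `S` -/
theorem conj_count_order [Finite G] (A : Subgroup G) (S : Set ℕ)
    (hTI : ∀ a ∈ A, orderOf a ∈ S → ∀ h : G, h⁻¹ * a * h ∈ A →
      h ∈ Subgroup.normalizer (A : Set G)) :
    Nat.card {g : G // orderOf g ∈ S ∧ ∃ h : G, h⁻¹ * g * h ∈ A} *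
        Nat.card (Subgroup.normalizer (A : Set G)) =
      Nat.card G * Nat.card {a : G // a ∈ A ∧ orderOf a ∈ S} := by
  have h := conj_count ({a : G | a ∈ A ∧ orderOf a ∈ S} : Set G)
    (Subgroup.normalizer (A : Set G))
    (by
      rintro n hn a ⟨ha, haS⟩
      refine ⟨(Subgroup.mem_normalizer_iff''.1 hn a).1 ha, ?_⟩
      rw [orderOf_conj']
      exact haS)
    (by
      rintro a ⟨ha, haS⟩ h ⟨hc, -⟩
      exact hTI a ha haS h hc)
  have e1 : Nat.card {g : G // ∃ h : G, h⁻¹ * g * h ∈ ({a : G | a ∈ A ∧ orderOf a ∈ S} : Set G)} =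
      Nat.card {g : G // orderOf g ∈ S ∧ ∃ h : G, h⁻¹ * g * h ∈ A} := by
    apply Nat.card_congr
    apply Equiv.subtypeEquivRight
    intro g
    constructor
    · rintro ⟨h, hh, hS⟩
      rw [orderOf_conj'] at hS
      exact ⟨hS, h, hh⟩
    · rintro ⟨hS, h, hh⟩
      refine ⟨h, hh, ?_⟩
      rw [orderOf_conj']
      exact hS
  rw [e1] at h
  exact h

end general

end Cfsg.Agent.Helper2.Ree
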