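import Mathlib
import Cfsg.Agent.Lib.Helper2.Ree9

/-!
# Small Ree groups: the numbers of elements of orders `2`, `3`, `9`, `6`
-/

set_option autoImplicit false
set_option linter.unusedSectionVars false
set_option linter.unusedVariables false
set_option linter.style.haveILetI false

namespace Cfsg.Agent.Helper2.Ree

/-- further facts on `U` and on `PSL₂(q)` -/
structure ReeMore {G : Type*} [Group G] {P : Type*} [Group P] {q : ℕ} (R : ReeData G P q) :
    Prop where
  exp9 : ∀ u ∈ R.U, u ^ 9 = 1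
  ord3 : Nat.card {u : G // u ∈ R.U ∧ orderOf u = 3} = q ^ 2 - 1
  psl_orders : ∀ g : P, orderOf g ∣ 3 ∨ orderOf g ∣ (q - 1) / 2 ∨ orderOf g ∣ (q + 1) / 2
  psl_ord3 : Nat.card {g : P // orderOf g = 3} = q ^ 2 - 1

namespace ReeData

variable {G : Type*} [Group G] [Finite G] {P : Type*} [Group P] {q r : ℕ}
  (R : ReeData G P q) (hq : QData q r)

include R in
theorem card_cent_a : Nat.card (Subgroup.centralizer ({R.a} : Set G)) = q * (q - 1) * (q + 1) := by
  rw [Nat.card_congr R.cent_a.toEquiv, Nat.card_prod, ← R.psl.card]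
  simp

include R hq in
/-- **the number of involutions** -/
theorem card_invol : Nat.card {g : G // orderOf g = 2} = q ^ 2 * (q * q - q + 1) := by
  have h := conj_count ({R.a} : Set G) (Subgroup.centralizer ({R.a} : Set G))
    (by
      intro n hn a' ha
      rw [Set.mem_singleton_iff] at ha ⊢
      subst ha
      have := Subgroup.mem_centralizer_singleton_iff.1 hn
      rw [mul_assoc, ← this]
      group)
    (by
      intro a' ha h hc
      rw [Set.mem_singleton_iff] at ha hc
      subst ha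
      rw [Subgroup.mem_centralizer_singleton_iff]
      have : R.a * h = h * (h⁻¹ * R.a * h) := by group
      rw [this, hc])
  have e : Nat.card {g : G // ∃ h : G, h⁻¹ * g * h ∈ ({R.a} : Set G)} =
      Nat.card {g : G // orderOf g = 2} := by
    apply Nat.card_congr
    apply Equiv.subtypeEquivRight
    intro g
    constructor
    · rintro ⟨h, hh⟩
      rw [Set.mem_singleton_iff] at hh
      rw [← orderOf_conj' h g, hh, R.a_ord]
    · intro hg
      obtain ⟨c, hc⟩ := R.invol_conj hg R.a_ord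
      refine ⟨c⁻¹, ?_⟩
      rw [Set.mem_singleton_iff, inv_inv]
      exact hc
  have h1 : Nat.card ({R.a} : Set G) = 1 := by simp
  rw [e, R.card_cent_a, R.card_G, hq.card_fac, h1, mul_one] at h
  have hpos : 0 < q * (q - 1) * (q + 1) :=
    Nat.mul_pos (Nat.mul_pos hq.q_pos (by have := hq.big; omega)) (Nat.succ_pos q)
  apply Nat.eq_of_mul_eq_mul_right hpos
  rw [h]
  ring

include R hq in
/-- every `3`-element is conjugate into `U` -/
theorem exists_conj_mem_U {g : G} {n : ℕ} (hg : orderOf g = 3 ^ n) :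
    ∃ h : G, h⁻¹ * g * h ∈ R.U := by
  haveI : Fact (Nat.Prime 3) := ⟨Nat.prime_three⟩
  obtain ⟨Q, hQ⟩ := R.exists_sylow_U hq
  have hp : IsPGroup 3 (Subgroup.zpowers g) := by
    apply IsPGroup.of_card (n := n)
    rw [Nat.card_zpowers, hg]
  obtain ⟨S, hS⟩ := hp.exists_le_sylow
  obtain ⟨h, hh⟩ := MulAction.exists_smul_eq G Q S
  refine ⟨h, ?_⟩
  have h1 : g ∈ (S : Subgroup G) := hS (Subgroup.mem_zpowers g)
  rw [← hh, Sylow.coe_subgroup_smul, mem_conj_smul, hQ] at h1
  exact h1

include R hq in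
/-- `U` is a trivial intersection subgroup with normaliser `B` -/
theorem mem_B_of_conj_U {u h : G} (hu : u ∈ R.U) (hu1 : u ≠ 1) (hc : h⁻¹ * u * h ∈ R.U) :
    h ∈ R.B := by
  haveI : Fact (Nat.Prime 3) := ⟨Nat.prime_three⟩
  obtain ⟨Q, hQ⟩ := R.exists_sylow_U hq
  have hQQ : h • Q = Q := by
    by_contra hne
    have h1 := R.syl3 (h • Q) Q hne
    have h2 : u ∈ ((h • Q : Sylow 3 G) : Subgroup G) ⊓ (Q : Subgroup G) := by
      refine Subgroup.mem_inf.2 ⟨?_, ?_⟩
      · rw [Sylow.coe_subgroup_smul, mem_conj_smul, hQ]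
        exact hc
      · rw [hQ]
        exact hu
    rw [h1] at h2
    exact hu1 (Subgroup.mem_bot.1 h2)
  apply R.normalizer_U hq
  intro v hv
  have h3 : h * v * h⁻¹ ∈ ((h • Q : Sylow 3 G) : Subgroup G) := by
    rw [Sylow.coe_subgroup_smul, mem_conj_smul, hQ]
    have : h⁻¹ * (h * v * h⁻¹) * h = v := by group
    rw [this]
    exact hv
  rw [hQQ, hQ] at h3
  exact h3

include R hq in
/-- counting the `3`-elements of a given order -/
theorem count_U (e : ℕ) (he : 1 ≤ e) :
    Nat.card {g : G // orderOf g = 3 ^ e} * Nat.card R.B =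
      Nat.card G * Nat.card {u : G // u ∈ R.U ∧ orderOf u = 3 ^ e} := by
  have h31 : 3 ^ e ≠ 1 := by
    have : 1 < 3 ^ e := Nat.one_lt_pow (by omega) (by norm_num)
    omega
  have h := conj_count ({u : G | u ∈ R.U ∧ orderOf u = 3 ^ e} : Set G) R.B
    (by
      rintro b hb u ⟨hu, huo⟩
      refine ⟨?_, by rw [orderOf_conj', huo]⟩
      have := R.U_norm b⁻¹ (inv_mem hb) u hu
      rwa [inv_inv] at this)
    (by
      rintro u ⟨hu, huo⟩ h ⟨hc, -⟩
      apply R.mem_B_of_conj_U hq hu _ hc
      rintro rfl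
      rw [orderOf_one] at huo
      exact h31 huo.symm)
  have e1 : Nat.card {g : G // ∃ h : G, h⁻¹ * g * h ∈
      ({u : G | u ∈ R.U ∧ orderOf u = 3 ^ e} : Set G)} = Nat.card {g : G // orderOf g = 3 ^ e} := by
    apply Nat.card_congr
    apply Equiv.subtypeEquivRight
    intro g
    constructor
    · rintro ⟨h, -, hh⟩
      rw [← orderOf_conj' h g, hh]
    · intro hg
      obtain ⟨h, hh⟩ := R.exists_conj_mem_U hq hg
      exact ⟨h, hh, by rw [orderOf_conj', hg]⟩
  rw [e1] at h
  exact h

include R hq in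
/-- **the number of elements of order `3`** -/
theorem card_order_three (M : ReeMore R) :
    Nat.card {g : G // orderOf g = 3} = (q ^ 2 - 1) * (q ^ 3 + 1) := by
  have h := R.count_U hq 1 le_rfl
  rw [pow_one, R.card_B hq, R.card_G, M.ord3] at h
  have hpos : 0 < q ^ 3 * (q - 1) :=
    Nat.mul_pos (pow_pos hq.q_pos 3) (by have := hq.big; omega)
  apply Nat.eq_of_mul_eq_mul_right hpos
  rw [h]
  ring

include R hq in
/-- the number of elements of order `9` of `U` -/
theorem card_U_nine (M : ReeMore R) :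
    Nat.card {u : G // u ∈ R.U ∧ orderOf u = 9} = q ^ 3 - q ^ 2 := by
  classical
  haveI : Fintype G := Fintype.ofFinite G
  have hU : Nat.card R.U = (Finset.univ.filter (fun u : G => u ∈ R.U)).card := by
    rw [Nat.card_eq_fintype_card, Fintype.card_subtype]
  have h9 : Nat.card {u : G // u ∈ R.U ∧ orderOf u = 9} =
      (Finset.univ.filter (fun u : G => u ∈ R.U ∧ orderOf u = 9)).card := by
    rw [Nat.card_eq_fintype_card, Fintype.card_subtype]
  have h3 : Nat.card {u : G // u ∈ R.U ∧ orderOf u = 3} =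
      (Finset.univ.filter (fun u : G => u ∈ R.U ∧ orderOf u = 3)).card := by
    rw [Nat.card_eq_fintype_card, Fintype.card_subtype]
  have h1 : (Finset.univ.filter (fun u : G => u ∈ R.U ∧ orderOf u = 1)).card = 1 := by
    rw [Finset.card_eq_one]
    refine ⟨1, ?_⟩
    ext u
    simp only [Finset.mem_filter, Finset.mem_univ, true_and, Finset.mem_singleton,
      orderOf_eq_one_iff]
    constructor
    · exact fun h => h.2
    · rintro rfl
      exact ⟨R.U.one_mem, rfl⟩
  have hsplit : Finset.univ.filter (fun u : G => u ∈ R.U) =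
      (Finset.univ.filter (fun u : G => u ∈ R.U ∧ orderOf u = 1)) ∪
      ((Finset.univ.filter (fun u : G => u ∈ R.U ∧ orderOf u = 3)) ∪
       (Finset.univ.filter (fun u : G => u ∈ R.U ∧ orderOf u = 9))) := by
    ext u
    simp only [Finset.mem_filter, Finset.mem_univ, true_and, Finset.mem_union]
    constructor
    · intro hu
      have hd : orderOf u ∣ 9 := orderOf_dvd_of_pow_eq_one (M.exp9 u hu)
      have h9' : (9 : ℕ) = 3 ^ 2 := by norm_num
      rw [h9', Nat.dvd_prime_pow Nat.prime_three] at hd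
      obtain ⟨k, hk, hko⟩ := hd
      interval_cases k
      · left; exact ⟨hu, by simpa using hko⟩
      · right; left; exact ⟨hu, by simpa using hko⟩
      · right; right; exact ⟨hu, by simpa using hko⟩
    · rintro (h | h | h) <;> exact h.1
  have hd1 : Disjoint (Finset.univ.filter (fun u : G => u ∈ R.U ∧ orderOf u = 1))
      ((Finset.univ.filter (fun u : G => u ∈ R.U ∧ orderOf u = 3)) ∪
       (Finset.univ.filter (fun u : G => u ∈ R.U ∧ orderOf u = 9))) := by
    rw [Finset.disjoint_left]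
    intro u hu hu'
    simp only [Finset.mem_filter, Finset.mem_univ, true_and, Finset.mem_union] at hu hu'
    rcases hu' with h | h <;> omega
  have hd2 : Disjoint (Finset.univ.filter (fun u : G => u ∈ R.U ∧ orderOf u = 3))
       (Finset.univ.filter (fun u : G => u ∈ R.U ∧ orderOf u = 9)) := by
    rw [Finset.disjoint_left]
    intro u hu hu'
    simp only [Finset.mem_filter, Finset.mem_univ, true_and] at hu hu'
    omega
  have hc := congrArg Finset.card hsplit
  rw [Finset.card_union_of_disjoint hd1, Finset.card_union_of_disjoint hd2, ← hU, ← h3, ← h9,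
    h1, R.card_U, M.ord3] at hc
  have hq2 : 1 ≤ q ^ 2 := Nat.one_le_pow _ _ hq.q_pos
  omega

include R hq in
/-- **the number of elements of order `9`** -/
theorem card_order_nine (M : ReeMore R) :
    Nat.card {g : G // orderOf g = 9} = q ^ 2 * (q - 1) * (q ^ 3 + 1) := by
  have h := R.count_U hq 2 (by norm_num)
  have h9 : (3 : ℕ) ^ 2 = 9 := by norm_num
  rw [h9, R.card_B hq, R.card_G, R.card_U_nine hq M] at h
  have hpos : 0 < q ^ 3 * (q - 1) :=
    Nat.mul_pos (pow_pos hq.q_pos 3) (by have := hq.big; omega)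
  apply Nat.eq_of_mul_eq_mul_right hpos
  rw [h]
  have e : q ^ 3 - q ^ 2 = q ^ 2 * (q - 1) := by
    rw [Nat.mul_sub, mul_one]
    ring_nf
  rw [e]
  ring

omit [Finite G] in
theorem ofAdd_one_pow_three : (Multiplicative.ofAdd (1 : ZMod 2)) ^ 3 = Multiplicative.ofAdd 1 := by
  decide

omit [Finite G] in
theorem orderOf_ofAdd_one : orderOf (Multiplicative.ofAdd (1 : ZMod 2)) = 2 := by
  rw [orderOf_ofAdd_eq_addOrderOf, ZMod.addOrderOf_one]

include R in
omit [Finite G] in
theorem mem_cent_of_pow_three {g : G} (hg : g ^ 3 = R.a) :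
    g ∈ Subgroup.centralizer ({R.a} : Set G) := by
  rw [Subgroup.mem_centralizer_singleton_iff, ← hg, ← pow_succ', ← pow_succ]

include R in
/-- the elements of order `6` whose cube is `a` correspond to the elements of order `3` of
`PSL₂(q)` -/
theorem card_six_set (M : ReeMore R) :
    Nat.card {g : G // orderOf g = 6 ∧ g ^ 3 = R.a} = q ^ 2 - 1 := by
  haveI : Fact (Nat.Prime 3) := ⟨Nat.prime_three⟩
  rw [← M.psl_ord3]
  have ha := R.cent_a_apply R.a_mem_cent
  -- the components of the image of `g`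
  have key : ∀ g : {g : G // orderOf g = 6 ∧ g ^ 3 = R.a},
      R.cent_a ⟨g.1, R.mem_cent_of_pow_three g.2.2⟩ =
        (Multiplicative.ofAdd 1, (R.cent_a ⟨g.1, R.mem_cent_of_pow_three g.2.2⟩).2) ∧
      orderOf (R.cent_a ⟨g.1, R.mem_cent_of_pow_three g.2.2⟩).2 = 3 := by
    rintro ⟨g, hg6, hg3⟩
    have hgC := R.mem_cent_of_pow_three hg3
    have h3 : (R.cent_a ⟨g, hgC⟩) ^ 3 = (Multiplicative.ofAdd 1, 1) := by
      rw [← map_pow, ← ha]
      congr 1
      apply Subtype.ext
      exact hg3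
    have hz3 : (R.cent_a ⟨g, hgC⟩).1 ^ 3 = Multiplicative.ofAdd 1 := congrArg Prod.fst h3
    have hp3 : (R.cent_a ⟨g, hgC⟩).2 ^ 3 = 1 := congrArg Prod.snd h3
    have hz : (R.cent_a ⟨g, hgC⟩).1 = Multiplicative.ofAdd 1 := by
      rcases zmod2_cases' (R.cent_a ⟨g, hgC⟩).1 with h | h
      · rw [h, one_pow] at hz3
        exact absurd hz3.symm ofAdd_one_ne
      · exact h
    refine ⟨Prod.ext hz rfl, ?_⟩
    apply orderOf_eq_prime hp3
    intro hp1
    have : R.cent_a ⟨g, hgC⟩ = R.cent_a ⟨R.a, R.a_mem_cent⟩ := by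
      rw [ha]
      exact Prod.ext hz hp1
    have hga : g = R.a := congrArg Subtype.val (R.cent_a.injective this)
    rw [hga, R.a_ord] at hg6
    omega
  let f : {g : G // orderOf g = 6 ∧ g ^ 3 = R.a} → {p : P // orderOf p = 3} := fun g =>
    ⟨(R.cent_a ⟨g.1, R.mem_cent_of_pow_three g.2.2⟩).2, (key g).2⟩
  apply Nat.card_congr
  apply Equiv.ofBijective f
  constructor
  · intro g g' hgg
    have h1 : (R.cent_a ⟨g.1, R.mem_cent_of_pow_three g.2.2⟩).2 =
        (R.cent_a ⟨g'.1, R.mem_cent_of_pow_three g'.2.2⟩).2 := congrArg Subtype.val hgg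
    have h2 : R.cent_a ⟨g.1, R.mem_cent_of_pow_three g.2.2⟩ =
        R.cent_a ⟨g'.1, R.mem_cent_of_pow_three g'.2.2⟩ := by
      rw [(key g).1, (key g').1, h1]
    have h3 := R.cent_a.injective h2
    have h4 : g.1 = g'.1 := by
      have := congrArg (fun z : ↥(Subgroup.centralizer ({R.a} : Set G)) => (z : G)) h3
      exact this
    exact Subtype.ext h4
  · rintro ⟨p, hp⟩
    set c := R.cent_a.symm (Multiplicative.ofAdd 1, p) with hc
    have hco : orderOf (c : G) = 6 := by
      rw [Subgroup.orderOf_coe, hc, MulEquiv.orderOf_eq, Prod.orderOf, hp, orderOf_ofAdd_one]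
      rfl
    have hc3 : (c : G) ^ 3 = R.a := by
      have : c ^ 3 = ⟨R.a, R.a_mem_cent⟩ := by
        rw [hc, ← map_pow, Prod.pow_mk, ofAdd_one_pow_three]
        have : p ^ 3 = 1 := by rw [← hp, pow_orderOf_eq_one]
        rw [this, ← ha, MulEquiv.symm_apply_apply]
      have h2 := congrArg Subtype.val this
      rwa [Subgroup.coe_pow] at h2
    refine ⟨⟨(c : G), hco, hc3⟩, ?_⟩
    apply Subtype.ext
    show (R.cent_a ⟨(c : G), _⟩).2 = p
    have : (⟨(c : G), R.mem_cent_of_pow_three hc3⟩ :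
        ↥(Subgroup.centralizer ({R.a} : Set G))) = c := Subtype.ext rfl
    rw [this, hc, MulEquiv.apply_symm_apply]

include R hq in
/-- **the number of elements of order `6`** -/
theorem card_order_six (M : ReeMore R) :
    Nat.card {g : G // orderOf g = 6} = q ^ 2 * (q - 1) * (q ^ 3 + 1) := by
  have hconj : ∀ (h g : G), (h⁻¹ * g * h) ^ 3 = h⁻¹ * g ^ 3 * h := by
    intro h g
    have : h⁻¹ * g * h = h⁻¹ * g * h⁻¹⁻¹ := by rw [inv_inv]
    rw [this, conj_pow, inv_inv]
  have h := conj_count ({g : G | orderOf g = 6 ∧ g ^ 3 = R.a} : Set G)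
    (Subgroup.centralizer ({R.a} : Set G))
    (by
      rintro n hn g ⟨hg6, hg3⟩
      refine ⟨by rw [orderOf_conj', hg6], ?_⟩
      rw [hconj, hg3]
      have := Subgroup.mem_centralizer_singleton_iff.1 hn
      rw [mul_assoc, ← this]
      group)
    (by
      rintro g ⟨hg6, hg3⟩ h ⟨-, hc⟩
      rw [hconj, hg3] at hc
      rw [Subgroup.mem_centralizer_singleton_iff]
      have : R.a * h = h * (h⁻¹ * R.a * h) := by group
      rw [this, hc])
  have e1 : Nat.card {g : G // ∃ h : G, h⁻¹ * g * h ∈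
      ({g : G | orderOf g = 6 ∧ g ^ 3 = R.a} : Set G)} = Nat.card {g : G // orderOf g = 6} := by
    apply Nat.card_congr
    apply Equiv.subtypeEquivRight
    intro g
    constructor
    · rintro ⟨h, hh, -⟩
      rw [← orderOf_conj' h g, hh]
    · intro hg
      have h2 : orderOf (g ^ 3) = 2 := by
        rw [orderOf_pow' g (by norm_num), hg]
        rfl
      obtain ⟨c, hc⟩ := R.invol_conj h2 R.a_ord
      refine ⟨c⁻¹, by rw [orderOf_conj', hg], ?_⟩
      rw [hconj, inv_inv]
      exact hc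
  have e2 : Nat.card ({g : G | orderOf g = 6 ∧ g ^ 3 = R.a} : Set G) = q ^ 2 - 1 :=
    R.card_six_set M
  rw [e1, e2, R.card_cent_a, R.card_G, hq.card_fac] at h
  have hpos : 0 < q * (q - 1) * (q + 1) :=
    Nat.mul_pos (Nat.mul_pos hq.q_pos (by have := hq.big; omega)) (Nat.succ_pos q)
  apply Nat.eq_of_mul_eq_mul_right hpos
  rw [h, hq.cube_add_one]
  have e : q ^ 2 - 1 = (q - 1) * (q + 1) := by
    obtain ⟨c, hc⟩ : ∃ c, q = c + 1 := ⟨q - 1, by have := hq.q_pos; omega⟩
    subst hc
    have : (c + 1) ^ 2 = c * (c + 2) + 1 := by ring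
    rw [this]
    simp
  rw [e]
  ring

end ReeData

end Cfsg.Agent.Helper2.Ree
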