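import Mathlib
import Cfsg.Agent.Lib.Helper2.Ree10

/-!
# Small Ree groups: the normaliser of the split torus and the elements conjugate into it
-/

set_option autoImplicit false
set_option linter.unusedSectionVars false
set_option linter.unusedVariables false
set_option linter.style.haveILetI false

namespace Cfsg.Agent.Helper2.Ree

/-- an odd prime divisor of a number `i > 2` dividing `2 c` with `c` odd -/
theorem exists_odd_prime_dvd {i c : ℕ} (hi : 2 < i) (hd : i ∣ 2 * c) (hc : c % 2 = 1) :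
    ∃ p : ℕ, p.Prime ∧ p ≠ 2 ∧ p ∣ i ∧ p ∣ c := by
  rcases Nat.even_or_odd' i with ⟨j, hj | hj⟩
  · -- `i = 2 j`
    have hjc : j ∣ c := by
      rw [hj] at hd
      exact Nat.dvd_of_mul_dvd_mul_left (by norm_num) hd
    have hj1 : j ≠ 1 := by omega
    obtain ⟨p, hp, hpj⟩ := Nat.exists_prime_and_dvd hj1
    refine ⟨p, hp, ?_, ?_, hpj.trans hjc⟩
    · rintro rfl
      have := hpj.trans hjc
      omega
    · rw [hj]
      exact Dvd.dvd.mul_left hpj 2
  · have hi1 : i ≠ 1 := by omega
    obtain ⟨p, hp, hpi⟩ := Nat.exists_prime_and_dvd hi1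
    have hp2 : p ≠ 2 := by
      rintro rfl
      omega
    refine ⟨p, hp, hp2, hpi, ?_⟩
    have h1 := hpi.trans hd
    rcases (Nat.Prime.dvd_mul hp).1 h1 with h | h
    · exact absurd ((Nat.prime_dvd_prime_iff_eq hp Nat.prime_two).1 h) hp2
    · exact h

namespace ReeData

variable {G : Type*} [Group G] [Finite G] {P : Type*} [Group P] {q r : ℕ}
  (R : ReeData G P q) (hq : QData q r)
include R hq

theorem exists_H_odd : ∃ c ∈ R.H, c ≠ 1 ∧ Odd (orderOf c) := by
  obtain ⟨c, hc2, hcodd, hc13⟩ := hq.exists_h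
  have hc1 : c ≠ 1 := by omega
  obtain ⟨p, hp, hpc⟩ := Nat.exists_prime_and_dvd hc1
  haveI : Fact p.Prime := ⟨hp⟩
  have hp2 : p ≠ 2 := by
    rintro rfl
    omega
  obtain ⟨x, hx⟩ := exists_prime_orderOf_dvd_card' (G := ↥R.H) p (by
    rw [R.card_H, hc2]
    exact Dvd.dvd.mul_left hpc 2)
  refine ⟨(x : G), x.2, ?_, ?_⟩
  · intro h
    have : orderOf (x : G) = 1 := by rw [h, orderOf_one]
    rw [Subgroup.orderOf_coe, hx] at this
    exact hp.one_lt.ne' this
  · rw [Subgroup.orderOf_coe, hx]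
    exact hp.odd_of_ne_two hp2

theorem n_mem_normalizer_H : R.n ∈ Subgroup.normalizer (R.H : Set G) := by
  rw [Subgroup.mem_normalizer_iff]
  intro h
  constructor
  · intro hh
    rw [R.inv_H h hh]
    exact inv_mem hh
  · intro hh
    have h1 := R.inv_H _ (inv_mem hh)
    rw [inv_inv] at h1
    have h2 : h = (R.n * h * R.n⁻¹)⁻¹ := by
      have h3 : R.n * h * R.n⁻¹ = R.n * (R.n * h * R.n⁻¹)⁻¹ * R.n⁻¹ := h1.symm
      exact mul_left_cancel (mul_right_cancel h3)
    rw [h2]
    exact inv_mem hh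

theorem normalizer_H_inf_B {g : G} (hg : g ∈ Subgroup.normalizer (R.H : Set G)) (hgB : g ∈ R.B) :
    g ∈ R.H := by
  obtain ⟨u, hu, h, hh, rfl⟩ := R.B_eq g hgB
  obtain ⟨c, hc, hc1, hodd⟩ := R.exists_H_odd hq
  have huN : u ∈ Subgroup.normalizer (R.H : Set G) := by
    have : u = (u * h) * h⁻¹ := by group
    rw [this]
    exact mul_mem hg (inv_mem (Subgroup.le_normalizer hh))
  have h1 : u * c * u⁻¹ ∈ R.H := (Subgroup.mem_normalizer_iff.1 huN c).1 hc
  have h2 : (u * c * u⁻¹) * c⁻¹ ∈ R.U ⊓ R.H := by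
    refine Subgroup.mem_inf.2 ⟨?_, mul_mem h1 (inv_mem hc)⟩
    have : (u * c * u⁻¹) * c⁻¹ = u * (c * u⁻¹ * c⁻¹) := by group
    rw [this]
    exact mul_mem hu (R.U_norm c (R.H_le hc) _ (inv_mem hu))
  rw [R.inf_UH hq, Subgroup.mem_bot, mul_inv_eq_one] at h2
  have h3 : c * u = u * c := by
    have : u * c = (u * c * u⁻¹) * u := by group
    rw [this, h2]
  have hu1 := R.fpf c hc hc1 hodd u hu h3
  rw [hu1, one_mul]
  exact hh

theorem mem_normalizer_H {g : G} (hg : g ∈ Subgroup.normalizer (R.H : Set G)) :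
    g ∈ R.H ∨ R.n * g ∈ R.H := by
  obtain ⟨c, hc, hc1, hodd⟩ := R.exists_H_odd hq
  have h1 : g⁻¹ * c * g ∈ R.H := (Subgroup.mem_normalizer_iff''.1 hg c).1 hc
  rcases R.fix_of_odd hq hc hc1 hodd (R.H_le h1) with h | h
  · exact Or.inl (R.normalizer_H_inf_B hq hg h)
  · exact Or.inr (R.normalizer_H_inf_B hq (mul_mem (R.n_mem_normalizer_H hq) hg) h)

/-- **the normaliser of the split torus** -/
theorem card_normalizer_H : Nat.card (Subgroup.normalizer (R.H : Set G)) = 2 * (q - 1) := by
  classical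
  have hle : R.H ≤ Subgroup.normalizer (R.H : Set G) := Subgroup.le_normalizer
  let f : Bool × R.H → Subgroup.normalizer (R.H : Set G) := fun p =>
    ⟨(if p.1 then R.n⁻¹ else 1) * (p.2 : G), mul_mem (by
      split_ifs
      · exact inv_mem (R.n_mem_normalizer_H hq)
      · exact one_mem _) (hle p.2.2)⟩
  have hinj : Function.Injective f := by
    rintro ⟨b, h⟩ ⟨b', h'⟩ e
    have e' : (if b then R.n⁻¹ else 1) * (h : G) = (if b' then R.n⁻¹ else 1) * (h' : G) :=
      congrArg Subtype.val e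
    cases b <;> cases b'
    · simp only [Bool.false_eq_true, if_false, one_mul] at e'
      exact Prod.ext rfl (Subtype.ext e')
    · exfalso
      simp only [Bool.false_eq_true, if_false, one_mul, if_true] at e'
      apply R.n_not_mem hq
      have : R.n = (h' : G) * (h : G)⁻¹ := by rw [e']; group
      rw [this]
      exact R.H_le (mul_mem h'.2 (inv_mem h.2))
    · exfalso
      simp only [Bool.false_eq_true, if_false, one_mul, if_true] at e'
      apply R.n_not_mem hq
      have : R.n = (h : G) * (h' : G)⁻¹ := by rw [← e']; group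
      rw [this]
      exact R.H_le (mul_mem h.2 (inv_mem h'.2))
    · simp only [if_true] at e'
      exact Prod.ext rfl (Subtype.ext (mul_left_cancel e'))
  have hsurj : Function.Surjective f := by
    rintro ⟨g, hg⟩
    rcases R.mem_normalizer_H hq hg with h | h
    · exact ⟨(false, ⟨g, h⟩), Subtype.ext (by simp [f])⟩
    · exact ⟨(true, ⟨R.n * g, h⟩), Subtype.ext (by simp [f])⟩
  rw [← Nat.card_congr (Equiv.ofBijective f ⟨hinj, hsurj⟩), Nat.card_prod, R.card_H]
  simp

/-- an element of `H` of order larger than `2` has a power of odd prime order -/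
theorem exists_pow_odd_prime {h : G} (ho : 2 < orderOf h) (hd : orderOf h ∣ q - 1) :
    ∃ p : ℕ, p.Prime ∧ p ≠ 2 ∧ p ∣ (q - 1) / 2 ∧ orderOf (h ^ (orderOf h / p)) = p := by
  obtain ⟨c, hc2, hcodd, hc13⟩ := hq.exists_h
  have hcc : (q - 1) / 2 = c := by omega
  rw [hc2] at hd
  obtain ⟨p, hp, hp2, hpi, hpc⟩ := exists_odd_prime_dvd ho hd hcodd
  refine ⟨p, hp, hp2, by rw [hcc]; exact hpc, ?_⟩
  exact orderOf_pow_orderOf_div (by omega) hpi

omit [Finite G] R hq in
theorem conj_pow' (g h : G) (k : ℕ) : (g⁻¹ * h * g) ^ k = g⁻¹ * h ^ k * g := by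
  have : g⁻¹ * h * g = g⁻¹ * h * g⁻¹⁻¹ := by rw [inv_inv]
  rw [this, conj_pow, inv_inv]

/-- the fusion of the elements of `H` of order larger than `2` is controlled by `N(H)` -/
theorem H_control {h g : G} (hh : h ∈ R.H) (ho : 2 < orderOf h) (hc : g⁻¹ * h * g ∈ R.H) :
    g ∈ Subgroup.normalizer (R.H : Set G) := by
  have hd : orderOf h ∣ q - 1 := by
    rw [← R.card_H]
    exact Subgroup.orderOf_dvd_natCard R.H hh
  obtain ⟨p, hp, hp2, hpc, hop⟩ := R.exists_pow_odd_prime hq ho hd
  set c := h ^ (orderOf h / p) with hcdef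
  have hcH : c ∈ R.H := pow_mem hh _
  have hc1 : c ≠ 1 := by
    intro h1
    rw [h1, orderOf_one] at hop
    exact hp.one_lt.ne hop
  have hcodd : Odd (orderOf c) := by
    rw [hop]
    exact hp.odd_of_ne_two hp2
  have hC := R.centralizer_of_odd hq hcH hc1 hcodd
  set c' := g⁻¹ * c * g with hc'def
  have hc'H : c' ∈ R.H := by
    rw [hc'def, hcdef, ← conj_pow']
    exact pow_mem hc _
  have hc'o : orderOf c' = p := by rw [hc'def, orderOf_conj', hop]
  have hc'1 : c' ≠ 1 := by
    intro h1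
    rw [h1, orderOf_one] at hc'o
    exact hp.one_lt.ne hc'o
  have hc'odd : Odd (orderOf c') := by
    rw [hc'o]
    exact hp.odd_of_ne_two hp2
  have hC' := R.centralizer_of_odd hq hc'H hc'1 hc'odd
  rw [Subgroup.mem_normalizer_iff]
  intro x
  constructor
  · intro hx
    have h1 : x * c' = c' * x := R.H_comm hx hc'H
    have h2 := conj_comm' g h1
    rw [← hC, Subgroup.mem_centralizer_singleton_iff]
    exact h2
  · intro hx
    have h1 : (g * x * g⁻¹) * c = c * (g * x * g⁻¹) := R.H_comm hx hcH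
    have h2 := conj_comm g h1
    have h3 : g⁻¹ * (g * x * g⁻¹) * g = x := by group
    rw [h3] at h2
    rw [← hC', Subgroup.mem_centralizer_singleton_iff]
    exact h2

/-- elements of order larger than `2` dividing `q - 1` are conjugate into `H` -/
theorem exists_conj_mem_H {g : G} (ho : 2 < orderOf g) (hd : orderOf g ∣ q - 1) :
    ∃ h : G, h⁻¹ * g * h ∈ R.H := by
  obtain ⟨p, hp, hp2, hpc, hop⟩ := R.exists_pow_odd_prime hq ho hd
  obtain ⟨g₀, hg₀⟩ := R.cent_prime_h hq hp hop hpc
  refine ⟨g₀, ?_⟩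
  rw [← mem_conj_iff, ← hg₀, Subgroup.mem_centralizer_singleton_iff]
  exact (Commute.pow_right (Commute.refl g) _).eq

/-- counting the elements conjugate into `H` -/
theorem count_H (S : Set ℕ) (hS : ∀ i ∈ S, 2 < i ∧ i ∣ q - 1) :
    Nat.card {g : G // orderOf g ∈ S} * (2 * (q - 1)) =
      Nat.card G * Nat.card {h : G // h ∈ R.H ∧ orderOf h ∈ S} := by
  have h := conj_count_order R.H S (by
    intro a ha haS h hc
    exact R.H_control hq ha (hS _ haS).1 hc)
  rw [R.card_normalizer_H hq] at h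
  rw [← h]
  congr 1
  apply Nat.card_congr
  apply Equiv.subtypeEquivRight
  intro g
  constructor
  · intro hg
    exact ⟨hg, R.exists_conj_mem_H hq (hS _ hg).1 (hS _ hg).2⟩
  · exact fun hg => hg.1

/-- **the number of elements of order `i > 2` dividing `q - 1`** -/
theorem card_order_H {i : ℕ} (hi : 2 < i) (hd : i ∣ q - 1) :
    2 * Nat.card {g : G // orderOf g = i} = Nat.totient i * q ^ 3 * (q ^ 3 + 1) := by
  have h := R.count_H hq ({i} : Set ℕ) (by
    intro j hj
    rw [Set.mem_singleton_iff] at hj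
    subst hj
    exact ⟨hi, hd⟩)
  have e1 : Nat.card {g : G // orderOf g ∈ ({i} : Set ℕ)} = Nat.card {g : G // orderOf g = i} := rfl
  have e2 : Nat.card {h : G // h ∈ R.H ∧ orderOf h ∈ ({i} : Set ℕ)} = Nat.totient i :=
    card_orderOf_of_isCyclic R.cyc_H (by rw [R.card_H]; exact hd)
  rw [e1, e2, R.card_G] at h
  have hpos : 0 < q - 1 := by have := hq.big; omega
  apply Nat.eq_of_mul_eq_mul_right hpos
  calc 2 * Nat.card {g : G // orderOf g = i} * (q - 1)
      = Nat.card {g : G // orderOf g = i} * (2 * (q - 1)) := by ring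
    _ = q ^ 3 * (q - 1) * (q ^ 3 + 1) * Nat.totient i := h
    _ = Nat.totient i * q ^ 3 * (q ^ 3 + 1) * (q - 1) := by ring

omit hq in
/-- `a` is the only involution of `H` -/
theorem H_invol_unique {h : G} (hh : h ∈ R.H) (ho : orderOf h = 2) : h = R.a := by
  classical
  haveI := R.cyc_H
  have heq : Subgroup.zpowers (⟨h, hh⟩ : ↥R.H) = Subgroup.zpowers (⟨R.a, R.a_mem⟩ : ↥R.H) := by
    apply subgroup_eq_of_card_eq_of_isCyclic
    rw [Nat.card_zpowers, Nat.card_zpowers, Subgroup.orderOf_mk, Subgroup.orderOf_mk, ho, R.a_ord]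
  have hmem : (⟨h, hh⟩ : ↥R.H) ∈ Subgroup.zpowers (⟨R.a, R.a_mem⟩ : ↥R.H) := by
    rw [← heq]
    exact Subgroup.mem_zpowers _
  rw [mem_zpowers_iff_mem_range_orderOf, Subgroup.orderOf_mk, R.a_ord] at hmem
  simp only [Finset.mem_image, Finset.mem_range] at hmem
  obtain ⟨k, hk, hkh⟩ := hmem
  have hkh' : R.a ^ k = h := by
    have := congrArg Subtype.val hkh
    simpa using this
  interval_cases k
  · exfalso
    rw [pow_zero] at hkh'
    rw [← hkh', orderOf_one] at ho
    omega
  · rw [pow_one] at hkh'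
    exact hkh'.symm

/-- the number of elements of `H` of order larger than `2` -/
theorem card_H_big :
    Nat.card {h : G // h ∈ R.H ∧ orderOf h ∈ {i : ℕ | 2 < i ∧ i ∣ q - 1}} = q - 3 := by
  classical
  haveI : Fintype G := Fintype.ofFinite G
  have hH : Nat.card R.H = (Finset.univ.filter (fun u : G => u ∈ R.H)).card := by
    rw [Nat.card_eq_fintype_card, Fintype.card_subtype]
  have hbig : Nat.card {h : G // h ∈ R.H ∧ orderOf h ∈ {i : ℕ | 2 < i ∧ i ∣ q - 1}} =
      (Finset.univ.filter (fun u : G => u ∈ R.H ∧ orderOf u ∈ {i : ℕ | 2 < i ∧ i ∣ q - 1})).card := by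
    rw [Nat.card_eq_fintype_card, Fintype.card_subtype]
  have ha1 : R.a ≠ 1 := by
    intro h
    have := R.a_ord
    rw [h, orderOf_one] at this
    omega
  have hsplit : Finset.univ.filter (fun u : G => u ∈ R.H) =
      ({1, R.a} : Finset G) ∪
      (Finset.univ.filter (fun u : G => u ∈ R.H ∧ orderOf u ∈ {i : ℕ | 2 < i ∧ i ∣ q - 1})) := by
    ext u
    simp only [Finset.mem_filter, Finset.mem_univ, true_and, Finset.mem_union, Finset.mem_insert,
      Finset.mem_singleton, Set.mem_ofPred_eq]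
    constructor
    · intro hu
      have hd : orderOf u ∣ q - 1 := by
        rw [← R.card_H]
        exact Subgroup.orderOf_dvd_natCard R.H hu
      by_cases h2 : 2 < orderOf u
      · exact Or.inr ⟨hu, h2, hd⟩
      · left
        have hpos := orderOf_pos u
        have : orderOf u = 1 ∨ orderOf u = 2 := by omega
        rcases this with h | h
        · exact Or.inl (orderOf_eq_one_iff.1 h)
        · exact Or.inr (R.H_invol_unique hu h)
    · rintro ((rfl | rfl) | h)
      · exact R.H.one_mem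
      · exact R.a_mem
      · exact h.1
  have hd : Disjoint ({1, R.a} : Finset G)
      (Finset.univ.filter (fun u : G => u ∈ R.H ∧ orderOf u ∈ {i : ℕ | 2 < i ∧ i ∣ q - 1})) := by
    rw [Finset.disjoint_left]
    intro u hu hu'
    simp only [Finset.mem_filter, Finset.mem_univ, true_and, Finset.mem_insert,
      Finset.mem_singleton, Set.mem_ofPred_eq] at hu hu'
    rcases hu with rfl | rfl
    · rw [orderOf_one] at hu'
      omega
    · rw [R.a_ord] at hu'
      omega
  have hc := congrArg Finset.card hsplit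
  rw [Finset.card_union_of_disjoint hd, ← hH, ← hbig, R.card_H,
    Finset.card_pair (Ne.symm ha1)] at hc
  omega

/-- **the number of elements of order larger than `2` dividing `q - 1`** -/
theorem card_type_H :
    2 * Nat.card {g : G // orderOf g ∈ {i : ℕ | 2 < i ∧ i ∣ q - 1}} =
      (q - 3) * q ^ 3 * (q ^ 3 + 1) := by
  have h := R.count_H hq {i : ℕ | 2 < i ∧ i ∣ q - 1} (fun i hi => hi)
  rw [R.card_H_big hq, R.card_G] at h
  have hpos : 0 < q - 1 := by have := hq.big; omega
  apply Nat.eq_of_mul_eq_mul_right hpos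
  calc 2 * Nat.card {g : G // orderOf g ∈ {i : ℕ | 2 < i ∧ i ∣ q - 1}} * (q - 1)
      = Nat.card {g : G // orderOf g ∈ {i : ℕ | 2 < i ∧ i ∣ q - 1}} * (2 * (q - 1)) := by ring
    _ = q ^ 3 * (q - 1) * (q ^ 3 + 1) * (q - 3) := h
    _ = (q - 3) * q ^ 3 * (q ^ 3 + 1) * (q - 1) := by ring

end ReeData

end Cfsg.Agent.Helper2.Ree
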