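import Mathlib
import Cfsg.Agent.Lib.Helper2.Ree11
import Cfsg.Agent.Lib.Helper2.TICount

/-!
# Small Ree groups: the tori of order `(q + 1) / 4`
-/

set_option autoImplicit false
set_option linter.unusedSectionVars false
set_option linter.unusedVariables false
set_option linter.style.haveILetI false

namespace Cfsg.Agent.Helper2.Ree

/-- an abelian group of order `4 k`, `k` odd, without elements of order `4`, whose
`k`-torsion has order dividing `k` -/
theorem comm_four_k {A : Type*} [CommGroup A] [Finite A] {k : ℕ} (hk : k % 2 = 1)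
    (hA : Nat.card A = 4 * k) (hcyc : Nat.card {c : A // c ^ k = 1} ∣ k)
    (h4 : ∀ c : A, orderOf c ≠ 4) :
    Nat.card {c : A // c ^ k = 1} = k ∧ Nat.card {c : A // orderOf c = 2} = 3 := by
  classical
  haveI : Fact (Nat.Prime 2) := ⟨Nat.prime_two⟩
  have hk0 : 0 < k := by omega
  let φ : A →* A := powMonoidHom k
  have hφ : ∀ c : A, φ c = c ^ k := fun c => rfl
  have hker : ∀ c : A, c ∈ φ.ker ↔ c ^ k = 1 := fun c => by rw [MonoidHom.mem_ker, hφ]
  have hcardker : Nat.card φ.ker = Nat.card {c : A // c ^ k = 1} :=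
    Nat.card_congr (Equiv.subtypeEquivRight hker)
  have h1 : Nat.card φ.range * Nat.card φ.ker = Nat.card A := by
    rw [← Nat.card_congr (QuotientGroup.quotientKerEquivRange φ).toEquiv]
    exact (Subgroup.card_eq_card_quotient_mul_card_subgroup φ.ker).symm
  have hpow4 : ∀ d : A, (φ d) ^ 4 = 1 := by
    intro d
    rw [hφ, ← pow_mul, mul_comm, ← hA]
    exact pow_card_eq_one'
  have h2 : IsPGroup 2 φ.range := by
    rintro ⟨c, d, rfl⟩
    refine ⟨2, ?_⟩
    apply Subtype.ext
    show (φ d) ^ (2 ^ 2) = 1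
    exact hpow4 d
  obtain ⟨b, hb⟩ := IsPGroup.iff_card.1 h2
  have hb2 : b ≤ 2 := by
    by_contra hc
    push Not at hc
    have h8 : 2 ^ 3 ∣ Nat.card φ.range := by
      rw [hb]
      exact pow_dvd_pow 2 hc
    have h8' : 8 ∣ 4 * k := by
      rw [← hA, ← h1]
      exact Dvd.dvd.mul_right h8 _
    omega
  have hr4 : Nat.card φ.range ≤ 4 := by
    rw [hb]
    calc 2 ^ b ≤ 2 ^ 2 := Nat.pow_le_pow_right (by norm_num) hb2
      _ = 4 := by norm_num
  have hkk : Nat.card {c : A // c ^ k = 1} = k := by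
    rw [← hcardker]
    rw [← hcardker] at hcyc
    have hle : Nat.card φ.ker ≤ k := Nat.le_of_dvd hk0 hcyc
    have : 4 * k ≤ 4 * Nat.card φ.ker := by
      rw [← hA, ← h1]
      exact Nat.mul_le_mul_right _ hr4
    omega
  refine ⟨hkk, ?_⟩
  have hrange : Nat.card φ.range = 4 := by
    rw [← hcardker] at hkk
    rw [hkk, hA] at h1
    exact Nat.eq_of_mul_eq_mul_right hk0 h1
  -- the involutions are the non-trivial elements of the range
  have hsq : ∀ c : A, c ^ 2 = 1 ↔ c ∈ φ.range := by
    intro c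
    constructor
    · intro hc
      refine ⟨c, ?_⟩
      rw [hφ]
      obtain ⟨m, hm⟩ : ∃ m, k = 2 * m + 1 := ⟨k / 2, by omega⟩
      rw [hm, pow_succ, pow_mul, hc, one_pow, one_mul]
    · rintro ⟨d, rfl⟩
      have h44 := hpow4 d
      have hd : orderOf (φ d) ∣ 4 := orderOf_dvd_of_pow_eq_one h44
      have h22 : (4 : ℕ) = 2 ^ 2 := by norm_num
      rw [h22, Nat.dvd_prime_pow Nat.prime_two] at hd
      obtain ⟨e, he, heo⟩ := hd
      interval_cases e
      · rw [pow_zero, orderOf_eq_one_iff] at heo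
        rw [heo, one_pow]
      · rw [pow_one] at heo
        rw [← heo, pow_orderOf_eq_one]
      · exfalso
        exact h4 _ (by rw [heo]; norm_num)
  have e1 : Nat.card {c : A // orderOf c = 2} = Nat.card {c : φ.range // c ≠ 1} := by
    apply Nat.card_congr
    refine ⟨fun c => ⟨⟨c.1, (hsq c.1).1 (by
        have := pow_orderOf_eq_one c.1
        rwa [c.2] at this)⟩, ?_⟩,
      fun c => ⟨c.1.1, ?_⟩, fun c => rfl, fun c => rfl⟩
    · intro h
      have h1' : c.1 = 1 := congrArg Subtype.val h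
      have := c.2
      rw [h1', orderOf_one] at this
      omega
    · apply orderOf_eq_prime ((hsq c.1.1).2 c.1.2)
      intro h
      exact c.2 (Subtype.ext h)
  rw [e1, Cfsg.Agent.Helper2.TICount.card_ne_one, hrange]

/-- a four-group `{1, t, j, tj}` with `j` in the component of the centraliser of `t`, and an
element `y` permuting its involutions cyclically -/
structure FourData {G : Type*} [Group G] (q : ℕ) (t j y : G) (L : Subgroup G) : Prop where
  inv : InvData q t L
  jL : j ∈ L
  tt : t * t = 1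
  jj : j * j = 1
  tj : t * j = j * t
  t1 : t ≠ 1
  j1 : j ≠ 1
  ne : t ≠ j
  e1 : y * t * y⁻¹ = j
  e2 : y * j * y⁻¹ = t * j
  e3 : y * (t * j) * y⁻¹ = t

namespace ReeData

variable {G : Type*} [Group G] [Finite G] {P : Type*} [Group P] {q r : ℕ}
  (R : ReeData G P q) (hq : QData q r)

include R in
theorem exists_fourData : ∃ (t j y : G) (L : Subgroup G), FourData q t j y L := by
  obtain ⟨t, j, y, htt, hjj, htj, ht1, hj1, htj_ne, e1, e2, e3⟩ := R.exists_four
  have ht2 : orderOf t = 2 := orderOf_two_of_mul_self htt ht1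
  obtain ⟨L, I⟩ := R.exists_invData ht2
  rcases I.or_mem j (Subgroup.mem_centralizer_singleton_iff.2 htj.symm) with h | h
  · exact ⟨t, j, y, L, I, h, htt, hjj, htj, ht1, hj1, htj_ne, e1, e2, e3⟩
  · have hjt : j * t = t * j := htj.symm
    refine ⟨t, t * j, y⁻¹, L, I, h, htt, ?_, ?_, ht1, ?_, ?_, ?_, ?_, ?_⟩
    · calc (t * j) * (t * j) = t * (j * t) * j := by group
        _ = t * (t * j) * j := by rw [hjt]
        _ = (t * t) * (j * j) := by group
        _ = 1 := by rw [htt, hjj, one_mul]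
    · calc t * (t * j) = t * (j * t) := by rw [hjt]
        _ = t * j * t := by group
    · intro h0
      apply htj_ne
      have : j = t⁻¹ := eq_inv_of_mul_eq_one_right h0
      rw [this, I.t_inv]
    · intro h0
      apply hj1
      have : t * 1 = t * j := by rw [mul_one]; exact h0
      exact (mul_left_cancel this).symm
    · rw [inv_inv]
      calc y⁻¹ * t * y = y⁻¹ * (y * (t * j) * y⁻¹) * y := by rw [e3]
        _ = t * j := by group
    · rw [inv_inv]
      have : t * (t * j) = j := by rw [← mul_assoc, htt, one_mul]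
      rw [this]
      calc y⁻¹ * (t * j) * y = y⁻¹ * (y * j * y⁻¹) * y := by rw [e2]
        _ = j := by group
    · rw [inv_inv]
      have : t * (t * j) = j := by rw [← mul_assoc, htt, one_mul]
      rw [this]
      calc y⁻¹ * j * y = y⁻¹ * (y * t * y⁻¹) * y := by rw [e1]
        _ = t := by group

end ReeData

section general

variable {G : Type*} [Group G]

theorem mem_normalizer_of_forall {H : Subgroup G} {g : G} (h1 : ∀ x ∈ H, g * x * g⁻¹ ∈ H)
    (h2 : ∀ x ∈ H, g⁻¹ * x * g ∈ H) : g ∈ Subgroup.normalizer (H : Set G) := by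
  rw [Subgroup.mem_normalizer_iff]
  intro x
  constructor
  · exact h1 x
  · intro hx
    have := h2 _ hx
    have e : g⁻¹ * (g * x * g⁻¹) * g = x := by group
    rwa [e] at this

/-- the subgroup of the elements of the centraliser of `x` with `c ^ d = 1`, when this
centraliser is abelian -/
def centTorsion (x : G) (d : ℕ)
    (hab : ∀ c₁ c₂ : G, c₁ * x = x * c₁ → c₂ * x = x * c₂ → c₁ * c₂ = c₂ * c₁) : Subgroup G where
  carrier := {c | c * x = x * c ∧ c ^ d = 1}
  one_mem' := ⟨by simp, one_pow d⟩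
  mul_mem' := by
    rintro a b ⟨ha, ha'⟩ ⟨hb, hb'⟩
    refine ⟨?_, ?_⟩
    · calc a * b * x = a * (b * x) := mul_assoc _ _ _
        _ = a * (x * b) := by rw [hb]
        _ = (a * x) * b := (mul_assoc _ _ _).symm
        _ = x * a * b := by rw [ha]
        _ = x * (a * b) := mul_assoc _ _ _
    · have hc : Commute a b := hab a b ha hb
      rw [hc.mul_pow, ha', hb', one_mul]
  inv_mem' := by
    rintro a ⟨ha, ha'⟩
    refine ⟨?_, by rw [inv_pow, ha', inv_one]⟩
    calc a⁻¹ * x = a⁻¹ * (x * a) * a⁻¹ := by group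
      _ = a⁻¹ * (a * x) * a⁻¹ := by rw [ha]
      _ = x * a⁻¹ := by group

theorem mem_centTorsion {x : G} {d : ℕ}
    {hab : ∀ c₁ c₂ : G, c₁ * x = x * c₁ → c₂ * x = x * c₂ → c₁ * c₂ = c₂ * c₁} {c : G} :
    c ∈ centTorsion x d hab ↔ c * x = x * c ∧ c ^ d = 1 := Iff.rfl

end general

/-- the centraliser of the four-group -/
def K4 {G : Type*} [Group G] (t j : G) : Subgroup G :=
  Subgroup.centralizer ({t} : Set G) ⊓ Subgroup.centralizer ({j} : Set G)

theorem mem_K4 {G : Type*} [Group G] {t j c : G} :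
    c ∈ K4 t j ↔ c * t = t * c ∧ c * j = j * c := by
  unfold K4
  rw [Subgroup.mem_inf, Subgroup.mem_centralizer_singleton_iff,
    Subgroup.mem_centralizer_singleton_iff]

namespace FourData

variable {G : Type*} [Group G] [Finite G] {P : Type*} [Group P] {q r : ℕ}
  (R : ReeData G P q) (hq : QData q r) {t j y : G} {L : Subgroup G} (F : FourData q t j y L)


include F in
omit [Finite G] in
theorem t_mem_K : t ∈ K4 t j := mem_K4.2 ⟨rfl, F.tj⟩

include F in
omit [Finite G] in
theorem j_mem_K : j ∈ K4 t j := mem_K4.2 ⟨F.tj.symm, rfl⟩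

include F in
omit [Finite G] in
theorem j_ord : orderOf j = 2 := orderOf_two_of_mul_self F.jj F.j1

include F in
theorem card_K : Nat.card (K4 t j) = 2 * (q + 1) := by
  have hKL : K4 t j ⊓ L = Subgroup.centralizer ({j} : Set G) ⊓ L := by
    ext z
    constructor
    · intro h
      exact Subgroup.mem_inf.2
        ⟨(Subgroup.mem_inf.1 (Subgroup.mem_inf.1 h).1).2, (Subgroup.mem_inf.1 h).2⟩
    · intro h
      exact Subgroup.mem_inf.2
        ⟨Subgroup.mem_inf.2 ⟨F.inv.le (Subgroup.mem_inf.1 h).2, (Subgroup.mem_inf.1 h).1⟩,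
          (Subgroup.mem_inf.1 h).2⟩
  rw [F.inv.card_two_mul (K4 t j) inf_le_left F.t_mem_K, hKL, F.inv.psl.cent_inv j F.jL F.j_ord]

include F in
omit [Finite G] in
/-- `y` normalises the centraliser of the four-group -/
theorem y_conj_K {c : G} (hc : c ∈ K4 t j) : y * c * y⁻¹ ∈ K4 t j ∧ y⁻¹ * c * y ∈ K4 t j := by
  obtain ⟨hct, hcj⟩ := mem_K4.1 hc
  have hctj : c * (t * j) = (t * j) * c := by
    calc c * (t * j) = (c * t) * j := (mul_assoc _ _ _).symm
      _ = t * (c * j) := by rw [hct, mul_assoc]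
      _ = (t * j) * c := by rw [hcj, mul_assoc]
  have i1 : y⁻¹ * t * y = t * j := by
    calc y⁻¹ * t * y = y⁻¹ * (y * (t * j) * y⁻¹) * y := by rw [F.e3]
      _ = t * j := by group
  have i2 : y⁻¹ * j * y = t := by
    calc y⁻¹ * j * y = y⁻¹ * (y * t * y⁻¹) * y := by rw [F.e1]
      _ = t := by group
  constructor
  · rw [mem_K4]
    constructor
    · calc y * c * y⁻¹ * t = y * (c * (y⁻¹ * t * y)) * y⁻¹ := by group
        _ = y * ((y⁻¹ * t * y) * c) * y⁻¹ := by rw [i1, hctj]
        _ = t * (y * c * y⁻¹) := by group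
    · calc y * c * y⁻¹ * j = y * (c * (y⁻¹ * j * y)) * y⁻¹ := by group
        _ = y * ((y⁻¹ * j * y) * c) * y⁻¹ := by rw [i2, hct]
        _ = j * (y * c * y⁻¹) := by group
  · rw [mem_K4]
    constructor
    · calc y⁻¹ * c * y * t = y⁻¹ * (c * (y * t * y⁻¹)) * y := by group
        _ = y⁻¹ * ((y * t * y⁻¹) * c) * y := by rw [F.e1, hcj]
        _ = t * (y⁻¹ * c * y) := by group
    · calc y⁻¹ * c * y * j = y⁻¹ * (c * (y * j * y⁻¹)) * y := by group
        _ = y⁻¹ * ((y * j * y⁻¹) * c) * y := by rw [F.e2, hctj]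
        _ = j * (y⁻¹ * c * y) := by group

include F hq in
/-- an element of prime order dividing `(q + 1) / 4` in the centraliser of the four-group -/
theorem exists_x : ∃ (x : G) (p : ℕ), p.Prime ∧ p ∣ (q + 1) / 4 ∧ orderOf x = p ∧ x ∈ K4 t j := by
  obtain ⟨k, hk4, hkodd, hk7⟩ := hq.exists_k
  have hkk : (q + 1) / 4 = k := by omega
  have hk1 : k ≠ 1 := by omega
  obtain ⟨p, hp, hpk⟩ := Nat.exists_prime_and_dvd hk1
  haveI : Fact p.Prime := ⟨hp⟩
  obtain ⟨x, hx⟩ := exists_prime_orderOf_dvd_card' (G := ↥(K4 t j)) p (by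
    rw [F.card_K, hk4]
    exact Dvd.dvd.mul_left (Dvd.dvd.mul_left hpk 4) 2)
  refine ⟨(x : G), p, hp, by rw [hkk]; exact hpk, ?_, x.2⟩
  rw [Subgroup.orderOf_coe]
  exact hx

end FourData

/-- a four-group as above and an element `x` of prime order dividing `(q + 1) / 4` in its
centraliser -/
structure A1Data {G : Type*} [Group G] (q : ℕ) (t j y : G) (L : Subgroup G) (x : G) (p : ℕ) :
    Prop where
  four : FourData q t j y L
  hp : p.Prime
  hpk : p ∣ (q + 1) / 4
  hx : orderOf x = p
  hxt : x * t = t * x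
  hxj : x * j = j * x

namespace ReeData

variable {G : Type*} [Group G] [Finite G] {P : Type*} [Group P] {q r : ℕ}
  (R : ReeData G P q) (hq : QData q r)

include R hq in
theorem exists_a1Data : ∃ (t j y : G) (L : Subgroup G) (x : G) (p : ℕ), A1Data q t j y L x p := by
  obtain ⟨t, j, y, L, F⟩ := R.exists_fourData
  obtain ⟨x, p, hp, hpk, hx, hxK⟩ := F.exists_x hq
  obtain ⟨hxt, hxj⟩ := mem_K4.1 hxK
  exact ⟨t, j, y, L, x, p, F, hp, hpk, hx, hxt, hxj⟩

end ReeData

namespace A1Data

variable {G : Type*} [Group G] [Finite G] {P : Type*} [Group P] {q r : ℕ}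
  (R : ReeData G P q) (hq : QData q r) {t j y : G} {L : Subgroup G} {x : G} {p : ℕ}
  (D : A1Data q t j y L x p)
include R hq D

theorem aux : (∀ c : G, c * x = x * c → c * t = t * c ∧ c * j = j * c) ∧
    (∀ c₁ c₂ : G, c₁ * x = x * c₁ → c₂ * x = x * c₂ → c₁ * c₂ = c₂ * c₁) ∧
    Nat.card (Subgroup.centralizer ({x} : Set G)) = q + 1 :=
  R.cent_prime_k_aux hq D.four.inv D.four.jj D.four.j1 D.four.jL D.hp D.hx D.hpk D.hxt D.hxj

theorem hab : ∀ c₁ c₂ : G, c₁ * x = x * c₁ → c₂ * x = x * c₂ → c₁ * c₂ = c₂ * c₁ :=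
  (D.aux R hq).2.1

theorem cent_le_K : Subgroup.centralizer ({x} : Set G) ≤ K4 t j := by
  intro c hc
  rw [Subgroup.mem_centralizer_singleton_iff] at hc
  exact mem_K4.2 ((D.aux R hq).1 c hc)

theorem card_cent : Nat.card (Subgroup.centralizer ({x} : Set G)) = q + 1 := (D.aux R hq).2.2

/-- the torus of order `(q + 1) / 4` -/
def O : Subgroup G := centTorsion x ((q + 1) / 4) (D.hab R hq)

theorem mem_O {c : G} : c ∈ D.O R hq ↔ c * x = x * c ∧ c ^ ((q + 1) / 4) = 1 := Iff.rfl

theorem x_mem_O : x ∈ D.O R hq := by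
  rw [D.mem_O R hq]
  refine ⟨rfl, ?_⟩
  obtain ⟨m, hm⟩ := D.hpk
  rw [hm, pow_mul, ← D.hx, pow_orderOf_eq_one, one_pow]

theorem O_comm {a b : G} (ha : a ∈ D.O R hq) (hb : b ∈ D.O R hq) : a * b = b * a :=
  D.hab R hq a b ((D.mem_O R hq).1 ha).1 ((D.mem_O R hq).1 hb).1

/-- squares of elements of `K` lie in the centraliser of `x` -/
theorem sq_mem_cent {d : G} (hd : d ∈ K4 t j) : (d * d) * x = x * (d * d) := by
  set A' := (Subgroup.centralizer ({x} : Set G)).subgroupOf (K4 t j) with hA'
  have hcard : Nat.card A' = q + 1 := by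
    rw [hA', Nat.card_congr (Subgroup.subgroupOfEquivOfLe (D.cent_le_K R hq)).toEquiv,
      D.card_cent R hq]
  have hidx : A'.index = 2 := by
    have h1 := A'.card_mul_index
    rw [hcard, D.four.card_K] at h1
    have hpos : 0 < q + 1 := Nat.succ_pos q
    apply Nat.eq_of_mul_eq_mul_left hpos
    rw [h1]
    ring
  have h2 := Subgroup.mul_self_mem_of_index_two hidx (⟨d, hd⟩ : ↥(K4 t j))
  rw [hA', Subgroup.mem_subgroupOf] at h2
  exact Subgroup.mem_centralizer_singleton_iff.1 h2

/-- the elements of `K` of order dividing `(q + 1) / 4` lie in `O` -/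
theorem K_torsion_mem_O {d : G} (hd : d ∈ K4 t j) (hdk : d ^ ((q + 1) / 4) = 1) :
    d ∈ D.O R hq := by
  rw [D.mem_O R hq]
  refine ⟨?_, hdk⟩
  obtain ⟨k, hk4, hkodd, hk7⟩ := hq.exists_k
  have hkk : (q + 1) / 4 = k := by omega
  rw [hkk] at hdk
  obtain ⟨m, hm⟩ : ∃ m, k = 2 * m + 1 := ⟨k / 2, by omega⟩
  have h1 : d = (d * d) ^ (m + 1) := by
    rw [← pow_two, ← pow_mul]
    have : 2 * (m + 1) = k + 1 := by omega
    rw [this, pow_succ, hdk, one_mul]
  have h2 := D.sq_mem_cent R hq hd
  rw [h1]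
  exact ((Commute.pow_left (show Commute (d * d) x from h2) (m + 1))).eq

variable (Ln : ReeLin G q) (hz : ∃ z : G, orderOf z = (q + 1) / 2)
include Ln hz

theorem O_isCyclic : IsCyclic (D.O R hq) :=
  R.isCyclic_of_abelian hq Ln hz (d := (q + 1) / 4)
    (fun p' hp' hpd => by
      obtain ⟨h2, h3, -, -, -⟩ := hq.k_coprime hp' hpd
      exact ReeData.prime_gt_three hp' h2 h3)
    (D.O R hq) (fun a ha b hb => D.O_comm R hq ha hb) (fun a ha => ((D.mem_O R hq).1 ha).2)

theorem card_O_and_invol : Nat.card (D.O R hq) = (q + 1) / 4 ∧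
    Nat.card {c : G // orderOf c = 2 ∧ c * x = x * c} = 3 := by
  obtain ⟨k, hk4, hkodd, hk7⟩ := hq.exists_k
  have hkk : (q + 1) / 4 = k := by omega
  letI : CommGroup ↥(Subgroup.centralizer ({x} : Set G)) :=
    { (inferInstance : Group ↥(Subgroup.centralizer ({x} : Set G))) with
      mul_comm := fun a b => Subtype.ext (D.hab R hq a.1 b.1
        (Subgroup.mem_centralizer_singleton_iff.1 a.2)
        (Subgroup.mem_centralizer_singleton_iff.1 b.2)) }
  have e1 : Nat.card {c : ↥(Subgroup.centralizer ({x} : Set G)) // c ^ k = 1} =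
      Nat.card (D.O R hq) := by
    apply Nat.card_congr
    refine ⟨fun c => ⟨c.1.1, (D.mem_O R hq).2
        ⟨Subgroup.mem_centralizer_singleton_iff.1 c.1.2, by
          rw [hkk]
          have := congrArg Subtype.val c.2
          rwa [Subgroup.coe_pow] at this⟩⟩,
      fun o => ⟨⟨o.1, Subgroup.mem_centralizer_singleton_iff.2 ((D.mem_O R hq).1 o.2).1⟩, by
        apply Subtype.ext
        rw [Subgroup.coe_pow]
        have := ((D.mem_O R hq).1 o.2).2
        rw [hkk] at this
        exact this⟩, fun c => rfl, fun o => rfl⟩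
  have hcyc : Nat.card (D.O R hq) ∣ k := by
    haveI := D.O_isCyclic R hq Ln hz
    obtain ⟨g, hg⟩ := IsCyclic.exists_ofOrder_eq_natCard (α := ↥(D.O R hq))
    rw [← hg]
    apply orderOf_dvd_of_pow_eq_one
    apply Subtype.ext
    rw [Subgroup.coe_pow]
    have := ((D.mem_O R hq).1 g.2).2
    rw [hkk] at this
    exact this
  have h4 : ∀ c : ↥(Subgroup.centralizer ({x} : Set G)), orderOf c ≠ 4 := by
    intro c
    rw [← Subgroup.orderOf_coe]
    exact R.no_order_four _
  obtain ⟨h5, h6⟩ := comm_four_k hkodd (by rw [D.card_cent R hq, hk4]) (by rw [e1]; exact hcyc) h4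
  refine ⟨by rw [hkk, ← e1, h5], ?_⟩
  rw [← h6]
  apply Nat.card_congr
  refine ⟨fun c => ⟨⟨c.1, Subgroup.mem_centralizer_singleton_iff.2 c.2.2⟩, by
      rw [← Subgroup.orderOf_coe]
      exact c.2.1⟩,
    fun c => ⟨c.1.1, by
      have := c.2
      rw [← Subgroup.orderOf_coe] at this
      exact this, Subgroup.mem_centralizer_singleton_iff.1 c.1.2⟩, fun c => rfl, fun c => rfl⟩

theorem card_O : Nat.card (D.O R hq) = (q + 1) / 4 := (D.card_O_and_invol R hq Ln hz).1

omit R hq Ln hz [Finite G] in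
theorem tj_sq : (t * j) * (t * j) = 1 := by
  calc (t * j) * (t * j) = t * (j * t) * j := by group
    _ = t * (t * j) * j := by rw [← D.four.tj]
    _ = (t * t) * (j * j) := by group
    _ = 1 := by rw [D.four.tt, D.four.jj, one_mul]

omit R hq Ln hz [Finite G] in
theorem tj_ne_one : t * j ≠ 1 := by
  intro h0
  apply D.four.ne
  have : j = t⁻¹ := eq_inv_of_mul_eq_one_right h0
  rw [this, D.four.inv.t_inv]

/-- the involutions of the centraliser of `x` -/
theorem invol_cases {c : G} (hc2 : orderOf c = 2) (hcx : c * x = x * c) :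
    c = t ∨ c = j ∨ c = t * j := by
  classical
  haveI : Fintype G := Fintype.ofFinite G
  have h3 := (D.card_O_and_invol R hq Ln hz).2
  rw [Nat.card_eq_fintype_card, Fintype.card_subtype] at h3
  have ht2 : orderOf t = 2 := D.four.inv.ord
  have hj2 : orderOf j = 2 := D.four.j_ord
  have htj2 : orderOf (t * j) = 2 := orderOf_two_of_mul_self D.tj_sq D.tj_ne_one
  have hsub : ({t, j, t * j} : Finset G) ⊆
      Finset.univ.filter (fun c : G => orderOf c = 2 ∧ c * x = x * c) := by
    intro z hz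
    simp only [Finset.mem_insert, Finset.mem_singleton] at hz
    simp only [Finset.mem_filter, Finset.mem_univ, true_and]
    rcases hz with rfl | rfl | rfl
    · exact ⟨ht2, D.hxt.symm⟩
    · exact ⟨hj2, D.hxj.symm⟩
    · refine ⟨htj2, ?_⟩
      calc t * j * x = t * (j * x) := mul_assoc _ _ _
        _ = t * (x * j) := by rw [D.hxj]
        _ = (t * x) * j := (mul_assoc _ _ _).symm
        _ = (x * t) * j := by rw [D.hxt]
        _ = x * (t * j) := mul_assoc _ _ _
  have hcard : ({t, j, t * j} : Finset G).card = 3 := by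
    rw [Finset.card_insert_of_notMem, Finset.card_insert_of_notMem, Finset.card_singleton]
    · rw [Finset.mem_singleton]
      intro h
      apply D.four.t1
      have : 1 * j = t * j := by rw [one_mul]; exact h
      exact (mul_right_cancel this).symm
    · rw [Finset.mem_insert, Finset.mem_singleton]
      rintro (h | h)
      · exact D.four.ne h
      · apply D.four.j1
        have : t * 1 = t * j := by rw [mul_one]; exact h
        exact (mul_left_cancel this).symm
  have heq := Finset.eq_of_subset_of_card_le hsub (by rw [h3, hcard])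
  have hc : c ∈ Finset.univ.filter (fun c : G => orderOf c = 2 ∧ c * x = x * c) := by
    simp only [Finset.mem_filter, Finset.mem_univ, true_and]
    exact ⟨hc2, hcx⟩
  rw [← heq] at hc
  simpa using hc

omit Ln hz in
/-- the normaliser of `O` normalises the centraliser of `x` -/
theorem conj_cent_of_normalizer {g : G} (hg : g ∈ Subgroup.normalizer ((D.O R hq : Subgroup G) : Set G))
    {c : G} (hc : c * x = x * c) : (g * c * g⁻¹) * x = x * (g * c * g⁻¹) := by
  have h1 : g⁻¹ * x * g ∈ D.O R hq := (Subgroup.mem_normalizer_iff''.1 hg x).1 (D.x_mem_O R hq)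
  have h2 : c * (g⁻¹ * x * g) = (g⁻¹ * x * g) * c :=
    D.hab R hq c _ hc ((D.mem_O R hq).1 h1).1
  exact conj_comm' g h2

omit Ln hz in
theorem O_le_K : D.O R hq ≤ K4 t j := fun o ho =>
  D.cent_le_K R hq (Subgroup.mem_centralizer_singleton_iff.2 ((D.mem_O R hq).1 ho).1)

omit Ln hz in
theorem K_le_normalizer :
    K4 t j ≤ Subgroup.normalizer ((D.O R hq : Subgroup G) : Set G) := by
  intro c hc
  apply mem_normalizer_of_forall
  · intro o ho
    apply D.K_torsion_mem_O R hq (mul_mem (mul_mem hc (D.O_le_K R hq ho)) (inv_mem hc))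
    rw [conj_pow, ((D.mem_O R hq).1 ho).2]
    group
  · intro o ho
    apply D.K_torsion_mem_O R hq (mul_mem (mul_mem (inv_mem hc) (D.O_le_K R hq ho)) hc)
    rw [ReeData.conj_pow', ((D.mem_O R hq).1 ho).2]
    group

omit Ln hz in
theorem y_mem_normalizer : y ∈ Subgroup.normalizer ((D.O R hq : Subgroup G) : Set G) := by
  apply mem_normalizer_of_forall
  · intro o ho
    apply D.K_torsion_mem_O R hq (D.four.y_conj_K (D.O_le_K R hq ho)).1
    rw [conj_pow, ((D.mem_O R hq).1 ho).2]
    group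
  · intro o ho
    apply D.K_torsion_mem_O R hq (D.four.y_conj_K (D.O_le_K R hq ho)).2
    rw [ReeData.conj_pow', ((D.mem_O R hq).1 ho).2]
    group

/-- an element of the normaliser of `O` centralising `t` lies in `K` -/
theorem mem_K_of_fix {g : G} (hg : g ∈ Subgroup.normalizer ((D.O R hq : Subgroup G) : Set G))
    (hgt : g * t * g⁻¹ = t) : g ∈ K4 t j := by
  have hgt' : g * t = t * g := by
    have : g * t = (g * t * g⁻¹) * g := by group
    rw [this, hgt]
  have hw2 : orderOf (g * j * g⁻¹) = 2 := by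
    have : g * j * g⁻¹ = (g⁻¹)⁻¹ * j * g⁻¹ := by rw [inv_inv]
    rw [this, orderOf_conj', D.four.j_ord]
  have hwx := D.conj_cent_of_normalizer R hq hg D.hxj.symm
  have hcases := D.invol_cases R hq Ln hz hw2 hwx
  have := D.four.inv.fix_all D.four.tj.symm (Ne.symm D.four.ne) hgt' hcases
  exact mem_K4.2 ⟨hgt', this⟩

/-- the normaliser of `O` is the union of three cosets of `K` -/
theorem normalizer_cases {g : G}
    (hg : g ∈ Subgroup.normalizer ((D.O R hq : Subgroup G) : Set G)) :
    g ∈ K4 t j ∨ y * g ∈ K4 t j ∨ y * y * g ∈ K4 t j := by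
  have hw2 : orderOf (g * t * g⁻¹) = 2 := by
    have : g * t * g⁻¹ = (g⁻¹)⁻¹ * t * g⁻¹ := by rw [inv_inv]
    rw [this, orderOf_conj', D.four.inv.ord]
  have hwx := D.conj_cent_of_normalizer R hq hg D.hxt.symm
  have hy := D.y_mem_normalizer R hq
  rcases D.invol_cases R hq Ln hz hw2 hwx with h | h | h
  · exact Or.inl (D.mem_K_of_fix R hq Ln hz hg h)
  · right; right
    apply D.mem_K_of_fix R hq Ln hz (mul_mem (mul_mem hy hy) hg)
    calc y * y * g * t * (y * y * g)⁻¹ = y * (y * (g * t * g⁻¹) * y⁻¹) * y⁻¹ := by group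
      _ = t := by rw [h, D.four.e2, D.four.e3]
  · right; left
    apply D.mem_K_of_fix R hq Ln hz (mul_mem hy hg)
    calc y * g * t * (y * g)⁻¹ = y * (g * t * g⁻¹) * y⁻¹ := by group
      _ = t := by rw [h, D.four.e3]

omit R hq Ln hz [Finite G] in
theorem y_not_mem_K : y ∉ K4 t j := by
  intro h
  have h1 := (mem_K4.1 h).1
  apply D.four.ne
  rw [← D.four.e1, h1]
  group

omit R hq Ln hz [Finite G] in
theorem yy_not_mem_K : y * y ∉ K4 t j := by
  intro h
  have h1 := (mem_K4.1 h).1
  have h2 : y * y * t * (y * y)⁻¹ = t * j := by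
    calc y * y * t * (y * y)⁻¹ = y * (y * t * y⁻¹) * y⁻¹ := by group
      _ = t * j := by rw [D.four.e1, D.four.e2]
  rw [h1] at h2
  apply D.four.j1
  have h3 : t * 1 = t * j := by
    rw [mul_one, ← h2]
    group
  exact (mul_left_cancel h3).symm

/-- **the normaliser of the torus of order `(q + 1) / 4`** -/
theorem card_normalizer_O :
    Nat.card (Subgroup.normalizer ((D.O R hq : Subgroup G) : Set G)) = 6 * (q + 1) := by
  classical
  have hy := D.y_mem_normalizer R hq
  have hK := D.K_le_normalizer R hq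
  let w : Fin 3 → G := ![1, y⁻¹, (y * y)⁻¹]
  have hw : ∀ e, w e ∈ Subgroup.normalizer ((D.O R hq : Subgroup G) : Set G) := by
    intro e
    fin_cases e
    · exact one_mem _
    · exact inv_mem hy
    · exact inv_mem (mul_mem hy hy)
  let f : Fin 3 × ↥(K4 t j) → ↥(Subgroup.normalizer ((D.O R hq : Subgroup G) : Set G)) :=
    fun p => ⟨w p.1 * (p.2 : G), mul_mem (hw p.1) (hK p.2.2)⟩
  have hyK := D.y_not_mem_K
  have hyyK := D.yy_not_mem_K
  have hinj : Function.Injective f := by
    rintro ⟨e, c⟩ ⟨e', c'⟩ h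
    have h' : w e * (c : G) = w e' * (c' : G) := congrArg Subtype.val h
    have key1 : ∀ a b : ↥(K4 t j), y * (a : G) = (b : G) → False := by
      intro a b hab
      apply hyK
      have h1 : y = (b : G) * (a : G)⁻¹ := by rw [← hab]; group
      have h2 : (b : G) * (a : G)⁻¹ ∈ K4 t j := mul_mem b.2 (inv_mem a.2)
      exact h1 ▸ h2
    have key2 : ∀ a b : ↥(K4 t j), y * y * (a : G) = (b : G) → False := by
      intro a b hab
      apply hyyK
      have h1 : y * y = (b : G) * (a : G)⁻¹ := by rw [← hab]; group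
      have h2 : (b : G) * (a : G)⁻¹ ∈ K4 t j := mul_mem b.2 (inv_mem a.2)
      exact h1 ▸ h2
    fin_cases e <;> fin_cases e'
    · change (1 : G) * (c : G) = 1 * (c' : G) at h'
      rw [one_mul, one_mul] at h'
      exact Prod.ext rfl (Subtype.ext h')
    · exfalso
      change (1 : G) * (c : G) = y⁻¹ * (c' : G) at h'
      apply key1 c c'
      rw [one_mul] at h'
      rw [h']
      group
    · exfalso
      change (1 : G) * (c : G) = (y * y)⁻¹ * (c' : G) at h'
      apply key2 c c'
      rw [one_mul] at h'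
      rw [h']
      group
    · exfalso
      change y⁻¹ * (c : G) = 1 * (c' : G) at h'
      apply key1 c' c
      rw [one_mul] at h'
      rw [← h']
      group
    · change y⁻¹ * (c : G) = y⁻¹ * (c' : G) at h'
      exact Prod.ext rfl (Subtype.ext (mul_left_cancel h'))
    · exfalso
      change y⁻¹ * (c : G) = (y * y)⁻¹ * (c' : G) at h'
      apply key1 c c'
      have : (c' : G) = y * y * (y⁻¹ * (c : G)) := by rw [h']; group
      rw [this]
      group
    · exfalso
      change (y * y)⁻¹ * (c : G) = 1 * (c' : G) at h'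
      apply key2 c' c
      rw [one_mul] at h'
      rw [← h']
      group
    · exfalso
      change (y * y)⁻¹ * (c : G) = y⁻¹ * (c' : G) at h'
      apply key1 c' c
      have : (c : G) = y * y * (y⁻¹ * (c' : G)) := by rw [← h']; group
      rw [this]
      group
    · change (y * y)⁻¹ * (c : G) = (y * y)⁻¹ * (c' : G) at h'
      exact Prod.ext rfl (Subtype.ext (mul_left_cancel h'))
  have hsurj : Function.Surjective f := by
    rintro ⟨g, hg⟩
    rcases D.normalizer_cases R hq Ln hz hg with h | h | h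
    · exact ⟨(0, ⟨g, h⟩), Subtype.ext (by simp [f, w])⟩
    · exact ⟨(1, ⟨y * g, h⟩), Subtype.ext (by simp [f, w])⟩
    · exact ⟨(2, ⟨y * y * g, h⟩), Subtype.ext (by simp [f, w, mul_assoc])⟩
  rw [← Nat.card_congr (Equiv.ofBijective f ⟨hinj, hsurj⟩), Nat.card_prod, D.four.card_K]
  simp
  ring

omit Ln hz in
/-- the centraliser of a non-trivial element of `O` is the centraliser of `x` -/
theorem cent_of_mem_O {o : G} (ho : o ∈ D.O R hq) (ho1 : o ≠ 1) {c : G} :
    c * o = o * c ↔ c * x = x * c := by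
  constructor
  · intro hc
    obtain ⟨p', hp', hp'd, hox⟩ := exists_prime_order_pow ho1
    set x' := o ^ (orderOf o / p') with hx'
    have hp'k : p' ∣ (q + 1) / 4 :=
      hp'd.trans (orderOf_dvd_of_pow_eq_one ((D.mem_O R hq).1 ho).2)
    obtain ⟨hab', hcard'⟩ := R.cent_prime_k hq hp' hox hp'k
    have hle : Subgroup.centralizer ({x} : Set G) ≤ Subgroup.centralizer ({x'} : Set G) := by
      intro c' hc'
      rw [Subgroup.mem_centralizer_singleton_iff] at hc' ⊢
      have h1 : c' * o = o * c' := D.hab R hq c' o hc' ((D.mem_O R hq).1 ho).1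
      exact (Commute.pow_right (show Commute c' o from h1) _).eq
    have heq : Subgroup.centralizer ({x} : Set G) = Subgroup.centralizer ({x'} : Set G) :=
      Subgroup.eq_of_le_of_card_ge hle (by rw [hcard', D.card_cent R hq])
    have h2 : c ∈ Subgroup.centralizer ({x'} : Set G) := by
      rw [Subgroup.mem_centralizer_singleton_iff]
      exact (Commute.pow_right (show Commute c o from hc) _).eq
    rw [← heq, Subgroup.mem_centralizer_singleton_iff] at h2
    exact h2
  · intro hc
    exact D.hab R hq c o hc ((D.mem_O R hq).1 ho).1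

omit Ln hz in
/-- the fusion in `O` is controlled by its normaliser -/
theorem O_control {o h : G} (ho : o ∈ D.O R hq) (ho1 : o ≠ 1) (hc : h⁻¹ * o * h ∈ D.O R hq) :
    h ∈ Subgroup.normalizer ((D.O R hq : Subgroup G) : Set G) := by
  have ho'1 : h⁻¹ * o * h ≠ 1 := by
    intro h1
    apply ho1
    have : o = h * (h⁻¹ * o * h) * h⁻¹ := by group
    rw [this, h1]
    group
  apply mem_normalizer_of_forall
  · intro u hu
    rw [D.mem_O R hq]
    refine ⟨?_, by rw [conj_pow, ((D.mem_O R hq).1 hu).2]; group⟩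
    rw [← D.cent_of_mem_O R hq ho ho1]
    have h1 : u * (h⁻¹ * o * h) = (h⁻¹ * o * h) * u := D.O_comm R hq hu hc
    exact conj_comm' h h1
  · intro u hu
    rw [D.mem_O R hq]
    refine ⟨?_, by rw [ReeData.conj_pow', ((D.mem_O R hq).1 hu).2]; group⟩
    rw [← D.cent_of_mem_O R hq hc ho'1]
    have h1 : u * o = o * u := D.O_comm R hq hu ho
    exact conj_comm h h1

/-- elements of order dividing `(q + 1) / 4` are conjugate into `O` -/
theorem exists_conj_mem_O {g : G} (hg : orderOf g ∣ (q + 1) / 4) :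
    ∃ h : G, h⁻¹ * g * h ∈ D.O R hq := by
  haveI := D.O_isCyclic R hq Ln hz
  obtain ⟨g₀, hg₀⟩ := IsCyclic.exists_ofOrder_eq_natCard (α := ↥(D.O R hq))
  rw [D.card_O R hq Ln hz] at hg₀
  have hk0 : (q + 1) / 4 ≠ 0 := by
    obtain ⟨k, hk4, hkodd, hk7⟩ := hq.exists_k
    omega
  set oi : G := ((g₀ ^ ((q + 1) / 4 / orderOf g) : ↥(D.O R hq)) : G) with hoi
  have hoio : orderOf oi = orderOf g := by
    rw [hoi, Subgroup.orderOf_coe]
    have h1 := orderOf_pow_orderOf_div (x := g₀) (n := orderOf g) (by rw [hg₀]; exact hk0)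
      (by rw [hg₀]; exact hg)
    rw [hg₀] at h1
    exact h1
  have hoiO : oi ∈ D.O R hq := (g₀ ^ ((q + 1) / 4 / orderOf g) : ↥(D.O R hq)).2
  obtain ⟨h, hh⟩ := R.toral_conj hq Ln hz (orderOf g) (Or.inr (Or.inl hg))
    (Subgroup.zpowers g) (Subgroup.zpowers oi) inferInstance inferInstance
    (Nat.card_zpowers g) (by rw [Nat.card_zpowers, hoio])
  refine ⟨h⁻¹, ?_⟩
  have h1 : h * g * h⁻¹ ∈ Subgroup.zpowers oi := by
    rw [hh, mem_conj_iff]
    have : h⁻¹ * (h * g * h⁻¹) * h = g := by group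
    rw [this]
    exact Subgroup.mem_zpowers g
  rw [inv_inv]
  exact (Subgroup.zpowers_le.2 hoiO) h1

end A1Data

section general

variable {G : Type*} [Group G] [Finite G]

/-- in a cyclic subgroup whose fusion is controlled by its normaliser, the non-trivial subgroups
have the same normaliser -/
theorem normalizer_eq_of_control {O A₀ : Subgroup G} (hO : IsCyclic O) (h₀ : A₀ ≤ O)
    (hne : A₀ ≠ ⊥)
    (hctl : ∀ o ∈ O, o ≠ 1 → ∀ h : G, h⁻¹ * o * h ∈ O → h ∈ Subgroup.normalizer (O : Set G)) :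
    Subgroup.normalizer (A₀ : Set G) = Subgroup.normalizer (O : Set G) := by
  haveI := hO
  apply le_antisymm
  · intro g hg
    obtain ⟨⟨a, ha⟩, ha1'⟩ := (Subgroup.ne_bot_iff_exists_ne_one).1 hne
    have ha1 : a ≠ 1 := fun h1 => ha1' (Subtype.ext h1)
    have h1 : g * a * g⁻¹ ∈ A₀ := (Subgroup.mem_normalizer_iff.1 hg a).1 ha
    have h2 := hctl a (h₀ ha) ha1 g⁻¹ (by rw [inv_inv]; exact h₀ h1)
    have := inv_mem h2
    rwa [inv_inv] at this
  · have key : ∀ g : G, g ∈ Subgroup.normalizer (O : Set G) → ∀ u ∈ A₀, g * u * g⁻¹ ∈ A₀ := by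
      intro g hg u hu
      set A₁ := A₀.map (MulAut.conj g).toMonoidHom with hA₁
      have hA₁O : A₁ ≤ O := by
        intro z hz
        rw [hA₁, mem_conj_iff] at hz
        have := (Subgroup.mem_normalizer_iff.1 hg _).1 (h₀ hz)
        have e : g * (g⁻¹ * z * g) * g⁻¹ = z := by group
        rwa [e] at this
      have hcard : Nat.card A₁ = Nat.card A₀ := by
        rw [hA₁, Subgroup.card_map_of_injective (MulAut.conj g).injective]
      have hsub : A₁.subgroupOf O = A₀.subgroupOf O := by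
        apply subgroup_eq_of_card_eq_of_isCyclic
        rw [Nat.card_congr (Subgroup.subgroupOfEquivOfLe hA₁O).toEquiv,
          Nat.card_congr (Subgroup.subgroupOfEquivOfLe h₀).toEquiv, hcard]
      have hm : g * u * g⁻¹ ∈ A₁ := by
        rw [hA₁, mem_conj_iff]
        have e : g⁻¹ * (g * u * g⁻¹) * g = u := by group
        rw [e]
        exact hu
      have : (⟨g * u * g⁻¹, hA₁O hm⟩ : ↥O) ∈ A₁.subgroupOf O := Subgroup.mem_subgroupOf.2 hm
      rw [hsub] at this
      exact Subgroup.mem_subgroupOf.1 this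
    intro g hg
    apply mem_normalizer_of_forall
    · exact key g hg
    · intro u hu
      have := key g⁻¹ (inv_mem hg) u hu
      rwa [inv_inv] at this

end general

end Cfsg.Agent.Helper2.Ree
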