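import Mathlib
import Cfsg.Agent.Lib.Helper2.Ree12

/-!
# Small Ree groups: counting the elements of the tori of order `(q + 1) / 4` and `(q + 1) / 2`
-/

set_option autoImplicit false
set_option linter.unusedSectionVars false
set_option linter.unusedVariables false
set_option linter.style.haveILetI false

namespace Cfsg.Agent.Helper2.Ree

section general

variable {G : Type*} [Group G] [Finite G]

/-- elements of order `2 i`, `i` odd, correspond to pairs of an element of order `i` and an
involution commuting with it -/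
theorem card_two_mul_order (S : Set ℕ) (hS : ∀ i ∈ S, i % 2 = 1) {c : ℕ}
    (hc : ∀ o : G, orderOf o ∈ S → Nat.card {t' : G // orderOf t' = 2 ∧ t' * o = o * t'} = c) :
    Nat.card {g : G // ∃ i ∈ S, orderOf g = 2 * i} = c * Nat.card {o : G // orderOf o ∈ S} := by
  classical
  haveI : Fintype G := Fintype.ofFinite G
  rw [Nat.card_eq_fintype_card, Nat.card_eq_fintype_card, Fintype.card_subtype,
    Fintype.card_subtype]
  set sT := Finset.univ.filter (fun g : G => ∃ i ∈ S, orderOf g = 2 * i) with hsT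
  set sU := Finset.univ.filter (fun o : G => orderOf o ∈ S) with hsU
  let f : G → G := fun g => g ^ (orderOf g / 2 + 1)
  -- basic facts on an element of order `2 i`
  have fact : ∀ g : G, ∀ i ∈ S, orderOf g = 2 * i →
      orderOf (g ^ (i + 1)) = i ∧ orderOf (g ^ i) = 2 ∧ g ^ i * g ^ (i + 1) = g := by
    intro g i hi hg
    have hi1 := hS i hi
    have hpos : 0 < i := by omega
    refine ⟨?_, ?_, ?_⟩
    · rw [orderOf_pow' g (by omega), hg]
      have : Nat.gcd (2 * i) (i + 1) = 2 := by
        obtain ⟨m, hm⟩ : ∃ m, i = 2 * m + 1 := ⟨i / 2, by omega⟩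
        subst hm
        have e1 : 2 * (2 * m + 1) = 2 * (2 * m + 1) := rfl
        have e2 : 2 * m + 1 + 1 = 2 * (m + 1) := by ring
        rw [e2, Nat.gcd_mul_left]
        have : Nat.gcd (2 * m + 1) (m + 1) = 1 := by
          have h1 := Nat.gcd_dvd_left (2 * m + 1) (m + 1)
          have h2 := Nat.gcd_dvd_right (2 * m + 1) (m + 1)
          have h3 := Nat.dvd_sub (Dvd.dvd.mul_left h2 2) h1
          have h4 : 2 * (m + 1) - (2 * m + 1) = 1 := by omega
          rw [h4] at h3
          exact Nat.dvd_one.1 h3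
        rw [this]
      rw [this]
      omega
    · have := orderOf_pow_orderOf_div (x := g) (n := 2) (by rw [hg]; omega) (by rw [hg]; exact dvd_mul_right 2 i)
      rw [hg] at this
      have e : 2 * i / 2 = i := by omega
      rwa [e] at this
    · rw [← pow_add]
      have : i + (i + 1) = 2 * i + 1 := by ring
      rw [this, pow_succ, ← hg, pow_orderOf_eq_one, one_mul]
  have hmap : ∀ g ∈ sT, f g ∈ sU := by
    intro g hg
    rw [hsT, Finset.mem_filter] at hg
    obtain ⟨-, i, hi, hgi⟩ := hg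
    rw [hsU, Finset.mem_filter]
    refine ⟨Finset.mem_univ _, ?_⟩
    show orderOf (g ^ (orderOf g / 2 + 1)) ∈ S
    have e : orderOf g / 2 = i := by omega
    rw [e, (fact g i hi hgi).1]
    exact hi
  rw [Finset.card_eq_sum_card_fiberwise hmap]
  have hfib : ∀ o ∈ sU, (sT.filter (fun g => f g = o)).card = c := by
    intro o ho
    rw [hsU, Finset.mem_filter] at ho
    have hoS := ho.2
    have ho1 := hS _ hoS
    rw [← hc o hoS, Nat.card_eq_fintype_card, Fintype.card_subtype]
    apply Finset.card_bij (fun g _ => g ^ (orderOf g / 2))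
    · intro g hg
      rw [Finset.mem_filter, hsT, Finset.mem_filter] at hg
      obtain ⟨⟨-, i, hi, hgi⟩, hfg⟩ := hg
      have e : orderOf g / 2 = i := by omega
      rw [Finset.mem_filter]
      refine ⟨Finset.mem_univ _, ?_, ?_⟩
      · rw [e]
        exact (fact g i hi hgi).2.1
      · rw [← hfg]
        show g ^ (orderOf g / 2) * g ^ (orderOf g / 2 + 1) = g ^ (orderOf g / 2 + 1) * g ^ (orderOf g / 2)
        rw [← pow_add, ← pow_add, add_comm]
    · intro g hg g' hg' hgg
      rw [Finset.mem_filter, hsT, Finset.mem_filter] at hg hg'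
      obtain ⟨⟨-, i, hi, hgi⟩, hfg⟩ := hg
      obtain ⟨⟨-, i', hi', hgi'⟩, hfg'⟩ := hg'
      have e : orderOf g / 2 = i := by omega
      have e' : orderOf g' / 2 = i' := by omega
      have h1 := (fact g i hi hgi).2.2
      have h2 := (fact g' i' hi' hgi').2.2
      have h3 : g ^ (i + 1) = o := by rw [← hfg]; show _ = g ^ (orderOf g / 2 + 1); rw [e]
      have h4 : g' ^ (i' + 1) = o := by rw [← hfg']; show _ = g' ^ (orderOf g' / 2 + 1); rw [e']
      simp only [e, e'] at hgg
      rw [← h1, ← h2, h3, h4, hgg]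
    · intro t' ht'
      rw [Finset.mem_filter] at ht'
      obtain ⟨-, ht2, htc⟩ := ht'
      set i := orderOf o with hi
      have hcop : Nat.Coprime (orderOf t') (orderOf o) := by
        rw [ht2, ← hi]
        exact (Nat.coprime_two_left).2 (Nat.odd_iff.2 ho1)
      have hcomm : Commute t' o := htc
      have hord : orderOf (t' * o) = 2 * i := by
        rw [hcomm.orderOf_mul_eq_mul_orderOf_of_coprime hcop, ht2]
      have hf := fact (t' * o) i hoS hord
      have e : orderOf (t' * o) / 2 = i := by omega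
      have ht'2 : t' ^ 2 = 1 := by rw [← ht2, pow_orderOf_eq_one]
      have hoi : o ^ i = 1 := by rw [hi, pow_orderOf_eq_one]
      obtain ⟨m, hm⟩ : ∃ m, i = 2 * m + 1 := ⟨i / 2, by omega⟩
      have hp1 : (t' * o) ^ (i + 1) = o := by
        rw [hcomm.mul_pow, pow_succ o, hoi, one_mul]
        have : i + 1 = 2 * (m + 1) := by omega
        rw [this, pow_mul, ht'2, one_pow, one_mul]
      have hp2 : (t' * o) ^ i = t' := by
        rw [hcomm.mul_pow, hoi, mul_one, hm, pow_succ, pow_mul, ht'2, one_pow, one_mul]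
      refine ⟨t' * o, ?_, ?_⟩
      · rw [Finset.mem_filter, hsT, Finset.mem_filter]
        refine ⟨⟨Finset.mem_univ _, i, hoS, hord⟩, ?_⟩
        show (t' * o) ^ (orderOf (t' * o) / 2 + 1) = o
        rw [e, hp1]
      · show (t' * o) ^ (orderOf (t' * o) / 2) = t'
        rw [e, hp2]
  rw [Finset.sum_congr rfl hfib, Finset.sum_const, smul_eq_mul, mul_comm]

end general

namespace ReeData

variable {G : Type*} [Group G] [Finite G] {P : Type*} [Group P] {q r : ℕ}
  (R : ReeData G P q) (hq : QData q r) (Ln : ReeLin G q)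
  (hz : ∃ z : G, orderOf z = (q + 1) / 2)
include R hq Ln hz

/-- counting the elements conjugate into the torus of order `(q + 1) / 4` -/
theorem count_O (S : Set ℕ) (hS : ∀ i ∈ S, 1 < i ∧ i ∣ (q + 1) / 4) :
    ∃ O : Subgroup G, IsCyclic O ∧ Nat.card O = (q + 1) / 4 ∧
      Nat.card {g : G // orderOf g ∈ S} * (6 * (q + 1)) =
        Nat.card G * Nat.card {o : G // o ∈ O ∧ orderOf o ∈ S} := by
  obtain ⟨t, j, y, L, x, p, D⟩ := R.exists_a1Data hq
  refine ⟨D.O R hq, D.O_isCyclic R hq Ln hz, D.card_O R hq Ln hz, ?_⟩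
  have h := conj_count_order (D.O R hq) S (by
    intro a ha haS h hc
    apply D.O_control R hq ha _ hc
    rintro rfl
    rw [orderOf_one] at haS
    have := (hS 1 haS).1
    omega)
  rw [D.card_normalizer_O R hq Ln hz] at h
  rw [← h]
  congr 1
  apply Nat.card_congr
  apply Equiv.subtypeEquivRight
  intro g
  constructor
  · intro hg
    exact ⟨hg, D.exists_conj_mem_O R hq Ln hz (hS _ hg).2⟩
  · exact fun hg => hg.1

/-- **the number of elements of order `i > 1` dividing `(q + 1) / 4`** -/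
theorem card_order_A1 {i : ℕ} (hi : 1 < i) (hd : i ∣ (q + 1) / 4) :
    6 * Nat.card {g : G // orderOf g = i} =
      Nat.totient i * q ^ 3 * (q - 1) * (q * q - q + 1) := by
  obtain ⟨O, hO, hOc, h⟩ := R.count_O hq Ln hz ({i} : Set ℕ) (by
    intro j hj
    rw [Set.mem_singleton_iff] at hj
    subst hj
    exact ⟨hi, hd⟩)
  have e1 : Nat.card {g : G // orderOf g ∈ ({i} : Set ℕ)} = Nat.card {g : G // orderOf g = i} := rfl
  have e2 : Nat.card {h : G // h ∈ O ∧ orderOf h ∈ ({i} : Set ℕ)} = Nat.totient i :=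
    card_orderOf_of_isCyclic hO (by rw [hOc]; exact hd)
  rw [e1, e2, R.card_G, hq.card_fac] at h
  have hpos : 0 < q + 1 := Nat.succ_pos q
  apply Nat.eq_of_mul_eq_mul_right hpos
  calc 6 * Nat.card {g : G // orderOf g = i} * (q + 1)
      = Nat.card {g : G // orderOf g = i} * (6 * (q + 1)) := by ring
    _ = q ^ 3 * (q - 1) * ((q + 1) * (q * q - q + 1)) * Nat.totient i := h
    _ = Nat.totient i * q ^ 3 * (q - 1) * (q * q - q + 1) * (q + 1) := by ring

/-- the number of involutions commuting with an element of order dividing `(q + 1) / 4` -/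
theorem card_invol_cent {o : G} (ho1 : 1 < orderOf o) (hok : orderOf o ∣ (q + 1) / 4) :
    Nat.card {t' : G // orderOf t' = 2 ∧ t' * o = o * t'} = 3 := by
  obtain ⟨t, j, y, L, x, p, D⟩ := R.exists_a1Data hq
  obtain ⟨h, hh⟩ := D.exists_conj_mem_O R hq Ln hz hok
  have ho₁1 : h⁻¹ * o * h ≠ 1 := by
    intro h1
    have : orderOf (h⁻¹ * o * h) = 1 := by rw [h1, orderOf_one]
    rw [orderOf_conj'] at this
    omega
  rw [← (D.card_O_and_invol R hq Ln hz).2]
  apply Nat.card_congr
  refine ⟨fun t' => ⟨h⁻¹ * t'.1 * h, by rw [orderOf_conj']; exact t'.2.1,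
      (D.cent_of_mem_O R hq hh ho₁1).1 (conj_comm h t'.2.2)⟩,
    fun t'' => ⟨h * t''.1 * h⁻¹, by
      have : h * t''.1 * h⁻¹ = (h⁻¹)⁻¹ * t''.1 * h⁻¹ := by rw [inv_inv]
      rw [this, orderOf_conj']
      exact t''.2.1,
      conj_comm' h ((D.cent_of_mem_O R hq hh ho₁1).2 t''.2.2)⟩, ?_, ?_⟩
  · intro t'
    apply Subtype.ext
    show h * (h⁻¹ * t'.1 * h) * h⁻¹ = t'.1
    group
  · intro t''
    apply Subtype.ext
    show h⁻¹ * (h * t''.1 * h⁻¹) * h = t''.1
    group

/-- elements of order `2 i` against elements of order `i`, for `i` dividing `(q + 1) / 4` -/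
theorem card_two_mul_A1 (S : Set ℕ) (hS : ∀ i ∈ S, 1 < i ∧ i ∣ (q + 1) / 4) :
    Nat.card {g : G // ∃ i ∈ S, orderOf g = 2 * i} = 3 * Nat.card {o : G // orderOf o ∈ S} := by
  obtain ⟨k, hk4, hkodd, hk7⟩ := hq.exists_k
  have hkk : (q + 1) / 4 = k := by omega
  apply card_two_mul_order S
  · intro i hi
    obtain ⟨m, hm⟩ := (hS i hi).2
    rw [hkk] at hm
    by_contra hc
    have : i % 2 = 0 := by omega
    obtain ⟨e, he⟩ := Nat.dvd_of_mod_eq_zero this
    rw [hm, he] at hkodd
    have : 2 * e * m = 2 * (e * m) := by ring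
    rw [this] at hkodd
    omega
  · intro o ho
    exact R.card_invol_cent hq Ln hz (hS _ ho).1 (hS _ ho).2

/-- **the number of elements of order `2 i`, for `i > 1` dividing `(q + 1) / 4`** -/
theorem card_order_two_A1 {i : ℕ} (hi : 1 < i) (hd : i ∣ (q + 1) / 4) :
    2 * Nat.card {g : G // orderOf g = 2 * i} =
      Nat.totient i * q ^ 3 * (q - 1) * (q * q - q + 1) := by
  have h := R.card_two_mul_A1 hq Ln hz ({i} : Set ℕ) (by
    intro j hj
    rw [Set.mem_singleton_iff] at hj
    subst hj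
    exact ⟨hi, hd⟩)
  have e1 : Nat.card {g : G // ∃ j ∈ ({i} : Set ℕ), orderOf g = 2 * j} =
      Nat.card {g : G // orderOf g = 2 * i} := by
    apply Nat.card_congr
    apply Equiv.subtypeEquivRight
    intro g
    constructor
    · rintro ⟨j, hj, hg⟩
      rw [Set.mem_singleton_iff] at hj
      rw [hg, hj]
    · intro hg
      exact ⟨i, rfl, hg⟩
  have e2 : Nat.card {o : G // orderOf o ∈ ({i} : Set ℕ)} = Nat.card {g : G // orderOf g = i} := rfl
  rw [e1, e2] at h
  rw [h, ← R.card_order_A1 hq Ln hz hi hd]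
  ring

/-- **the number of elements of order larger than `1` dividing `(q + 1) / 4`** -/
theorem card_type_A1 :
    6 * Nat.card {g : G // orderOf g ∈ {i : ℕ | 1 < i ∧ i ∣ (q + 1) / 4}} =
      ((q + 1) / 4 - 1) * q ^ 3 * (q - 1) * (q * q - q + 1) := by
  obtain ⟨O, hO, hOc, h⟩ := R.count_O hq Ln hz {i : ℕ | 1 < i ∧ i ∣ (q + 1) / 4} (fun i hi => hi)
  have e2 : Nat.card {o : G // o ∈ O ∧ orderOf o ∈ {i : ℕ | 1 < i ∧ i ∣ (q + 1) / 4}} =
      (q + 1) / 4 - 1 := by
    rw [← hOc, ← TICount.card_ne_one]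
    apply Nat.card_congr
    refine ⟨fun o => ⟨⟨o.1, o.2.1⟩, ?_⟩, fun a => ⟨a.1.1, a.1.2, ?_, ?_⟩, fun o => rfl, fun a => rfl⟩
    · intro h1
      have h2 : o.1 = 1 := congrArg Subtype.val h1
      have := o.2.2.1
      rw [h2, orderOf_one] at this
      omega
    · have hpos := orderOf_pos a.1.1
      have hne : orderOf a.1.1 ≠ 1 := by
        intro h1
        apply a.2
        apply Subtype.ext
        exact orderOf_eq_one_iff.1 h1
      omega
    · exact Subgroup.orderOf_dvd_natCard O a.1.2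
  rw [e2, R.card_G, hq.card_fac] at h
  have hpos : 0 < q + 1 := Nat.succ_pos q
  apply Nat.eq_of_mul_eq_mul_right hpos
  calc 6 * Nat.card {g : G // orderOf g ∈ {i : ℕ | 1 < i ∧ i ∣ (q + 1) / 4}} * (q + 1)
      = Nat.card {g : G // orderOf g ∈ {i : ℕ | 1 < i ∧ i ∣ (q + 1) / 4}} * (6 * (q + 1)) := by
        ring
    _ = q ^ 3 * (q - 1) * ((q + 1) * (q * q - q + 1)) * ((q + 1) / 4 - 1) := h
    _ = ((q + 1) / 4 - 1) * q ^ 3 * (q - 1) * (q * q - q + 1) * (q + 1) := by ring

end ReeData

end Cfsg.Agent.Helper2.Ree
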