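import Mathlib
import Cfsg.Agent.Lib.Helper2.Ree13

/-!
# Small Ree groups: the orders of the elements
-/

set_option autoImplicit false
set_option linter.unusedSectionVars false
set_option linter.unusedVariables false
set_option linter.style.haveILetI false

namespace Cfsg.Agent.Helper2.Ree

theorem two_three_cases {n : ℕ} (hn : 0 < n) (h3 : 3 ∣ n)
    (hp : ∀ p : ℕ, p.Prime → p ∣ n → p = 2 ∨ p = 3) (h4 : ¬ 4 ∣ n) (h27 : ¬ 27 ∣ n) :
    n = 3 ∨ n = 9 ∨ n = 6 ∨ n = 18 := by
  obtain ⟨a, m, hm, rfl⟩ := Nat.exists_eq_two_pow_mul_odd hn.ne'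
  have ha : a ≤ 1 := by
    by_contra hc
    push Not at hc
    apply h4
    have : (4 : ℕ) = 2 ^ 2 := by norm_num
    rw [this]
    exact Dvd.dvd.mul_right (pow_dvd_pow 2 hc) m
  have hm0 : m ≠ 0 := by
    rintro rfl
    simp at hn
  have hmp : ∀ {d : ℕ}, d.Prime → d ∣ m → d = 3 := by
    intro d hd hdm
    rcases hp d hd (Dvd.dvd.mul_left hdm _) with h | h
    · exfalso
      subst h
      obtain ⟨e, he⟩ := hm
      omega
    · exact h
  have hm3 := Nat.eq_prime_pow_of_unique_prime_dvd hm0 hmp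
  set b := m.primeFactorsList.length with hb
  have hb2 : b ≤ 2 := by
    by_contra hc
    push Not at hc
    apply h27
    have : (27 : ℕ) = 3 ^ 3 := by norm_num
    rw [this, hm3]
    exact Dvd.dvd.mul_left (pow_dvd_pow 3 hc) _
  have hb1 : 1 ≤ b := by
    by_contra hc
    have hb0 : b = 0 := by omega
    rw [hm3, hb0, pow_zero, mul_one] at h3
    have := (Nat.Prime.dvd_of_dvd_pow Nat.prime_three h3)
    omega
  rw [hm3]
  interval_cases a <;> interval_cases b <;> simp

namespace QData

variable {q r : ℕ} (h : QData q r)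
include h

theorem cop_D {X : ℕ} (hX : ∀ ℓ : ℕ, ℓ.Prime → ℓ ∣ q * q - q + 1 → ¬ ℓ ∣ X) :
    Nat.Coprime (q * q - q + 1) X :=
  Nat.coprime_of_dvd (fun ℓ hℓ h1 h2 => hX ℓ hℓ h1 h2)

theorem cop_D_pred : Nat.Coprime (q * q - q + 1) (q - 1) :=
  h.cop_D fun ℓ hℓ hD => (h.D_coprime hℓ hD).2.1

theorem cop_D_succ : Nat.Coprime (q * q - q + 1) (q + 1) :=
  h.cop_D fun ℓ hℓ hD => (h.D_coprime hℓ hD).2.2.1

theorem cop_D_q : Nat.Coprime (q * q - q + 1) q :=
  h.cop_D fun ℓ hℓ hD => (h.D_coprime hℓ hD).1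

theorem cop_D_two : Nat.Coprime (q * q - q + 1) 2 :=
  h.cop_D fun ℓ hℓ hD h2 =>
    (h.D_coprime hℓ hD).2.2.2.1 ((Nat.prime_dvd_prime_iff_eq hℓ Nat.prime_two).1 h2)

theorem cop_D_three : Nat.Coprime (q * q - q + 1) 3 :=
  h.cop_D fun ℓ hℓ hD h2 =>
    (h.D_coprime hℓ hD).2.2.2.2 ((Nat.prime_dvd_prime_iff_eq hℓ Nat.prime_three).1 h2)

theorem cop_D_k : Nat.Coprime (q * q - q + 1) ((q + 1) / 4) := by
  apply Nat.Coprime.coprime_dvd_right _ h.cop_D_succ
  obtain ⟨k, hk4, -, -⟩ := h.exists_k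
  have : (q + 1) / 4 = k := by omega
  rw [this, hk4]
  exact dvd_mul_left k 4

theorem cop_k_pred : Nat.Coprime ((q + 1) / 4) (q - 1) :=
  Nat.Coprime.coprime_dvd_right (dvd_mul_left _ _) h.coprime_k

theorem cop_k_two : Nat.Coprime ((q + 1) / 4) 2 :=
  Nat.Coprime.coprime_dvd_right (Dvd.dvd.mul_right (dvd_mul_right 2 3) _) h.coprime_k

theorem cop_k_three : Nat.Coprime ((q + 1) / 4) 3 :=
  Nat.Coprime.coprime_dvd_right (Dvd.dvd.mul_right (dvd_mul_left 3 2) _) h.coprime_k

/-- `q² - q + 1` is prime to the other factors of the group order -/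
theorem cop_D_rest : Nat.Coprime (q * q - q + 1) (q ^ 3 * (q - 1) * (q + 1)) :=
  Nat.Coprime.mul_right (Nat.Coprime.mul_right (Nat.Coprime.pow_right 3 h.cop_D_q) h.cop_D_pred)
    h.cop_D_succ

end QData

namespace ReeData

variable {G : Type*} [Group G] [Finite G] {P : Type*} [Group P] {q r : ℕ}
  (R : ReeData G P q) (hq : QData q r)
include R hq

/-- the prime divisors of the group order -/
theorem prime_cases {p : ℕ} (hp : p.Prime) (hpG : p ∣ Nat.card G) :
    p = 2 ∨ p = 3 ∨ p ∣ (q - 1) / 2 ∨ p ∣ (q + 1) / 4 ∨ p ∣ q * q - q + 1 := by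
  obtain ⟨k, hk4, hkodd, hk7⟩ := hq.exists_k
  obtain ⟨c, hc2, hcodd, hc13⟩ := hq.exists_h
  have hkk : (q + 1) / 4 = k := by omega
  have hcc : (q - 1) / 2 = c := by omega
  rw [R.card_G, hq.card_fac] at hpG
  rcases (Nat.Prime.dvd_mul hp).1 hpG with h | h
  · rcases (Nat.Prime.dvd_mul hp).1 h with h' | h'
    · right; left
      exact hq.pow3 p hp (hp.dvd_of_dvd_pow h')
    · rw [hc2] at h'
      rcases (Nat.Prime.dvd_mul hp).1 h' with h2 | h2
      · left
        exact (Nat.prime_dvd_prime_iff_eq hp Nat.prime_two).1 h2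
      · right; right; left
        rw [hcc]
        exact h2
  · rcases (Nat.Prime.dvd_mul hp).1 h with h' | h'
    · rw [hk4] at h'
      rcases (Nat.Prime.dvd_mul hp).1 h' with h2 | h2
      · left
        have h22 : (4 : ℕ) = 2 ^ 2 := by norm_num
        rw [h22] at h2
        exact (Nat.prime_dvd_prime_iff_eq hp Nat.prime_two).1 (hp.dvd_of_dvd_pow h2)
      · right; right; right; left
        rw [hkk]
        exact h2
    · right; right; right; right
      exact h'

/-- the order of the centraliser of an involution -/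
theorem card_cent_invol {t' : G} (ht' : orderOf t' = 2) :
    Nat.card (Subgroup.centralizer ({t'} : Set G)) = q * (q - 1) * (q + 1) := by
  obtain ⟨c, hc⟩ := R.invol_conj ht' R.a_ord
  have h1 := card_centralizer_conj c⁻¹ t'
  rw [inv_inv, hc] at h1
  rw [← h1, R.card_cent_a]

omit hq in
/-- elements of odd order of the centraliser of `a` have the order of an element of
`PSL₂(q)` -/
theorem psl_order_of_cent {w : G} (hw : w * R.a = R.a * w) (hodd : Odd (orderOf w)) :
    ∃ p' : P, orderOf p' = orderOf w := by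
  have hwC : w ∈ Subgroup.centralizer ({R.a} : Set G) :=
    Subgroup.mem_centralizer_singleton_iff.2 hw
  refine ⟨(R.cent_a ⟨w, hwC⟩).2, ?_⟩
  have h1 : orderOf (R.cent_a ⟨w, hwC⟩) = orderOf w := by
    rw [MulEquiv.orderOf_eq, Subgroup.orderOf_mk]
  rw [Prod.orderOf] at h1
  have h2 : orderOf (R.cent_a ⟨w, hwC⟩).1 ∣ orderOf w := by
    rw [← h1]
    exact Nat.dvd_lcm_left _ _
  have h3 : orderOf (R.cent_a ⟨w, hwC⟩).1 = 1 := by
    rcases zmod2_cases' (R.cent_a ⟨w, hwC⟩).1 with h | h
    · rw [h, orderOf_one]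
    · exfalso
      rw [h, orderOf_ofAdd_one] at h2
      obtain ⟨m, hm⟩ := hodd
      omega
  rw [h3, Nat.lcm_one_left] at h1
  exact h1

/-- the order of the centraliser of an element of prime order dividing `q² - q + 1` divides
`q² - q + 1` -/
theorem card_cent_dvd_D {x' : G} {ℓ : ℕ} (hℓ : ℓ.Prime) (hx' : orderOf x' = ℓ)
    (hD : ℓ ∣ q * q - q + 1) :
    Nat.card (Subgroup.centralizer ({x'} : Set G)) ∣ q * q - q + 1 := by
  obtain ⟨hD1, hD2, hD3, hD4, hD5⟩ := hq.D_coprime hℓ hD
  have key : ∀ p' : ℕ, p'.Prime → p' ∣ Nat.card (Subgroup.centralizer ({x'} : Set G)) →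
      p' ∣ q * q - q + 1 := by
    intro p' hp' hp'd
    haveI : Fact p'.Prime := ⟨hp'⟩
    obtain ⟨y₀, hy₀⟩ := exists_prime_orderOf_dvd_card'
      (G := ↥(Subgroup.centralizer ({x'} : Set G))) p' hp'd
    set y' : G := (y₀ : G) with hy'
    have hy'o : orderOf y' = p' := by rw [hy', Subgroup.orderOf_coe]; exact hy₀
    have hcomm : y' * x' = x' * y' := Subgroup.mem_centralizer_singleton_iff.1 y₀.2
    have hx'C : x' ∈ Subgroup.centralizer ({y'} : Set G) :=
      Subgroup.mem_centralizer_singleton_iff.2 hcomm.symm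
    have hℓC : ℓ ∣ Nat.card (Subgroup.centralizer ({y'} : Set G)) := by
      rw [← hx']
      exact Subgroup.orderOf_dvd_natCard _ hx'C
    have hp'G : p' ∣ Nat.card G :=
      hp'd.trans (Subgroup.card_subgroup_dvd_card _)
    rcases R.prime_cases hq hp' hp'G with h | h | h | h | h
    · exfalso
      rw [R.card_cent_invol hq (by rw [hy'o, h])] at hℓC
      rcases (Nat.Prime.dvd_mul hℓ).1 hℓC with h1 | h1
      · rcases (Nat.Prime.dvd_mul hℓ).1 h1 with h2 | h2
        · exact hD1 h2
        · exact hD2 h2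
      · exact hD3 h1
    · exfalso
      obtain ⟨g₀, hg₀⟩ := R.cent_three hq (by rw [hy'o, h]) hcomm.symm
      have h1 := orderOf_dvd_of_conj_mem R.B hg₀
      rw [hx', R.card_B hq] at h1
      rcases (Nat.Prime.dvd_mul hℓ).1 h1 with h2 | h2
      · exact hD1 (hℓ.dvd_of_dvd_pow h2)
      · exact hD2 h2
    · exfalso
      obtain ⟨g₁, hg₁⟩ := R.cent_prime_h hq hp' hy'o h
      rw [hg₁, Subgroup.card_map_of_injective (MulAut.conj g₁).injective, R.card_H] at hℓC
      exact hD2 hℓC
    · exfalso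
      rw [(R.cent_prime_k hq hp' hy'o h).2] at hℓC
      exact hD3 hℓC
    · exact h
  have hcop : Nat.Coprime (Nat.card (Subgroup.centralizer ({x'} : Set G)))
      (q ^ 3 * (q - 1) * (q + 1)) := by
    apply Nat.coprime_of_dvd
    intro p' hp' h1 h2
    have h3 := key p' hp' h1
    exact hp'.one_lt.ne' (Nat.eq_one_of_dvd_coprimes hq.cop_D_rest h3 h2)
  have hdvd : Nat.card (Subgroup.centralizer ({x'} : Set G)) ∣
      q ^ 3 * (q - 1) * (q + 1) * (q * q - q + 1) := by
    have := Subgroup.card_subgroup_dvd_card (Subgroup.centralizer ({x'} : Set G))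
    rw [R.card_G, hq.card_fac] at this
    have e : q ^ 3 * (q - 1) * ((q + 1) * (q * q - q + 1)) =
        q ^ 3 * (q - 1) * (q + 1) * (q * q - q + 1) := by ring
    rwa [e] at this
  exact hcop.dvd_of_dvd_mul_left hdvd

/-- **the possible orders of the elements** -/
theorem order_cases (M : ReeMore R) (g : G) :
    orderOf g = 1 ∨ orderOf g = 2 ∨ orderOf g = 3 ∨ orderOf g = 9 ∨ orderOf g = 6 ∨
    (2 < orderOf g ∧ orderOf g ∣ q - 1) ∨
    (1 < orderOf g ∧ orderOf g ∣ (q + 1) / 4) ∨
    (∃ i, (1 < i ∧ i ∣ (q + 1) / 4) ∧ orderOf g = 2 * i) ∨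
    (1 < orderOf g ∧ orderOf g ∣ q * q - q + 1) := by
  obtain ⟨k, hk4, hkodd, hk7⟩ := hq.exists_k
  obtain ⟨c, hc2, hcodd, hc13⟩ := hq.exists_h
  have hkk : (q + 1) / 4 = k := by omega
  have hcc : (q - 1) / 2 = c := by omega
  have hk2 : (q + 1) / 2 = 2 * k := by omega
  set n := orderOf g with hn
  have hn0 : 0 < n := orderOf_pos g
  have pw : ∀ d : ℕ, d ∣ n → orderOf (g ^ (n / d)) = d := fun d hd =>
    orderOf_pow_orderOf_div hn0.ne' hd
  have hcomm : ∀ a b : ℕ, g ^ a * g ^ b = g ^ b * g ^ a := fun a b => by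
    rw [← pow_add, ← pow_add, add_comm]
  have h4 : ¬ 4 ∣ n := fun h => R.no_order_four (g ^ (n / 4)) (pw 4 h)
  have h3q1 : ¬ 3 ∣ q - 1 := hq.not_three_dvd_pred
  have h3q2 : ¬ 3 ∣ q + 1 := hq.not_three_dvd_succ
  -- transport to `PSL₂(q)` of an element of odd order commuting with an involution
  have transport : ∀ t' w : G, orderOf t' = 2 → w * t' = t' * w → Odd (orderOf w) →
      ∃ p' : P, orderOf p' = orderOf w := by
    intro t' w ht' hwt hodd
    obtain ⟨c₀, hc₀⟩ := R.invol_conj ht' R.a_ord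
    have h1 : (c₀ * w * c₀⁻¹) * R.a = R.a * (c₀ * w * c₀⁻¹) := by
      rw [← hc₀]
      have := conj_comm c₀⁻¹ hwt
      rwa [inv_inv] at this
    have h2 : orderOf (c₀ * w * c₀⁻¹) = orderOf w := by
      have : c₀ * w * c₀⁻¹ = (c₀⁻¹)⁻¹ * w * c₀⁻¹ := by rw [inv_inv]
      rw [this, orderOf_conj']
    obtain ⟨p', hp'⟩ := R.psl_order_of_cent h1 (by rw [h2]; exact hodd)
    exact ⟨p', by rw [hp', h2]⟩
  by_cases h3 : 3 ∣ n
  · -- `3 ∣ n`
    have hs : orderOf (g ^ (n / 3)) = 3 := pw 3 h3
    have hprimes : ∀ p : ℕ, p.Prime → p ∣ n → p = 2 ∨ p = 3 := by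
      intro p hp hpn
      by_contra hne
      push Not at hne
      have hx' : orderOf (g ^ (n / p)) = p := pw p hpn
      obtain ⟨g₀, hg₀⟩ := R.cent_three hq hs (hcomm (n / p) (n / 3))
      have h1 := orderOf_dvd_of_conj_mem R.B hg₀
      rw [hx', R.card_B hq] at h1
      rcases (Nat.Prime.dvd_mul hp).1 h1 with h2 | h2
      · exact hne.2 (hq.pow3 p hp (hp.dvd_of_dvd_pow h2))
      · rw [hc2] at h2
        rcases (Nat.Prime.dvd_mul hp).1 h2 with h5 | h5
        · exact hne.1 ((Nat.prime_dvd_prime_iff_eq hp Nat.prime_two).1 h5)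
        · obtain ⟨g₁, hg₁⟩ := R.cent_prime_h hq hp hx' (by rw [hcc]; exact h5)
          have hsC : g ^ (n / 3) ∈ Subgroup.centralizer ({g ^ (n / p)} : Set G) :=
            Subgroup.mem_centralizer_singleton_iff.2 (hcomm (n / 3) (n / p))
          have := Subgroup.orderOf_dvd_natCard _ hsC
          rw [hs, hg₁, Subgroup.card_map_of_injective (MulAut.conj g₁).injective, R.card_H] at this
          exact h3q1 this
    have h27 : ¬ 27 ∣ n := by
      intro h
      have hv : orderOf (g ^ (n / 27)) = 3 ^ 3 := pw 27 h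
      obtain ⟨h₀, hh₀⟩ := R.exists_conj_mem_U hq hv
      have h9 := M.exp9 _ hh₀
      have hd := orderOf_dvd_of_pow_eq_one h9
      rw [orderOf_conj', hv] at hd
      omega
    rcases two_three_cases hn0 h3 hprimes h4 h27 with h | h | h | h
    · exact Or.inr (Or.inr (Or.inl h))
    · exact Or.inr (Or.inr (Or.inr (Or.inl h)))
    · exact Or.inr (Or.inr (Or.inr (Or.inr (Or.inl h))))
    · exfalso
      have ht' : orderOf (g ^ (n / 2)) = 2 := pw 2 (by rw [h]; norm_num)
      have hw : orderOf (g ^ (n / 9)) = 9 := pw 9 (by rw [h]; norm_num)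
      obtain ⟨p', hp'⟩ := transport _ _ ht' (hcomm (n / 9) (n / 2)) (by rw [hw]; decide)
      rw [hw] at hp'
      rcases M.psl_orders p' with h5 | h5 | h5
      · rw [hp'] at h5
        omega
      · rw [hp', hcc] at h5
        apply h3q1
        rw [hc2]
        exact Dvd.dvd.mul_left ((by norm_num : (3 : ℕ) ∣ 9).trans h5) 2
      · rw [hp', hk2] at h5
        apply h3q2
        rw [hk4]
        have : 4 * k = 2 * (2 * k) := by ring
        rw [this]
        exact Dvd.dvd.mul_left ((by norm_num : (3 : ℕ) ∣ 9).trans h5) 2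
  · by_cases h2 : 2 ∣ n
    · -- `n = 2 j` with `j` odd
      obtain ⟨j, hj⟩ := h2
      have hjodd : j % 2 = 1 := by
        by_contra hc
        apply h4
        have : j % 2 = 0 := by omega
        obtain ⟨e, he⟩ := Nat.dvd_of_mod_eq_zero this
        rw [hj, he]
        exact ⟨e, by ring⟩
      by_cases hj1 : j = 1
      · right; left
        rw [hj, hj1]
      have ht' : orderOf (g ^ (n / 2)) = 2 := pw 2 ⟨j, hj⟩
      have hw : orderOf (g ^ (n / j)) = j := pw j ⟨2, by rw [hj]; ring⟩
      obtain ⟨p', hp'⟩ := transport _ _ ht' (hcomm (n / j) (n / 2))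
        (by rw [hw]; exact Nat.odd_iff.2 hjodd)
      rw [hw] at hp'
      rcases M.psl_orders p' with h5 | h5 | h5
      · exfalso
        rw [hp'] at h5
        rcases (Nat.dvd_prime Nat.prime_three).1 h5 with h6 | h6
        · exact hj1 h6
        · apply h3
          rw [hj, h6]
          exact dvd_mul_left 3 2
      · right; right; right; right; right; left
        rw [hp', hcc] at h5
        refine ⟨by omega, ?_⟩
        rw [hj, hc2]
        exact Nat.mul_dvd_mul_left 2 h5
      · right; right; right; right; right; right; right; left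
        rw [hp', hk2] at h5
        refine ⟨j, ⟨by omega, ?_⟩, hj⟩
        rw [hkk]
        have hcop : Nat.Coprime j 2 := (Nat.coprime_two_right).2 (Nat.odd_iff.2 hjodd)
        exact hcop.dvd_of_dvd_mul_left h5
    · -- `n` prime to `6`
      by_cases hn1 : n = 1
      · exact Or.inl hn1
      obtain ⟨p, hp, hpn⟩ := Nat.exists_prime_and_dvd hn1
      have hx' : orderOf (g ^ (n / p)) = p := pw p hpn
      have hgC : g ∈ Subgroup.centralizer ({g ^ (n / p)} : Set G) := by
        rw [Subgroup.mem_centralizer_singleton_iff]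
        have := hcomm 1 (n / p)
        rwa [pow_one] at this
      have hnC : n ∣ Nat.card (Subgroup.centralizer ({g ^ (n / p)} : Set G)) :=
        Subgroup.orderOf_dvd_natCard _ hgC
      have hpG : p ∣ Nat.card G := by
        rw [← hx']
        exact orderOf_dvd_natCard _
      have hnodd : n % 2 = 1 := by omega
      rcases R.prime_cases hq hp hpG with h | h | h | h | h
      · exfalso
        apply h2
        rw [← h]
        exact hpn
      · exfalso
        apply h3
        rw [← h]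
        exact hpn
      · right; right; right; right; right; left
        obtain ⟨g₁, hg₁⟩ := R.cent_prime_h hq hp hx' h
        rw [hg₁, Subgroup.card_map_of_injective (MulAut.conj g₁).injective, R.card_H] at hnC
        exact ⟨by omega, hnC⟩
      · right; right; right; right; right; right; left
        rw [(R.cent_prime_k hq hp hx' h).2, hk4] at hnC
        refine ⟨by omega, ?_⟩
        rw [hkk]
        have hcop : Nat.Coprime n 4 := by
          have : (4 : ℕ) = 2 ^ 2 := by norm_num
          rw [this]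
          exact Nat.Coprime.pow_right 2 ((Nat.coprime_two_right).2 (Nat.odd_iff.2 hnodd))
        exact hcop.dvd_of_dvd_mul_left hnC
      · right; right; right; right; right; right; right; right
        exact ⟨by omega, hnC.trans (R.card_cent_dvd_D hq hp hx' h)⟩

end ReeData

end Cfsg.Agent.Helper2.Ree
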