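import Mathlib
import Cfsg.Agent.Lib.Helper2.Ree14

/-!
# Small Ree groups: the number of elements of order dividing `q² - q + 1`
-/

set_option autoImplicit false
set_option linter.unusedSectionVars false
set_option linter.unusedVariables false
set_option linter.style.haveILetI false

namespace Cfsg.Agent.Helper2.Ree

/-- counting along a partition given by a code function -/
theorem card_eq_sum_of_code {α : Type*} [Finite α] (n : ℕ) (code : α → ℕ) (P : ℕ → α → Prop)
    (hex : ∀ a, ∃ j, j < n ∧ P j a) (hcode : ∀ a j, j < n → P j a → code a = j) :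
    Nat.card α = ∑ j ∈ Finset.range n, Nat.card {a // P j a} := by
  classical
  haveI : Fintype α := Fintype.ofFinite α
  have hlt : ∀ a, code a < n := by
    intro a
    obtain ⟨j, hj, hP⟩ := hex a
    rw [hcode a j hj hP]
    exact hj
  have h1 : (Finset.univ : Finset α).card =
      ∑ j ∈ Finset.range n, (Finset.univ.filter (fun a => code a = j)).card :=
    Finset.card_eq_sum_card_fiberwise (fun a _ => Finset.mem_range.2 (hlt a))
  rw [Nat.card_eq_fintype_card, ← Finset.card_univ, h1]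
  apply Finset.sum_congr rfl
  intro j hj
  rw [Finset.mem_range] at hj
  rw [Nat.card_eq_fintype_card, Fintype.card_subtype]
  congr 1
  ext a
  simp only [Finset.mem_filter, Finset.mem_univ, true_and]
  constructor
  · intro h
    obtain ⟨j', hj', hP⟩ := hex a
    have := hcode a j' hj' hP
    rw [h] at this
    rw [this]
    exact hP
  · exact hcode a j hj

/-- the classes of element orders -/
def ordSet (q : ℕ) : ℕ → Set ℕ
  | 0 => {1}
  | 1 => {2}
  | 2 => {3}
  | 3 => {9}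
  | 4 => {6}
  | 5 => {i | 2 < i ∧ i ∣ q - 1}
  | 6 => {i | 1 < i ∧ i ∣ (q + 1) / 4}
  | 7 => {n | ∃ i ∈ {i | 1 < i ∧ i ∣ (q + 1) / 4}, n = 2 * i}
  | 8 => {i | 1 < i ∧ i ∣ q * q - q + 1}
  | _ => ∅

/-- the code of a class -/
noncomputable def ordCode (q : ℕ) (n : ℕ) : ℕ := by
  classical
  exact if n = 1 then 0 else if n = 2 then 1 else if n = 3 then 2 else if n = 9 then 3 else
    if n = 6 then 4 else if n ∣ q - 1 then 5 else if n ∣ (q + 1) / 4 then 6 else
    if n ∣ q * q - q + 1 then 8 else 7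

theorem ordCode_eq {q r : ℕ} (hq : QData q r) (n j : ℕ) (hj : j < 9) (h : n ∈ ordSet q j) :
    ordCode q n = j := by
  classical
  obtain ⟨k, hk4, hkodd, hk7⟩ := hq.exists_k
  obtain ⟨c, hc2, hcodd, hc13⟩ := hq.exists_h
  have hkk : (q + 1) / 4 = k := by omega
  have h3q1 : ¬ 3 ∣ q - 1 := hq.not_three_dvd_pred
  have h3k : ¬ 3 ∣ k := by
    intro h3
    have := Nat.eq_one_of_dvd_coprimes hq.cop_k_three (by rw [hkk]; exact h3) (dvd_refl 3)
    omega
  have h2D : ¬ 2 ∣ q * q - q + 1 := by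
    intro h2
    have := Nat.eq_one_of_dvd_coprimes hq.cop_D_two h2 (dvd_refl 2)
    omega
  have h3D : ¬ 3 ∣ q * q - q + 1 := by
    intro h3
    have := Nat.eq_one_of_dvd_coprimes hq.cop_D_three h3 (dvd_refl 3)
    omega
  have hkq : ∀ i : ℕ, i ∣ k → i ∣ q - 1 → i = 1 := fun i h1 h2 =>
    Nat.eq_one_of_dvd_coprimes hq.cop_k_pred (by rw [hkk]; exact h1) h2
  have hDq : ∀ i : ℕ, i ∣ q * q - q + 1 → i ∣ q - 1 → i = 1 := fun i h1 h2 =>
    Nat.eq_one_of_dvd_coprimes hq.cop_D_pred h1 h2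
  have hDk : ∀ i : ℕ, i ∣ q * q - q + 1 → i ∣ k → i = 1 := fun i h1 h2 =>
    Nat.eq_one_of_dvd_coprimes hq.cop_D_k h1 (by rw [hkk]; exact h2)
  unfold ordCode
  interval_cases j
  · have : n = 1 := h
    simp [this]
  · have : n = 2 := h
    simp [this]
  · have : n = 3 := h
    simp [this]
  · have : n = 9 := h
    simp [this]
  · have : n = 6 := h
    simp [this]
  · obtain ⟨h1, h2⟩ : 2 < n ∧ n ∣ q - 1 := h
    have n3 : ¬ 3 ∣ n := fun h3 => h3q1 (h3.trans h2)
    rw [if_neg (by omega), if_neg (by omega), if_neg (by omega), if_neg (by omega),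
      if_neg (by omega), if_pos h2]
  · obtain ⟨h1, h2⟩ : 1 < n ∧ n ∣ (q + 1) / 4 := h
    rw [hkk] at h2
    have n3 : ¬ 3 ∣ n := fun h3 => h3k (h3.trans h2)
    have n2 : ¬ 2 ∣ n := fun h2' => by
      have := h2'.trans h2
      omega
    rw [if_neg (by omega), if_neg (by omega), if_neg (by omega), if_neg (by omega),
      if_neg (by omega), if_neg (fun h5 => by have := hkq n h2 h5; omega), hkk, if_pos h2]
  · obtain ⟨i, ⟨h1, h2⟩, rfl⟩ : ∃ i ∈ {i | 1 < i ∧ i ∣ (q + 1) / 4}, n = 2 * i := h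
    rw [hkk] at h2
    have i3 : ¬ 3 ∣ i := fun h3 => h3k (h3.trans h2)
    rw [if_neg (by omega), if_neg (by omega), if_neg (by omega), if_neg (by omega),
      if_neg (by omega),
      if_neg (fun h5 => by have := hkq i h2 ((dvd_mul_left i 2).trans h5); omega), hkk,
      if_neg (fun h5 => by have := (dvd_mul_right 2 i).trans h5; omega),
      if_neg (fun h5 => h2D ((dvd_mul_right 2 i).trans h5))]
  · obtain ⟨h1, h2⟩ : 1 < n ∧ n ∣ q * q - q + 1 := h
    have n3 : ¬ 3 ∣ n := fun h3 => h3D (h3.trans h2)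
    have n2 : ¬ 2 ∣ n := fun h2' => h2D (h2'.trans h2)
    rw [if_neg (by omega), if_neg (by omega), if_neg (by omega), if_neg (by omega),
      if_neg (by omega), if_neg (fun h5 => by have := hDq n h2 h5; omega), hkk,
      if_neg (fun h5 => by have := hDk n h2 h5; omega), if_pos h2]

namespace ReeData

variable {G : Type*} [Group G] [Finite G] {P : Type*} [Group P] {q r : ℕ}
  (R : ReeData G P q) (hq : QData q r) (Ln : ReeLin G q)
  (hz : ∃ z : G, orderOf z = (q + 1) / 2)
include R hq Ln hz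

/-- **the number of elements of order larger than `1` dividing `q² - q + 1`** -/
theorem card_Omega (M : ReeMore R) :
    3 * Nat.card {g : G // orderOf g ∈ {i : ℕ | 1 < i ∧ i ∣ q * q - q + 1}} =
      q ^ 4 * (q ^ 2 - 1) * (q - 2) := by
  have hpart := card_eq_sum_of_code 9 (fun g : G => ordCode q (orderOf g))
    (fun j g => orderOf g ∈ ordSet q j)
    (by
      intro g
      rcases R.order_cases hq M g with h | h | h | h | h | h | h | h | h
      · exact ⟨0, by norm_num, h⟩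
      · exact ⟨1, by norm_num, h⟩
      · exact ⟨2, by norm_num, h⟩
      · exact ⟨3, by norm_num, h⟩
      · exact ⟨4, by norm_num, h⟩
      · exact ⟨5, by norm_num, h⟩
      · exact ⟨6, by norm_num, h⟩
      · exact ⟨7, by norm_num, h⟩
      · exact ⟨8, by norm_num, h⟩)
    (fun g j hj h => ordCode_eq hq (orderOf g) j hj h)
  simp only [Finset.sum_range_succ, Finset.sum_range_zero, zero_add] at hpart
  have e0 : Nat.card {g : G // orderOf g ∈ ordSet q 0} = 1 := by
    rw [Nat.card_eq_one_iff_unique]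
    refine ⟨⟨?_⟩, ⟨⟨1, orderOf_one⟩⟩⟩
    intro a b
    apply Subtype.ext
    have ha : orderOf a.1 = 1 := a.2
    have hb : orderOf b.1 = 1 := b.2
    rw [orderOf_eq_one_iff.1 ha, orderOf_eq_one_iff.1 hb]
  have e1 : Nat.card {g : G // orderOf g ∈ ordSet q 1} = q ^ 2 * (q * q - q + 1) :=
    R.card_invol hq
  have e2 : Nat.card {g : G // orderOf g ∈ ordSet q 2} = (q ^ 2 - 1) * (q ^ 3 + 1) :=
    R.card_order_three hq M
  have e3 : Nat.card {g : G // orderOf g ∈ ordSet q 3} = q ^ 2 * (q - 1) * (q ^ 3 + 1) :=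
    R.card_order_nine hq M
  have e4 : Nat.card {g : G // orderOf g ∈ ordSet q 4} = q ^ 2 * (q - 1) * (q ^ 3 + 1) :=
    R.card_order_six hq M
  have e5 : 2 * Nat.card {g : G // orderOf g ∈ ordSet q 5} = (q - 3) * q ^ 3 * (q ^ 3 + 1) :=
    R.card_type_H hq
  have e6 : 6 * Nat.card {g : G // orderOf g ∈ ordSet q 6} =
      ((q + 1) / 4 - 1) * q ^ 3 * (q - 1) * (q * q - q + 1) := R.card_type_A1 hq Ln hz
  have e7 : Nat.card {g : G // orderOf g ∈ ordSet q 7} =
      3 * Nat.card {g : G // orderOf g ∈ ordSet q 6} :=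
    R.card_two_mul_A1 hq Ln hz {i : ℕ | 1 < i ∧ i ∣ (q + 1) / 4} (fun i hi => hi)
  have e8 : Nat.card {g : G // orderOf g ∈ ordSet q 8} =
      Nat.card {g : G // orderOf g ∈ {i : ℕ | 1 < i ∧ i ∣ q * q - q + 1}} := rfl
  rw [← e8]
  rw [e0, e1, e2, e3, e4, e7, R.card_G, hq.cube_add_one] at hpart
  rw [hq.cube_add_one] at e5
  -- arithmetic
  obtain ⟨m, hm⟩ : ∃ m, q = 4 * m + 3 := ⟨(q - 3) / 4, by have := hq.mod8; omega⟩
  subst hm
  have s1 : 4 * m + 3 - 1 = 4 * m + 2 := by omega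
  have s2 : 4 * m + 3 - 3 = 4 * m := by omega
  have s3 : 4 * m + 3 - 2 = 4 * m + 1 := by omega
  have s4 : (4 * m + 3 + 1) / 4 - 1 = m := by omega
  have s5 : (4 * m + 3) * (4 * m + 3) - (4 * m + 3) + 1 = 16 * m * m + 20 * m + 7 := by
    have : (4 * m + 3) * (4 * m + 3) = (4 * m + 3) + (16 * m * m + 20 * m + 6) := by ring
    rw [this, Nat.add_sub_cancel_left]
  have s6 : (4 * m + 3) ^ 2 - 1 = 16 * m * m + 24 * m + 8 := by
    have : (4 * m + 3) ^ 2 = (16 * m * m + 24 * m + 8) + 1 := by ring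
    rw [this, Nat.add_sub_cancel]
  rw [s1, s5, s6] at hpart
  rw [s2, s5] at e5
  rw [s4, s1, s5] at e6
  rw [s6, s3]
  set N5 := Nat.card {g : G // orderOf g ∈ ordSet (4 * m + 3) 5} with hN5
  set N6 := Nat.card {g : G // orderOf g ∈ ordSet (4 * m + 3) 6} with hN6
  set N8 := Nat.card {g : G // orderOf g ∈ ordSet (4 * m + 3) 8} with hN8
  have key : 6 * (3 * N8) = 6 * ((4 * m + 3) ^ 4 * (16 * m * m + 24 * m + 8) * (4 * m + 1)) := by
    zify at hpart e5 e6 ⊢
    linear_combination (-18 : ℤ) * hpart - 9 * e5 - 12 * e6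
  exact Nat.eq_of_mul_eq_mul_left (by norm_num) key

end ReeData

end Cfsg.Agent.Helper2.Ree
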