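import Mathlib
import Cfsg.Agent.Lib.Helper2.Ree15

/-!
# Small Ree groups: the tori whose orders divide `q² - q + 1`
-/

set_option autoImplicit false
set_option linter.unusedSectionVars false
set_option linter.unusedVariables false
set_option linter.style.haveILetI false

namespace Cfsg.Agent.Helper2.Ree

namespace QData

variable {q r : ℕ} (h : QData q r)
include h

theorem five_not_dvd_D : ¬ 5 ∣ q * q - q + 1 := by
  obtain ⟨n, hn⟩ := h.pow
  have h40 : ∀ n : ℕ, 3 ^ n % 40 = 1 ∨ 3 ^ n % 40 = 3 ∨ 3 ^ n % 40 = 9 ∨ 3 ^ n % 40 = 27 := by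
    intro n
    induction n with
    | zero => left; rfl
    | succ n ih =>
      rw [pow_succ, Nat.mul_mod]
      rcases ih with h1 | h1 | h1 | h1 <;> rw [h1] <;> simp
  have h8 := h.mod8
  have hq5 : q % 5 = 3 ∨ q % 5 = 2 := by
    rcases h40 n with h1 | h1 | h1 | h1 <;> rw [← hn] at h1 <;> omega
  intro hd
  have hle : q ≤ q * q := Nat.le_mul_self q
  rcases hq5 with h5 | h5
  · obtain ⟨a, ha⟩ : ∃ a, q = 5 * a + 3 := ⟨q / 5, by omega⟩
    have : q * q - q + 1 = 5 * (5 * a * a + 5 * a + 1) + 2 := by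
      have h1 : q * q = q + (5 * (5 * a * a + 5 * a + 1) + 1) := by rw [ha]; ring
      rw [h1, Nat.add_sub_cancel_left]
    rw [this] at hd
    omega
  · obtain ⟨a, ha⟩ : ∃ a, q = 5 * a + 2 := ⟨q / 5, by omega⟩
    have : q * q - q + 1 = 5 * (5 * a * a + 3 * a) + 3 := by
      have h1 : q * q = q + (5 * (5 * a * a + 3 * a) + 2) := by rw [ha]; ring
      rw [h1, Nat.add_sub_cancel_left]
    rw [this] at hd
    omega

/-- the divisors larger than `1` of `q² - q + 1` are at least `7` -/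
theorem seven_le_of_dvd_D {d : ℕ} (hd : d ∣ q * q - q + 1) (h1 : 1 < d) : 7 ≤ d := by
  have h2 : ¬ 2 ∣ d := fun h2 => by
    have := Nat.eq_one_of_dvd_coprimes h.cop_D_two (h2.trans hd) (dvd_refl 2)
    omega
  have h3 : ¬ 3 ∣ d := fun h3 => by
    have := Nat.eq_one_of_dvd_coprimes h.cop_D_three (h3.trans hd) (dvd_refl 3)
    omega
  have h5 : ¬ 5 ∣ d := fun h5 => h.five_not_dvd_D (h5.trans hd)
  by_contra hc
  push Not at hc
  interval_cases d <;> omega

end QData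

/-- a torus whose order divides `q² - q + 1` -/
structure TorusData {G : Type*} [Group G] (q : ℕ) (T : Subgroup G) (e : ℕ) : Prop where
  cyc : IsCyclic T
  dvd : Nat.card T ∣ q * q - q + 1
  big : 7 ≤ Nat.card T
  hall : Nat.Coprime (Nat.card T) ((q * q - q + 1) / Nat.card T)
  e_pos : 1 ≤ e
  e_le : e ≤ 6
  norm : Nat.card (Subgroup.normalizer (T : Set G)) = e * Nat.card T
  cent : ∀ t' ∈ T, t' ≠ 1 → ∀ c : G, c * t' = t' * c ↔ c ∈ T
  conj : ∀ g : G, orderOf g ∣ q * q - q + 1 →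
    (∃ ℓ' : ℕ, ℓ'.Prime ∧ ℓ' ∣ orderOf g ∧ ℓ' ∣ Nat.card T) → ∃ h : G, h⁻¹ * g * h ∈ T

section general

variable {G : Type*} [Group G]

/-- a subgroup which is the centraliser of each of its non-trivial elements controls its own
fusion -/
theorem control_of_cent {T : Subgroup G}
    (hcent : ∀ t' ∈ T, t' ≠ 1 → ∀ c : G, c * t' = t' * c ↔ c ∈ T) {t' h : G} (ht : t' ∈ T)
    (ht1 : t' ≠ 1) (hc : h⁻¹ * t' * h ∈ T) : h ∈ Subgroup.normalizer (T : Set G) := by
  have hc1 : h⁻¹ * t' * h ≠ 1 := by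
    intro h1
    apply ht1
    have : t' = h * (h⁻¹ * t' * h) * h⁻¹ := by group
    rw [this, h1]
    group
  apply mem_normalizer_of_forall
  · intro u hu
    rw [← hcent t' ht ht1]
    have h1 : u * (h⁻¹ * t' * h) = (h⁻¹ * t' * h) * u := (hcent _ hc hc1 u).2 hu
    exact conj_comm' h h1
  · intro u hu
    rw [← hcent _ hc hc1]
    have h1 : u * t' = t' * u := (hcent t' ht ht1 u).2 hu
    exact conj_comm h h1

end general

namespace ReeData

variable {G : Type*} [Group G] [Finite G] {P : Type*} [Group P] {q r : ℕ}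
  (R : ReeData G P q) (hq : QData q r) (Ln : ReeLin G q)
  (hz : ∃ z : G, orderOf z = (q + 1) / 2)
include R hq Ln hz

/-- the centraliser of an element of prime order dividing `q² - q + 1` is a torus -/
theorem exists_torus {ℓ : ℕ} (hℓ : ℓ.Prime) (hD : ℓ ∣ q * q - q + 1) :
    ∃ (T : Subgroup G) (e : ℕ), TorusData q T e ∧ ℓ ∣ Nat.card T := by
  classical
  haveI : Fact ℓ.Prime := ⟨hℓ⟩
  have hDG : q * q - q + 1 ∣ Nat.card G := by
    rw [R.card_G, hq.card_fac]
    exact Dvd.dvd.mul_left (dvd_mul_left _ _) _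
  obtain ⟨x, hx⟩ := exists_prime_orderOf_dvd_card' (G := G) ℓ (hD.trans hDG)
  have hx1 : x ≠ 1 := by
    intro h1
    rw [h1, orderOf_one] at hx
    exact hℓ.one_lt.ne hx
  set T := Subgroup.centralizer ({x} : Set G) with hT
  have memT : ∀ c : G, c ∈ T ↔ c * x = x * c := fun c => Subgroup.mem_centralizer_singleton_iff
  have hxT : x ∈ T := (memT x).2 rfl
  have hab := Ln.comm x (by rw [hx]; exact hℓ) (by rw [hx]; exact hD)
  have hdvd : Nat.card T ∣ q * q - q + 1 := R.card_cent_dvd_D hq hℓ hx hD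
  have hcyc : IsCyclic T := Ln.cyc x (by rw [hx]; exact hℓ) (by rw [hx]; exact hD) T
    (fun g hg => (memT g).1 hg) (Nat.Coprime.coprime_dvd_left hdvd hq.cop_D_pred)
  have hℓT : ℓ ∣ Nat.card T := by
    rw [← hx]
    exact Subgroup.orderOf_dvd_natCard T hxT
  -- the centraliser of each non-trivial element
  have hcent : ∀ t' ∈ T, t' ≠ 1 → ∀ c : G, c * t' = t' * c ↔ c ∈ T := by
    intro t' ht' ht'1 c
    constructor
    · intro hc
      obtain ⟨ℓ', hℓ', hℓ'd, hox⟩ := exists_prime_order_pow ht'1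
      set x'' := t' ^ (orderOf t' / ℓ') with hx''
      have hℓ'D : ℓ' ∣ q * q - q + 1 :=
        hℓ'd.trans ((Subgroup.orderOf_dvd_natCard T ht').trans hdvd)
      have hab'' := Ln.comm x'' (by rw [hox]; exact hℓ') (by rw [hox]; exact hℓ'D)
      have h1 : c * x'' = x'' * c := (Commute.pow_right (show Commute c t' from hc) _).eq
      have h2 : x * x'' = x'' * x :=
        ((Commute.pow_left (show Commute t' x from (memT t').1 ht') _).eq).symm
      rw [memT]
      exact hab'' c x h1 h2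
    · intro hc
      exact hab c t' ((memT c).1 hc) ((memT t').1 ht')
  -- the Hall property
  have hGne : Nat.card G ≠ 0 := Nat.card_pos.ne'
  have hTpos : 0 < Nat.card T := Nat.card_pos
  have hhall : Nat.Coprime (Nat.card T) ((q * q - q + 1) / Nat.card T) := by
    apply Nat.coprime_of_dvd
    intro ℓ' hℓ' h1 h2
    haveI : Fact ℓ'.Prime := ⟨hℓ'⟩
    have hℓ'D : ℓ' ∣ q * q - q + 1 := h1.trans hdvd
    obtain ⟨-, -, -, hne2, hne3⟩ := hq.D_coprime hℓ' hℓ'D
    have h3 : 3 < ℓ' := ReeData.prime_gt_three hℓ' hne2 hne3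
    obtain ⟨x₀, hx₀⟩ := exists_prime_orderOf_dvd_card' (G := ↥T) ℓ' h1
    set x'' : G := (x₀ : G) with hx''
    have hx''o : orderOf x'' = ℓ' := by rw [hx'', Subgroup.orderOf_coe]; exact hx₀
    have hx''1 : x'' ≠ 1 := by
      intro h0
      rw [h0, orderOf_one] at hx''o
      exact hℓ'.one_lt.ne hx''o
    have hX : IsPGroup ℓ' (Subgroup.zpowers x'') := by
      apply IsPGroup.of_card (n := 1)
      rw [Nat.card_zpowers, hx''o, pow_one]
    obtain ⟨S, hS⟩ := hX.exists_le_sylow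
    have hScyc := R.sylow_cyclic hq Ln hz h3 S
    have hST : (S : Subgroup G) ≤ T := by
      intro s hs
      rw [← hcent x'' x₀.2 hx''1]
      exact comm_of_isCyclic hScyc hs (hS (Subgroup.mem_zpowers x''))
    have hcard := Subgroup.card_dvd_of_le hST
    rw [S.card_eq_multiplicity] at hcard
    apply Nat.pow_succ_factorization_not_dvd hGne hℓ'
    have h4 : ℓ' ^ ((Nat.card G).factorization ℓ' + 1) ∣
        Nat.card T * ((q * q - q + 1) / Nat.card T) := by
      rw [pow_succ]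
      exact Nat.mul_dvd_mul hcard h2
    rw [Nat.mul_div_cancel' hdvd] at h4
    exact h4.trans hDG
  have hbig : 7 ≤ Nat.card T := by
    apply hq.seven_le_of_dvd_D hdvd
    have := Nat.le_of_dvd hTpos hℓT
    have := hℓ.two_le
    omega
  -- the conjugates of `x` in `⟨x⟩`
  set X : Set G := {y | y ∈ Subgroup.zpowers x ∧ ∃ n : G, y = n * x * n⁻¹} with hX
  have hxX : x ∈ X := ⟨Subgroup.mem_zpowers x, 1, by group⟩
  have hzT : Subgroup.zpowers x ≤ T := Subgroup.zpowers_le.2 hxT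
  have hXle : Nat.card X ≤ 6 := Ln.conj_le x (by rw [hx]; exact hℓ) (by rw [hx]; exact hD)
  have hXpos : 1 ≤ Nat.card X := by
    haveI : Nonempty X := ⟨⟨x, hxX⟩⟩
    exact Nat.card_pos
  have hcontrol : ∀ y ∈ X, ∀ h : G, h⁻¹ * y * h ∈ X → h ∈ Subgroup.normalizer (T : Set G) := by
    rintro y ⟨hy, n, rfl⟩ h ⟨hc, -⟩
    apply control_of_cent hcent (hzT hy) _ (hzT hc)
    intro h1
    apply hx1
    have : x = n⁻¹ * (n * x * n⁻¹) * n := by group
    rw [this, h1]
    group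
  have hnormX : ∀ n ∈ Subgroup.normalizer (T : Set G), ∀ y ∈ X, n⁻¹ * y * n ∈ X := by
    rintro n hn y ⟨hy, n', rfl⟩
    refine ⟨?_, n⁻¹ * n', by group⟩
    have h1 : n⁻¹ * (n' * x * n'⁻¹) * n ∈ T :=
      (Subgroup.mem_normalizer_iff''.1 hn _).1 (hzT hy)
    have ho : orderOf (n⁻¹ * (n' * x * n'⁻¹) * n) = ℓ := by
      rw [orderOf_conj']
      have : n' * x * n'⁻¹ = (n'⁻¹)⁻¹ * x * n'⁻¹ := by rw [inv_inv]
      rw [this, orderOf_conj', hx]
    haveI := hcyc
    have heq : Subgroup.zpowers (⟨n⁻¹ * (n' * x * n'⁻¹) * n, h1⟩ : ↥T) =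
        Subgroup.zpowers (⟨x, hxT⟩ : ↥T) := by
      apply subgroup_eq_of_card_eq_of_isCyclic
      rw [Nat.card_zpowers, Nat.card_zpowers, Subgroup.orderOf_mk, Subgroup.orderOf_mk, ho, hx]
    have hmem : (⟨n⁻¹ * (n' * x * n'⁻¹) * n, h1⟩ : ↥T) ∈
        Subgroup.zpowers (⟨x, hxT⟩ : ↥T) := by
      rw [← heq]
      exact Subgroup.mem_zpowers _
    obtain ⟨i, hi⟩ := Subgroup.mem_zpowers_iff.1 hmem
    rw [Subgroup.mem_zpowers_iff]
    refine ⟨i, ?_⟩
    have := congrArg Subtype.val hi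
    simpa using this
  have hc1 := conj_count X (Subgroup.normalizer (T : Set G)) hnormX hcontrol
  have hc2 := conj_count ({x} : Set G) T
    (by
      intro n hn a ha
      rw [Set.mem_singleton_iff] at ha ⊢
      subst ha
      have := (memT n).1 hn
      rw [mul_assoc, ← this]
      group)
    (by
      intro a ha h hc
      rw [Set.mem_singleton_iff] at ha hc
      subst ha
      rw [memT]
      have : h * a = a * h := by
        have h5 : a * h = h * (h⁻¹ * a * h) := by group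
        rw [h5, hc]
      exact this)
  have hcl : Nat.card {g : G // ∃ h : G, h⁻¹ * g * h ∈ X} =
      Nat.card {g : G // ∃ h : G, h⁻¹ * g * h ∈ ({x} : Set G)} := by
    apply Nat.card_congr
    apply Equiv.subtypeEquivRight
    intro g
    constructor
    · rintro ⟨h, -, n, hn⟩
      refine ⟨h * n, ?_⟩
      rw [Set.mem_singleton_iff]
      have : (h * n)⁻¹ * g * (h * n) = n⁻¹ * (h⁻¹ * g * h) * n := by group
      rw [this, hn]
      group
    · rintro ⟨h, hh⟩
      rw [Set.mem_singleton_iff] at hh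
      exact ⟨h, by rw [hh]; exact hxX⟩
  have h1x : Nat.card ({x} : Set G) = 1 := by simp
  rw [h1x, mul_one] at hc2
  rw [hcl] at hc1
  have hclpos : 0 < Nat.card {g : G // ∃ h : G, h⁻¹ * g * h ∈ ({x} : Set G)} := by
    haveI : Nonempty {g : G // ∃ h : G, h⁻¹ * g * h ∈ ({x} : Set G)} :=
      ⟨⟨x, 1, by simp⟩⟩
    exact Nat.card_pos
  have hnorm : Nat.card (Subgroup.normalizer (T : Set G)) = Nat.card X * Nat.card T := by
    apply Nat.eq_of_mul_eq_mul_left hclpos
    rw [hc1, ← hc2]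
    ring
  refine ⟨T, Nat.card X, ⟨hcyc, hdvd, hbig, hhall, hXpos, hXle, hnorm, hcent, ?_⟩, hℓT⟩
  -- conjugation into `T`
  rintro g hgD ⟨ℓ', hℓ', hℓ'g, hℓ'T⟩
  haveI : Fact ℓ'.Prime := ⟨hℓ'⟩
  obtain ⟨x₀, hx₀⟩ := exists_prime_orderOf_dvd_card' (G := ↥T) ℓ' hℓ'T
  set x'' : G := (x₀ : G) with hx''
  have hx''o : orderOf x'' = ℓ' := by rw [hx'', Subgroup.orderOf_coe]; exact hx₀
  have hg0 : orderOf g ≠ 0 := (orderOf_pos g).ne'
  have hxg : orderOf (g ^ (orderOf g / ℓ')) = ℓ' := orderOf_pow_orderOf_div hg0 hℓ'g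
  have hℓ'D : ℓ' ∣ q * q - q + 1 := hℓ'T.trans hdvd
  have hfour : ℓ' ∣ (q - 1) / 2 ∨ ℓ' ∣ (q + 1) / 4 ∨ ℓ' ∣ q - r + 1 ∨ ℓ' ∣ q + r + 1 := by
    rw [← hq.D_fac] at hℓ'D
    rcases (Nat.Prime.dvd_mul hℓ').1 hℓ'D with h | h
    · exact Or.inr (Or.inr (Or.inr h))
    · exact Or.inr (Or.inr (Or.inl h))
  obtain ⟨h, hh⟩ := R.toral_conj hq Ln hz ℓ' hfour (Subgroup.zpowers (g ^ (orderOf g / ℓ')))
    (Subgroup.zpowers x'') inferInstance inferInstance
    (by rw [Nat.card_zpowers, hxg]) (by rw [Nat.card_zpowers, hx''o])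
  have h1 : h * g ^ (orderOf g / ℓ') * h⁻¹ ∈ Subgroup.zpowers x'' := by
    rw [hh, mem_conj_iff]
    have : h⁻¹ * (h * g ^ (orderOf g / ℓ') * h⁻¹) * h = g ^ (orderOf g / ℓ') := by group
    rw [this]
    exact Subgroup.mem_zpowers _
  have h2 : h * g ^ (orderOf g / ℓ') * h⁻¹ ∈ T := (Subgroup.zpowers_le.2 x₀.2) h1
  have h3 : h * g ^ (orderOf g / ℓ') * h⁻¹ ≠ 1 := by
    intro h0
    have : orderOf (h * g ^ (orderOf g / ℓ') * h⁻¹) = 1 := by rw [h0, orderOf_one]
    have e : h * g ^ (orderOf g / ℓ') * h⁻¹ = (h⁻¹)⁻¹ * g ^ (orderOf g / ℓ') * h⁻¹ := by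
      rw [inv_inv]
    rw [e, orderOf_conj', hxg] at this
    exact hℓ'.one_lt.ne' this
  refine ⟨h⁻¹, ?_⟩
  rw [inv_inv, ← hcent _ h2 h3]
  have h4 : g * g ^ (orderOf g / ℓ') = g ^ (orderOf g / ℓ') * g := by
    rw [← pow_succ', ← pow_succ]
  have := conj_comm h⁻¹ h4
  rwa [inv_inv] at this

end ReeData

end Cfsg.Agent.Helper2.Ree
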