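import Mathlib
import Cfsg.Agent.Lib.Helper2.Ree16
import Cfsg.Agent.Lib.Helper2.TICount

/-!
# Small Ree groups: the two tori of orders `q ± r + 1`
-/

set_option autoImplicit false
set_option linter.unusedSectionVars false
set_option linter.unusedVariables false
set_option linter.style.haveILetI false

namespace Cfsg.Agent.Helper2.Ree

namespace QData

variable {q r : ℕ} (h : QData q r)
include h

/-- one torus cannot account for all the elements -/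
theorem arith_single {e c : ℕ} (he : 1 ≤ e) (he' : e ≤ 6)
    (hW : 3 * c = q ^ 4 * (q ^ 2 - 1) * (q - 2))
    (hc : c * (e * (q * q - q + 1)) =
      q ^ 3 * (q - 1) * (q ^ 3 + 1) * (q * q - q + 1 - 1)) : False := by
  have hbig := h.big
  obtain ⟨a, rfl⟩ : ∃ a, q = a + 2 := ⟨q - 2, by omega⟩
  have s1 : a + 2 - 1 = a + 1 := by omega
  have s2 : a + 2 - 2 = a := by omega
  have s3 : (a + 2) ^ 2 - 1 = a * a + 4 * a + 3 := by
    have : (a + 2) ^ 2 = (a * a + 4 * a + 3) + 1 := by ring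
    rw [this, Nat.add_sub_cancel]
  have s4 : (a + 2) * (a + 2) - (a + 2) + 1 = a * a + 3 * a + 3 := by
    have : (a + 2) * (a + 2) = (a + 2) + (a * a + 3 * a + 2) := by ring
    rw [this, Nat.add_sub_cancel_left]
  have s5 : a * a + 3 * a + 3 - 1 = a * a + 3 * a + 2 := by omega
  rw [s3, s2] at hW
  rw [s4, s1, s5] at hc
  have key : (a + 2) ^ 4 * (a + 1) * (a + 3) * (a * a + 3 * a + 3) * (e * a) =
      (a + 2) ^ 4 * (a + 1) * (a + 3) * (a * a + 3 * a + 3) * (3 * (a + 1)) := by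
    zify at hW hc ⊢
    linear_combination (-(e * (a * a + 3 * a + 3) : ℤ)) * hW + 3 * hc
  have hpos : 0 < (a + 2) ^ 4 * (a + 1) * (a + 3) * (a * a + 3 * a + 3) := by positivity
  have := Nat.eq_of_mul_eq_mul_left hpos key
  interval_cases e <;> omega

/-- a torus accounts for at least a seventh of the group order -/
theorem arith_lower {e d c g : ℕ} (he : e ≤ 6) (hd : 7 ≤ d) (hc : c * (e * d) = g * (d - 1)) :
    g ≤ 7 * c := by
  rcases Nat.eq_zero_or_pos e with rfl | hepos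
  · simp at hc
    rcases hc with hc | hc
    · omega
    · omega
  have h1 : 6 * d ≤ 7 * (d - 1) := by omega
  have h2 : e * d ≤ 6 * d := Nat.mul_le_mul_right d he
  have h3 : g * (e * d) ≤ 7 * c * (e * d) := by
    calc g * (e * d) ≤ g * (7 * (d - 1)) := Nat.mul_le_mul_left g (h2.trans h1)
      _ = 7 * (g * (d - 1)) := by ring
      _ = 7 * (c * (e * d)) := by rw [hc]
      _ = 7 * c * (e * d) := by ring
  exact Nat.le_of_mul_le_mul_right h3 (Nat.mul_pos hepos (by omega))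

/-- three tori are too many -/
theorem arith_three {w : ℕ} (hW : 3 * w = q ^ 4 * (q ^ 2 - 1) * (q - 2))
    (hlow : 3 * (q ^ 3 * (q - 1) * (q ^ 3 + 1)) ≤ 7 * w) : False := by
  have hbig := h.big
  obtain ⟨a, rfl⟩ : ∃ a, q = a + 2 := ⟨q - 2, by omega⟩
  have s1 : a + 2 - 1 = a + 1 := by omega
  have s2 : a + 2 - 2 = a := by omega
  have s3 : (a + 2) ^ 2 - 1 = a * a + 4 * a + 3 := by
    have : (a + 2) ^ 2 = (a * a + 4 * a + 3) + 1 := by ring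
    rw [this, Nat.add_sub_cancel]
  rw [s3, s2] at hW
  rw [s1] at hlow
  have h1 : 9 * ((a + 2) ^ 3 * (a + 1) * ((a + 2) ^ 3 + 1)) ≤
      7 * ((a + 2) ^ 4 * (a * a + 4 * a + 3) * a) := by
    calc 9 * ((a + 2) ^ 3 * (a + 1) * ((a + 2) ^ 3 + 1))
        = 3 * (3 * ((a + 2) ^ 3 * (a + 1) * ((a + 2) ^ 3 + 1))) := by ring
      _ ≤ 3 * (7 * w) := Nat.mul_le_mul_left 3 hlow
      _ = 7 * (3 * w) := by ring
      _ = _ := by rw [hW]
  have h2 : 7 * ((a + 2) ^ 4 * (a * a + 4 * a + 3) * a) <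
      9 * ((a + 2) ^ 3 * (a + 1) * ((a + 2) ^ 3 + 1)) := by
    have e1 : 9 * ((a + 2) ^ 3 * (a + 1) * ((a + 2) ^ 3 + 1)) =
        7 * ((a + 2) ^ 4 * (a * a + 4 * a + 3) * a) +
          (a + 2) ^ 3 * (a + 1) * (a + 3) * (2 * a * a + 13 * a + 27) := by ring
    rw [e1]
    have : 0 < (a + 2) ^ 3 * (a + 1) * (a + 3) * (2 * a * a + 13 * a + 27) := by positivity
    omega
  omega

/-- two tori: the arithmetic -/
theorem arith_two {e₁ e₂ d₁ d₂ c₁ c₂ : ℕ} (he₁ : 1 ≤ e₁) (he₁' : e₁ ≤ 6) (he₂ : 1 ≤ e₂)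
    (he₂' : e₂ ≤ 6) (hd₁ : 7 ≤ d₁) (hd₂ : 7 ≤ d₂) (hD : d₁ * d₂ = q * q - q + 1)
    (hc₁ : c₁ * (e₁ * d₁) = q ^ 3 * (q - 1) * (q ^ 3 + 1) * (d₁ - 1))
    (hc₂ : c₂ * (e₂ * d₂) = q ^ 3 * (q - 1) * (q ^ 3 + 1) * (d₂ - 1))
    (hW : 3 * (c₁ + c₂) = q ^ 4 * (q ^ 2 - 1) * (q - 2)) :
    e₁ = 6 ∧ e₂ = 6 ∧
      ((d₁ = q + r + 1 ∧ d₂ = q - r + 1) ∨ (d₁ = q - r + 1 ∧ d₂ = q + r + 1)) := by
  have hbig := h.big
  have hrle := h.r_le
  have hrr := h.rr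
  have hcases : (e₁ = 6 ∧ e₂ = 6) ∨ 3 + e₁ * e₂ ≤ 3 * e₁ + 3 * e₂ := by
    interval_cases e₁ <;> interval_cases e₂ <;> omega
  -- pass to the integers
  have s1 : ((q - 1 : ℕ) : ℤ) = (q : ℤ) - 1 := by rw [Nat.cast_sub (by omega)]; simp
  have s2 : ((q - 2 : ℕ) : ℤ) = (q : ℤ) - 2 := by rw [Nat.cast_sub (by omega)]; simp
  have s3 : ((q ^ 2 - 1 : ℕ) : ℤ) = (q : ℤ) ^ 2 - 1 := by
    rw [Nat.cast_sub (Nat.one_le_pow _ _ (by omega))]; simp
  have s4 : ((q * q - q + 1 : ℕ) : ℤ) = (q : ℤ) * q - q + 1 := by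
    rw [Nat.cast_add, Nat.cast_sub (Nat.le_mul_self q)]; simp
  have s5 : ((d₁ - 1 : ℕ) : ℤ) = (d₁ : ℤ) - 1 := by rw [Nat.cast_sub (by omega)]; simp
  have s6 : ((d₂ - 1 : ℕ) : ℤ) = (d₂ : ℤ) - 1 := by rw [Nat.cast_sub (by omega)]; simp
  have s7 : ((q - r + 1 : ℕ) : ℤ) = (q : ℤ) - r + 1 := by
    rw [Nat.cast_add, Nat.cast_sub (by omega)]; simp
  have hD' : (d₁ : ℤ) * d₂ = (q : ℤ) * q - q + 1 := by rw [← s4, ← hD]; simp
  have hc₁' : (c₁ : ℤ) * (e₁ * d₁) = (q : ℤ) ^ 3 * (q - 1) * (q ^ 3 + 1) * (d₁ - 1) := by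
    rw [← s1, ← s5]; exact_mod_cast hc₁
  have hc₂' : (c₂ : ℤ) * (e₂ * d₂) = (q : ℤ) ^ 3 * (q - 1) * (q ^ 3 + 1) * (d₂ - 1) := by
    rw [← s1, ← s6]; exact_mod_cast hc₂
  have hW' : 3 * ((c₁ : ℤ) + c₂) = (q : ℤ) ^ 4 * (q ^ 2 - 1) * (q - 2) := by
    rw [← s2, ← s3]; exact_mod_cast hW
  have hrr' : (r : ℤ) * r = 3 * q := by exact_mod_cast hrr
  set Q : ℤ := (q : ℤ) with hQ
  set E1 : ℤ := (e₁ : ℤ) with hE1
  set E2 : ℤ := (e₂ : ℤ) with hE2
  set x : ℤ := (d₁ : ℤ) with hx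
  set y : ℤ := (d₂ : ℤ) with hy
  set C1 : ℤ := (c₁ : ℤ) with hC1
  set C2 : ℤ := (c₂ : ℤ) with hC2
  have hQ27 : (27 : ℤ) ≤ Q := by rw [hQ]; exact_mod_cast hbig
  have hx7 : (7 : ℤ) ≤ x := by rw [hx]; exact_mod_cast hd₁
  have hy7 : (7 : ℤ) ≤ y := by rw [hy]; exact_mod_cast hd₂
  have hE1p : (1 : ℤ) ≤ E1 := by rw [hE1]; exact_mod_cast he₁
  have hE2p : (1 : ℤ) ≤ E2 := by rw [hE2]; exact_mod_cast he₂
  have hE1l : E1 ≤ 6 := by rw [hE1]; exact_mod_cast he₁'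
  have hE2l : E2 ≤ 6 := by rw [hE2]; exact_mod_cast he₂'
  -- cancel
  have hM : (Q ^ 3 * (Q - 1) * (Q + 1)) ≠ 0 := by
    apply ne_of_gt
    have h1 : 0 < Q := by linarith
    have h2 : 0 < Q - 1 := by linarith
    have h3 : 0 < Q + 1 := by linarith
    positivity
  have hx0 : x ≠ 0 := by linarith
  have hy0 : y ≠ 0 := by linarith
  have k1 : C1 * E1 = Q ^ 3 * (Q - 1) * (Q + 1) * y * (x - 1) := by
    apply mul_left_cancel₀ hx0
    linear_combination hc₁' - (Q ^ 3 * (Q - 1) * (Q + 1) * (x - 1)) * hD'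
  have k2 : C2 * E2 = Q ^ 3 * (Q - 1) * (Q + 1) * x * (y - 1) := by
    apply mul_left_cancel₀ hy0
    linear_combination hc₂' - (Q ^ 3 * (Q - 1) * (Q + 1) * (y - 1)) * hD'
  have k3 : E1 * E2 * Q * (Q - 2) = 3 * E2 * y * (x - 1) + 3 * E1 * x * (y - 1) := by
    apply mul_left_cancel₀ hM
    linear_combination (-(E1 * E2)) * hW' + 3 * E2 * k1 + 3 * E1 * k2
  have k4 : (3 * E1 + 3 * E2 - E1 * E2) * (x * y) - 3 * E2 * y - 3 * E1 * x +
      E1 * E2 * (Q + 1) = 0 := by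
    linear_combination (-1 : ℤ) * k3 - (E1 * E2) * hD'
  rcases hcases with ⟨h1, h2⟩ | hc
  · refine ⟨h1, h2, ?_⟩
    have hE1' : E1 = 6 := by rw [hE1, h1]; norm_num
    have hE2' : E2 = 6 := by rw [hE2, h2]; norm_num
    rw [hE1', hE2'] at k4
    have hsum : x + y = 2 * (Q + 1) := by linarith
    have hprod : (x - (Q + r + 1)) * (x - (Q - r + 1)) = 0 := by
      linear_combination x * hsum - hD' - hrr'
    rcases mul_eq_zero.1 hprod with h3 | h3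
    · left
      constructor
      · have : (d₁ : ℤ) = ((q + r + 1 : ℕ) : ℤ) := by push_cast; linarith
        exact_mod_cast this
      · have : (d₂ : ℤ) = ((q - r + 1 : ℕ) : ℤ) := by rw [s7]; linarith
        exact_mod_cast this
    · right
      constructor
      · have : (d₁ : ℤ) = ((q - r + 1 : ℕ) : ℤ) := by rw [s7]; linarith
        exact_mod_cast this
      · have : (d₂ : ℤ) = ((q + r + 1 : ℕ) : ℤ) := by push_cast; linarith
        exact_mod_cast this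
  · exfalso
    have hc' : (3 : ℤ) + E1 * E2 ≤ 3 * E1 + 3 * E2 := by rw [hE1, hE2]; exact_mod_cast hc
    set c : ℤ := 3 * E1 + 3 * E2 - E1 * E2 with hcdef
    have hc3 : 3 ≤ c := by rw [hcdef]; linarith
    have hprod : (c * x - 3 * E2) * (c * y - 3 * E1) = E1 * E2 * (9 - c * (Q + 1)) := by
      linear_combination c * k4
    have hcx : 3 * 7 ≤ c * x := mul_le_mul hc3 hx7 (by norm_num) (by linarith)
    have hcy : 3 * 7 ≤ c * y := mul_le_mul hc3 hy7 (by norm_num) (by linarith)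
    have hcQ : 3 * 28 ≤ c * (Q + 1) := mul_le_mul hc3 (by linarith) (by norm_num) (by linarith)
    have hp1 : 0 < c * x - 3 * E2 := by linarith
    have hp2 : 0 < c * y - 3 * E1 := by linarith
    have hpos := mul_pos hp1 hp2
    have hE : 0 < E1 * E2 := mul_pos (by linarith) (by linarith)
    have hneg : E1 * E2 * (9 - c * (Q + 1)) < 0 :=
      mul_neg_of_pos_of_neg hE (by linarith)
    rw [hprod] at hpos
    linarith

end QData

/-- the non-trivial elements conjugate into `T` -/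
def conjSet {G : Type*} [Group G] (T : Subgroup G) : Set G :=
  {g | g ≠ 1 ∧ ∃ h : G, h⁻¹ * g * h ∈ T}

/-- the elements of order larger than `1` dividing `q² - q + 1` -/
def omegaSet (G : Type*) [Group G] (q : ℕ) : Set G :=
  {g | orderOf g ∈ {i : ℕ | 1 < i ∧ i ∣ q * q - q + 1}}

namespace TorusData

variable {G : Type*} [Group G] [Finite G] {q : ℕ} {T : Subgroup G} {e : ℕ}
  (hT : TorusData q T e)
include hT

theorem card_conjSet :
    (conjSet T).ncard * (e * Nat.card T) = Nat.card G * (Nat.card T - 1) := by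
  have h := TICount.card_conj_union T
    (fun a ha ha1 h hc => control_of_cent hT.cent ha ha1 hc)
  rw [hT.norm] at h
  rw [← h, ← Nat.card_coe_set_eq]
  rfl

theorem conjSet_subset : conjSet T ⊆ omegaSet G q := by
  rintro g ⟨hg1, h, hh⟩
  have h1 : orderOf g ∣ Nat.card T := by
    rw [← orderOf_conj' h g]
    exact Subgroup.orderOf_dvd_natCard T hh
  refine ⟨?_, h1.trans hT.dvd⟩
  have h2 := orderOf_pos g
  have h3 : orderOf g ≠ 1 := fun h0 => hg1 (orderOf_eq_one_iff.1 h0)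
  omega

theorem orderOf_dvd_of_mem_conjSet {g : G} (hg : g ∈ conjSet T) : orderOf g ∣ Nat.card T := by
  obtain ⟨hg1, h, hh⟩ := hg
  rw [← orderOf_conj' h g]
  exact Subgroup.orderOf_dvd_natCard T hh

theorem mem_conjSet {g : G} (hg : g ∈ omegaSet G q) {ℓ : ℕ} (hℓ : ℓ.Prime)
    (h1 : ℓ ∣ orderOf g) (h2 : ℓ ∣ Nat.card T) : g ∈ conjSet T := by
  obtain ⟨hg1, hgD⟩ := hg
  refine ⟨?_, hT.conj g hgD ⟨ℓ, hℓ, h1, h2⟩⟩
  rintro rfl
  rw [orderOf_one] at hg1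
  omega

theorem disjoint_conjSet {T' : Subgroup G} {e' : ℕ} (hT' : TorusData q T' e')
    (hcop : Nat.Coprime (Nat.card T) (Nat.card T')) : Disjoint (conjSet T) (conjSet T') := by
  rw [Set.disjoint_left]
  intro g hg hg'
  have h1 := hT.orderOf_dvd_of_mem_conjSet hg
  have h2 := hT'.orderOf_dvd_of_mem_conjSet hg'
  have h3 := Nat.eq_one_of_dvd_coprimes hcop h1 h2
  exact hg.1 (orderOf_eq_one_iff.1 h3)

/-- two tori with a common prime divisor have the same order -/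
theorem card_eq_of_prime {T' : Subgroup G} {e' : ℕ} (hT' : TorusData q T' e') {ℓ : ℕ}
    (hℓ : ℓ.Prime) (h1 : ℓ ∣ Nat.card T) (h2 : ℓ ∣ Nat.card T') :
    Nat.card T = Nat.card T' := by
  haveI : Fact ℓ.Prime := ⟨hℓ⟩
  obtain ⟨x₀, hx₀⟩ := exists_prime_orderOf_dvd_card' (G := ↥T') ℓ h2
  set x : G := (x₀ : G) with hx
  have hxo : orderOf x = ℓ := by rw [hx, Subgroup.orderOf_coe]; exact hx₀
  have hx1 : x ≠ 1 := by
    intro h0
    rw [h0, orderOf_one] at hxo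
    exact hℓ.one_lt.ne hxo
  obtain ⟨h, hh⟩ := hT.conj x (by rw [hxo]; exact h2.trans hT'.dvd)
    ⟨ℓ, hℓ, by rw [hxo], h1⟩
  have hc1 : h⁻¹ * x * h ≠ 1 := by
    intro h0
    apply hx1
    have : x = h * (h⁻¹ * x * h) * h⁻¹ := by group
    rw [this, h0]
    group
  apply Nat.card_congr
  refine ⟨fun c => ⟨h * c.1 * h⁻¹, ?_⟩, fun c => ⟨h⁻¹ * c.1 * h, ?_⟩, ?_, ?_⟩
  · rw [← hT'.cent x x₀.2 hx1]
    exact conj_comm' h ((hT.cent _ hh hc1 c.1).2 c.2)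
  · rw [← hT.cent _ hh hc1]
    exact conj_comm h ((hT'.cent x x₀.2 hx1 c.1).2 c.2)
  · intro c
    apply Subtype.ext
    show h⁻¹ * (h * c.1 * h⁻¹) * h = c.1
    group
  · intro c
    apply Subtype.ext
    show h * (h⁻¹ * c.1 * h) * h⁻¹ = c.1
    group

theorem coprime_of_not_dvd {T' : Subgroup G} {e' : ℕ} (hT' : TorusData q T' e') {ℓ : ℕ}
    (h1 : ℓ ∣ Nat.card T') (h2 : ¬ ℓ ∣ Nat.card T) :
    Nat.Coprime (Nat.card T) (Nat.card T') := by
  apply Nat.coprime_of_dvd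
  intro p hp hp1 hp2
  have := hT.card_eq_of_prime hT' hp hp1 hp2
  rw [this] at h2
  exact h2 h1

end TorusData

namespace ReeData

variable {G : Type*} [Group G] [Finite G] {P : Type*} [Group P] {q r : ℕ}
  (R : ReeData G P q) (hq : QData q r) (Ln : ReeLin G q)
  (hz : ∃ z : G, orderOf z = (q + 1) / 2)
include R hq Ln hz

/-- a torus whose order is divisible by a given prime and prime to a given torus order -/
theorem exists_torus_coprime {T : Subgroup G} {e : ℕ} (hT : TorusData q T e) {k : ℕ}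
    (hk : 1 < k) (hkD : k ∣ (q * q - q + 1) / Nat.card T) :
    ∃ (T' : Subgroup G) (e' : ℕ) (ℓ : ℕ), TorusData q T' e' ∧ ℓ.Prime ∧ ℓ ∣ k ∧
      ℓ ∣ Nat.card T' ∧ Nat.Coprime (Nat.card T) (Nat.card T') := by
  obtain ⟨ℓ, hℓ, hℓk⟩ := Nat.exists_prime_and_dvd (ne_of_gt hk)
  have h1 : ℓ ∣ (q * q - q + 1) / Nat.card T := hℓk.trans hkD
  have h2 : ℓ ∣ q * q - q + 1 := h1.trans (Nat.div_dvd_of_dvd hT.dvd)
  have h3 : ¬ ℓ ∣ Nat.card T := by
    intro h3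
    have := Nat.eq_one_of_dvd_coprimes hT.hall h3 h1
    exact hℓ.one_lt.ne' this
  obtain ⟨T', e', hT', hℓT'⟩ := R.exists_torus hq Ln hz hℓ h2
  exact ⟨T', e', ℓ, hT', hℓ, hℓk, hℓT', hT.coprime_of_not_dvd hT' hℓT' h3⟩

/-- **the two tori of orders `q + r + 1` and `q - r + 1`** -/
theorem exists_two_tori (M : ReeMore R) :
    ∃ Tp Tm : Subgroup G, TorusData q Tp 6 ∧ Nat.card Tp = q + r + 1 ∧
      TorusData q Tm 6 ∧ Nat.card Tm = q - r + 1 := by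
  classical
  have hbig := hq.big
  have hΩ : 3 * (omegaSet G q).ncard = q ^ 4 * (q ^ 2 - 1) * (q - 2) := by
    rw [← R.card_Omega hq Ln hz M, ← Nat.card_coe_set_eq]
    rfl
  have hD1 : 1 < q * q - q + 1 := by
    have : q < q * q := by nlinarith
    omega
  have hΩprime : ∀ g ∈ omegaSet G q, ∃ ℓ : ℕ, ℓ.Prime ∧ ℓ ∣ orderOf g ∧ ℓ ∣ q * q - q + 1 := by
    intro g hg
    obtain ⟨ℓ, hℓ, hℓg⟩ := Nat.exists_prime_and_dvd (ne_of_gt hg.1)
    exact ⟨ℓ, hℓ, hℓg, hℓg.trans hg.2⟩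
  obtain ⟨ℓ₁, hℓ₁, hℓ₁D⟩ := Nat.exists_prime_and_dvd (ne_of_gt hD1)
  obtain ⟨T₁, e₁, hT₁, hℓ₁T⟩ := R.exists_torus hq Ln hz hℓ₁ hℓ₁D
  have hc₁ := hT₁.card_conjSet
  rw [R.card_G] at hc₁
  obtain ⟨k₁, hk₁⟩ := hT₁.dvd
  have hd₁pos : 0 < Nat.card T₁ := Nat.card_pos
  have hdiv₁ : (q * q - q + 1) / Nat.card T₁ = k₁ := by
    rw [hk₁]
    exact Nat.mul_div_cancel_left _ hd₁pos
  by_cases hk₁1 : k₁ = 1
  · -- one torus only: impossible
    exfalso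
    rw [hk₁1, mul_one] at hk₁
    have hsub : omegaSet G q ⊆ conjSet T₁ := by
      intro g hg
      obtain ⟨ℓ', hℓ', hℓ'g, hℓ'D⟩ := hΩprime g hg
      exact hT₁.mem_conjSet hg hℓ' hℓ'g (by rw [← hk₁]; exact hℓ'D)
    have heq : conjSet T₁ = omegaSet G q := Set.Subset.antisymm hT₁.conjSet_subset hsub
    rw [heq, ← hk₁] at hc₁
    exact hq.arith_single hT₁.e_pos hT₁.e_le hΩ hc₁
  have hk₁gt : 1 < k₁ := by
    rcases Nat.eq_zero_or_pos k₁ with h0 | h0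
    · rw [h0, mul_zero] at hk₁
      omega
    · omega
  obtain ⟨T₂, e₂, ℓ₂, hT₂, hℓ₂, hℓ₂k, hℓ₂T, hcop₁₂⟩ :=
    R.exists_torus_coprime hq Ln hz hT₁ hk₁gt (by rw [hdiv₁])
  have hc₂ := hT₂.card_conjSet
  rw [R.card_G] at hc₂
  have hdisj₁₂ := hT₁.disjoint_conjSet hT₂ hcop₁₂
  have hmul : Nat.card T₁ * Nat.card T₂ ∣ q * q - q + 1 :=
    Nat.Coprime.mul_dvd_of_dvd_of_dvd hcop₁₂ hT₁.dvd hT₂.dvd
  obtain ⟨k₂, hk₂⟩ := hmul
  have hd₂pos : 0 < Nat.card T₂ := Nat.card_pos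
  by_cases hk₂1 : k₂ = 1
  · -- two tori
    rw [hk₂1, mul_one] at hk₂
    have hsub : omegaSet G q ⊆ conjSet T₁ ∪ conjSet T₂ := by
      intro g hg
      obtain ⟨ℓ', hℓ', hℓ'g, hℓ'D⟩ := hΩprime g hg
      rw [hk₂] at hℓ'D
      rcases (Nat.Prime.dvd_mul hℓ').1 hℓ'D with h | h
      · exact Or.inl (hT₁.mem_conjSet hg hℓ' hℓ'g h)
      · exact Or.inr (hT₂.mem_conjSet hg hℓ' hℓ'g h)
    have heq : conjSet T₁ ∪ conjSet T₂ = omegaSet G q :=
      Set.Subset.antisymm (Set.union_subset hT₁.conjSet_subset hT₂.conjSet_subset) hsub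
    have hcard : (conjSet T₁).ncard + (conjSet T₂).ncard = (omegaSet G q).ncard := by
      rw [← heq, Set.ncard_union_eq hdisj₁₂]
    rw [← hcard] at hΩ
    obtain ⟨he₁, he₂, hcases⟩ := hq.arith_two hT₁.e_pos hT₁.e_le hT₂.e_pos hT₂.e_le hT₁.big
      hT₂.big hk₂.symm hc₁ hc₂ hΩ
    subst he₁ he₂
    rcases hcases with ⟨h1, h2⟩ | ⟨h1, h2⟩
    · exact ⟨T₁, T₂, hT₁, h1, hT₂, h2⟩
    · exact ⟨T₂, T₁, hT₂, h2, hT₁, h1⟩
  · -- three tori: impossible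
    exfalso
    have hk₂gt : 1 < k₂ := by
      rcases Nat.eq_zero_or_pos k₂ with h0 | h0
      · rw [h0, mul_zero] at hk₂
        omega
      · omega
    have hk₁k₂ : k₁ = Nat.card T₂ * k₂ := by
      apply Nat.eq_of_mul_eq_mul_left hd₁pos
      rw [← hk₁, hk₂]
      ring
    have hdiv₂ : (q * q - q + 1) / Nat.card T₂ = Nat.card T₁ * k₂ := by
      rw [hk₂]
      have : Nat.card T₁ * Nat.card T₂ * k₂ = Nat.card T₂ * (Nat.card T₁ * k₂) := by ring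
      rw [this]
      exact Nat.mul_div_cancel_left _ hd₂pos
    obtain ⟨T₃, e₃, ℓ₃, hT₃, hℓ₃, hℓ₃k, hℓ₃T, hcop₁₃⟩ :=
      R.exists_torus_coprime hq Ln hz hT₁ hk₂gt (by rw [hdiv₁, hk₁k₂]; exact dvd_mul_left _ _)
    have hℓ₃2 : ¬ ℓ₃ ∣ Nat.card T₂ := by
      intro h3
      have := Nat.eq_one_of_dvd_coprimes hT₂.hall h3
        (by rw [hdiv₂]; exact Dvd.dvd.mul_left hℓ₃k _)
      exact hℓ₃.one_lt.ne' this
    have hcop₂₃ := hT₂.coprime_of_not_dvd hT₃ hℓ₃T hℓ₃2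
    have hc₃ := hT₃.card_conjSet
    rw [R.card_G] at hc₃
    have hdisj₁₃ := hT₁.disjoint_conjSet hT₃ hcop₁₃
    have hdisj₂₃ := hT₂.disjoint_conjSet hT₃ hcop₂₃
    have hsub : (conjSet T₁ ∪ conjSet T₂) ∪ conjSet T₃ ⊆ omegaSet G q :=
      Set.union_subset (Set.union_subset hT₁.conjSet_subset hT₂.conjSet_subset)
        hT₃.conjSet_subset
    have hle := Set.ncard_le_ncard hsub (Set.toFinite _)
    rw [Set.ncard_union_eq (Set.disjoint_union_left.2 ⟨hdisj₁₃, hdisj₂₃⟩),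
      Set.ncard_union_eq hdisj₁₂] at hle
    have l₁ := hq.arith_lower hT₁.e_le hT₁.big hc₁
    have l₂ := hq.arith_lower hT₂.e_le hT₂.big hc₂
    have l₃ := hq.arith_lower hT₃.e_le hT₃.big hc₃
    apply hq.arith_three hΩ
    omega

end ReeData

end Cfsg.Agent.Helper2.Ree
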