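import Mathlib
import Cfsg.Agent.Lib.Helper2.Ree17

/-!
# Small Ree groups: element orders, element counts and cyclic Hall subgroups (abstract form)
-/

set_option autoImplicit false
set_option linter.unusedSectionVars false
set_option linter.unusedVariables false
set_option linter.style.haveILetI false

namespace Cfsg.Agent.Helper2.Ree

section general

variable {G : Type*} [Group G] [Finite G]

/-- the normaliser of a cyclic subgroup normalises its subgroups -/
theorem normalizer_le_of_isCyclic {O A₀ : Subgroup G} (hO : IsCyclic O) (h₀ : A₀ ≤ O) :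
    Subgroup.normalizer (O : Set G) ≤ Subgroup.normalizer (A₀ : Set G) := by
  haveI := hO
  have key : ∀ g : G, g ∈ Subgroup.normalizer (O : Set G) → ∀ u ∈ A₀, g * u * g⁻¹ ∈ A₀ := by
    intro g hg u hu
    set A₁ := A₀.map (MulAut.conj g).toMonoidHom with hA₁
    have hA₁O : A₁ ≤ O := by
      intro z hz
      rw [hA₁, mem_conj_iff] at hz
      have := (Subgroup.mem_normalizer_iff.1 hg _).1 (h₀ hz)
      have e : g * (g⁻¹ * z * g) * g⁻¹ = z := by group
      rwa [e] at this
    have hcard : Nat.card A₁ = Nat.card A₀ := by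
      rw [hA₁, Subgroup.card_map_of_injective (MulAut.conj g).injective]
    have hsub : A₁.subgroupOf O = A₀.subgroupOf O := by
      apply subgroup_eq_of_card_eq_of_isCyclic
      rw [Nat.card_congr (Subgroup.subgroupOfEquivOfLe hA₁O).toEquiv,
        Nat.card_congr (Subgroup.subgroupOfEquivOfLe h₀).toEquiv, hcard]
    have hm : g * u * g⁻¹ ∈ A₁ := by
      rw [hA₁, mem_conj_iff]
      have e : g⁻¹ * (g * u * g⁻¹) * g = u := by group
      rw [e]
      exact hu
    have : (⟨g * u * g⁻¹, hA₁O hm⟩ : ↥O) ∈ A₁.subgroupOf O := Subgroup.mem_subgroupOf.2 hm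
    rw [hsub] at this
    exact Subgroup.mem_subgroupOf.1 this
  intro g hg
  apply mem_normalizer_of_forall
  · exact key g hg
  · intro u hu
    have := key g⁻¹ (inv_mem hg) u hu
    rwa [inv_inv] at this

theorem exists_orderOf_of_dvd {n d : ℕ} (h : ∃ g : G, orderOf g = n) (hd : d ∣ n) :
    ∃ g : G, orderOf g = d := by
  obtain ⟨g, hg⟩ := h
  refine ⟨g ^ (orderOf g / d), ?_⟩
  exact orderOf_pow_orderOf_div (orderOf_pos g).ne' (by rw [hg]; exact hd)

theorem exists_orderOf_of_card_pos {n : ℕ} (h : 0 < Nat.card {g : G // orderOf g = n}) :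
    ∃ g : G, orderOf g = n := by
  obtain ⟨⟨g, hg⟩⟩ := (Nat.card_pos_iff.1 h).1
  exact ⟨g, hg⟩

theorem exists_orderOf_of_isCyclic {A : Subgroup G} (hA : IsCyclic A) :
    ∃ g : G, orderOf g = Nat.card A := by
  haveI := hA
  obtain ⟨g₀, hg₀⟩ := IsCyclic.exists_ofOrder_eq_natCard (α := ↥A)
  exact ⟨(g₀ : G), by rw [Subgroup.orderOf_coe]; exact hg₀⟩

end general

namespace QData

variable {q r : ℕ} (h : QData q r)
include h

theorem sq_sub_one : q ^ 2 - 1 = (q - 1) * (q + 1) := by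
  have := h.big
  obtain ⟨a, rfl⟩ : ∃ a, q = a + 1 := ⟨q - 1, by omega⟩
  have e : (a + 1) ^ 2 = (a + 1 - 1) * (a + 1 + 1) + 1 := by
    rw [Nat.add_sub_cancel]
    ring
  rw [e, Nat.add_sub_cancel]

end QData

namespace TorusData

variable {G : Type*} [Group G] [Finite G] {q : ℕ} {T : Subgroup G} {e : ℕ}
  (hT : TorusData q T e)
include hT

theorem card_order {i : ℕ} (hi : 1 < i) (hd : i ∣ Nat.card T) :
    Nat.card {g : G // orderOf g = i} * (e * Nat.card T) = Nat.card G * Nat.totient i := by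
  have h := conj_count_order T ({i} : Set ℕ) (by
    intro a ha haS h hc
    refine control_of_cent hT.cent ha ?_ hc
    rintro rfl
    rw [orderOf_one] at haS
    have : 1 = i := haS
    omega)
  have e1 : Nat.card {g : G // orderOf g ∈ ({i} : Set ℕ) ∧ ∃ h : G, h⁻¹ * g * h ∈ T} =
      Nat.card {g : G // orderOf g = i} := by
    apply Nat.card_congr
    apply Equiv.subtypeEquivRight
    intro g
    constructor
    · rintro ⟨h1, -⟩
      exact h1
    · intro h1
      refine ⟨h1, ?_⟩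
      obtain ⟨ℓ, hℓ, hℓi⟩ := Nat.exists_prime_and_dvd (ne_of_gt hi)
      exact hT.conj g (by rw [h1]; exact hd.trans hT.dvd)
        ⟨ℓ, hℓ, by rw [h1]; exact hℓi, hℓi.trans hd⟩
  have e2 : Nat.card {a : G // a ∈ T ∧ orderOf a ∈ ({i} : Set ℕ)} = Nat.totient i :=
    card_orderOf_of_isCyclic hT.cyc hd
  rw [e1, e2, hT.norm] at h
  exact h

theorem normalizer_eq {A₀ : Subgroup G} (h₀ : A₀ ≤ T) (hne : A₀ ≠ ⊥) :
    Subgroup.normalizer (A₀ : Set G) = Subgroup.normalizer (T : Set G) :=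
  normalizer_eq_of_control hT.cyc h₀ hne
    (fun o ho ho1 h hc => control_of_cent hT.cent ho ho1 hc)

end TorusData

namespace ReeData

variable {G : Type*} [Group G] [Finite G] {P : Type*} [Group P] {q r : ℕ}
  (R : ReeData G P q) (hq : QData q r) (Ln : ReeLin G q)
  (hz : ∃ z : G, orderOf z = (q + 1) / 2)
include R hq Ln hz

theorem card_G_fac : Nat.card G = q ^ 3 * (q - 1) * (q + 1) * ((q + r + 1) * (q - r + 1)) := by
  rw [R.card_G, hq.cube_add_one, hq.D_fac]
  ring

theorem card_order_plus (M : ReeMore R) {i : ℕ} (hi : 1 < i) (hd : i ∣ q + r + 1) :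
    6 * Nat.card {g : G // orderOf g = i} =
      Nat.totient i * q ^ 3 * (q ^ 2 - 1) * (q - r + 1) := by
  obtain ⟨Tp, Tm, hTp, hcp, hTm, hcm⟩ := R.exists_two_tori hq Ln hz M
  have h := hTp.card_order hi (by rw [hcp]; exact hd)
  rw [hcp, R.card_G_fac hq Ln hz] at h
  rw [hq.sq_sub_one]
  apply Nat.eq_of_mul_eq_mul_right (show 0 < q + r + 1 by omega)
  calc 6 * Nat.card {g : G // orderOf g = i} * (q + r + 1)
      = Nat.card {g : G // orderOf g = i} * (6 * (q + r + 1)) := by ring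
    _ = _ := h
    _ = _ := by ring

theorem card_order_minus (M : ReeMore R) {i : ℕ} (hi : 1 < i) (hd : i ∣ q - r + 1) :
    6 * Nat.card {g : G // orderOf g = i} =
      Nat.totient i * q ^ 3 * (q ^ 2 - 1) * (q + r + 1) := by
  obtain ⟨Tp, Tm, hTp, hcp, hTm, hcm⟩ := R.exists_two_tori hq Ln hz M
  have h := hTm.card_order hi (by rw [hcm]; exact hd)
  rw [hcm, R.card_G_fac hq Ln hz] at h
  rw [hq.sq_sub_one]
  apply Nat.eq_of_mul_eq_mul_right (show 0 < q - r + 1 by omega)
  calc 6 * Nat.card {g : G // orderOf g = i} * (q - r + 1)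
      = Nat.card {g : G // orderOf g = i} * (6 * (q - r + 1)) := by ring
    _ = _ := h
    _ = _ := by ring

theorem omega_cases (M : ReeMore R) {g : G} (h1 : 1 < orderOf g)
    (hD : orderOf g ∣ q * q - q + 1) : orderOf g ∣ q + r + 1 ∨ orderOf g ∣ q - r + 1 := by
  obtain ⟨Tp, Tm, hTp, hcp, hTm, hcm⟩ := R.exists_two_tori hq Ln hz M
  obtain ⟨ℓ, hℓ, hℓg⟩ := Nat.exists_prime_and_dvd (ne_of_gt h1)
  have hℓD := hℓg.trans hD
  rw [← hq.D_fac] at hℓD
  rcases (Nat.Prime.dvd_mul hℓ).1 hℓD with h | h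
  · left
    rw [← hcp]
    exact hTp.orderOf_dvd_of_mem_conjSet (hTp.mem_conjSet ⟨h1, hD⟩ hℓ hℓg (by rw [hcp]; exact h))
  · right
    rw [← hcm]
    exact hTm.orderOf_dvd_of_mem_conjSet (hTm.mem_conjSet ⟨h1, hD⟩ hℓ hℓg (by rw [hcm]; exact h))

/-- **the element orders** -/
theorem exists_orderOf_iff (M : ReeMore R) (d : ℕ) :
    (∃ g : G, orderOf g = d) ↔
      (d ∣ 6 ∨ d ∣ 9 ∨ d ∣ q - 1 ∨ d ∣ (q + 1) / 2 ∨ d ∣ q - r + 1 ∨ d ∣ q + r + 1) := by
  obtain ⟨k, hk4, hkodd, hk7⟩ := hq.exists_k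
  have hkk : (q + 1) / 4 = k := by omega
  have hk2 : (q + 1) / 2 = 2 * k := by omega
  have hbig := hq.big
  constructor
  · rintro ⟨g, rfl⟩
    rcases R.order_cases hq M g with h | h | h | h | h | h | h | h | h
    · left; rw [h]; norm_num
    · left; rw [h]; norm_num
    · left; rw [h]; norm_num
    · right; left; rw [h]
    · left; rw [h]
    · right; right; left; exact h.2
    · right; right; right; left
      rw [hk2]
      rw [hkk] at h
      exact Dvd.dvd.mul_left h.2 2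
    · right; right; right; left
      obtain ⟨i, ⟨-, hi⟩, ho⟩ := h
      rw [hk2, ho]
      rw [hkk] at hi
      exact Nat.mul_dvd_mul_left 2 hi
    · rcases R.omega_cases hq Ln hz M h.1 h.2 with h' | h'
      · right; right; right; right; right; exact h'
      · right; right; right; right; left; exact h'
  · obtain ⟨Tp, Tm, hTp, hcp, hTm, hcm⟩ := R.exists_two_tori hq Ln hz M
    have hpos : 0 < q ^ 2 * (q - 1) * (q ^ 3 + 1) := by
      have : 0 < q - 1 := by omega
      positivity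
    rintro (h | h | h | h | h | h)
    · exact exists_orderOf_of_dvd
        (exists_orderOf_of_card_pos (by rw [R.card_order_six hq M]; exact hpos)) h
    · exact exists_orderOf_of_dvd
        (exists_orderOf_of_card_pos (by rw [R.card_order_nine hq M]; exact hpos)) h
    · exact exists_orderOf_of_dvd
        (by rw [← R.card_H]; exact exists_orderOf_of_isCyclic R.cyc_H) h
    · exact exists_orderOf_of_dvd hz h
    · exact exists_orderOf_of_dvd
        (by rw [← hcm]; exact exists_orderOf_of_isCyclic hTm.cyc) h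
    · exact exists_orderOf_of_dvd
        (by rw [← hcp]; exact exists_orderOf_of_isCyclic hTp.cyc) h

/-- the cyclic Hall subgroup of order `(q - 1) / 2` -/
theorem hall_H : ∃ A : Subgroup G, IsCyclic A ∧ Nat.card A = (q - 1) / 2 ∧
    Nat.card (Subgroup.normalizer (A : Set G)) = 2 * (q - 1) ∧
    ∀ A₀ : Subgroup G, A₀ ≤ A → A₀ ≠ ⊥ →
      Subgroup.normalizer (A₀ : Set G) = Subgroup.normalizer (A : Set G) := by
  obtain ⟨c, hc2, hcodd, hc13⟩ := hq.exists_h
  have hcc : (q - 1) / 2 = c := by omega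
  haveI := R.cyc_H
  obtain ⟨g₀, hg₀⟩ := IsCyclic.exists_ofOrder_eq_natCard (α := ↥R.H)
  have hg₀' : orderOf (g₀ : G) = q - 1 := by rw [Subgroup.orderOf_coe, hg₀, R.card_H]
  set a₀ : G := (g₀ : G) ^ 2 with ha₀
  have ha₀H : a₀ ∈ R.H := pow_mem g₀.2 2
  have ha₀o : orderOf a₀ = c := by
    rw [ha₀, orderOf_pow' _ (by norm_num), hg₀', hc2]
    have : Nat.gcd (2 * c) 2 = 2 := by
      rw [Nat.gcd_comm]
      exact Nat.gcd_eq_left (dvd_mul_right 2 c)
    rw [this]
    omega
  set A := Subgroup.zpowers a₀ with hA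
  have hAH : A ≤ R.H := Subgroup.zpowers_le.2 ha₀H
  have hAc : Nat.card A = c := by rw [hA, Nat.card_zpowers, ha₀o]
  have hodd : ∀ a ∈ A, a ≠ 1 → 2 < orderOf a := by
    intro a ha ha1
    have h1 : orderOf a ∣ c := by
      rw [← hAc]
      exact Subgroup.orderOf_dvd_natCard A ha
    have h2 : orderOf a ≠ 1 := fun h0 => ha1 (orderOf_eq_one_iff.1 h0)
    have h3 := orderOf_pos a
    have h4 : orderOf a ≠ 2 := by
      intro h0
      rw [h0] at h1
      omega
    omega
  have hNle : Subgroup.normalizer (R.H : Set G) ≤ Subgroup.normalizer (A : Set G) :=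
    normalizer_le_of_isCyclic R.cyc_H hAH
  have hctl : ∀ o ∈ A, o ≠ 1 → ∀ h : G, h⁻¹ * o * h ∈ A →
      h ∈ Subgroup.normalizer (A : Set G) := by
    intro o ho ho1 h hc
    exact hNle (R.H_control hq (hAH ho) (hodd o ho ho1) (hAH hc))
  have hNeq : Subgroup.normalizer (A : Set G) = Subgroup.normalizer (R.H : Set G) := by
    apply le_antisymm _ hNle
    intro g hg
    have ha₀1 : a₀ ≠ 1 := by
      intro h0
      rw [h0, orderOf_one] at ha₀o
      omega
    have ha₀A : a₀ ∈ A := Subgroup.mem_zpowers a₀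
    have h1 : g * a₀ * g⁻¹ ∈ A := (Subgroup.mem_normalizer_iff.1 hg a₀).1 ha₀A
    have h2 := R.H_control hq (g := g⁻¹) ha₀H (hodd a₀ ha₀A ha₀1) (by rw [inv_inv]; exact hAH h1)
    have := inv_mem h2
    rwa [inv_inv] at this
  refine ⟨A, ?_, by rw [hAc, hcc], by rw [hNeq, R.card_normalizer_H hq], ?_⟩
  · rw [hA]
    infer_instance
  · intro A₀ h₀ hne
    exact normalizer_eq_of_control (by rw [hA]; infer_instance) h₀ hne hctl

/-- the cyclic Hall subgroup of order `(q + 1) / 4` -/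
theorem hall_O : ∃ A : Subgroup G, IsCyclic A ∧ Nat.card A = (q + 1) / 4 ∧
    Nat.card (Subgroup.normalizer (A : Set G)) = 6 * (q + 1) ∧
    ∀ A₀ : Subgroup G, A₀ ≤ A → A₀ ≠ ⊥ →
      Subgroup.normalizer (A₀ : Set G) = Subgroup.normalizer (A : Set G) := by
  obtain ⟨t, j, y, L, x, p, D⟩ := R.exists_a1Data hq
  refine ⟨D.O R hq, D.O_isCyclic R hq Ln hz, D.card_O R hq Ln hz,
    D.card_normalizer_O R hq Ln hz, ?_⟩
  intro A₀ h₀ hne
  exact normalizer_eq_of_control (D.O_isCyclic R hq Ln hz) h₀ hne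
    (fun o ho ho1 h hc => D.O_control R hq ho ho1 hc)

/-- the cyclic Hall subgroups of orders `q ± r + 1` -/
theorem hall_tori (M : ReeMore R) :
    (∃ A : Subgroup G, IsCyclic A ∧ Nat.card A = q - r + 1 ∧
      Nat.card (Subgroup.normalizer (A : Set G)) = 6 * (q - r + 1) ∧
      ∀ A₀ : Subgroup G, A₀ ≤ A → A₀ ≠ ⊥ →
        Subgroup.normalizer (A₀ : Set G) = Subgroup.normalizer (A : Set G)) ∧
    (∃ A : Subgroup G, IsCyclic A ∧ Nat.card A = q + r + 1 ∧
      Nat.card (Subgroup.normalizer (A : Set G)) = 6 * (q + r + 1) ∧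
      ∀ A₀ : Subgroup G, A₀ ≤ A → A₀ ≠ ⊥ →
        Subgroup.normalizer (A₀ : Set G) = Subgroup.normalizer (A : Set G)) := by
  obtain ⟨Tp, Tm, hTp, hcp, hTm, hcm⟩ := R.exists_two_tori hq Ln hz M
  refine ⟨⟨Tm, hTm.cyc, hcm, by rw [hTm.norm, hcm], fun A₀ h₀ hne => hTm.normalizer_eq h₀ hne⟩,
    ⟨Tp, hTp.cyc, hcp, by rw [hTp.norm, hcp], fun A₀ h₀ hne => hTp.normalizer_eq h₀ hne⟩⟩

end ReeData

end Cfsg.Agent.Helper2.Ree
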