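import Mathlib
import Cfsg.Agent.Lib.Helper17.NilCount5
import Cfsg.Agent.Lib.Helper12.PSL2Orders

/-!
# The number of elements of order `3` of `PSL₂(q)` in characteristic `3`
-/

set_option autoImplicit false
set_option linter.unusedSectionVars false
set_option linter.unusedVariables false
set_option linter.style.haveILetI false

namespace Cfsg.Agent.Helper2.Ree

theorem card_ne_elt {α : Type*} [Finite α] (a : α) :
    Nat.card {x : α // x ≠ a} = Nat.card α - 1 := by
  classical
  haveI : Fintype α := Fintype.ofFinite α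
  rw [Nat.card_eq_fintype_card, Nat.card_eq_fintype_card]
  exact Set.card_ne_eq a

section

variable {F : Type*} [Field F] [CharP F 3]

theorem sl_cube_iff (g : Matrix.SpecialLinearGroup (Fin 2) F) :
    g ^ 3 = 1 ↔ IsNilpotent ((g : Matrix (Fin 2) (Fin 2) F) - 1) := by
  haveI : Fact (Nat.Prime 3) := ⟨Nat.prime_three⟩
  haveI : CharP (Matrix (Fin 2) (Fin 2) F) 3 := Matrix.charP 3
  have hcomm : Commute (g : Matrix (Fin 2) (Fin 2) F) 1 := Commute.one_right _
  constructor
  · intro h
    refine ⟨3, ?_⟩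
    rw [sub_pow_char_of_commute 3 hcomm, one_pow, ← Matrix.SpecialLinearGroup.coe_pow, h]
    simp
  · intro h
    have h2 := Cfsg.Agent.Helper17.NilCount.nilpotent_pow_card h
    rw [Fintype.card_fin] at h2
    have h3 : ((g : Matrix (Fin 2) (Fin 2) F) - 1) ^ 3 = 0 := by
      rw [pow_succ, h2, zero_mul]
    rw [sub_pow_char_of_commute 3 hcomm, one_pow, sub_eq_zero] at h3
    apply Subtype.ext
    rw [Matrix.SpecialLinearGroup.coe_pow, h3]
    rfl

theorem det_one_add_of_isNilpotent {N : Matrix (Fin 2) (Fin 2) F} (hN : IsNilpotent N) :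
    (1 + N).det = 1 := by
  have h2 := Cfsg.Agent.Helper17.NilCount.nilpotent_pow_card hN
  rw [Fintype.card_fin] at h2
  have htr : N.trace = 0 := (Matrix.isNilpotent_trace_of_isNilpotent hN).eq_zero
  have hdet : N.det = 0 := by
    have : N.det ^ 2 = 0 := by rw [← Matrix.det_pow, h2, Matrix.det_zero]
    exact pow_eq_zero_iff (by norm_num) |>.1 this
  rw [Matrix.det_fin_two] at hdet ⊢
  rw [Matrix.trace_fin_two] at htr
  simp only [Matrix.add_apply, Matrix.one_apply_eq, Matrix.one_apply_ne, ne_eq, Fin.isValue,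
    zero_ne_one, one_ne_zero, not_false_eq_true, zero_add]
  linear_combination htr + hdet

end

section finite

variable {F : Type*} [Field F] [Fintype F] [CharP F 3]

theorem sl_card_cube :
    Nat.card {g : Matrix.SpecialLinearGroup (Fin 2) F // g ^ 3 = 1} = Fintype.card F ^ 2 := by
  classical
  have h := Cfsg.Agent.Helper17.NilCount.card_nilpotent (F := F) (α := Fin 2)
  rw [Fintype.card_fin] at h
  have h2 : 2 * (2 - 1) = 2 := by norm_num
  rw [h2] at h
  rw [← h]
  apply Nat.card_congr
  refine ⟨fun g => ⟨(g.1 : Matrix (Fin 2) (Fin 2) F) - 1, (sl_cube_iff g.1).1 g.2⟩,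
    fun N => ⟨(⟨1 + N.1, det_one_add_of_isNilpotent N.2⟩ :
      Matrix.SpecialLinearGroup (Fin 2) F), ?_⟩, ?_, ?_⟩
  · exact (sl_cube_iff (⟨1 + N.1, det_one_add_of_isNilpotent N.2⟩ :
      Matrix.SpecialLinearGroup (Fin 2) F)).2 (by
        show IsNilpotent ((1 + N.1) - 1)
        rw [add_sub_cancel_left]
        exact N.2)
  · intro g
    apply Subtype.ext
    apply Subtype.ext
    show 1 + ((g.1 : Matrix (Fin 2) (Fin 2) F) - 1) = g.1
    abel
  · intro N
    apply Subtype.ext
    show (1 + N.1) - 1 = N.1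
    abel

theorem sl_card_order_three :
    Nat.card {g : Matrix.SpecialLinearGroup (Fin 2) F // orderOf g = 3} =
      Fintype.card F ^ 2 - 1 := by
  classical
  haveI : Fact (Nat.Prime 3) := ⟨Nat.prime_three⟩
  have h1 : Nat.card {g : Matrix.SpecialLinearGroup (Fin 2) F // orderOf g = 3} =
      Nat.card {g : {g : Matrix.SpecialLinearGroup (Fin 2) F // g ^ 3 = 1} //
        g ≠ ⟨1, one_pow 3⟩} := by
    apply Nat.card_congr
    refine ⟨fun g => ⟨⟨g.1, by have := pow_orderOf_eq_one g.1; rwa [g.2] at this⟩, ?_⟩,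
      fun g => ⟨g.1.1, ?_⟩, fun g => rfl, fun g => rfl⟩
    · intro h0
      have h1 : g.1 = 1 := congrArg Subtype.val h0
      have := g.2
      rw [h1, orderOf_one] at this
      omega
    · apply orderOf_eq_prime g.1.2
      intro h0
      exact g.2 (Subtype.ext h0)
  rw [h1, card_ne_elt, sl_card_cube]

/-- **the number of elements of order `3` of `PSL₂(q)`, `q` a power of `3`** -/
theorem psl_card_order_three :
    Nat.card {x : Matrix.ProjectiveSpecialLinearGroup (Fin 2) F // orderOf x = 3} =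
      Fintype.card F ^ 2 - 1 := by
  classical
  haveI : Fact (Nat.Prime 3) := ⟨Nat.prime_three⟩
  rw [← sl_card_order_three]
  symm
  -- the scalars of the centre
  have hscal : ∀ z : Matrix.SpecialLinearGroup (Fin 2) F,
      z ∈ Subgroup.center (Matrix.SpecialLinearGroup (Fin 2) F) → z ^ 3 = 1 → z = 1 := by
    intro z hz h3
    rw [Matrix.SpecialLinearGroup.mem_center_iff] at hz
    obtain ⟨r, hr, hrz⟩ := hz
    rw [Fintype.card_fin] at hr
    have h3' : (z : Matrix (Fin 2) (Fin 2) F) ^ 3 = 1 := by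
      rw [← Matrix.SpecialLinearGroup.coe_pow, h3]
      rfl
    rw [← hrz, ← map_pow] at h3'
    have hr3 : r ^ 3 = 1 := by
      have := congrFun (congrFun h3' 0) 0
      simpa [Matrix.scalar] using this
    have hr1 : r = 1 := by
      have : r ^ 3 = r * r ^ 2 := by ring
      rw [this, hr, mul_one] at hr3
      exact hr3
    apply Subtype.ext
    rw [← hrz, hr1]
    simp
  have hmk3 : ∀ g : Matrix.SpecialLinearGroup (Fin 2) F, orderOf g = 3 →
      orderOf (g : Matrix.ProjectiveSpecialLinearGroup (Fin 2) F) = 3 := by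
    intro g hg
    have hg3 : g ^ 3 = 1 := by rw [← hg]; exact pow_orderOf_eq_one g
    apply orderOf_eq_prime
    · rw [← QuotientGroup.mk_pow, hg3]
      rfl
    · intro h0
      have hc : g ∈ Subgroup.center (Matrix.SpecialLinearGroup (Fin 2) F) :=
        (QuotientGroup.eq_one_iff g).1 h0
      have h1 := hscal g hc hg3
      rw [h1, orderOf_one] at hg
      omega
  apply Nat.card_congr
  refine Equiv.ofBijective (fun g => ⟨(g.1 : Matrix.ProjectiveSpecialLinearGroup (Fin 2) F),
    hmk3 g.1 g.2⟩) ⟨?_, ?_⟩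
  · intro g g' h
    have h1 : (g.1 : Matrix.ProjectiveSpecialLinearGroup (Fin 2) F) = g'.1 :=
      congrArg Subtype.val h
    have h2 : g.1⁻¹ * g'.1 ∈ Subgroup.center (Matrix.SpecialLinearGroup (Fin 2) F) :=
      QuotientGroup.eq.1 h1
    set z := g.1⁻¹ * g'.1 with hz
    have hgz : g'.1 = g.1 * z := by rw [hz]; group
    have hcomm : Commute g.1 z := Subgroup.mem_center_iff.1 h2 g.1
    have e1 : g.1 ^ 3 = 1 := by have := pow_orderOf_eq_one g.1; rwa [g.2] at this
    have e2 : g'.1 ^ 3 = 1 := by have := pow_orderOf_eq_one g'.1; rwa [g'.2] at this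
    have h3 : z ^ 3 = 1 := by
      rw [hgz, hcomm.mul_pow, e1, one_mul] at e2
      exact e2
    have h4 := hscal _ h2 h3
    apply Subtype.ext
    rw [hgz, h4, mul_one]
  · rintro ⟨x, hx⟩
    obtain ⟨g, rfl⟩ := QuotientGroup.mk_surjective x
    have hx3 : (g : Matrix.ProjectiveSpecialLinearGroup (Fin 2) F) ^ 3 = 1 := by
      rw [← hx]
      exact pow_orderOf_eq_one _
    have hc : g ^ 3 ∈ Subgroup.center (Matrix.SpecialLinearGroup (Fin 2) F) := by
      rw [← QuotientGroup.eq_one_iff, QuotientGroup.mk_pow]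
      exact hx3
    have h12 : (g ^ 4) ^ 3 = 1 := by
      rw [Matrix.SpecialLinearGroup.mem_center_iff] at hc
      obtain ⟨r, hr, hrz⟩ := hc
      rw [Fintype.card_fin] at hr
      have e : (g ^ 4) ^ 3 = (g ^ 3) ^ 4 := by rw [← pow_mul, ← pow_mul]
      rw [e]
      apply Subtype.ext
      rw [Matrix.SpecialLinearGroup.coe_pow, ← hrz, ← map_pow]
      have : r ^ 4 = 1 := by
        have : r ^ 4 = (r ^ 2) ^ 2 := by ring
        rw [this, hr, one_pow]
      rw [this]
      simp
    have hmk : ((g ^ 4 : Matrix.SpecialLinearGroup (Fin 2) F) :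
        Matrix.ProjectiveSpecialLinearGroup (Fin 2) F) = g := by
      rw [QuotientGroup.mk_pow]
      have : (g : Matrix.ProjectiveSpecialLinearGroup (Fin 2) F) ^ 4 =
          (g : Matrix.ProjectiveSpecialLinearGroup (Fin 2) F) ^ 3 * g := pow_succ _ 3
      rw [this, hx3, one_mul]
    have ho : orderOf (g ^ 4) = 3 := by
      apply orderOf_eq_prime h12
      intro h0
      rw [h0] at hmk
      have : orderOf (g : Matrix.ProjectiveSpecialLinearGroup (Fin 2) F) = 1 := by
        rw [← hmk]
        exact orderOf_eq_one_iff.2 rfl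
      rw [hx] at this
      omega
    exact ⟨⟨g ^ 4, ho⟩, Subtype.ext hmk⟩

end finite

end Cfsg.Agent.Helper2.Ree
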