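import Mathlib
import Cfsg.Prelude.Def_LieTwisted

/-!
# The seven-dimensional module of `G₂` in characteristic `3`: the span of the short root vectors
-/

set_option autoImplicit false
set_option linter.unusedSectionVars false
set_option linter.unusedVariables false
set_option linter.unusedSimpArgs false

namespace Cfsg.Agent.Helper2.Ree.Blk

open Cfsg Cfsg.Lie

/-- table check: modulo `3`, the span of `h_{i₀}` and the root vectors `e_s`, `sh s`, is invariant -/
def ShortOk (D : ChevalleyDatum) (sh : ℕ → Bool) (i₀ : ℕ) : Prop :=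
  ∀ r < D.nroots,
    (sh (D.negIdx.getD r 0) = sh r) ∧
    (sh r = false → (3 : ℤ) ∣ (D.cartanSR.getD i₀ #[]).getD r 0) ∧
    (sh r = true → ∀ i < D.rank, i ≠ i₀ → (3 : ℤ) ∣ (D.coroot.getD r #[]).getD i 0) ∧
    (∀ e ∈ (D.chain.getD r #[]).toList, sh e.1 = true →
      ∀ q ∈ e.2.toList, sh q.1 = false → (3 : ℤ) ∣ q.2)

instance instDecidableShortOk (D : ChevalleyDatum) (sh : ℕ → Bool) (i₀ : ℕ) :
    Decidable (ShortOk D sh i₀) := by
  unfold ShortOk; infer_instance

/-- the short roots of `G₂` -/
def shG2 (r : ℕ) : Bool := r == 2 || r == 3 || r == 4 || r == 7 || r == 8 || r == 9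

theorem shortOk_g2 : ShortOk chevG2 shG2 0 := by decide

/-- the coordinates of the submodule -/
def inS (D : ChevalleyDatum) (sh : ℕ → Bool) (i₀ : ℕ) : D.Idx → Prop
  | Sum.inl i => i.val = i₀
  | Sum.inr s => sh s.val = true

instance instDecidablePredInS (D : ChevalleyDatum) (sh : ℕ → Bool) (i₀ : ℕ) :
    DecidablePred (inS D sh i₀) := by
  intro i
  rcases i with i | s
  · exact inferInstanceAs (Decidable (i.val = i₀))
  · exact inferInstanceAs (Decidable (sh s.val = true))

theorem chainCoeff_mem' (D : ChevalleyDatum) (r s u : ℕ) (km : ℕ × ℤ)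
    (h : km ∈ D.chainCoeff r s u) :
    ∃ e ∈ (D.chain.getD r #[]).toList, e.1 = s ∧ ∃ q ∈ e.2.toList, q.1 = u ∧ km.2 = q.2 := by
  unfold ChevalleyDatum.chainCoeff at h
  simp only [List.mem_flatMap, List.mem_map, List.mem_filter, decide_eq_true_eq] at h
  obtain ⟨e, ⟨he, hes⟩, q, ⟨hq, hqu⟩, hkm⟩ := h
  exact ⟨e, he, hes, q.1, List.fst_mem_of_mem_zipIdx hq, hqu, by rw [← hkm]⟩

theorem cast3 {F : Type*} [Field F] [CharP F 3] {c : ℤ} (h : (3 : ℤ) ∣ c) : ((c : ℤ) : F) = 0 :=
  (CharP.intCast_eq_zero_iff F 3 c).2 (by exact_mod_cast h)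

/-- block-triangular matrices -/
def IsBlk {F : Type*} [Field F] (D : ChevalleyDatum) (sh : ℕ → Bool) (i₀ : ℕ)
    (M : Matrix D.Idx D.Idx F) : Prop :=
  ∀ row col, ¬ inS D sh i₀ row → inS D sh i₀ col → M row col = 0

theorem xMat_isBlk {F : Type*} [Field F] [CharP F 3] (D : ChevalleyDatum) (sh : ℕ → Bool) (i₀ : ℕ)
    (hD : ShortOk D sh i₀) (r : Fin D.nroots) (t : F) : IsBlk D sh i₀ (D.xMat F r t) := by
  obtain ⟨hneg, hcart, hcor, hchain⟩ := hD r.val r.2
  intro row col hrow hcol
  rcases col with i | s
  · -- column `h_{i₀}`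
    have hi : i.val = i₀ := hcol
    rcases row with i' | u
    · have hi' : i'.val ≠ i₀ := hrow
      have hne : i' ≠ i := fun h => hi' (by rw [h]; exact hi)
      simp [ChevalleyDatum.xMat, hne]
    · have hu : ¬ sh u.val = true := hrow
      by_cases hur : u = r
      · subst hur
        have h3 := hcart (by simpa using hu)
        simp only [ChevalleyDatum.xMat, Matrix.of_apply, if_true]
        rw [hi, cast3 h3]
        simp
      · simp [ChevalleyDatum.xMat, hur]
  · have hs : sh s.val = true := hcol
    by_cases hsr : s = r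
    · rcases row with i' | u
      · simp [ChevalleyDatum.xMat, hsr]
      · have hu : ¬ sh u.val = true := hrow
        have hur : u ≠ r := by
          intro h
          apply hu
          rw [h, ← hsr]
          exact hs
        simp [ChevalleyDatum.xMat, hsr, hur]
    · by_cases hng : s.val = D.negIdx.getD r.val 0
      · -- `s = -r`, so `r` is short
        have hr : sh r.val = true := by
          rw [← hneg, ← hng]
          exact hs
        rcases row with i' | u
        · have hi' : i'.val ≠ i₀ := hrow
          have h3 := hcor hr i'.val i'.2 hi'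
          simp only [ChevalleyDatum.xMat, Matrix.of_apply, hsr, hng, if_false, if_true]
          rw [cast3 h3, zero_mul]
        · have hu : ¬ sh u.val = true := hrow
          have hus : u ≠ s := by
            intro h
            apply hu
            rw [h]
            exact hs
          have hur : u ≠ r := by
            intro h
            apply hu
            rw [h]
            exact hr
          simp [ChevalleyDatum.xMat, hsr, hng, hus, hur]
      · rcases row with i' | u
        · simp only [ChevalleyDatum.xMat, Matrix.of_apply, hsr, hng, if_false]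
        · have hu : ¬ sh u.val = true := hrow
          have hus : u ≠ s := by
            intro h
            apply hu
            rw [h]
            exact hs
          have hsum : ((D.chainCoeff r.val s.val u.val).map
              fun km => ((km.2 : ℤ) : F) * t ^ km.1).sum = 0 := by
            apply List.sum_eq_zero
            intro z hz
            rw [List.mem_map] at hz
            obtain ⟨km, hkm, rfl⟩ := hz
            obtain ⟨e, he, hes, q, hq, hqu, hkq⟩ := chainCoeff_mem' D _ _ _ km hkm
            have h3 := hchain e he (by rw [hes]; exact hs) q hq (by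
              rw [hqu]
              simpa using hu)
            rw [hkq, cast3 h3, zero_mul]
          simp only [ChevalleyDatum.xMat, Matrix.of_apply, hsr, hng, if_false, hsum, add_zero, hus]

theorem isBlk_one {F : Type*} [Field F] (D : ChevalleyDatum) (sh : ℕ → Bool) (i₀ : ℕ) :
    IsBlk D sh i₀ (1 : Matrix D.Idx D.Idx F) := by
  intro row col hrow hcol
  have hne : row ≠ col := by
    intro h
    apply hrow
    rw [h]
    exact hcol
  exact Matrix.one_apply_ne hne

theorem isBlk_mul {F : Type*} [Field F] (D : ChevalleyDatum) (sh : ℕ → Bool) (i₀ : ℕ)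
    {A B : Matrix D.Idx D.Idx F} (hA : IsBlk D sh i₀ A) (hB : IsBlk D sh i₀ B) :
    IsBlk D sh i₀ (A * B) := by
  intro row col hrow hcol
  rw [Matrix.mul_apply]
  apply Finset.sum_eq_zero
  intro k _
  by_cases hk : inS D sh i₀ k
  · rw [hA row k hrow hk, zero_mul]
  · rw [hB k col hk hcol, mul_zero]

theorem x_isBlk {F : Type*} [Field F] [CharP F 3] (D : ChevalleyDatum) (sh : ℕ → Bool) (i₀ : ℕ)
    (hD : ShortOk D sh i₀) (r : ℕ) (t : F) : IsBlk D sh i₀ (D.x F r t) := by
  unfold ChevalleyDatum.x
  split_ifs with h
  · exact xMat_isBlk D sh i₀ hD ⟨r, h⟩ t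
  · exact isBlk_one D sh i₀

theorem wordMat_isBlk {F : Type*} [Field F] [CharP F 3] (D : ChevalleyDatum) (sh : ℕ → Bool)
    (i₀ : ℕ) (hD : ShortOk D sh i₀) (w : List (ℕ × F)) : IsBlk D sh i₀ (D.wordMat F w) := by
  unfold ChevalleyDatum.wordMat
  induction w with
  | nil => simpa using isBlk_one D sh i₀
  | cons p w ih =>
    rw [List.map_cons, List.prod_cons]
    exact isBlk_mul D sh i₀ (x_isBlk D sh i₀ hD p.1 p.2) ih

end Cfsg.Agent.Helper2.Ree.Blk
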