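import Mathlib

/-!
# Linear algebra for the small Ree groups: an element of prime order `ℓ` acting on a space of
dimension `7` over `F_q`, where `q` has order `6` modulo `ℓ`
-/

set_option autoImplicit false
set_option linter.unusedSectionVars false
set_option linter.unusedVariables false

namespace Cfsg.Agent.Helper2.Ree.Lin

open Module

variable {F : Type*} [Field F] [Fintype F] {V : Type*} [AddCommGroup V] [Module F V]
  [FiniteDimensional F V]

/-- invariant subspaces -/
abbrev Inv (φ : Module.End F V) (W : Submodule F V) : Prop := ∀ v ∈ W, φ v ∈ W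

theorem card_modEq_one {φ : Module.End F V} {ℓ : ℕ} (hℓ : ℓ.Prime) (hpow : φ ^ ℓ = 1)
    {W : Submodule F V} (hW : Inv φ W) (hfix : ∀ v ∈ W, φ v = v → v = 0) :
    Fintype.card F ^ Module.finrank F W ≡ 1 [MOD ℓ] := by
  classical
  haveI : Fact ℓ.Prime := ⟨hℓ⟩
  haveI : Finite V := Module.finite_of_finite F
  letI : Fintype W := Fintype.ofFinite W
  let f : Function.End W := fun v => ⟨φ v.1, hW v.1 v.2⟩
  have hfk : ∀ k : ℕ, ∀ v : W, ((f ^ k) v : V) = (φ ^ k) v.1 := by
    intro k
    induction k with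
    | zero => intro v; rfl
    | succ k ih =>
      intro v
      rw [pow_succ', pow_succ']
      show φ ((f ^ k) v : V) = φ ((φ ^ k) v.1)
      rw [ih]
  have hf : f ^ ℓ ^ 1 = 1 := by
    funext v
    apply Subtype.ext
    rw [pow_one, hfk, hpow]
    rfl
  have h1 := Equiv.Perm.card_fixedPoints_modEq hf
  have h2 : Fintype.card (Function.fixedPoints f) = 1 := by
    rw [Fintype.card_eq_one_iff]
    refine ⟨⟨0, ?_⟩, ?_⟩
    · show f 0 = 0
      apply Subtype.ext
      show φ (0 : V) = 0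
      rw [map_zero]
    · rintro ⟨v, hv⟩
      apply Subtype.ext
      have hv' : f v = v := hv
      have hv2 : φ v.1 = v.1 := congrArg Subtype.val hv'
      exact Subtype.ext (hfix v.1 v.2 hv2)
  rw [h2, Module.card_eq_pow_finrank (K := F)] at h1
  exact h1

/-- the arithmetic hypothesis: `q` has order `6` modulo `ℓ` (as far as needed) -/
def NDvd (F : Type*) [Fintype F] (ℓ : ℕ) : Prop :=
  ∀ d, 1 ≤ d → d ≤ 7 → d ≠ 6 → ¬ ℓ ∣ Fintype.card F ^ d - 1

theorem finrank_eq_zero_or_six {φ : Module.End F V} {ℓ : ℕ} (hℓ : ℓ.Prime) (hpow : φ ^ ℓ = 1)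
    (hdim : Module.finrank F V ≤ 7) (hnd : NDvd F ℓ)
    {W : Submodule F V} (hW : Inv φ W) (hfix : ∀ v ∈ W, φ v = v → v = 0) :
    Module.finrank F W = 0 ∨ Module.finrank F W = 6 := by
  have h1 := card_modEq_one hℓ hpow hW hfix
  have hle : Module.finrank F W ≤ 7 := (Submodule.finrank_le W).trans hdim
  have hq : 1 ≤ Fintype.card F := Fintype.card_pos
  have hdvd : ℓ ∣ Fintype.card F ^ Module.finrank F W - 1 :=
    (Nat.modEq_iff_dvd' (Nat.one_le_pow _ _ hq)).1 h1.symm
  rcases Nat.eq_zero_or_pos (Module.finrank F W) with h0 | h0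
  · exact Or.inl h0
  · right
    by_contra h6
    exact hnd _ h0 hle h6 hdvd

/-- the norm element -/
def nrm (φ : Module.End F V) (ℓ : ℕ) : Module.End F V := ∑ i ∈ Finset.range ℓ, φ ^ i

theorem nrm_mul_sub (φ : Module.End F V) (ℓ : ℕ) : nrm φ ℓ * (φ - 1) = φ ^ ℓ - 1 :=
  geom_sum_mul φ ℓ

theorem sub_mul_nrm (φ : Module.End F V) (ℓ : ℕ) : (φ - 1) * nrm φ ℓ = φ ^ ℓ - 1 :=
  mul_geom_sum φ ℓ

theorem commute_nrm {c φ : Module.End F V} (hc : Commute c φ) (ℓ : ℕ) : Commute c (nrm φ ℓ) :=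
  Commute.sum_right _ _ _ (fun i _ => hc.pow_right i)

theorem pow_apply_of_fix {φ : Module.End F V} {v : V} (hv : φ v = v) (k : ℕ) : (φ ^ k) v = v := by
  induction k with
  | zero => rfl
  | succ k ih =>
    rw [pow_succ]
    show (φ ^ k) (φ v) = v
    rw [hv, ih]

theorem nrm_apply_of_fix {φ : Module.End F V} {v : V} (hv : φ v = v) (ℓ : ℕ) :
    nrm φ ℓ v = (ℓ : F) • v := by
  unfold nrm
  rw [LinearMap.sum_apply]
  simp only [pow_apply_of_fix hv]
  rw [Finset.sum_const, Finset.card_range, Nat.cast_smul_eq_nsmul]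

/-- the hypotheses on the semisimple element -/
structure SemiData (φ : Module.End F V) (ℓ : ℕ) : Prop where
  prime : ℓ.Prime
  pow : φ ^ ℓ = 1
  ne_one : φ ≠ 1
  dim : Module.finrank F V = 7
  ndvd : NDvd F ℓ
  cast_ne : (ℓ : F) ≠ 0

namespace SemiData

variable {φ : Module.End F V} {ℓ : ℕ} (h : SemiData φ ℓ)
include h

/-- the non-trivial part -/
def W (h : SemiData φ ℓ) : Submodule F V := LinearMap.ker (nrm φ ℓ)

/-- the fixed part -/
def R (h : SemiData φ ℓ) : Submodule F V := LinearMap.range (nrm φ ℓ)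

theorem mem_W {v : V} : v ∈ h.W ↔ nrm φ ℓ v = 0 := LinearMap.mem_ker

theorem inv_W_of_commute {c : Module.End F V} (hc : Commute c φ) : Inv c h.W := by
  intro v hv
  rw [h.mem_W] at hv ⊢
  have h1 : (nrm φ ℓ * c) v = (c * nrm φ ℓ) v := by rw [(commute_nrm hc ℓ).eq]
  have h2 : nrm φ ℓ (c v) = c (nrm φ ℓ v) := h1
  rw [h2, hv, map_zero]

theorem inv_W : Inv φ h.W := h.inv_W_of_commute (Commute.refl φ)

theorem fix_W {v : V} (hv : v ∈ h.W) (hfix : φ v = v) : v = 0 := by
  rw [h.mem_W, nrm_apply_of_fix hfix] at hv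
  rcases smul_eq_zero.1 hv with h0 | h0
  · exact absurd h0 h.cast_ne
  · exact h0

theorem fix_of_mem_R {v : V} (hv : v ∈ h.R) : φ v = v := by
  obtain ⟨u, rfl⟩ := hv
  have h1 : ((φ - 1) * nrm φ ℓ) u = 0 := by
    rw [sub_mul_nrm, h.pow, sub_self]
    rfl
  have h2 : φ (nrm φ ℓ u) - nrm φ ℓ u = 0 := h1
  exact sub_eq_zero.1 h2

theorem finrank_W : Module.finrank F h.W = 6 := by
  rcases finrank_eq_zero_or_six h.prime h.pow (le_of_eq h.dim) h.ndvd h.inv_W
    (fun v hv hf => h.fix_W hv hf) with h0 | h6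
  · exfalso
    apply h.ne_one
    have hbot : h.W = ⊥ := Submodule.finrank_eq_zero.1 h0
    apply LinearMap.ext
    intro v
    have h1 : (nrm φ ℓ * (φ - 1)) v = 0 := by
      rw [nrm_mul_sub, h.pow, sub_self]
      rfl
    have h2 : (φ - 1) v ∈ h.W := h.mem_W.2 h1
    rw [hbot, Submodule.mem_bot] at h2
    have h3 : φ v - v = 0 := h2
    exact sub_eq_zero.1 h3
  · exact h6

theorem finrank_R : Module.finrank F h.R = 1 := by
  have h1 := LinearMap.finrank_range_add_finrank_ker (nrm φ ℓ)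
  have h2 : Module.finrank F (LinearMap.ker (nrm φ ℓ)) = 6 := h.finrank_W
  have h3 := h.dim
  unfold R
  omega

theorem inv_R_of_commute {c : Module.End F V} (hc : Commute c φ) : Inv c h.R := by
  rintro _ ⟨u, rfl⟩
  refine ⟨c u, ?_⟩
  have h1 : (nrm φ ℓ * c) u = (c * nrm φ ℓ) u := by rw [(commute_nrm hc ℓ).eq]
  exact h1

/-- a basis vector of the fixed part -/
theorem exists_v1 : ∃ v₁ : V, v₁ ≠ 0 ∧ v₁ ∈ h.R ∧ ∀ w ∈ h.R, ∃ μ : F, w = μ • v₁ := by
  obtain ⟨⟨v₁, hv₁⟩, hne, hspan⟩ := finrank_eq_one_iff'.1 h.finrank_R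
  refine ⟨v₁, fun h0 => hne (Subtype.ext h0), hv₁, fun w hw => ?_⟩
  obtain ⟨μ, hμ⟩ := hspan ⟨w, hw⟩
  exact ⟨μ, (congrArg Subtype.val hμ).symm⟩

theorem decomp (v : V) : ∃ r ∈ h.R, ∃ w ∈ h.W, v = r + w := by
  refine ⟨(ℓ : F)⁻¹ • nrm φ ℓ v, Submodule.smul_mem _ _ ⟨v, rfl⟩,
    v - (ℓ : F)⁻¹ • nrm φ ℓ v, ?_, (add_sub_cancel _ _).symm⟩
  rw [h.mem_W, map_sub, map_smul, nrm_apply_of_fix (h.fix_of_mem_R ⟨v, rfl⟩), smul_smul,
    inv_mul_cancel₀ h.cast_ne, one_smul, sub_self]

theorem eq_of_agree {c d : Module.End F V} {v₁ : V} (hv₁ : ∀ w ∈ h.R, ∃ μ : F, w = μ • v₁)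
    (h1 : c v₁ = d v₁) (hW : ∀ w ∈ h.W, c w = d w) : c = d := by
  apply LinearMap.ext
  intro v
  obtain ⟨r, hr, w, hw, rfl⟩ := h.decomp v
  obtain ⟨μ, rfl⟩ := hv₁ r hr
  rw [map_add, map_add, map_smul, map_smul, h1, hW w hw]

/-- an endomorphism commuting with `φ` acts as a scalar on the fixed part -/
theorem exists_scalar {c : Module.End F V} (hc : Commute c φ) {v₁ : V} (hv₁R : v₁ ∈ h.R)
    (hv₁ : ∀ w ∈ h.R, ∃ μ : F, w = μ • v₁) : ∃ μ : F, c v₁ = μ • v₁ :=
  hv₁ _ (h.inv_R_of_commute hc v₁ hv₁R)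

/-- the restriction to `W` of an endomorphism commuting with `φ` -/
noncomputable def resW (c : Module.End F V) (hc : Commute c φ) : Module.End F h.W :=
  c.restrict (h.inv_W_of_commute hc)

theorem resW_apply (c : Module.End F V) (hc : Commute c φ) (w : h.W) :
    ((h.resW c hc) w : V) = c w.1 := rfl

theorem phiW_pow : (h.resW φ (Commute.refl φ)) ^ ℓ = 1 := by
  unfold resW
  rw [Module.End.pow_restrict]
  apply LinearMap.ext
  intro w
  apply Subtype.ext
  show (φ ^ ℓ) w.1 = w.1
  rw [h.pow]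
  rfl

/-- `W` is irreducible -/
theorem irr (K : Submodule F h.W) (hK : Inv (h.resW φ (Commute.refl φ)) K) : K = ⊥ ∨ K = ⊤ := by
  have hfix : ∀ w ∈ K, (h.resW φ (Commute.refl φ)) w = w → w = 0 := fun w _ hw =>
    Subtype.ext (h.fix_W w.2 (congrArg Subtype.val hw))
  rcases finrank_eq_zero_or_six h.prime h.phiW_pow (by rw [h.finrank_W]; norm_num) h.ndvd hK hfix
    with h0 | h6
  · left
    exact Submodule.finrank_eq_zero.1 h0
  · right
    apply Submodule.eq_top_of_finrank_eq
    rw [h6, h.finrank_W]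

/-- the centraliser algebra of the restriction of `φ` to `W` -/
noncomputable def E (h : SemiData φ ℓ) : Subalgebra F (Module.End F h.W) :=
  Subalgebra.centralizer F {h.resW φ (Commute.refl φ)}

theorem mem_E {a : Module.End F h.W} :
    a ∈ h.E ↔ h.resW φ (Commute.refl φ) * a = a * h.resW φ (Commute.refl φ) := by
  unfold E
  rw [Subalgebra.mem_centralizer_iff]
  constructor
  · intro h1
    exact h1 _ rfl
  · rintro h1 g rfl
    exact h1

theorem resW_mem_E (c : Module.End F V) (hc : Commute c φ) : h.resW c hc ∈ h.E := by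
  rw [h.mem_E]
  apply LinearMap.ext
  intro w
  apply Subtype.ext
  show φ (c w.1) = c (φ w.1)
  have h1 : (c * φ) w.1 = (φ * c) w.1 := by rw [hc.eq]
  exact h1.symm

theorem E_noZeroDivisors : NoZeroDivisors h.E := by
  refine ⟨fun {a b} hab => ?_⟩
  by_cases ha : a = 0
  · exact Or.inl ha
  right
  have ha' : a.1 ≠ 0 := fun h0 => ha (Subtype.ext h0)
  have hinv : Inv (h.resW φ (Commute.refl φ)) (LinearMap.ker a.1) := by
    intro w hw
    rw [LinearMap.mem_ker] at hw ⊢
    have h1 := h.mem_E.1 a.2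
    have h2 : a.1 ((h.resW φ (Commute.refl φ)) w) = (h.resW φ (Commute.refl φ)) (a.1 w) :=
      (congrArg (fun f : Module.End F h.W => f w) h1).symm
    rw [h2, hw, map_zero]
  rcases h.irr _ hinv with hk | hk
  · apply Subtype.ext
    apply LinearMap.ext
    intro w
    have h2 : a.1 * b.1 = 0 := congrArg Subtype.val hab
    have h1 : a.1 (b.1 w) = 0 := congrArg (fun f : Module.End F h.W => f w) h2
    have h3 : b.1 w ∈ LinearMap.ker a.1 := LinearMap.mem_ker.2 h1
    rw [hk, Submodule.mem_bot] at h3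
    exact h3
  · exfalso
    apply ha'
    apply LinearMap.ext
    intro w
    have : w ∈ LinearMap.ker a.1 := by rw [hk]; exact Submodule.mem_top
    exact LinearMap.mem_ker.1 this

theorem E_nontrivial : Nontrivial h.E := by
  haveI : Nontrivial h.W := Module.nontrivial_of_finrank_pos (R := F) (by rw [h.finrank_W]; norm_num)
  obtain ⟨w, hw⟩ := exists_ne (0 : h.W)
  refine ⟨⟨0, 1, fun h01 => hw ?_⟩⟩
  have h1 : (0 : Module.End F h.W) = 1 := congrArg Subtype.val h01
  have h2 : (0 : Module.End F h.W) w = (1 : Module.End F h.W) w :=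
    congrArg (fun f : Module.End F h.W => f w) h1
  exact h2.symm

theorem E_isField : IsField h.E := by
  haveI := h.E_noZeroDivisors
  haveI := h.E_nontrivial
  haveI : IsDomain h.E := @NoZeroDivisors.to_isDomain h.E _ _ _
  haveI : Finite (Module.End F h.W) := Module.finite_of_finite F
  exact Finite.isDomain_to_isField h.E

/-- the centraliser algebra of `φ` -/
noncomputable def Cent (h : SemiData φ ℓ) : Subalgebra F (Module.End F V) :=
  Subalgebra.centralizer F {φ}

theorem mem_Cent {c : Module.End F V} : c ∈ h.Cent ↔ Commute c φ := by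
  unfold Cent
  rw [Subalgebra.mem_centralizer_iff]
  constructor
  · intro h1
    exact (h1 φ rfl).symm
  · rintro h1 g rfl
    exact h1.eq.symm

/-- restriction to `W` as a homomorphism of algebras -/
noncomputable def resHom : h.Cent →ₐ[F] h.E where
  toFun c := ⟨h.resW c.1 (h.mem_Cent.1 c.2), h.resW_mem_E _ _⟩
  map_one' := Subtype.ext (LinearMap.ext fun w => Subtype.ext rfl)
  map_mul' a b := Subtype.ext (LinearMap.ext fun w => Subtype.ext rfl)
  map_zero' := Subtype.ext (LinearMap.ext fun w => Subtype.ext rfl)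
  map_add' a b := Subtype.ext (LinearMap.ext fun w => Subtype.ext rfl)
  commutes' r := Subtype.ext (LinearMap.ext fun w => Subtype.ext rfl)

theorem resHom_val (c : h.Cent) : (h.resHom c).1 = h.resW c.1 (h.mem_Cent.1 c.2) := rfl

end SemiData

open Polynomial in
theorem ncard_le_of_roots {R : Type*} [Ring R] [IsDomain R] [Algebra F R]
    (hcomm : ∀ a b : R, a * b = b * a) (p : F[X]) (hp : p.Monic) (s : Set R)
    (hs : ∀ a ∈ s, aeval a p = 0) : s.ncard ≤ p.natDegree := by
  classical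
  letI : CommRing R := { (inferInstance : Ring R) with mul_comm := hcomm }
  have hsub : s ⊆ ((p.map (algebraMap F R)).roots.toFinset : Set R) := by
    intro a ha
    rw [Finset.mem_coe, Multiset.mem_toFinset, Polynomial.mem_roots', Polynomial.IsRoot.def,
      Polynomial.eval_map, ← Polynomial.aeval_def]
    exact ⟨(hp.map _).ne_zero, hs a ha⟩
  calc s.ncard ≤ ((p.map (algebraMap F R)).roots.toFinset : Set R).ncard :=
        Set.ncard_le_ncard hsub (Finset.finite_toSet _)
    _ = (p.map (algebraMap F R)).roots.toFinset.card := Set.ncard_coe_finset _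
    _ ≤ Multiset.card (p.map (algebraMap F R)).roots := Multiset.toFinset_card_le _
    _ ≤ (p.map (algebraMap F R)).natDegree := Polynomial.card_roots' _
    _ ≤ p.natDegree := Polynomial.natDegree_map_le

theorem aeval_conj (u u' c : Module.End F V) (huu' : u * u' = 1) (hu'u : u' * u = 1)
    (p : Polynomial F) :
    Polynomial.aeval (u * c * u') p = u * Polynomial.aeval c p * u' := by
  induction p using Polynomial.induction_on' with
  | add p q hp hq => rw [map_add, map_add, hp, hq, mul_add, add_mul]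
  | monomial n a =>
    rw [Polynomial.aeval_monomial, Polynomial.aeval_monomial]
    have hpow : (u * c * u') ^ n = u * c ^ n * u' := by
      induction n with
      | zero => rw [pow_zero, pow_zero, mul_one, huu']
      | succ n ih =>
        rw [pow_succ, ih, pow_succ]
        calc u * c ^ n * u' * (u * c * u') = u * c ^ n * (u' * u) * c * u' := by
              simp only [mul_assoc]
          _ = u * (c ^ n * c) * u' := by
              rw [hu'u, mul_one]
              simp only [mul_assoc]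
    rw [hpow]
    calc algebraMap F (Module.End F V) a * (u * c ^ n * u')
        = (algebraMap F (Module.End F V) a * u) * (c ^ n * u') := by simp only [mul_assoc]
      _ = (u * algebraMap F (Module.End F V) a) * (c ^ n * u') := by rw [Algebra.commutes]
      _ = u * (algebraMap F (Module.End F V) a * c ^ n) * u' := by simp only [mul_assoc]

theorem pow_apply_scalar {c : Module.End F V} {v₁ : V} {μ : F} (hμ : c v₁ = μ • v₁) (k : ℕ) :
    (c ^ k) v₁ = μ ^ k • v₁ := by
  induction k with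
  | zero => simp
  | succ k ih =>
    rw [pow_succ]
    show (c ^ k) (c v₁) = _
    rw [hμ, map_smul, ih, smul_smul, pow_succ']

section group

variable {Γ : Type*} [Group Γ] [Finite Γ] (ρ : Γ →* Module.End F V)
  (hρ : Function.Injective ρ) {x : Γ} {ℓ : ℕ} (h : SemiData (ρ x) ℓ)

theorem commute_of_comm {g : Γ} (hg : g * x = x * g) : Commute (ρ g) (ρ x) := by
  show ρ g * ρ x = ρ x * ρ g
  rw [← map_mul, ← map_mul, hg]

include hρ h

/-- the centraliser of `x` is abelian -/
theorem comm_of_commute {g g' : Γ} (hg : g * x = x * g) (hg' : g' * x = x * g') :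
    g * g' = g' * g := by
  apply hρ
  rw [map_mul, map_mul]
  obtain ⟨v₁, hne, hv₁R, hv₁⟩ := h.exists_v1
  have hc := commute_of_comm ρ hg
  have hd := commute_of_comm ρ hg'
  obtain ⟨μ, hμ⟩ := h.exists_scalar hc hv₁R hv₁
  obtain ⟨ν, hν⟩ := h.exists_scalar hd hv₁R hv₁
  apply h.eq_of_agree hv₁
  · show ρ g (ρ g' v₁) = ρ g' (ρ g v₁)
    rw [hν, hμ, map_smul, map_smul, hμ, hν, smul_smul, smul_smul, mul_comm]
  · intro w hw
    have h1 := h.E_isField.mul_comm ⟨h.resW _ hc, h.resW_mem_E _ hc⟩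
      ⟨h.resW _ hd, h.resW_mem_E _ hd⟩
    have h2 : h.resW _ hc * h.resW _ hd = h.resW _ hd * h.resW _ hc := congrArg Subtype.val h1
    have h3 := congrArg (fun f : Module.End F h.W => ((f ⟨w, hw⟩ : h.W) : V)) h2
    exact h3

theorem eq_one_of_res_eq_one {g : Γ} (hg : g * x = x * g) {n : ℕ} (hn : g ^ n = 1)
    (hcop : Nat.Coprime n (Fintype.card F - 1))
    (hres : h.resW (ρ g) (commute_of_comm ρ hg) = 1) : g = 1 := by
  obtain ⟨v₁, hne, hv₁R, hv₁⟩ := h.exists_v1
  have hc := commute_of_comm ρ hg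
  obtain ⟨μ, hμ⟩ := h.exists_scalar hc hv₁R hv₁
  have h1 : μ ^ n = 1 := by
    have h2 := pow_apply_scalar hμ n
    rw [← map_pow, hn, map_one] at h2
    have h2' : v₁ = μ ^ n • v₁ := h2
    have h3 : (μ ^ n - 1) • v₁ = 0 := by
      rw [sub_smul, one_smul, ← h2', sub_self]
    rcases smul_eq_zero.1 h3 with h4 | h4
    · exact sub_eq_zero.1 h4
    · exact absurd h4 hne
  have hμ0 : μ ≠ 0 := by
    rintro rfl
    apply hne
    have h5 : (ρ g⁻¹ * ρ g) v₁ = v₁ := by
      rw [← map_mul, inv_mul_cancel, map_one]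
      rfl
    have h6 : (ρ g⁻¹) (ρ g v₁) = v₁ := h5
    rw [hμ, zero_smul, map_zero] at h6
    exact h6.symm
  have h2 : μ ^ (Fintype.card F - 1) = 1 := FiniteField.pow_card_sub_one_eq_one μ hμ0
  have h3 : μ ^ Nat.gcd n (Fintype.card F - 1) = 1 := pow_gcd_eq_one.2 ⟨h1, h2⟩
  rw [Nat.Coprime.gcd_eq_one hcop, pow_one] at h3
  apply hρ
  rw [map_one]
  apply h.eq_of_agree hv₁
  · rw [hμ, h3, one_smul]
    rfl
  · intro w hw
    have := congrArg (fun f : Module.End F h.W => ((f ⟨w, hw⟩ : h.W) : V)) hres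
    exact this

/-- a subgroup of the centraliser of `x` of order prime to `q - 1` is cyclic -/
theorem isCyclic_of_coprime (P : Subgroup Γ) (hP : ∀ g ∈ P, g * x = x * g)
    (hcop : Nat.Coprime (Nat.card P) (Fintype.card F - 1)) : IsCyclic P := by
  letI : Field h.E := h.E_isField.toField
  let f : P →* h.E :=
    { toFun := fun g => ⟨h.resW (ρ g.1) (commute_of_comm ρ (hP g.1 g.2)), h.resW_mem_E _ _⟩
      map_one' := by
        apply Subtype.ext
        apply LinearMap.ext
        intro w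
        apply Subtype.ext
        show ρ (1 : Γ) w.1 = w.1
        rw [map_one]
        rfl
      map_mul' := by
        intro a b
        apply Subtype.ext
        apply LinearMap.ext
        intro w
        apply Subtype.ext
        show ρ (a.1 * b.1) w.1 = ρ a.1 (ρ b.1 w.1)
        rw [map_mul]
        rfl }
  apply isCyclic_of_injective_ringHom f
  rw [injective_iff_map_eq_one]
  intro g hg
  have hres : h.resW (ρ g.1) (commute_of_comm ρ (hP g.1 g.2)) = 1 := congrArg Subtype.val hg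
  have hpow : g.1 ^ Nat.card P = 1 := by
    have := pow_card_eq_one' (G := P) (x := g)
    have h2 := congrArg Subtype.val this
    rw [Subgroup.coe_pow, Subgroup.coe_one] at h2
    exact h2
  exact Subtype.ext (eq_one_of_res_eq_one ρ hρ h (hP g.1 g.2) hpow hcop hres)

/-- at most six elements of `⟨x⟩` are conjugate to `x` -/
theorem card_conj_le :
    Nat.card {y : Γ // y ∈ Subgroup.zpowers x ∧ ∃ n : Γ, y = n * x * n⁻¹} ≤ 6 := by
  classical
  obtain ⟨v₁, hne, hv₁R, hv₁⟩ := h.exists_v1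
  have hfix₁ : ρ x v₁ = v₁ := h.fix_of_mem_R hv₁R
  have hcomm : ∀ y : Γ, y ∈ Subgroup.zpowers x → y * x = x * y := by
    intro y hy
    obtain ⟨k, rfl⟩ := Subgroup.mem_zpowers_iff.1 hy
    exact (Commute.zpow_left (Commute.refl x) k).eq
  have hfixy : ∀ y : Γ, y ∈ Subgroup.zpowers x → ρ y v₁ = v₁ := by
    intro y hy
    rw [← mem_powers_iff_mem_zpowers] at hy
    obtain ⟨k, rfl⟩ := (Submonoid.mem_powers_iff _ _).1 hy
    rw [map_pow]
    exact pow_apply_of_fix hfix₁ k
  set χ := LinearMap.charpoly (ρ x) with hχ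
  have hχ0 : Polynomial.aeval (ρ x) χ = 0 := LinearMap.aeval_self_charpoly (ρ x)
  have hdeg : χ.natDegree = 7 := by rw [hχ, LinearMap.charpoly_natDegree, h.dim]
  have hmonic : χ.Monic := LinearMap.charpoly_monic (ρ x)
  -- the element of `E` attached to `y ∈ ⟨x⟩`
  let a : {y : Γ // y ∈ Subgroup.zpowers x} → h.E := fun y =>
    h.resHom ⟨ρ y.1, h.mem_Cent.2 (commute_of_comm ρ (hcomm y.1 y.2))⟩
  have ha_inj : Function.Injective a := by
    intro y y' hyy'
    apply Subtype.ext
    apply hρ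
    apply h.eq_of_agree hv₁
    · rw [hfixy y.1 y.2, hfixy y'.1 y'.2]
    · intro w hw
      have h1 : (a y).1 = (a y').1 := congrArg Subtype.val hyy'
      have := congrArg (fun f : Module.End F h.W => ((f ⟨w, hw⟩ : h.W) : V)) h1
      exact this
  -- the roots
  have hroot : ∀ y : {y : Γ // y ∈ Subgroup.zpowers x}, (∃ n : Γ, y.1 = n * x * n⁻¹) →
      Polynomial.aeval (a y) χ = 0 := by
    rintro ⟨y, hy⟩ ⟨n, rfl⟩
    show Polynomial.aeval (h.resHom _) χ = 0
    rw [Polynomial.aeval_algHom_apply]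
    have h0 : Polynomial.aeval (⟨ρ (n * x * n⁻¹),
        h.mem_Cent.2 (commute_of_comm ρ (hcomm _ hy))⟩ : h.Cent) χ = 0 := by
      have e1 := Polynomial.aeval_algHom_apply h.Cent.val (⟨ρ (n * x * n⁻¹),
        h.mem_Cent.2 (commute_of_comm ρ (hcomm _ hy))⟩ : h.Cent) χ
      apply Subtype.ext
      refine e1.symm.trans ?_
      show Polynomial.aeval (ρ (n * x * n⁻¹)) χ = 0
      rw [map_mul, map_mul, aeval_conj (ρ n) (ρ n⁻¹) (ρ x)
        (by rw [← map_mul, mul_inv_cancel, map_one]) (by rw [← map_mul, inv_mul_cancel, map_one]),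
        hχ0, mul_zero, zero_mul]
    rw [h0, map_zero]
  have hroot1 : Polynomial.aeval (a ⟨1, one_mem _⟩) χ = 0 := by
    have h1 : a ⟨1, one_mem _⟩ = 1 := by
      show h.resHom _ = 1
      have : (⟨ρ (1 : Γ), h.mem_Cent.2 (commute_of_comm ρ (hcomm 1 (one_mem _)))⟩ : h.Cent) = 1 :=
        Subtype.ext (map_one ρ)
      rw [this, map_one]
    rw [h1]
    have hev : χ.eval 1 = 0 := by
      have hev1 := Module.End.aeval_apply_of_hasEigenvector (f := ρ x) (μ := 1) (x := v₁) (p := χ)
        ⟨Module.End.mem_eigenspace_iff.2 (by rw [hfix₁, one_smul]), hne⟩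
      rw [hχ0] at hev1
      have hev2 : (0 : V) = χ.eval 1 • v₁ := hev1
      rcases smul_eq_zero.1 hev2.symm with h4 | h4
      · exact h4
      · exact absurd h4 hne
    rw [← map_one (algebraMap F h.E), Polynomial.aeval_algebraMap_apply]
    have : Polynomial.aeval (1 : F) χ = χ.eval 1 := congrFun (Polynomial.coe_aeval_eq_eval 1) χ
    rw [this, hev, map_zero]
  -- counting
  set s : Set h.E := a '' {y | y.1 = 1 ∨ ∃ n : Γ, y.1 = n * x * n⁻¹} with hs
  haveI := h.E_noZeroDivisors
  haveI := h.E_nontrivial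
  haveI : IsDomain h.E := @NoZeroDivisors.to_isDomain h.E _ _ _
  have hle : s.ncard ≤ 7 := by
    rw [← hdeg]
    apply ncard_le_of_roots h.E_isField.mul_comm χ hmonic
    rintro _ ⟨y, hy, rfl⟩
    rcases hy with hy | hy
    · have : y = ⟨1, one_mem _⟩ := Subtype.ext hy
      rw [this]
      exact hroot1
    · exact hroot y hy
  rw [hs, Set.ncard_image_of_injective _ ha_inj] at hle
  -- the set is `{1}` together with the conjugates
  let ι : Option {y : Γ // y ∈ Subgroup.zpowers x ∧ ∃ n : Γ, y = n * x * n⁻¹} →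
      {y : {y : Γ // y ∈ Subgroup.zpowers x} // y.1 = 1 ∨ ∃ n : Γ, y.1 = n * x * n⁻¹} := fun o =>
    match o with
    | none => ⟨⟨1, one_mem _⟩, Or.inl rfl⟩
    | some y => ⟨⟨y.1, y.2.1⟩, Or.inr y.2.2⟩
  have hx1 : x ≠ 1 := by
    intro hx
    apply h.ne_one
    rw [hx, map_one]
  have hι : Function.Injective ι := by
    intro o o' hoo'
    have hval : (ι o).1.1 = (ι o').1.1 := by rw [hoo']
    rcases o with _ | y <;> rcases o' with _ | y'
    · rfl
    · exfalso
      have h1 : (1 : Γ) = y'.1 := hval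
      obtain ⟨n, hn⟩ := y'.2.2
      apply hx1
      have : x = n⁻¹ * y'.1 * n := by rw [hn]; group
      rw [this, ← h1]
      group
    · exfalso
      have h1 : y.1 = (1 : Γ) := hval
      obtain ⟨n, hn⟩ := y.2.2
      apply hx1
      have : x = n⁻¹ * y.1 * n := by rw [hn]; group
      rw [this, h1]
      group
    · have h1 : y.1 = y'.1 := hval
      rw [Subtype.ext h1]
  have h7 := Nat.card_le_card_of_injective ι hι
  rw [Finite.card_option] at h7
  have h8 : Nat.card {y : {y : Γ // y ∈ Subgroup.zpowers x} //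
      y.1 = 1 ∨ ∃ n : Γ, y.1 = n * x * n⁻¹} =
      ({y : {y : Γ // y ∈ Subgroup.zpowers x} | y.1 = 1 ∨ ∃ n : Γ, y.1 = n * x * n⁻¹}).ncard :=
    Nat.card_coe_set_eq _
  rw [h8] at h7
  omega

end group

end Cfsg.Agent.Helper2.Ree.Lin
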