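import Mathlib
import Cfsg.Agent.Lib.Lead.TwReeSimple
import Cfsg.Agent.Lib.Lead.TwG2H
import Cfsg.Agent.Lib.Lead.TwG2Gen
import Cfsg.Agent.Lib.Helper2.Ree7Blk
import Cfsg.Agent.Lib.Helper2.Ree7Lin
import Cfsg.Agent.Lib.Helper2.Ree1

/-!
# The seven-dimensional representation of the small Ree groups
-/

set_option autoImplicit false
set_option linter.unusedSectionVars false
set_option linter.unusedVariables false
set_option linter.unusedSimpArgs false

namespace Cfsg.Agent.Helper2.Ree.Rep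

open Cfsg Cfsg.Lie Cfsg.Agent.Helper2.Ree.Blk

/-- the index set of the seven-dimensional module -/
abbrev S7 : Type := {i : chevG2.Idx // inS chevG2 shG2 0 i}

theorem card_S7 : Fintype.card S7 = 7 := by decide

section blk

variable {F : Type*} [Field F] (D : ChevalleyDatum) (sh : ℕ → Bool) (i₀ : ℕ)

theorem isBlk_pow {A : Matrix D.Idx D.Idx F} (hA : IsBlk D sh i₀ A) (n : ℕ) :
    IsBlk D sh i₀ (A ^ n) := by
  induction n with
  | zero => rw [pow_zero]; exact isBlk_one D sh i₀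
  | succ n ih => rw [pow_succ]; exact isBlk_mul D sh i₀ ih hA

theorem isBlk_inv [Finite F] {g : GL D.Idx F}
    (hg : IsBlk D sh i₀ (g : Matrix D.Idx D.Idx F)) :
    IsBlk D sh i₀ ((g⁻¹ : GL D.Idx F) : Matrix D.Idx D.Idx F) := by
  have hfin : IsOfFinOrder g := isOfFinOrder_of_finite g
  have hpos := hfin.orderOf_pos
  have h1 : g⁻¹ = g ^ (orderOf g - 1) := by
    rw [inv_eq_iff_mul_eq_one, ← pow_succ']
    have : orderOf g - 1 + 1 = orderOf g := by omega
    rw [this, pow_orderOf_eq_one]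
  rw [h1, Units.val_pow_eq_pow_val]
  exact isBlk_pow D sh i₀ hg _

theorem submatrix_mul {A B : Matrix D.Idx D.Idx F} (hB : IsBlk D sh i₀ B) :
    (A * B).submatrix (Subtype.val : {i // inS D sh i₀ i} → D.Idx)
        (Subtype.val : {i // inS D sh i₀ i} → D.Idx) =
      A.submatrix (Subtype.val : {i // inS D sh i₀ i} → D.Idx)
        (Subtype.val : {i // inS D sh i₀ i} → D.Idx) *
      B.submatrix (Subtype.val : {i // inS D sh i₀ i} → D.Idx)
        (Subtype.val : {i // inS D sh i₀ i} → D.Idx) := by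
  ext i j
  rw [Matrix.submatrix_apply, Matrix.mul_apply, Matrix.mul_apply]
  have h1 : ∑ k, A i.1 k * B k j.1 =
      ∑ k ∈ Finset.univ.filter (fun k => inS D sh i₀ k), A i.1 k * B k j.1 := by
    symm
    apply Finset.sum_filter_of_ne
    intro k _ hk
    by_contra hS
    apply hk
    rw [hB k j.1 hS j.2, mul_zero]
  rw [h1]
  rw [Finset.sum_subtype (Finset.univ.filter (fun k => inS D sh i₀ k)) (p := inS D sh i₀)
    (fun k => by simp)]
  rfl

end blk

section rep

variable {K : Type*} [Field K] [Fintype K] [CharP K 3] {e : ℕ}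

theorem mem_blk {g : GL chevG2.Idx K} (hg : g ∈ twistedG2 K e) :
    IsBlk chevG2 shG2 0 (g : Matrix chevG2.Idx chevG2.Idx K) := by
  unfold twistedG2 ChevalleyDatum.genSubgroup at hg
  induction hg using Subgroup.closure_induction with
  | mem x hx =>
    obtain ⟨w, _, hw⟩ := hx
    rw [hw]
    exact wordMat_isBlk chevG2 shG2 0 shortOk_g2 w
  | one => exact isBlk_one _ _ _
  | mul x y _ _ hx hy => exact isBlk_mul _ _ _ hx hy
  | inv x _ hx => exact isBlk_inv _ _ _ hx

/-- the matrix representation on the seven-dimensional module -/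
def rhoMat (K : Type*) [Field K] [Fintype K] [CharP K 3] (e : ℕ) :
    ↥(twistedG2 K e) →* Matrix S7 S7 K where
  toFun g := ((g : GL chevG2.Idx K) : Matrix chevG2.Idx chevG2.Idx K).submatrix
    Subtype.val Subtype.val
  map_one' := by
    show (1 : Matrix chevG2.Idx chevG2.Idx K).submatrix _ _ = 1
    exact Matrix.submatrix_one _ Subtype.val_injective
  map_mul' a b := by
    show ((a : GL chevG2.Idx K) * (b : GL chevG2.Idx K) : GL chevG2.Idx K).val.submatrix _ _ = _
    rw [Units.val_mul]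
    exact submatrix_mul chevG2 shG2 0 (mem_blk b.2)

theorem rhoMat_apply (g : ↥(twistedG2 K e)) (i j : S7) :
    rhoMat K e g i j = ((g : GL chevG2.Idx K) : Matrix chevG2.Idx chevG2.Idx K) i.1 j.1 := rfl

/-- the linear representation on the seven-dimensional module -/
noncomputable def rho (K : Type*) [Field K] [Fintype K] [CharP K 3] (e : ℕ) :
    ↥(twistedG2 K e) →* Module.End K (S7 → K) :=
  (Matrix.toLinAlgEquiv' (R := K) (n := S7)).toRingEquiv.toMulEquiv.toMonoidHom.comp (rhoMat K e)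

theorem finrank_S7 : Module.finrank K (S7 → K) = 7 := by
  rw [Module.finrank_fintype_fun_eq_card, card_S7]

theorem rho_injective_of (h : Function.Injective (rhoMat K e)) : Function.Injective (rho K e) := by
  unfold rho
  intro a b hab
  apply h
  simpa using hab

end rep

section inj

open Cfsg.Agent.Lead.Tw.G2 Cfsg.Agent.Lead.Chev

variable {K : Type*} [Field K] [Fintype K] [CharP K 3] {m : ℕ}
  (hK : Fintype.card K = 3 ^ (2 * m + 1))
  (hperf : ∀ x : K, ∃ y : K, y ^ 3 = x) (f : K ≃+* K) (hf : ∀ t, f t = t ^ (3 ^ m))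
include hK hperf hf

theorem rhoMat_a_ne_one :
    rhoMat K (3 ^ m) ⟨pHom (m := m) (-1 : Kˣ), (pHom_mem hK hperf f hf (-1 : Kˣ)).2⟩ ≠ 1 := by
  intro h
  have h7 : inS chevG2 shG2 0 (Sum.inr ⟨7, by decide⟩) := by decide
  have h1 := congrFun (congrFun h ⟨Sum.inr ⟨7, by decide⟩, h7⟩) ⟨Sum.inr ⟨7, by decide⟩, h7⟩
  rw [rhoMat_apply, Matrix.one_apply_eq] at h1
  simp only [pHom_val] at h1
  unfold Tmat at h1
  rw [Matrix.diagonal_apply_eq] at h1
  simp only [Sum.elim_inr] at h1
  rw [chi_p, cartan_vals7.1, cartan_vals7.2, Units.val_neg, Units.val_one,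
    Odd.neg_one_pow (Odd.pow (by decide))] at h1
  have h3 : (3 : K) = 0 := by
    have := CharP.cast_eq_zero K 3
    exact_mod_cast this
  have h2 : ((-1 : K)) ^ (2 : ℤ) * (-1 : K) ^ (-1 : ℤ) = -1 := by
    rw [zpow_neg_one, inv_neg_one]
    norm_num
  rw [h2] at h1
  have : (1 : K) = 0 := by linear_combination h3 + h1
  exact one_ne_zero this

theorem rhoMat_injective (hm : 1 ≤ m) : Function.Injective (rhoMat K (3 ^ m)) := by
  have := (simple hK hperf f hf hm).1
  rw [← MonoidHom.ker_eq_bot_iff]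
  rcases (rhoMat K (3 ^ m)).normal_ker.eq_bot_or_eq_top with h | h
  · exact h
  · exfalso
    apply rhoMat_a_ne_one hK hperf f hf
    have : (⟨pHom (m := m) (-1 : Kˣ), (pHom_mem hK hperf f hf (-1 : Kˣ)).2⟩ :
        ↥(twistedG2 K (3 ^ m))) ∈ (rhoMat K (3 ^ m)).ker := by
      rw [h]
      trivial
    exact MonoidHom.mem_ker.1 this

theorem rho_injective (hm : 1 ≤ m) : Function.Injective (rho K (3 ^ m)) :=
  rho_injective_of (rhoMat_injective hK hperf f hf hm)

end inj

section arith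

/-- the order of `q` modulo a prime divisor of `q² - q + 1` is `6` -/
theorem ndvd_of_dvd {q ℓ : ℕ} (hℓ : ℓ.Prime) (hD : ℓ ∣ q * q - q + 1) (h3 : 3 ∣ q)
    (hodd : q % 2 = 1) :
    ∀ d, 1 ≤ d → d ≤ 7 → d ≠ 6 → ¬ ℓ ∣ q ^ d - 1 := by
  intro d hd1 hd7 hd6 hdvd
  have : Fact ℓ.Prime := ⟨hℓ⟩
  have hq : 0 < q := by omega
  have hle : q ≤ q * q := Nat.le_mul_self q
  have hQ : ((q : ZMod ℓ)) * q - q + 1 = 0 := by
    have := (ZMod.natCast_eq_zero_iff (q * q - q + 1) ℓ).2 hD
    rw [Nat.cast_add, Nat.cast_sub hle, Nat.cast_mul, Nat.cast_one] at this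
    exact this
  have hdQ : (q : ZMod ℓ) ^ d = 1 := by
    have := (ZMod.natCast_eq_zero_iff (q ^ d - 1) ℓ).2 hdvd
    rw [Nat.cast_sub (Nat.one_le_pow _ _ hq), Nat.cast_pow, Nat.cast_one] at this
    exact sub_eq_zero.1 this
  set Q : ZMod ℓ := (q : ZMod ℓ) with hQdef
  -- numeric consequences
  have h1 : (1 : ZMod ℓ) ≠ 0 := one_ne_zero
  have h2 : (2 : ZMod ℓ) ≠ 0 := by
    intro h
    have : ((2 : ℕ) : ZMod ℓ) = 0 := by exact_mod_cast h
    have h2' := (ZMod.natCast_eq_zero_iff 2 ℓ).1 this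
    have hl2 : ℓ = 2 := (Nat.prime_dvd_prime_iff_eq hℓ Nat.prime_two).1 h2'
    subst hl2
    -- `q (q - 1) + 1` is odd
    obtain ⟨c, hc⟩ : ∃ c, q = 2 * c + 1 := ⟨q / 2, by omega⟩
    have : q * q - q + 1 = 2 * (2 * c * c + c) + 1 := by
      subst hc
      have : (2 * c + 1) * (2 * c + 1) = (2 * c + 1) + 2 * (2 * c * c + c) := by ring
      omega
    omega
  have h3' : (3 : ZMod ℓ) ≠ 0 := by
    intro h
    have : ((3 : ℕ) : ZMod ℓ) = 0 := by exact_mod_cast h
    have h3'' := (ZMod.natCast_eq_zero_iff 3 ℓ).1 this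
    have hl3 : ℓ = 3 := (Nat.prime_dvd_prime_iff_eq hℓ Nat.prime_three).1 h3''
    subst hl3
    obtain ⟨c, hc⟩ := h3
    obtain ⟨e, he⟩ : ∃ e, q * q = q + e := ⟨q * q - q, by omega⟩
    have he3 : 3 ∣ e := by
      have : e = 3 * (c * q - c) := by
        have h5 : q * q = 3 * (c * q) := by rw [hc]; ring
        have h6 : c ≤ c * q := Nat.le_mul_of_pos_right c hq
        omega
      rw [this]
      exact dvd_mul_right _ _
    have : q * q - q + 1 = e + 1 := by omega
    rw [this] at hD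
    have := (Nat.dvd_add_right he3).1 hD
    omega
  interval_cases d
  · apply h1
    linear_combination hQ + (-Q) * hdQ
  · apply h3'
    linear_combination (Q + 2) * hQ - (Q + 1) * hdQ
  · apply h2
    linear_combination (Q + 1) * hQ - hdQ
  · apply h3'
    linear_combination (1 - (Q - 2) * Q * (Q + 1)) * hQ + (Q - 2) * hdQ
  · apply h1
    linear_combination (Q - (Q - 1) * Q ^ 2 * (Q + 1)) * hQ + (Q - 1) * hdQ
  · omega
  · apply h1
    linear_combination (1 + Q ^ 2 * (Q ^ 3 - 1) * (Q + 1)) * hQ - Q * hdQ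

end arith

section semi

open Cfsg.Agent.Lead.Tw.G2 Cfsg.Agent.Lead.Chev

variable {K : Type*} [Field K] [Fintype K] [CharP K 3] {m : ℕ}
  (hK : Fintype.card K = 3 ^ (2 * m + 1))
  (hperf : ∀ x : K, ∃ y : K, y ^ 3 = x) (f : K ≃+* K) (hf : ∀ t, f t = t ^ (3 ^ m))
include hK hperf hf

/-- elements of prime order dividing `q² - q + 1` act semisimply with a six-dimensional
irreducible constituent -/
theorem semiData (hm : 1 ≤ m) {x : ↥(twistedG2 K (3 ^ m))} {ℓ : ℕ} (hℓ : ℓ.Prime)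
    (hx : orderOf x = ℓ)
    (hD : ℓ ∣ 3 ^ (2 * m + 1) * 3 ^ (2 * m + 1) - 3 ^ (2 * m + 1) + 1) :
    Lin.SemiData (rho K (3 ^ m) x) ℓ := by
  have hqd := qdata m hm
  refine ⟨hℓ, ?_, ?_, finrank_S7, ?_, ?_⟩
  · rw [← map_pow, ← hx, pow_orderOf_eq_one, map_one]
  · intro h
    have h1 : x = 1 := rho_injective hK hperf f hf hm (by rw [h, map_one])
    rw [h1, orderOf_one] at hx
    exact hℓ.one_lt.ne hx
  · unfold Lin.NDvd
    rw [hK]
    exact ndvd_of_dvd hℓ hD hqd.three hqd.q_odd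
  · intro h
    have h3 := (CharP.cast_eq_zero_iff K 3 ℓ).1 h
    have := (Nat.prime_dvd_prime_iff_eq Nat.prime_three hℓ).1 h3
    exact (hqd.D_coprime hℓ hD).2.2.2.2 this.symm

end semi

end Cfsg.Agent.Helper2.Ree.Rep
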