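import Mathlib
import Cfsg.Agent.Lib.Helper2.ReeInst
import Cfsg.Agent.Lib.Helper2.Ree7Rep
import Cfsg.Agent.Lib.Helper2.Ree8

/-!
# The small Ree groups satisfy `ReeLin`, and contain elements of order `(q + 1) / 2`
-/

set_option autoImplicit false
set_option linter.unusedSectionVars false
set_option linter.unusedVariables false
set_option linter.style.haveILetI false

namespace Cfsg.Agent.Helper2.Ree

open Cfsg Cfsg.Lie

section finite

variable {K : Type*} [Field K] [Fintype K] [CharP K 3] {m : ℕ}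
  (hK : Fintype.card K = 3 ^ (2 * m + 1))
  (hperf : ∀ x : K, ∃ y : K, y ^ 3 = x) (f : K ≃+* K) (hf : ∀ t, f t = t ^ (3 ^ m))
include hK hperf hf

theorem reeLin (hm : 1 ≤ m) : ReeLin ↥(twistedG2 K (3 ^ m)) (3 ^ (2 * m + 1)) := by
  have hinj := Rep.rho_injective hK hperf f hf hm
  refine ⟨?_, ?_, ?_⟩
  · intro x hx hD g g' hg hg'
    have h := Rep.semiData hK hperf f hf hm hx rfl hD
    exact Lin.comm_of_commute (Rep.rho K (3 ^ m)) hinj h hg hg'
  · intro x hx hD P hP hcop
    have h := Rep.semiData hK hperf f hf hm hx rfl hD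
    apply Lin.isCyclic_of_coprime (Rep.rho K (3 ^ m)) hinj h P hP
    rw [hK]
    exact hcop
  · intro x hx hD
    have h := Rep.semiData hK hperf f hf hm hx rfl hD
    exact Lin.card_conj_le (Rep.rho K (3 ^ m)) hinj h

theorem exists_nonsplit (hm : 1 ≤ m) :
    ∃ z : ↥(twistedG2 K (3 ^ m)), orderOf z = (3 ^ (2 * m + 1) + 1) / 2 := by
  obtain ⟨R⟩ := exists_reeData hK hperf f hf hm
  apply R.exists_of_psl
  haveI : Fact (Nat.Prime 3) := ⟨Nat.prime_three⟩
  obtain ⟨z, hz⟩ := Cfsg.Agent.Helper12.psl_exists_orderOf_nonsplit (F := K) 3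
  refine ⟨z, ?_⟩
  rw [hz, hK]
  have hqd := qdata m hm
  have h8 := hqd.mod8
  have hg : Nat.gcd 2 (3 ^ (2 * m + 1) - 1) = 2 := by
    apply Nat.gcd_eq_left
    omega
  rw [hg]

end finite

end Cfsg.Agent.Helper2.Ree
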