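import Mathlib
import Cfsg.Agent.Lib.Lead.TwG2Ord3
import Cfsg.Agent.Lib.Helper2.ReeInst
import Cfsg.Agent.Lib.Helper2.Ree8Inst
import Cfsg.Agent.Lib.Helper2.Ree18
import Cfsg.Agent.Lib.Helper2.Ree19PSL

/-!
# The small Ree groups satisfy the additional hypotheses `ReeMore`
-/

set_option autoImplicit false
set_option linter.unusedSectionVars false
set_option linter.unusedVariables false
set_option linter.style.haveILetI false

namespace Cfsg.Agent.Helper2.Ree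

open Cfsg Cfsg.Lie Cfsg.Agent.Lead.Chev Cfsg.Agent.Lead.Tw.G2 Cfsg.Agent.Lead.ZPM

section finite

variable {K : Type*} [Field K] [Fintype K] [CharP K 3] {m : ℕ}
  (hK : Fintype.card K = 3 ^ (2 * m + 1))
  (hperf : ∀ x : K, ∃ y : K, y ^ 3 = x) (f : K ≃+* K) (hf : ∀ t, f t = t ^ (3 ^ m))
include hK hperf hf

/-- the elements of `U¹` have order dividing `9` -/
theorem pow_nine_of_mem_U (x : GL chevG2.Idx K)
    (hx : x ∈ chevG2.posUnipotent K ⊓ twistedG2 K (3 ^ m)) : x ^ 9 = 1 := by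
  obtain ⟨t, u, v, hxv⟩ := (mem_U_iff hK hperf f hf x).1 hx
  have hx' : x = wordGL chevG2 hF.xadd (reeWordU (3 ^ m) t u v) :=
    Units.ext (by rw [hxv, wordGL_val])
  have h3mem : x ^ 3 ∈ chevG2.posUnipotent K ⊓ twistedG2 K (3 ^ m) := pow_mem hx 3
  obtain ⟨t', u', v', hxv'⟩ := (mem_U_iff hK hperf f hf (x ^ 3)).1 h3mem
  have hx3 : x ^ 3 = wordGL chevG2 hF.xadd (reeWordU (3 ^ m) t' u' v') :=
    Units.ext (by rw [hxv', wordGL_val])
  have hc := cube_eq (m := m) t u v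
  rw [← hx', hx3, u_normal] at hc
  obtain ⟨k1, -, -, -, -, -⟩ := inj_u _ _ _ _ _ _ _ _ _ _ _ _ hc
  have h9 : (x ^ 3) ^ 3 = 1 := by
    rw [hx3]
    exact (cube_eq_one_iff t' u' v').2 k1
  rw [← h9, ← pow_mul]

/-- the small Ree groups satisfy `ReeData` and `ReeMore` -/
theorem exists_reeMore (hm : 1 ≤ m) :
    ∃ R : ReeData ↥(twistedG2 K (3 ^ m)) (Matrix.ProjectiveSpecialLinearGroup (Fin 2) K)
      (3 ^ (2 * m + 1)), ReeMore R := by
  classical
  obtain ⟨R, hRU⟩ := exists_reeData_U hK hperf f hf hm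
  have hq := qdata m hm
  have hmemU : ∀ x : ↥(twistedG2 K (3 ^ m)),
      x ∈ R.U ↔ (x : GL chevG2.Idx K) ∈ chevG2.posUnipotent K := fun x => by
    rw [hRU, mem_RU]
  refine ⟨R, ?_, ?_, ?_, ?_⟩
  · -- exp9
    intro u hu
    rw [hRU, mem_RU] at hu
    apply Subtype.ext
    rw [Subgroup.coe_pow]
    exact pow_nine_of_mem_U hK hperf f hf _ ⟨hu, u.2⟩
  · -- ord3
    have h := card_order_three hK hperf f hf
    have e : (3 ^ (2 * m + 1)) ^ 2 - 1 = (3 ^ (2 * m + 1)) ^ 2 - 1 := rfl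
    rw [← h]
    apply Nat.card_congr
    refine ⟨fun u => ⟨⟨(u.1 : GL chevG2.Idx K),
        Subgroup.mem_inf.2 ⟨(hmemU _).1 u.2.1, u.1.2⟩⟩,
        (Subgroup.orderOf_mk _ _).trans ((Subgroup.orderOf_coe u.1).trans u.2.2)⟩,
      fun u => ⟨⟨u.1.1, (Subgroup.mem_inf.1 u.1.2).2⟩, (hmemU _).2 (Subgroup.mem_inf.1 u.1.2).1,
        (Subgroup.orderOf_coe _).symm.trans ((Subgroup.orderOf_coe u.1).trans u.2)⟩, ?_, ?_⟩
    · intro u
      rfl
    · intro u
      rfl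
  · -- psl_orders
    intro g
    haveI : Fact (Nat.Prime 3) := ⟨Nat.prime_three⟩
    have h := Cfsg.Agent.Helper12.psl_orderOf_dvd 3 g
    rw [hK] at h
    have hgcd : Nat.gcd 2 (3 ^ (2 * m + 1) - 1) = 2 := by
      apply Nat.gcd_eq_left
      have := hq.mod8
      omega
    rw [hgcd] at h
    exact h
  · -- psl_ord3
    rw [psl_card_order_three, hK]

end finite

end Cfsg.Agent.Helper2.Ree
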