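import Mathlib
import Cfsg.Agent.Lib.Helper1.FittingSolvable
import Cfsg.Agent.Lib.Helper2.Ree18

/-!
# Solvable subgroups: a normal subgroup of prime power order with good properties
-/

set_option autoImplicit false
set_option linter.unusedSectionVars false
set_option linter.unusedVariables false
set_option linter.style.haveILetI false

namespace Cfsg.Agent.Helper2.Ree

section general

variable {G : Type*} [Group G]

/-- the image in `G` of a normal subgroup of a subgroup `S` is normalised by `S` -/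
theorem le_normalizer_map_subtype (S : Subgroup G) (Q : Subgroup ↥S) [hQ : Q.Normal] :
    S ≤ Subgroup.normalizer ((Q.map S.subtype : Subgroup G) : Set G) := by
  intro s hs
  apply mem_normalizer_of_forall
  · rintro x ⟨x', hx', rfl⟩
    refine ⟨⟨s, hs⟩ * x' * ⟨s, hs⟩⁻¹, hQ.conj_mem x' hx' ⟨s, hs⟩, rfl⟩
  · rintro x ⟨x', hx', rfl⟩
    refine ⟨⟨s, hs⟩⁻¹ * x' * ⟨s, hs⟩, ?_, rfl⟩
    have := hQ.conj_mem x' hx' ⟨s, hs⟩⁻¹
    rwa [inv_inv] at this

/-- **a non-trivial solvable subgroup normalises a non-trivial subgroup of odd prime power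
order, or a self-centralising `2`-subgroup** -/
theorem solvable_cases [Finite G] (S : Subgroup G) (hS : Group.IsSolvable ↥S) (hne : S ≠ ⊥) :
    (∃ (p : ℕ) (Q : Subgroup G), p.Prime ∧ p ≠ 2 ∧ Q ≠ ⊥ ∧ IsPGroup p ↥Q ∧
      S ≤ Subgroup.normalizer (Q : Set G)) ∨
    (∃ E : Subgroup G, E ≠ ⊥ ∧ IsPGroup 2 ↥E ∧ E ≤ S ∧ S ≤ Subgroup.normalizer (E : Set G) ∧
      ∀ c ∈ S, (∀ e ∈ E, c * e = e * c) → c ∈ E) := by
  classical
  haveI := hS
  set F := Cfsg.fittingSubgroup ↥S with hF
  haveI hFn : F.Normal := Cfsg.Agent.Helper7.fittingSubgroup_normal'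
  have hFnil : Group.IsNilpotent ↥F := Cfsg.Agent.Helper7.fittingSubgroup_isNilpotent
  have hcent : Subgroup.centralizer (F : Set ↥S) ≤ F :=
    Cfsg.Agent.Helper1.centralizer_fittingSubgroup_le_of_isSolvable
  have hFne : F ≠ ⊥ := by
    intro h0
    apply hne
    rw [eq_bot_iff]
    intro s hs
    have h1 : (⟨s, hs⟩ : ↥S) ∈ Subgroup.centralizer (F : Set ↥S) := by
      rw [Subgroup.mem_centralizer_iff]
      intro f hf
      rw [h0] at hf
      have hf1 : f = 1 := hf
      rw [hf1, one_mul, mul_one]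
    have h2 := hcent h1
    rw [h0, Subgroup.mem_bot] at h2
    rw [Subgroup.mem_bot]
    exact congrArg Subtype.val h2
  by_cases hodd : ∃ p : ℕ, p.Prime ∧ p ≠ 2 ∧ p ∣ Nat.card ↥F
  · left
    obtain ⟨p, hp, hp2, hpd⟩ := hodd
    haveI : Fact p.Prime := ⟨hp⟩
    obtain ⟨Q⟩ : Nonempty (Sylow p ↥F) := inferInstance
    have hQne : (Q : Subgroup ↥F) ≠ ⊥ := Q.ne_bot_of_dvd_card hpd
    have hQnormal : (Q : Subgroup ↥F).Normal := by
      have h1 := (Group.isNilpotent_of_finite_tfae (G := ↥F)).out 0 3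
      exact (h1.mp hFnil) p inferInstance Q
    haveI := hQnormal
    haveI : (Q : Subgroup ↥F).Characteristic := Q.characteristic_of_normal hQnormal
    set Q' : Subgroup ↥S := (Q : Subgroup ↥F).map F.subtype with hQ'
    have hQ'n : Q'.Normal := by
      rw [← Subgroup.normalizer_eq_top_iff, eq_top_iff]
      have := Cfsg.Agent.Helper1.normalizer_le_normalizer_map_of_characteristic F
        (Q : Subgroup ↥F)
      rwa [Subgroup.normalizer_eq_top] at this
    haveI := hQ'n
    refine ⟨p, Q'.map S.subtype, hp, hp2, ?_, ?_, le_normalizer_map_subtype S Q'⟩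
    · intro h0
      rw [Subgroup.map_eq_bot_iff_of_injective _ S.subtype_injective, hQ',
        Subgroup.map_eq_bot_iff_of_injective _ F.subtype_injective] at h0
      exact hQne h0
    · exact (Q.2.map F.subtype).map S.subtype
  · right
    push Not at hodd
    have hF2 : IsPGroup 2 ↥F := by
      apply IsPGroup.of_card (n := (Nat.card ↥F).primeFactorsList.length)
      apply Nat.eq_prime_pow_of_unique_prime_dvd Nat.card_pos.ne'
      intro p hp hpd
      by_contra h2
      exact hodd p hp h2 hpd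
    refine ⟨F.map S.subtype, ?_, hF2.map S.subtype, Subgroup.map_subtype_le F,
      le_normalizer_map_subtype S F, ?_⟩
    · intro h0
      rw [Subgroup.map_eq_bot_iff_of_injective _ S.subtype_injective] at h0
      exact hFne h0
    · intro c hc hcE
      have h1 : (⟨c, hc⟩ : ↥S) ∈ Subgroup.centralizer (F : Set ↥S) := by
        rw [Subgroup.mem_centralizer_iff]
        intro f hf
        apply Subtype.ext
        have := hcE (f : G) ⟨f, hf, rfl⟩
        exact this.symm
      exact ⟨⟨c, hc⟩, hcent h1, rfl⟩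

end general

end Cfsg.Agent.Helper2.Ree
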