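import Mathlib
import Cfsg.Agent.Lib.Helper2.Ree20

/-!
# Small Ree groups: normalisers of subgroups of prime power order
-/

set_option autoImplicit false
set_option linter.unusedSectionVars false
set_option linter.unusedVariables false
set_option linter.style.haveILetI false

namespace Cfsg.Agent.Helper2.Ree

section general

variable {G : Type*} [Group G]

/-- the normaliser of a conjugate subgroup -/
theorem normalizer_map_conj (A : Subgroup G) (g : G) :
    Subgroup.normalizer ((A.map (MulAut.conj g).toMonoidHom : Subgroup G) : Set G) =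
      (Subgroup.normalizer (A : Set G)).map (MulAut.conj g).toMonoidHom :=
  (Subgroup.map_equiv_normalizer_eq A (MulAut.conj g)).symm

end general

namespace ReeData

variable {G : Type*} [Group G] [Finite G] {P : Type*} [Group P] {q r : ℕ}
  (R : ReeData G P q) (hq : QData q r)

include R in
/-- the normaliser of a non-trivial `3`-subgroup lies in the normaliser of a Sylow `3`-subgroup -/
theorem normalizer_three_le {Q : Subgroup G} (hQ : Q ≠ ⊥) (h3 : IsPGroup 3 ↥Q) :
    ∃ P₃ : Sylow 3 G, Subgroup.normalizer (Q : Set G) ≤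
      Subgroup.normalizer ((P₃ : Subgroup G) : Set G) := by
  haveI : Fact (Nat.Prime 3) := ⟨Nat.prime_three⟩
  obtain ⟨P₃, hP⟩ := h3.exists_le_sylow
  refine ⟨P₃, ?_⟩
  intro g hg
  by_contra hgP
  have hne : g • P₃ ≠ P₃ := fun h => hgP (Sylow.smul_eq_iff_mem_normalizer.1 h)
  have hinf := R.syl3 (g • P₃) P₃ hne
  obtain ⟨⟨x, hx⟩, hx1'⟩ := (Subgroup.ne_bot_iff_exists_ne_one).1 hQ
  have hx1 : x ≠ 1 := fun h1 => hx1' (Subtype.ext h1)
  have hmem : x ∈ ((g • P₃ : Sylow 3 G) : Subgroup G) ⊓ (P₃ : Subgroup G) := by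
    refine Subgroup.mem_inf.2 ⟨?_, hP hx⟩
    rw [Sylow.coe_subgroup_smul, Subgroup.mem_pointwise_smul_iff_inv_smul_mem]
    have h1 : g⁻¹ * x * g ∈ Q := (Subgroup.mem_normalizer_iff''.1 hg x).1 hx
    have h2 : (MulAut.conj g)⁻¹ • x = g⁻¹ * x * g := by
      simp [MulAut.smul_def]
    rw [h2]
    exact hP h1
  rw [hinf, Subgroup.mem_bot] at hmem
  exact hx1 hmem

end ReeData

namespace ReeData

variable {G : Type*} [Group G] [Finite G] {P : Type*} [Group P] {q r : ℕ}
  (R : ReeData G P q) (hq : QData q r) (Ln : ReeLin G q)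
  (hz : ∃ z : G, orderOf z = (q + 1) / 2)
include R hq Ln hz

/-- a subgroup of prime order is normalised exactly by the normaliser of a conjugate of the
corresponding cyclic Hall subgroup -/
theorem normalizer_eq_of_hall {k : ℕ}
    (hk : k ∣ (q - 1) / 2 ∨ k ∣ (q + 1) / 4 ∨ k ∣ q - r + 1 ∨ k ∣ q + r + 1)
    {A : Subgroup G} (hAc : IsCyclic A) (hAk : Nat.card A = k)
    (hA₀ : ∀ A₀ : Subgroup G, A₀ ≤ A → A₀ ≠ ⊥ →
      Subgroup.normalizer (A₀ : Set G) = Subgroup.normalizer (A : Set G))
    {p : ℕ} (hp : p.Prime) (hpk : p ∣ k) {Z : Subgroup G} (hZc : IsCyclic Z)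
    (hZp : Nat.card Z = p) :
    ∃ A' : Subgroup G, IsCyclic A' ∧ Nat.card A' = k ∧
      Subgroup.normalizer (Z : Set G) = Subgroup.normalizer (A' : Set G) := by
  haveI := hAc
  obtain ⟨g₀, hg₀⟩ := IsCyclic.exists_ofOrder_eq_natCard (α := ↥A)
  have hg₀' : orderOf (g₀ : G) = k := by rw [Subgroup.orderOf_coe, hg₀, hAk]
  have hk0 : k ≠ 0 := by rw [← hAk]; exact Nat.card_pos.ne'
  set a : G := (g₀ : G) ^ (k / p) with ha
  have hao : orderOf a = p := by
    have := orderOf_pow_orderOf_div (x := (g₀ : G)) (n := p) (by rw [hg₀']; exact hk0)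
      (by rw [hg₀']; exact hpk)
    rwa [hg₀'] at this
  have haA : a ∈ A := pow_mem g₀.2 _
  set A₀ := Subgroup.zpowers a with hA₀def
  have hA₀A : A₀ ≤ A := Subgroup.zpowers_le.2 haA
  have hA₀c : Nat.card A₀ = p := by rw [hA₀def, Nat.card_zpowers, hao]
  have hA₀ne : A₀ ≠ ⊥ := by
    intro h0
    rw [h0, Subgroup.card_bot] at hA₀c
    exact hp.one_lt.ne hA₀c
  have hpd : p ∣ (q - 1) / 2 ∨ p ∣ (q + 1) / 4 ∨ p ∣ q - r + 1 ∨ p ∣ q + r + 1 := by
    rcases hk with h | h | h | h
    · exact Or.inl (hpk.trans h)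
    · exact Or.inr (Or.inl (hpk.trans h))
    · exact Or.inr (Or.inr (Or.inl (hpk.trans h)))
    · exact Or.inr (Or.inr (Or.inr (hpk.trans h)))
  obtain ⟨g, hg⟩ := R.toral_conj hq Ln hz p hpd A₀ Z (by rw [hA₀def]; infer_instance) hZc
    hA₀c hZp
  refine ⟨A.map (MulAut.conj g).toMonoidHom, ?_, ?_, ?_⟩
  · exact (A.equivMapOfInjective _ (MulAut.conj g).injective).isCyclic.1 hAc
  · rw [Subgroup.card_map_of_injective (MulAut.conj g).injective, hAk]
  · rw [hg, normalizer_map_conj, normalizer_map_conj, hA₀ A₀ hA₀A hA₀ne]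

/-- the normaliser of a non-trivial `p`-subgroup, `p > 3`, lies in the normaliser of a cyclic
Hall subgroup -/
theorem normalizer_toral_le (M : ReeMore R) {p : ℕ} (hp : p.Prime) (hp2 : p ≠ 2) (hp3 : p ≠ 3)
    {Q : Subgroup G} (hQ : Q ≠ ⊥) (hpQ : IsPGroup p ↥Q) :
    ∃ A : Subgroup G, Subgroup.normalizer (Q : Set G) ≤ Subgroup.normalizer (A : Set G) ∧
      IsCyclic A ∧ (Nat.card A = (q - 1) / 2 ∨ Nat.card A = (q + 1) / 4 ∨
        Nat.card A = q - r + 1 ∨ Nat.card A = q + r + 1) := by
  haveI : Fact p.Prime := ⟨hp⟩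
  have h3 : 3 < p := ReeData.prime_gt_three hp hp2 hp3
  obtain ⟨Pp, hPp⟩ := hpQ.exists_le_sylow
  haveI hcyc := R.sylow_cyclic hq Ln hz h3 Pp
  have hQcyc : IsCyclic ↥Q := Subgroup.isCyclic_of_le hPp
  have hpQd : p ∣ Nat.card ↥Q := by
    obtain ⟨n, hn⟩ := IsPGroup.iff_card.1 hpQ
    rcases Nat.eq_zero_or_pos n with h0 | h0
    · rw [h0, pow_zero] at hn
      exact absurd (Subgroup.card_eq_one.1 hn) hQ
    · rw [hn]
      exact dvd_pow_self p h0.ne'
  obtain ⟨x₀, hx₀⟩ := exists_prime_orderOf_dvd_card' (G := ↥Q) p hpQd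
  set x : G := (x₀ : G) with hx
  have hxo : orderOf x = p := by rw [hx, Subgroup.orderOf_coe]; exact hx₀
  set Z := Subgroup.zpowers x with hZ
  have hZQ : Z ≤ Q := Subgroup.zpowers_le.2 x₀.2
  have hZp : Nat.card Z = p := by rw [hZ, Nat.card_zpowers, hxo]
  have hZc : IsCyclic Z := by rw [hZ]; infer_instance
  have hNle : Subgroup.normalizer (Q : Set G) ≤ Subgroup.normalizer (Z : Set G) :=
    normalizer_le_of_isCyclic hQcyc hZQ
  have hpG : p ∣ Nat.card G := hpQd.trans (Subgroup.card_subgroup_dvd_card Q)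
  have hcases : p ∣ (q - 1) / 2 ∨ p ∣ (q + 1) / 4 ∨ p ∣ q - r + 1 ∨ p ∣ q + r + 1 := by
    rcases R.prime_cases hq hp hpG with h | h | h | h | h
    · exact absurd h hp2
    · exact absurd h hp3
    · exact Or.inl h
    · exact Or.inr (Or.inl h)
    · rw [← hq.D_fac] at h
      rcases (Nat.Prime.dvd_mul hp).1 h with h' | h'
      · exact Or.inr (Or.inr (Or.inr h'))
      · exact Or.inr (Or.inr (Or.inl h'))
  rcases hcases with h | h | h | h
  · obtain ⟨A, hAc, hAk, -, hA₀⟩ := R.hall_H hq Ln hz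
    obtain ⟨A', hA'c, hA'k, hN⟩ := R.normalizer_eq_of_hall hq Ln hz (k := (q - 1) / 2)
      (Or.inl dvd_rfl) hAc hAk hA₀ hp h hZc hZp
    exact ⟨A', by rw [← hN]; exact hNle, hA'c, Or.inl hA'k⟩
  · obtain ⟨A, hAc, hAk, -, hA₀⟩ := R.hall_O hq Ln hz
    obtain ⟨A', hA'c, hA'k, hN⟩ := R.normalizer_eq_of_hall hq Ln hz (k := (q + 1) / 4)
      (Or.inr (Or.inl dvd_rfl)) hAc hAk hA₀ hp h hZc hZp
    exact ⟨A', by rw [← hN]; exact hNle, hA'c, Or.inr (Or.inl hA'k)⟩
  · obtain ⟨A, hAc, hAk, -, hA₀⟩ := (R.hall_tori hq Ln hz M).1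
    obtain ⟨A', hA'c, hA'k, hN⟩ := R.normalizer_eq_of_hall hq Ln hz (k := q - r + 1)
      (Or.inr (Or.inr (Or.inl dvd_rfl))) hAc hAk hA₀ hp h hZc hZp
    exact ⟨A', by rw [← hN]; exact hNle, hA'c, Or.inr (Or.inr (Or.inl hA'k))⟩
  · obtain ⟨A, hAc, hAk, -, hA₀⟩ := (R.hall_tori hq Ln hz M).2
    obtain ⟨A', hA'c, hA'k, hN⟩ := R.normalizer_eq_of_hall hq Ln hz (k := q + r + 1)
      (Or.inr (Or.inr (Or.inr dvd_rfl))) hAc hAk hA₀ hp h hZc hZp
    exact ⟨A', by rw [← hN]; exact hNle, hA'c, Or.inr (Or.inr (Or.inr hA'k))⟩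

end ReeData


namespace ReeData

variable {G : Type*} [Group G] [Finite G] {P : Type*} [Group P] {q r : ℕ}
  (R : ReeData G P q) (hq : QData q r)

include R in
/-- the data of a four-group from an element permuting its involutions cyclically -/
theorem fourData_of_rel {t j y : G} (htt : t * t = 1) (hjj : j * j = 1) (htj : t * j = j * t)
    (ht1 : t ≠ 1) (hj1 : j ≠ 1) (htj_ne : t ≠ j) (e1 : y * t * y⁻¹ = j)
    (e2 : y * j * y⁻¹ = t * j) (e3 : y * (t * j) * y⁻¹ = t) :
    ∃ (j' y' : G) (L : Subgroup G), FourData q t j' y' L ∧ (j' = j ∨ j' = t * j) ∧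
      (y' = y ∨ y' = y⁻¹) := by
  have ht2 : orderOf t = 2 := orderOf_two_of_mul_self htt ht1
  obtain ⟨L, I⟩ := R.exists_invData ht2
  rcases I.or_mem j (Subgroup.mem_centralizer_singleton_iff.2 htj.symm) with h | h
  · exact ⟨j, y, L, ⟨I, h, htt, hjj, htj, ht1, hj1, htj_ne, e1, e2, e3⟩, Or.inl rfl, Or.inl rfl⟩
  · have hjt : j * t = t * j := htj.symm
    refine ⟨t * j, y⁻¹, L, ⟨I, h, htt, ?_, ?_, ht1, ?_, ?_, ?_, ?_, ?_⟩, Or.inr rfl, Or.inr rfl⟩
    · calc (t * j) * (t * j) = t * (j * t) * j := by group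
        _ = t * (t * j) * j := by rw [hjt]
        _ = (t * t) * (j * j) := by group
        _ = 1 := by rw [htt, hjj, one_mul]
    · calc t * (t * j) = t * (j * t) := by rw [hjt]
        _ = t * j * t := by group
    · intro h0
      apply htj_ne
      have : j = t⁻¹ := eq_inv_of_mul_eq_one_right h0
      rw [this, I.t_inv]
    · intro h0
      apply hj1
      have : t * 1 = t * j := by rw [mul_one]; exact h0
      exact (mul_left_cancel this).symm
    · rw [inv_inv]
      calc y⁻¹ * t * y = y⁻¹ * (y * (t * j) * y⁻¹) * y := by rw [e3]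
        _ = t * j := by group
    · rw [inv_inv]
      have : t * (t * j) = j := by rw [← mul_assoc, htt, one_mul]
      rw [this]
      calc y⁻¹ * (t * j) * y = y⁻¹ * (y * j * y⁻¹) * y := by rw [e2]
        _ = j := by group
    · rw [inv_inv]
      have : t * (t * j) = j := by rw [← mul_assoc, htt, one_mul]
      rw [this]
      calc y⁻¹ * j * y = y⁻¹ * (y * t * y⁻¹) * y := by rw [e1]
        _ = t := by group

end ReeData

section general

variable {G : Type*} [Group G]

/-- the elements of a group of order `4` and exponent `2` -/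
theorem four_group_cases [Finite G] {E : Subgroup G} (hE : Nat.card E = 4) {t j : G} (ht : t ∈ E)
    (hj : j ∈ E) (ht1 : t ≠ 1) (hj1 : j ≠ 1) (hne : t ≠ j) (htt : t * t = 1) :
    ∀ e ∈ E, e = 1 ∨ e = t ∨ e = j ∨ e = t * j := by
  classical
  haveI : Fintype G := Fintype.ofFinite G
  have hcardE : (Finset.univ.filter (fun g : G => g ∈ E)).card = 4 := by
    rw [← hE, Nat.card_eq_fintype_card, Fintype.card_subtype]
  have hsub : ({1, t, j, t * j} : Finset G) ⊆ Finset.univ.filter (fun g : G => g ∈ E) := by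
    intro z hz
    simp only [Finset.mem_insert, Finset.mem_singleton] at hz
    simp only [Finset.mem_filter, Finset.mem_univ, true_and]
    rcases hz with rfl | rfl | rfl | rfl
    · exact one_mem E
    · exact ht
    · exact hj
    · exact mul_mem ht hj
  have hcard : ({1, t, j, t * j} : Finset G).card = 4 := by
    rw [Finset.card_insert_of_notMem, Finset.card_insert_of_notMem, Finset.card_insert_of_notMem,
      Finset.card_singleton]
    · rw [Finset.mem_singleton]
      intro h
      apply ht1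
      have : 1 * j = t * j := by rw [one_mul]; exact h
      exact (mul_right_cancel this).symm
    · rw [Finset.mem_insert, Finset.mem_singleton]
      rintro (h | h)
      · exact hne h
      · apply hj1
        have : t * 1 = t * j := by rw [mul_one]; exact h
        exact (mul_left_cancel this).symm
    · rw [Finset.mem_insert, Finset.mem_insert, Finset.mem_singleton]
      rintro (h | h | h)
      · exact ht1 h.symm
      · exact hj1 h.symm
      · apply hne
        have h2 : t * t = t * j := by rw [htt]; exact h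
        exact mul_left_cancel h2
  have heq := Finset.eq_of_subset_of_card_le hsub (by rw [hcardE, hcard])
  intro e he
  have hmem : e ∈ Finset.univ.filter (fun g : G => g ∈ E) := by
    simp only [Finset.mem_filter, Finset.mem_univ, true_and]
    exact he
  rw [← heq] at hmem
  simpa using hmem

end general


namespace ReeData

variable {G : Type*} [Group G] [Finite G] {P : Type*} [Group P] {q r : ℕ}
  (R : ReeData G P q) (hq : QData q r) (Ln : ReeLin G q)
  (hz : ∃ z : G, orderOf z = (q + 1) / 2)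
include R hq Ln hz

/-- a subgroup normalising a self-centralising four-group, and larger than it, normalises a
cyclic subgroup of order `(q + 1) / 4` -/
theorem normalizer_four_le {S E : Subgroup G} (hE4 : Nat.card E = 4)
    (hexp : ∀ x ∈ E, x * x = 1) (hES : E ≤ S) (hSN : S ≤ Subgroup.normalizer (E : Set G))
    (hcent : ∀ c ∈ S, (∀ e ∈ E, c * e = e * c) → c ∈ E) (hSE : ¬ S ≤ E) :
    ∃ A : Subgroup G, S ≤ Subgroup.normalizer (A : Set G) ∧ IsCyclic A ∧
      Nat.card A = (q + 1) / 4 := by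
  classical
  have hinv : ∀ x ∈ E, x⁻¹ = x := fun x hx => inv_eq_of_mul_eq_one_left (hexp x hx)
  have hcomm : ∀ a ∈ E, ∀ b ∈ E, a * b = b * a := by
    intro a ha b hb
    have h2 : a * b = (a * b)⁻¹ := (hinv _ (mul_mem ha hb)).symm
    rw [h2, mul_inv_rev, hinv a ha, hinv b hb]
  -- the involutions
  have hEne : E ≠ ⊥ := by
    intro h0
    rw [h0, Subgroup.card_bot] at hE4
    omega
  obtain ⟨⟨t, ht⟩, ht1'⟩ := (Subgroup.ne_bot_iff_exists_ne_one).1 hEne
  have ht1 : t ≠ 1 := fun h1 => ht1' (Subtype.ext h1)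
  have htt := hexp t ht
  have ht2 : orderOf t = 2 := orderOf_two_of_mul_self htt ht1
  obtain ⟨j, hj, hjz⟩ : ∃ j ∈ E, j ∉ Subgroup.zpowers t := by
    by_contra hc
    push Not at hc
    have hle : E ≤ Subgroup.zpowers t := fun e he => hc e he
    have := Subgroup.card_le_of_le hle
    rw [hE4, Nat.card_zpowers, ht2] at this
    omega
  have hj1 : j ≠ 1 := fun h => hjz (by rw [h]; exact one_mem _)
  have hne : t ≠ j := fun h => hjz (by rw [← h]; exact Subgroup.mem_zpowers t)
  have hjj := hexp j hj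
  have htj : t * j = j * t := hcomm t ht j hj
  -- conjugation by elements of `S`
  have hconj : ∀ s ∈ S, ∀ e ∈ E, s * e * s⁻¹ ∈ E := fun s hs e he =>
    (Subgroup.mem_normalizer_iff.1 (hSN hs) e).1 he
  have hconj1 : ∀ s : G, ∀ e : G, e ≠ 1 → s * e * s⁻¹ ≠ 1 := by
    intro s e he h0
    apply he
    have : e = s⁻¹ * (s * e * s⁻¹) * s := by group
    rw [this, h0]
    group
  obtain ⟨y, hyS, hyE⟩ := SetLike.not_le_iff_exists.1 hSE
  -- `y` fixes no involution of `E`
  have nofix : ∀ w ∈ E, w ≠ 1 → y * w * y⁻¹ ≠ w := by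
    intro w hw hw1 hfix
    apply hyE
    apply hcent y hyS
    have hww := hexp w hw
    have hw2 : orderOf w = 2 := orderOf_two_of_mul_self hww hw1
    obtain ⟨Lw, Iw⟩ := R.exists_invData hw2
    have hyw : y * w = w * y := by
      have : y * w = (y * w * y⁻¹) * y := by group
      rw [this, hfix]
    intro e he
    by_cases he1 : e = 1
    · rw [he1, mul_one, one_mul]
    by_cases hew : e = w
    · rw [hew]
      exact hyw
    have hcases := four_group_cases hE4 hw he hw1 he1 (Ne.symm hew) hww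
    have h1 := hcases _ (hconj y hyS e he)
    have h2 := hconj1 y e he1
    have h3 : y * e * y⁻¹ = w ∨ y * e * y⁻¹ = e ∨ y * e * y⁻¹ = w * e := by
      rcases h1 with h | h | h | h
      · exact absurd h h2
      · exact Or.inl h
      · exact Or.inr (Or.inl h)
      · exact Or.inr (Or.inr h)
    exact Iw.fix_all (hcomm e he w hw) hew hyw h3
  have hcases := four_group_cases hE4 ht hj ht1 hj1 hne htt
  have htjE : t * j ∈ E := mul_mem ht hj
  have htj1 : t * j ≠ 1 := by
    intro h0
    apply hne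
    have : j = t⁻¹ := eq_inv_of_mul_eq_one_right h0
    rw [this, hinv t ht]
  have hmulconj : ∀ s a b : G, s * (a * b) * s⁻¹ = (s * a * s⁻¹) * (s * b * s⁻¹) := by
    intro s a b
    group
  -- an element of `S` permuting the involutions cyclically
  obtain ⟨y', hy'S, e1, e2, e3⟩ : ∃ y' ∈ S, y' * t * y'⁻¹ = j ∧ y' * j * y'⁻¹ = t * j ∧
      y' * (t * j) * y'⁻¹ = t := by
    have h1 := hcases _ (hconj y hyS t ht)
    have h2 := hcases _ (hconj y hyS j hj)
    rcases h1 with h | h | h | h
    · exact absurd h (hconj1 y t ht1)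
    · exact absurd h (nofix t ht ht1)
    · -- `y t y⁻¹ = j`
      rcases h2 with h' | h' | h' | h'
      · exact absurd h' (hconj1 y j hj1)
      · exfalso
        apply nofix (t * j) htjE htj1
        rw [hmulconj, h, h', htj]
      · exact absurd h' (nofix j hj hj1)
      · refine ⟨y, hyS, h, h', ?_⟩
        rw [hmulconj, h, h']
        calc j * (t * j) = j * (j * t) := by rw [htj]
          _ = (j * j) * t := (mul_assoc _ _ _).symm
          _ = t := by rw [hjj, one_mul]
    · -- `y t y⁻¹ = t j`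
      rcases h2 with h' | h' | h' | h'
      · exact absurd h' (hconj1 y j hj1)
      · have h3 : y * (t * j) * y⁻¹ = j := by
          rw [hmulconj, h, h']
          calc t * j * t = t * (j * t) := mul_assoc _ _ _
            _ = t * (t * j) := by rw [htj]
            _ = (t * t) * j := (mul_assoc _ _ _).symm
            _ = j := by rw [htt, one_mul]
        refine ⟨y⁻¹, inv_mem hyS, ?_, ?_, ?_⟩
        · rw [inv_inv]
          calc y⁻¹ * t * y = y⁻¹ * (y * j * y⁻¹) * y := by rw [h']
            _ = j := by group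
        · rw [inv_inv]
          calc y⁻¹ * j * y = y⁻¹ * (y * (t * j) * y⁻¹) * y := by rw [h3]
            _ = t * j := by group
        · rw [inv_inv]
          calc y⁻¹ * (t * j) * y = y⁻¹ * (y * t * y⁻¹) * y := by rw [h]
            _ = t := by group
      · exact absurd h' (nofix j hj hj1)
      · exfalso
        apply hne
        have h3 : y * t * y⁻¹ = y * j * y⁻¹ := by rw [h, h']
        have h4 : t = y⁻¹ * (y * t * y⁻¹) * y := by group
        rw [h4, h3]
        group
  obtain ⟨j', y'', L, F, hj', hy''⟩ := R.fourData_of_rel htt hjj htj ht1 hj1 hne e1 e2 e3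
  have hj'E : j' ∈ E := by
    rcases hj' with h | h
    · rw [h]; exact hj
    · rw [h]; exact htjE
  have hy''S : y'' ∈ S := by
    rcases hy'' with h | h
    · rw [h]; exact hy'S
    · rw [h]; exact inv_mem hy'S
  have hcases' := four_group_cases hE4 ht hj'E ht1 F.j1 F.ne htt
  obtain ⟨x, p, hp, hpk, hx, hxK⟩ := F.exists_x hq
  obtain ⟨hxt, hxj⟩ := mem_K4.1 hxK
  have D : A1Data q t j' y'' L x p := ⟨F, hp, hpk, hx, hxt, hxj⟩
  refine ⟨D.O R hq, ?_, D.O_isCyclic R hq Ln hz, D.card_O R hq Ln hz⟩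
  have hyN := D.y_mem_normalizer R hq
  have hKN := D.K_le_normalizer R hq
  have key : ∀ g ∈ S, g * t * g⁻¹ = t → g ∈ K4 t j' := by
    intro g hg hgt
    have hgt' : g * t = t * g := by
      have : g * t = (g * t * g⁻¹) * g := by group
      rw [this, hgt]
    have h1 := hcases' _ (hconj g hg j' hj'E)
    have h3 : g * j' * g⁻¹ = t ∨ g * j' * g⁻¹ = j' ∨ g * j' * g⁻¹ = t * j' := by
      rcases h1 with h | h | h | h
      · exact absurd h (hconj1 g j' F.j1)
      · exact Or.inl h
      · exact Or.inr (Or.inl h)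
      · exact Or.inr (Or.inr h)
    exact mem_K4.2 ⟨hgt', F.inv.fix_all F.tj.symm (Ne.symm F.ne) hgt' h3⟩
  intro g hg
  have h1 := hcases' _ (hconj g hg t ht)
  rcases h1 with h | h | h | h
  · exact absurd h (hconj1 g t ht1)
  · exact hKN (key g hg h)
  · have hm : y'' * y'' * g ∈ K4 t j' := by
      apply key _ (mul_mem (mul_mem hy''S hy''S) hg)
      calc y'' * y'' * g * t * (y'' * y'' * g)⁻¹
          = y'' * (y'' * (g * t * g⁻¹) * y''⁻¹) * y''⁻¹ := by group
        _ = t := by rw [h, F.e2, F.e3]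
    have h2 := mul_mem (inv_mem (mul_mem hyN hyN)) (hKN hm)
    have e : (y'' * y'')⁻¹ * (y'' * y'' * g) = g := by group
    rwa [e] at h2
  · have hm : y'' * g ∈ K4 t j' := by
      apply key _ (mul_mem hy''S hg)
      calc y'' * g * t * (y'' * g)⁻¹ = y'' * (g * t * g⁻¹) * y''⁻¹ := by group
        _ = t := by rw [h, F.e3]
    have h2 := mul_mem (inv_mem hyN) (hKN hm)
    have e : y''⁻¹ * (y'' * g) = g := by group
    rwa [e] at h2

end ReeData


section general

variable {G : Type*} [Group G]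

/-- a group of order `2` has a single non-trivial element -/
theorem two_group_cases [Finite G] {E : Subgroup G} (hE : Nat.card E = 2) {a b : G} (ha : a ∈ E)
    (hb : b ∈ E) (ha1 : a ≠ 1) (hb1 : b ≠ 1) : a = b := by
  classical
  haveI : Fintype G := Fintype.ofFinite G
  by_contra hab
  have hcardE : (Finset.univ.filter (fun g : G => g ∈ E)).card = 2 := by
    rw [← hE, Nat.card_eq_fintype_card, Fintype.card_subtype]
  have hsub : ({1, a, b} : Finset G) ⊆ Finset.univ.filter (fun g : G => g ∈ E) := by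
    intro z hz
    simp only [Finset.mem_insert, Finset.mem_singleton] at hz
    simp only [Finset.mem_filter, Finset.mem_univ, true_and]
    rcases hz with rfl | rfl | rfl
    · exact one_mem E
    · exact ha
    · exact hb
  have hcard : ({1, a, b} : Finset G).card = 3 := by
    rw [Finset.card_insert_of_notMem, Finset.card_insert_of_notMem, Finset.card_singleton]
    · rw [Finset.mem_singleton]
      exact hab
    · rw [Finset.mem_insert, Finset.mem_singleton]
      rintro (h | h)
      · exact ha1 h.symm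
      · exact hb1 h.symm
  have := Finset.card_le_card hsub
  rw [hcard, hcardE] at this
  omega

end general

namespace ReeData

variable {G : Type*} [Group G] [Finite G] {P : Type*} [Group P] {q r : ℕ}
  (R : ReeData G P q) (hq : QData q r) (Ln : ReeLin G q)
  (hz : ∃ z : G, orderOf z = (q + 1) / 2)
include R hq Ln hz

/-- **the solvable subgroups lie in the normalisers of the Sylow `2`- or `3`-subgroups or of
the cyclic Hall subgroups** -/
theorem solvable_le_normalizer (M : ReeMore R) (S : Subgroup G) (hS : Group.IsSolvable ↥S) :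
    ∃ A : Subgroup G, S ≤ Subgroup.normalizer (A : Set G) ∧
      ((∃ P₂ : Sylow 2 G, A = P₂) ∨ (∃ P₃ : Sylow 3 G, A = P₃) ∨
        (IsCyclic A ∧ (Nat.card A = (q - 1) / 2 ∨ Nat.card A = (q + 1) / 4 ∨
          Nat.card A = q - r + 1 ∨ Nat.card A = q + r + 1))) := by
  classical
  haveI : Fact (Nat.Prime 2) := ⟨Nat.prime_two⟩
  by_cases hS0 : S = ⊥
  · obtain ⟨P₂⟩ : Nonempty (Sylow 2 G) := inferInstance
    exact ⟨P₂, by rw [hS0]; exact bot_le, Or.inl ⟨P₂, rfl⟩⟩
  rcases solvable_cases S hS hS0 with ⟨p, Q, hp, hp2, hQ, hpQ, hSN⟩ | ⟨E, hE, h2E, hES, hSN, hcent⟩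
  · by_cases hp3 : p = 3
    · subst hp3
      obtain ⟨P₃, hN⟩ := R.normalizer_three_le hQ hpQ
      exact ⟨P₃, hSN.trans hN, Or.inr (Or.inl ⟨P₃, rfl⟩)⟩
    · obtain ⟨A, hN, hAc, hAk⟩ := R.normalizer_toral_le hq Ln hz M hp hp2 hp3 hQ hpQ
      exact ⟨A, hSN.trans hN, Or.inr (Or.inr ⟨hAc, hAk⟩)⟩
  · obtain ⟨P₂, hEP⟩ := h2E.exists_le_sylow
    obtain ⟨hcard, hexp⟩ := R.syl2 P₂
    have hleft : S ≤ E → ∃ A : Subgroup G, S ≤ Subgroup.normalizer (A : Set G) ∧
        ((∃ P₂ : Sylow 2 G, A = P₂) ∨ (∃ P₃ : Sylow 3 G, A = P₃) ∨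
          (IsCyclic A ∧ (Nat.card A = (q - 1) / 2 ∨ Nat.card A = (q + 1) / 4 ∨
            Nat.card A = q - r + 1 ∨ Nat.card A = q + r + 1))) := fun hSE =>
      ⟨P₂, (hSE.trans hEP).trans Subgroup.le_normalizer, Or.inl ⟨P₂, rfl⟩⟩
    have hdvd : Nat.card E ∣ 8 := by
      rw [← hcard]
      exact Subgroup.card_dvd_of_le hEP
    have hne1 : Nat.card E ≠ 1 := fun h1 => hE (Subgroup.card_eq_one.1 h1)
    have hle : Nat.card E ≤ 8 := Nat.le_of_dvd (by norm_num) hdvd
    have hpos : 0 < Nat.card E := Nat.card_pos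
    have h248 : Nat.card E = 2 ∨ Nat.card E = 4 ∨ Nat.card E = 8 := by
      generalize Nat.card E = n at hdvd hne1 hle hpos
      interval_cases n <;> omega
    rcases h248 with h2 | h4 | h8
    · apply hleft
      intro s hs
      apply hcent s hs
      intro e he
      by_cases he1 : e = 1
      · rw [he1, mul_one, one_mul]
      have h1 : s * e * s⁻¹ ∈ E := (Subgroup.mem_normalizer_iff.1 (hSN hs) e).1 he
      have h2' : s * e * s⁻¹ ≠ 1 := by
        intro h0
        apply he1
        have : e = s⁻¹ * (s * e * s⁻¹) * s := by group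
        rw [this, h0]
        group
      have h3 := two_group_cases h2 h1 he h2' he1
      have : s * e = (s * e * s⁻¹) * s := by group
      rw [this, h3]
    · by_cases hSE : S ≤ E
      · exact hleft hSE
      · obtain ⟨A, hSA, hAc, hAk⟩ := R.normalizer_four_le hq Ln hz h4
          (fun x hx => hexp x (hEP hx)) hES hSN hcent hSE
        exact ⟨A, hSA, Or.inr (Or.inr ⟨hAc, Or.inr (Or.inl hAk)⟩)⟩
    · have hEeq : E = (P₂ : Subgroup G) :=
        Subgroup.eq_of_le_of_card_ge hEP (by rw [hcard, h8])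
      exact ⟨P₂, by rw [← hEeq]; exact hSN, Or.inl ⟨P₂, rfl⟩⟩

end ReeData

end Cfsg.Agent.Helper2.Ree
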