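import Mathlib
import Cfsg.Agent.Lib.Lead.TwG2Mul
import Cfsg.Agent.Lib.Lead.TwG2Ord3

/-!
# The small Ree groups: the centre and the derived group of `U` in coordinates
-/

set_option autoImplicit false
set_option linter.unusedSectionVars false
set_option linter.unusedSimpArgs false
set_option linter.unusedVariables false

namespace Cfsg.Agent.Helper2.Ree

open Cfsg Cfsg.Lie Cfsg.Agent.Lead.Chev Cfsg.Agent.Lead.ZPM Cfsg.Agent.Lead.Tw Cfsg.Agent.Lead.Tw.G2

section finite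

variable {K : Type*} [Field K] [Fintype K] [CharP K 3] {m : ℕ} (hK : Fintype.card K = 3 ^ (2 * m + 1))
  (hperf : ∀ x : K, ∃ y : K, y ^ 3 = x) (f : K ≃+* K) (hf : ∀ t, f t = t ^ (3 ^ m))
include hK hperf hf

/-- the product `x(0,u,v) x(t,0,0)`, with all coordinates -/
theorem mul_0uv_t00_full (u v t' : K) :
    wordGL chevG2 hF.xadd (reeWordU (3 ^ m) 0 u v) * wordGL chevG2 hF.xadd (reeWordU (3 ^ m) t' 0 0) =
      wordGL chevG2 hF.xadd (reeWordU (3 ^ m) t' u (v + 2 * u * t')) := by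
  have hmem := mul_mem (xU_mem hK hperf f hf 0 u v) (xU_mem hK hperf f hf t' 0 0)
  obtain ⟨t₂, u₂, v₂, e⟩ := exists_coords hK hperf f hf _ hmem
  have e' := e
  rw [u1_word u v, t00_form t'] at e'
  have e2 := ((wordGL_append chevG2 (hF (K := K)).xadd _ _).symm.trans
    (wordGL_congr_val _ _ (Cfsg.Agent.Lead.MCalc.g2M2 (u ^ 3 ^ m) (v ^ 3 ^ m) u v t' (t' ^ 3 ^ m)))).symm.trans e'
  rw [u_normal] at e2
  obtain ⟨k1, -, -, -, k5, k6⟩ := inj_u _ _ _ _ _ _ _ _ _ _ _ _ e2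
  rw [e]
  have ht : t₂ = t' := k1.symm
  have hu : u₂ = u := by
    rw [← k1] at k5
    linear_combination (-1 : K) * k5
  have hv : v₂ = v + 2 * u * t' := by
    rw [← k1] at k6
    linear_combination (-1 : K) * k6
  rw [ht, hu, hv]

/-- conjugating `x(0,0,v)` by an element of `H¹` -/
theorem conj_00v (y : Kˣ) (v : K) :
    pHom (m := m) y * wordGL chevG2 hF.xadd (reeWordU (3 ^ m) 0 0 v) * (pHom (m := m) y)⁻¹ =
      wordGL chevG2 hF.xadd (reeWordU (3 ^ m) 0 0 ((y : K) * v)) := by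
  have hG := (pHom_mem hK hperf f hf y).2
  have hD := (pHom_mem hK hperf f hf y).1
  have hx := xU_mem hK hperf f hf 0 0 v
  have hc : pHom (m := m) y * wordGL chevG2 hF.xadd (reeWordU (3 ^ m) 0 0 v) * (pHom (m := m) y)⁻¹ ∈
      chevG2.posUnipotent K ⊓ twistedG2 K (3 ^ m) :=
    Subgroup.mem_inf.2 ⟨conj_mem_posUnipotent chevG2 (hF (K := K)).hall (hF (K := K)).hconj _ hD _ hx.1,
      mul_mem (mul_mem hG hx.2) (inv_mem hG)⟩
  obtain ⟨t', u', v', hc'⟩ := exists_coords hK hperf f hf _ hc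
  rw [hc']
  have hcne : ∀ i < chevG2.rank, extC chevG2 (pc m y) i ≠ 0 := fun i _ => extC_ne_zero chevG2 (pc m y) i
  rw [u_normal, u_normal, ChevFacts'.conj_wordGL hF (pHom (m := m) y) _ hcne (pHom_val y) _ (by
    intro q hq
    simp only [List.mem_cons, List.not_mem_nil, or_false] at hq
    rcases hq with rfl | rfl | rfl | rfl | rfl | rfl <;> dsimp only <;> decide)] at hc'
  obtain ⟨k1, -, -, -, k5, k6⟩ := inj_u _ _ _ _ _ _ _ _ _ _ _ _ hc'
  have h0 : (0 : K) ^ 3 ^ m = 0 := zero_pow_e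
  have ht : t' = 0 := by rw [← k1]; ring
  subst ht
  have h11 : chi chevG2 (extC chevG2 (pc m y)) 11 = (y : K) := by
    rw [chi_p, cartan_vals.2.2.2.2.1, cartan_vals.2.2.2.2.2, zpow_zero, one_mul, zpow_one]
  have hu : u' = 0 := by
    rw [h0] at k5
    linear_combination (-1 : K) * k5
  have hv : v' = (y : K) * v := by
    rw [h0, h11] at k6
    linear_combination (-1 : K) * k6
  rw [hu, hv]

end finite

end Cfsg.Agent.Helper2.Ree
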