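import Mathlib

/-!
# Simultaneous eigenspaces of abelian subgroups in a complex representation
-/

set_option autoImplicit false
set_option linter.unusedSectionVars false
set_option linter.unusedVariables false

namespace Cfsg.Agent.Helper2.RepEig

open Module

variable {G : Type*} [Group G] {V : Type*} [AddCommGroup V] [Module ℂ V]

/-- the simultaneous eigenspace of the elements of `A` with eigenvalues given by `μ` -/
def eigSp (ρ : Representation ℂ G V) (A : Subgroup G) (μ : G → ℂ) : Submodule ℂ V where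
  carrier := {v | ∀ a ∈ A, ρ a v = μ a • v}
  add_mem' := by
    intro v w hv hw a ha
    rw [map_add, hv a ha, hw a ha, smul_add]
  zero_mem' := by
    intro a ha
    rw [map_zero, smul_zero]
  smul_mem' := by
    intro c v hv a ha
    rw [map_smul, hv a ha, smul_comm]

theorem mem_eigSp {ρ : Representation ℂ G V} {A : Subgroup G} {μ : G → ℂ} {v : V} :
    v ∈ eigSp ρ A μ ↔ ∀ a ∈ A, ρ a v = μ a • v := Iff.rfl

theorem rho_inv_apply (ρ : Representation ℂ G V) (g : G) (v : V) : ρ g⁻¹ (ρ g v) = v := by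
  have h : ρ g⁻¹ * ρ g = 1 := by rw [← map_mul, inv_mul_cancel, map_one]
  exact LinearMap.congr_fun h v

theorem rho_apply_inv (ρ : Representation ℂ G V) (g : G) (v : V) : ρ g (ρ g⁻¹ v) = v := by
  have h := rho_inv_apply ρ g⁻¹ v
  rwa [inv_inv] at h

theorem rho_injective (ρ : Representation ℂ G V) (g : G) : Function.Injective (ρ g) := by
  intro v w h
  have := congrArg (ρ g⁻¹) h
  rwa [rho_inv_apply, rho_inv_apply] at this

theorem rho_mul_apply (ρ : Representation ℂ G V) (g h : G) (v : V) : ρ (g * h) v = ρ g (ρ h v) := by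
  rw [map_mul]
  rfl

/-- conjugation moves simultaneous eigenspaces -/
theorem map_mem_eigSp {ρ : Representation ℂ G V} {A : Subgroup G} {μ : G → ℂ} (g : G)
    (hg : ∀ a ∈ A, g⁻¹ * a * g ∈ A) {v : V} (hv : v ∈ eigSp ρ A μ) :
    ρ g v ∈ eigSp ρ A (fun a => μ (g⁻¹ * a * g)) := by
  intro a ha
  have h1 : a * g = g * (g⁻¹ * a * g) := by group
  rw [← rho_mul_apply, h1, rho_mul_apply, hv _ (hg a ha), map_smul]

theorem finrank_eigSp_le_conj [FiniteDimensional ℂ V] {ρ : Representation ℂ G V} {A : Subgroup G}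
    {μ : G → ℂ} (g : G) (hg : ∀ a ∈ A, g⁻¹ * a * g ∈ A) :
    finrank ℂ (eigSp ρ A μ) ≤ finrank ℂ (eigSp ρ A (fun a => μ (g⁻¹ * a * g))) := by
  let T : eigSp ρ A μ →ₗ[ℂ] eigSp ρ A (fun a => μ (g⁻¹ * a * g)) :=
    (ρ g).restrict (fun v hv => map_mem_eigSp g hg hv)
  apply LinearMap.finrank_le_finrank_of_injective (f := T)
  intro v w h
  apply Subtype.ext
  apply rho_injective ρ g
  exact congrArg Subtype.val h

/-- a commuting family of operators stabilising a non-zero subspace has a common eigenvector in it -/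
theorem exists_common_eigvec [FiniteDimensional ℂ V] (ρ : Representation ℂ G V) (A : Subgroup G)
    (hA : ∀ a ∈ A, ∀ b ∈ A, a * b = b * a) :
    ∀ (n : ℕ) (W : Submodule ℂ V), finrank ℂ W = n → W ≠ ⊥ →
      (∀ a ∈ A, ∀ w ∈ W, ρ a w ∈ W) →
      ∃ μ : G → ℂ, ∃ w ∈ W, w ≠ 0 ∧ ∀ a ∈ A, ρ a w = μ a • w := by
  classical
  intro n
  induction n using Nat.strong_induction_on with
  | _ n ih =>
    intro W hn hW hinv
    by_cases hsc : ∀ a ∈ A, ∃ c : ℂ, ∀ w ∈ W, ρ a w = c • w
    · obtain ⟨w, hw, hw0⟩ := Submodule.exists_mem_ne_zero_of_ne_bot hW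
      refine ⟨fun a => if h : a ∈ A then Classical.choose (hsc a h) else 0, w, hw, hw0, ?_⟩
      intro a ha
      simp only [dif_pos ha]
      exact Classical.choose_spec (hsc a ha) w hw
    · push Not at hsc
      obtain ⟨a, ha, hns⟩ := hsc
      have : Nontrivial W := (Submodule.nontrivial_iff_ne_bot).2 hW
      let T : W →ₗ[ℂ] W := (ρ a).restrict (hinv a ha)
      obtain ⟨c, hc⟩ := Module.End.exists_eigenvalue T
      obtain ⟨w, hw⟩ := hc.exists_hasEigenvector
      have hw1 : T w = c • w := Module.End.mem_eigenspace_iff.1 hw.1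
      have hw2 : w ≠ 0 := hw.2
      let W' : Submodule ℂ V := W ⊓ Module.End.eigenspace (ρ a) c
      have hmem' : ∀ v, v ∈ W' ↔ v ∈ W ∧ ρ a v = c • v := by
        intro v
        rw [Submodule.mem_inf, Module.End.mem_eigenspace_iff]
      have hle : W' ≤ W := inf_le_left
      have hwW' : (w : V) ∈ W' := by
        rw [hmem']
        refine ⟨w.2, ?_⟩
        have := congrArg Subtype.val hw1
        simpa [T] using this
      have hW'ne : W' ≠ ⊥ := by
        intro h0
        rw [h0, Submodule.mem_bot] at hwW'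
        exact hw2 (Subtype.ext hwW')
      have hlt : W' < W := by
        refine lt_of_le_of_ne hle ?_
        intro h0
        obtain ⟨v, hv, hv'⟩ := hns c
        rw [← h0, hmem'] at hv
        exact hv' hv.2
      have hfr : finrank ℂ W' < n := by
        rw [← hn]
        exact Submodule.finrank_lt_finrank_of_lt hlt
      have hinv' : ∀ b ∈ A, ∀ v ∈ W', ρ b v ∈ W' := by
        intro b hb v hv
        rw [hmem'] at hv ⊢
        refine ⟨hinv b hb v hv.1, ?_⟩
        rw [← rho_mul_apply, hA a ha b hb, rho_mul_apply, hv.2, map_smul]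
      obtain ⟨μ, v, hv, hv0, hμ⟩ := ih _ hfr W' rfl hW'ne hinv'
      exact ⟨μ, v, hle hv, hv0, hμ⟩

/-- simultaneous eigenspaces for characters that differ on `A` are independent -/
theorem eigSp_indep (ρ : Representation ℂ G V) (A : Subgroup G)
    (hA : ∀ a ∈ A, ∀ b ∈ A, a * b = b * a) {ι : Type*} (μ : ι → G → ℂ)
    (hμ : ∀ i j, i ≠ j → ∃ a ∈ A, μ i a ≠ μ j a) :
    iSupIndep (fun i => eigSp ρ A (μ i)) := by
  let f : ↥A → Module.End ℂ V := fun a => ρ a.1
  have h : ∀ i j φ, Set.MapsTo (f i) ((f j).maxGenEigenspace φ) ((f j).maxGenEigenspace φ) := by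
    intro i j φ
    apply Module.End.mapsTo_maxGenEigenspace_of_comm
    show ρ j.1 * ρ i.1 = ρ i.1 * ρ j.1
    rw [← map_mul, ← map_mul, hA _ j.2 _ i.2]
  have h1 := Module.End.independent_iInf_maxGenEigenspace_of_forall_mapsTo f h
  let g : ι → (↥A → ℂ) := fun i a => μ i a.1
  have hg : Function.Injective g := by
    intro i j hij
    by_contra hne
    obtain ⟨a, ha, hne'⟩ := hμ i j hne
    exact hne' (congrFun hij ⟨a, ha⟩)
  have h2 := h1.comp hg
  refine h2.mono ?_
  intro i v hv
  simp only [Function.comp, Submodule.mem_iInf]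
  intro a
  apply Module.End.eigenspace_le_maxGenEigenspace
  rw [Module.End.mem_eigenspace_iff]
  exact hv a.1 a.2

/-- the dimensions of independent subspaces add up to at most the dimension -/
theorem sum_finrank_le_of_indep [FiniteDimensional ℂ V] {ι : Type*} [Fintype ι] [DecidableEq ι]
    (N : ι → Submodule ℂ V) (hN : iSupIndep N) :
    ∑ i, finrank ℂ (N i) ≤ finrank ℂ V := by
  have hinj : Function.Injective (DirectSum.coeLinearMap N) := hN.dfinsupp_lsum_injective
  have h := LinearMap.finrank_le_finrank_of_injective hinj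
  rwa [Module.finrank_directSum] at h

/-- independent subspaces whose dimensions add up to the dimension form a direct sum -/
theorem isInternal_of_sum_finrank_eq [FiniteDimensional ℂ V] {ι : Type*} [Fintype ι]
    [DecidableEq ι] (N : ι → Submodule ℂ V) (hN : iSupIndep N)
    (hsum : ∑ i, finrank ℂ (N i) = finrank ℂ V) : DirectSum.IsInternal N := by
  have hinj : Function.Injective (DirectSum.coeLinearMap N) := hN.dfinsupp_lsum_injective
  have hfr : finrank ℂ (DirectSum ι fun i => N i) = finrank ℂ V := by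
    rw [Module.finrank_directSum, hsum]
  exact ⟨hinj, (LinearMap.injective_iff_surjective_of_finrank_eq_finrank hfr).1 hinj⟩

/-- the dimension of an eigenspace of a central subgroup `Z`, from the action on an abelian
subgroup `A ≥ Z` of elements `u i` whose commutators with `A` are detected by the character -/
theorem card_le_finrank_eigSp [FiniteDimensional ℂ V] (ρ : Representation ℂ G V)
    (A Z : Subgroup G) (hA : ∀ a ∈ A, ∀ b ∈ A, a * b = b * a) (hZA : Z ≤ A)
    {ι : Type*} [Fintype ι] (u : ι → G)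
    (huA : ∀ i, ∀ a ∈ A, (u i)⁻¹ * a * u i ∈ A)
    (huZ : ∀ i, ∀ z ∈ Z, u i * z = z * u i)
    (lam : G → ℂ) (hne : eigSp ρ Z lam ≠ ⊥)
    (hsep : ∀ i j, i ≠ j → ∃ a ∈ A, ∃ c ∈ Z, lam c ≠ 1 ∧
      (u i)⁻¹ * a * u i = c * ((u j)⁻¹ * a * u j)) :
    Fintype.card ι ≤ finrank ℂ (eigSp ρ Z lam) := by
  classical
  have hEA : ∀ a ∈ A, ∀ w ∈ eigSp ρ Z lam, ρ a w ∈ eigSp ρ Z lam := by
    intro a ha w hw z hz
    rw [← rho_mul_apply, hA z (hZA hz) a ha, rho_mul_apply, hw z hz, map_smul]
  obtain ⟨μ, w, hwE, hw0, hμ⟩ := exists_common_eigvec ρ A hA _ _ rfl hne hEA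
  have hμZ : ∀ z ∈ Z, μ z = lam z := by
    intro z hz
    have h1 := hμ z (hZA hz)
    rw [hwE z hz] at h1
    have h2 : (lam z - μ z) • w = 0 := by rw [sub_smul, h1, sub_self]
    rcases smul_eq_zero.1 h2 with h | h
    · exact (sub_eq_zero.1 h).symm
    · exact absurd h hw0
  have hμmul : ∀ a ∈ A, ∀ b ∈ A, μ (a * b) = μ a * μ b := by
    intro a ha b hb
    have h1 := hμ (a * b) (mul_mem ha hb)
    rw [rho_mul_apply, hμ b hb, map_smul, hμ a ha, smul_smul] at h1
    have h2 : (μ b * μ a - μ (a * b)) • w = 0 := by rw [sub_smul, h1, sub_self]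
    rcases smul_eq_zero.1 h2 with h | h
    · rw [← sub_eq_zero.1 h, mul_comm]
    · exact absurd h hw0
  have hμne : ∀ a ∈ A, μ a ≠ 0 := by
    intro a ha h0
    have h1 := hμ a ha
    rw [h0, zero_smul] at h1
    have h2 := rho_inv_apply ρ a w
    rw [h1, map_zero] at h2
    exact hw0 h2.symm
  let μi : ι → G → ℂ := fun i a => μ ((u i)⁻¹ * a * u i)
  have hwi : ∀ i, ρ (u i) w ∈ eigSp ρ A (μi i) := fun i =>
    map_mem_eigSp (u i) (huA i) (fun a ha => hμ a ha)
  have hwi0 : ∀ i, ρ (u i) w ≠ 0 := by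
    intro i h0
    apply hw0
    apply rho_injective ρ (u i)
    rw [h0, map_zero]
  have hwiE : ∀ i, ρ (u i) w ∈ eigSp ρ Z lam := by
    intro i z hz
    rw [← rho_mul_apply, ← huZ i z hz, rho_mul_apply, hwE z hz, map_smul]
  have hdist : ∀ i j, i ≠ j → ∃ a ∈ A, μi i a ≠ μi j a := by
    intro i j hij
    obtain ⟨a, ha, c, hc, hlc, he⟩ := hsep i j hij
    refine ⟨a, ha, ?_⟩
    show μ ((u i)⁻¹ * a * u i) ≠ μ ((u j)⁻¹ * a * u j)
    rw [he, hμmul c (hZA hc) _ (huA j a ha), hμZ c hc]
    intro h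
    have h2 : (lam c - 1) * μ ((u j)⁻¹ * a * u j) = 0 := by rw [sub_mul, h, one_mul, sub_self]
    rcases mul_eq_zero.1 h2 with h3 | h3
    · exact hlc (sub_eq_zero.1 h3)
    · exact hμne _ (huA j a ha) h3
  have hind := eigSp_indep ρ A hA μi hdist
  have hli : LinearIndependent ℂ (fun i => ρ (u i) w) := hind.linearIndependent _ hwi hwi0
  have hli' : LinearIndependent ℂ (fun i => (⟨ρ (u i) w, hwiE i⟩ : eigSp ρ Z lam)) := by
    apply LinearIndependent.of_comp (eigSp ρ Z lam).subtype
    exact hli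
  exact hli'.fintype_card_le_finrank

/-- an abelian subgroup containing an element of finite order acting non-trivially has a
non-zero eigenspace whose character is non-trivial on that element -/
theorem exists_eigSp_ne_bot [FiniteDimensional ℂ V] (ρ : Representation ℂ G V) (Z : Subgroup G)
    (hZ : ∀ a ∈ Z, ∀ b ∈ Z, a * b = b * a) (z₀ : G) (hz₀ : z₀ ∈ Z) (n : ℕ) (hn : 0 < n)
    (hpow : z₀ ^ n = 1) (hρ : ρ z₀ ≠ 1) :
    ∃ lam : G → ℂ, eigSp ρ Z lam ≠ ⊥ ∧ lam z₀ ≠ 1 := by
  let N : V →ₗ[ℂ] V := ρ z₀ - 1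
  have hN0 : N ≠ 0 := fun h => hρ (sub_eq_zero.1 h)
  have hNapp : ∀ v, N v = ρ z₀ v - v := fun v => rfl
  let W : Submodule ℂ V := LinearMap.range N
  have hW : W ≠ ⊥ := by
    intro h0
    apply hN0
    exact LinearMap.range_eq_bot.1 h0
  have hinv : ∀ z ∈ Z, ∀ w ∈ W, ρ z w ∈ W := by
    rintro z hz _ ⟨v, rfl⟩
    refine ⟨ρ z v, ?_⟩
    rw [hNapp, hNapp, map_sub, ← rho_mul_apply, ← rho_mul_apply, hZ z hz z₀ hz₀]
  obtain ⟨lam, w, hwW, hw0, hlam⟩ := exists_common_eigvec ρ Z hZ _ W rfl hW hinv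
  refine ⟨lam, ?_, ?_⟩
  · intro h0
    have : w ∈ eigSp ρ Z lam := hlam
    rw [h0, Submodule.mem_bot] at this
    exact hw0 this
  · intro h1
    obtain ⟨v, rfl⟩ := hwW
    have hNN : N (N v) = 0 := by
      have := hlam z₀ hz₀
      rw [h1, one_smul] at this
      rw [hNapp (N v), this, sub_self]
    have hT : ∀ k : ℕ, ρ (z₀ ^ k) v = v + (k : ℂ) • N v := by
      intro k
      induction k with
      | zero => simp
      | succ k ih =>
        have hTv : ρ z₀ v = v + N v := by rw [hNapp]; abel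
        have hTN : ρ z₀ (N v) = N v := by
          have := hNapp (N v)
          rw [hNN] at this
          exact (sub_eq_zero.1 this.symm)
        rw [pow_succ', rho_mul_apply, ih, map_add, map_smul, hTv, hTN]
        push_cast
        rw [add_smul, one_smul]
        abel
    have h2 := hT n
    rw [hpow, map_one] at h2
    have h3 : (n : ℂ) • N v = 0 := by
      have : v = v + (n : ℂ) • N v := h2
      exact (add_eq_left.1 this.symm)
    rcases smul_eq_zero.1 h3 with h | h
    · exact absurd (Nat.cast_eq_zero.1 h) (Nat.pos_iff_ne_zero.1 hn)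
    · exact hw0 h

/-- a four-group all of whose involutions have trace zero: the dimension is divisible by four -/
theorem four_dvd_finrank [FiniteDimensional ℂ V] (ρ : Representation ℂ G V) (t j : G)
    (ht : t * t = 1) (hj : j * j = 1) (htj : t * j = j * t)
    (h1 : LinearMap.trace ℂ V (ρ t) = 0) (h2 : LinearMap.trace ℂ V (ρ j) = 0)
    (h3 : LinearMap.trace ℂ V (ρ (t * j)) = 0) : 4 ∣ finrank ℂ V := by
  let P : V →ₗ[ℂ] V := (1 / 4 : ℂ) • (1 + ρ t + ρ j + ρ (t * j))
  have e1 : ρ t * ρ t = 1 := by rw [← map_mul, ht, map_one]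
  have e2 : ρ j * ρ j = 1 := by rw [← map_mul, hj, map_one]
  have e3 : ρ j * ρ t = ρ t * ρ j := by rw [← map_mul, ← map_mul, htj]
  have e4 : ρ (t * j) = ρ t * ρ j := map_mul _ _ _
  have hP : IsIdempotentElem P := by
    show P * P = P
    simp only [P, e4]
    rw [smul_mul_smul_comm]
    have : (1 + ρ t + ρ j + ρ t * ρ j) * (1 + ρ t + ρ j + ρ t * ρ j) =
        (4 : ℂ) • (1 + ρ t + ρ j + ρ t * ρ j) := by
      have a1 : ρ t * (ρ t * ρ j) = ρ j := by rw [← mul_assoc, e1, one_mul]
      have a2 : ρ j * (ρ t * ρ j) = ρ t := by rw [← mul_assoc, e3, mul_assoc, e2, mul_one]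
      have a3 : ρ t * ρ j * ρ t = ρ j := by rw [mul_assoc, e3, ← mul_assoc, e1, one_mul]
      have a4 : ρ t * ρ j * ρ j = ρ t := by rw [mul_assoc, e2, mul_one]
      have a5 : ρ t * ρ j * (ρ t * ρ j) = 1 := by
        rw [mul_assoc, a2, e1]
      simp only [mul_add, add_mul, mul_one, one_mul, e1, e2, e3, a1, a2, a3, a4, a5]
      rw [show (4 : ℂ) = 1 + 1 + 1 + 1 by norm_num]
      simp only [add_smul, one_smul]
      abel
    rw [this, smul_smul]
    norm_num
  have hproj : LinearMap.IsProj (LinearMap.range P) P :=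
    (LinearMap.isProj_range_iff_isIdempotentElem P).2 hP
  have htr := hproj.trace
  have htr2 : LinearMap.trace ℂ V P = (1 / 4 : ℂ) * (finrank ℂ V : ℂ) := by
    simp only [P, map_smul, map_add, LinearMap.trace_one, h1, h2, h3, add_zero, smul_eq_mul]
  rw [htr2] at htr
  have h4 : ((finrank ℂ V : ℕ) : ℂ) = ((4 * finrank ℂ (LinearMap.range P) : ℕ) : ℂ) := by
    push_cast
    rw [← htr]
    ring
  exact ⟨_, Nat.cast_injective h4⟩

/-- the character of a non-zero simultaneous eigenspace is multiplicative and does not vanish -/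
theorem lam_mul_of_ne_bot {ρ : Representation ℂ G V} {Z : Subgroup G} {lam : G → ℂ}
    (hne : eigSp ρ Z lam ≠ ⊥) {a b : G} (ha : a ∈ Z) (hb : b ∈ Z) :
    lam (a * b) = lam a * lam b := by
  obtain ⟨w, hw, hw0⟩ := Submodule.exists_mem_ne_zero_of_ne_bot hne
  have h1 := hw (a * b) (mul_mem ha hb)
  rw [rho_mul_apply, hw b hb, map_smul, hw a ha, smul_smul] at h1
  have h2 : (lam b * lam a - lam (a * b)) • w = 0 := by rw [sub_smul, h1, sub_self]
  rcases smul_eq_zero.1 h2 with h | h
  · rw [← sub_eq_zero.1 h, mul_comm]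
  · exact absurd h hw0

theorem lam_one_of_ne_bot {ρ : Representation ℂ G V} {Z : Subgroup G} {lam : G → ℂ}
    (hne : eigSp ρ Z lam ≠ ⊥) : lam 1 = 1 := by
  obtain ⟨w, hw, hw0⟩ := Submodule.exists_mem_ne_zero_of_ne_bot hne
  have h1 := hw 1 (one_mem Z)
  rw [map_one, Module.End.one_apply] at h1
  have h2 : (lam 1 - 1) • w = 0 := by rw [sub_smul, one_smul, ← h1, sub_self]
  rcases smul_eq_zero.1 h2 with h | h
  · exact sub_eq_zero.1 h
  · exact absurd h hw0

end Cfsg.Agent.Helper2.RepEig
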