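import Mathlib
import Cfsg.Agent.Lib.Lead.TwReeSimple
import Cfsg.Agent.Lib.Helper2.ReeRep1
import Cfsg.Agent.Lib.Helper2.RepEig
import Cfsg.Agent.Lib.Helper2.Ree19Inst

/-!
# The small Ree groups: the smallest degree of a non-trivial complex representation
-/

set_option autoImplicit false
set_option linter.unusedSectionVars false
set_option linter.unusedSimpArgs false
set_option linter.unusedVariables false
set_option linter.style.haveILetI false

namespace Cfsg.Agent.Helper2.Ree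

open Cfsg Cfsg.Lie Cfsg.Agent.Lead.Chev Cfsg.Agent.Lead.ZPM Cfsg.Agent.Lead.Tw Cfsg.Agent.Lead.Tw.G2
open Cfsg.Agent.Helper2.RepEig Module

section finite

variable {K : Type*} [Field K] [Fintype K] [CharP K 3] {m : ℕ} (hK : Fintype.card K = 3 ^ (2 * m + 1))
  (hperf : ∀ x : K, ∃ y : K, y ^ 3 = x) (f : K ≃+* K) (hf : ∀ t, f t = t ^ (3 ^ m))
include hK hperf hf

/-- the elements of `U¹` as elements of the Ree group -/
noncomputable def xR (t u v : K) : ↥(twistedG2 K (3 ^ m)) :=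
  ⟨wordGL chevG2 hF.xadd (reeWordU (3 ^ m) t u v), (xU_mem hK hperf f hf t u v).2⟩

/-- the elements of `H¹` as elements of the Ree group -/
noncomputable def hR (y : Kˣ) : ↥(twistedG2 K (3 ^ m)) :=
  ⟨pHom (m := m) y, (pHom_mem hK hperf f hf y).2⟩

theorem xR_mul_0 (t u v u' v' : K) :
    xR hK hperf f hf t u v * xR hK hperf f hf 0 u' v' = xR hK hperf f hf t (u + u') (v + v') :=
  Subtype.ext (u_mul_u1 t u v u' v')

theorem xR_0_mul_t (u v t : K) :
    xR hK hperf f hf 0 u v * xR hK hperf f hf t 0 0 = xR hK hperf f hf t u (v + 2 * u * t) :=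
  Subtype.ext (mul_0uv_t00_full hK hperf f hf u v t)

theorem xR_inj {t u v t' u' v' : K} (h : xR hK hperf f hf t u v = xR hK hperf f hf t' u' v') :
    t = t' ∧ u = u' ∧ v = v' :=
  u_inj t u v t' u' v' (congrArg Subtype.val h)

theorem xR_zero : xR hK hperf f hf 0 0 0 = 1 :=
  Subtype.ext ((u_eq_one_iff 0 0 0).2 ⟨rfl, rfl, rfl⟩)

theorem hR_mul (y y' : Kˣ) : hR hK hperf f hf (y * y') = hR hK hperf f hf y * hR hK hperf f hf y' :=
  Subtype.ext (map_mul _ y y')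

theorem hR_one : hR hK hperf f hf 1 = 1 := Subtype.ext (map_one _)

theorem hR_inv (y : Kˣ) : hR hK hperf f hf y⁻¹ = (hR hK hperf f hf y)⁻¹ := by
  apply eq_inv_of_mul_eq_one_left
  rw [← hR_mul, inv_mul_cancel, hR_one]

theorem hR_conj (y : Kˣ) (v : K) :
    hR hK hperf f hf y * xR hK hperf f hf 0 0 v * (hR hK hperf f hf y)⁻¹ =
      xR hK hperf f hf 0 0 ((y : K) * v) :=
  Subtype.ext (conj_00v hK hperf f hf y v)

theorem hR_conj' (y : Kˣ) (v : K) :
    (hR hK hperf f hf y)⁻¹ * xR hK hperf f hf 0 0 v * hR hK hperf f hf y =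
      xR hK hperf f hf 0 0 (((y⁻¹ : Kˣ) : K) * v) := by
  have h := hR_conj hK hperf f hf y⁻¹ v
  rw [hR_inv, inv_inv] at h
  exact h

/-- the centre of `U¹` -/
def ZR : Subgroup ↥(twistedG2 K (3 ^ m)) where
  carrier := {g | ∃ v : K, g = xR hK hperf f hf 0 0 v}
  mul_mem' := by
    rintro _ _ ⟨v, rfl⟩ ⟨v', rfl⟩
    exact ⟨v + v', by rw [xR_mul_0, add_zero]⟩
  one_mem' := ⟨0, (xR_zero hK hperf f hf).symm⟩
  inv_mem' := by
    rintro _ ⟨v, rfl⟩
    refine ⟨-v, ?_⟩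
    apply inv_eq_of_mul_eq_one_right
    rw [xR_mul_0, add_zero, add_neg_cancel, xR_zero]

/-- the abelian normal subgroup `x(0,u,v)` of `U¹` -/
def AR : Subgroup ↥(twistedG2 K (3 ^ m)) where
  carrier := {g | ∃ u v : K, g = xR hK hperf f hf 0 u v}
  mul_mem' := by
    rintro _ _ ⟨u, v, rfl⟩ ⟨u', v', rfl⟩
    exact ⟨u + u', v + v', by rw [xR_mul_0]⟩
  one_mem' := ⟨0, 0, (xR_zero hK hperf f hf).symm⟩
  inv_mem' := by
    rintro _ ⟨u, v, rfl⟩
    refine ⟨-u, -v, ?_⟩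
    apply inv_eq_of_mul_eq_one_right
    rw [xR_mul_0, add_neg_cancel, add_neg_cancel, xR_zero]

theorem mem_ZR {g : ↥(twistedG2 K (3 ^ m))} :
    g ∈ ZR hK hperf f hf ↔ ∃ v : K, g = xR hK hperf f hf 0 0 v := Iff.rfl

theorem mem_AR {g : ↥(twistedG2 K (3 ^ m))} :
    g ∈ AR hK hperf f hf ↔ ∃ u v : K, g = xR hK hperf f hf 0 u v := Iff.rfl

theorem AR_comm : ∀ a ∈ AR hK hperf f hf, ∀ b ∈ AR hK hperf f hf, a * b = b * a := by
  rintro _ ⟨u, v, rfl⟩ _ ⟨u', v', rfl⟩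
  rw [xR_mul_0, xR_mul_0, add_comm u, add_comm v]

theorem ZR_le_AR : ZR hK hperf f hf ≤ AR hK hperf f hf := by
  rintro _ ⟨v, rfl⟩
  exact ⟨0, v, rfl⟩

theorem ZR_comm : ∀ a ∈ ZR hK hperf f hf, ∀ b ∈ ZR hK hperf f hf, a * b = b * a :=
  fun a ha b hb => AR_comm hK hperf f hf a (ZR_le_AR hK hperf f hf ha) b (ZR_le_AR hK hperf f hf hb)

/-- conjugating `x(0,u,v)` by `x(t,0,0)` -/
theorem conj_t00 (t u v : K) :
    (xR hK hperf f hf t 0 0)⁻¹ * xR hK hperf f hf 0 u v * xR hK hperf f hf t 0 0 =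
      xR hK hperf f hf 0 u (v + 2 * u * t) := by
  rw [mul_assoc, xR_0_mul_t]
  have h : xR hK hperf f hf t u (v + 2 * u * t) =
      xR hK hperf f hf t 0 0 * xR hK hperf f hf 0 u (v + 2 * u * t) := by
    rw [xR_mul_0, zero_add, zero_add]
  rw [h, inv_mul_cancel_left]

theorem t00_comm_ZR (t : K) : ∀ z ∈ ZR hK hperf f hf,
    xR hK hperf f hf t 0 0 * z = z * xR hK hperf f hf t 0 0 := by
  rintro _ ⟨v, rfl⟩
  rw [xR_mul_0, xR_0_mul_t]
  congr 1 <;> ring

theorem two_ne_zero_K : (2 : K) ≠ 0 := by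
  intro h
  have h3 := three_eq_zero (K := K)
  have : (1 : K) = 0 := by linear_combination h3 - h
  exact one_ne_zero this

/-- the eigenspaces of the centre of `U¹` for non-trivial characters have dimension at least `q` -/
theorem card_le_finrank_eigSp_ZR {V : Type*} [AddCommGroup V] [Module ℂ V] [FiniteDimensional ℂ V]
    (ρ : Representation ℂ ↥(twistedG2 K (3 ^ m)) V) (lam : ↥(twistedG2 K (3 ^ m)) → ℂ)
    (hne : eigSp ρ (ZR hK hperf f hf) lam ≠ ⊥) (v₀ : K)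
    (hv₀ : lam (xR hK hperf f hf 0 0 v₀) ≠ 1) :
    Fintype.card K ≤ finrank ℂ (eigSp ρ (ZR hK hperf f hf) lam) := by
  have h2 := two_ne_zero_K hK hperf f hf
  apply card_le_finrank_eigSp ρ (AR hK hperf f hf) (ZR hK hperf f hf) (AR_comm hK hperf f hf)
    (ZR_le_AR hK hperf f hf) (fun t : K => xR hK hperf f hf t 0 0) ?_
    (fun t => t00_comm_ZR hK hperf f hf t) lam hne ?_
  · rintro t _ ⟨u, v, rfl⟩
    rw [conj_t00]
    exact ⟨u, _, rfl⟩
  · intro t t' htt'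
    have hd : t - t' ≠ 0 := sub_ne_zero.2 htt'
    refine ⟨xR hK hperf f hf 0 (v₀ / (2 * (t - t'))) 0, ⟨_, _, rfl⟩,
      xR hK hperf f hf 0 0 v₀, ⟨_, rfl⟩, hv₀, ?_⟩
    rw [conj_t00, conj_t00, xR_mul_0]
    congr 1
    · ring
    · field_simp
      ring

/-- **a non-trivial complex representation of the small Ree group has degree at least
`q² - q + 1`** -/
theorem ree_rep_bound (hm : 1 ≤ m) (k : ℕ)
    (ρ : Representation ℂ ↥(twistedG2 K (3 ^ m)) (Fin k → ℂ)) (hρ : ∃ g, ρ g ≠ 1) :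
    (3 ^ (2 * m + 1)) ^ 2 - 3 ^ (2 * m + 1) + 1 ≤ k := by
  classical
  have h2 := two_ne_zero_K hK hperf f hf
  have h3 := three_eq_zero (K := K)
  obtain ⟨hsimple, -⟩ := Cfsg.Agent.Lead.Tw.G2.simple hK hperf f hf hm
  haveI := hsimple
  -- the representation is faithful
  have hinj : ∀ g : ↥(twistedG2 K (3 ^ m)), ρ g = 1 → g = 1 := by
    intro g hg
    rcases (MonoidHom.normal_ker (ρ : ↥(twistedG2 K (3 ^ m)) →* _)).eq_bot_or_eq_top with h | h
    · have : g ∈ MonoidHom.ker (ρ : ↥(twistedG2 K (3 ^ m)) →* _) := hg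
      rw [h] at this
      exact Subgroup.mem_bot.1 this
    · exfalso
      obtain ⟨g', hg'⟩ := hρ
      apply hg'
      have : g' ∈ MonoidHom.ker (ρ : ↥(twistedG2 K (3 ^ m)) →* _) := by rw [h]; trivial
      exact this
  -- a non-trivial character of the centre of `U¹`
  have hz₀ne : xR hK hperf f hf 0 0 1 ≠ 1 := by
    intro h
    rw [← xR_zero hK hperf f hf] at h
    exact one_ne_zero (xR_inj hK hperf f hf h).2.2
  have hz₀pow : (xR hK hperf f hf 0 0 1) ^ 3 = 1 := by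
    rw [pow_three, xR_mul_0, xR_mul_0, ← xR_zero hK hperf f hf]
    congr 1
    · ring
    · linear_combination h3
  obtain ⟨lam, hne, hlam1⟩ := exists_eigSp_ne_bot ρ (ZR hK hperf f hf) (ZR_comm hK hperf f hf)
    (xR hK hperf f hf 0 0 1) ⟨1, rfl⟩ 3 (by norm_num) hz₀pow (fun h => hz₀ne (hinj _ h))
  have hℓmul : ∀ v v' : K, lam (xR hK hperf f hf 0 0 (v + v')) =
      lam (xR hK hperf f hf 0 0 v) * lam (xR hK hperf f hf 0 0 v') := by
    intro v v'
    have h := lam_mul_of_ne_bot hne (a := xR hK hperf f hf 0 0 v) (b := xR hK hperf f hf 0 0 v')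
      ⟨v, rfl⟩ ⟨v', rfl⟩
    rw [xR_mul_0, add_zero] at h
    exact h
  have hℓ0 : lam (xR hK hperf f hf 0 0 0) = 1 := by
    rw [xR_zero]
    exact lam_one_of_ne_bot hne
  have hℓne0 : ∀ v : K, lam (xR hK hperf f hf 0 0 v) ≠ 0 := by
    intro v h0
    have h := hℓmul v (-v)
    rw [add_neg_cancel, hℓ0, h0, zero_mul] at h
    exact one_ne_zero h
  -- the conjugate characters
  let lamY : Kˣ → ↥(twistedG2 K (3 ^ m)) → ℂ := fun y a =>
    lam ((hR hK hperf f hf y)⁻¹ * a * hR hK hperf f hf y)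
  have hgZ : ∀ y : Kˣ, ∀ a ∈ ZR hK hperf f hf,
      (hR hK hperf f hf y)⁻¹ * a * hR hK hperf f hf y ∈ ZR hK hperf f hf := by
    rintro y _ ⟨v, rfl⟩
    rw [hR_conj']
    exact ⟨_, rfl⟩
  let N : Kˣ → Submodule ℂ (Fin k → ℂ) := fun y => eigSp ρ (ZR hK hperf f hf) (lamY y)
  have hNle : ∀ y, finrank ℂ (eigSp ρ (ZR hK hperf f hf) lam) ≤ finrank ℂ (N y) := fun y =>
    finrank_eigSp_le_conj (hR hK hperf f hf y) (hgZ y)
  have hqle : Fintype.card K ≤ finrank ℂ (eigSp ρ (ZR hK hperf f hf) lam) :=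
    card_le_finrank_eigSp_ZR hK hperf f hf ρ lam hne 1 hlam1
  have hdist : ∀ y y' : Kˣ, y ≠ y' → ∃ z ∈ ZR hK hperf f hf, lamY y z ≠ lamY y' z := by
    intro y y' hyy'
    by_contra hcon
    push Not at hcon
    have hd : ((y⁻¹ : Kˣ) : K) - ((y'⁻¹ : Kˣ) : K) ≠ 0 := by
      intro h0
      apply hyy'
      have h1 : (y⁻¹ : Kˣ) = y'⁻¹ := Units.ext (sub_eq_zero.1 h0)
      exact inv_injective h1
    set d := ((y⁻¹ : Kˣ) : K) - ((y'⁻¹ : Kˣ) : K) with hddef
    have h1 := hcon (xR hK hperf f hf 0 0 d⁻¹) ⟨_, rfl⟩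
    simp only [lamY] at h1
    rw [hR_conj', hR_conj'] at h1
    have h4 : ((y⁻¹ : Kˣ) : K) * d⁻¹ = 1 + ((y'⁻¹ : Kˣ) : K) * d⁻¹ := by
      have : ((y⁻¹ : Kˣ) : K) = d + ((y'⁻¹ : Kˣ) : K) := by rw [hddef]; ring
      rw [this, add_mul, mul_inv_cancel₀ hd]
    rw [h4, hℓmul] at h1
    have h5 : (lam (xR hK hperf f hf 0 0 1) - 1) *
        lam (xR hK hperf f hf 0 0 (((y'⁻¹ : Kˣ) : K) * d⁻¹)) = 0 := by
      rw [sub_mul, h1, one_mul, sub_self]
    rcases mul_eq_zero.1 h5 with h6 | h6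
    · exact hlam1 (sub_eq_zero.1 h6)
    · exact hℓne0 _ h6
  have hind : iSupIndep N := eigSp_indep ρ (ZR hK hperf f hf) (ZR_comm hK hperf f hf) lamY hdist
  have hsum : ∑ y, finrank ℂ (N y) ≤ k := by
    have h := sum_finrank_le_of_indep N hind
    rwa [Module.finrank_fin_fun] at h
  have hcardU : Fintype.card Kˣ = 3 ^ (2 * m + 1) - 1 := by
    rw [Fintype.card_units, hK]
  have hlow : (3 ^ (2 * m + 1) - 1) * 3 ^ (2 * m + 1) ≤ ∑ y, finrank ℂ (N y) := by
    have h : ∀ y ∈ (Finset.univ : Finset Kˣ), 3 ^ (2 * m + 1) ≤ finrank ℂ (N y) := by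
      intro y _
      rw [← hK]
      exact hqle.trans (hNle y)
    have h' := Finset.card_nsmul_le_sum Finset.univ _ _ h
    rwa [Finset.card_univ, hcardU, smul_eq_mul] at h'
  by_contra hlt
  push Not at hlt
  have hqpos : 27 ≤ 3 ^ (2 * m + 1) := by
    calc 27 = 3 ^ 3 := by norm_num
      _ ≤ 3 ^ (2 * m + 1) := Nat.pow_le_pow_right (by norm_num) (by omega)
  have hqq : (3 ^ (2 * m + 1)) ^ 2 - 3 ^ (2 * m + 1) = (3 ^ (2 * m + 1) - 1) * 3 ^ (2 * m + 1) := by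
    rw [Nat.sub_mul, one_mul, pow_two]
  have hk : k = (3 ^ (2 * m + 1) - 1) * 3 ^ (2 * m + 1) := by
    rw [hqq] at hlt
    omega
  have hsumeq : ∑ y, finrank ℂ (N y) = finrank ℂ (Fin k → ℂ) := by
    rw [Module.finrank_fin_fun]
    omega
  have hint := isInternal_of_sum_finrank_eq N hind hsumeq
  -- the involution of `H¹` has trace zero
  have hneg : ∀ y : Kˣ, -y ≠ y := by
    intro y h
    have h1 : -(y : K) = (y : K) := by
      have := congrArg Units.val h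
      simpa using this
    have h4 : (2 : K) * (y : K) = 0 := by linear_combination -h1
    rcases mul_eq_zero.1 h4 with h5 | h5
    · exact h2 h5
    · exact Units.ne_zero y h5
  have hmaps : ∀ y : Kˣ, Set.MapsTo (ρ (hR hK hperf f hf (-1))) (N y) (N (-y)) := by
    intro y v hv
    have h := map_mem_eigSp (hR hK hperf f hf (-1)) (hgZ (-1)) hv
    have he : (fun a => lamY y ((hR hK hperf f hf (-1))⁻¹ * a * hR hK hperf f hf (-1))) = lamY (-y) := by
      funext a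
      show lam (_ * _ * _) = lam (_ * _ * _)
      have h7 : hR hK hperf f hf (-y) = hR hK hperf f hf (-1) * hR hK hperf f hf y := by
        rw [← hR_mul, neg_one_mul]
      rw [h7]
      congr 1
      group
    rw [he] at h
    exact h
  have htr0 : LinearMap.trace ℂ (Fin k → ℂ) (ρ (hR hK hperf f hf (-1))) = 0 :=
    LinearMap.trace_eq_zero_of_mapsTo_ne hint (fun y => -y) hneg hmaps
  have ht₀sq : hR hK hperf f hf (-1) * hR hK hperf f hf (-1) = 1 := by
    rw [← hR_mul, neg_one_mul, neg_neg, hR_one]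
  have ht₀ne : hR hK hperf f hf (-1) ≠ 1 := by
    intro h
    have h5 := hR_conj hK hperf f hf (-1) 1
    rw [h, one_mul, inv_one, mul_one] at h5
    have h6 := (xR_inj hK hperf f hf h5).2.2
    have h7 : (1 : K) = -1 := by simpa using h6
    apply h2
    linear_combination h7
  have ht₀ord : orderOf (hR hK hperf f hf (-1)) = 2 :=
    Cfsg.Agent.Helper2.orderOf_two_of_mul_self ht₀sq ht₀ne
  obtain ⟨R, -⟩ := exists_reeData_U hK hperf f hf hm
  have htrinv : ∀ s : ↥(twistedG2 K (3 ^ m)), orderOf s = 2 →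
      LinearMap.trace ℂ (Fin k → ℂ) (ρ s) = 0 := by
    intro s hs
    obtain ⟨g, hg⟩ := R.invol_conj ht₀ord hs
    have e : ρ (g * hR hK hperf f hf (-1) * g⁻¹) = (ρ g * ρ (hR hK hperf f hf (-1))) * ρ g⁻¹ := by
      rw [map_mul, map_mul]
    have e2 : ρ g⁻¹ * (ρ g * ρ (hR hK hperf f hf (-1))) = ρ (hR hK hperf f hf (-1)) := by
      rw [← mul_assoc, ← map_mul, inv_mul_cancel, map_one, one_mul]
    rw [← hg, e, LinearMap.trace_mul_comm, e2]
    exact htr0
  obtain ⟨t, j, y, htt, hjj, htj, ht1, hj1, htj_ne, -, -, -⟩ := R.exists_four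
  have htjsq : (t * j) * (t * j) = 1 := by
    rw [mul_assoc, ← mul_assoc j, ← htj, mul_assoc, hjj, mul_one, htt]
  have htjne : t * j ≠ 1 := by
    intro h
    apply htj_ne
    have : t = j⁻¹ := eq_inv_of_mul_eq_one_left h
    rw [this]
    exact inv_eq_of_mul_eq_one_left hjj
  have h4 := four_dvd_finrank ρ t j htt hjj htj
    (htrinv t (Cfsg.Agent.Helper2.orderOf_two_of_mul_self htt ht1))
    (htrinv j (Cfsg.Agent.Helper2.orderOf_two_of_mul_self hjj hj1))
    (htrinv (t * j) (Cfsg.Agent.Helper2.orderOf_two_of_mul_self htjsq htjne))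
  rw [Module.finrank_fin_fun, hk] at h4
  have hmod := Cfsg.Agent.Lead.Tw.G2.card_mod_eight (m := m)
  obtain ⟨c, hc⟩ := h4
  have h8 : 3 ^ (2 * m + 1) = 8 * (3 ^ (2 * m + 1) / 8) + 3 := by omega
  set q8 := 3 ^ (2 * m + 1) / 8 with hq8
  rw [h8] at hc
  have : (8 * q8 + 3 - 1) * (8 * q8 + 3) = 4 * (16 * q8 * q8 + 10 * q8 + 1) + 2 := by
    have e : 8 * q8 + 3 - 1 = 8 * q8 + 2 := by omega
    rw [e]
    ring
  omega

end finite

end Cfsg.Agent.Helper2.Ree
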