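import Mathlib
import Cfsg.Agent.Lib.Helper29.StemSylow

/-!
# Central extensions of a group with a torus acting on a layered unipotent group, I

The vanishing of biadditive pairings that are invariant under a torus acting with two
weights, and the resulting commutation of lifts in a central extension.
-/

set_option autoImplicit false

namespace Cfsg.Agent.Helper2.StemLayer

open scoped commutatorElement
open Cfsg.Agent.Helper29.StemSylow

section bilin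

variable {K : Type*} [Field K] {T : Type*} {A : Type*} [CommGroup A]

/-- a biadditive pairing invariant under the weights `φ`, `ψ` vanishes, if three weights of `φ`
are in an additive relation that the inverses of the weights of `ψ` do not satisfy -/
theorem bilin_kill (β : K → K → A) (φ ψ : T → K)
    (hl : ∀ a a' b, β (a + a') b = β a b * β a' b)
    (hr : ∀ a b b', β a (b + b') = β a b * β a b')
    (hinv : ∀ h a b, β (φ h * a) (ψ h * b) = β a b)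
    (hψ : ∀ h, ψ h ≠ 0)
    (h₁ h₂ h₃ : T) (e1 : φ h₁ + φ h₂ = φ h₃) (e2 : (ψ h₁)⁻¹ + (ψ h₂)⁻¹ ≠ (ψ h₃)⁻¹) :
    ∀ a b, β a b = 1 := by
  have r0 : ∀ a, β a 0 = 1 := by
    intro a
    have h := hr a 0 0
    rw [add_zero] at h
    exact mul_eq_left.1 h.symm
  have rneg : ∀ a b, β a (-b) = (β a b)⁻¹ := by
    intro a b
    have h := hr a b (-b)
    rw [add_neg_cancel, r0] at h
    exact eq_inv_of_mul_eq_one_right h.symm
  have g : ∀ h a b, β (φ h * a) b = β a ((ψ h)⁻¹ * b) := by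
    intro h a b
    have := hinv h a ((ψ h)⁻¹ * b)
    rwa [← mul_assoc, mul_inv_cancel₀ (hψ h), one_mul] at this
  have key : ∀ a b, β a (((ψ h₁)⁻¹ + (ψ h₂)⁻¹ - (ψ h₃)⁻¹) * b) = 1 := by
    intro a b
    have h1 : β (φ h₃ * a) b = β a ((ψ h₁)⁻¹ * b) * β a ((ψ h₂)⁻¹ * b) := by
      rw [← e1, add_mul, hl, g, g]
    rw [g] at h1
    have e : ((ψ h₁)⁻¹ + (ψ h₂)⁻¹ - (ψ h₃)⁻¹) * b =
        ((ψ h₁)⁻¹ * b + (ψ h₂)⁻¹ * b) + -((ψ h₃)⁻¹ * b) := by ring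
    rw [e, hr, hr, rneg, h1, mul_inv_cancel]
  have hc : (ψ h₁)⁻¹ + (ψ h₂)⁻¹ - (ψ h₃)⁻¹ ≠ 0 := sub_ne_zero.2 e2
  intro a b
  have := key a (((ψ h₁)⁻¹ + (ψ h₂)⁻¹ - (ψ h₃)⁻¹)⁻¹ * b)
  rwa [← mul_assoc, mul_inv_cancel₀ hc, one_mul] at this

/-- the condition on a pair of weights that kills the invariant pairings -/
def PairKill (φ ψ : T → K) : Prop :=
  (∃ h₁ h₂ h₃ : T, φ h₁ + φ h₂ = φ h₃ ∧ (ψ h₁)⁻¹ + (ψ h₂)⁻¹ ≠ (ψ h₃)⁻¹) ∨
  (∃ h₁ h₂ h₃ : T, ψ h₁ + ψ h₂ = ψ h₃ ∧ (φ h₁)⁻¹ + (φ h₂)⁻¹ ≠ (φ h₃)⁻¹)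

theorem bilin_kill' (β : K → K → A) (φ ψ : T → K)
    (hl : ∀ a a' b, β (a + a') b = β a b * β a' b)
    (hr : ∀ a b b', β a (b + b') = β a b * β a b')
    (hinv : ∀ h a b, β (φ h * a) (ψ h * b) = β a b)
    (hφ : ∀ h, φ h ≠ 0) (hψ : ∀ h, ψ h ≠ 0) (hP : PairKill φ ψ) :
    ∀ a b, β a b = 1 := by
  rcases hP with ⟨h₁, h₂, h₃, e1, e2⟩ | ⟨h₁, h₂, h₃, e1, e2⟩
  · exact bilin_kill β φ ψ hl hr hinv hψ h₁ h₂ h₃ e1 e2
  · intro a b
    exact bilin_kill (fun b a => β a b) ψ φ (fun b b' a => hr a b b') (fun b a a' => hl a a' b)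
      (fun h b a => hinv h a b) hφ h₁ h₂ h₃ e1 e2 b a

end bilin

section pair

variable {K : Type*} [Field K] {T : Type*} [Group T]
variable {Γ : Type*} [Group Γ] {B : Type*} [Group B]

/-- a central commutator is multiplicative in the second argument -/
theorem comm_mul_right_of_central (a b b' : Γ)
    (hz' : ∀ g : Γ, g * ⁅a, b'⁆ = ⁅a, b'⁆ * g) :
    ⁅a, b * b'⁆ = ⁅a, b⁆ * ⁅a, b'⁆ := by
  have e : ⁅a, b * b'⁆ = ⁅a, b⁆ * (b * ⁅a, b'⁆ * b⁻¹) := by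
    rw [commutatorElement_def, commutatorElement_def, commutatorElement_def]; group
  rw [e, hz' b, mul_inv_cancel_right]

/-- the commutation of the lifts of two layers, from the vanishing of the invariant pairings -/
theorem pair_comm (σ : Γ →* B) (hs : Function.Surjective σ) (hK : σ.ker ≤ Subgroup.center Γ)
    (d : T →* B) (M M' N : Subgroup B) (cM cN : K → B) (φ ψ : T → K)
    (hcN : ∀ b, cN b ∈ N)
    (hMadd : ∀ a a', ∃ z ∈ M', cM (a + a') = cM a * cM a' * z)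
    (hNadd : ∀ b b', cN (b + b') = cN b * cN b')
    (hMdec : ∀ g ∈ M, ∃ a, ∃ z ∈ M', g = cM a * z)
    (hNdec : ∀ g ∈ N, ∃ b, g = cN b)
    (hMconj : ∀ h a, ∃ z ∈ M', d h * cM a * (d h)⁻¹ = cM (φ h * a) * z)
    (hNconj : ∀ h b, d h * cN b * (d h)⁻¹ = cN (ψ h * b))
    (hMN : ∀ a b, cM a * cN b = cN b * cM a)
    (hprev : ∀ x z : Γ, σ x ∈ M' → σ z ∈ N → x * z = z * x)
    (hφ : ∀ h, φ h ≠ 0) (hψ : ∀ h, ψ h ≠ 0) (hPK : PairKill φ ψ) :
    ∀ x z : Γ, σ x ∈ M → σ z ∈ N → x * z = z * x := by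
  choose ℓ hℓ using fun a : K => hs (cM a)
  choose ζ hζ using fun b : K => hs (cN b)
  have hβK : ∀ a b, ⁅ℓ a, ζ b⁆ ∈ σ.ker := by
    intro a b
    rw [MonoidHom.mem_ker, map_commutatorElement, hℓ, hζ, commutatorElement_eq_one_iff_commute]
    exact hMN a b
  have hβc : ∀ a b (g : Γ), g * ⁅ℓ a, ζ b⁆ = ⁅ℓ a, ζ b⁆ * g :=
    fun a b => central_comm σ hK (hβK a b)
  have hζN : ∀ b, σ (ζ b) ∈ N := fun b => by rw [hζ]; exact hcN b
  -- independence of the lifts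
  have f0 : ∀ (x z : Γ) (a b : K) (w : B), w ∈ M' → σ x = cM a * w → σ z = cN b →
      ⁅x, z⁆ = ⁅ℓ a, ζ b⁆ := by
    intro x z a b w hw hx hz
    obtain ⟨w', hw'⟩ := hs w
    obtain ⟨κ, hκ, rfl⟩ := exists_ker_mul σ x (ℓ a * w') (by rw [hx, map_mul, hℓ, hw'])
    obtain ⟨μ, hμ, rfl⟩ := exists_ker_mul σ z (ζ b) (by rw [hz, hζ])
    rw [comm_central_left (central_comm σ hK hκ), comm_central_right (central_comm σ hK hμ)]
    have e : ⁅ℓ a * w', ζ b⁆ = ℓ a * ⁅w', ζ b⁆ * (ℓ a)⁻¹ * ⁅ℓ a, ζ b⁆ := by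
      rw [commutatorElement_def, commutatorElement_def, commutatorElement_def]; group
    have e2 : ⁅w', ζ b⁆ = 1 := by
      rw [commutatorElement_eq_one_iff_commute]
      exact hprev w' (ζ b) (by rw [hw']; exact hw) (hζN b)
    rw [e, e2, mul_one, mul_inv_cancel, one_mul]
  -- the pairing with values in the centre
  let _ : CommGroup (Subgroup.center Γ) :=
    { (inferInstance : Group (Subgroup.center Γ)) with mul_comm := fun a b => mul_comm' a b }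
  let β : K → K → Subgroup.center Γ := fun a b => ⟨⁅ℓ a, ζ b⁆, hK (hβK a b)⟩
  have hβ1 : ∀ a b, β a b = 1 := by
    apply bilin_kill' β φ ψ _ _ _ hφ hψ hPK
    · intro a a' b
      apply Subtype.ext
      show ⁅ℓ (a + a'), ζ b⁆ = ⁅ℓ a, ζ b⁆ * ⁅ℓ a', ζ b⁆
      obtain ⟨w, hw, e⟩ := hMadd a a'
      rw [← f0 (ℓ a * ℓ a') (ζ b) (a + a') b w⁻¹ (M'.inv_mem hw)
        (by rw [map_mul, hℓ, hℓ, e, mul_inv_cancel_right]) (hζ b)]
      rw [comm_mul_left_of_central (ℓ a) (ℓ a') (ζ b) (hβc a' b)]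
    · intro a b b'
      apply Subtype.ext
      show ⁅ℓ a, ζ (b + b')⁆ = ⁅ℓ a, ζ b⁆ * ⁅ℓ a, ζ b'⁆
      rw [← f0 (ℓ a) (ζ b * ζ b') a (b + b') 1 M'.one_mem (by rw [hℓ, mul_one])
        (by rw [map_mul, hζ, hζ, hNadd])]
      rw [comm_mul_right_of_central (ℓ a) (ζ b) (ζ b') (hβc a b')]
    · intro h a b
      apply Subtype.ext
      show ⁅ℓ (φ h * a), ζ (ψ h * b)⁆ = ⁅ℓ a, ζ b⁆
      obtain ⟨δ, hδ⟩ := hs (d h)
      obtain ⟨w, hw, e⟩ := hMconj h a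
      rw [← f0 (δ * ℓ a * δ⁻¹) (δ * ζ b * δ⁻¹) (φ h * a) (ψ h * b) w hw
        (by rw [map_mul, map_mul, map_inv, hδ, hℓ, e])
        (by rw [map_mul, map_mul, map_inv, hδ, hζ, hNconj])]
      rw [← conjugate_commutatorElement, hβc a b δ, mul_inv_cancel_right]
  intro x z hx hz
  obtain ⟨a, w, hw, hxa⟩ := hMdec (σ x) hx
  obtain ⟨b, hzb⟩ := hNdec (σ z) hz
  have h1 := f0 x z a b w hw hxa hzb
  have h2 : ⁅ℓ a, ζ b⁆ = 1 := congrArg Subtype.val (hβ1 a b)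
  rw [h2] at h1
  exact (commutatorElement_eq_one_iff_commute.1 h1).eq

end pair

end Cfsg.Agent.Helper2.StemLayer
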