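import Mathlib
import Cfsg.Agent.Lib.Helper29.StemSylow
import Cfsg.Agent.Lib.Helper20.SchurSzA
import Cfsg.Agent.Lib.Helper2.StemLayerA

/-!
# Central extensions of a group with a torus acting on a layered unipotent group, II

The structure `Layers`, its quotient by the last layer, and the main theorem: the commutator
subgroup of a central extension meets the kernel trivially.
-/

set_option autoImplicit false

namespace Cfsg.Agent.Helper2.StemLayer

open scoped commutatorElement
open Cfsg.Agent.Helper29.StemSylow Cfsg.Agent.Helper20.SchurSz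

universe u v

/-- a group `B = L₀ ⋊ d(T)` with a chain of normal subgroups `L₀ ≥ L₁ ≥ … ≥ Lₙ = 1`, central in
`L₀`, whose factors are parametrized by `c i : K → B` additively, the torus acting on the `i`-th
factor through the weight `φ i` -/
structure Layers {K : Type*} [Field K] {T : Type*} [Group T] {B : Type*} [Group B]
    (d : T →* B) (L : ℕ → Subgroup B) (c : ℕ → K → B) (φ : ℕ → T → K) (n : ℕ) : Prop where
  normal : ∀ i, (L i).Normal
  anti : ∀ i, L (i + 1) ≤ L i
  bot : L n = ⊥
  top : ∀ g : B, ∃ x ∈ L 0, ∃ h : T, g = x * d h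
  c_mem : ∀ i a, c i a ∈ L i
  c_add : ∀ i a b, ∃ z ∈ L (i + 1), c i (a + b) = c i a * c i b * z
  c_dec : ∀ i, i < n → ∀ g ∈ L i, ∃ a, ∃ z ∈ L (i + 1), g = c i a * z
  c_inj : ∀ i, i < n → ∀ a, c i a ∈ L (i + 1) → a = 0
  c_conj : ∀ i (h : T) a, ∃ z ∈ L (i + 1), d h * c i a * (d h)⁻¹ = c i (φ i h * a) * z
  central : ∀ i, ∀ x ∈ L 0, ∀ y ∈ L i, ⁅x, y⁆ ∈ L (i + 1)

section

variable {K : Type*} [Field K] {T : Type*} [Group T] {B : Type u} [Group B]
  {d : T →* B} {L : ℕ → Subgroup B} {c : ℕ → K → B} {φ : ℕ → T → K} {n : ℕ}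

theorem Layers.le_of_le (D : Layers d L c φ n) {i j : ℕ} (h : i ≤ j) : L j ≤ L i := by
  induction j, h using Nat.le_induction with
  | base => exact le_rfl
  | succ j _ ih => exact (D.anti j).trans ih

/-- the quotient by the last layer -/
theorem Layers.quot (D : Layers d L c φ (n + 1)) [hN : (L n).Normal] :
    Layers ((QuotientGroup.mk' (L n)).comp d) (fun i => (L i).map (QuotientGroup.mk' (L n)))
      (fun i a => ((c i a : B) : B ⧸ L n)) φ n where
  normal i := by
    have := D.normal i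
    exact Subgroup.Normal.map inferInstance _ (QuotientGroup.mk'_surjective _)
  anti i := Subgroup.map_mono (D.anti i)
  bot := by
    show (L n).map (QuotientGroup.mk' (L n)) = ⊥
    rw [QuotientGroup.map_mk'_self]
  top g := by
    obtain ⟨g, rfl⟩ := QuotientGroup.mk_surjective g
    obtain ⟨x, hx, h, rfl⟩ := D.top g
    exact ⟨(x : B ⧸ L n), ⟨x, hx, rfl⟩, h, rfl⟩
  c_mem i a := ⟨c i a, D.c_mem i a, rfl⟩
  c_add i a b := by
    obtain ⟨z, hz, e⟩ := D.c_add i a b
    refine ⟨(z : B ⧸ L n), ⟨z, hz, rfl⟩, ?_⟩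
    show ((c i (a + b) : B) : B ⧸ L n) = _
    rw [e]
    rfl
  c_dec i hi g hg := by
    obtain ⟨g, hg, rfl⟩ := hg
    obtain ⟨a, z, hz, rfl⟩ := D.c_dec i (by omega) g hg
    exact ⟨a, (z : B ⧸ L n), ⟨z, hz, rfl⟩, rfl⟩
  c_inj i hi a ha := by
    obtain ⟨w, hw, e⟩ := ha
    apply D.c_inj i (by omega) a
    have h1 : w⁻¹ * c i a ∈ L n := by
      rw [← QuotientGroup.eq]
      exact e
    have h2 : L n ≤ L (i + 1) := D.le_of_le (by omega)
    have h3 : c i a = w * (w⁻¹ * c i a) := by group
    rw [h3]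
    exact (L (i + 1)).mul_mem hw (h2 h1)
  c_conj i h a := by
    obtain ⟨z, hz, e⟩ := D.c_conj i h a
    refine ⟨(z : B ⧸ L n), ⟨z, hz, rfl⟩, ?_⟩
    show ((d h : B) : B ⧸ L n) * ((c i a : B) : B ⧸ L n) * ((d h : B) : B ⧸ L n)⁻¹ = _
    rw [← QuotientGroup.mk_inv, ← QuotientGroup.mk_mul, ← QuotientGroup.mk_mul, e]
    rfl
  central i x hx y hy := by
    obtain ⟨x, hx, rfl⟩ := hx
    obtain ⟨y, hy, rfl⟩ := hy
    refine ⟨⁅x, y⁆, D.central i x hx y hy, ?_⟩
    exact map_commutatorElement (QuotientGroup.mk' (L n)) x y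

end

section main

variable {K : Type*} [Field K] {T : Type*} [Group T] [IsCyclic T]

/-- the lift of a cyclic group is abelian -/
theorem lift_cyclic_comm {Γ : Type*} [Group Γ] {B : Type*} [Group B] (σ : Γ →* B)
    (hs : Function.Surjective σ) (hK : σ.ker ≤ Subgroup.center Γ) (d : T →* B) :
    ∀ x y : Γ, (∃ s, σ x = d s) → (∃ t, σ y = d t) → x * y = y * x := by
  obtain ⟨ζ, hζ⟩ := IsCyclic.exists_generator (α := T)
  obtain ⟨g, hg⟩ := hs (d ζ)
  let P : Subgroup Γ := (d.range).comap σ
  have hb := comm_eq_bot_of_cyclic σ hK P g (fun u hu => by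
    obtain ⟨t, ht⟩ := hu
    obtain ⟨i, hi⟩ := Subgroup.mem_zpowers_iff.1 (hζ t)
    refine ⟨i, ?_⟩
    rw [hg, ← map_zpow, hi, ht])
  rw [Subgroup.commutator_eq_bot_iff_le_centralizer] at hb
  rintro x y ⟨s, hx⟩ ⟨t, hy⟩
  have hxP : x ∈ P := ⟨s, hx.symm⟩
  have hyP : y ∈ P := ⟨t, hy.symm⟩
  have := hb hyP
  rw [Subgroup.mem_centralizer_iff] at this
  exact this x hxP

/-- **the main theorem**: in a central extension of a layered group, the commutator subgroup meets
the kernel trivially, provided all pairs of weights kill the invariant pairings and some element of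
the torus has no weight equal to one -/
theorem Layers.comm_inf_ker (φ : ℕ → T → K) (hφ : ∀ i h, φ i h ≠ 0) :
    ∀ (n : ℕ) {B : Type u} [Group B] {Γ : Type v} [Group Γ] (d : T →* B) (L : ℕ → Subgroup B)
      (c : ℕ → K → B), Layers d L c φ n →
      (∀ i j, i ≤ j → j < n → PairKill (φ i) (φ j)) →
      (∃ h₀ : T, ∀ i < n, φ i h₀ ≠ 1) →
      ∀ (σ : Γ →* B), Function.Surjective σ → σ.ker ≤ Subgroup.center Γ →
      ∀ k ∈ commutator Γ, k ∈ σ.ker → k = 1 := by
  intro n
  induction n with
  | zero =>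
    intro B _ Γ _ d L c D _ _ σ hs hK k hk _
    have hcomm : ∀ x y : Γ, x * y = y * x := by
      intro x y
      apply lift_cyclic_comm σ hs hK d x y
      · obtain ⟨x', hx', h, e⟩ := D.top (σ x)
        rw [D.bot, Subgroup.mem_bot] at hx'
        exact ⟨h, by rw [e, hx', one_mul]⟩
      · obtain ⟨x', hx', h, e⟩ := D.top (σ y)
        rw [D.bot, Subgroup.mem_bot] at hx'
        exact ⟨h, by rw [e, hx', one_mul]⟩
    have hbot : commutator Γ = ⊥ := by
      rw [commutator_def, Subgroup.commutator_eq_bot_iff_le_centralizer]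
      intro x _
      rw [Subgroup.mem_centralizer_iff]
      intro y _
      exact hcomm y x
    rw [hbot] at hk
    exact Subgroup.mem_bot.1 hk
  | succ n ih =>
    intro B _ Γ _ d L c D hP hfp σ hs hK
    obtain ⟨h₀, hh₀⟩ := hfp
    have hNn : (L n).Normal := D.normal n
    have hbot : L (n + 1) = ⊥ := D.bot
    -- the last layer
    have hNadd : ∀ a b, c n (a + b) = c n a * c n b := by
      intro a b
      obtain ⟨z, hz, e⟩ := D.c_add n a b
      rw [hbot, Subgroup.mem_bot] at hz
      rw [e, hz, mul_one]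
    have hN0 : c n 0 = 1 := by
      have h := hNadd 0 0
      rw [add_zero] at h
      exact mul_eq_left.1 h.symm
    have hNneg : ∀ a, c n (-a) = (c n a)⁻¹ := by
      intro a
      have h := hNadd a (-a)
      rw [add_neg_cancel, hN0] at h
      exact eq_inv_of_mul_eq_one_right h.symm
    have hNdec : ∀ g ∈ L n, ∃ b, g = c n b := by
      intro g hg
      obtain ⟨b, z, hz, e⟩ := D.c_dec n (Nat.lt_succ_self n) g hg
      rw [hbot, Subgroup.mem_bot] at hz
      exact ⟨b, by rw [e, hz, mul_one]⟩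
    have hNconj : ∀ h b, d h * c n b * (d h)⁻¹ = c n (φ n h * b) := by
      intro h b
      obtain ⟨z, hz, e⟩ := D.c_conj n h b
      rw [hbot, Subgroup.mem_bot] at hz
      rw [e, hz, mul_one]
    have hNinj : ∀ a, c n a = 1 → a = 0 := by
      intro a ha
      apply D.c_inj n (Nat.lt_succ_self n) a
      rw [ha]
      exact Subgroup.one_mem _
    -- the lifts of all layers centralize the lift of the last layer
    have hcent : ∀ j, j ≤ n + 1 → ∀ x z : Γ, σ x ∈ L (n + 1 - j) → σ z ∈ L n → x * z = z * x := by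
      intro j
      induction j with
      | zero =>
        intro _ x z hx _
        rw [Nat.sub_zero, hbot, Subgroup.mem_bot] at hx
        exact (central_comm σ hK hx z).symm
      | succ j ihj =>
        intro hj
        have hprev := ihj (by omega)
        have e1 : n + 1 - j = (n - j) + 1 := by omega
        have e2 : n + 1 - (j + 1) = n - j := by omega
        rw [e1] at hprev
        rw [e2]
        apply pair_comm σ hs hK d (L (n - j)) (L (n - j + 1)) (L n) (c (n - j)) (c n)
          (φ (n - j)) (φ n) (D.c_mem n) (D.c_add (n - j)) hNadd (D.c_dec (n - j) (by omega))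
          hNdec (D.c_conj (n - j)) hNconj _ hprev (hφ _) (hφ _)
          (hP (n - j) n (Nat.sub_le n j) (Nat.lt_succ_self n))
        intro a b
        have h1 : c (n - j) a ∈ L 0 := D.le_of_le (Nat.zero_le _) (D.c_mem _ a)
        have h2 := D.central n _ h1 _ (D.c_mem n b)
        rw [hbot, Subgroup.mem_bot, commutatorElement_eq_one_iff_commute] at h2
        exact h2.eq
    have hcent0 : ∀ x z : Γ, σ x ∈ L 0 → σ z ∈ L n → x * z = z * x := by
      have := hcent (n + 1) le_rfl
      rwa [Nat.sub_self] at this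
    -- the reduction
    obtain ⟨δ₀, hδ₀⟩ := hs (d h₀)
    have hμ : φ n h₀ - 1 ≠ 0 := sub_ne_zero.2 (hh₀ n (Nat.lt_succ_self n))
    have hcomm_c : ∀ b, ⁅d h₀, c n b⁆ = c n ((φ n h₀ - 1) * b) := by
      intro b
      rw [commutatorElement_def, hNconj, ← hNneg, ← hNadd]
      congr 1
      ring
    have hTc := lift_cyclic_comm σ hs hK d
    obtain ⟨Z₁, hn, hle, hsurj', hcent', hred⟩ := reduce_central σ hs hK (L n) δ₀
      (fun x hx z hz => hcent0 x z (D.le_of_le (Nat.zero_le _) hx) hz)
      (by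
        intro g hg
        obtain ⟨b, rfl⟩ := hNdec g hg
        refine ⟨c n ((φ n h₀ - 1)⁻¹ * b), D.c_mem n _, ?_⟩
        rw [hδ₀, hcomm_c, ← mul_assoc, mul_inv_cancel₀ hμ, one_mul])
      (by
        intro g hg h
        obtain ⟨b, rfl⟩ := hNdec g hg
        rw [hδ₀, hcomm_c] at h
        have h0 := hNinj _ h
        rcases mul_eq_zero.1 h0 with h1 | h1
        · exact absurd h1 hμ
        · rw [h1, hN0])
      (by
        intro g
        obtain ⟨x, hx, h, hg⟩ := D.top (σ g)
        obtain ⟨t, ht⟩ := hs (d h)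
        refine ⟨g * t⁻¹, t, by group, ?_, hTc t δ₀ ⟨h, ht⟩ ⟨h₀, hδ₀⟩⟩
        intro z hz
        apply hcent0 (g * t⁻¹) z _ hz
        rw [map_mul, map_inv, hg, ht, mul_inv_cancel_right]
        exact hx)
    apply hred
    have key := ih ((QuotientGroup.mk' (L n)).comp d)
      (fun i => (L i).map (QuotientGroup.mk' (L n))) (fun i a => ((c i a : B) : B ⧸ L n)) D.quot
      (fun i j hij hj => hP i j hij (by omega)) ⟨h₀, fun i hi => hh₀ i (by omega)⟩
      (QuotientGroup.map Z₁ (L n) σ hle) hsurj' hcent'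
    exact key

end main

end Cfsg.Agent.Helper2.StemLayer
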