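import Mathlib
import Cfsg.Agent.Lib.Helper2.StemLayerB

/-!
# Central extensions of a Borel subgroup of Ree type

An abstract description of the Borel subgroup of the small Ree groups, as a layered group, and
the triviality of `[B̃, B̃] ∩ ker` in a central extension.
-/

set_option autoImplicit false

namespace Cfsg.Agent.Helper2.StemLayer

open scoped commutatorElement
open Cfsg.Agent.Helper29.StemSylow

/-- the Borel subgroup of a group of Ree type, in coordinates -/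
structure ReeBorel (K : Type*) [Field K] (G : Type*) [Group G] where
  x : K → K → K → G
  h : Kˣ →* G
  χ₁ : Kˣ → K
  χ₂ : Kˣ → K
  Bs : Subgroup G
  Us : Subgroup G
  mem_Bs : ∀ g, g ∈ Bs ↔ ∃ t u v y, g = x t u v * h y
  mem_Us : ∀ g, g ∈ Us ↔ ∃ t u v, g = x t u v
  x_mul_0 : ∀ t u v u' v', x t u v * x 0 u' v' = x t (u + u') (v + v')
  x_0_mul_t : ∀ u v t, x 0 u v * x t 0 0 = x t u (v + 2 * u * t)
  x_t_mul_t : ∀ t t', ∃ u₃ v₃, x t 0 0 * x t' 0 0 = x (t + t') u₃ v₃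
  x_inj : ∀ t u v t' u' v', x t u v = x t' u' v' → t = t' ∧ u = u' ∧ v = v'
  h_t : ∀ y t, ∃ u' v', h y * x t 0 0 * (h y)⁻¹ = x (χ₁ y * t) u' v'
  h_u : ∀ y u, ∃ v', h y * x 0 u 0 * (h y)⁻¹ = x 0 (χ₂ y * u) v'
  h_v : ∀ (y : Kˣ) v, h y * x 0 0 v * (h y)⁻¹ = x 0 0 ((y : K) * v)

namespace ReeBorel

variable {K : Type*} [Field K] {G : Type*} [Group G] (D : ReeBorel K G)

theorem x_zero : D.x 0 0 0 = 1 := by
  have h := D.x_mul_0 0 0 0 0 0
  rw [add_zero] at h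
  exact mul_eq_left.1 h

theorem x_split (t u v : K) : D.x t u v = D.x t 0 0 * D.x 0 u v := by
  rw [D.x_mul_0, zero_add, zero_add]

theorem x0_split (u v : K) : D.x 0 u v = D.x 0 u 0 * D.x 0 0 v := by
  rw [D.x_mul_0, add_zero, zero_add]

theorem x0_inv (u v : K) : (D.x 0 u v)⁻¹ = D.x 0 (-u) (-v) := by
  apply inv_eq_of_mul_eq_one_right
  rw [D.x_mul_0, add_neg_cancel, add_neg_cancel, D.x_zero]

theorem x0_comm (u v u' v' : K) : D.x 0 u v * D.x 0 u' v' = D.x 0 u' v' * D.x 0 u v := by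
  rw [D.x_mul_0, D.x_mul_0, add_comm u, add_comm v]

/-- the abelian normal subgroup `x(0,u,v)` -/
def As : Subgroup G where
  carrier := {g | ∃ u v : K, g = D.x 0 u v}
  mul_mem' := by
    rintro _ _ ⟨u, v, rfl⟩ ⟨u', v', rfl⟩
    exact ⟨u + u', v + v', by rw [D.x_mul_0]⟩
  one_mem' := ⟨0, 0, D.x_zero.symm⟩
  inv_mem' := by
    rintro _ ⟨u, v, rfl⟩
    exact ⟨-u, -v, D.x0_inv u v⟩

/-- the centre `x(0,0,v)` -/
def Zs : Subgroup G where
  carrier := {g | ∃ v : K, g = D.x 0 0 v}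
  mul_mem' := by
    rintro _ _ ⟨v, rfl⟩ ⟨v', rfl⟩
    exact ⟨v + v', by rw [D.x_mul_0, add_zero]⟩
  one_mem' := ⟨0, D.x_zero.symm⟩
  inv_mem' := by
    rintro _ ⟨v, rfl⟩
    exact ⟨-v, by rw [D.x0_inv, neg_zero]⟩

theorem mem_As (g : G) : g ∈ D.As ↔ ∃ u v : K, g = D.x 0 u v := Iff.rfl

theorem mem_Zs (g : G) : g ∈ D.Zs ↔ ∃ v : K, g = D.x 0 0 v := Iff.rfl

theorem Zs_le_As : D.Zs ≤ D.As := by
  rintro _ ⟨v, rfl⟩
  exact ⟨0, v, rfl⟩

theorem As_le_Us : D.As ≤ D.Us := by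
  rintro _ ⟨u, v, rfl⟩
  exact (D.mem_Us _).2 ⟨0, u, v, rfl⟩

theorem Us_le_Bs : D.Us ≤ D.Bs := by
  intro g hg
  obtain ⟨t, u, v, rfl⟩ := (D.mem_Us _).1 hg
  exact (D.mem_Bs _).2 ⟨t, u, v, 1, by rw [map_one, mul_one]⟩

theorem h_mem_Bs (y : Kˣ) : D.h y ∈ D.Bs :=
  (D.mem_Bs _).2 ⟨0, 0, 0, y, by rw [D.x_zero, one_mul]⟩

/-- conjugating `x(0,u,v)` by `x(t,0,0)` -/
theorem conj_t00 (t u v : K) :
    (D.x t 0 0)⁻¹ * D.x 0 u v * D.x t 0 0 = D.x 0 u (v + 2 * u * t) := by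
  rw [mul_assoc, D.x_0_mul_t, D.x_split t u (v + 2 * u * t), inv_mul_cancel_left]

theorem conj_t00' (t u v : K) :
    D.x t 0 0 * D.x 0 u v * (D.x t 0 0)⁻¹ = D.x 0 u (v - 2 * u * t) := by
  have h := D.conj_t00 t u (v - 2 * u * t)
  rw [sub_add_cancel] at h
  rw [← h]
  group

theorem t00_comm_Z (t w : K) : D.x t 0 0 * D.x 0 0 w = D.x 0 0 w * D.x t 0 0 := by
  rw [D.x_mul_0, D.x_0_mul_t]
  congr 1 <;> ring

theorem Z_central (t u v w : K) : D.x t u v * D.x 0 0 w = D.x 0 0 w * D.x t u v := by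
  rw [D.x_split t u v, mul_assoc, D.x0_comm u v 0 w, ← mul_assoc, D.t00_comm_Z, mul_assoc]

/-- the first coordinate is additive -/
theorem mul_fc (t u v t' u' v' : K) :
    ∃ u'' v'', D.x t u v * D.x t' u' v' = D.x (t + t') u'' v'' := by
  obtain ⟨u₃, v₃, e⟩ := D.x_t_mul_t t t'
  refine ⟨u₃ + u + u', v₃ + (v + 2 * u * t') + v', ?_⟩
  calc D.x t u v * D.x t' u' v'
      = D.x t 0 0 * (D.x 0 u v * D.x t' 0 0) * D.x 0 u' v' := by
        rw [D.x_split t u v, D.x_split t' u' v']; group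
    _ = D.x t 0 0 * (D.x t' 0 0 * D.x 0 u (v + 2 * u * t')) * D.x 0 u' v' := by
        rw [D.x_0_mul_t, D.x_split t' u (v + 2 * u * t')]
    _ = (D.x t 0 0 * D.x t' 0 0) * D.x 0 u (v + 2 * u * t') * D.x 0 u' v' := by group
    _ = D.x (t + t') (u₃ + u + u') (v₃ + (v + 2 * u * t') + v') := by
        rw [e, D.x_mul_0, D.x_mul_0]

theorem inv_fc (t u v : K) : ∃ u' v', (D.x t u v)⁻¹ = D.x (-t) u' v' := by
  have hm : (D.x t u v)⁻¹ ∈ D.Us := D.Us.inv_mem ((D.mem_Us _).2 ⟨t, u, v, rfl⟩)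
  obtain ⟨t', u', v', e⟩ := (D.mem_Us _).1 hm
  obtain ⟨u'', v'', e2⟩ := D.mul_fc t u v t' u' v'
  rw [← e, mul_inv_cancel, ← D.x_zero] at e2
  have h0 := (D.x_inj _ _ _ _ _ _ e2).1
  have ht : t' = -t := by linear_combination -h0
  exact ⟨u', v', by rw [e, ht]⟩

/-- commutators of elements of `U` lie in `A` -/
theorem comm_mem_As (g g' : G) (hg : g ∈ D.Us) (hg' : g' ∈ D.Us) : ⁅g, g'⁆ ∈ D.As := by
  obtain ⟨t, u, v, rfl⟩ := (D.mem_Us _).1 hg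
  obtain ⟨t', u', v', rfl⟩ := (D.mem_Us _).1 hg'
  obtain ⟨a, b, e1⟩ := D.inv_fc t u v
  obtain ⟨a', b', e2⟩ := D.inv_fc t' u' v'
  rw [commutatorElement_def, e1, e2]
  obtain ⟨p, q, e3⟩ := D.mul_fc t u v t' u' v'
  rw [e3]
  obtain ⟨p', q', e4⟩ := D.mul_fc (t + t') p q (-t) a b
  rw [e4]
  obtain ⟨p'', q'', e5⟩ := D.mul_fc (t + t' + -t) p' q' (-t') a' b'
  rw [e5]
  have : t + t' + -t + -t' = 0 := by ring
  rw [this]
  exact ⟨_, _, rfl⟩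

/-- `A` is normalized by `U` -/
theorem conj_mem_As (g a : G) (hg : g ∈ D.Us) (ha : a ∈ D.As) : g * a * g⁻¹ ∈ D.As := by
  have h1 : g * a * g⁻¹ = ⁅g, a⁆ * a := by rw [commutatorElement_def]; group
  rw [h1]
  exact D.As.mul_mem (D.comm_mem_As g a hg (D.As_le_Us ha)) ha

/-- commutators of elements of `U` with elements of `A` lie in `Z` -/
theorem comm_mem_Zs (g a : G) (hg : g ∈ D.Us) (ha : a ∈ D.As) : ⁅g, a⁆ ∈ D.Zs := by
  obtain ⟨t, u, v, rfl⟩ := (D.mem_Us _).1 hg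
  obtain ⟨u₀, v₀, rfl⟩ := ha
  have h1 : D.x t u v * D.x 0 u₀ v₀ * (D.x t u v)⁻¹ = D.x 0 u₀ (v₀ - 2 * u₀ * t) := by
    rw [D.x_split t u v]
    calc D.x t 0 0 * D.x 0 u v * D.x 0 u₀ v₀ * (D.x t 0 0 * D.x 0 u v)⁻¹
        = D.x t 0 0 * (D.x 0 u v * D.x 0 u₀ v₀ * (D.x 0 u v)⁻¹) * (D.x t 0 0)⁻¹ := by group
      _ = D.x t 0 0 * D.x 0 u₀ v₀ * (D.x t 0 0)⁻¹ := by
          rw [D.x0_comm u v u₀ v₀, mul_inv_cancel_right]
      _ = D.x 0 u₀ (v₀ - 2 * u₀ * t) := D.conj_t00' t u₀ v₀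
  rw [commutatorElement_def, h1, D.x0_inv, D.x_mul_0]
  refine ⟨v₀ - 2 * u₀ * t + -v₀, ?_⟩
  rw [add_neg_cancel]

/-- elements of `U` commute with elements of `Z` -/
theorem comm_Zs (g z : G) (hg : g ∈ D.Us) (hz : z ∈ D.Zs) : g * z = z * g := by
  obtain ⟨t, u, v, rfl⟩ := (D.mem_Us _).1 hg
  obtain ⟨w, rfl⟩ := hz
  exact D.Z_central t u v w

/-- the torus normalizes `A` -/
theorem h_conj_As (y : Kˣ) (a : G) (ha : a ∈ D.As) : D.h y * a * (D.h y)⁻¹ ∈ D.As := by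
  obtain ⟨u, v, rfl⟩ := ha
  obtain ⟨v', e⟩ := D.h_u y u
  have e2 := D.h_v y v
  have : D.h y * D.x 0 u v * (D.h y)⁻¹ =
      (D.h y * D.x 0 u 0 * (D.h y)⁻¹) * (D.h y * D.x 0 0 v * (D.h y)⁻¹) := by
    rw [D.x0_split u v]; group
  rw [this, e, e2, D.x_mul_0]
  exact ⟨_, _, rfl⟩

/-- the torus normalizes `U` -/
theorem h_conj_Us (y : Kˣ) (g : G) (hg : g ∈ D.Us) : D.h y * g * (D.h y)⁻¹ ∈ D.Us := by
  obtain ⟨t, u, v, rfl⟩ := (D.mem_Us _).1 hg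
  obtain ⟨u', v', e⟩ := D.h_t y t
  have h2 := D.h_conj_As y (D.x 0 u v) ⟨u, v, rfl⟩
  have : D.h y * D.x t u v * (D.h y)⁻¹ =
      (D.h y * D.x t 0 0 * (D.h y)⁻¹) * (D.h y * D.x 0 u v * (D.h y)⁻¹) := by
    rw [D.x_split t u v]; group
  rw [this, e]
  exact D.Us.mul_mem ((D.mem_Us _).2 ⟨_, _, _, rfl⟩) (D.As_le_Us h2)

/-- the torus normalizes `Z` -/
theorem h_conj_Zs (y : Kˣ) (z : G) (hz : z ∈ D.Zs) : D.h y * z * (D.h y)⁻¹ ∈ D.Zs := by
  obtain ⟨v, rfl⟩ := hz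
  rw [D.h_v]
  exact ⟨_, rfl⟩

/-- a subgroup of `U` normalized by `U` and the torus is normalized by `B` -/
theorem conj_mem_of (S : Subgroup G) (hU : ∀ g ∈ D.Us, ∀ s ∈ S, g * s * g⁻¹ ∈ S)
    (hH : ∀ y, ∀ s ∈ S, D.h y * s * (D.h y)⁻¹ ∈ S) (b : G) (hb : b ∈ D.Bs) (s : G) (hs : s ∈ S) :
    b * s * b⁻¹ ∈ S := by
  obtain ⟨t, u, v, y, rfl⟩ := (D.mem_Bs _).1 hb
  have : D.x t u v * D.h y * s * (D.x t u v * D.h y)⁻¹ =
      D.x t u v * (D.h y * s * (D.h y)⁻¹) * (D.x t u v)⁻¹ := by group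
  rw [this]
  exact hU _ ((D.mem_Us _).2 ⟨t, u, v, rfl⟩) _ (hH y s hs)

/-- the torus, with values in the Borel subgroup -/
def dB : Kˣ →* ↥D.Bs := D.h.codRestrict D.Bs D.h_mem_Bs

/-- the layers -/
def LB : ℕ → Subgroup ↥D.Bs
  | 0 => D.Us.subgroupOf D.Bs
  | 1 => D.As.subgroupOf D.Bs
  | 2 => D.Zs.subgroupOf D.Bs
  | _ => ⊥

/-- the parametrizations of the layers -/
def cB : ℕ → K → ↥D.Bs
  | 0, a => ⟨D.x a 0 0, D.Us_le_Bs ((D.mem_Us _).2 ⟨a, 0, 0, rfl⟩)⟩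
  | 1, a => ⟨D.x 0 a 0, D.Us_le_Bs ((D.mem_Us _).2 ⟨0, a, 0, rfl⟩)⟩
  | 2, a => ⟨D.x 0 0 a, D.Us_le_Bs ((D.mem_Us _).2 ⟨0, 0, a, rfl⟩)⟩
  | _, _ => 1

/-- the weights -/
def φB : ℕ → Kˣ → K
  | 0, y => D.χ₁ y
  | 1, y => D.χ₂ y
  | 2, y => (y : K)
  | _, _ => 1

theorem layers : Layers D.dB D.LB D.cB D.φB 3 where
  normal i := by
    rcases i with _ | _ | _ | i
    · constructor
      intro n hn g
      show ((g * n * g⁻¹ : ↥D.Bs) : G) ∈ D.Us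
      exact D.conj_mem_of D.Us (fun g hg s hs => D.Us.mul_mem (D.Us.mul_mem hg hs) (D.Us.inv_mem hg))
        D.h_conj_Us g g.2 n hn
    · constructor
      intro n hn g
      show ((g * n * g⁻¹ : ↥D.Bs) : G) ∈ D.As
      exact D.conj_mem_of D.As (fun g hg s hs => D.conj_mem_As g s hg hs) D.h_conj_As g g.2 n hn
    · constructor
      intro n hn g
      show ((g * n * g⁻¹ : ↥D.Bs) : G) ∈ D.Zs
      refine D.conj_mem_of D.Zs (fun g hg s hs => ?_) D.h_conj_Zs g g.2 n hn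
      rw [D.comm_Zs g s hg hs, mul_inv_cancel_right]
      exact hs
    · show (⊥ : Subgroup ↥D.Bs).Normal
      infer_instance
  anti i := by
    rcases i with _ | _ | _ | i
    · intro g hg
      exact D.As_le_Us hg
    · intro g hg
      exact D.Zs_le_As hg
    · exact bot_le
    · exact bot_le
  bot := rfl
  top g := by
    obtain ⟨t, u, v, y, e⟩ := (D.mem_Bs _).1 g.2
    refine ⟨⟨D.x t u v, D.Us_le_Bs ((D.mem_Us _).2 ⟨t, u, v, rfl⟩)⟩,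
      (D.mem_Us _).2 ⟨t, u, v, rfl⟩, y, ?_⟩
    exact Subtype.ext e
  c_mem i a := by
    rcases i with _ | _ | _ | i
    · exact (D.mem_Us _).2 ⟨a, 0, 0, rfl⟩
    · exact ⟨a, 0, rfl⟩
    · exact ⟨a, rfl⟩
    · exact Subgroup.one_mem _
  c_add i a b := by
    rcases i with _ | _ | _ | i
    · obtain ⟨u₃, v₃, e⟩ := D.x_t_mul_t a b
      refine ⟨⟨D.x 0 (-u₃) (-v₃), D.Us_le_Bs (D.As_le_Us ⟨_, _, rfl⟩)⟩, ⟨_, _, rfl⟩, ?_⟩
      apply Subtype.ext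
      show D.x (a + b) 0 0 = D.x a 0 0 * D.x b 0 0 * D.x 0 (-u₃) (-v₃)
      rw [e, D.x_mul_0, add_neg_cancel, add_neg_cancel]
    · refine ⟨1, Subgroup.one_mem _, ?_⟩
      apply Subtype.ext
      show D.x 0 (a + b) 0 = D.x 0 a 0 * D.x 0 b 0 * 1
      rw [D.x_mul_0, mul_one, add_zero]
    · refine ⟨1, Subgroup.one_mem _, ?_⟩
      apply Subtype.ext
      show D.x 0 0 (a + b) = D.x 0 0 a * D.x 0 0 b * 1
      rw [D.x_mul_0, mul_one, add_zero]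
    · exact ⟨1, Subgroup.one_mem _, by show (1 : ↥D.Bs) = 1 * 1 * 1; group⟩
  c_dec i hi g hg := by
    rcases i with _ | _ | _ | i
    · obtain ⟨t, u, v, e⟩ := (D.mem_Us _).1 hg
      refine ⟨t, ⟨D.x 0 u v, D.Us_le_Bs (D.As_le_Us ⟨_, _, rfl⟩)⟩, ⟨_, _, rfl⟩, ?_⟩
      apply Subtype.ext
      show (g : G) = D.x t 0 0 * D.x 0 u v
      rw [← D.x_split]
      exact e
    · obtain ⟨u, v, e⟩ := hg
      refine ⟨u, ⟨D.x 0 0 v, D.Us_le_Bs (D.As_le_Us ⟨_, _, rfl⟩)⟩, ⟨_, rfl⟩, ?_⟩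
      apply Subtype.ext
      show (g : G) = D.x 0 u 0 * D.x 0 0 v
      rw [← D.x0_split]
      exact e
    · obtain ⟨v, e⟩ := hg
      refine ⟨v, 1, Subgroup.one_mem _, ?_⟩
      apply Subtype.ext
      show (g : G) = D.x 0 0 v * 1
      rw [mul_one]
      exact e
    · omega
  c_inj i hi a ha := by
    rcases i with _ | _ | _ | i
    · obtain ⟨u, v, e⟩ := ha
      exact (D.x_inj _ _ _ _ _ _ e).1
    · obtain ⟨v, e⟩ := ha
      exact (D.x_inj _ _ _ _ _ _ e).2.1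
    · have e : D.x 0 0 a = 1 := congrArg Subtype.val (Subgroup.mem_bot.1 ha)
      rw [← D.x_zero] at e
      exact (D.x_inj _ _ _ _ _ _ e).2.2
    · omega
  c_conj i y a := by
    rcases i with _ | _ | _ | i
    · obtain ⟨u', v', e⟩ := D.h_t y a
      refine ⟨⟨D.x 0 u' v', D.Us_le_Bs (D.As_le_Us ⟨_, _, rfl⟩)⟩, ⟨_, _, rfl⟩, ?_⟩
      apply Subtype.ext
      show D.h y * D.x a 0 0 * (D.h y)⁻¹ = D.x (D.χ₁ y * a) 0 0 * D.x 0 u' v'
      rw [e, ← D.x_split]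
    · obtain ⟨v', e⟩ := D.h_u y a
      refine ⟨⟨D.x 0 0 v', D.Us_le_Bs (D.As_le_Us ⟨_, _, rfl⟩)⟩, ⟨_, rfl⟩, ?_⟩
      apply Subtype.ext
      show D.h y * D.x 0 a 0 * (D.h y)⁻¹ = D.x 0 (D.χ₂ y * a) 0 * D.x 0 0 v'
      rw [e, ← D.x0_split]
    · refine ⟨1, Subgroup.one_mem _, ?_⟩
      apply Subtype.ext
      show D.h y * D.x 0 0 a * (D.h y)⁻¹ = D.x 0 0 ((y : K) * a) * 1
      rw [D.h_v, mul_one]
    · refine ⟨1, Subgroup.one_mem _, ?_⟩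
      show D.dB y * 1 * (D.dB y)⁻¹ = 1 * 1
      group
  central i g hg a ha := by
    rcases i with _ | _ | _ | i
    · exact D.comm_mem_As g a hg ha
    · exact D.comm_mem_Zs g a hg ha
    · apply Subgroup.mem_bot.2
      apply Subtype.ext
      show ⁅(g : G), (a : G)⁆ = 1
      rw [commutatorElement_eq_one_iff_commute]
      exact D.comm_Zs g a hg ha
    · have : a = 1 := Subgroup.mem_bot.1 ha
      rw [this, commutatorElement_one_right]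
      exact Subgroup.one_mem _

/-- the local statement for the Borel subgroup -/
theorem comm_inf_ker [IsCyclic Kˣ] {Γ : Type*} [Group Γ] (σ : Γ →* G)
    (hs : Function.Surjective σ) (hK : σ.ker ≤ Subgroup.center Γ)
    (h1 : ∀ y, D.χ₁ y ≠ 0) (h2 : ∀ y, D.χ₂ y ≠ 0)
    (p00 : PairKill D.χ₁ D.χ₁) (p01 : PairKill D.χ₁ D.χ₂)
    (p02 : PairKill D.χ₁ (fun y : Kˣ => (y : K))) (p11 : PairKill D.χ₂ D.χ₂)
    (p12 : PairKill D.χ₂ (fun y : Kˣ => (y : K)))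
    (p22 : PairKill (fun y : Kˣ => (y : K)) (fun y : Kˣ => (y : K)))
    (y₀ : Kˣ) (hy1 : D.χ₁ y₀ ≠ 1) (hy2 : D.χ₂ y₀ ≠ 1) (hy3 : (y₀ : K) ≠ 1) :
    ∀ k ∈ ⁅D.Bs.comap σ, D.Bs.comap σ⁆, k ∈ σ.ker → k = 1 := by
  let σB := σ.subgroupComap D.Bs
  have hsB : Function.Surjective σB := σ.subgroupComap_surjective_of_surjective _ hs
  have hKB : σB.ker ≤ Subgroup.center _ := by
    intro k hk
    rw [Subgroup.mem_center_iff]
    intro g
    apply Subtype.ext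
    have hk' : (k : Γ) ∈ σ.ker := by
      rw [MonoidHom.mem_ker] at hk ⊢
      exact congrArg (fun x : D.Bs => (x : G)) hk
    exact central_comm σ hK hk' g
  have key := Layers.comm_inf_ker D.φB (by
      intro i y
      rcases i with _ | _ | _ | i
      · exact h1 y
      · exact h2 y
      · exact y.ne_zero
      · exact one_ne_zero) 3 D.dB D.LB D.cB D.layers (by
      intro i j hij hj
      rcases j with _ | _ | _ | j
      · have : i = 0 := by omega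
        subst this
        exact p00
      · rcases i with _ | _ | i
        · exact p01
        · exact p11
        · omega
      · rcases i with _ | _ | _ | i
        · exact p02
        · exact p12
        · exact p22
        · omega
      · omega) ⟨y₀, by
      intro i hi
      rcases i with _ | _ | _ | i
      · exact hy1
      · exact hy2
      · exact hy3
      · omega⟩ σB hsB hKB
  intro k hk hkK
  rw [← Subgroup.map_subtype_commutator] at hk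
  obtain ⟨k', hk', rfl⟩ := hk
  have := key k' hk' (by
    rw [MonoidHom.mem_ker]
    apply Subtype.ext
    exact hkK)
  rw [this]
  rfl

end ReeBorel

end Cfsg.Agent.Helper2.StemLayer
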