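import Mathlib
import Cfsg.Agent.Lib.Helper2.StemLayerC
import Cfsg.Agent.Lib.Helper2.ReeRep2
import Cfsg.Agent.Lib.Helper2.ReeInst

/-!
# The small Ree groups: the Borel subgroup as a layered group
-/

set_option autoImplicit false
set_option linter.unusedSectionVars false
set_option linter.unusedSimpArgs false
set_option linter.unusedVariables false

namespace Cfsg.Agent.Helper2.Ree

open Cfsg Cfsg.Lie Cfsg.Agent.Lead.Chev Cfsg.Agent.Lead.ZPM Cfsg.Agent.Lead.Tw Cfsg.Agent.Lead.Tw.G2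
open Cfsg.Agent.Helper2.StemLayer

section finite

variable {K : Type*} [Field K] [Fintype K] [CharP K 3] {m : ℕ} (hK : Fintype.card K = 3 ^ (2 * m + 1))
  (hperf : ∀ x : K, ∃ y : K, y ^ 3 = x) (f : K ≃+* K) (hf : ∀ t, f t = t ^ (3 ^ m))
include hK hperf hf

/-- the torus as a homomorphism into the Ree group -/
noncomputable def hRhom : Kˣ →* ↥(twistedG2 K (3 ^ m)) where
  toFun := hR hK hperf f hf
  map_one' := hR_one hK hperf f hf
  map_mul' := hR_mul hK hperf f hf

theorem hRhom_apply (y : Kˣ) : hRhom hK hperf f hf y = hR hK hperf f hf y := rfl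

theorem xR_mem_RU (t u v : K) : xR hK hperf f hf t u v ∈ RU K m :=
  (mem_RU _).2 (xU_mem hK hperf f hf t u v).1

theorem exists_xR_of_mem_RU (g : ↥(twistedG2 K (3 ^ m))) (hg : g ∈ RU K m) :
    ∃ t u v : K, g = xR hK hperf f hf t u v := by
  rw [mem_RU] at hg
  obtain ⟨t, u, v, e⟩ := exists_coords hK hperf f hf (g : GL chevG2.Idx K)
    (Subgroup.mem_inf.2 ⟨hg, g.2⟩)
  exact ⟨t, u, v, Subtype.ext e⟩

theorem hR_mem_RB (y : Kˣ) : hR hK hperf f hf y ∈ RB K m :=
  (mem_RB _).2 (diagonal_le_borel chevG2 (pHom_mem hK hperf f hf y).1)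

theorem xR_mem_RB (t u v : K) : xR hK hperf f hf t u v ∈ RB K m :=
  (mem_RB _).2 (posUnipotent_le_borel chevG2 (xU_mem hK hperf f hf t u v).1)

theorem mem_RB_iff (g : ↥(twistedG2 K (3 ^ m))) :
    g ∈ RB K m ↔ ∃ (t u v : K) (y : Kˣ), g = xR hK hperf f hf t u v * hR hK hperf f hf y := by
  constructor
  · intro hg
    rw [mem_RB] at hg
    obtain ⟨u, hu, d, hd, e'⟩ :=
      (clsData hK hperf f hf).borel_decomp hS hC (g : GL chevG2.Idx K) hg g.2
    obtain ⟨t, u', v, eu⟩ := exists_coords hK hperf f hf u hu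
    have hd' : d ∈ (pHom (m := m) (K := K)).range := by
      rw [range_pHom hK hperf f hf]
      exact hd
    obtain ⟨y, rfl⟩ := hd'
    refine ⟨t, u', v, y, ?_⟩
    apply Subtype.ext
    rw [e', eu]
    rfl
  · rintro ⟨t, u, v, y, rfl⟩
    exact (RB K m).mul_mem (xR_mem_RB hK hperf f hf t u v) (hR_mem_RB hK hperf f hf y)

/-- the Borel subgroup of the small Ree group as an abstract Borel subgroup of Ree type -/
noncomputable def reeBorel : ReeBorel K ↥(twistedG2 K (3 ^ m)) where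
  x := xR hK hperf f hf
  h := hRhom hK hperf f hf
  χ₁ y := chi chevG2 (extC chevG2 (pc m y)) 6
  χ₂ y := chi chevG2 (extC chevG2 (pc m y)) 10
  Bs := RB K m
  Us := RU K m
  mem_Bs := mem_RB_iff hK hperf f hf
  mem_Us g := ⟨exists_xR_of_mem_RU hK hperf f hf g, by
    rintro ⟨t, u, v, rfl⟩
    exact xR_mem_RU hK hperf f hf t u v⟩
  x_mul_0 := xR_mul_0 hK hperf f hf
  x_0_mul_t := xR_0_mul_t hK hperf f hf
  x_t_mul_t t t' := by
    obtain ⟨v₃, e⟩ := mul_t00 hK hperf f hf t t'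
    exact ⟨_, v₃, Subtype.ext e⟩
  x_inj t u v t' u' v' h := xR_inj hK hperf f hf h
  h_t y t := by
    obtain ⟨t', u', v', e, ht, -⟩ := conj_coords hK hperf f hf y t 0 0
    subst ht
    exact ⟨u', v', Subtype.ext e⟩
  h_u y u := by
    obtain ⟨t', u', v', e, ht, hu⟩ := conj_coords hK hperf f hf y 0 u 0
    have ht0 : t' = 0 := by rw [ht, mul_zero]
    have hu' := hu rfl
    subst ht0
    subst hu'
    exact ⟨v', Subtype.ext e⟩
  h_v y v := hR_conj hK hperf f hf y v

end finite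

end Cfsg.Agent.Helper2.Ree
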