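import Mathlib
import Cfsg.Agent.Lib.Helper2.ReeStem1
import Cfsg.Agent.Lib.Helper2.Ree4

/-!
# The small Ree groups: the local statement at the prime three for stem extensions
-/

set_option autoImplicit false
set_option linter.unusedSectionVars false
set_option linter.unusedSimpArgs false
set_option linter.unusedVariables false

namespace Cfsg.Agent.Helper2.Ree

open Cfsg Cfsg.Lie Cfsg.Agent.Lead.Chev Cfsg.Agent.Lead.ZPM Cfsg.Agent.Lead.Tw Cfsg.Agent.Lead.Tw.G2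
open Cfsg.Agent.Helper2.StemLayer

section field

variable {K : Type*} [Field K] [Fintype K] [CharP K 3] {m : ℕ} (hK : Fintype.card K = 3 ^ (2 * m + 1))
include hK

/-- an element outside the prime field -/
theorem exists_ne_prime (hm : 1 ≤ m) : ∃ s : K, s ≠ 0 ∧ s ≠ 1 ∧ s ≠ -1 := by
  classical
  by_contra hcon
  push Not at hcon
  have hsub : (Finset.univ : Finset K) ⊆ {0, 1, -1} := by
    intro s _
    simp only [Finset.mem_insert, Finset.mem_singleton]
    by_cases h0 : s = 0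
    · exact Or.inl h0
    · by_cases h1 : s = 1
      · exact Or.inr (Or.inl h1)
      · exact Or.inr (Or.inr (hcon s h0 h1))
  have h1 := Finset.card_le_card hsub
  have h2 : ({0, 1, -1} : Finset K).card ≤ 3 := Finset.card_le_three
  rw [Finset.card_univ, hK] at h1
  have h3 : 3 ^ 3 ≤ 3 ^ (2 * m + 1) := Nat.pow_le_pow_right (by norm_num) (by omega)
  omega

/-- `-1` is not a square -/
theorem neg_one_not_sq (a : K) : a ^ 2 ≠ -1 := by
  intro h
  have h3 := three_eq_zero (K := K)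
  have ha : a ≠ 0 := by
    rintro rfl
    rw [zero_pow two_ne_zero] at h
    have : (1 : K) = 0 := by linear_combination h
    exact one_ne_zero this
  have h1 := FiniteField.pow_card_sub_one_eq_one a ha
  rw [hK] at h1
  have hodd : ∃ c, 3 ^ (2 * m + 1) - 1 = 2 * c ∧ c % 2 = 1 := by
    have h4 : 3 ^ (2 * m + 1) % 4 = 3 := by
      rw [pow_succ, pow_mul]
      have : (3 ^ 2) ^ m % 4 = 1 := by
        rw [Nat.pow_mod]
        norm_num
      omega
    exact ⟨(3 ^ (2 * m + 1) - 1) / 2, by omega, by omega⟩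
  obtain ⟨c, hc, hc1⟩ := hodd
  rw [hc, pow_mul, h, Odd.neg_one_pow (Nat.odd_iff.2 hc1)] at h1
  have : (1 : K) = 0 := by linear_combination h1 + h3
  exact one_ne_zero this

theorem pow_theta_ne (f : K ≃+* K) (hf : ∀ t, f t = t ^ (3 ^ m)) (s : K) (h0 : s ≠ 0) (h1 : s ≠ 1)
    (hm1 : s ≠ -1) : s ^ 3 ^ m ≠ s := by
  intro h
  have key := frob_key hK f hf s
  rw [h, h] at key
  have h3 : s * (s - 1) * (s + 1) = 0 := by linear_combination key
  rcases mul_eq_zero.1 h3 with h4 | h4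
  · rcases mul_eq_zero.1 h4 with h5 | h5
    · exact h0 h5
    · exact h1 (sub_eq_zero.1 h5)
  · exact hm1 (eq_neg_of_add_eq_zero_left h4)

end field

section finite

variable {K : Type*} [Field K] [Fintype K] [CharP K 3] {m : ℕ} (hK : Fintype.card K = 3 ^ (2 * m + 1))
  (hperf : ∀ x : K, ∃ y : K, y ^ 3 = x) (f : K ≃+* K) (hf : ∀ t, f t = t ^ (3 ^ m))

omit [Fintype K] [CharP K 3] in
theorem chi6_eq (y : Kˣ) :
    chi chevG2 (extC chevG2 (pc m y)) 6 = (((y : K) ^ 3 ^ m) ^ 3)⁻¹ * (y : K) ^ 2 := by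
  rw [chi_p, cartan_vals.1, cartan_vals.2.1, zpow_neg, zpow_ofNat, zpow_ofNat]

omit [Fintype K] [CharP K 3] in
theorem chi10_eq (y : Kˣ) :
    chi chevG2 (extC chevG2 (pc m y)) 10 = ((y : K) ^ 3 ^ m) ^ 3 * (y : K)⁻¹ := by
  rw [chi_p, cartan_vals.2.2.1, cartan_vals.2.2.2.1, zpow_neg, zpow_one, zpow_ofNat]

omit [Fintype K] [CharP K 3] in
theorem chi6_ne_zero (y : Kˣ) : chi chevG2 (extC chevG2 (pc m y)) 6 ≠ 0 := by
  rw [chi6_eq]
  have hy : (y : K) ≠ 0 := y.ne_zero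
  exact mul_ne_zero (inv_ne_zero (pow_ne_zero _ (pow_ne_zero _ hy))) (pow_ne_zero _ hy)

omit [Fintype K] [CharP K 3] in
theorem chi10_ne_zero (y : Kˣ) : chi chevG2 (extC chevG2 (pc m y)) 10 ≠ 0 := by
  rw [chi10_eq]
  have hy : (y : K) ≠ 0 := y.ne_zero
  exact mul_ne_zero (pow_ne_zero _ (pow_ne_zero _ hy)) (inv_ne_zero hy)

omit [Fintype K] [CharP K 3] in
theorem chi6_one : chi chevG2 (extC chevG2 (pc m (1 : Kˣ))) 6 = (1 : K) := by
  rw [chi6_eq]
  simp

omit [Fintype K] [CharP K 3] in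
theorem chi10_one : chi chevG2 (extC chevG2 (pc m (1 : Kˣ))) 10 = (1 : K) := by
  rw [chi10_eq]
  simp

omit [Fintype K] [CharP K 3] in
theorem chi6_neg_one : chi chevG2 (extC chevG2 (pc m (-1 : Kˣ))) 6 = (-1 : K) := by
  rw [chi6_eq, Units.val_neg, Units.val_one, Odd.neg_one_pow (Odd.pow (by decide))]
  norm_num

omit [Fintype K] [CharP K 3] in
theorem chi10_neg_one : chi chevG2 (extC chevG2 (pc m (-1 : Kˣ))) 10 = (1 : K) := by
  rw [chi10_eq, Units.val_neg, Units.val_one, Odd.neg_one_pow (Odd.pow (by decide))]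
  norm_num

omit [Fintype K] in
/-- the pairing of the first two layers is killed by the involution -/
theorem pair01 : PairKill (fun y : Kˣ => chi chevG2 (extC chevG2 (pc m y)) 6)
    (fun y : Kˣ => chi chevG2 (extC chevG2 (pc m y)) 10) := by
  have h3 := three_eq_zero (K := K)
  refine Or.inl ⟨1, 1, -1, ?_, ?_⟩
  · show chi chevG2 (extC chevG2 (pc m (1 : Kˣ))) 6 + chi chevG2 (extC chevG2 (pc m (1 : Kˣ))) 6 =
      chi chevG2 (extC chevG2 (pc m (-1 : Kˣ))) 6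
    rw [chi6_one, chi6_neg_one]
    linear_combination h3
  · show (chi chevG2 (extC chevG2 (pc m (1 : Kˣ))) 10)⁻¹ +
      (chi chevG2 (extC chevG2 (pc m (1 : Kˣ))) 10)⁻¹ ≠
      (chi chevG2 (extC chevG2 (pc m (-1 : Kˣ))) 10)⁻¹
    rw [chi10_one, chi10_neg_one, inv_one]
    intro h
    have : (1 : K) = 0 := by linear_combination h
    exact one_ne_zero this

omit [Fintype K] in
/-- the pairing of the last two layers is killed by the involution -/
theorem pair12 : PairKill (fun y : Kˣ => chi chevG2 (extC chevG2 (pc m y)) 10)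
    (fun y : Kˣ => (y : K)) := by
  have h3 := three_eq_zero (K := K)
  refine Or.inr ⟨1, 1, -1, ?_, ?_⟩
  · show ((1 : Kˣ) : K) + ((1 : Kˣ) : K) = ((-1 : Kˣ) : K)
    rw [Units.val_neg, Units.val_one]
    linear_combination h3
  · show (chi chevG2 (extC chevG2 (pc m (1 : Kˣ))) 10)⁻¹ +
      (chi chevG2 (extC chevG2 (pc m (1 : Kˣ))) 10)⁻¹ ≠
      (chi chevG2 (extC chevG2 (pc m (-1 : Kˣ))) 10)⁻¹
    rw [chi10_one, chi10_neg_one, inv_one]
    intro h
    have : (1 : K) = 0 := by linear_combination h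
    exact one_ne_zero this

omit [Fintype K] in
/-- the arithmetic behind the pairings of a layer with itself -/
theorem inv_add_inv_ne (s : K) (h0 : s ≠ 0) (h1 : s ≠ 1) (hm1 : s ≠ -1) :
    s⁻¹ + (1 - s)⁻¹ ≠ (1 : K)⁻¹ := by
  have h3 := three_eq_zero (K := K)
  have h1s : 1 - s ≠ 0 := sub_ne_zero.2 (Ne.symm h1)
  intro h
  rw [inv_one] at h
  have h2 : (1 - s) + s = s * (1 - s) := by
    field_simp at h
    linear_combination h
  have h4 : (s + 1) ^ 2 = 0 := by linear_combination h2 + s * h3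
  have h5 : s + 1 = 0 := (pow_eq_zero_iff two_ne_zero).1 h4
  exact hm1 (eq_neg_of_add_eq_zero_left h5)

include hK in
omit [CharP K 3] in
theorem pair22 (hm : 1 ≤ m) [CharP K 3] : PairKill (fun y : Kˣ => (y : K)) (fun y : Kˣ => (y : K)) := by
  obtain ⟨s, h0, h1, hm1⟩ := exists_ne_prime hK hm
  have h1s : 1 - s ≠ 0 := sub_ne_zero.2 (Ne.symm h1)
  refine Or.inl ⟨Units.mk0 s h0, Units.mk0 (1 - s) h1s, 1, ?_, ?_⟩
  · show ((Units.mk0 s h0 : Kˣ) : K) + ((Units.mk0 (1 - s) h1s : Kˣ) : K) = ((1 : Kˣ) : K)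
    rw [Units.val_mk0, Units.val_mk0, Units.val_one]
    ring
  · show ((Units.mk0 s h0 : Kˣ) : K)⁻¹ + ((Units.mk0 (1 - s) h1s : Kˣ) : K)⁻¹ ≠ ((1 : Kˣ) : K)⁻¹
    rw [Units.val_mk0, Units.val_mk0, Units.val_one]
    exact inv_add_inv_ne s h0 h1 hm1

include hK hf in
theorem pair00 (hm : 1 ≤ m) : PairKill (fun y : Kˣ => chi chevG2 (extC chevG2 (pc m y)) 6)
    (fun y : Kˣ => chi chevG2 (extC chevG2 (pc m y)) 6) := by
  obtain ⟨s, h0, h1, hm1⟩ := exists_ne_prime hK hm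
  have h1s : 1 - s ≠ 0 := sub_ne_zero.2 (Ne.symm h1)
  refine Or.inl ⟨ys m (Units.mk0 s h0), ys m (Units.mk0 (1 - s) h1s), ys m 1, ?_, ?_⟩
  · show chi chevG2 (extC chevG2 (pc m (ys m (Units.mk0 s h0)))) 6 +
      chi chevG2 (extC chevG2 (pc m (ys m (Units.mk0 (1 - s) h1s)))) 6 =
      chi chevG2 (extC chevG2 (pc m (ys m 1))) 6
    rw [chi6_ys hK f hf, chi6_ys hK f hf, chi6_ys hK f hf, Units.val_mk0, Units.val_mk0,
      Units.val_one]
    ring
  · show (chi chevG2 (extC chevG2 (pc m (ys m (Units.mk0 s h0)))) 6)⁻¹ +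
      (chi chevG2 (extC chevG2 (pc m (ys m (Units.mk0 (1 - s) h1s)))) 6)⁻¹ ≠
      (chi chevG2 (extC chevG2 (pc m (ys m 1))) 6)⁻¹
    rw [chi6_ys hK f hf, chi6_ys hK f hf, chi6_ys hK f hf, Units.val_mk0, Units.val_mk0,
      Units.val_one]
    exact inv_add_inv_ne s h0 h1 hm1

omit [Fintype K] in
theorem sq_pair (hns : ∀ a : K, a ^ 2 ≠ -1) (a b : K) (hab : a ^ 2 + b ^ 2 = 1) (ha : a ≠ 0)
    (hb : b ≠ 0) : (a ^ 2)⁻¹ + (b ^ 2)⁻¹ ≠ 1 := by
  have h3 := three_eq_zero (K := K)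
  intro h
  have ha2 : a ^ 2 ≠ 0 := pow_ne_zero _ ha
  have hb2 : b ^ 2 ≠ 0 := pow_ne_zero _ hb
  have h4 : b ^ 2 + a ^ 2 = a ^ 2 * b ^ 2 := by
    field_simp at h
    linear_combination h
  have hb' : b ^ 2 = 1 - a ^ 2 := by linear_combination hab
  rw [hb'] at h4
  have h5 : (a ^ 2 + 1) ^ 2 = 0 := by linear_combination h4 + a ^ 2 * h3
  have h6 : a ^ 2 + 1 = 0 := (pow_eq_zero_iff two_ne_zero).1 h5
  exact hns a (by linear_combination h6)

include hK in
theorem exists_pyth (hm : 1 ≤ m) : ∃ a : K, a ≠ 0 ∧ ∃ b : K, b ≠ 0 ∧ a ^ 2 + b ^ 2 = 1 := by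
  have h3 := three_eq_zero (K := K)
  obtain ⟨l, h0, h1, hm1⟩ := exists_ne_prime hK hm
  have hd : 1 + l ^ 2 ≠ 0 := by
    intro h
    exact neg_one_not_sq hK l (by linear_combination h)
  have hn : 1 - l ^ 2 ≠ 0 := by
    intro h
    have h4 : (l - 1) * (l + 1) = 0 := by linear_combination -h
    rcases mul_eq_zero.1 h4 with h5 | h5
    · exact h1 (sub_eq_zero.1 h5)
    · exact hm1 (eq_neg_of_add_eq_zero_left h5)
  have h2 : (2 : K) ≠ 0 := by
    intro h
    have : (1 : K) = 0 := by linear_combination h3 - h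
    exact one_ne_zero this
  refine ⟨(1 - l ^ 2) / (1 + l ^ 2), div_ne_zero hn hd, 2 * l / (1 + l ^ 2),
    div_ne_zero (mul_ne_zero h2 h0) hd, ?_⟩
  field_simp
  ring

include hK hf in
theorem pair11 (hm : 1 ≤ m) : PairKill (fun y : Kˣ => chi chevG2 (extC chevG2 (pc m y)) 10)
    (fun y : Kˣ => chi chevG2 (extC chevG2 (pc m y)) 10) := by
  obtain ⟨a, ha, b, hb, hab⟩ := exists_pyth hK hm
  refine Or.inl ⟨yr m (Units.mk0 a ha), yr m (Units.mk0 b hb), yr m 1, ?_, ?_⟩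
  · show chi chevG2 (extC chevG2 (pc m (yr m (Units.mk0 a ha)))) 10 +
      chi chevG2 (extC chevG2 (pc m (yr m (Units.mk0 b hb)))) 10 =
      chi chevG2 (extC chevG2 (pc m (yr m 1))) 10
    rw [chi10_yr hK f hf, chi10_yr hK f hf, chi10_yr hK f hf, Units.val_mk0, Units.val_mk0,
      Units.val_one, hab, one_pow]
  · show (chi chevG2 (extC chevG2 (pc m (yr m (Units.mk0 a ha)))) 10)⁻¹ +
      (chi chevG2 (extC chevG2 (pc m (yr m (Units.mk0 b hb)))) 10)⁻¹ ≠
      (chi chevG2 (extC chevG2 (pc m (yr m 1))) 10)⁻¹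
    rw [chi10_yr hK f hf, chi10_yr hK f hf, chi10_yr hK f hf, Units.val_mk0, Units.val_mk0,
      Units.val_one, one_pow, inv_one]
    exact sq_pair (neg_one_not_sq hK) a b hab ha hb

include hK hf in
theorem pair02 (hm : 1 ≤ m) : PairKill (fun y : Kˣ => chi chevG2 (extC chevG2 (pc m y)) 6)
    (fun y : Kˣ => (y : K)) := by
  have h3 := three_eq_zero (K := K)
  obtain ⟨y, h0, h1, hm1⟩ := exists_ne_prime hK hm
  have hy1 : y + 1 ≠ 0 := fun h => hm1 (eq_neg_of_add_eq_zero_left h)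
  have hw := pow_theta_ne hK f hf y h0 h1 hm1
  refine Or.inr ⟨Units.mk0 y h0, 1, Units.mk0 (y + 1) hy1, ?_, ?_⟩
  · show ((Units.mk0 y h0 : Kˣ) : K) + ((1 : Kˣ) : K) = ((Units.mk0 (y + 1) hy1 : Kˣ) : K)
    rw [Units.val_mk0, Units.val_mk0, Units.val_one]
  · show (chi chevG2 (extC chevG2 (pc m (Units.mk0 y h0))) 6)⁻¹ +
      (chi chevG2 (extC chevG2 (pc m (1 : Kˣ))) 6)⁻¹ ≠
      (chi chevG2 (extC chevG2 (pc m (Units.mk0 (y + 1) hy1))) 6)⁻¹
    rw [chi6_one, chi6_eq, chi6_eq, Units.val_mk0, Units.val_mk0, inv_one, pow_e_add, one_pow,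
      add_cube_char, one_pow]
    set w := y ^ 3 ^ m with hwdef
    have hw0 : w ≠ 0 := pow_ne_zero _ h0
    have hw3 : w ^ 3 ≠ 0 := pow_ne_zero _ hw0
    have hw31 : w ^ 3 + 1 ≠ 0 := by
      intro h
      have h4 : (w + 1) ^ 3 = 0 := by rw [add_cube_char, one_pow]; exact h
      have h5 : w + 1 = 0 := (pow_eq_zero_iff (by norm_num)).1 h4
      have h6 : (y + 1) ^ 3 ^ m = 0 := by rw [pow_e_add, one_pow]; exact h5
      exact hy1 ((pow_eq_zero_iff (pow_ne_zero _ (by norm_num))).1 h6)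
    intro h
    have h4 : (w ^ 3 + y ^ 2) * (y + 1) ^ 2 = (w ^ 3 + 1) * y ^ 2 := by
      have hy2 : y ^ 2 ≠ 0 := pow_ne_zero _ h0
      have hy12 : (y + 1) ^ 2 ≠ 0 := pow_ne_zero _ hy1
      rw [mul_inv, inv_inv, mul_inv, inv_inv] at h
      field_simp at h
      linear_combination h
    have h5 : (y + 2) * (y - w) ^ 3 = 0 := by
      linear_combination h4 + ((y + 2) * (-y ^ 2 * w + y * w ^ 2) - (y + 1) * w ^ 3) * h3
    rcases mul_eq_zero.1 h5 with h6 | h6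
    · apply h1
      linear_combination h6 - h3
    · have h7 : y - w = 0 := (pow_eq_zero_iff (by norm_num)).1 h6
      exact hw (sub_eq_zero.1 h7).symm

end finite

end Cfsg.Agent.Helper2.Ree
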