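import Mathlib
import Cfsg.Agent.Lib.Helper2.ReeStem2
import Cfsg.Agent.Lib.Helper2.Ree8Inst

/-!
# The small Ree groups: the local statements at the odd primes for stem extensions
-/

set_option autoImplicit false
set_option linter.unusedSectionVars false
set_option linter.unusedSimpArgs false
set_option linter.unusedVariables false

namespace Cfsg.Agent.Helper2.Ree

open scoped commutatorElement
open Cfsg Cfsg.Lie Cfsg.Agent.Lead.Chev Cfsg.Agent.Lead.ZPM Cfsg.Agent.Lead.Tw Cfsg.Agent.Lead.Tw.G2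
open Cfsg.Agent.Helper2.StemLayer Cfsg.Agent.Helper29.StemSylow

section finite

variable {K : Type*} [Field K] [Fintype K] [CharP K 3] {m : ℕ} (hK : Fintype.card K = 3 ^ (2 * m + 1))
  (hperf : ∀ x : K, ∃ y : K, y ^ 3 = x) (f : K ≃+* K) (hf : ∀ t, f t = t ^ (3 ^ m))
include hK hperf hf

variable {Γ : Type*} [Group Γ]

/-- the local statement at the prime three -/
theorem local_three (hm : 1 ≤ m) (σ : Γ →* ↥(twistedG2 K (3 ^ m))) (hs : Function.Surjective σ)
    (hKc : σ.ker ≤ Subgroup.center Γ) :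
    ∃ Q : Subgroup ↥(twistedG2 K (3 ^ m)), ¬ 3 ∣ Q.index ∧
      ∀ k ∈ ⁅Q.comap σ, Q.comap σ⁆, k ∈ σ.ker → k = 1 := by
  classical
  have : Fact (Nat.Prime 3) := ⟨Nat.prime_three⟩
  obtain ⟨R, hRU⟩ := exists_reeData_U hK hperf f hf hm
  have hq := qdata m hm
  refine ⟨RB K m, ?_, ?_⟩
  · obtain ⟨Q, hQ⟩ := R.exists_sylow_U hq
    intro hdvd
    have hle : (Q : Subgroup ↥(twistedG2 K (3 ^ m))) ≤ RB K m := by
      rw [hQ, hRU]
      intro g hg
      rw [mem_RU] at hg
      rw [mem_RB]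
      exact posUnipotent_le_borel chevG2 hg
    exact Q.not_dvd_index (hdvd.trans (Subgroup.index_dvd_of_le hle))
  · obtain ⟨s, h0, h1, hm1⟩ := exists_ne_prime hK hm
    have hs1 : Units.mk0 s h0 ≠ 1 := by
      intro h
      apply h1
      have := congrArg (fun u : Kˣ => (u : K)) h
      simpa using this
    have hs2 : ((Units.mk0 s h0 : Kˣ) : K) ^ 2 ≠ 1 := by
      rw [Units.val_mk0]
      intro h
      have h4 : (s - 1) * (s + 1) = 0 := by linear_combination h
      rcases mul_eq_zero.1 h4 with h5 | h5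
      · exact h1 (sub_eq_zero.1 h5)
      · exact hm1 (eq_neg_of_add_eq_zero_left h5)
    exact (reeBorel hK hperf f hf).comm_inf_ker σ hs hKc
      (fun y => chi6_ne_zero y) (fun y => chi10_ne_zero y)
      (pair00 hK f hf hm) pair01 (pair02 hK f hf hm) (pair11 hK f hf hm) pair12 (pair22 hK hm)
      (Units.mk0 s h0)
      (fun h => chi6p_ne hK f hf _ hs1 (sub_eq_zero.2 h))
      (fun h => chi10p_ne hK f hf _ hs2 (sub_eq_zero.2 h))
      (by rw [Units.val_mk0]; exact h1)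

/-- the local statement at the primes greater than three -/
theorem local_big (hm : 1 ≤ m) (σ : Γ →* ↥(twistedG2 K (3 ^ m))) (hs : Function.Surjective σ)
    (hKc : σ.ker ≤ Subgroup.center Γ) (p : ℕ) (hp : p.Prime) (hp3 : 3 < p) :
    ∃ Q : Subgroup ↥(twistedG2 K (3 ^ m)), ¬ p ∣ Q.index ∧
      ∀ k ∈ ⁅Q.comap σ, Q.comap σ⁆, k ∈ σ.ker → k = 1 := by
  classical
  have : Fact p.Prime := ⟨hp⟩
  obtain ⟨R, hRU⟩ := exists_reeData_U hK hperf f hf hm
  have hq := qdata m hm
  obtain ⟨S⟩ : Nonempty (Sylow p ↥(twistedG2 K (3 ^ m))) := inferInstance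
  refine ⟨S, S.not_dvd_index, ?_⟩
  have hcyc : IsCyclic (S : Subgroup ↥(twistedG2 K (3 ^ m))) :=
    R.sylow_cyclic hq (reeLin hK hperf f hf hm) (exists_nonsplit hK hperf f hf hm) hp3 S
  obtain ⟨g, hg⟩ := IsCyclic.exists_generator (α := (S : Subgroup ↥(twistedG2 K (3 ^ m))))
  obtain ⟨g', hg'⟩ := hs g
  have hb := comm_eq_bot_of_cyclic σ hKc ((S : Subgroup _).comap σ) g' (fun u hu => by
    obtain ⟨i, hi⟩ := Subgroup.mem_zpowers_iff.1 (hg ⟨σ u, hu⟩)
    refine ⟨i, ?_⟩
    rw [hg']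
    have := congrArg Subtype.val hi
    simpa using this.symm)
  intro k hk _
  rw [hb] at hk
  exact Subgroup.mem_bot.1 hk

end finite

end Cfsg.Agent.Helper2.Ree
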