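import Mathlib
import Cfsg.Agent.Lib.Helper2.ReeStem3
import Cfsg.Agent.Lib.Helper2.FrobOf

/-!
# The small Ree groups: the local statement at the prime two for stem extensions
-/

set_option autoImplicit false
set_option linter.unusedSectionVars false
set_option linter.unusedSimpArgs false
set_option linter.unusedVariables false

namespace Cfsg.Agent.Helper2.Ree

open scoped commutatorElement
open Cfsg Cfsg.Lie Cfsg.Agent.Lead.Chev Cfsg.Agent.Lead.ZPM Cfsg.Agent.Lead.Tw Cfsg.Agent.Lead.Tw.G2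
open Cfsg.Agent.Helper29.StemSylow Cfsg.Agent.Helper26.StemFrob

section finite

variable {K : Type*} [Field K] [Fintype K] [CharP K 3] {m : ℕ} (hK : Fintype.card K = 3 ^ (2 * m + 1))
  (hperf : ∀ x : K, ∃ y : K, y ^ 3 = x) (f : K ≃+* K) (hf : ∀ t, f t = t ^ (3 ^ m))
include hK hperf hf

variable {Γ : Type*} [Group Γ]

/-- the local statement at the prime two -/
theorem local_two (hm : 1 ≤ m) (σ : Γ →* ↥(twistedG2 K (3 ^ m))) (hs : Function.Surjective σ)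
    (hKc : σ.ker ≤ Subgroup.center Γ) :
    ∃ Q : Subgroup ↥(twistedG2 K (3 ^ m)), ¬ 2 ∣ Q.index ∧
      ∀ k ∈ ⁅Q.comap σ, Q.comap σ⁆, k ∈ σ.ker → k = 1 := by
  classical
  have : Fact (Nat.Prime 2) := ⟨Nat.prime_two⟩
  have : Fact (Nat.Prime 7) := ⟨by norm_num⟩
  obtain ⟨R, hRU⟩ := exists_reeData_U hK hperf f hf hm
  obtain ⟨S⟩ : Nonempty (Sylow 2 ↥(twistedG2 K (3 ^ m))) := inferInstance
  obtain ⟨h8, hexp⟩ := R.syl2 S
  obtain ⟨hC, hN⟩ := R.syl2n S
  have h7 : 7 ∣ Nat.card (Subgroup.normalizer ((S : Subgroup ↥(twistedG2 K (3 ^ m))) :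
      Set ↥(twistedG2 K (3 ^ m)))) := by
    rw [hN]
    norm_num
  obtain ⟨z, hz⟩ := exists_prime_orderOf_dvd_card' 7 h7
  have hz7 : orderOf (z : ↥(twistedG2 K (3 ^ m))) = 7 := by
    rw [Subgroup.orderOf_coe]
    exact hz
  have hzN : ∀ s, s ∈ (S : Subgroup ↥(twistedG2 K (3 ^ m))) ↔
      (z : ↥(twistedG2 K (3 ^ m))) * s * (z : ↥(twistedG2 K (3 ^ m)))⁻¹ ∈
        (S : Subgroup ↥(twistedG2 K (3 ^ m))) :=
    Subgroup.mem_normalizer_iff.1 z.2
  have hC' : ∀ g : ↥(twistedG2 K (3 ^ m)),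
      (∀ s ∈ (S : Subgroup ↥(twistedG2 K (3 ^ m))), g * s = s * g) →
        g ∈ (S : Subgroup ↥(twistedG2 K (3 ^ m))) := by
    intro g hg
    rw [← hC, Subgroup.mem_centralizer_iff]
    intro s hs'
    exact (hg s hs').symm
  obtain ⟨e0, e1, e2, z', hF⟩ := Cfsg.Agent.Helper2.FrobOf.exists_frob56
    (S : Subgroup ↥(twistedG2 K (3 ^ m))) h8 hexp hC' z hzN hz7
  apply hF.local_two σ hs hKc
  intro h16
  have h1 := Sylow.card_eq_multiplicity S
  rw [h8] at h1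
  have h2 : (2 : ℕ) ^ 4 ∣ Nat.card ↥(twistedG2 K (3 ^ m)) := h16
  have h3 := (Nat.Prime.pow_dvd_iff_le_factorization Nat.prime_two Nat.card_pos.ne').1 h2
  have h4 : (2 : ℕ) ^ 4 ≤ 2 ^ (Nat.card ↥(twistedG2 K (3 ^ m))).factorization 2 :=
    Nat.pow_le_pow_right (by norm_num) h3
  omega

end finite

end Cfsg.Agent.Helper2.Ree
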