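import Mathlib

/-!
# S2512, piece S12-NILP (helper2 for helper5): the unipotent element `[[1+t, 1], [t, 1]]` of
`SL₂(R)`, `t ^ r = 0 ≠ t ^ (r - 1)`: `(g - 1) ^ (2 r) = 0 ≠ (g - 1) ^ (2 r - 1)`.
-/

set_option autoImplicit false
set_option linter.style.haveILetI false

open Polynomial

namespace Cfsg.Agent.Helper5.S12

universe v v₁ v₂ u

/-- multiplication by `t` on both coordinates -/
noncomputable def s12h2_nilp_T (F : Type u) [Field F] {R : Type v} [CommRing R] [Algebra F R] (t : R) :
    Module.End F (R × R) :=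
  LinearMap.prodMap (LinearMap.mulLeft F t) (LinearMap.mulLeft F t)

theorem s12h2_nilp_T_apply (F : Type u) [Field F] {R : Type v} [CommRing R] [Algebra F R] (t : R)
    (x : R × R) : s12h2_nilp_T F t x = (t * x.1, t * x.2) := rfl

theorem s12h2_nilp_T_pow_apply (F : Type u) [Field F] {R : Type v} [CommRing R] [Algebra F R] (t : R)
    (j : ℕ) (x : R × R) : (s12h2_nilp_T F t ^ j) x = (t ^ j * x.1, t ^ j * x.2) := by
  induction j generalizing x with
  | zero => simp
  | succ j ih =>
    rw [pow_succ, Module.End.mul_apply, ih, s12h2_nilp_T_apply]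
    refine Prod.ext ?_ ?_
    · show t ^ j * (t * x.1) = t ^ (j + 1) * x.1
      ring
    · show t ^ j * (t * x.2) = t ^ (j + 1) * x.2
      ring

/-- PIECE S12-NILP.  Mathlib only.  `G = (g : End)`, `T = ` multiplication by `t` on both coordinates
(e.g. `LinearMap.prodMap (LinearMap.mulLeft F t) (LinearMap.mulLeft F t)` or `DistribMulAction.toLinearMap`).
Pointwise: `(G - 1) (a, b) = (t a + b, t a)`, `(G - 1)^2 (a, b) = t • G (a, b)`, `G` commutes with `T`;
hence `(G - 1) ^ (2 * j) = T ^ j * G ^ j` (induction), `(G - 1) ^ (2 r) = 0` since `t ^ r = 0`.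
Nonvanishing: `(G - 1) ^ (2 r - 1) = (G - 1) ^ (2 (r - 1)) * (G - 1)`; apply to `(0, 1)`:
`(G - 1) (0, 1) = (1, 0)`, and `G ^ j (1, 0) = (1 + t * u_j, t * v_j)` (induction on `j`:
`G (1 + t u, t v) = (1 + t (1 + u + t u + v), t (1 + t u + v))`), so the first coordinate of
`T ^ (r - 1) (G ^ (r - 1) (1, 0))` is `t ^ (r - 1) + t ^ r * u = t ^ (r - 1) ≠ 0`. -/
theorem s12h2_nilp_facts {F : Type u} [Field F] {R : Type v} [CommRing R] [Algebra F R] (t : R) (r : ℕ)
    (hr : 1 ≤ r) (ht : t ^ r = 0) (ht' : t ^ (r - 1) ≠ 0) (g : (R × R) ≃ₗ[F] (R × R))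
    (hg : ∀ x, g x = ((1 + t) * x.1 + x.2, t * x.1 + x.2)) :
    ((g : (R × R) →ₗ[F] (R × R)) - 1) ^ (2 * r) = 0 ∧
      ((g : (R × R) →ₗ[F] (R × R)) - 1) ^ (2 * r - 1) ≠ 0 := by
  set G : Module.End F (R × R) := (g : (R × R) →ₗ[F] (R × R)) with hGdef
  set T : Module.End F (R × R) := s12h2_nilp_T F t with hTdef
  have hG : ∀ x, G x = ((1 + t) * x.1 + x.2, t * x.1 + x.2) := fun x => hg x
  have hN : ∀ x, (G - 1) x = (t * x.1 + x.2, t * x.1) := by
    intro x
    rw [LinearMap.sub_apply, Module.End.one_apply, hG]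
    refine Prod.ext ?_ ?_
    · show (1 + t) * x.1 + x.2 - x.1 = t * x.1 + x.2
      ring
    · show t * x.1 + x.2 - x.2 = t * x.1
      ring
  have hsq : (G - 1) * (G - 1) = T * G := by
    apply LinearMap.ext
    intro x
    rw [Module.End.mul_apply, Module.End.mul_apply, hN, hN, hG, hTdef, s12h2_nilp_T_apply]
    refine Prod.ext ?_ ?_
    · show t * (t * x.1 + x.2) + t * x.1 = t * ((1 + t) * x.1 + x.2)
      ring
    · show t * (t * x.1 + x.2) = t * (t * x.1 + x.2)
      rfl
  have hcomm : Commute T G := by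
    apply LinearMap.ext
    intro x
    rw [Module.End.mul_apply, Module.End.mul_apply, hG, hG, hTdef, s12h2_nilp_T_apply,
      s12h2_nilp_T_apply]
    refine Prod.ext ?_ ?_
    · show t * ((1 + t) * x.1 + x.2) = (1 + t) * (t * x.1) + t * x.2
      ring
    · show t * (t * x.1 + x.2) = t * (t * x.1) + t * x.2
      ring
  have hpow : ∀ j : ℕ, (G - 1) ^ (2 * j) = T ^ j * G ^ j := by
    intro j
    rw [pow_mul, pow_two, hsq, hcomm.mul_pow]
  have hTr : T ^ r = 0 := by
    apply LinearMap.ext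
    intro x
    rw [hTdef, s12h2_nilp_T_pow_apply, ht, zero_mul, zero_mul]
    rfl
  constructor
  · rw [hpow, hTr, zero_mul]
  · intro h0
    have e : 2 * r - 1 = 2 * (r - 1) + 1 := by omega
    rw [e, pow_succ, hpow] at h0
    have h1 := congrArg (fun f : Module.End F (R × R) => f ((0 : R), (1 : R))) h0
    simp only [Module.End.mul_apply, LinearMap.zero_apply] at h1
    have h2 : (G - 1) ((0 : R), (1 : R)) = ((1 : R), (0 : R)) := by
      rw [hN]
      refine Prod.ext ?_ ?_
      · show t * 0 + 1 = 1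
        ring
      · show t * 0 = 0
        ring
    rw [h2] at h1
    have h3 : ∀ j : ℕ, ∃ u w : R, (G ^ j) ((1 : R), (0 : R)) = (1 + t * u, t * w) := by
      intro j
      induction j with
      | zero => exact ⟨0, 0, by simp⟩
      | succ j ih =>
        obtain ⟨u, w, huw⟩ := ih
        refine ⟨1 + u + t * u + w, 1 + t * u + w, ?_⟩
        rw [pow_succ', Module.End.mul_apply, huw, hG]
        refine Prod.ext ?_ ?_
        · show (1 + t) * (1 + t * u) + t * w = 1 + t * (1 + u + t * u + w)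
          ring
        · show t * (1 + t * u) + t * w = t * (1 + t * u + w)
          ring
    obtain ⟨u, w, huw⟩ := h3 (r - 1)
    rw [huw, hTdef, s12h2_nilp_T_pow_apply] at h1
    have h4 := congrArg Prod.fst h1
    have h5 : t ^ (r - 1) * (1 + t * u) = t ^ (r - 1) := by
      have e2 : t ^ (r - 1) * t = t ^ r := by
        rw [← pow_succ]
        congr 1
        omega
      calc t ^ (r - 1) * (1 + t * u) = t ^ (r - 1) + (t ^ (r - 1) * t) * u := by ring
        _ = t ^ (r - 1) := by rw [e2, ht, zero_mul, add_zero]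
    apply ht'
    rw [← h5]
    exact h4

end Cfsg.Agent.Helper5.S12
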