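import Mathlib

/-!
# S2512, piece S12-SL2 (helper2 for helper5): `SL₂(R)` acts on `R × R` preserving the `F`-form
`ω (a, b) (a', b') = lam (a * b' - a' * b)`.
-/

set_option autoImplicit false
set_option linter.style.haveILetI false

open Polynomial

namespace Cfsg.Agent.Helper5.S12

universe v v₁ v₂ u

/-- the alternating form `lam (a * b' - a' * b)` on `R × R` -/
noncomputable def s12_sl2_form {F : Type u} [Field F] {R : Type v} [CommRing R] [Algebra F R]
    (lam : R →ₗ[F] F) : LinearMap.BilinForm F (R × R) :=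
  LinearMap.mk₂ F (fun x y => lam (x.1 * y.2 - y.1 * x.2))
    (by
      intro x x' y
      rw [← map_add]
      congr 1
      simp only [Prod.fst_add, Prod.snd_add]
      ring)
    (by
      intro c x y
      rw [← map_smul]
      congr 1
      simp only [Prod.smul_fst, Prod.smul_snd, smul_mul_assoc, mul_smul_comm, smul_sub])
    (by
      intro x y y'
      rw [← map_add]
      congr 1
      simp only [Prod.fst_add, Prod.snd_add]
      ring)
    (by
      intro c x y
      rw [← map_smul]
      congr 1
      simp only [Prod.smul_fst, Prod.smul_snd, smul_mul_assoc, mul_smul_comm, smul_sub])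

theorem s12_sl2_form_apply {F : Type u} [Field F] {R : Type v} [CommRing R] [Algebra F R]
    (lam : R →ₗ[F] F) (x y : R × R) :
    s12_sl2_form lam x y = lam (x.1 * y.2 - y.1 * x.2) := rfl

/-- the linear equivalence given by a matrix of determinant `1` over `R` -/
noncomputable def s12_sl2_equiv {F : Type u} [Field F] {R : Type v} [CommRing R] [Algebra F R]
    (α β γ δ : R) (hdet : α * δ - β * γ = 1) : (R × R) ≃ₗ[F] (R × R) where
  toFun x := (α * x.1 + β * x.2, γ * x.1 + δ * x.2)
  map_add' x y := by
    refine Prod.ext ?_ ?_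
    · simp only [Prod.fst_add, Prod.snd_add]
      ring
    · simp only [Prod.fst_add, Prod.snd_add]
      ring
  map_smul' c x := by
    refine Prod.ext ?_ ?_
    · simp only [Prod.smul_fst, Prod.smul_snd, mul_smul_comm, smul_add, RingHom.id_apply]
    · simp only [Prod.smul_fst, Prod.smul_snd, mul_smul_comm, smul_add, RingHom.id_apply]
  invFun x := (δ * x.1 - β * x.2, -γ * x.1 + α * x.2)
  left_inv x := by
    refine Prod.ext ?_ ?_
    · show δ * (α * x.1 + β * x.2) - β * (γ * x.1 + δ * x.2) = x.1
      linear_combination x.1 * hdet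
    · show -γ * (α * x.1 + β * x.2) + α * (γ * x.1 + δ * x.2) = x.2
      linear_combination x.2 * hdet
  right_inv x := by
    refine Prod.ext ?_ ?_
    · show α * (δ * x.1 - β * x.2) + β * (-γ * x.1 + α * x.2) = x.1
      linear_combination x.1 * hdet
    · show γ * (δ * x.1 - β * x.2) + δ * (-γ * x.1 + α * x.2) = x.2
      linear_combination x.2 * hdet

theorem s12_sl2_equiv_apply {F : Type u} [Field F] {R : Type v} [CommRing R] [Algebra F R]
    (α β γ δ : R) (hdet : α * δ - β * γ = 1) (x : R × R) :
    s12_sl2_equiv (F := F) α β γ δ hdet x = (α * x.1 + β * x.2, γ * x.1 + δ * x.2) := rfl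

/-- PIECE S12-SL2.  Mathlib only.  `SL₂(R)` acts on `R × R` preserving the `F`-form
`ω (a, b) (a', b') = lam (a * b' - a' * b)`.  Build `ω` with `LinearMap.mk₂` (as `plus_block` in
`Cfsg/Agent/Lib/Helper27/S74XPLUSK.lean` does for the trace form), `g` with `LinearEquiv.ofLinear`/
`LinearEquiv.mk` and inverse `(a, b) ↦ (δ * a - β * b, - γ * a + α * b)` (`linear_combination` with
`hdet`; `F`-linearity from `Algebra.smul_def`/`mul_smul_comm`/`smul_mul_assoc`).  Alternating:
`a * b - a * b = 0`.  Nondegenerate: test against `(0, b')` and `(a', 0)`, then `hlam`.  Isometry: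
`(α a + β b)(γ a' + δ b') - (α a' + β b')(γ a + δ b) = (α δ - β γ)(a b' - a' b)` (`ring`, then `hdet`). -/
theorem sl2_model {F : Type u} [Field F] {R : Type v} [CommRing R] [Algebra F R]
    (lam : R →ₗ[F] F) (hlam : ∀ a : R, a ≠ 0 → ∃ b : R, lam (a * b) ≠ 0) (α β γ δ : R)
    (hdet : α * δ - β * γ = 1) :
    ∃ (ω : LinearMap.BilinForm F (R × R)) (g : (R × R) ≃ₗ[F] (R × R)),
      (∀ x, ω x x = 0) ∧ (∀ x, (∀ y, ω x y = 0) → x = 0) ∧ (∀ x y, ω (g x) (g y) = ω x y) ∧
        ∀ x, g x = (α * x.1 + β * x.2, γ * x.1 + δ * x.2) := by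
  refine ⟨s12_sl2_form lam, s12_sl2_equiv α β γ δ hdet, ?_, ?_, ?_, ?_⟩
  · intro x
    rw [s12_sl2_form_apply, sub_self, map_zero]
  · intro x hx
    refine Prod.ext ?_ ?_
    · by_contra hne
      obtain ⟨b, hb⟩ := hlam x.1 hne
      apply hb
      have := hx (0, b)
      rw [s12_sl2_form_apply] at this
      simpa using this
    · by_contra hne
      obtain ⟨b, hb⟩ := hlam x.2 hne
      apply hb
      have := hx (b, 0)
      rw [s12_sl2_form_apply] at this
      have h2 : lam (x.2 * b) = - lam (x.1 * (0 : R × R).2 - b * x.2) := by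
        rw [← map_neg]
        congr 1
        show x.2 * b = -(x.1 * 0 - b * x.2)
        ring
      rw [h2]
      show -lam (x.1 * (b, (0 : R)).2 - (b, (0 : R)).1 * x.2) = 0
      rw [this, neg_zero]
  · intro x y
    rw [s12_sl2_form_apply, s12_sl2_form_apply, s12_sl2_equiv_apply, s12_sl2_equiv_apply]
    congr 1
    show (α * x.1 + β * x.2) * (γ * y.1 + δ * y.2) - (α * y.1 + β * y.2) * (γ * x.1 + δ * x.2) =
      x.1 * y.2 - y.1 * x.2
    linear_combination (x.1 * y.2 - y.1 * x.2) * hdet
  · intro x
    exact s12_sl2_equiv_apply α β γ δ hdet x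

end Cfsg.Agent.Helper5.S12
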