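import Mathlib

/-!
# S2512, piece S12-TORUS (helper2 for helper5): arithmetic modulo 4 of `q ^ n ± 1`, `q` odd.
-/

set_option autoImplicit false
set_option linter.style.haveILetI false

open Polynomial

namespace Cfsg.Agent.Helper5.S12

universe v v₁ v₂ u

theorem s12_torus_pow_odd (q n : ℕ) (hq : Odd q) : Odd (q ^ n) := hq.pow

/-- PIECE S12-TORUS (1/2).  Mathlib only.  `q ^ n` is odd; `q ^ n % 4 = 1` or `3`; `M = (q ^ n + 1) / 2`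
resp. `(q ^ n - 1) / 2`; `omega`. -/
theorem exists_half_odd (q n : ℕ) (hq : Odd q) :
    ∃ M, Odd M ∧ (2 * M = q ^ n + 1 ∨ 2 * M = q ^ n - 1) := by
  have hodd : Odd (q ^ n) := s12_torus_pow_odd q n hq
  obtain ⟨k, hk⟩ := hodd
  generalize q ^ n = Q at hk
  rcases Nat.even_or_odd k with ⟨j, hj⟩ | ⟨j, hj⟩
  · -- Q = 4 j + 1, Q + 1 = 2 (2 j + 1)
    refine ⟨2 * j + 1, ⟨j, rfl⟩, Or.inl ?_⟩
    omega
  · -- Q = 4 j + 3, Q - 1 = 2 (2 j + 1)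
    refine ⟨2 * j + 1, ⟨j, rfl⟩, Or.inr ?_⟩
    omega

/-- PIECE S12-TORUS (2/2).  `2 M = q ^ n + 1`: `a ∣ q ^ n + 1 = 2 M` gives `a ∣ M` (`a` odd:
`Nat.Coprime.dvd_of_dvd_mul_left`); `a ∣ q ^ n - 1 = 2 (M - 1)` and `4 ∣ 2 (M - 1)`, so `4 a ∣ q ^ n - 1`
(`Nat.Coprime.mul_dvd_of_dvd_of_dvd`).  Symmetrically for `2 M = q ^ n - 1` (`q ^ n + 1 = 2 (M + 1)`). -/
theorem torus_split (q n M a : ℕ) (hq : Odd q) (hM : Odd M)
    (hM2 : 2 * M = q ^ n + 1 ∨ 2 * M = q ^ n - 1) (ha : Odd a)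
    (h : a ∣ q ^ n - 1 ∨ a ∣ q ^ n + 1) : a ∣ M ∨ 4 * a ∣ q ^ n - 1 ∨ 4 * a ∣ q ^ n + 1 := by
  have hodd : Odd (q ^ n) := s12_torus_pow_odd q n hq
  generalize q ^ n = Q at hodd hM2 h ⊢
  have hcop2 : Nat.Coprime a 2 := Nat.coprime_two_right.2 ha
  have hcop4 : Nat.Coprime 4 a := by
    have h22 : Nat.Coprime a (2 * 2) := Nat.Coprime.mul_right hcop2 hcop2
    exact h22.symm
  obtain ⟨m, hm⟩ := hM
  obtain ⟨k, hk⟩ := hodd
  rcases hM2 with hM2 | hM2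
  · rcases h with h | h
    · -- a ∣ Q - 1, 4 ∣ Q - 1
      right; left
      refine Nat.Coprime.mul_dvd_of_dvd_of_dvd hcop4 ⟨m, by omega⟩ h
    · left
      have h2 : a ∣ 2 * M := by rw [hM2]; exact h
      exact (Nat.Coprime.dvd_mul_left hcop2).1 h2
  · rcases h with h | h
    · left
      have h2 : a ∣ 2 * M := by rw [hM2]; exact h
      exact (Nat.Coprime.dvd_mul_left hcop2).1 h2
    · right; right
      refine Nat.Coprime.mul_dvd_of_dvd_of_dvd hcop4 ⟨m + 1, by omega⟩ h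

end Cfsg.Agent.Helper5.S12
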