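import Mathlib
import Cfsg.Agent.Lib.Helper5.S74ExPSp

/-!
# S2512, piece S12-UNIPCASE (helper2 for helper5): the unipotent case.
-/

set_option autoImplicit false
set_option linter.style.haveILetI false

open Polynomial

namespace Cfsg.Agent.Helper5.S12

open Cfsg.Agent.Helper15
open Cfsg.Agent.Helper15.S74 hiding Mod

universe v v₁ v₂ u

/-- the involution block `-1` on a hyperbolic plane -/
theorem s12_unipcase_B2 {F : Type u} [Field F] [Fintype F] (p : ℕ) [Fact p.Prime] [CharP F p]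
    (hp2 : p ≠ 2) : S74.Mod.{0, u} F 1 2 := by
  refine (S74.s74x_modB_plus p 1 2 le_rfl ?_).mod
  obtain ⟨⟨k, hk⟩, -, -⟩ := S62.card_odd (F := F) p hp2
  rw [pow_one, hk]
  exact ⟨k, by omega⟩

/-- PIECE S12-UNIPCASE.  Import: `Cfsg.Agent.Lib.Helper5.S74ExPSp`.  An involution block:
`B2 : S74.Mod.{0, u} F 1 2 := (S74.s74x_modB_plus p 1 2 le_rfl _).mod` (`2 ∣ q - 1`, `q` odd by `S62.card_odd`).
`c = 0`: `a = 1`, `N = 2`: `S74.modN_prod 1 (n - 1) 2 1 B2 (S74.s74x_modN_pad h2 (n - 1) _)`.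
`c ≥ 1` and `p ^ (c - 1) < 2 (n - 1)`: `N = lcm 2 (p ^ c)`:
`S74.modN_prod 1 (n - 1) 2 (p ^ c) B2 (S74.modN_of_odd h2 (n - 1) (p ^ c) _ _ (huni (n - 1) c _ _))`.
Otherwise `2 n - 2 ≤ p ^ (c - 1) < 2 n` and `p ^ (c - 1)` is odd: `= 2 n - 1`; `a = p ^ k` by
`Nat.dvd_prime_pow`. -/
theorem unip_case_of {F : Type u} [Field F] [Fintype F] (p : ℕ) [Fact p.Prime] [CharP F p]
    (hp2 : p ≠ 2)
    (huni : ∀ r c : ℕ, 1 ≤ c → p ^ (c - 1) < 2 * r → S74.Mod.{u, u} F r (p ^ c))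
    (n : ℕ) (hn : 2 ≤ n) (a c : ℕ) (ha : Odd a) (hac : a ∣ p ^ c)
    (hc : c = 0 ∨ p ^ (c - 1) < 2 * n) :
    (∃ N, 2 * a ∣ N ∧ S74.ModN.{u, u} F n N) ∨ ((∃ k, a = p ^ k) ∧ ∃ j, 2 * n - 1 = p ^ j) := by
  have hp : p.Prime := Fact.out
  have hpodd : Odd p := hp.odd_of_ne_two hp2
  have h2 : (2 : F) ≠ 0 := S62.two_ne_zero_of_char p hp2
  have B2 : S74.Mod.{0, u} F 1 2 := s12_unipcase_B2 p hp2
  have hn1 : 1 + (n - 1) = n := by omega
  have hcop : Nat.Coprime 2 a := Nat.coprime_two_left.2 ha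
  by_cases hc0 : c = 0
  · -- `a = 1`, `N = 2`
    left
    subst hc0
    have ha1 : a = 1 := by simpa using hac
    subst ha1
    refine ⟨2, by norm_num, ?_⟩
    have h := S74.modN_prod 1 (n - 1) 2 1 B2 (S74.s74x_modN_pad h2 (n - 1) (by omega))
    rw [hn1] at h
    simpa using h
  · have hc1 : 1 ≤ c := Nat.one_le_iff_ne_zero.2 hc0
    have hlt : p ^ (c - 1) < 2 * n := by
      rcases hc with hc | hc
      · exact absurd hc hc0
      · exact hc
    by_cases hsmall : p ^ (c - 1) < 2 * (n - 1)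
    · left
      refine ⟨Nat.lcm 2 (p ^ c), ?_, ?_⟩
      · exact Nat.Coprime.mul_dvd_of_dvd_of_dvd hcop (Nat.dvd_lcm_left _ _)
          (hac.trans (Nat.dvd_lcm_right _ _))
      · have h := S74.modN_prod 1 (n - 1) 2 (p ^ c) B2
          (S74.modN_of_odd h2 (n - 1) (p ^ c) (by omega) hpodd.pow (huni (n - 1) c hc1 hsmall))
        rw [hn1] at h
        exact h
    · right
      refine ⟨?_, c - 1, ?_⟩
      · obtain ⟨m, -, hm⟩ := (Nat.dvd_prime_pow hp).1 hac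
        exact ⟨m, hm⟩
      · have hodd : Odd (p ^ (c - 1)) := hpodd.pow
        obtain ⟨k, hk⟩ := hodd
        omega

end Cfsg.Agent.Helper5.S12
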