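import Mathlib
import Cfsg.Agent.Lib.Helper24.S3ADefs
import Cfsg.Agent.Lib.Helper27.S3AGEO
import Cfsg.Agent.Lib.Helper15.S3AIDX1
import Cfsg.Agent.Lib.Helper15.S3AZB1
import Cfsg.Agent.Lib.Helper21.S3ACD
import Cfsg.Agent.Lib.Helper1.S3AYBASIC

/-!
# S2858 (helper22's chapter Y), piece YCOMM (helper2)

The `y`'s of two vertices at distance at most `b + 1` commute.
-/

set_option autoImplicit false
set_option linter.unusedSectionVars false
set_option linter.unusedVariables false

namespace Cfsg.Agent.Helper24.S3A

open MulAction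
open scoped commutatorElement

variable {G : Type*} [Group G] {V : Type*} [MulAction G V] {Γ : SimpleGraph V}

section YC
variable (h : Amal G Γ) {y : V → G} (hy : YData G Γ y)
include h hy

theorem YData.commute_of_dist_le (hb : 2 ≤ critDist G Γ) {m n : V} (hd : Γ.dist m n ≤ critDist G Γ + 1) :
    y m * y n = y n * y m := by
  obtain ⟨q, hq, hq0, hqk⟩ := exists_isGeo h m n
  set k := Γ.dist m n with hk
  rcases Nat.lt_or_ge k 2 with hk2 | hk2
  · rcases Nat.eq_zero_or_pos k with hk0 | hkpos
    · -- distance `0`
      have : m = n := by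
        rw [← hq0, ← hqk, hk0]
      rw [this]
    · -- distance `1`
      have hk1 : k = 1 := by omega
      have hadj : Γ.Adj m n := by
        have := hq.adj (i := 0) (by omega)
        rw [hq0] at this
        have e : q (0 + 1) = n := by rw [← hqk, hk1]
        rw [e] at this
        exact this
      have hn : y n ∈ stabilizer G m :=
        Qk_le_Gs_of_adj hadj.symm (Zv_le_Qk h n (YData.mem_Zv h hy n))
      exact (YData.comm_stab h hy hn).symm
  · -- distance at least `2`
    have ha0 : Γ.Adj (q 0) (q (0 + 1)) := hq.adj (i := 0) (by omega)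
    have ha1 : Γ.Adj (q (k - 1)) (q (k - 1 + 1)) := hq.adj (i := k - 1) (by omega)
    have e1 : k - 1 + 1 = k := by omega
    rw [e1, hqk] at ha1
    rw [hq0, zero_add] at ha0
    have hm : y m ∈ Zv G Γ (q 1) := YData.mem_Zv_of_adj h hy ha0.symm
    have hn : y n ∈ Zv G Γ (q (k - 1)) := YData.mem_Zv_of_adj h hy ha1
    have hdist : Γ.dist (q 1) (q (k - 1)) = k - 1 - 1 :=
      hq.dist_eq h (i := 1) (j := k - 1) (by omega) (by omega)
    exact comm_of_dist_lt h (by rw [hdist]; omega) hm hn

end YC

end Cfsg.Agent.Helper24.S3A
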