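import Mathlib
import Cfsg.Agent.Lib.Helper23.S61Defs

/-!
# S2861 piece S61-SQSPAN: an additive subgroup of a finite field which is stable under
multiplication by nonzero squares and is nonzero is everything.
-/

set_option autoImplicit false

namespace Cfsg.Agent.Helper23.S61

theorem s61_sqspan_sq_mem {F : Type*} [Field F] (S : AddSubgroup F)
    (hS : ∀ x ∈ S, ∀ a : F, a ≠ 0 → a ^ 2 * x ∈ S) (x : F) (hx : x ∈ S) (a : F) :
    a ^ 2 * x ∈ S := by
  by_cases ha : a = 0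
  · subst ha
    simp
  · exact hS x hx a ha

theorem s61_sqspan_mul_mem {F : Type*} [Field F] [Fintype F] (S : AddSubgroup F)
    (hS : ∀ x ∈ S, ∀ a : F, a ≠ 0 → a ^ 2 * x ∈ S) (x : F) (hx : x ∈ S) (r : F) :
    r * x ∈ S := by
  by_cases h2 : (2 : F) = 0
  · have : CharP F 2 := CharTwo.of_one_ne_zero_of_two_eq_zero one_ne_zero h2
    have hc : ringChar F = 2 := ringChar.eq F 2
    obtain ⟨a, ha⟩ := FiniteField.isSquare_of_char_two hc r
    have : r = a ^ 2 := by rw [ha, sq]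
    rw [this]
    exact s61_sqspan_sq_mem S hS x hx a
  · have hr : r = ((r + 1) / 2) ^ 2 - ((r - 1) / 2) ^ 2 := by
      field_simp
      ring
    rw [hr, sub_mul]
    exact S.sub_mem (s61_sqspan_sq_mem S hS x hx _) (s61_sqspan_sq_mem S hS x hx _)

/-- PIECE S61-SQSPAN -/
theorem sq_span {F : Type*} [Field F] [Fintype F] (S : AddSubgroup F)
    (hS : ∀ x ∈ S, ∀ a : F, a ≠ 0 → a ^ 2 * x ∈ S) (hne : S ≠ ⊥) : S = ⊤ := by
  obtain ⟨⟨x, hx⟩, hx0'⟩ := (AddSubgroup.ne_bot_iff_exists_ne_zero).mp hne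
  have hx0 : x ≠ 0 := fun h => hx0' (Subtype.ext h)
  rw [eq_top_iff]
  intro y _
  have hy : y = (y / x) * x := by
    field_simp
  rw [hy]
  exact s61_sqspan_mul_mem S hS x hx _

end Cfsg.Agent.Helper23.S61
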