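import Mathlib
import Cfsg.Agent.Lib.Helper23.S63Defs

/-!
# S2863 piece S63-CTXCONJ: `Cc` and `Ctx` are invariant under conjugating `Y` by an element of `L`.
-/

set_option autoImplicit false
set_option linter.unusedVariables false

namespace Cfsg.Agent.Helper23.S63

open Cfsg
open scoped Pointwise

theorem s63_ctxconj_mem {G : Type*} [Group G] (Y : Subgroup G) (g x : G) :
    x ∈ (MulAut.conj g • Y : Subgroup G) ↔ g⁻¹ * x * g ∈ Y := by
  rw [Subgroup.mem_pointwise_smul_iff_inv_smul_mem, MulAut.smul_def, MulAut.conj_inv_apply]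

theorem s63_ctxconj_conj_mem {G : Type*} [Group G] (Y : Subgroup G) (g y : G) (hy : y ∈ Y) :
    g * y * g⁻¹ ∈ (MulAut.conj g • Y : Subgroup G) := by
  rw [s63_ctxconj_mem]
  have e : g⁻¹ * (g * y * g⁻¹) * g = y := by group
  rw [e]
  exact hy

theorem s63_ctxconj_normalizer {G : Type*} [Group G] (Y : Subgroup G) (g x : G) :
    x ∈ Subgroup.normalizer ((MulAut.conj g • Y : Subgroup G) : Set G) ↔
      g⁻¹ * x * g ∈ Subgroup.normalizer (Y : Set G) := by
  rw [Subgroup.mem_normalizer_iff, Subgroup.mem_normalizer_iff]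
  constructor
  · intro h y
    have h1 := h (g * y * g⁻¹)
    rw [s63_ctxconj_mem, s63_ctxconj_mem] at h1
    have e1 : g⁻¹ * (g * y * g⁻¹) * g = y := by group
    have e2 : g⁻¹ * (x * (g * y * g⁻¹) * x⁻¹) * g = g⁻¹ * x * g * y * (g⁻¹ * x * g)⁻¹ := by group
    rw [e1, e2] at h1
    exact h1
  · intro h y
    rw [s63_ctxconj_mem, s63_ctxconj_mem]
    have h1 := h (g⁻¹ * y * g)
    have e2 : g⁻¹ * x * g * (g⁻¹ * y * g) * (g⁻¹ * x * g)⁻¹ = g⁻¹ * (x * y * x⁻¹) * g := by group
    rw [e2] at h1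
    exact h1

/-- PIECE S63-CTXCONJ (two statements) -/
theorem cc_conj {G : Type*} [Group G] (L Y : Subgroup G) (g : G) (hg : g ∈ L) :
    Cc L (MulAut.conj g • Y) = Cc L Y := by
  ext x
  unfold Cc
  rw [Subgroup.mem_inf, Subgroup.mem_inf]
  constructor
  · rintro ⟨h1, h2⟩
    refine ⟨?_, h2⟩
    rw [s63_ctxconj_mem] at h1
    have hc : g * x = x * g := (Subgroup.mem_centralizer_iff.1 h2) g hg
    have e : g⁻¹ * x * g = x := by
      rw [mul_assoc, ← hc]
      group
    rw [e] at h1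
    exact h1
  · rintro ⟨h1, h2⟩
    refine ⟨?_, h2⟩
    rw [s63_ctxconj_mem]
    have hc : g * x = x * g := (Subgroup.mem_centralizer_iff.1 h2) g hg
    have e : g⁻¹ * x * g = x := by
      rw [mul_assoc, ← hc]
      group
    rw [e]
    exact h1

theorem ctx_conj {G : Type*} [Group G] {L Y A : Subgroup G} (h : Ctx L Y A) (g : G) (hg : g ∈ L) :
    Ctx L (MulAut.conj g • Y) A := by
  have hgi : g⁻¹ ∈ L := L.inv_mem hg
  refine ⟨?_, ?_, h.AL, h.Anorm, ?_, ?_, ?_, ?_, ?_, ?_⟩
  · -- YL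
    intro x hx
    rw [s63_ctxconj_mem] at hx
    have e : x = g * (g⁻¹ * x * g) * g⁻¹ := by group
    rw [e]
    exact L.mul_mem (L.mul_mem hg (h.YL hx)) hgi
  · -- Ycomm
    intro a ha b hb
    rw [s63_ctxconj_mem] at ha hb
    have hc := h.Ycomm _ ha _ hb
    have e1 : a * b = g * ((g⁻¹ * a * g) * (g⁻¹ * b * g)) * g⁻¹ := by group
    have e2 : b * a = g * ((g⁻¹ * b * g) * (g⁻¹ * a * g)) * g⁻¹ := by group
    rw [e1, e2, hc]
  · -- AY
    intro a ha y hy
    rw [s63_ctxconj_mem] at hy ⊢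
    have ha' : g⁻¹ * a * g ∈ A := by
      have := h.Anorm g⁻¹ hgi a ha
      rw [inv_inv] at this
      exact this
    have := h.AY _ ha' _ hy
    have e : g⁻¹ * (a * y * a⁻¹) * g = g⁻¹ * a * g * (g⁻¹ * y * g) * (g⁻¹ * a * g)⁻¹ := by group
    rw [e]
    exact this
  · -- Agen
    intro W hW hinvW
    apply h.Agen W ?_ hinvW
    intro x hx
    have hx1 : g * x * g⁻¹ ∈ (MulAut.conj g • Y : Subgroup G) ⊓ A :=
      ⟨s63_ctxconj_conj_mem Y g x hx.1, h.Anorm g hg x hx.2⟩
    have hx2 := hinvW g⁻¹ hgi _ (hW hx1)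
    have e : g⁻¹ * (g * x * g⁻¹) * g⁻¹⁻¹ = x := by group
    rw [e] at hx2
    exact hx2
  · -- max
    intro X hYX hXL hXne
    have hX0 : X.comap (MulAut.conj g).toMonoidHom ≤ Subgroup.normalizer (Y : Set G) := by
      apply h.max
      · intro y hy
        rw [Subgroup.mem_comap]
        exact hYX (s63_ctxconj_conj_mem Y g y hy)
      · intro x hx
        rw [Subgroup.mem_comap] at hx
        have hx' : g * x * g⁻¹ ∈ L := hXL hx
        have e : x = g⁻¹ * (g * x * g⁻¹) * g := by group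
        rw [e]
        exact L.mul_mem (L.mul_mem hgi hx') hg
      · intro heq
        apply hXne
        apply le_antisymm hXL
        intro x hx
        have hx' : g⁻¹ * x * g ∈ X.comap (MulAut.conj g).toMonoidHom := by
          rw [heq]
          exact L.mul_mem (L.mul_mem hgi hx) hg
        rw [Subgroup.mem_comap] at hx'
        have e : (MulAut.conj g).toMonoidHom (g⁻¹ * x * g) = x := by
          show g * (g⁻¹ * x * g) * g⁻¹ = x
          group
        rw [e] at hx'
        exact hx'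
    intro x hx
    rw [s63_ctxconj_normalizer]
    apply hX0
    rw [Subgroup.mem_comap]
    have e : (MulAut.conj g).toMonoidHom (g⁻¹ * x * g) = x := by
      show g * (g⁻¹ * x * g) * g⁻¹ = x
      group
    rw [e]
    exact hx
  · -- Nlt
    intro hL
    apply h.Nlt
    intro x hx
    have h1 : g * x * g⁻¹ ∈ Subgroup.normalizer ((MulAut.conj g • Y : Subgroup G) : Set G) :=
      hL (L.mul_mem (L.mul_mem hg hx) hgi)
    rw [s63_ctxconj_normalizer] at h1
    have e : g⁻¹ * (g * x * g⁻¹) * g = x := by group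
    rw [e] at h1
    exact h1
  · -- ncl
    intro W hW hinvW
    apply h.ncl W ?_ hinvW
    intro y hy
    have h1 := hinvW g⁻¹ hgi _ (hW (s63_ctxconj_conj_mem Y g y hy))
    have e : g⁻¹ * (g * y * g⁻¹) * g⁻¹⁻¹ = y := by group
    rw [e] at h1
    exact h1
  · -- CA
    have h1 : Cc L (MulAut.conj g • Y) = Cc L Y := cc_conj L Y g hg
    have h2 : Cc L Y ≤ A := h.CA
    rw [← h1] at h2
    exact h2

end Cfsg.Agent.Helper23.S63
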