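import Mathlib
import Cfsg.Agent.Lib.Helper23.S63Defs

set_option autoImplicit false
set_option linter.unusedVariables false
set_option linter.unusedSimpArgs false

namespace Cfsg.Agent.Helper23.S63

open Cfsg
open scoped Pointwise

/-- conjugation by an explicit matrix of determinant one -/
theorem s63_sl2conj_aux {F : Type*} [Field F] (x : Matrix.SpecialLinearGroup (Fin 2) F)
    (α β γ δ a b : F) (hdet : α * δ - β * γ = 1) (ha : a ≠ 0) (hb : b ≠ 0)
    (h00 : δ * ((x : Matrix (Fin 2) (Fin 2) F) 0 0 * α + (x : Matrix (Fin 2) (Fin 2) F) 0 1 * γ) -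
      β * ((x : Matrix (Fin 2) (Fin 2) F) 1 0 * α + (x : Matrix (Fin 2) (Fin 2) F) 1 1 * γ) = 1 + a * b)
    (h01 : δ * ((x : Matrix (Fin 2) (Fin 2) F) 0 0 * β + (x : Matrix (Fin 2) (Fin 2) F) 0 1 * δ) -
      β * ((x : Matrix (Fin 2) (Fin 2) F) 1 0 * β + (x : Matrix (Fin 2) (Fin 2) F) 1 1 * δ) = a)
    (h10 : -γ * ((x : Matrix (Fin 2) (Fin 2) F) 0 0 * α + (x : Matrix (Fin 2) (Fin 2) F) 0 1 * γ) +
      α * ((x : Matrix (Fin 2) (Fin 2) F) 1 0 * α + (x : Matrix (Fin 2) (Fin 2) F) 1 1 * γ) = b)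
    (h11 : -γ * ((x : Matrix (Fin 2) (Fin 2) F) 0 0 * β + (x : Matrix (Fin 2) (Fin 2) F) 0 1 * δ) +
      α * ((x : Matrix (Fin 2) (Fin 2) F) 1 0 * β + (x : Matrix (Fin 2) (Fin 2) F) 1 1 * δ) = 1) :
    ∃ (c : Matrix.SpecialLinearGroup (Fin 2) F) (a b : F), a ≠ 0 ∧ b ≠ 0 ∧
      ((c * x * c⁻¹ : Matrix.SpecialLinearGroup (Fin 2) F) : Matrix (Fin 2) (Fin 2) F) =
        !![1 + a * b, a; b, 1] := by
  let P : Matrix.SpecialLinearGroup (Fin 2) F := ⟨!![α, β; γ, δ], by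
    rw [Matrix.det_fin_two_of]; exact hdet⟩
  refine ⟨P⁻¹, a, b, ha, hb, ?_⟩
  rw [inv_inv, Matrix.SpecialLinearGroup.coe_mul, Matrix.SpecialLinearGroup.coe_mul,
    Matrix.SpecialLinearGroup.coe_inv]
  have hP : (P : Matrix (Fin 2) (Fin 2) F) = !![α, β; γ, δ] := rfl
  rw [hP, Matrix.adjugate_fin_two_of]
  have hx : (x : Matrix (Fin 2) (Fin 2) F) =
      !![(x : Matrix (Fin 2) (Fin 2) F) 0 0, (x : Matrix (Fin 2) (Fin 2) F) 0 1;
        (x : Matrix (Fin 2) (Fin 2) F) 1 0, (x : Matrix (Fin 2) (Fin 2) F) 1 1] :=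
    Matrix.eta_fin_two _
  rw [hx]
  simp only [Matrix.mul_fin_two]
  ext i j
  fin_cases i <;> fin_cases j
  · simp only [Matrix.of_apply, Matrix.cons_val', Matrix.cons_val_zero, Matrix.cons_val_one,
      Matrix.empty_val', Matrix.cons_val_fin_one, Fin.zero_eta, Fin.mk_one]
    linear_combination h00
  · simp only [Matrix.of_apply, Matrix.cons_val', Matrix.cons_val_zero, Matrix.cons_val_one,
      Matrix.empty_val', Matrix.cons_val_fin_one, Fin.zero_eta, Fin.mk_one]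
    linear_combination h01
  · simp only [Matrix.of_apply, Matrix.cons_val', Matrix.cons_val_zero, Matrix.cons_val_one,
      Matrix.empty_val', Matrix.cons_val_fin_one, Fin.zero_eta, Fin.mk_one]
    linear_combination h10
  · simp only [Matrix.of_apply, Matrix.cons_val', Matrix.cons_val_zero, Matrix.cons_val_one,
      Matrix.empty_val', Matrix.cons_val_fin_one, Fin.zero_eta, Fin.mk_one]
    linear_combination h11

theorem sl2_conj_prod {F : Type*} [Field F] (x : Matrix.SpecialLinearGroup (Fin 2) F)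
    (hns : ¬ ((x : Matrix (Fin 2) (Fin 2) F) 0 1 = 0 ∧ (x : Matrix (Fin 2) (Fin 2) F) 1 0 = 0 ∧
      (x : Matrix (Fin 2) (Fin 2) F) 0 0 = (x : Matrix (Fin 2) (Fin 2) F) 1 1))
    (htr : (x : Matrix (Fin 2) (Fin 2) F).trace ≠ 2) :
    ∃ (c : Matrix.SpecialLinearGroup (Fin 2) F) (a b : F), a ≠ 0 ∧ b ≠ 0 ∧
      ((c * x * c⁻¹ : Matrix.SpecialLinearGroup (Fin 2) F) : Matrix (Fin 2) (Fin 2) F) =
        !![1 + a * b, a; b, 1] := by
  have hdet : (x : Matrix (Fin 2) (Fin 2) F) 0 0 * (x : Matrix (Fin 2) (Fin 2) F) 1 1 -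
      (x : Matrix (Fin 2) (Fin 2) F) 0 1 * (x : Matrix (Fin 2) (Fin 2) F) 1 0 = 1 := by
    have h := x.det_coe
    rw [Matrix.det_fin_two] at h
    exact h
  rw [Matrix.trace_fin_two] at htr
  set p := (x : Matrix (Fin 2) (Fin 2) F) 0 0 with hp
  set q := (x : Matrix (Fin 2) (Fin 2) F) 0 1 with hq
  set r := (x : Matrix (Fin 2) (Fin 2) F) 1 0 with hr
  set s := (x : Matrix (Fin 2) (Fin 2) F) 1 1 with hs
  have hτ : p + s - 2 ≠ 0 := fun h => htr (by linear_combination h)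
  by_cases hq0 : q = 0
  · by_cases hr0 : r = 0
    · -- diagonal non-scalar
      have hps : p - s ≠ 0 := fun h => hns ⟨hq0, hr0, by linear_combination h⟩
      have hps1 : p * s = 1 := by rw [hq0] at hdet; linear_combination hdet
      refine s63_sl2conj_aux x ((p - 1) / (p - s)) 1 ((s - 1) / (p - s)) 1 (p - s)
        ((p + s - 2) / (p - s)) ?_ hps (div_ne_zero hτ hps) ?_ ?_ ?_ ?_
      · field_simp; ring
      · rw [← hp, ← hq, ← hr, ← hs, hq0, hr0]; field_simp; ring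
      · rw [← hp, ← hq, ← hr, ← hs, hq0, hr0]; field_simp; ring
      · rw [← hp, ← hq, ← hr, ← hs, hq0, hr0]; field_simp; linear_combination (-(p - s)) * hps1
      · rw [← hp, ← hq, ← hr, ← hs, hq0, hr0]; field_simp; ring
    · have hps1 : p * s = 1 := by rw [hq0] at hdet; linear_combination hdet
      refine s63_sl2conj_aux x (-(p - 1) / r) 1 (-1) 0 (-r)
        (-(p + s - 2) / r) ?_ (neg_ne_zero.mpr hr0) (div_ne_zero (neg_ne_zero.mpr hτ) hr0) ?_ ?_ ?_ ?_
      · ring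
      · rw [← hp, ← hq, ← hr, ← hs, hq0]; field_simp; ring
      · rw [← hp, ← hq, ← hr, ← hs, hq0]; ring
      · rw [← hp, ← hq, ← hr, ← hs, hq0]; field_simp; linear_combination (1 : F) * hps1
      · rw [← hp, ← hq, ← hr, ← hs, hq0]; field_simp; ring
  · refine s63_sl2conj_aux x 1 0 ((s - 1) / q) 1 q
      ((p + s - 2) / q) ?_ hq0 (div_ne_zero hτ hq0) ?_ ?_ ?_ ?_
    · ring
    · rw [← hp, ← hq, ← hr, ← hs]; field_simp; ring
    · rw [← hp, ← hq, ← hr, ← hs]; ring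
    · rw [← hp, ← hq, ← hr, ← hs]; field_simp; linear_combination (-1 : F) * hdet
    · rw [← hp, ← hq, ← hr, ← hs]; field_simp; ring

end Cfsg.Agent.Helper23.S63
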