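import Mathlib
import Cfsg.Prelude.Def_Transfer
import Cfsg.Agent.Lib.Helper20.SchDefs
import Cfsg.Agent.Lib.Helper22.SchPLDefs

/-!
PIECE SCH-EVEN (S4395 farm-out, helper20): the bound for an alternating biadditive form on a finite field with
adjoint `x ↦ x ^ p ^ (a/2)`.
-/

set_option autoImplicit false
set_option linter.unusedSectionVars false
set_option linter.unusedVariables false

namespace Cfsg.Agent.Helper20.Sch

open Cfsg.Agent.Helper22.SchPL (SchAct)

universe u

variable {p q : ℕ} [Fact p.Prime] [Fact q.Prime]

section field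

variable {a : ℕ} (F : Type*) [Field F] [Finite F]

variable {F}

/-- the number of values of `x ↦ x ^ (m + 1)` on a finite field with `m * m` elements is at least `m`. -/
theorem sch_even_card_image (m : ℕ) (hm : 0 < m) (hF : Nat.card F = m * m) [Fintype F] [DecidableEq F] :
    m ≤ (Finset.univ.image fun x : F => x ^ (m + 1)).card := by
  have h1 : (Finset.univ : Finset F).card ≤
      (m + 1) * (Finset.univ.image fun x : F => x ^ (m + 1)).card := by
    apply Finset.card_le_mul_card_image
    intro c _
    have hsub : (Finset.univ.filter fun x : F => x ^ (m + 1) = c) ⊆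
        (Polynomial.nthRoots (m + 1) c).toFinset := by
      intro x hx
      rw [Finset.mem_filter] at hx
      rw [Multiset.mem_toFinset, Polynomial.mem_nthRoots (Nat.succ_pos m)]
      exact hx.2
    calc (Finset.univ.filter fun x : F => x ^ (m + 1) = c).card
        ≤ (Polynomial.nthRoots (m + 1) c).toFinset.card := Finset.card_le_card hsub
      _ ≤ Multiset.card (Polynomial.nthRoots (m + 1) c) := Multiset.toFinset_card_le _
      _ ≤ m + 1 := Polynomial.card_nthRoots _ _
  rw [Finset.card_univ, ← Nat.card_eq_fintype_card, hF] at h1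
  by_contra hlt
  push Not at hlt
  have h2 : (Finset.univ.image fun x : F => x ^ (m + 1)).card + 1 ≤ m := hlt
  have h3 : (m + 1) * (Finset.univ.image fun x : F => x ^ (m + 1)).card ≤ (m + 1) * (m - 1) :=
    Nat.mul_le_mul_left _ (by omega)
  have h4 : (m + 1) * (m - 1) < m * m := by
    obtain ⟨k, rfl⟩ : ∃ k, m = k + 1 := ⟨m - 1, by omega⟩
    simp only [Nat.add_sub_cancel]
    nlinarith
  omega

/-- SCH-EVEN : the bound for an alternating form with adjoint `x ↦ x ^ p ^ (a/2)`. -/
theorem form_bound_even (hF : Nat.card F = p ^ a) (hae : a % 2 = 0)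
    {C : Type*} [AddCommGroup C] (B : F →+ F →+ C) (halt : ∀ x, B x x = 0)
    (hadj : ∀ c x x', B (c * x) x' = B x (c ^ p ^ (a / 2) * x')) :
    Nat.card (AddSubgroup.closure (Set.range fun z : F × F => B z.1 z.2)) ≤ p ^ (a / 2) := by
  classical
  have : Fintype F := Fintype.ofFinite F
  set h := a / 2 with hh
  set m := p ^ h with hm
  have hmpos : 0 < m := pos_of_ne_zero (pow_ne_zero _ (Fact.out : p.Prime).ne_zero)
  have ha2 : a = h + h := by omega
  have hFm : Nat.card F = m * m := by rw [hF, ha2, pow_add]
  set g : F →+ C := B 1 with hg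
  have hBg : ∀ x x', B x x' = g (x ^ m * x') := by
    intro x x'
    have := hadj x 1 x'
    rwa [mul_one] at this
  -- the closure of the values lies in the range of `g`
  have hle : AddSubgroup.closure (Set.range fun z : F × F => B z.1 z.2) ≤ g.range := by
    rw [AddSubgroup.closure_le]
    rintro _ ⟨z, rfl⟩
    exact ⟨z.1 ^ m * z.2, (hBg z.1 z.2).symm⟩
  have hfin : Finite g.range := (Set.finite_range g).to_subtype
  have h1 : Nat.card (AddSubgroup.closure (Set.range fun z : F × F => B z.1 z.2)) ≤ Nat.card g.range :=
    AddSubgroup.card_le_of_le hle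
  -- the kernel of `g` is large
  have hker : m ≤ Nat.card g.ker := by
    have hS := sch_even_card_image (F := F) m hmpos hFm
    have hsub : ((Finset.univ.image fun x : F => x ^ (m + 1) : Finset F) : Set F) ⊆ (g.ker : Set F) := by
      intro y hy
      rw [Finset.mem_coe, Finset.mem_image] at hy
      obtain ⟨x, _, rfl⟩ := hy
      rw [SetLike.mem_coe, AddMonoidHom.mem_ker, pow_succ, ← hBg]
      exact halt x
    have h2 := Set.ncard_le_ncard hsub (Set.toFinite _)
    rw [Set.ncard_coe_finset, ← Nat.card_coe_set_eq] at h2
    exact le_trans hS h2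
  -- `|ker g| * |range g| = |F|`
  have hmul : Nat.card g.ker * Nat.card g.range = m * m := by
    rw [← AddSubgroup.index_ker, AddSubgroup.card_mul_index, hFm]
  by_contra hlt
  push Not at hlt
  have h3 : m < Nat.card g.range := lt_of_lt_of_le hlt h1
  have h4 : m * m < Nat.card g.ker * Nat.card g.range :=
    Nat.mul_lt_mul_of_le_of_lt hker h3 (lt_of_lt_of_le hmpos hker)
  omega

end field

end Cfsg.Agent.Helper20.Sch
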