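import Mathlib
import Cfsg.Prelude.Def_ChevB2
import Cfsg.Agent.Lib.Helper6.StCover
import Cfsg.Agent.Lib.Helper6.OrthB2

/-!
The root elements of the symplectic group `Sp₄(F)` attached to the roots of `B₂`, given by their action on
coordinate vectors, with Steinberg's relations (R1), (R2), (R3) in the numbering and with the structure constants of
`chevB2`.
-/

set_option autoImplicit false
set_option linter.unusedSectionVars false
set_option linter.unusedVariables false

namespace Cfsg.Agent.Helper2.SpB2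

open Matrix Cfsg Cfsg.Lie Cfsg.Agent.Helper6.StC

variable {F : Type*} [Field F]

/-- the index type of the four-dimensional space -/
abbrev I4 : Type := Fin 2 ⊕ Fin 2

/-- the vector with coordinates `a, b` (at `inl 0, inl 1`), `c, d` (at `inr 0, inr 1`) -/
def mk4 (a b c d : F) : I4 → F := Sum.elim ![a, b] ![c, d]

@[simp] theorem mk4_a (a b c d : F) : mk4 a b c d (Sum.inl 0) = a := rfl
@[simp] theorem mk4_b (a b c d : F) : mk4 a b c d (Sum.inl 1) = b := rfl
@[simp] theorem mk4_c (a b c d : F) : mk4 a b c d (Sum.inr 0) = c := rfl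
@[simp] theorem mk4_d (a b c d : F) : mk4 a b c d (Sum.inr 1) = d := rfl

theorem funext4 {α : Type*} {f g : I4 → α} (h0 : f (Sum.inl 0) = g (Sum.inl 0))
    (h1 : f (Sum.inl 1) = g (Sum.inl 1)) (h2 : f (Sum.inr 0) = g (Sum.inr 0))
    (h3 : f (Sum.inr 1) = g (Sum.inr 1)) : f = g := by
  funext x
  rcases x with x | x
  · fin_cases x
    · exact h0
    · exact h1
  · fin_cases x
    · exact h2
    · exact h3

theorem mk4_eta (v : I4 → F) :
    mk4 (v (Sum.inl 0)) (v (Sum.inl 1)) (v (Sum.inr 0)) (v (Sum.inr 1)) = v := by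
  apply funext4 <;> rfl

theorem exists_mk4 (v : I4 → F) : ∃ a b c d : F, v = mk4 a b c d :=
  ⟨_, _, _, _, (mk4_eta v).symm⟩

theorem mk4_congr {a b c d a' b' c' d' : F} (h0 : a = a') (h1 : b = b') (h2 : c = c') (h3 : d = d') :
    mk4 a b c d = mk4 a' b' c' d' := by
  rw [h0, h1, h2, h3]

theorem mk4_inj {a b c d a' b' c' d' : F} (h : mk4 a b c d = mk4 a' b' c' d') :
    a = a' ∧ b = b' ∧ c = c' ∧ d = d' :=
  ⟨congrFun h (Sum.inl 0), congrFun h (Sum.inl 1), congrFun h (Sum.inr 0), congrFun h (Sum.inr 1)⟩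

theorem mk4_add (a b c d a' b' c' d' : F) :
    mk4 a b c d + mk4 a' b' c' d' = mk4 (a + a') (b + b') (c + c') (d + d') := by
  apply funext4 <;> rfl

theorem mk4_smul (k a b c d : F) : k • mk4 a b c d = mk4 (k * a) (k * b) (k * c) (k * d) := by
  apply funext4 <;> rfl

/-- the action of the root element `x_r(t)` in coordinates -/
def xc (r : ℕ) (t a b c d : F) : I4 → F :=
  match r with
  | 0 => mk4 a b (c + t * a) d
  | 1 => mk4 a b (c + t * b) (d + t * a)
  | 2 => mk4 a (b + t * a) (c - t * d) d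
  | 3 => mk4 a b c (d - t * b)
  | 4 => mk4 a (b - t * d) c d
  | 5 => mk4 (a + t * b) b c (d - t * c)
  | 6 => mk4 (a + t * d) (b + t * c) c d
  | 7 => mk4 (a + t * c) b c d
  | _ => mk4 a b c d

/-- the action of the root element `x_r(t)` on vectors -/
def xf (r : ℕ) (t : F) (v : I4 → F) : I4 → F :=
  xc r t (v (Sum.inl 0)) (v (Sum.inl 1)) (v (Sum.inr 0)) (v (Sum.inr 1))

theorem xf_mk4 (r : ℕ) (t a b c d : F) : xf r t (mk4 a b c d) = xc r t a b c d := rfl

theorem xf_0 (t a b c d : F) : xf 0 t (mk4 a b c d) = mk4 a b (c + t * a) d := rfl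
theorem xf_1 (t a b c d : F) : xf 1 t (mk4 a b c d) = mk4 a b (c + t * b) (d + t * a) := rfl
theorem xf_2 (t a b c d : F) : xf 2 t (mk4 a b c d) = mk4 a (b + t * a) (c - t * d) d := rfl
theorem xf_3 (t a b c d : F) : xf 3 t (mk4 a b c d) = mk4 a b c (d - t * b) := rfl
theorem xf_4 (t a b c d : F) : xf 4 t (mk4 a b c d) = mk4 a (b - t * d) c d := rfl
theorem xf_5 (t a b c d : F) : xf 5 t (mk4 a b c d) = mk4 (a + t * b) b c (d - t * c) := rfl
theorem xf_6 (t a b c d : F) : xf 6 t (mk4 a b c d) = mk4 (a + t * d) (b + t * c) c d := rfl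
theorem xf_7 (t a b c d : F) : xf 7 t (mk4 a b c d) = mk4 (a + t * c) b c d := rfl

theorem xf_of_ge (r : ℕ) (hr : ¬ r < 8) (t : F) (v : I4 → F) : xf r t v = v := by
  obtain ⟨a, b, c, d, rfl⟩ := exists_mk4 v
  rw [xf_mk4]
  unfold xc
  split <;> first | (exfalso; omega) | rfl

/-- the root elements are additive in the parameter -/
theorem xf_add (r : ℕ) (t u : F) (v : I4 → F) : xf r t (xf r u v) = xf r (t + u) v := by
  obtain ⟨a, b, c, d, rfl⟩ := exists_mk4 v
  by_cases hr : r < 8
  · interval_cases r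
    · simp only [xf_0]; apply mk4_congr <;> ring
    · simp only [xf_1]; apply mk4_congr <;> ring
    · simp only [xf_2]; apply mk4_congr <;> ring
    · simp only [xf_3]; apply mk4_congr <;> ring
    · simp only [xf_4]; apply mk4_congr <;> ring
    · simp only [xf_5]; apply mk4_congr <;> ring
    · simp only [xf_6]; apply mk4_congr <;> ring
    · simp only [xf_7]; apply mk4_congr <;> ring
  · rw [xf_of_ge r hr, xf_of_ge r hr, xf_of_ge r hr]

theorem xf_zero (r : ℕ) (v : I4 → F) : xf r 0 v = v := by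
  obtain ⟨a, b, c, d, rfl⟩ := exists_mk4 v
  by_cases hr : r < 8
  · interval_cases r
    · simp only [xf_0]; apply mk4_congr <;> ring
    · simp only [xf_1]; apply mk4_congr <;> ring
    · simp only [xf_2]; apply mk4_congr <;> ring
    · simp only [xf_3]; apply mk4_congr <;> ring
    · simp only [xf_4]; apply mk4_congr <;> ring
    · simp only [xf_5]; apply mk4_congr <;> ring
    · simp only [xf_6]; apply mk4_congr <;> ring
    · simp only [xf_7]; apply mk4_congr <;> ring
  · rw [xf_of_ge r hr]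

/-- the root elements are linear -/
theorem xf_lin (r : ℕ) (t : F) (k l : F) (v w : I4 → F) :
    xf r t (k • v + l • w) = k • xf r t v + l • xf r t w := by
  obtain ⟨a, b, c, d, rfl⟩ := exists_mk4 v
  obtain ⟨a', b', c', d', rfl⟩ := exists_mk4 w
  by_cases hr : r < 8
  · interval_cases r
    · simp only [xf_0, mk4_smul, mk4_add]; apply mk4_congr <;> ring
    · simp only [xf_1, mk4_smul, mk4_add]; apply mk4_congr <;> ring
    · simp only [xf_2, mk4_smul, mk4_add]; apply mk4_congr <;> ring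
    · simp only [xf_3, mk4_smul, mk4_add]; apply mk4_congr <;> ring
    · simp only [xf_4, mk4_smul, mk4_add]; apply mk4_congr <;> ring
    · simp only [xf_5, mk4_smul, mk4_add]; apply mk4_congr <;> ring
    · simp only [xf_6, mk4_smul, mk4_add]; apply mk4_congr <;> ring
    · simp only [xf_7, mk4_smul, mk4_add]; apply mk4_congr <;> ring
  · rw [xf_of_ge r hr, xf_of_ge r hr, xf_of_ge r hr]

/-- two matrices with the same action on vectors are equal -/
theorem mat_ext {M N : Matrix I4 I4 F} (h : ∀ v, M *ᵥ v = N *ᵥ v) : M = N :=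
  Matrix.toLin'.injective (LinearMap.ext fun v => by
    rw [Matrix.toLin'_apply, Matrix.toLin'_apply]
    exact h v)

/-- the root element as a linear map -/
def xL (r : ℕ) (t : F) : (I4 → F) →ₗ[F] (I4 → F) where
  toFun := xf r t
  map_add' := fun v w => by
    have := xf_lin r t 1 1 v w
    rwa [one_smul, one_smul, one_smul, one_smul] at this
  map_smul' := fun a v => by
    have := xf_lin r t a 0 v 0
    rw [zero_smul, zero_smul, add_zero, add_zero] at this
    exact this

/-- the matrix of the root element -/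
def xMat (r : ℕ) (t : F) : Matrix I4 I4 F := LinearMap.toMatrix' (xL r t)

theorem xMat_mulVec (r : ℕ) (t : F) (v : I4 → F) : xMat r t *ᵥ v = xf r t v := by
  unfold xMat
  rw [← Matrix.toLin'_apply, Matrix.toLin'_toMatrix']
  rfl

theorem xMat_mul (r : ℕ) (t u : F) : xMat r t * xMat r u = xMat r (t + u) := by
  apply mat_ext
  intro v
  rw [← mulVec_mulVec, xMat_mulVec, xMat_mulVec, xMat_mulVec, xf_add]

theorem xMat_zero (r : ℕ) : xMat r (0 : F) = 1 := by
  apply mat_ext
  intro v
  rw [xMat_mulVec, xf_zero, one_mulVec]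

theorem xMat_of_ge (r : ℕ) (hr : ¬ r < 8) (t : F) : xMat r t = 1 := by
  apply mat_ext
  intro v
  rw [xMat_mulVec, xf_of_ge r hr, one_mulVec]

/-- the symplectic form in coordinates -/
theorem J_mulVec_mk4 (a b c d : F) : J (Fin 2) F *ᵥ mk4 a b c d = mk4 (-c) (-d) a b := by
  apply funext4 <;>
    simp [J, Matrix.mulVec, dotProduct, Fintype.sum_sum_type, Matrix.one_apply]

theorem dot_mk4 (a b c d a' b' c' d' : F) :
    mk4 a b c d ⬝ᵥ mk4 a' b' c' d' = a * a' + b * b' + c * c' + d * d' := by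
  simp [dotProduct, Fintype.sum_sum_type, Fin.sum_univ_two]
  ring

/-- the root elements preserve the symplectic form -/
theorem omega_xf (r : ℕ) (t : F) (v w : I4 → F) :
    xf r t v ⬝ᵥ (J (Fin 2) F *ᵥ xf r t w) = v ⬝ᵥ (J (Fin 2) F *ᵥ w) := by
  obtain ⟨a, b, c, d, rfl⟩ := exists_mk4 v
  obtain ⟨a', b', c', d', rfl⟩ := exists_mk4 w
  by_cases hr : r < 8
  · interval_cases r
    · simp only [xf_0, J_mulVec_mk4, dot_mk4]; ring
    · simp only [xf_1, J_mulVec_mk4, dot_mk4]; ring
    · simp only [xf_2, J_mulVec_mk4, dot_mk4]; ring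
    · simp only [xf_3, J_mulVec_mk4, dot_mk4]; ring
    · simp only [xf_4, J_mulVec_mk4, dot_mk4]; ring
    · simp only [xf_5, J_mulVec_mk4, dot_mk4]; ring
    · simp only [xf_6, J_mulVec_mk4, dot_mk4]; ring
    · simp only [xf_7, J_mulVec_mk4, dot_mk4]; ring
  · rw [xf_of_ge r hr, xf_of_ge r hr]

theorem mat_ext2 {M N : Matrix I4 I4 F} (h : ∀ v w, v ⬝ᵥ (M *ᵥ w) = v ⬝ᵥ (N *ᵥ w)) : M = N := by
  apply mat_ext
  intro w
  funext i
  have := h (Pi.single i 1) w
  rwa [single_one_dotProduct, single_one_dotProduct] at this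

theorem xMat_mem (r : ℕ) (t : F) : xMat r t ∈ symplecticGroup (Fin 2) F := by
  rw [SymplecticGroup.mem_iff']
  apply mat_ext2
  intro v w
  rw [← mulVec_mulVec, ← mulVec_mulVec, dotProduct_mulVec, vecMul_transpose, xMat_mulVec, xMat_mulVec,
    omega_xf]

end Cfsg.Agent.Helper2.SpB2
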