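import Mathlib
import Cfsg.Agent.Lib.Helper2.SpB2A
import Cfsg.Agent.Lib.Helper6.StTorus

/-!
The root elements of `Sp₄(F)` as elements of Mathlib's symplectic group: Steinberg's relations (R1), (R2), (R3) for
`chevB2`.
-/

set_option autoImplicit false
set_option linter.unusedSectionVars false
set_option linter.unusedVariables false

namespace Cfsg.Agent.Helper2.SpB2

open Matrix Cfsg Cfsg.Lie Cfsg.Agent.Helper6.StC Cfsg.Agent.Helper6.OrthB2

variable {F : Type*} [Field F]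

/-- the root elements of the symplectic group -/
def xS (r : ℕ) (t : F) : symplecticGroup (Fin 2) F := ⟨xMat r t, xMat_mem r t⟩

theorem xS_val (r : ℕ) (t : F) : (xS r t : symplecticGroup (Fin 2) F).1 = xMat r t := rfl

theorem xS_mulVec (r : ℕ) (t : F) (v : I4 → F) : (xS r t : symplecticGroup (Fin 2) F).1 *ᵥ v = xf r t v :=
  xMat_mulVec r t v

theorem sp_ext {g h : symplecticGroup (Fin 2) F} (H : ∀ v, g.1 *ᵥ v = h.1 *ᵥ v) : g = h :=
  Subtype.ext (mat_ext H)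

theorem xS_add (r : ℕ) (t u : F) : xS r t * xS r u = xS r (t + u) :=
  Subtype.ext (xMat_mul r t u)

theorem xS_zero (r : ℕ) : xS r (0 : F) = 1 := Subtype.ext (xMat_zero r)

theorem xS_inv (r : ℕ) (t : F) : (xS r t)⁻¹ = xS r (-t) := by
  apply inv_eq_of_mul_eq_one_right
  rw [xS_add, add_neg_cancel, xS_zero]

theorem xS_of_ge (r : ℕ) (hr : ¬ r < 8) (t : F) : xS r t = 1 := Subtype.ext (xMat_of_ge r hr t)

/-- the action of a word in the root elements -/
def wordf4 (w : List (ℕ × F)) (v : I4 → F) : I4 → F :=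
  match w with
  | [] => v
  | q :: w => xf q.1 q.2 (wordf4 w v)

/-- the commutator relations for the actions on vectors -/
theorem xf_comm4 (r s : ℕ) (hr : r < 8) (hs : s < 8) (hsr : s ≠ r) (hsn : s + r ≠ 7) (t u : F) (v : I4 → F) :
    xf s (-u) (xf r (-t) (xf s u (xf r t v))) =
      wordf4 ((ctab r s).map fun c => (c.1, ((c.2.1 : ℤ) : F) * (-t) ^ c.2.2.1 * u ^ c.2.2.2)) v := by
  obtain ⟨a, b, c, d, rfl⟩ := exists_mk4 v
  interval_cases r <;> interval_cases s <;>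
    first
    | exact absurd rfl hsr
    | exact absurd rfl hsn
    | (simp only [ctab, List.map_cons, List.map_nil, wordf4, xf_0, xf_1, xf_2, xf_3, xf_4, xf_5, xf_6, xf_7]
       push_cast
       apply mk4_congr <;> ring)

theorem coe_mul_mulVec (g h : symplecticGroup (Fin 2) F) (v : I4 → F) :
    (g * h).1 *ᵥ v = g.1 *ᵥ (h.1 *ᵥ v) := by
  rw [mulVec_mulVec]
  rfl

theorem wordG_mulVec4 (w : List (ℕ × F)) (v : I4 → F) :
    (wordG (xS (F := F)) w : symplecticGroup (Fin 2) F).1 *ᵥ v = wordf4 w v := by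
  induction w with
  | nil =>
    rw [wordG_nil]
    show (1 : Matrix I4 I4 F) *ᵥ v = v
    rw [one_mulVec]
  | cons q w ih =>
    rw [wordG_cons, coe_mul_mulVec, ih, xS_mulVec]
    rfl

/-- the commutator relations -/
theorem xS_comm (r s : ℕ) (hr : r < 8) (hs : s < 8) (hsr : s ≠ r) (hsn : s ≠ chevB2.neg r) (t u : F) :
    (xS s u)⁻¹ * (xS r t)⁻¹ * xS s u * xS r t = wordG xS (chevB2.commWord F r s t u) := by
  have hsn' : s + r ≠ 7 := by
    rw [neg_eq r hr] at hsn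
    omega
  apply sp_ext
  intro v
  rw [wordG_mulVec4, xS_inv, xS_inv, coe_mul_mulVec, coe_mul_mulVec, coe_mul_mulVec, xS_mulVec, xS_mulVec,
    xS_mulVec, xS_mulVec, xf_comm4 r s hr hs hsr hsn']
  unfold ChevalleyDatum.commWord
  rw [ctab_eq r hr s hs]

theorem stRel_xS : StRel chevB2 (xS (F := F)) where
  add := fun r _ t u => xS_add r t u
  comm := fun r hr s hs hsr hsn t u => xS_comm r s hr hs hsr hsn t u

/-- the diagonal action of `h_r(t)` in coordinates -/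
def hc (r : ℕ) (t a b c d : F) : I4 → F :=
  match r with
  | 0 => mk4 (t⁻¹ * a) b (t * c) d
  | 1 => mk4 (t⁻¹ * a) (t⁻¹ * b) (t * c) (t * d)
  | 2 => mk4 (t⁻¹ * a) (t * b) (t * c) (t⁻¹ * d)
  | 3 => mk4 a (t⁻¹ * b) c (t * d)
  | 4 => mk4 a (t * b) c (t⁻¹ * d)
  | 5 => mk4 (t * a) (t⁻¹ * b) (t⁻¹ * c) (t * d)
  | 6 => mk4 (t * a) (t * b) (t⁻¹ * c) (t⁻¹ * d)
  | 7 => mk4 (t * a) b (t⁻¹ * c) d
  | _ => mk4 a b c d

/-- the elements `h_r(t)` act diagonally -/
theorem hG_mulVec (r : ℕ) (hr : r < 8) (t : F) (ht : t ≠ 0) (a b c d : F) :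
    (hG chevB2 (xS (F := F)) r t).1 *ᵥ mk4 a b c d = hc r t a b c d := by
  unfold hG nG
  rw [neg_eq r hr]
  simp only [coe_mul_mulVec, xS_mulVec]
  interval_cases r <;>
    (simp only [Nat.sub_self, Nat.reduceSub, xf_0, xf_1, xf_2, xf_3, xf_4, xf_5, xf_6, xf_7, hc]
     apply mk4_congr <;> field_simp <;> ring)

/-- the relations (R3) -/
theorem hG_mul (r : ℕ) (hr : r < 8) (t₁ t₂ : F) (h₁ : t₁ ≠ 0) (h₂ : t₂ ≠ 0) :
    hG chevB2 (xS (F := F)) r t₁ * hG chevB2 xS r t₂ = hG chevB2 xS r (t₁ * t₂) := by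
  apply sp_ext
  intro v
  obtain ⟨a, b, c, d, rfl⟩ := exists_mk4 v
  rw [coe_mul_mulVec, hG_mulVec r hr t₂ h₂, hG_mulVec r hr (t₁ * t₂) (mul_ne_zero h₁ h₂)]
  interval_cases r <;>
    (simp only [hc]
     rw [hG_mulVec _ (by norm_num) t₁ h₁]
     simp only [hc]
     apply mk4_congr <;> field_simp)

/-- `Sp₄(F)` is not commutative -/
theorem xS_not_commute : xS 5 (1 : F) * xS 4 1 ≠ xS 4 1 * xS 5 1 := by
  intro h
  have h1 := congrArg (fun g : symplecticGroup (Fin 2) F => (g.1 *ᵥ mk4 0 0 0 1) (Sum.inl 0)) h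
  simp only [coe_mul_mulVec, xS_mulVec, xf_4, xf_5, mk4_a] at h1
  have : (1 : F) = 0 := by linear_combination -h1
  exact one_ne_zero this

end Cfsg.Agent.Helper2.SpB2
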