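import Mathlib
import Cfsg.Agent.Lib.Helper2.SpB2B
import Cfsg.Agent.Lib.Helper6.StPres
import Cfsg.Agent.Lib.Helper6.StCenter
import Cfsg.Agent.Lib.Helper6.SpMat0
import Cfsg.Agent.S1056

/-!
The Steinberg group of type `B₂` over a field with more than two elements is isomorphic to `Sp₄`, provided `Sp₄` is
generated by the elementary symplectic matrices.
-/

set_option autoImplicit false
set_option linter.unusedSectionVars false
set_option linter.unusedVariables false

namespace Cfsg.Agent.Helper2.SpB2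

open Matrix Cfsg Cfsg.Lie Cfsg.Agent.Helper6.StC Cfsg.Agent.Lead.Chev Cfsg.Agent.Helper6.SpN

variable {F : Type*} [Field F]

/-- the map on the generators -/
noncomputable def genMap4 (q : Fin chevB2.nroots × F) : symplecticGroup (Fin 2) F := xS q.1.val q.2

theorem lift_stX4 (r : ℕ) (t : F) : FreeGroup.lift (genMap4 (F := F)) (chevB2.stX r t) = xS r t := by
  unfold ChevalleyDatum.stX
  split_ifs with h
  · rw [FreeGroup.lift_apply_of]
    rfl
  · rw [map_one]
    exact (xS_of_ge r h t).symm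

theorem lift_stWord4 (w : List (ℕ × F)) :
    FreeGroup.lift (genMap4 (F := F)) (chevB2.stWord w) = wordG xS w := by
  unfold ChevalleyDatum.stWord wordG
  rw [map_list_prod, List.map_map]
  congr 1
  apply List.map_congr_left
  intro q _
  exact lift_stX4 q.1 q.2

theorem lift_stH4 (r : ℕ) (t : F) :
    FreeGroup.lift (genMap4 (F := F)) (chevB2.stH r t) = hG chevB2 xS r t := by
  unfold ChevalleyDatum.stH
  rw [lift_stWord4]
  unfold ChevalleyDatum.hWord ChevalleyDatum.nWord hG nG wordG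
  simp only [List.cons_append, List.nil_append, List.map_cons, List.map_nil, List.prod_cons, List.prod_nil,
    mul_one, mul_assoc]

theorem lift_rel4 : ∀ g ∈ chevB2.steinbergRels F, FreeGroup.lift (genMap4 (F := F)) g = 1 := by
  rintro g ((⟨r, t₁, t₂, hr, rfl⟩ | ⟨r, s, t, u, hr, hs, hne, hne', rfl⟩) | ⟨r, t₁, t₂, hr, ht₁, ht₂, rfl⟩)
  · rw [map_mul, map_mul, map_inv, lift_stX4, lift_stX4, lift_stX4, stRel_xS.add r hr, mul_inv_cancel]
  · rw [map_mul, map_mul, map_mul, map_mul, map_inv, map_inv, map_inv, lift_stX4, lift_stX4, lift_stWord4,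
      mul_inv_eq_one]
    exact stRel_xS.comm r hr s hs hne hne' t u
  · rw [map_mul, map_mul, map_inv, lift_stH4, lift_stH4, lift_stH4, mul_inv_eq_one]
    exact hG_mul r hr t₁ t₂ ht₁ ht₂

/-- the homomorphism from the Steinberg group to the symplectic group -/
noncomputable def gam : chevB2.SteinbergGroup F →* symplecticGroup (Fin 2) F :=
  PresentedGroup.toGroup lift_rel4

theorem gam_mk (r : ℕ) (t : F) :
    gam (PresentedGroup.mk (chevB2.steinbergRels F) (chevB2.stX r t)) = xS r t := by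
  unfold gam
  exact lift_stX4 r t

theorem map_hG {Γ Γ' : Type*} [Group Γ] [Group Γ'] (φ : Γ →* Γ') (D : ChevalleyDatum) (X : ℕ → F → Γ)
    (r : ℕ) (t : F) : φ (hG D X r t) = hG D (fun r t => φ (X r t)) r t := by
  unfold hG nG
  simp only [map_mul]

theorem gam_hG (r : ℕ) (t : F) :
    gam (hG chevB2 (fun r t => PresentedGroup.mk (chevB2.steinbergRels F) (chevB2.stX r t)) r t) =
      hG chevB2 xS r t := by
  rw [map_hG]
  congr 1
  funext r t
  exact gam_mk r t

theorem hB2' : chevB2 ∈ [chevG2, chevB2, chevD4, chevF4, chevE6, chevE7, chevE8] := by simp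

/-- the kernel of `gam` is trivial -/
theorem gam_injective (hF' : ∃ a : F, a ≠ 0 ∧ a ≠ 1) (hsurj : Function.Surjective (gam (F := F))) :
    Function.Injective (gam (F := F)) := by
  have hF := chevFacts_of_mem (F := F) chevB2 hB2'
  have hlift := lift_rel hF (Cfsg.Agent.Helper6.ChevL.diag2_of_mem chevB2 hB2')
  have hsub : chevB2.steinbergRelsAB F ⊆ chevB2.steinbergRels F := by
    rintro g (hg | hg)
    · exact Or.inl (Or.inl hg)
    · exact Or.inl (Or.inr hg)
  have hd := stData_of_mem chevB2 hB2'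
  have hS := setup hB2' (chevB2.steinbergRels F) hsub hlift
  have h3 : R3 chevB2 (fun r t => PresentedGroup.mk (chevB2.steinbergRels F) (chevB2.stX r t)) := by
    intro i hi t₁ t₂ ht₁ ht₂
    have hmem : chevB2.stH (chevB2.simple i) t₁ * chevB2.stH (chevB2.simple i) t₂ *
        (chevB2.stH (chevB2.simple i) (t₁ * t₂))⁻¹ ∈ chevB2.steinbergRels F :=
      Or.inr ⟨chevB2.simple i, t₁, t₂, hF.simple_lt i hi, ht₁, ht₂, rfl⟩
    have h1 := PresentedGroup.one_of_mem hmem
    rw [map_mul, map_mul, map_inv, mul_inv_eq_one, mk_stH, mk_stH, mk_stH] at h1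
    exact h1
  set θ := thetaG hB2' (chevB2.steinbergRels F) hlift with hθ
  have hθsurj : Function.Surjective θ := thetaG_surjective hB2' _ hlift
  have hker : θ.ker = Subgroup.center (chevB2.SteinbergGroup F) :=
    le_antisymm (thetaG_ker_le hB2' _ hsub hlift) (center_le_ker hB2' _ hlift)
  obtain ⟨hsimple, hnc⟩ := Cfsg.Agent.S1056.result (F := F) hF'
  -- the kernel of `gam` is central
  have hcen : (gam (F := F)).ker ≤ θ.ker := by
    have hN : ((gam (F := F)).ker.map θ).Normal := Subgroup.Normal.map inferInstance θ hθsurj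
    rcases hN.eq_bot_or_eq_top with h | h
    · intro x hx
      rw [MonoidHom.mem_ker]
      have : θ x ∈ (gam (F := F)).ker.map θ := Subgroup.mem_map_of_mem θ hx
      rw [h, Subgroup.mem_bot] at this
      exact this
    · exfalso
      apply xS_not_commute (F := F)
      -- every element is a product of an element of `ker gam` and a central element
      have key : ∀ x : chevB2.SteinbergGroup F, ∃ k ∈ (gam (F := F)).ker, ∃ z ∈ θ.ker, x = k * z := by
        intro x
        have hx : θ x ∈ (gam (F := F)).ker.map θ := by rw [h]; trivial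
        obtain ⟨k, hk, hkx⟩ := hx
        refine ⟨k, hk, k⁻¹ * x, ?_, by group⟩
        rw [MonoidHom.mem_ker, map_mul, map_inv, hkx, inv_mul_cancel]
      obtain ⟨x, hx⟩ := hsurj (xS 5 1)
      obtain ⟨y, hy⟩ := hsurj (xS 4 1)
      obtain ⟨k, hk, z, hz, rfl⟩ := key x
      obtain ⟨k', hk', z', hz', rfl⟩ := key y
      rw [hker] at hz hz'
      rw [← hx, ← hy, ← map_mul, ← map_mul]
      rw [MonoidHom.mem_ker] at hk hk'
      rw [map_mul, map_mul, map_mul, map_mul, map_mul, map_mul, hk, hk', one_mul, one_mul, ← map_mul, ← map_mul]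
      congr 1
      exact Subgroup.mem_center_iff.1 hz' z
  rw [injective_iff_map_eq_one]
  intro z hz
  have hz1 : z ∈ θ.ker := hcen hz
  have hz2 : thetaGL hB2' (chevB2.steinbergRels F) hlift z = 1 := by
    rw [MonoidHom.mem_ker] at hz1
    have := congrArg (fun y : chevB2.group F => (y : GL chevB2.Idx F)) hz1
    exact this
  have hz3 := hS.ker_le_subH hd (gen_eq_top (chevB2.steinbergRels F))
    (show z ∈ (thetaGL hB2' (chevB2.steinbergRels F) hlift).ker from hz2)
  rw [← hS.torusG_range hd h3] at hz3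
  obtain ⟨c, rfl⟩ := hz3
  have hr0 : (0 : ℕ) < chevB2.rank := by decide
  have hr1 : (1 : ℕ) < chevB2.rank := by decide
  have hcc : c = Pi.mulSingle (⟨0, hr0⟩ : Fin chevB2.rank) (c ⟨0, hr0⟩) *
      Pi.mulSingle (⟨1, hr1⟩ : Fin chevB2.rank) (c ⟨1, hr1⟩) := by
    funext i
    obtain ⟨i, hi⟩ := i
    have hi' : i < 2 := hi
    interval_cases i
    · rw [Pi.mul_apply, Pi.mulSingle_eq_same, Pi.mulSingle_eq_of_ne (by simp), mul_one]
    · rw [Pi.mul_apply, Pi.mulSingle_eq_same, Pi.mulSingle_eq_of_ne (by simp), one_mul]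
  have e0 : hS.torusG hd h3 (Pi.mulSingle (⟨0, hr0⟩ : Fin chevB2.rank) (c ⟨0, hr0⟩)) =
      hG chevB2 (fun r t => PresentedGroup.mk (chevB2.steinbergRels F) (chevB2.stX r t)) 5
        (c ⟨0, hr0⟩ : F) := by
    unfold Setup.torusG
    rw [MonoidHom.noncommPiCoprod_mulSingle]
    rfl
  have e1 : hS.torusG hd h3 (Pi.mulSingle (⟨1, hr1⟩ : Fin chevB2.rank) (c ⟨1, hr1⟩)) =
      hG chevB2 (fun r t => PresentedGroup.mk (chevB2.steinbergRels F) (chevB2.stX r t)) 4
        (c ⟨1, hr1⟩ : F) := by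
    unfold Setup.torusG
    rw [MonoidHom.noncommPiCoprod_mulSingle]
    rfl
  have hz4 : hG chevB2 xS 5 (c ⟨0, hr0⟩ : F) * hG chevB2 xS 4 (c ⟨1, hr1⟩ : F) = 1 := by
    rw [← gam_hG, ← gam_hG, ← e0, ← e1, ← map_mul, ← map_mul, ← hcc]
    exact hz
  have hz5 := congrArg (fun g : symplecticGroup (Fin 2) F => g.1 *ᵥ mk4 1 1 1 1) hz4
  simp only [coe_mul_mulVec] at hz5
  rw [hG_mulVec 4 (by norm_num) _ (c ⟨1, hr1⟩).ne_zero] at hz5
  simp only [hc] at hz5
  rw [hG_mulVec 5 (by norm_num) _ (c ⟨0, hr0⟩).ne_zero] at hz5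
  simp only [hc] at hz5
  have hz6 : ((1 : symplecticGroup (Fin 2) F).1) *ᵥ mk4 (1 : F) 1 1 1 = mk4 1 1 1 1 := by
    show (1 : Matrix I4 I4 F) *ᵥ _ = _
    rw [one_mulVec]
  rw [hz6] at hz5
  obtain ⟨ha, hb, -, -⟩ := mk4_inj hz5
  have hc0 : c ⟨0, hr0⟩ = 1 := by
    apply Units.ext
    rw [Units.val_one]
    rw [mul_one] at ha
    exact ha
  have hc1 : c ⟨1, hr1⟩ = 1 := by
    apply Units.ext
    rw [Units.val_one]
    rw [hc0, Units.val_one, inv_one, one_mul, mul_one] at hb
    exact hb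
  have : c = 1 := by
    rw [hcc, hc0, hc1]
    simp
  rw [this, map_one]

end Cfsg.Agent.Helper2.SpB2
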