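import Mathlib
import Cfsg.Agent.Lib.Helper2.SpB2C

/-!
The homomorphism from the Steinberg group of type `B₂` to `Sp₄` is onto when `Sp₄` is generated by the elementary
symplectic matrices `Tm a b t`, `Lm a t`; then it is an isomorphism.
-/

set_option autoImplicit false
set_option linter.unusedSectionVars false
set_option linter.unusedVariables false
set_option linter.unusedTactic false
set_option linter.unreachableTactic false
set_option linter.unnecessarySeqFocus false

namespace Cfsg.Agent.Helper2.SpB2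

open Matrix Cfsg Cfsg.Lie Cfsg.Agent.Helper6.StC Cfsg.Agent.Lead.Chev Cfsg.Agent.Helper6.SpN

variable {F : Type*} [Field F]

theorem TmM_mulVec (a b : I4) (t : F) (v : I4 → F) :
    TmM a b t *ᵥ v = v + Pi.single a (t * v b) - Pi.single (ng b) (sg F a * sg F b * t * v (ng a)) := by
  unfold TmM
  rw [sub_mulVec, add_mulVec, one_mulVec, single_mulVec, single_mulVec]
  rfl

theorem LmM_mulVec (a : I4) (t : F) (v : I4 → F) :
    LmM a t *ᵥ v = v + Pi.single a (t * v (ng a)) := by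
  unfold LmM
  rw [add_mulVec, one_mulVec, single_mulVec]
  rfl

theorem TmM_eq_aux (a b : I4) (t : F) (r : ℕ) (s : F)
    (h : ∀ x y z w : F, mk4 x y z w + Pi.single a (t * mk4 x y z w b) -
      Pi.single (ng b) (sg F a * sg F b * t * mk4 x y z w (ng a)) = xf r s (mk4 x y z w)) :
    TmM a b t = xMat r s := by
  apply mat_ext
  intro v
  obtain ⟨x, y, z, w, rfl⟩ := exists_mk4 v
  rw [TmM_mulVec, xMat_mulVec, h]

theorem LmM_eq_aux (a : I4) (t : F) (r : ℕ) (s : F)
    (h : ∀ x y z w : F, mk4 x y z w + Pi.single a (t * mk4 x y z w (ng a)) = xf r s (mk4 x y z w)) :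
    LmM a t = xMat r s := by
  apply mat_ext
  intro v
  obtain ⟨x, y, z, w, rfl⟩ := exists_mk4 v
  rw [LmM_mulVec, xMat_mulVec, h]

theorem TmM_eq_xMat {a b : I4} (hab : a ≠ b) (hab' : a ≠ ng b) (t : F) : ∃ r s, TmM a b t = xMat r s := by
  rcases a with a | a <;> rcases b with b | b <;> fin_cases a <;> fin_cases b
  all_goals first
    | exact absurd rfl hab
    | exact absurd rfl hab'
    | skip
  · refine ⟨5, t, TmM_eq_aux _ _ _ _ _ ?_⟩
    intro x y z w
    rw [xf_5]
    apply funext4 <;> simp [ng, sg] <;> ring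
  · refine ⟨2, t, TmM_eq_aux _ _ _ _ _ ?_⟩
    intro x y z w
    rw [xf_2]
    apply funext4 <;> simp [ng, sg] <;> ring
  · refine ⟨6, t, TmM_eq_aux _ _ _ _ _ ?_⟩
    intro x y z w
    rw [xf_6]
    apply funext4 <;> simp [ng, sg] <;> ring
  · refine ⟨6, t, TmM_eq_aux _ _ _ _ _ ?_⟩
    intro x y z w
    rw [xf_6]
    apply funext4 <;> simp [ng, sg] <;> ring
  · refine ⟨1, t, TmM_eq_aux _ _ _ _ _ ?_⟩
    intro x y z w
    rw [xf_1]
    apply funext4 <;> simp [ng, sg] <;> ring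
  · refine ⟨1, t, TmM_eq_aux _ _ _ _ _ ?_⟩
    intro x y z w
    rw [xf_1]
    apply funext4 <;> simp [ng, sg] <;> ring
  · refine ⟨2, -t, TmM_eq_aux _ _ _ _ _ ?_⟩
    intro x y z w
    rw [xf_2]
    apply funext4 <;> simp [ng, sg] <;> ring
  · refine ⟨5, -t, TmM_eq_aux _ _ _ _ _ ?_⟩
    intro x y z w
    rw [xf_5]
    apply funext4 <;> simp [ng, sg] <;> ring

theorem LmM_eq_xMat (a : I4) (t : F) : ∃ r s, LmM a t = xMat r s := by
  rcases a with a | a <;> fin_cases a
  · refine ⟨7, t, LmM_eq_aux _ _ _ _ ?_⟩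
    intro x y z w
    rw [xf_7]
    apply funext4 <;> simp [ng] <;> ring
  · refine ⟨4, -t, LmM_eq_aux _ _ _ _ ?_⟩
    intro x y z w
    rw [xf_4]
    apply funext4 <;> simp [ng] <;> ring
  · refine ⟨0, t, LmM_eq_aux _ _ _ _ ?_⟩
    intro x y z w
    rw [xf_0]
    apply funext4 <;> simp [ng] <;> ring
  · refine ⟨3, -t, LmM_eq_aux _ _ _ _ ?_⟩
    intro x y z w
    rw [xf_3]
    apply funext4 <;> simp [ng] <;> ring

theorem Tm_eq_xS {a b : I4} (hab : a ≠ b) (hab' : a ≠ ng b) (t : F) : ∃ r s, Tm a b t = xS r s := by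
  obtain ⟨r, s, h⟩ := TmM_eq_xMat hab hab' t
  refine ⟨r, s, ?_⟩
  have hm : TmM a b t ∈ symplecticGroup (Fin 2) F := by
    rw [h]
    exact xMat_mem r s
  unfold Tm
  rw [dif_pos hm]
  exact Subtype.ext h

theorem Lm_eq_xS (a : I4) (t : F) : ∃ r s, Lm a t = xS r s := by
  obtain ⟨r, s, h⟩ := LmM_eq_xMat a t
  refine ⟨r, s, ?_⟩
  have hm : LmM a t ∈ symplecticGroup (Fin 2) F := by
    rw [h]
    exact xMat_mem r s
  unfold Lm
  rw [dif_pos hm]
  exact Subtype.ext h

theorem gam_surjective (hgen : Subgroup.closure (elemSet (Fin 2) F) = ⊤) :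
    Function.Surjective (gam (F := F)) := by
  rw [← MonoidHom.range_eq_top, eq_top_iff, ← hgen, Subgroup.closure_le]
  rintro g (⟨a, b, t, hab, hab', rfl⟩ | ⟨a, t, rfl⟩)
  · obtain ⟨r, s, h⟩ := Tm_eq_xS hab hab' t
    rw [h]
    exact ⟨_, gam_mk r s⟩
  · obtain ⟨r, s, h⟩ := Lm_eq_xS a t
    rw [h]
    exact ⟨_, gam_mk r s⟩

/-- the Steinberg group of type `B₂` is the symplectic group `Sp₄`, if the latter is generated by the elementary
symplectic matrices -/
theorem exists_iso_of_gen (hF' : ∃ a : F, a ≠ 0 ∧ a ≠ 1)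
    (hgen : Subgroup.closure (elemSet (Fin 2) F) = ⊤) :
    Nonempty (chevB2.SteinbergGroup F ≃* symplecticGroup (Fin 2) F) :=
  ⟨MulEquiv.ofBijective gam ⟨gam_injective hF' (gam_surjective hgen), gam_surjective hgen⟩⟩

end Cfsg.Agent.Helper2.SpB2
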