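import Mathlib
import Cfsg.Agent.Lib.Helper2.SpB2D
import Cfsg.Agent.Lib.Helper25.SpM2

/-!
The Steinberg group of type `B₂` over a finite field with at least three elements is isomorphic to `Sp₄`.
-/

set_option autoImplicit false

namespace Cfsg.Agent.Helper2.SpB2

open Matrix Cfsg Cfsg.Lie

/-- the Steinberg group of type `B₂` over a field with an element other than `0`, `1` is `Sp₄` -/
theorem exists_iso_B2' {K : Type*} [Field K] (hK : ∃ a : K, a ≠ 0 ∧ a ≠ 1) :
    Nonempty (Cfsg.Lie.chevB2.SteinbergGroup K ≃* Matrix.symplecticGroup (Fin 2) K) :=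
  exists_iso_of_gen hK Cfsg.Agent.Helper25.SpM2.closure_elemSet

/-- PIECE B2 for helper6 (S2092) -/
theorem exists_iso_B2 {K : Type*} [Field K] [Fintype K] (hK : 3 ≤ Fintype.card K) :
    Nonempty (Cfsg.Lie.chevB2.SteinbergGroup K ≃* Matrix.symplecticGroup (Fin 2) K) := by
  classical
  apply exists_iso_B2'
  by_contra h
  push Not at h
  have hsub : (Finset.univ : Finset K) ⊆ {0, 1} := by
    intro a _
    by_cases ha : a = 0
    · simp [ha]
    · simp [h a ha]
  have := Finset.card_le_card hsub
  rw [Finset.card_univ] at this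
  have h2 : ({0, 1} : Finset K).card ≤ 2 := Finset.card_le_two
  omega

end Cfsg.Agent.Helper2.SpB2
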