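import Mathlib
import Cfsg.Agent.Lib.Helper6.SpP0

/-!
Central extensions of a group with Steinberg relations of type `C`: canonical lifts of the short root elements.
-/

set_option autoImplicit false
set_option linter.unusedSectionVars false
set_option linter.unusedVariables false

namespace Cfsg.Agent.Helper2.SpExtTH

open Cfsg.Agent.Helper6 Cfsg.Agent.Helper6.SLn Cfsg.Agent.Helper6.SpN

variable {I : Type*} [Fintype I] [DecidableEq I] {K : Type*} [Field K] {Γ E : Type*} [Group Γ]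
  [Group E] {T : I ⊕ I → I ⊕ I → K → Γ} {L : I ⊕ I → K → Γ}

/-- a chosen lift -/
noncomputable def lf {π : E →* Γ} (hs : Function.Surjective π) (g : Γ) : E := Function.surjInv hs g

theorem map_lf {π : E →* Γ} (hs : Function.Surjective π) (g : Γ) : π (lf hs g) = g :=
  Function.surjInv_eq hs g

/-- the commutator of the chosen lifts of `x_ab(t)` and `x_bc(u)` -/
noncomputable def ff {π : E →* Γ} (hs : Function.Surjective π) (T : I ⊕ I → I ⊕ I → K → Γ)
    (a b c : I ⊕ I) (t u : K) : E :=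
  cm (lf hs (T a b t)) (lf hs (T b c u))

section

variable (R : SpRel T L) (π : E →* Γ) (hc : π.ker ≤ Subgroup.center E)
  (hs : Function.Surjective π) (C : CLift T L π)

include hc in
theorem ff_eq {a b c : I ⊕ I} {t u : K} {x y : E} (hx : π x = T a b t) (hy : π y = T b c u) :
    cm x y = ff hs T a b c t u :=
  cm_eq π hc _ _ _ _ (by rw [hx, map_lf]) (by rw [hy, map_lf])

include R in
theorem map_ff {a b c : I ⊕ I} (hab : av a ≠ av b) (hbc : av b ≠ av c) (hac : av a ≠ av c)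
    (t u : K) : π (ff hs T a b c t u) = T a c (t * u) := by
  unfold ff
  rw [map_cm, map_lf, map_lf]
  exact R.r3 a b c (ne_of_av_ne hab) (ne_ng_of_av_ne hab) (ne_of_av_ne hbc) (ne_ng_of_av_ne hbc)
    (ne_of_av_ne hac) (ne_ng_of_av_ne hac) t u

include C in
/-- lifts of `x_ab` and `x_ac` commute -/
theorem comm_ab_ac {a b c : I ⊕ I} (hab : av a ≠ av b) (hbc : av b ≠ av c) (hac : av a ≠ av c)
    {t w : K} {x z : E} (hx : π x = T a b t) (hz : π z = T a c w) : Commute x z :=
  C.tt a b a c (ne_of_av_ne hab) (ne_ng_of_av_ne hab) (ne_of_av_ne hac) (ne_ng_of_av_ne hac)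
    (ne_of_av_ne hab) (ne_ng a) (ne_of_av_ne hac).symm (ne_ng_of_av_ne hbc.symm) t w x z hx hz

include C in
/-- lifts of `x_bc` and `x_ac` commute -/
theorem comm_bc_ac {a b c : I ⊕ I} (hab : av a ≠ av b) (hbc : av b ≠ av c) (hac : av a ≠ av c)
    {u w : K} {y z : E} (hy : π y = T b c u) (hz : π z = T a c w) : Commute y z :=
  C.tt b c a c (ne_of_av_ne hbc) (ne_ng_of_av_ne hbc) (ne_of_av_ne hac) (ne_ng_of_av_ne hac)
    (ne_of_av_ne hac) (ne_ng_of_av_ne hab) (ne_of_av_ne hbc).symm (ne_ng c) u w y z hy hz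

include C in
/-- lifts of `l_b` (or `l_{-b}`) and `x_ac` commute -/
theorem comm_Lb_ac {a b c : I ⊕ I} (hab : av a ≠ av b) (hbc : av b ≠ av c) (hac : av a ≠ av c)
    {v w : K} {l z : E} (hl : π l = L b v) (hz : π z = T a c w) : Commute l z :=
  (C.tl a c b (ne_of_av_ne hac) (ne_ng_of_av_ne hac) (ne_of_av_ne hbc) (ne_ng_of_av_ne hab.symm)
    w v z l hz hl).symm

include R C hc in
theorem ff_add_left {a b c : I ⊕ I} (hab : av a ≠ av b) (hbc : av b ≠ av c) (hac : av a ≠ av c)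
    (t t' u : K) : ff hs T a b c (t + t') u = ff hs T a b c t' u * ff hs T a b c t u := by
  have hx : π (lf hs (T a b t) * lf hs (T a b t')) = T a b (t + t') := by
    rw [map_mul, map_lf, map_lf, R.addT a b (ne_of_av_ne hab) (ne_ng_of_av_ne hab)]
  rw [← ff_eq π hc hs hx (map_lf hs (T b c u))]
  apply cm_mul_left'
  exact comm_ab_ac π C hab hbc hac (map_lf hs _) (map_ff R π hs hab hbc hac t' u)

include R C hc in
theorem ff_add_right {a b c : I ⊕ I} (hab : av a ≠ av b) (hbc : av b ≠ av c) (hac : av a ≠ av c)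
    (t u u' : K) : ff hs T a b c t (u + u') = ff hs T a b c t u * ff hs T a b c t u' := by
  have hy : π (lf hs (T b c u) * lf hs (T b c u')) = T b c (u + u') := by
    rw [map_mul, map_lf, map_lf, R.addT b c (ne_of_av_ne hbc) (ne_ng_of_av_ne hbc)]
  rw [← ff_eq π hc hs (map_lf hs (T a b t)) hy]
  apply cm_mul_right'
  exact comm_bc_ac π C hab hbc hac (map_lf hs _) (map_ff R π hs hab hbc hac t u')

include R C hc in
theorem ff_zero_left {a b c : I ⊕ I} (hab : av a ≠ av b) (hbc : av b ≠ av c) (hac : av a ≠ av c)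
    (u : K) : ff hs T a b c 0 u = 1 := by
  have h := ff_add_left R π hc hs C hab hbc hac 0 0 u
  rw [add_zero] at h
  exact left_eq_mul.1 h

include R C hc in
theorem ff_zero_right {a b c : I ⊕ I} (hab : av a ≠ av b) (hbc : av b ≠ av c) (hac : av a ≠ av c)
    (t : K) : ff hs T a b c t 0 = 1 := by
  have h := ff_add_right R π hc hs C hab hbc hac t 0 0
  rw [add_zero] at h
  exact left_eq_mul.1 h

include R C hs in
/-- a lift of `w_{2b}(s)` commuting with all lifts of `x_ac` -/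
theorem exists_lift_wL {a b c : I ⊕ I} (hab : av a ≠ av b) (hbc : av b ≠ av c) (hac : av a ≠ av c)
    (s : K) : ∃ n : E, π n = wL L b s ∧ ∀ (w : K) (z : E), π z = T a c w → Commute n z := by
  have hab' : av a ≠ av (ng b) := by rw [av_ng]; exact hab
  have hbc' : av (ng b) ≠ av c := by rw [av_ng]; exact hbc
  refine ⟨lf hs (L b s) * lf hs (L (ng b) (-s⁻¹)) * lf hs (L b s), ?_, fun w z hz => ?_⟩
  · rw [map_mul, map_mul, map_lf, map_lf]
    rfl
  · exact ((comm_Lb_ac π C hab hbc hac (map_lf hs _) hz).mul_left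
      (comm_Lb_ac π C hab' hbc' hac (map_lf hs _) hz)).mul_left
      (comm_Lb_ac π C hab hbc hac (map_lf hs _) hz)

include R C hs in
/-- a lift of `h_{2b}(s)` commuting with all lifts of `x_ac` -/
theorem exists_lift_hL {a b c : I ⊕ I} (hab : av a ≠ av b) (hbc : av b ≠ av c) (hac : av a ≠ av c)
    (s : K) : ∃ d : E, π d = hL L b s ∧ ∀ (w : K) (z : E), π z = T a c w → Commute d z := by
  obtain ⟨n₁, hn₁, hc₁⟩ := exists_lift_wL R π hs C hab hbc hac s
  obtain ⟨n₂, hn₂, hc₂⟩ := exists_lift_wL R π hs C hab hbc hac (-1)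
  refine ⟨n₁ * n₂, ?_, fun w z hz => (hc₁ w z hz).mul_left (hc₂ w z hz)⟩
  rw [map_mul, hn₁, hn₂]
  rfl

include R C hc in
/-- scaling: `f_b(t, u) = f_b(1, t u)` for `t ≠ 0` -/
theorem ff_scale {a b c : I ⊕ I} (hab : av a ≠ av b) (hbc : av b ≠ av c) (hac : av a ≠ av c)
    {t : K} (ht : t ≠ 0) (u : K) : ff hs T a b c t u = ff hs T a b c 1 (t * u) := by
  obtain ⟨d, hd, hdc⟩ := exists_lift_hL R π hs C hab hbc hac t⁻¹
  have hti : t⁻¹ ≠ 0 := inv_ne_zero ht
  have h1 : d * ff hs T a b c 1 (t * u) * d⁻¹ = ff hs T a b c 1 (t * u) := by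
    have := hdc _ _ (map_ff R π hs hab hbc hac 1 (t * u))
    rw [this.eq, mul_inv_cancel_right]
  have hx : π (d * lf hs (T a b 1) * d⁻¹) = T a b t := by
    rw [map_mul, map_mul, map_inv, map_lf, hd]
    have := R.hL_cj_T (a := b) (ne_of_av_ne hab) (ne_ng_of_av_ne hab) t⁻¹ hti 1
    unfold cj at this
    rw [this, wtL_out (ne_of_av_ne hab) (ne_ng_of_av_ne hab), wtL_a, inv_inv, one_mul, mul_one]
  have hy : π (d * lf hs (T b c (t * u)) * d⁻¹) = T b c u := by
    rw [map_mul, map_mul, map_inv, map_lf, hd]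
    have := R.hL_cj_T (a := b) (ne_of_av_ne hbc) (ne_ng_of_av_ne hbc) t⁻¹ hti (t * u)
    unfold cj at this
    rw [this, wtL_out (ne_of_av_ne hbc).symm (ne_ng_of_av_ne hbc.symm), wtL_a, inv_one, mul_one,
      inv_mul_cancel_left₀ ht]
  rw [← h1]
  unfold ff
  rw [cm_conj]
  exact (ff_eq π hc hs hx hy).symm

include R C hc in
/-- independence of the middle index, first case -/
theorem ff_indep_ne {a b b' c : I ⊕ I} (hab : av a ≠ av b) (hbc : av b ≠ av c) (hac : av a ≠ av c)
    (hab' : av a ≠ av b') (hbc' : av b' ≠ av c) (hbb' : av b ≠ av b') (t : K) :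
    ff hs T a b c 1 t = ff hs T a b' c 1 t := by
  set u := lf hs (T a b 1) with hu
  set v := lf hs (T b b' 1) with hv
  set w := lf hs (T b' c t) with hw
  have huv : π (cm u v) = T a b' (1 * 1) := by
    rw [map_cm, hu, hv, map_lf, map_lf]
    exact R.r3 a b b' (ne_of_av_ne hab) (ne_ng_of_av_ne hab) (ne_of_av_ne hbb')
      (ne_ng_of_av_ne hbb') (ne_of_av_ne hab') (ne_ng_of_av_ne hab') 1 1
  have hvw : π (cm v w) = T b c (1 * t) := by
    rw [map_cm, hv, hw, map_lf, map_lf]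
    exact R.r3 b b' c (ne_of_av_ne hbb') (ne_ng_of_av_ne hbb') (ne_of_av_ne hbc')
      (ne_ng_of_av_ne hbc') (ne_of_av_ne hbc) (ne_ng_of_av_ne hbc) 1 t
  have h1 : Commute u w :=
    C.tt a b b' c (ne_of_av_ne hab) (ne_ng_of_av_ne hab) (ne_of_av_ne hbc') (ne_ng_of_av_ne hbc')
      (ne_of_av_ne hbb').symm (ne_ng_of_av_ne hab'.symm) (ne_of_av_ne hac).symm
      (ne_ng_of_av_ne hbc.symm) 1 t u w (map_lf hs _) (map_lf hs _)
  have h3 : Commute (cm u v) (cm v w) :=
    C.tt a b' b c (ne_of_av_ne hab') (ne_ng_of_av_ne hab') (ne_of_av_ne hbc) (ne_ng_of_av_ne hbc)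
      (ne_of_av_ne hbb') (ne_ng_of_av_ne hab.symm) (ne_of_av_ne hac).symm
      (ne_ng_of_av_ne hbc'.symm) _ _ _ _ huv hvw
  have huvw : π (cm (cm u v) w) = T a c (1 * 1 * t) := by
    rw [map_cm, huv, hw, map_lf]
    exact R.r3 a b' c (ne_of_av_ne hab') (ne_ng_of_av_ne hab') (ne_of_av_ne hbc')
      (ne_ng_of_av_ne hbc') (ne_of_av_ne hac) (ne_ng_of_av_ne hac) (1 * 1) t
  have h4 : Commute (cm (cm u v) w) (cm v w) :=
    (comm_bc_ac π C hab hbc hac hvw huvw).symm
  have key := milnor_id u v w h1 h3 h4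
  have e1 : cm u (cm v w) = ff hs T a b c 1 (1 * t) := ff_eq π hc hs (map_lf hs _) hvw
  have e2 : cm (cm u v) w = ff hs T a b' c (1 * 1) t := ff_eq π hc hs huv (map_lf hs _)
  rw [e1, e2, one_mul, one_mul] at key
  exact key

include R C hc in
/-- independence of the middle index, second case -/
theorem ff_indep_ng {a b c : I ⊕ I} (hab : av a ≠ av b) (hbc : av b ≠ av c) (hac : av a ≠ av c)
    (t : K) : ff hs T a b c 1 t = ff hs T a (ng b) c 1 t := by
  have hab' : av a ≠ av (ng b) := by rw [av_ng]; exact hab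
  have hbc' : av (ng b) ≠ av c := by rw [av_ng]; exact hbc
  obtain ⟨n, hn, hnc⟩ := exists_lift_wL R π hs C hab hbc hac 1
  have h1 : n * ff hs T a b c 1 t * n⁻¹ = ff hs T a b c 1 t := by
    have := hnc _ _ (map_ff R π hs hab hbc hac 1 t)
    rw [this.eq, mul_inv_cancel_right]
  have hx : π (n * lf hs (T a b 1) * n⁻¹) = T a (ng b) (-1 * 1) := by
    rw [map_mul, map_mul, map_inv, map_lf, hn]
    have := R.wL_cj_C (a := b) (c := a) (ne_of_av_ne hab) (ne_ng_of_av_ne hab) 1 one_ne_zero 1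
    unfold cj at this
    exact this
  have hy : π (n * lf hs (T b c t) * n⁻¹) = T (ng b) c (-1⁻¹ * t) := by
    rw [map_mul, map_mul, map_inv, map_lf, hn]
    have := R.wL_cj_A (a := b) (c := c) (ne_of_av_ne hbc) (ne_ng_of_av_ne hbc) 1 one_ne_zero t
    unfold cj at this
    exact this
  have h2 : ff hs T a b c 1 t = ff hs T a (ng b) c (-1 * 1) (-1⁻¹ * t) := by
    rw [← h1]
    unfold ff
    rw [cm_conj]
    exact ff_eq π hc hs hx hy
  rw [h2, ff_scale R π hc hs C hab' hbc' hac (by simp) (-1⁻¹ * t)]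
  congr 1
  simp

include R C hc in
/-- independence of the middle index -/
theorem ff_indep {a b b' c : I ⊕ I} (hab : av a ≠ av b) (hbc : av b ≠ av c) (hac : av a ≠ av c)
    (hab' : av a ≠ av b') (hbc' : av b' ≠ av c) (t : K) :
    ff hs T a b c 1 t = ff hs T a b' c 1 t := by
  by_cases hbb' : av b = av b'
  · rcases eq_or_eq_ng_of_av hbb' with e | e
    · rw [e]
    · rw [e, ← ff_indep_ng R π hc hs C hab' hbc' hac t]
  · exact ff_indep_ne R π hc hs C hab hbc hac hab' hbc' hbb' t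

end

theorem exists_third (h3 : 3 ≤ Fintype.card I) (i j : I) : ∃ k : I, k ≠ i ∧ k ≠ j := by
  by_contra h
  push Not at h
  have hsub : (Finset.univ : Finset I) ⊆ {i, j} := by
    intro k _
    by_cases hk : k = i
    · simp [hk]
    · simp [h k hk]
  have := Finset.card_le_card hsub
  have h2 : ({i, j} : Finset I).card ≤ 2 := Finset.card_le_two
  rw [Finset.card_univ] at this
  omega

/-- the chosen middle index -/
noncomputable def mid (h3 : 3 ≤ Fintype.card I) (a c : I ⊕ I) : I ⊕ I :=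
  Sum.inl (Classical.choose (exists_third h3 (av a) (av c)))

theorem av_mid_left (h3 : 3 ≤ Fintype.card I) (a c : I ⊕ I) : av a ≠ av (mid h3 a c) :=
  fun h => (Classical.choose_spec (exists_third h3 (av a) (av c))).1 h.symm

theorem av_mid_right (h3 : 3 ≤ Fintype.card I) (a c : I ⊕ I) : av (mid h3 a c) ≠ av c :=
  (Classical.choose_spec (exists_third h3 (av a) (av c))).2

theorem exists_shortLift (R : SpRel T L) (π : E →* Γ) (hc : π.ker ≤ Subgroup.center E)
    (hs : Function.Surjective π) (h3 : 3 ≤ Fintype.card I) (C : CLift T L π) :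
    ∃ T' : I ⊕ I → I ⊕ I → K → E, ShortLift T π T' := by
  refine ⟨fun a c t => ff hs T a (mid h3 a c) c 1 t, ?_, ?_⟩
  · intro a b hab hab' t
    have h := map_ff R π hs (av_mid_left h3 a b) (av_mid_right h3 a b) (av_ne_iff.2 ⟨hab, hab'⟩) 1 t
    rw [one_mul] at h
    exact h
  · intro a b c hab hab' hbc hbc' hac hac' t u x y hx hy
    have hab2 : av a ≠ av b := av_ne_iff.2 ⟨hab, hab'⟩
    have hbc2 : av b ≠ av c := av_ne_iff.2 ⟨hbc, hbc'⟩
    have hac2 : av a ≠ av c := av_ne_iff.2 ⟨hac, hac'⟩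
    show cm x y = ff hs T a (mid h3 a c) c 1 (t * u)
    rw [ff_eq π hc hs hx hy]
    by_cases ht : t = 0
    · rw [ht, zero_mul, ff_zero_left R π hc hs C hab2 hbc2 hac2,
        ff_zero_right R π hc hs C (av_mid_left h3 a c) (av_mid_right h3 a c) hac2]
    · rw [ff_scale R π hc hs C hab2 hbc2 hac2 ht u]
      exact ff_indep R π hc hs C hab2 hbc2 hac2 (av_mid_left h3 a c) (av_mid_right h3 a c) _

end Cfsg.Agent.Helper2.SpExtTH
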