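import Mathlib
import Cfsg.Agent.Lib.Helper2.Spa35
import Cfsg.Agent.Lib.Helper2.SympPerfect

set_option autoImplicit false
set_option linter.unusedSimpArgs false
set_option linter.unusedVariables false
set_option linter.unusedSectionVars false

/-! Local balance for the symplectic groups, part 5: a subgroup of order prime to `ℓ` normalised
by the inner automorphisms of the fixed symplectic matrices meets them trivially. -/

namespace Cfsg.Agent.Helper2.SpA

open Matrix Cfsg.Agent.Helper2.Symp Cfsg.Agent.Helper2.PU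
open scoped MatrixGroups

section powers

variable {m : ℕ} {F₀ : Type*} [Field F₀] (p : ℕ) [Fact p.Prime] [CharP F₀ p]

include p in
/-- the `p`-th power of every element of the symplectic group lies in the commutator subgroup -/
theorem pow_char_mem_commutator (s₀ : Matrix.symplecticGroup (Fin m) F₀) :
    s₀ ^ p ∈ commutator (Matrix.symplecticGroup (Fin m) F₀) := by
  rw [← Abelianization.ker_of, MonoidHom.mem_ker, map_pow]
  obtain ⟨ψ, hψ⟩ : ∃ ψ : Matrix.symplecticGroup (Fin m) F₀ →*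
      Abelianization (Matrix.symplecticGroup (Fin m) F₀),
      ψ = (powMonoidHom p).comp Abelianization.of := ⟨_, rfl⟩
  have hker : ψ.ker = ⊤ := by
    rw [eq_top_iff, ← tvGroup_top_eq_top (m := m) (F := F₀)]
    unfold tvGroup
    rw [Subgroup.closure_le]
    rintro g ⟨x, -, c, rfl⟩
    rw [SetLike.mem_coe, MonoidHom.mem_ker, hψ, MonoidHom.comp_apply, powMonoidHom_apply,
      ← map_pow]
    have h1 := pow_of_mem_rootGroup (F := F₀) p (mem_rootGroup.2 ⟨c, rfl⟩ : tv x c ∈ rootGroup x)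
    rw [pow_one] at h1
    rw [h1, map_one]
  have h1 : s₀ ∈ ψ.ker := by
    rw [hker]
    trivial
  rw [MonoidHom.mem_ker, hψ, MonoidHom.comp_apply, powMonoidHom_apply] at h1
  exact h1

end powers

section iwasawa

variable {m : ℕ} {F F₀ : Type*} [Field F] [Finite F] [Field F₀] [Finite F₀]
  (p : ℕ) [Fact p.Prime] [CharP F p] {σ : RingAut F} {j : F₀ →+* F}

omit [Finite F] [Finite F₀] in
theorem mapSp_negOne :
    mapSp (m := m) j (Cfsg.Agent.Helper2.Sp.negOne (Fin m) F₀) =
      Cfsg.Agent.Helper2.Sp.negOne (Fin m) F := by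
  apply Subtype.ext
  rw [mapSp_coe, Cfsg.Agent.Helper2.Sp.negOne_coe, Cfsg.Agent.Helper2.Sp.negOne_coe]
  ext a b
  simp only [Matrix.map_apply, Matrix.neg_apply, Matrix.one_apply]
  split_ifs <;> simp

omit [Finite F] [Finite F₀] in
theorem mkq_mapSp_of_center (hm : 0 < m) {s₀ : Matrix.symplecticGroup (Fin m) F₀}
    (hs₀ : s₀ ∈ Subgroup.center (Matrix.symplecticGroup (Fin m) F₀)) :
    mkq (mapSp j s₀) = 1 := by
  have : Nonempty (Fin m) := ⟨⟨0, hm⟩⟩
  rw [QuotientGroup.mk'_apply, QuotientGroup.eq_one_iff]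
  rcases (Cfsg.Agent.Helper2.Sp.mem_center_iff s₀).1 hs₀ with h | h
  · rw [h, map_one]
    exact Subgroup.one_mem _
  · rw [h, mapSp_negOne]
    exact Cfsg.Agent.Helper2.Sp.negOne_mem_center

include p in
/-- an element of the symplectic group over the subfield whose inner automorphism is trivial is
an involution or trivial -/
theorem sq_eq_one_of_thetaS_eq_one (hm : 0 < m) {s₀ : Matrix.symplecticGroup (Fin m) F₀}
    (h : thetaS (mapSp j s₀) = 1) : s₀ * s₀ = 1 := by
  rw [thetaS_apply, ← map_one (MulAut.conj : PGq m F →* MulAut (PGq m F))] at h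
  have h1 := conj_injective_S p hm h
  have h2 : mapSp j s₀ ∈ Subgroup.center (Matrix.symplecticGroup (Fin m) F) := by
    rw [← QuotientGroup.eq_one_iff]
    exact h1
  have h3 := center_sq_eq_one hm h2
  rw [← map_mul, ← map_one (mapSp (m := m) j)] at h3
  exact mapSp_injective j h3

open MulAction in
include p in
/-- **the Iwasawa argument**: a subgroup of order prime to `ℓ` normalised by the inner
automorphisms of the fixed symplectic matrices contains none of them but the identity -/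
theorem thetaS_eq_one_of_mem (hm : 2 ≤ m) (D : DescS σ j) {ℓ : ℕ} (hℓ : ℓ.Prime) (hℓp : ℓ ≠ p)
    (N₁ : Subgroup (MulAut (PGq m F)))
    (hnorm : ∀ t ∈ SpFix (m := m) σ, ∀ n ∈ N₁, thetaS t * n * (thetaS t)⁻¹ ∈ N₁)
    (hcop : (Nat.card N₁).Coprime ℓ)
    (hdiv : ℓ ≠ 2 → ℓ ∣ Nat.card ↥(SpFix (m := m) σ))
    {t : Matrix.symplecticGroup (Fin m) F} (ht : t ∈ SpFix σ) (htN : thetaS t ∈ N₁) :
    thetaS t = 1 := by
  have hm0 : 0 < m := by omega
  have hne : Nonempty (Fin m) := ⟨⟨0, hm0⟩⟩
  have hcharF₀ : CharP F₀ p := RingHom.charP j j.injective p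
  have hfin₀ := finite_symp' (m := m) (F := F₀)
  obtain ⟨θ₀, hθ₀⟩ : ∃ θ₀ : Matrix.symplecticGroup (Fin m) F₀ →* MulAut (PGq m F),
      θ₀ = (thetaS (m := m) (F := F)).comp (mapSp j) := ⟨_, rfl⟩
  have hθ₀a : ∀ s₀, θ₀ s₀ = thetaS (mapSp j s₀) := by
    intro s₀
    rw [hθ₀]
    rfl
  have hmemfix : ∀ s₀, mapSp (m := m) j s₀ ∈ SpFix σ := by
    intro s₀
    rw [← range_mapSp D]
    exact ⟨s₀, rfl⟩
  obtain ⟨M₀, hM₀⟩ : ∃ M₀ : Subgroup (Matrix.symplecticGroup (Fin m) F₀), M₀ = N₁.comap θ₀ :=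
    ⟨_, rfl⟩
  have hM₀n : M₀.Normal := by
    constructor
    intro s hs h
    rw [hM₀, Subgroup.mem_comap] at hs ⊢
    rw [map_mul, map_mul, map_inv, hθ₀a h]
    exact hnorm _ (hmemfix h) _ hs
  -- an element of the kernel of order dividing a power of `ℓ` is trivial in `N₁`
  have hkill : ∀ s₀ ∈ M₀, ∀ k : ℕ, s₀ ^ (ℓ ^ k) ∈ θ₀.ker → θ₀ s₀ = 1 := by
    intro s₀ hs₀ k hk
    rw [hM₀, Subgroup.mem_comap] at hs₀
    rw [MonoidHom.mem_ker, map_pow] at hk
    have h1 : orderOf (θ₀ s₀) ∣ ℓ ^ k := orderOf_dvd_of_pow_eq_one hk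
    have h2 : orderOf (θ₀ s₀) ∣ Nat.card N₁ := by
      rw [← Subgroup.orderOf_mk (θ₀ s₀) hs₀]
      exact orderOf_dvd_natCard _
    have h3 : orderOf (θ₀ s₀) = 1 :=
      Nat.eq_one_of_dvd_coprimes (Nat.Coprime.pow_right k hcop) h2 h1
    exact orderOf_eq_one_iff.1 h3
  have hprim := isPreprimitive_proj (m := m) (F := F₀)
  obtain ⟨s₀, rfl⟩ : ∃ s₀, mapSp j s₀ = t := by
    have : t ∈ (mapSp (m := m) j).range := by rw [range_mapSp D]; exact ht
    exact this
  by_cases hfix : fixedPoints M₀ (Projectivization F₀ (Fin m ⊕ Fin m → F₀)) = Set.univ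
  · have hs₀M : s₀ ∈ M₀ := by
      rw [hM₀, Subgroup.mem_comap, hθ₀a]
      exact htN
    have hgZ : s₀ ∈ Subgroup.center (Matrix.symplecticGroup (Fin m) F₀) := by
      apply mem_center_of_fixes
      intro q
      have hq : q ∈ fixedPoints M₀ (Projectivization F₀ (Fin m ⊕ Fin m → F₀)) := by
        rw [hfix]; trivial
      exact hq ⟨s₀, hs₀M⟩
    rw [thetaS_apply, mkq_mapSp_of_center hm0 hgZ, map_one]
  · exfalso
    have hcomm := (spIwasawa m F₀).commutator_le M₀ hfix
    by_cases h2 : ℓ = 2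
    · -- the case `ℓ = 2`: the group over the subfield is perfect
      subst h2
      have hfin : Fintype F₀ := Fintype.ofFinite F₀
      have h2F₀ : (2 : F₀) ≠ 0 := by
        intro h
        have h5 : ((2 : ℕ) : F₀) = 0 := by exact_mod_cast h
        have h6 := (CharP.cast_eq_zero_iff F₀ p 2).1 h5
        exact hℓp ((Nat.prime_dvd_prime_iff_eq (Fact.out : p.Prime) Nat.prime_two).1 h6).symm
      have hcard : 3 ≤ Fintype.card F₀ := by
        have h1 : (-1 : F₀) ≠ 1 := by
          intro h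
          apply h2F₀
          linear_combination -h
        have := Fintype.two_lt_card_iff.2 ⟨(0 : F₀), 1, -1, zero_ne_one,
          (neg_ne_zero.2 one_ne_zero).symm, h1.symm⟩
        omega
      have hperf := commutator_symplecticGroup_eq_top (F := F₀) m (by
        by_cases h3 : 3 ≤ m
        · exact Or.inl h3
        · exact Or.inr (Or.inl ⟨by omega, hcard⟩))
      rw [hperf, top_le_iff] at hcomm
      obtain ⟨sJ, hsJ⟩ : ∃ sJ : Matrix.symplecticGroup (Fin m) F₀,
          sJ = ⟨Matrix.J (Fin m) F₀, SymplecticGroup.J_mem _ _⟩ := ⟨_, rfl⟩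
      have hsq : sJ ^ (2 ^ 1) = Cfsg.Agent.Helper2.Sp.negOne (Fin m) F₀ := by
        rw [pow_one, pow_two, hsJ]
        apply Subtype.ext
        exact Matrix.J_squared _ _
      have hker : sJ ^ (2 ^ 1) ∈ θ₀.ker := by
        rw [hsq, MonoidHom.mem_ker, hθ₀a, thetaS_apply,
          mkq_mapSp_of_center hm0 Cfsg.Agent.Helper2.Sp.negOne_mem_center, map_one]
      have h1 := hkill sJ (by rw [hcomm]; trivial) 1 hker
      rw [hθ₀a] at h1
      have h3 := sq_eq_one_of_thetaS_eq_one p hm0 h1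
      rw [← pow_two, ← pow_one 2, hsq] at h3
      have h4 := Cfsg.Agent.Helper2.Sp.negOne_eq_one_iff.1 h3
      apply h2F₀
      linear_combination -h4
    · -- the case `ℓ` odd: the index of the commutator subgroup is a power of `p`
      have hdvd : ℓ ∣ Nat.card (Matrix.symplecticGroup (Fin m) F₀) := by
        have h1 := Subgroup.card_range_dvd (mapSp (m := m) j)
        rw [range_mapSp D] at h1
        exact dvd_trans (hdiv h2) h1
      have hQ : IsPGroup p (Matrix.symplecticGroup (Fin m) F₀ ⧸ M₀) := by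
        intro q
        obtain ⟨s, rfl⟩ := QuotientGroup.mk_surjective q
        refine ⟨1, ?_⟩
        rw [pow_one, ← QuotientGroup.mk_pow, QuotientGroup.eq_one_iff]
        exact hcomm (pow_char_mem_commutator p s)
      obtain ⟨k, hk⟩ := IsPGroup.iff_card.1 hQ
      have hcard := Subgroup.card_eq_card_quotient_mul_card_subgroup M₀
      rw [hk] at hcard
      rw [hcard] at hdvd
      have hdvdM : ℓ ∣ Nat.card M₀ := by
        rcases (Nat.Prime.dvd_mul hℓ).1 hdvd with h | h
        · exfalso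
          have h5 := hℓ.dvd_of_dvd_pow h
          exact hℓp ((Nat.prime_dvd_prime_iff_eq hℓ (Fact.out : p.Prime)).1 h5)
        · exact h
      have hfact : Fact ℓ.Prime := ⟨hℓ⟩
      obtain ⟨x, hx⟩ := exists_prime_orderOf_dvd_card' ℓ hdvdM
      obtain ⟨s, hsM⟩ := x
      have hords : orderOf s = ℓ := by
        rw [← hx]
        exact (Subgroup.orderOf_mk s hsM).symm
      have hker : s ^ (ℓ ^ 1) ∈ θ₀.ker := by
        rw [pow_one, ← hords, pow_orderOf_eq_one]
        exact Subgroup.one_mem _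
      have h1 := hkill s hsM 1 hker
      rw [hθ₀a] at h1
      have h3 := sq_eq_one_of_thetaS_eq_one p hm0 h1
      rw [← pow_two] at h3
      have h4 := orderOf_dvd_of_pow_eq_one h3
      rw [hords] at h4
      exact h2 ((Nat.prime_dvd_prime_iff_eq hℓ Nat.prime_two).1 h4)

end iwasawa

end Cfsg.Agent.Helper2.SpA
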