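import Mathlib
import Cfsg.Agent.Lib.Helper2.Spa36

set_option autoImplicit false
set_option linter.unusedSimpArgs false
set_option linter.unusedVariables false
set_option linter.unusedSectionVars false

/-! Local balance for the symplectic groups, part 6: in characteristic two and dimension four, an
automorphism fixing a long root element is standard. -/

namespace Cfsg.Agent.Helper2.SpA

open Matrix Cfsg.Agent.Helper2.Symp Cfsg.Agent.Helper2.PU
open scoped MatrixGroups

section exc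

variable {F : Type*} [Field F] [Finite F] (p : ℕ) [Fact p.Prime] [CharP F p]

omit [Finite F] in
/-- a long root element is not a short root element -/
theorem tv_ne_sgG_short {e₀ e' f' w' : Fin 2 ⊕ Fin 2 → F} (hfe' : Bf f' e' = 1)
    (hw' : InW e' f' w') (hw'0 : w' ≠ 0) (a : F) : tv e₀ a ≠ sgG e' w' 0 := by
  intro h
  obtain ⟨w'', hw'', hw''w'⟩ := exists_partner_inW hfe' hw' hw'0
  have h1 := congrArg (fun s : Matrix.symplecticGroup (Fin 2) F => s • f') h
  have h3 := congrArg (fun s : Matrix.symplecticGroup (Fin 2) F => s • w'') h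
  simp only [tv_smul, sgG_smul hw'.symm1] at h1 h3
  rw [add_assoc, add_right_inj, hfe', one_smul, hw'.symm2, zero_add, zero_mul, zero_smul,
    add_zero] at h1
  rw [add_assoc, add_right_inj, hw''.1, zero_smul, zero_add, hw''w', zero_mul, add_zero,
    one_smul] at h3
  -- `w'` and `e'` are both multiples of `e₀`
  have h5 : Bf f' w' = 0 := hw'.symm2
  rw [← h1, Bf_smul_right] at h5
  have h6 : Bf f' e' = 1 := hfe'
  rw [← h3, Bf_smul_right] at h6
  have h7 : Bf f' e₀ ≠ 0 := by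
    intro h0
    rw [h0, mul_zero] at h6
    exact zero_ne_one h6
  rcases mul_eq_zero.1 h5 with h8 | h8
  · apply hw'0
    rw [← h1, h8, zero_smul]
  · exact h7 h8

include p in
/-- in characteristic two and dimension four, an automorphism fixing the image of a long root
element is standard -/
theorem mem_GamS_of_fixes_tv (h2 : (2 : F) = 0) (n : MulAut (PGq 2 F))
    (hfix : n (mkq (tv (eV (0 : Fin 2)) 1)) = mkq (tv (eV (0 : Fin 2)) 1)) :
    n ∈ GamS 2 F := by
  by_contra hn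
  have hfe : Bf (fV (0 : Fin 2) : Fin 2 ⊕ Fin 2 → F) (eV 0) = 1 := Bf_fV_eV 0
  have hfinG := finite_symp' (m := 2) (F := F)
  have hne := nonempty_of_pair hfe
  obtain ⟨P, hQP⟩ := (isPGroup_Qg p (eV (0 : Fin 2) : Fin 2 ⊕ Fin 2 → F)).exists_le_sylow
  obtain ⟨x, n₁, hnx, hn₁P⟩ := exists_sylow_normal_form p hfe P n
  have hn₁ : n₁ ∉ GamS 2 F := by
    intro h
    apply hn
    rw [hnx]
    exact (GamS 2 F).mul_mem (inn_le_GamS ⟨mkq x, rfl⟩) h
  rcases map_Xb_of_sylow2 p h2 hfe P.2 hQP n₁ hn₁P with h | ⟨w, hw, hw0, h⟩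
  · exact hn₁ (mem_GamS_of_long_four p h2 n₁ ⟨1, by rw [one_smul]; exact h⟩)
  · have h1 : n₁ (mkq (tv (eV (0 : Fin 2)) 1)) ∈ Yb (eV (0 : Fin 2) : Fin 2 ⊕ Fin 2 → F) w := by
      rw [← h]
      exact ⟨_, ⟨_, mem_rootGroup.2 ⟨1, rfl⟩, rfl⟩, rfl⟩
    obtain ⟨y, hy, hyeq⟩ := h1
    obtain ⟨b, rfl⟩ := (mem_Yg hw.symm1 y).1 hy
    rw [hnx, MulAut.mul_apply, ← hyeq, MulAut.conj_apply, ← map_inv, ← map_mul, ← map_mul,
      conj_sgG, smul_smul'] at hfix
    have h3 := mkq_injective_of_two h2 hfix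
    have hb0 : b ≠ 0 := by
      rintro rfl
      rw [zero_smul, sgG_zero] at h3
      exact one_ne_zero ((tv_eq_one_iff (eV_ne_zero 0) _).1 h3.symm)
    have hfe' : Bf (x • (fV (0 : Fin 2) : Fin 2 ⊕ Fin 2 → F)) (x • eV 0) = 1 := by
      rw [Bf_smul_smul, hfe]
    have hw' : InW (x • (eV (0 : Fin 2) : Fin 2 ⊕ Fin 2 → F)) (x • fV 0) (b • x • w) := by
      apply InW.smul
      exact ⟨by rw [Bf_smul_smul, hw.1], by rw [Bf_smul_smul, hw.2]⟩
    have hw'0 : b • x • w ≠ 0 := by
      intro h0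
      rcases smul_eq_zero.1 h0 with h4 | h4
      · exact hb0 h4
      · exact hw0 ((smul_eq_zero_iff' x w).1 h4)
    exact tv_ne_sgG_short hfe' hw' hw'0 1 h3.symm

end exc

end Cfsg.Agent.Helper2.SpA
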