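import Mathlib
import Cfsg.Agent.Lib.Helper2.Spa37

set_option autoImplicit false
set_option linter.unusedSimpArgs false
set_option linter.unusedVariables false
set_option linter.unusedSectionVars false

/-! Local balance for the symplectic groups, part 7: the centralizer of a standard field
automorphism of prime order `ℓ` has no nontrivial normal subgroup of order prime to `ℓ`, when `ℓ`
divides the number of fixed points. -/

namespace Cfsg.Agent.Helper2.SpA

open Matrix Cfsg.Agent.Helper2.Symp Cfsg.Agent.Helper2.PU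
open Cfsg.Agent.Helper13.FAut (fixedField mem_fixedField)
open scoped MatrixGroups

section core

variable {m : ℕ} {F : Type*} [Field F] [Finite F] (p : ℕ) [Fact p.Prime] [CharP F p]

include p in
/-- an automorphism fixing the images of the fixed symplectic matrices is standard -/
theorem mem_GamS_of_fixes (hm : 2 ≤ m) (σ : RingAut F) (n : MulAut (PGq m F))
    (hfix : ∀ t ∈ SpFix (m := m) σ, n (mkq t) = mkq t) : n ∈ GamS m F := by
  by_cases h : m = 2 ∧ (2 : F) = 0
  · obtain ⟨rfl, h2⟩ := h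
    apply mem_GamS_of_fixes_tv p h2
    apply hfix
    exact tv_mem_SpFix σ (comp_single σ _) (map_one σ)
  · rw [GamS_eq_top p hm (fun hm2 h2 => h ⟨hm2, h2⟩)]
    trivial

include p in
theorem fix_of_comm_eq_one (hm : 0 < m) {n : MulAut (PGq m F)}
    {t : Matrix.symplecticGroup (Fin m) F} (h : n * thetaS t * n⁻¹ * (thetaS t)⁻¹ = 1) :
    n (mkq t) = mkq t := by
  rw [thetaS_apply, aut_conj_conj, mul_inv_eq_one] at h
  exact conj_injective_S p hm h

include p in
/-- **the core theorem for a standard field automorphism** -/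
theorem core_phi (hm : 2 ≤ m) (σ : RingAut F) {ℓ : ℕ} (hℓ : ℓ.Prime) (hℓp : ℓ ≠ p)
    (hord : orderOf σ = ℓ) (N : Subgroup (MulAut (PGq m F)))
    (hNC : N ≤ Subgroup.centralizer {phiS (m := m) σ})
    (hnorm : ∀ t ∈ SpFix (m := m) σ, ∀ n ∈ N, thetaS t * n * (thetaS t)⁻¹ ∈ N)
    (hcop : (Nat.card N).Coprime ℓ)
    (hdiv : ℓ ∣ Nat.card ↥(MonoidHom.eqLocus (phiS (m := m) σ).toMonoidHom
      (MonoidHom.id (PGq m F)))) : N = ⊥ := by
  have hm0 : 0 < m := by omega
  have hfinG := finite_symp' (m := m) (F := F)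
  have hfinQ : Finite (PGq m F) := Finite.of_surjective _ (mkq_surjective (m := m) (F := F))
  have D := descS_fixedField σ
  have hfin₀ : Finite (fixedField σ) := inferInstance
  have hdiv' : ℓ ≠ 2 → ℓ ∣ Nat.card ↥(SpFix (m := m) σ) :=
    fun h2 => dvd_card_SpFix hm0 σ hℓ h2 hdiv
  -- elements of `N` in the cyclic group generated by the field automorphism are trivial
  have hcyc : ∀ n ∈ N, n ∈ Subgroup.zpowers (phiS (m := m) σ) → n = 1 := by
    intro n hnN hnz
    obtain ⟨k, rfl⟩ := Subgroup.mem_zpowers_iff.1 hnz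
    have h1 : (phiS (m := m) σ ^ k) ^ ℓ = 1 := by
      rw [← zpow_natCast, ← _root_.zpow_mul, mul_comm, _root_.zpow_mul, zpow_natCast, ← hord,
        ← orderOf_phiS (m := m) p hm0 σ, pow_orderOf_eq_one, _root_.one_zpow]
    have h2 : orderOf (phiS (m := m) σ ^ k) ∣ ℓ := orderOf_dvd_of_pow_eq_one h1
    have h3 : orderOf (phiS (m := m) σ ^ k) ∣ Nat.card N := by
      rw [← Subgroup.orderOf_mk _ hnN]
      exact orderOf_dvd_natCard _
    exact orderOf_eq_one_iff.1 (Nat.eq_one_of_dvd_coprimes hcop h3 h2)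
  -- an element of `N` commuting with the inner automorphisms of the fixed matrices is trivial
  have hfixone : ∀ n ∈ N, (∀ t ∈ SpFix (m := m) σ, n (mkq t) = mkq t) → n = 1 := by
    intro n hnN hfix
    have hΓ := mem_GamS_of_fixes p hm σ n hfix
    exact hcyc n hnN (mem_zpowers_of_fixes p hm σ n hΓ hfix)
  -- the inner part
  obtain ⟨N₁, hN₁⟩ : ∃ N₁ : Subgroup (MulAut (PGq m F)), N₁ = N ⊓ Cfsg.Inn (PGq m F) :=
    ⟨_, rfl⟩
  have hnorm₁ : ∀ t ∈ SpFix (m := m) σ, ∀ n ∈ N₁, thetaS t * n * (thetaS t)⁻¹ ∈ N₁ := by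
    intro t ht n hn
    rw [hN₁] at hn ⊢
    exact ⟨hnorm t ht n hn.1, (Cfsg.innNormal (PGq m F)).conj_mem n hn.2 (thetaS t)⟩
  have hcop₁ : (Nat.card N₁).Coprime ℓ := by
    have h1 : Nat.card N₁ ∣ Nat.card N := by
      rw [hN₁]
      exact Subgroup.card_dvd_of_le inf_le_left
    exact Nat.Coprime.coprime_dvd_left h1 hcop
  have hI := fun (t : Matrix.symplecticGroup (Fin m) F) (ht : t ∈ SpFix (m := m) σ)
      (htN : thetaS t ∈ N₁) =>
    thetaS_eq_one_of_mem (F₀ := fixedField σ) p hm D hℓ hℓp N₁ hnorm₁ hcop₁ hdiv' ht htN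
  have hN₁bot : ∀ n₁ ∈ N₁, n₁ = 1 := by
    intro n₁ hn₁
    have hn₁' := hn₁
    rw [hN₁] at hn₁'
    obtain ⟨hn₁N, k, hk⟩ := hn₁'
    have hkfix : phiS (m := m) σ k = k := by
      apply fix_of_conj_mem_centralizer (conj_injective_S p hm0)
      rw [hk]
      exact hNC hn₁N
    apply hfixone n₁ hn₁N
    intro t ht
    apply fix_of_comm_eq_one p hm0
    obtain ⟨t', ht', htt'⟩ := conj_mkq_of_fixed hkfix ht
    have h1 : n₁ * thetaS t * n₁⁻¹ = thetaS t' := by
      rw [← hk, thetaS_apply, thetaS_apply, ← map_inv, ← map_mul, ← map_mul, htt']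
    have h2 : n₁ * thetaS t * n₁⁻¹ * (thetaS t)⁻¹ = thetaS (t' * t⁻¹) := by
      rw [h1, map_mul, map_inv]
    rw [h2]
    apply hI _ ((SpFix σ).mul_mem ht' ((SpFix σ).inv_mem ht))
    rw [← h2]
    have h3 : n₁ * thetaS t * n₁⁻¹ * (thetaS t)⁻¹ = n₁ * (thetaS t * n₁⁻¹ * (thetaS t)⁻¹) := by
      group
    rw [h3]
    exact N₁.mul_mem hn₁ (hnorm₁ t ht _ (N₁.inv_mem hn₁))
  -- the general case
  rw [eq_bot_iff]
  intro n hnN
  rw [Subgroup.mem_bot]
  apply hfixone n hnN
  intro t ht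
  apply fix_of_comm_eq_one p hm0
  apply hN₁bot
  rw [hN₁]
  constructor
  · have h3 : n * thetaS t * n⁻¹ * (thetaS t)⁻¹ = n * (thetaS t * n⁻¹ * (thetaS t)⁻¹) := by
      group
    rw [h3]
    exact N.mul_mem hnN (hnorm t ht _ (N.inv_mem hnN))
  · exact (Cfsg.Inn (PGq m F)).mul_mem
      ((Cfsg.innNormal (PGq m F)).conj_mem _ (thetaS_mem_inn t) n)
      ((Cfsg.Inn (PGq m F)).inv_mem (thetaS_mem_inn t))

end core

end Cfsg.Agent.Helper2.SpA
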