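import Mathlib
import Cfsg.Agent.Lib.Helper2.Spa38

set_option autoImplicit false
set_option linter.unusedSimpArgs false
set_option linter.unusedVariables false
set_option linter.unusedSectionVars false

/-! Local balance for the symplectic groups, part 8: the criterion for automorphisms of prime
order which are not inner-diagonal. -/

namespace Cfsg.Agent.Helper2.SpA

open Matrix Cfsg.Agent.Helper2.Symp Cfsg.Agent.Helper2.PU
open scoped MatrixGroups

section final

variable {m : ℕ} {F : Type*} [Field F] [Finite F] (p : ℕ) [Fact p.Prime] [CharP F p]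

include p in
/-- an automorphism of prime order different from the characteristic which is not
inner-diagonal is conjugate, under the inner-diagonal group, to a standard field automorphism -/
theorem exists_conj_phiS_of_prime (hm : 2 ≤ m) (x : MulAut (PGq m F)) {ℓ : ℕ} (hℓ : ℓ.Prime)
    (hℓp : ℓ ≠ p) (hord : orderOf x = ℓ) (hnot : ¬ Cfsg.IsInnerDiagonalAutPSp x) :
    ∃ (a : MulAut (PGq m F)) (σ : RingAut F), orderOf σ = ℓ ∧ x = a * phiS σ * a⁻¹ := by
  have hm0 : 0 < m := by omega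
  have hxℓ : x ^ ℓ = 1 := by rw [← hord]; exact pow_orderOf_eq_one x
  have hxΓ : x ∈ GamS m F := by
    by_cases h : m = 2 ∧ (2 : F) = 0
    · obtain ⟨rfl, h2⟩ := h
      by_contra hx
      have h1 := mul_mem_GamS_four p h2 x x hx hx
      have hp2 : p = 2 := by
        have h5 : ((2 : ℕ) : F) = 0 := by exact_mod_cast h2
        have h6 := (CharP.cast_eq_zero_iff F p 2).1 h5
        exact (Nat.prime_dvd_prime_iff_eq (Fact.out : p.Prime) Nat.prime_two).1 h6
      have hodd : Odd ℓ := hℓ.odd_of_ne_two (by rw [← hp2]; exact hℓp)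
      obtain ⟨k, hk⟩ := hodd
      apply hx
      have h3 : x = (x * x) ^ (k + 1) := by
        rw [← pow_two, ← pow_mul]
        have : 2 * (k + 1) = ℓ + 1 := by omega
        rw [this, pow_succ, hxℓ, one_mul]
      rw [h3]
      exact (GamS 2 F).pow_mem h1 _
    · rw [GamS_eq_top p hm (fun hm2 h2 => h ⟨hm2, h2⟩)]
      trivial
  obtain ⟨σ, g, hg, rfl⟩ := hxΓ
  have hσ1 : σ ≠ 1 := by
    rintro rfl
    apply hnot
    rw [isInnDiagPSp_iff]
    exact ⟨⟨g, hg⟩, rfl⟩
  rw [← psiS_mul_phiS ⟨g, hg⟩ σ] at hxℓ ⊢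
  have hσℓ : σ ^ ℓ = 1 := by
    have h1 := hxℓ
    rw [pow_psiS_mul_phiS] at h1
    have h2 : psiS (gnormS σ ⟨g, hg⟩ ℓ) * phiS (σ ^ ℓ) =
        psiS (1 : Cfsg.GSp m F) * phiS (m := m) (1 : RingAut F) := by
      rw [h1, map_one, map_one, one_mul]
    exact (eq_of_psiS_mul_phiS_eq p hm0 h2).1
  have hordσ : orderOf σ = ℓ := by
    have h1 : orderOf σ ∣ ℓ := orderOf_dvd_of_pow_eq_one hσℓ
    rcases (Nat.dvd_prime hℓ).1 h1 with h | h
    · exact absurd (orderOf_eq_one_iff.1 h) hσ1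
    · exact h
  obtain ⟨h, hh⟩ := exists_conj_phiS p hm0 σ ℓ (sigHypS_of_order σ ℓ hℓ.pos hordσ) ⟨g, hg⟩ hxℓ
  exact ⟨psiS h, σ, hordσ, hh⟩

include p in
theorem mkq_tv_ne_one (hm : 0 < m) :
    mkq (tv (eV (⟨0, hm⟩ : Fin m) : Fin m ⊕ Fin m → F) 1) ≠ 1 := by
  intro h
  have hfe : Bf (fV (⟨0, hm⟩ : Fin m) : Fin m ⊕ Fin m → F) (eV ⟨0, hm⟩) = 1 := Bf_fV_eV _
  rw [← map_one (mkq (m := m) (F := F))] at h
  have h1 := mkq_inj_of_pow p hfe (pow_of_mem_rootGroup p (mem_rootGroup.2 ⟨1, rfl⟩))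
    (a := 1) (b := 0) (one_pow _) h
  exact one_ne_zero ((tv_eq_one_iff (eV_ne_zero _) _).1 h1)

include p in
/-- **the criterion**, for a conjugate of a standard field automorphism of prime order -/
theorem core_criterion (hm : 2 ≤ m) (A : Subgroup (MulAut (PGq m F)))
    (hinn : ∀ k : PGq m F, MulAut.conj k ∈ A) {ℓ : ℕ} (hℓ : ℓ.Prime) (hℓp : ℓ ≠ p)
    (a : MulAut (PGq m F)) (σ : RingAut F) (hord : orderOf σ = ℓ) :
    (∃ N : Subgroup (MulAut (PGq m F)),
      N ≤ A ⊓ Subgroup.centralizer {a * phiS σ * a⁻¹} ∧ N ≠ ⊥ ∧ (Nat.card N).Coprime ℓ ∧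
      ∀ h ∈ A ⊓ Subgroup.centralizer {a * phiS σ * a⁻¹}, ∀ n ∈ N, h * n * h⁻¹ ∈ N) ↔
    Nat.Coprime ℓ (Nat.card ↥(MonoidHom.eqLocus (a * phiS σ * a⁻¹).toMonoidHom
      (MonoidHom.id (PGq m F)))) := by
  have hm0 : 0 < m := by omega
  obtain ⟨x, hx⟩ : ∃ x : MulAut (PGq m F), x = a * phiS σ * a⁻¹ := ⟨_, rfl⟩
  rw [← hx]
  constructor
  · rintro ⟨N, hNC, hne, hcop, hnorm⟩
    rw [hℓ.coprime_iff_not_dvd]
    intro hdvd
    rw [hx, card_eqLocus_conj] at hdvd
    apply hne
    -- transport to the standard field automorphism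
    obtain ⟨N', hN'⟩ : ∃ N' : Subgroup (MulAut (PGq m F)),
        N' = N.map (MulAut.conj a⁻¹).toMonoidHom := ⟨_, rfl⟩
    have hmem' : ∀ n', n' ∈ N' ↔ a * n' * a⁻¹ ∈ N := by
      intro n'
      rw [hN']
      constructor
      · rintro ⟨n, hn, rfl⟩
        simp only [MulEquiv.coe_toMonoidHom, MulAut.conj_apply, inv_inv]
        have : a * (a⁻¹ * n * a) * a⁻¹ = n := by group
        rw [this]
        exact hn
      · intro h
        refine ⟨a * n' * a⁻¹, h, ?_⟩
        simp only [MulEquiv.coe_toMonoidHom, MulAut.conj_apply, inv_inv]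
        group
    have hN'bot : N' = ⊥ := by
      apply core_phi p hm σ hℓ hℓp hord N'
      · intro n' hn'
        have h1 : a * n' * a⁻¹ ∈ Subgroup.centralizer {x} := (hNC ((hmem' n').1 hn')).2
        rw [Subgroup.mem_centralizer_singleton_iff, hx] at h1
        rw [Subgroup.mem_centralizer_singleton_iff]
        calc n' * phiS σ = a⁻¹ * (a * n' * a⁻¹ * (a * phiS σ * a⁻¹)) * a := by group
          _ = a⁻¹ * (a * phiS σ * a⁻¹ * (a * n' * a⁻¹)) * a := by rw [h1]
          _ = phiS σ * n' := by group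
      · intro t ht n' hn'
        rw [hmem']
        have hc : a * thetaS t * a⁻¹ ∈ A ⊓ Subgroup.centralizer {x} := by
          refine Subgroup.mem_inf.2 ⟨?_, ?_⟩
          · rw [thetaS_apply, aut_conj_conj]
            exact hinn _
          · have h1 := thetaS_mem_centralizer (σ := σ) ht
            rw [Subgroup.mem_centralizer_singleton_iff] at h1
            rw [Subgroup.mem_centralizer_singleton_iff, hx]
            calc a * thetaS t * a⁻¹ * (a * phiS σ * a⁻¹) = a * (thetaS t * phiS σ) * a⁻¹ := by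
                  group
              _ = a * (phiS σ * thetaS t) * a⁻¹ := by rw [h1]
              _ = a * phiS σ * a⁻¹ * (a * thetaS t * a⁻¹) := by group
        have h2 := hnorm _ hc _ ((hmem' n').1 hn')
        have h3 : a * (thetaS t * n' * (thetaS t)⁻¹) * a⁻¹ =
            a * thetaS t * a⁻¹ * (a * n' * a⁻¹) * (a * thetaS t * a⁻¹)⁻¹ := by group
        rw [h3]
        exact h2
      · rw [hN', Subgroup.card_map_of_injective (MulAut.conj a⁻¹).injective]
        exact hcop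
      · exact hdvd
    rw [hN', Subgroup.map_eq_bot_iff_of_injective _ (MulAut.conj a⁻¹).injective] at hN'bot
    exact hN'bot
  · intro hcop
    obtain ⟨Fx, hFx⟩ : ∃ Fx : Subgroup (PGq m F),
        Fx = MonoidHom.eqLocus x.toMonoidHom (MonoidHom.id (PGq m F)) := ⟨_, rfl⟩
    have hFxmem : ∀ k, k ∈ Fx ↔ x k = k := by
      intro k
      rw [hFx]
      rfl
    rw [← hFx] at hcop
    refine ⟨Fx.map (MulAut.conj : PGq m F →* MulAut (PGq m F)), ?_, ?_, ?_, ?_⟩
    · rintro _ ⟨k, hk, rfl⟩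
      exact Subgroup.mem_inf.2 ⟨hinn k, fix_conj_mem_centralizer x ((hFxmem k).1 hk)⟩
    · intro hbot
      rw [Subgroup.map_eq_bot_iff_of_injective _ (conj_injective_S p hm0)] at hbot
      have h1 : a (mkq (tv (eV (⟨0, hm0⟩ : Fin m) : Fin m ⊕ Fin m → F) 1)) ∈ Fx := by
        rw [hFxmem, hx]
        simp only [MulAut.mul_apply, MulAut.inv_apply_self]
        have hv : σ ∘ (eV (⟨0, hm0⟩ : Fin m) : Fin m ⊕ Fin m → F) = eV ⟨0, hm0⟩ :=
          comp_single σ (Sum.inl ⟨0, hm0⟩)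
        rw [phiS_mkq_of_mem (tv_mem_SpFix σ hv (map_one σ))]
      rw [hbot, Subgroup.mem_bot] at h1
      apply mkq_tv_ne_one (F := F) p hm0
      apply a.injective
      rw [h1, map_one]
    · rw [Subgroup.card_map_of_injective (conj_injective_S p hm0)]
      exact hcop.symm
    · rintro c hc' _ ⟨k, hk, rfl⟩
      have hc : c ∈ Subgroup.centralizer {x} := (Subgroup.mem_inf.1 hc').2
      rw [Subgroup.mem_centralizer_singleton_iff] at hc
      have hk' : k ∈ Fx := hk
      have hk2 : x k = k := (hFxmem k).1 hk'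
      refine ⟨c k, (hFxmem _).2 ?_, (aut_conj_conj c k).symm⟩
      have h1 : (x * c) k = (c * x) k := by rw [hc]
      rw [MulAut.mul_apply, MulAut.mul_apply, hk2] at h1
      exact h1

end final

end Cfsg.Agent.Helper2.SpA
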