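import Mathlib
import Cfsg.Prelude.Def_Blocks
import Cfsg.Agent.Lib.Helper24.CharOrtho

set_option autoImplicit false
set_option linter.unusedSectionVars false
set_option linter.unusedSimpArgs false
set_option linter.unusedVariables false
set_option linter.style.openClassical false

/-! Groups partitioned by the conjugates of trivial intersection subgroups: class functions with
prescribed values and the class sum formula. -/

namespace Cfsg.Agent.Helper2.CT

open Cfsg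
open scoped ComplexConjugate
open Classical

/-- a family of trivial intersection subgroups `K i` with normalizers `N i` whose conjugates
partition the nonidentity elements -/
structure TIP (G : Type*) [Group G] (ι : Type*) where
  /-- the trivial intersection subgroups -/
  K : ι → Subgroup G
  /-- their normalizers -/
  N : ι → Subgroup G
  le : ∀ i, K i ≤ N i
  norm : ∀ i n, n ∈ N i → ∀ k ∈ K i, n * k * n⁻¹ ∈ K i
  ti : ∀ i k, k ∈ K i → k ≠ 1 → ∀ g : G, g * k * g⁻¹ ∈ K i → g ∈ N i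
  cover : ∀ g : G, g ≠ 1 → ∃ i, ∃ x : G, x * g * x⁻¹ ∈ K i
  disj : ∀ i j, i ≠ j → ∀ k ∈ K i, k ≠ 1 → ∀ x : G, x * k * x⁻¹ ∉ K j

variable {G : Type*} [Group G] {ι : Type*} (P : TIP G ι)

namespace TIP

theorem conj_ne_one {g x : G} (hg : g ≠ 1) : x * g * x⁻¹ ≠ 1 := by
  intro h
  apply hg
  calc g = x⁻¹ * (x * g * x⁻¹) * x := by group
    _ = 1 := by rw [h]; group

theorem mem_iff {i : ι} {g x₀ : G} (h : x₀ * g * x₀⁻¹ ∈ P.K i) (h1 : g ≠ 1) (n : G) :
    (n * x₀) * g * (n * x₀)⁻¹ ∈ P.K i ↔ n ∈ P.N i := by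
  have e : (n * x₀) * g * (n * x₀)⁻¹ = n * (x₀ * g * x₀⁻¹) * n⁻¹ := by group
  rw [e]
  constructor
  · intro h2
    exact P.ti i _ h (conj_ne_one h1) n h2
  · intro hn
    exact P.norm i n hn _ h

theorem not_mem_of_ne {i j : ι} (hij : i ≠ j) {g x₀ : G} (h : x₀ * g * x₀⁻¹ ∈ P.K i) (h1 : g ≠ 1)
    (x : G) : x * g * x⁻¹ ∉ P.K j := by
  have e : x * g * x⁻¹ = (x * x₀⁻¹) * (x₀ * g * x₀⁻¹) * (x * x₀⁻¹)⁻¹ := by group
  rw [e]
  exact P.disj i j hij _ h (conj_ne_one h1) _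

variable [Fintype G]

/-- the sum over the conjugating elements -/
theorem sum_conj {i : ι} {g x₀ : G} (h : x₀ * g * x₀⁻¹ ∈ P.K i) (h1 : g ≠ 1) (φ : G → ℂ) :
    ∑ x : G, (if x * g * x⁻¹ ∈ P.K i then φ (x * g * x⁻¹) else 0) =
      ∑ n : G, (if n ∈ P.N i then φ (n * (x₀ * g * x₀⁻¹) * n⁻¹) else 0) := by
  refine Fintype.sum_equiv (Equiv.mulRight x₀⁻¹) _ _ (fun x => ?_)
  show (if x * g * x⁻¹ ∈ P.K i then φ (x * g * x⁻¹) else 0) =
    if x * x₀⁻¹ ∈ P.N i then φ (x * x₀⁻¹ * (x₀ * g * x₀⁻¹) * (x * x₀⁻¹)⁻¹) else 0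
  have e : x * x₀⁻¹ * (x₀ * g * x₀⁻¹) * (x * x₀⁻¹)⁻¹ = x * g * x⁻¹ := by group
  have hiff : x * g * x⁻¹ ∈ P.K i ↔ x * x₀⁻¹ ∈ P.N i := by
    have := P.mem_iff h h1 (x * x₀⁻¹)
    rwa [inv_mul_cancel_right] at this
  rw [e]
  by_cases hn : x * x₀⁻¹ ∈ P.N i
  · rw [if_pos hn, if_pos (hiff.2 hn)]
  · rw [if_neg hn, if_neg (fun h2 => hn (hiff.1 h2))]

theorem sum_conj_of_ne {i j : ι} (hij : i ≠ j) {g x₀ : G} (h : x₀ * g * x₀⁻¹ ∈ P.K i)
    (h1 : g ≠ 1) (φ : G → ℂ) :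
    ∑ x : G, (if x * g * x⁻¹ ∈ P.K j then φ (x * g * x⁻¹) else 0) = 0 := by
  refine Finset.sum_eq_zero fun x _ => ?_
  rw [if_neg (P.not_mem_of_ne hij h h1 x)]

theorem sum_indicator (H : Subgroup G) (c : ℂ) :
    ∑ n : G, (if n ∈ H then c else 0) = (Nat.card H : ℂ) * c := by
  rw [← Finset.sum_filter, Finset.sum_const, nsmul_eq_mul]
  congr 2
  rw [Nat.card_eq_fintype_card, Fintype.card_subtype]

theorem card_N_ne_zero (i : ι) : (Nat.card (P.N i) : ℂ) ≠ 0 := by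
  have : 0 < Nat.card (P.N i) := Nat.card_pos
  exact_mod_cast this.ne'

variable [Fintype ι]

/-- the class function with prescribed values -/
noncomputable def cf (c₁ : ℂ) (f : ι → G → ℂ) : G → ℂ := fun g =>
  if g = 1 then c₁ else
    ∑ i, (Nat.card (P.N i) : ℂ)⁻¹ *
      ∑ x : G, (if x * g * x⁻¹ ∈ P.K i then f i (x * g * x⁻¹) else 0)

theorem cf_one (c₁ : ℂ) (f : ι → G → ℂ) : P.cf c₁ f 1 = c₁ := by
  unfold cf
  rw [if_pos rfl]

/-- the invariance condition on the prescribed values -/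
def Inv (f : ι → G → ℂ) : Prop :=
  ∀ i n, n ∈ P.N i → ∀ k ∈ P.K i, f i (n * k * n⁻¹) = f i k

theorem cf_conj {c₁ : ℂ} {f : ι → G → ℂ} (hf : P.Inv f) {i : ι} {g x₀ : G}
    (h : x₀ * g * x₀⁻¹ ∈ P.K i) (h1 : g ≠ 1) : P.cf c₁ f g = f i (x₀ * g * x₀⁻¹) := by
  unfold cf
  rw [if_neg h1, Finset.sum_eq_single i]
  · rw [P.sum_conj h h1]
    have e : ∀ n : G, (if n ∈ P.N i then f i (n * (x₀ * g * x₀⁻¹) * n⁻¹) else 0) =
        if n ∈ P.N i then f i (x₀ * g * x₀⁻¹) else 0 := by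
      intro n
      by_cases hn : n ∈ P.N i
      · rw [if_pos hn, if_pos hn, hf i n hn _ h]
      · rw [if_neg hn, if_neg hn]
    simp only [e]
    rw [sum_indicator, ← mul_assoc, inv_mul_cancel₀ (P.card_N_ne_zero i), one_mul]
  · intro j _ hji
    rw [P.sum_conj_of_ne (Ne.symm hji) h h1, mul_zero]
  · intro h2
    exact absurd (Finset.mem_univ i) h2

theorem cf_apply_mem {c₁ : ℂ} {f : ι → G → ℂ} (hf : P.Inv f) {i : ι} {k : G}
    (h : k ∈ P.K i) (h1 : k ≠ 1) : P.cf c₁ f k = f i k := by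
  have h' : (1 : G) * k * (1 : G)⁻¹ ∈ P.K i := by
    rw [one_mul, inv_one, mul_one]; exact h
  rw [P.cf_conj hf h' h1, one_mul, inv_one, mul_one]

theorem cf_restrict {c₁ : ℂ} {f : ι → G → ℂ} (hf : P.Inv f) (i : ι) :
    (fun k : P.K i => P.cf c₁ f (k : G)) = fun k : P.K i => if k = 1 then c₁ else f i (k : G) := by
  ext k
  by_cases hk : k = 1
  · rw [if_pos hk, hk, Subgroup.coe_one, cf_one]
  · rw [if_neg hk]
    exact P.cf_apply_mem hf k.2 (fun h => hk (Subtype.ext h))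

theorem cf_isClassFunction {c₁ : ℂ} {f : ι → G → ℂ} (hf : P.Inv f) :
    IsClassFunction G (P.cf c₁ f) := by
  intro g y
  by_cases h1 : g = 1
  · subst h1
    rw [mul_one, mul_inv_cancel]
  · obtain ⟨i, x₀, h⟩ := P.cover g h1
    have h' : (x₀ * y⁻¹) * (y * g * y⁻¹) * (x₀ * y⁻¹)⁻¹ ∈ P.K i := by
      have e : (x₀ * y⁻¹) * (y * g * y⁻¹) * (x₀ * y⁻¹)⁻¹ = x₀ * g * x₀⁻¹ := by group
      rw [e]; exact h
    rw [P.cf_conj hf h' (conj_ne_one h1), P.cf_conj hf h h1]
    congr 1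
    group

/-- two class functions with the same values on the subgroups `K i` are equal -/
theorem cf_ext {c₁ d₁ : ℂ} {f f' : ι → G → ℂ} (hf : P.Inv f) (hf' : P.Inv f') (h1 : c₁ = d₁)
    (h : ∀ i, ∀ k ∈ P.K i, k ≠ 1 → f i k = f' i k) : P.cf c₁ f = P.cf d₁ f' := by
  ext g
  by_cases hg : g = 1
  · rw [hg, cf_one, cf_one, h1]
  · obtain ⟨i, x₀, hx⟩ := P.cover g hg
    rw [P.cf_conj hf hx hg, P.cf_conj hf' hx hg]
    exact h i _ hx (conj_ne_one hg)

theorem cf_add (c₁ d₁ : ℂ) (f f' : ι → G → ℂ) :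
    P.cf (c₁ + d₁) (f + f') = P.cf c₁ f + P.cf d₁ f' := by
  ext g
  unfold cf
  simp only [Pi.add_apply]
  by_cases hg : g = 1
  · rw [if_pos hg, if_pos hg, if_pos hg]
  · rw [if_neg hg, if_neg hg, if_neg hg, ← Finset.sum_add_distrib]
    refine Finset.sum_congr rfl fun i _ => ?_
    rw [← mul_add, ← Finset.sum_add_distrib]
    congr 1
    refine Finset.sum_congr rfl fun x _ => ?_
    by_cases hx : x * g * x⁻¹ ∈ P.K i
    · rw [if_pos hx, if_pos hx, if_pos hx]
    · rw [if_neg hx, if_neg hx, if_neg hx, add_zero]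

theorem cf_smul (a c₁ : ℂ) (f : ι → G → ℂ) :
    P.cf (a * c₁) (a • f) = a • P.cf c₁ f := by
  ext g
  unfold cf
  simp only [Pi.smul_apply, smul_eq_mul]
  by_cases hg : g = 1
  · rw [if_pos hg, if_pos hg]
  · rw [if_neg hg, if_neg hg, Finset.mul_sum]
    refine Finset.sum_congr rfl fun i _ => ?_
    have e : ∑ x : G, (if x * g * x⁻¹ ∈ P.K i then a * f i (x * g * x⁻¹) else 0) =
        a * ∑ x : G, (if x * g * x⁻¹ ∈ P.K i then f i (x * g * x⁻¹) else 0) := by
      rw [Finset.mul_sum]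
      refine Finset.sum_congr rfl fun x _ => ?_
      by_cases hx : x * g * x⁻¹ ∈ P.K i
      · rw [if_pos hx, if_pos hx]
      · rw [if_neg hx, if_neg hx, mul_zero]
    rw [e]
    ring

theorem inv_add {f f' : ι → G → ℂ} (hf : P.Inv f) (hf' : P.Inv f') : P.Inv (f + f') := by
  intro i n hn k hk
  show f i (n * k * n⁻¹) + f' i (n * k * n⁻¹) = f i k + f' i k
  rw [hf i n hn k hk, hf' i n hn k hk]

theorem inv_smul (a : ℂ) {f : ι → G → ℂ} (hf : P.Inv f) : P.Inv (a • f) := by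
  intro i n hn k hk
  show a • f i (n * k * n⁻¹) = a • f i k
  rw [hf i n hn k hk]

theorem inv_of_isClassFunction {h : G → ℂ} (hh : IsClassFunction G h) :
    P.Inv (fun _ => h) := fun i n hn k hk => hh k n

/-- a class function is determined by its values on the subgroups `K i` -/
theorem eq_cf {h : G → ℂ} (hh : IsClassFunction G h) : h = P.cf (h 1) (fun _ => h) := by
  ext g
  by_cases h1 : g = 1
  · rw [h1, cf_one]
  · obtain ⟨i, x₀, hx⟩ := P.cover g h1
    rw [P.cf_conj (P.inv_of_isClassFunction hh) hx h1, hh]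

theorem sum_subgroup (H : Subgroup G) (h : G → ℂ) :
    ∑ k : G, (if k ∈ H then h k else 0) = ∑ k : H, h k := by
  rw [← Finset.sum_filter]
  exact (Finset.sum_subtype (p := (· ∈ H)) (Finset.univ.filter (· ∈ H))
    (fun x => by simp) h)

theorem sum_erase_subgroup (H : Subgroup G) (h : G → ℂ) :
    ∑ k ∈ Finset.univ.erase (1 : G), (if k ∈ H then h k else 0) = ∑ k : H, h k - h 1 := by
  rw [← sum_subgroup, ← Finset.add_sum_erase Finset.univ _ (Finset.mem_univ (1 : G)),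
    if_pos H.one_mem]
  ring

/-- **the class sum formula** -/
theorem sum_eq {h : G → ℂ} (hh : IsClassFunction G h) :
    ∑ g, h g = h 1 + ∑ i, (Nat.card G : ℂ) / (Nat.card (P.N i) : ℂ) * (∑ k : P.K i, h k - h 1) := by
  rw [← Finset.add_sum_erase Finset.univ h (Finset.mem_univ (1 : G))]
  congr 1
  have e1 : ∀ g ∈ Finset.univ.erase (1 : G), h g = ∑ i, (Nat.card (P.N i) : ℂ)⁻¹ *
      ∑ x : G, (if x * g * x⁻¹ ∈ P.K i then h (x * g * x⁻¹) else 0) := by
    intro g hg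
    have h1 : g ≠ 1 := (Finset.mem_erase.1 hg).1
    have h2 := congrFun (P.eq_cf hh) g
    unfold cf at h2
    rw [if_neg h1] at h2
    exact h2
  rw [Finset.sum_congr rfl e1, Finset.sum_comm]
  refine Finset.sum_congr rfl fun i _ => ?_
  rw [← Finset.mul_sum, Finset.sum_comm]
  have e2 : ∀ x : G, ∑ g ∈ Finset.univ.erase (1 : G),
      (if x * g * x⁻¹ ∈ P.K i then h (x * g * x⁻¹) else 0) = ∑ k : P.K i, h k - h 1 := by
    intro x
    rw [← sum_erase_subgroup]
    refine Finset.sum_equiv (MulAut.conj x).toEquiv ?_ ?_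
    · intro g
      simp only [Finset.mem_erase, Finset.mem_univ, and_true, MulEquiv.toEquiv_eq_coe,
        EquivLike.coe_coe, MulAut.conj_apply]
      constructor
      · intro hg
        exact conj_ne_one hg
      · intro hg h1
        apply hg
        rw [h1, mul_one, mul_inv_cancel]
    · intro g _
      rfl
  rw [Finset.sum_congr rfl (fun x _ => e2 x), Finset.sum_const, Finset.card_univ, nsmul_eq_mul,
    Nat.card_eq_fintype_card (α := G)]
  ring

theorem card_G_ne_zero : (Nat.card G : ℂ) ≠ 0 := by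
  have : 0 < Nat.card G := Nat.card_pos
  exact_mod_cast this.ne'

/-- **the inner product formula** -/
theorem inner_eq {φ ψ : G → ℂ} (hφ : IsClassFunction G φ) (hψ : IsClassFunction G ψ) :
    classInner φ ψ = (Nat.card G : ℂ)⁻¹ * (φ 1 * conj (ψ 1)) +
      ∑ i, (Nat.card (P.N i) : ℂ)⁻¹ *
        (∑ k : P.K i, φ k * conj (ψ k) - φ 1 * conj (ψ 1)) := by
  have hh : IsClassFunction G (fun g => φ g * conj (ψ g)) := by
    intro g x
    show φ (x * g * x⁻¹) * conj (ψ (x * g * x⁻¹)) = φ g * conj (ψ g)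
    rw [hφ, hψ]
  unfold classInner
  rw [P.sum_eq hh, mul_add, Finset.mul_sum]
  congr 1
  refine Finset.sum_congr rfl fun i _ => ?_
  have h1 := card_G_ne_zero (G := G)
  have h2 := P.card_N_ne_zero i
  field_simp

/-- the inner product of functions with prescribed values -/
theorem inner_cf {c₁ d₁ : ℂ} {f f' : ι → G → ℂ} (hf : P.Inv f) (hf' : P.Inv f') :
    classInner (P.cf c₁ f) (P.cf d₁ f') = (Nat.card G : ℂ)⁻¹ * (c₁ * conj d₁) +
      ∑ i, (Nat.card (P.N i) : ℂ)⁻¹ *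
        (∑ k : P.K i, (if (k : G) = 1 then 0 else f i k * conj (f' i k))) := by
  rw [P.inner_eq (P.cf_isClassFunction hf) (P.cf_isClassFunction hf'), cf_one, cf_one]
  congr 1
  refine Finset.sum_congr rfl fun i _ => ?_
  congr 1
  rw [← Finset.add_sum_erase Finset.univ _ (Finset.mem_univ (1 : P.K i)),
    ← Finset.add_sum_erase Finset.univ (fun k : P.K i => if (k : G) = 1 then 0 else
      f i k * conj (f' i k)) (Finset.mem_univ (1 : P.K i))]
  rw [Subgroup.coe_one, cf_one, cf_one, if_pos rfl, zero_add, add_sub_cancel_left]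
  refine Finset.sum_congr rfl fun k hk => ?_
  have hk1 : (k : G) ≠ 1 := by
    intro h
    exact (Finset.mem_erase.1 hk).1 (Subtype.ext h)
  rw [if_neg hk1, P.cf_apply_mem hf k.2 hk1, P.cf_apply_mem hf' k.2 hk1]

end TIP

end Cfsg.Agent.Helper2.CT
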