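import Mathlib
import Cfsg.Agent.Lib.Helper2.SzCT1
import Cfsg.Agent.Lib.Helper18.GenChar
import Cfsg.Agent.S0164

set_option autoImplicit false
set_option linter.unusedSectionVars false
set_option linter.unusedSimpArgs false
set_option linter.unusedVariables false
set_option linter.style.openClassical false

/-! Brauer's characterization of characters for groups partitioned by trivial intersection
subgroups. -/

namespace Cfsg.Agent.Helper2.CT

open Cfsg
open scoped ComplexConjugate
open Classical

universe u

variable {G : Type u} [Group G] [Fintype G] {ι : Type*} (P : TIP G ι)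

namespace TIP

/-- a class function whose restrictions to the subgroups `K i` are generalized characters is a
generalized character, provided every elementary subgroup is conjugate into some `K i` -/
theorem isGenChar_of_restrict
    (helem : ∀ (E : Subgroup G) (p : ℕ), p.Prime → IsElementary p E →
      ∃ i, ∃ x : G, ∀ e ∈ E, x * e * x⁻¹ ∈ P.K i)
    {φ : G → ℂ} (hφ : IsClassFunction G φ)
    (hr : ∀ i, IsGeneralizedCharacter (P.K i) (fun k : P.K i => φ k)) :
    IsGeneralizedCharacter G φ := by
  refine Cfsg.Agent.S0164.result φ hφ ?_
  intro E p hp hE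
  obtain ⟨i, x, hx⟩ := helem E p hp hE
  let c : E →* P.K i :=
    { toFun := fun e => ⟨x * e * x⁻¹, hx e e.2⟩
      map_one' := by
        apply Subtype.ext
        show x * ((1 : E) : G) * x⁻¹ = ((1 : P.K i) : G)
        rw [Subgroup.coe_one, Subgroup.coe_one, mul_one, mul_inv_cancel]
      map_mul' := by
        intro a b
        apply Subtype.ext
        show x * ((a * b : E) : G) * x⁻¹ = (x * a * x⁻¹) * (x * b * x⁻¹)
        rw [Subgroup.coe_mul]
        group }
  have h1 := Cfsg.Agent.Helper18.isGenChar_comp c (hr i)
  have h2 : (fun e : E => φ e) = (fun k : P.K i => φ k) ∘ c := by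
    ext e
    show φ e = φ (x * e * x⁻¹)
    rw [hφ]
  rw [h2]
  exact h1

end TIP

end Cfsg.Agent.Helper2.CT
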