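import Mathlib
import Cfsg.Agent.Lib.Helper2.SzCT1
import Cfsg.Agent.Lib.Helper18.GenChar
import Cfsg.Agent.Lib.Helper24.CharAlgebra
import Cfsg.Agent.Lib.Helper24.CharAbelian
import Cfsg.Agent.Lib.Helper24.CharComplete
import Cfsg.Agent.Lib.Helper24.CharHom

set_option autoImplicit false
set_option linter.unusedSectionVars false
set_option linter.unusedSimpArgs false
set_option linter.unusedVariables false
set_option linter.style.openClassical false
set_option linter.style.haveILetI false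

/-! Characters of an abelian subgroup `A` with a normalizer `N` acting freely: the functions
obtained by averaging a character over `N`. -/

namespace Cfsg.Agent.Helper2.CT

open Cfsg Cfsg.Agent.Helper24
open scoped ComplexConjugate
open Classical

universe u

variable {G : Type u} [Group G]

/-- extension by zero -/
noncomputable def ext0 (A : Subgroup G) (θ : A → ℂ) (g : G) : ℂ :=
  if h : g ∈ A then θ ⟨g, h⟩ else 0

theorem ext0_mem (A : Subgroup G) (θ : A → ℂ) {g : G} (h : g ∈ A) : ext0 A θ g = θ ⟨g, h⟩ := by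
  unfold ext0
  rw [dif_pos h]

theorem ext0_coe (A : Subgroup G) (θ : A → ℂ) (a : A) : ext0 A θ a = θ a :=
  ext0_mem A θ a.2

theorem ext0_not_mem (A : Subgroup G) (θ : A → ℂ) {g : G} (h : g ∉ A) : ext0 A θ g = 0 := by
  unfold ext0
  rw [dif_neg h]

/-- an abelian subgroup with a normalizer acting freely -/
structure TP (A N : Subgroup G) : Prop where
  le : A ≤ N
  norm : ∀ n ∈ N, ∀ a ∈ A, n * a * n⁻¹ ∈ A
  comm : ∀ a ∈ A, ∀ b ∈ A, a * b = b * a
  free : ∀ a ∈ A, a ≠ 1 → ∀ n ∈ N, n * a = a * n → n ∈ A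

namespace TP

variable {A N : Subgroup G} (T : TP A N)

include T

theorem norm' {n : G} (hn : n ∈ N) {a : G} (ha : a ∈ A) : n⁻¹ * a * n ∈ A := by
  have := T.norm n⁻¹ (N.inv_mem hn) a ha
  rwa [inv_inv] at this

theorem comm_sub (a b : A) : a * b = b * a := Subtype.ext (T.comm a a.2 b b.2)

/-- conjugation by an element of the normalizer, as an automorphism -/
def cj {n : G} (hn : n ∈ N) : A ≃* A where
  toFun a := ⟨n⁻¹ * a * n, T.norm' hn a.2⟩
  invFun a := ⟨n * a * n⁻¹, T.norm n hn a a.2⟩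
  left_inv a := by
    apply Subtype.ext
    show n * (n⁻¹ * (a : G) * n) * n⁻¹ = a
    group
  right_inv a := by
    apply Subtype.ext
    show n⁻¹ * (n * (a : G) * n⁻¹) * n = a
    group
  map_mul' a b := by
    apply Subtype.ext
    show n⁻¹ * ((a * b : A) : G) * n = (n⁻¹ * a * n) * (n⁻¹ * b * n)
    rw [Subgroup.coe_mul]
    group

theorem cj_coe {n : G} (hn : n ∈ N) (a : A) : ((T.cj hn a : A) : G) = n⁻¹ * a * n := rfl

/-- the twist of a function by an element -/
noncomputable def tw (A : Subgroup G) (θ : A → ℂ) (n : G) : A → ℂ := fun a => ext0 A θ (n⁻¹ * a * n)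

theorem tw_eq {n : G} (hn : n ∈ N) (θ : A → ℂ) : tw A θ n = θ ∘ T.cj hn := by
  ext a
  show ext0 A θ (n⁻¹ * a * n) = θ (T.cj hn a)
  rw [ext0_mem A θ (T.norm' hn a.2)]
  rfl

theorem tw_of_mem {n : G} (hn : n ∈ A) (θ : A → ℂ) : tw A θ n = θ := by
  rw [T.tw_eq (T.le hn)]
  ext a
  show θ (T.cj (T.le hn) a) = θ a
  congr 1
  apply Subtype.ext
  rw [cj_coe]
  have := T.comm n hn a a.2
  calc n⁻¹ * a * n = n⁻¹ * (a * n) := by group
    _ = n⁻¹ * (n * a) := by rw [this]
    _ = a := by group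

theorem tw_mul {n m : G} (hn : n ∈ N) (hm : m ∈ N) (θ : A → ℂ) :
    tw A θ (n * m) = tw A (tw A θ m) n := by
  rw [T.tw_eq (N.mul_mem hn hm), T.tw_eq hn, T.tw_eq hm]
  ext a
  show θ (T.cj (N.mul_mem hn hm) a) = θ (T.cj hm (T.cj hn a))
  congr 1
  apply Subtype.ext
  rw [cj_coe, cj_coe, cj_coe]
  group

theorem tw_one (θ : A → ℂ) : tw A θ 1 = θ := T.tw_of_mem A.one_mem θ

theorem tw_irr {n : G} (hn : n ∈ N) {θ : A → ℂ} (hθ : IsIrrCharacter A θ) :
    IsIrrCharacter A (tw A θ n) := by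
  rw [T.tw_eq hn]
  exact isIrrCharacter_comp_of_surjective (T.cj hn).toMonoidHom (T.cj hn).surjective hθ

theorem tw_const (n : G) (hn : n ∈ N) (c : ℂ) : tw A (fun _ => c) n = fun _ => c := by
  rw [T.tw_eq hn]
  rfl

section Fin

variable [Fintype G]

theorem irr_one {θ : A → ℂ} (hθ : IsIrrCharacter A θ) : θ 1 = 1 := by
  letI : Fintype (IrrCharacter A) := irrFintype
  rw [irr_one_eq_charDegree hθ, charDegree_eq_one_of_comm T.comm_sub hθ, Nat.cast_one]

theorem irr_mul {θ : A → ℂ} (hθ : IsIrrCharacter A θ) (a b : A) : θ (a * b) = θ a * θ b :=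
  char_mul_of_degree_one (isCharacter_of_isIrrCharacter hθ) (T.irr_one hθ) a b

/-- the action on the nontrivial characters is free -/
theorem mem_of_tw_eq {θ : A → ℂ} (hθ : IsIrrCharacter A θ) (hθ1 : θ ≠ fun _ => 1) {n : G}
    (hn : n ∈ N) (h : tw A θ n = θ) : n ∈ A := by
  by_contra hnA
  apply hθ1
  have hinj : Function.Injective (fun a : A => a⁻¹ * T.cj hn a) := by
    intro a b hab
    have h1 : (a : G)⁻¹ * (n⁻¹ * a * n) = (b : G)⁻¹ * (n⁻¹ * b * n) := by
      have := congrArg (Subtype.val : A → G) hab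
      simpa [Subgroup.coe_mul, Subgroup.coe_inv, cj_coe] using this
    have h2 : n * ((b : G) * (a : G)⁻¹) = ((b : G) * (a : G)⁻¹) * n := by
      have e1 : (a : G)⁻¹ * n⁻¹ * a = (b : G)⁻¹ * n⁻¹ * b := by
        calc (a : G)⁻¹ * n⁻¹ * a = ((a : G)⁻¹ * (n⁻¹ * a * n)) * n⁻¹ := by group
          _ = ((b : G)⁻¹ * (n⁻¹ * b * n)) * n⁻¹ := by rw [h1]
          _ = (b : G)⁻¹ * n⁻¹ * b := by group
      have e2 : ((b : G) * (a : G)⁻¹) * n⁻¹ = n⁻¹ * ((b : G) * (a : G)⁻¹) := by
        calc ((b : G) * (a : G)⁻¹) * n⁻¹ = b * ((a : G)⁻¹ * n⁻¹ * a) * (a : G)⁻¹ := by group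
          _ = b * ((b : G)⁻¹ * n⁻¹ * b) * (a : G)⁻¹ := by rw [e1]
          _ = n⁻¹ * ((b : G) * (a : G)⁻¹) := by group
      calc n * ((b : G) * (a : G)⁻¹) = n * (((b : G) * (a : G)⁻¹) * n⁻¹) * n := by group
        _ = n * (n⁻¹ * ((b : G) * (a : G)⁻¹)) * n := by rw [e2]
        _ = ((b : G) * (a : G)⁻¹) * n := by group
    have h3 : (b : G) * (a : G)⁻¹ = 1 := by
      by_contra hne
      exact hnA (T.free _ (A.mul_mem b.2 (A.inv_mem a.2)) hne n hn h2)
    apply Subtype.ext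
    exact (mul_inv_eq_one.1 h3).symm
  have hsurj : Function.Surjective (fun a : A => a⁻¹ * T.cj hn a) :=
    Finite.injective_iff_surjective.1 hinj
  ext b
  obtain ⟨a, rfl⟩ := hsurj b
  show θ (a⁻¹ * T.cj hn a) = 1
  have h4 : θ (T.cj hn a) = θ a := by
    have := congrFun h a
    rw [T.tw_eq hn] at this
    exact this
  rw [T.irr_mul hθ, h4, ← T.irr_mul hθ, inv_mul_cancel, T.irr_one hθ]

theorem card_A_ne_zero : (Nat.card A : ℂ) ≠ 0 := by
  have : 0 < Nat.card A := Nat.card_pos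
  exact_mod_cast this.ne'

/-- orthogonality of the twists -/
theorem sum_tw_mul_conj {θ θ' : A → ℂ} (hθ : IsIrrCharacter A θ) (hθ' : IsIrrCharacter A θ')
    {n : G} (hn : n ∈ N) :
    ∑ a : A, tw A θ n a * conj (θ' a) = if tw A θ n = θ' then (Nat.card A : ℂ) else 0 := by
  have h1 := irr_orthogonality (T.tw_irr hn hθ) hθ'
  unfold classInner at h1
  have h2 := T.card_A_ne_zero
  by_cases h : tw A θ n = θ'
  · rw [if_pos h] at h1 ⊢
    field_simp at h1
    rw [h1]
  · rw [if_neg h] at h1 ⊢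
    rcases mul_eq_zero.1 h1 with h3 | h3
    · exact absurd (inv_eq_zero.1 h3) h2
    · exact h3

end Fin

end TP

/-- the number of elements of the normalizer carrying one function to another -/
noncomputable def cnt [Fintype G] (A N : Subgroup G) (θ θ' : A → ℂ) : ℕ :=
  (Finset.univ.filter (fun n : G => n ∈ N ∧ TP.tw A θ n = θ')).card

/-- the average of a function over the normalizer -/
noncomputable def avg [Fintype G] (A N : Subgroup G) (θ : A → ℂ) (g : G) : ℂ :=
  (Nat.card A : ℂ)⁻¹ * ∑ n : G, (if n ∈ N then ext0 A θ (n⁻¹ * g * n) else 0)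

namespace TP

variable {A N : Subgroup G} (T : TP A N) [Fintype G]

include T

theorem avg_coe (θ : A → ℂ) (a : A) :
    avg A N θ a = (Nat.card A : ℂ)⁻¹ * ∑ n : G, (if n ∈ N then tw A θ n a else 0) := rfl

theorem avg_inv (θ : A → ℂ) {n₀ : G} (hn₀ : n₀ ∈ N) (g : G) :
    avg A N θ (n₀ * g * n₀⁻¹) = avg A N θ g := by
  unfold avg
  congr 1
  refine Fintype.sum_equiv (Equiv.mulLeft n₀⁻¹) _ _ (fun n => ?_)
  show (if n ∈ N then ext0 A θ (n⁻¹ * (n₀ * g * n₀⁻¹) * n) else 0) =
    if n₀⁻¹ * n ∈ N then ext0 A θ ((n₀⁻¹ * n)⁻¹ * g * (n₀⁻¹ * n)) else 0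
  have e : (n₀⁻¹ * n)⁻¹ * g * (n₀⁻¹ * n) = n⁻¹ * (n₀ * g * n₀⁻¹) * n := by group
  have hiff : n₀⁻¹ * n ∈ N ↔ n ∈ N := by
    constructor
    · intro h
      have := N.mul_mem hn₀ h
      rwa [mul_inv_cancel_left] at this
    · intro h
      exact N.mul_mem (N.inv_mem hn₀) h
  rw [e]
  by_cases hn : n ∈ N
  · rw [if_pos hn, if_pos (hiff.2 hn)]
  · rw [if_neg hn, if_neg (fun h => hn (hiff.1 h))]

theorem sum_avg_mul_conj {θ θ' : A → ℂ} (hθ : IsIrrCharacter A θ) (hθ' : IsIrrCharacter A θ') :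
    ∑ a : A, avg A N θ a * conj (θ' a) = (cnt A N θ θ' : ℂ) := by
  have h2 := T.card_A_ne_zero
  simp only [T.avg_coe, mul_assoc, Finset.sum_mul]
  rw [← Finset.mul_sum, Finset.sum_comm]
  have e : ∀ n : G, ∑ a : A, (if n ∈ N then tw A θ n a else 0) * conj (θ' a) =
      if n ∈ N ∧ tw A θ n = θ' then (Nat.card A : ℂ) else 0 := by
    intro n
    by_cases hn : n ∈ N
    · simp only [if_pos hn]
      rw [T.sum_tw_mul_conj hθ hθ' hn]
      by_cases h : tw A θ n = θ'
      · rw [if_pos h, if_pos ⟨hn, h⟩]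
      · rw [if_neg h, if_neg (fun h' => h h'.2)]
    · simp only [if_neg hn, zero_mul, Finset.sum_const_zero]
      rw [if_neg (fun h' => hn h'.1)]
  rw [Finset.sum_congr rfl (fun n _ => e n), ← Finset.sum_filter, Finset.sum_const, nsmul_eq_mul,
    ← mul_assoc, mul_comm _ ((Finset.univ.filter _).card : ℂ), mul_assoc, inv_mul_cancel₀ h2,
    mul_one]
  rfl

theorem avg_one (θ : A → ℂ) (hθ1 : θ 1 = 1) :
    avg A N θ 1 = (Nat.card N : ℂ) / (Nat.card A : ℂ) := by
  unfold avg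
  have e : ∀ n : G, (if n ∈ N then ext0 A θ (n⁻¹ * 1 * n) else 0) = if n ∈ N then (1 : ℂ) else 0 := by
    intro n
    by_cases hn : n ∈ N
    · rw [if_pos hn, if_pos hn, mul_one, inv_mul_cancel, ext0_mem A θ A.one_mem]
      exact hθ1
    · rw [if_neg hn, if_neg hn]
  rw [Finset.sum_congr rfl (fun n _ => e n), TIP.sum_indicator, mul_one, div_eq_inv_mul]

/-- the inner products of the averages -/
theorem sum_avg_mul_conj_avg {θ θ' : A → ℂ} (hθ : IsIrrCharacter A θ)
    (hθ' : IsIrrCharacter A θ') :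
    ∑ a : A, avg A N θ a * conj (avg A N θ' a) =
      (Nat.card N : ℂ) / (Nat.card A : ℂ) * (cnt A N θ θ' : ℂ) := by
  have h2 := T.card_A_ne_zero
  have e1 : ∀ a : A, avg A N θ a * conj (avg A N θ' a) =
      (Nat.card A : ℂ)⁻¹ * ∑ n : G, (if n ∈ N then avg A N θ a * conj (tw A θ' n a) else 0) := by
    intro a
    rw [T.avg_coe θ' a, map_mul, map_inv₀, Complex.conj_natCast, map_sum, Finset.mul_sum,
      Finset.mul_sum, Finset.mul_sum]
    refine Finset.sum_congr rfl fun n _ => ?_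
    by_cases hn : n ∈ N
    · rw [if_pos hn, if_pos hn]
      ring
    · rw [if_neg hn, if_neg hn]
      simp
  rw [Finset.sum_congr rfl (fun a _ => e1 a), ← Finset.mul_sum, Finset.sum_comm]
  have e2 : ∀ n : G, ∑ a : A, (if n ∈ N then avg A N θ a * conj (tw A θ' n a) else 0) =
      if n ∈ N then (cnt A N θ θ' : ℂ) else 0 := by
    intro n
    by_cases hn : n ∈ N
    · simp only [if_pos hn]
      rw [← T.sum_avg_mul_conj hθ hθ']
      refine Fintype.sum_equiv (T.cj hn).toEquiv _ _ (fun a => ?_)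
      show avg A N θ a * conj (tw A θ' n a) = avg A N θ (T.cj hn a) * conj (θ' (T.cj hn a))
      have h3 : avg A N θ (T.cj hn a) = avg A N θ a := by
        rw [cj_coe]
        have := T.avg_inv θ (N.inv_mem hn) (a : G)
        rwa [inv_inv] at this
      rw [h3, T.tw_eq hn]
      rfl
    · simp only [if_neg hn, Finset.sum_const_zero]
  rw [Finset.sum_congr rfl (fun n _ => e2 n), TIP.sum_indicator]
  field_simp

/-- the stabilizer of a nontrivial irreducible character -/
theorem cnt_self {θ : A → ℂ} (hθ : IsIrrCharacter A θ) (hθ1 : θ ≠ fun _ => 1) :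
    cnt A N θ θ = Nat.card A := by
  unfold cnt
  rw [Nat.card_eq_fintype_card, Fintype.card_subtype]
  congr 1
  ext n
  simp only [Finset.mem_filter, Finset.mem_univ, true_and]
  constructor
  · rintro ⟨hn, h⟩
    exact T.mem_of_tw_eq hθ hθ1 hn h
  · intro hn
    exact ⟨T.le hn, T.tw_of_mem hn θ⟩

theorem tw_inv_tw {n : G} (hn : n ∈ N) (θ : A → ℂ) : tw A (tw A θ n) n⁻¹ = θ := by
  rw [← T.tw_mul (N.inv_mem hn) hn, inv_mul_cancel, T.tw_one]

theorem tw_ne_one {θ : A → ℂ} (hθ1 : θ ≠ fun _ => 1) {n : G} (hn : n ∈ N) :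
    tw A θ n ≠ fun _ => 1 := by
  intro h
  apply hθ1
  rw [← T.tw_inv_tw hn θ, h, T.tw_const _ (N.inv_mem hn)]

theorem cnt_one {θ : A → ℂ} (hθ1 : θ ≠ fun _ => 1) : cnt A N θ (fun _ => 1) = 0 := by
  unfold cnt
  rw [Finset.card_eq_zero, Finset.filter_eq_empty_iff]
  rintro n - ⟨hn, h⟩
  exact T.tw_ne_one hθ1 hn h

/-- the number of elements carrying a nontrivial irreducible character to a given function -/
theorem cnt_eq {θ : A → ℂ} (hθ : IsIrrCharacter A θ) (hθ1 : θ ≠ fun _ => 1) (μ : A → ℂ) :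
    cnt A N θ μ = 0 ∨ cnt A N θ μ = Nat.card A := by
  by_cases hex : ∃ n₀ ∈ N, tw A θ n₀ = μ
  · right
    obtain ⟨n₀, hn₀, rfl⟩ := hex
    rw [← T.cnt_self (T.tw_irr hn₀ hθ) (T.tw_ne_one hθ1 hn₀)]
    unfold cnt
    refine Finset.card_bij (fun n _ => n * n₀⁻¹) ?_ ?_ ?_
    · intro n hn
      simp only [Finset.mem_filter, Finset.mem_univ, true_and] at hn ⊢
      refine ⟨N.mul_mem hn.1 (N.inv_mem hn₀), ?_⟩
      rw [← T.tw_mul (N.mul_mem hn.1 (N.inv_mem hn₀)) hn₀, inv_mul_cancel_right, hn.2]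
    · intro a _ b _ hab
      exact mul_right_cancel hab
    · intro b hb
      simp only [Finset.mem_filter, Finset.mem_univ, true_and] at hb ⊢
      refine ⟨b * n₀, ⟨N.mul_mem hb.1 hn₀, ?_⟩, mul_inv_cancel_right _ _⟩
      rw [T.tw_mul hb.1 hn₀, hb.2]
  · left
    unfold cnt
    rw [Finset.card_eq_zero, Finset.filter_eq_empty_iff]
    rintro n - ⟨hn, h⟩
    exact hex ⟨n, hn, h⟩

theorem sum_avg {θ : A → ℂ} (hθ : IsIrrCharacter A θ) (hθ1 : θ ≠ fun _ => 1) :
    ∑ a : A, avg A N θ a = 0 := by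
  have h := T.sum_avg_mul_conj hθ (isIrrCharacter_one (G := A))
  rw [T.cnt_one hθ1, Nat.cast_zero] at h
  rw [← h]
  refine Finset.sum_congr rfl fun a _ => ?_
  rw [map_one, mul_one]

theorem sum_avg_sq {θ : A → ℂ} (hθ : IsIrrCharacter A θ) (hθ1 : θ ≠ fun _ => 1) :
    ∑ a : A, avg A N θ a * conj (avg A N θ a) = (Nat.card N : ℂ) := by
  rw [T.sum_avg_mul_conj_avg hθ hθ, T.cnt_self hθ hθ1]
  have h2 := T.card_A_ne_zero
  field_simp

/-- the sum over all irreducible characters vanishes off the identity -/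
theorem sum_irr_avg [Fintype (IrrCharacter A)] {a : A} (ha : a ≠ 1) :
    ∑ θ : IrrCharacter A, avg A N (θ : A → ℂ) a = 0 := by
  simp only [T.avg_coe]
  rw [← Finset.mul_sum, Finset.sum_comm]
  have e : ∀ n : G, ∑ θ : IrrCharacter A, (if n ∈ N then tw A (θ : A → ℂ) n a else 0) = 0 := by
    intro n
    by_cases hn : n ∈ N
    · simp only [if_pos hn]
      have h1 := second_orthogonality (G := A) (T.cj hn a) 1
      have h2 : Nat.card {y : A // y * 1 * y⁻¹ = T.cj hn a} = 0 := by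
        haveI : IsEmpty {y : A // y * 1 * y⁻¹ = T.cj hn a} := by
          constructor
          rintro ⟨y, hy⟩
          rw [mul_one, mul_inv_cancel] at hy
          apply ha
          have := (T.cj hn).injective (hy.symm.trans (map_one (T.cj hn)).symm)
          exact this
        exact Nat.card_of_isEmpty
      rw [h2, Nat.cast_zero] at h1
      rw [← h1]
      refine Finset.sum_congr rfl fun θ _ => ?_
      rw [T.irr_one θ.2, map_one, mul_one, T.tw_eq hn]
      rfl
    · simp only [if_neg hn, Finset.sum_const_zero]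
  rw [Finset.sum_congr rfl (fun n _ => e n), Finset.sum_const_zero, mul_zero]

/-- the average of a nontrivial irreducible character restricts to a generalized character -/
theorem isGenChar_avg {θ : A → ℂ} (hθ : IsIrrCharacter A θ) (hθ1 : θ ≠ fun _ => 1) :
    IsGeneralizedCharacter A (fun a : A => avg A N θ a) := by
  letI : Fintype (IrrCharacter A) := irrFintype
  apply Cfsg.Agent.Helper18.isGenChar_of_int_inner
  · intro g h
    have : h * g * h⁻¹ = g := by
      rw [T.comm_sub h g, mul_inv_cancel_right]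
    rw [this]
  · intro μ
    have h1 := T.sum_avg_mul_conj hθ μ.2
    have h2 := T.card_A_ne_zero
    unfold classInner
    rw [h1]
    rcases T.cnt_eq hθ hθ1 (μ : A → ℂ) with h | h
    · refine ⟨0, ?_⟩
      rw [h]
      simp
    · refine ⟨1, ?_⟩
      rw [h, inv_mul_cancel₀ h2]
      simp

end TP

end Cfsg.Agent.Helper2.CT
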