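import Mathlib
import Cfsg.Agent.Lib.Helper2.SzCT3
import Cfsg.Agent.Lib.Helper24.CharIntegral
import Cfsg.Agent.Lib.Helper24.CharCentral

set_option autoImplicit false
set_option linter.unusedSectionVars false
set_option linter.unusedSimpArgs false
set_option linter.unusedVariables false
set_option linter.style.openClassical false
set_option linter.style.haveILetI false

/-! The regular character, and a generalized character of a group of Suzuki type. -/

namespace Cfsg.Agent.Helper2.CT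

open Cfsg Cfsg.Agent.Helper24
open scoped ComplexConjugate commutatorElement
open Classical

universe u

section Reg

variable {H : Type u} [Group H] [Fintype H]

/-- the regular character -/
noncomputable def regFun (H : Type u) [Group H] : H → ℂ := fun h =>
  if h = 1 then (Nat.card H : ℂ) else 0

theorem regFun_eq_sum [Fintype (IrrCharacter H)] :
    regFun H = ∑ χ : IrrCharacter H, charDegree (χ : H → ℂ) • (χ : H → ℂ) := by
  ext g
  rw [Finset.sum_apply]
  have h1 := second_orthogonality (G := H) g 1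
  have e : ∀ χ : IrrCharacter H, (charDegree (χ : H → ℂ) • (χ : H → ℂ)) g =
      (χ : H → ℂ) g * conj ((χ : H → ℂ) 1) := by
    intro χ
    rw [irr_one_eq_charDegree χ.2, Complex.conj_natCast, Pi.smul_apply, nsmul_eq_mul, mul_comm]
  rw [Finset.sum_congr rfl (fun χ _ => e χ), h1]
  unfold regFun
  by_cases hg : g = 1
  · rw [if_pos hg]
    have e2 : Nat.card {y : H // y * 1 * y⁻¹ = g} = Nat.card H := by
      apply Nat.card_congr
      refine ⟨fun y => y.1, fun y => ⟨y, ?_⟩, fun y => rfl, fun y => rfl⟩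
      rw [mul_one, mul_inv_cancel, hg]
    rw [e2]
  · rw [if_neg hg]
    have : IsEmpty {y : H // y * 1 * y⁻¹ = g} := by
      constructor
      rintro ⟨y, hy⟩
      rw [mul_one, mul_inv_cancel] at hy
      exact hg hy.symm
    rw [Nat.card_of_isEmpty, Nat.cast_zero]

theorem isCharacter_regFun : IsCharacter H (regFun H) := by
  letI : Fintype (IrrCharacter H) := irrFintype
  rw [regFun_eq_sum]
  apply isCharacter_sum
  intro χ _
  exact isCharacter_nsmul _ (isCharacter_of_isIrrCharacter χ.2)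

theorem isGenChar_regFun : IsGeneralizedCharacter H (regFun H) :=
  Cfsg.Agent.Helper18.isGenChar_of_isCharacter isCharacter_regFun

end Reg

section Psi

variable {Q : Type u} [Group Q] [Fintype Q]

theorem card_ne_zero' : (Nat.card Q : ℂ) ≠ 0 := by
  have : 0 < Nat.card Q := Nat.card_pos
  exact_mod_cast this.ne'

theorem irr_one_ne_zero {μ : Q → ℂ} (hμ : IsIrrCharacter Q μ) : μ 1 ≠ 0 := by
  rw [irr_one_eq_charDegree hμ]
  have := charDegree_pos hμ
  exact_mod_cast this.ne'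

/-- central multiplicativity of an irreducible character -/
theorem irr_mul_central {μ : Q → ℂ} (hμ : IsIrrCharacter Q μ) (x : Q) {z : Q}
    (hz : z ∈ Subgroup.center Q) : μ (x * z) * μ 1 = μ x * μ z := by
  have h := sum_char_mul_conj hμ x z
  have e : ∀ y : Q, μ (x * (y * z * y⁻¹)) = μ (x * z) := by
    intro y
    rw [Subgroup.mem_center_iff.1 hz y, mul_inv_cancel_right]
  rw [Finset.sum_congr rfl (fun y _ => e y), Finset.sum_const, Finset.card_univ, nsmul_eq_mul,
    ← Nat.card_eq_fintype_card] at h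
  have h1 := irr_one_ne_zero hμ
  have h2 := card_ne_zero' (Q := Q)
  field_simp at h
  linear_combination h

variable (Z : Subgroup Q) (hZ : Z ≤ Subgroup.center Q)

/-- the central character -/
noncomputable def omegaHom {μ : Q → ℂ} (hμ : IsIrrCharacter Q μ) : Z →* ℂˣ :=
  MonoidHom.toHomUnits
    { toFun := fun z => μ z / μ 1
      map_one' := by
        rw [Subgroup.coe_one, div_self (irr_one_ne_zero hμ)]
      map_mul' := by
        intro a b
        have h1 := irr_one_ne_zero hμ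
        have h2 := irr_mul_central hμ (a : Q) (hZ b.2)
        rw [Subgroup.coe_mul]
        field_simp
        linear_combination h2 }

theorem omegaHom_apply {μ : Q → ℂ} (hμ : IsIrrCharacter Q μ) (z : Z) :
    ((omegaHom Z hZ hμ z : ℂˣ) : ℂ) = μ z / μ 1 := rfl

theorem irr_eq_omega {μ : Q → ℂ} (hμ : IsIrrCharacter Q μ) (z : Z) :
    μ z = μ 1 * ((omegaHom Z hZ hμ z : ℂˣ) : ℂ) := by
  rw [omegaHom_apply]
  have h1 := irr_one_ne_zero hμ
  field_simp

theorem sum_hom (ω : Z →* ℂˣ) :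
    ∑ z : Z, ((ω z : ℂˣ) : ℂ) = if ω = 1 then (Nat.card Z : ℂ) else 0 := by
  by_cases h : ω = 1
  · rw [if_pos h, h]
    simp [Nat.card_eq_fintype_card]
  · rw [if_neg h]
    have : ∃ z₀ : Z, ω z₀ ≠ 1 := by
      by_contra hne
      push Not at hne
      apply h
      ext z
      rw [hne z]
      rfl
    obtain ⟨z₀, hz₀⟩ := this
    have h1 : ∑ z : Z, ((ω z : ℂˣ) : ℂ) = ((ω z₀ : ℂˣ) : ℂ) * ∑ z : Z, ((ω z : ℂˣ) : ℂ) := by
      rw [Finset.mul_sum, ← Equiv.sum_comp (Equiv.mulLeft z₀)]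
      refine Finset.sum_congr rfl fun z _ => ?_
      rw [Equiv.coe_mulLeft, map_mul, Units.val_mul]
    have h2 : (1 - ((ω z₀ : ℂˣ) : ℂ)) * ∑ z : Z, ((ω z : ℂˣ) : ℂ) = 0 := by
      linear_combination h1
    rcases mul_eq_zero.1 h2 with h3 | h3
    · exfalso
      apply hz₀
      apply Units.ext
      rw [Units.val_one]
      linear_combination -h3
    · exact h3

/-- an irreducible character vanishes off the radical of its central character -/
theorem irr_eq_zero_of_comm {μ : Q → ℂ} (hμ : IsIrrCharacter Q μ)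
    (hcomm : ∀ g h : Q, ⁅g, h⁆ ∈ Z) {g h : Q}
    (hne : omegaHom Z hZ hμ ⟨⁅h, g⁆, hcomm h g⟩ ≠ 1) : μ g = 0 := by
  have hcl := isClassFunction_of_isIrrCharacter hμ g h
  have e : h * g * h⁻¹ = g * ⁅h, g⁆ := by
    have hc := Subgroup.mem_center_iff.1 (hZ (hcomm h g)) g
    rw [hc, commutatorElement_def]
    group
  rw [e] at hcl
  have h2 := irr_mul_central hμ g (hZ (hcomm h g))
  rw [hcl] at h2
  have h1 := irr_one_ne_zero hμ
  by_contra hg
  apply hne
  apply Units.ext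
  rw [omegaHom_apply, Units.val_one]
  show μ ⁅h, g⁆ / μ 1 = 1
  have h3 : μ ⁅h, g⁆ = μ 1 := mul_left_cancel₀ hg h2.symm
  rw [h3, div_self h1]

theorem sum_normSq_irr {μ : Q → ℂ} (hμ : IsIrrCharacter Q μ) :
    ∑ g : Q, Complex.normSq (μ g) = (Nat.card Q : ℝ) := by
  have h := irr_orthogonality hμ hμ
  rw [if_pos rfl] at h
  unfold classInner at h
  have h2 := card_ne_zero' (Q := Q)
  have h3 : ∑ g : Q, μ g * conj (μ g) = (Nat.card Q : ℂ) := by
    field_simp at h
    exact h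
  have h4 : ((∑ g : Q, Complex.normSq (μ g) : ℝ) : ℂ) = ((Nat.card Q : ℝ) : ℂ) := by
    rw [Complex.ofReal_sum, Complex.ofReal_natCast, ← h3]
    refine Finset.sum_congr rfl fun g _ => ?_
    rw [Complex.mul_conj]
  exact Complex.ofReal_injective h4

/-- the degrees of the irreducible characters nontrivial on the centre -/
theorem two_pow_dvd_degree (m : ℕ) (hQ : Nat.card Q = (2 ^ (2 * m + 1)) ^ 2)
    (hcomm : ∀ g h : Q, ⁅g, h⁆ ∈ Z)
    (hrad : ∀ ω : Z →* ℂˣ, ω ≠ 1 →
      Nat.card {g : Q // ∀ h : Q, ω ⟨⁅h, g⁆, hcomm h g⟩ = 1} ≤ 2 * 2 ^ (2 * m + 1))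
    {μ : Q → ℂ} (hμ : IsIrrCharacter Q μ) (hω : omegaHom Z hZ hμ ≠ 1) :
    2 ^ m ∣ charDegree μ := by
  obtain ⟨d, hd⟩ : ∃ d, d = charDegree μ := ⟨_, rfl⟩
  rw [← hd]
  have hsum := sum_normSq_irr hμ
  have hle : ∀ g : Q, Complex.normSq (μ g) ≤
      if (∀ h : Q, omegaHom Z hZ hμ ⟨⁅h, g⁆, hcomm h g⟩ = 1) then ((d : ℝ) ^ 2) else 0 := by
    intro g
    by_cases hg : ∀ h : Q, omegaHom Z hZ hμ ⟨⁅h, g⁆, hcomm h g⟩ = 1
    · rw [if_pos hg, Complex.normSq_eq_norm_sq]
      have h1 := norm_le_charDegree (isCharacter_of_isIrrCharacter hμ) g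
      rw [← hd] at h1
      exact pow_le_pow_left₀ (norm_nonneg _) h1 2
    · rw [if_neg hg]
      push Not at hg
      obtain ⟨h, hh⟩ := hg
      rw [irr_eq_zero_of_comm Z hZ hμ hcomm hh, map_zero]
  have h1 : (Nat.card Q : ℝ) ≤
      (Nat.card {g : Q // ∀ h : Q, omegaHom Z hZ hμ ⟨⁅h, g⁆, hcomm h g⟩ = 1} : ℝ) * (d : ℝ) ^ 2 := by
    rw [← hsum]
    refine (Finset.sum_le_sum fun g _ => hle g).trans ?_
    rw [← Finset.sum_filter, Finset.sum_const, nsmul_eq_mul, Nat.card_eq_fintype_card,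
      Fintype.card_subtype]
  have h2 : (Nat.card Q : ℝ) ≤ ((2 * 2 ^ (2 * m + 1) : ℕ) : ℝ) * (d : ℝ) ^ 2 := by
    refine h1.trans ?_
    apply mul_le_mul_of_nonneg_right _ (sq_nonneg _)
    exact_mod_cast hrad _ hω
  have h3 : (2 ^ (2 * m + 1)) ^ 2 ≤ 2 * 2 ^ (2 * m + 1) * d ^ 2 := by
    rw [← hQ]
    exact_mod_cast h2
  have h4 : (2 ^ m) ^ 2 ≤ d ^ 2 := by
    have e1 : (2 ^ (2 * m + 1)) ^ 2 = 2 * 2 ^ (2 * m + 1) * (2 ^ m) ^ 2 := by
      rw [← pow_mul, ← pow_mul, ← pow_succ', ← pow_add]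
      congr 1
      ring
    rw [e1] at h3
    exact Nat.le_of_mul_le_mul_left h3 (by positivity)
  have h5 : 2 ^ m ≤ d := by
    by_contra hlt
    push Not at hlt
    have := Nat.pow_lt_pow_left hlt (n := 2) (by norm_num)
    omega
  have h6 : d ∣ 2 ^ ((2 * m + 1) * 2) := by
    have := charDegree_dvd_card hμ
    rw [hQ, ← hd, ← pow_mul] at this
    exact this
  obtain ⟨j, -, hj⟩ := (Nat.dvd_prime_pow Nat.prime_two).1 h6
  rw [hj] at h5 ⊢
  exact pow_dvd_pow 2 ((Nat.pow_le_pow_iff_right (by norm_num)).1 h5)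

/-- the function `Ψ` -/
noncomputable def psiFun (m : ℕ) : Q → ℂ := fun g =>
  if g = 1 then (2 ^ (m + 1) : ℂ) * ((2 ^ (2 * m + 1) : ℂ) - 1) else
    if g ∈ Z then -(2 ^ (m + 1) : ℂ) else 0

theorem psiFun_eq (m : ℕ) (g : Q) :
    psiFun Z m g = (if g = 1 then (2 ^ (m + 1) : ℂ) * (2 ^ (2 * m + 1) : ℂ) else 0) +
      (if g ∈ Z then -(2 ^ (m + 1) : ℂ) else 0) := by
  unfold psiFun
  by_cases h1 : g = 1
  · rw [if_pos h1, if_pos h1, if_pos (h1 ▸ Z.one_mem)]
    ring
  · rw [if_neg h1, if_neg h1, zero_add]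

include hZ in
theorem psiFun_isClassFunction (m : ℕ) : IsClassFunction Q (psiFun Z m) := by
  intro g h
  have h1 : h * g * h⁻¹ = 1 ↔ g = 1 := by
    constructor
    · intro h1
      calc g = h⁻¹ * (h * g * h⁻¹) * h := by group
        _ = 1 := by rw [h1]; group
    · rintro rfl
      group
  have h2 : h * g * h⁻¹ ∈ Z ↔ g ∈ Z := by
    constructor
    · intro h2
      have hc := Subgroup.mem_center_iff.1 (hZ h2) h⁻¹
      have : g = h * g * h⁻¹ := by
        calc g = h⁻¹ * (h * g * h⁻¹) * h := by group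
          _ = (h * g * h⁻¹) * h⁻¹ * h := by rw [hc]
          _ = h * g * h⁻¹ := by group
      rw [this]
      exact h2
    · intro h2
      have hc := Subgroup.mem_center_iff.1 (hZ h2) h
      rw [hc, mul_inv_cancel_right]
      exact h2
  unfold psiFun
  simp only [h1, h2]

include hZ in
/-- **the function `Ψ` is a generalized character** -/
theorem isGenChar_psi (m : ℕ) (hQ : Nat.card Q = (2 ^ (2 * m + 1)) ^ 2)
    (hZc : Nat.card Z = 2 ^ (2 * m + 1))
    (hcomm : ∀ g h : Q, ⁅g, h⁆ ∈ Z)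
    (hrad : ∀ ω : Z →* ℂˣ, ω ≠ 1 →
      Nat.card {g : Q // ∀ h : Q, ω ⟨⁅h, g⁆, hcomm h g⟩ = 1} ≤ 2 * 2 ^ (2 * m + 1)) :
    IsGeneralizedCharacter Q (psiFun Z m) := by
  letI : Fintype (IrrCharacter Q) := irrFintype
  apply Cfsg.Agent.Helper18.isGenChar_of_int_inner (psiFun_isClassFunction Z hZ m)
  intro μ
  have hμ := μ.2
  obtain ⟨d, hd⟩ : ∃ d, d = charDegree (μ : Q → ℂ) := ⟨_, rfl⟩
  have hμ1 : (μ : Q → ℂ) 1 = d := by rw [irr_one_eq_charDegree hμ, hd]
  have hsum : ∑ g : Q, psiFun Z m g * conj ((μ : Q → ℂ) g) =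
      (2 ^ (m + 1) : ℂ) * (2 ^ (2 * m + 1) : ℂ) * d -
        (2 ^ (m + 1) : ℂ) * d * conj (∑ z : Z, ((omegaHom Z hZ hμ z : ℂˣ) : ℂ)) := by
    simp only [psiFun_eq, add_mul, Finset.sum_add_distrib]
    rw [sub_eq_add_neg]
    congr 1
    · rw [Finset.sum_eq_single (1 : Q)]
      · rw [if_pos rfl, hμ1, Complex.conj_natCast]
      · intro g _ hg
        rw [if_neg hg, zero_mul]
      · intro h
        exact absurd (Finset.mem_univ _) h
    · have e : ∀ g : Q, (if g ∈ Z then -(2 ^ (m + 1) : ℂ) else 0) * conj ((μ : Q → ℂ) g) =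
          if g ∈ Z then -(2 ^ (m + 1) : ℂ) * conj ((μ : Q → ℂ) g) else 0 := by
        intro g
        by_cases hg : g ∈ Z
        · rw [if_pos hg, if_pos hg]
        · rw [if_neg hg, if_neg hg, zero_mul]
      rw [Finset.sum_congr rfl (fun g _ => e g), TIP.sum_subgroup Z
        (fun g => -(2 ^ (m + 1) : ℂ) * conj ((μ : Q → ℂ) g)), map_sum, Finset.mul_sum,
        ← Finset.sum_neg_distrib]
      refine Finset.sum_congr rfl fun z _ => ?_
      rw [irr_eq_omega Z hZ hμ z, hμ1, map_mul, Complex.conj_natCast]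
      ring
  have h2 := card_ne_zero' (Q := Q)
  unfold classInner
  rw [hsum, sum_hom]
  by_cases hω : omegaHom Z hZ hμ = 1
  · refine ⟨0, ?_⟩
    rw [if_pos hω, hZc, Complex.conj_natCast]
    push_cast
    ring
  · rw [if_neg hω, map_zero, mul_zero, sub_zero, hQ]
    obtain ⟨k, hk⟩ := two_pow_dvd_degree Z hZ m hQ hcomm hrad hμ hω
    refine ⟨k, ?_⟩
    rw [← hd] at hk
    rw [hk]
    push_cast
    have h3 : (2 : ℂ) ^ (2 * m + 1) ≠ 0 := pow_ne_zero _ two_ne_zero
    have h4 : (2 : ℂ) ^ (2 * m + 1) = 2 ^ (m + 1) * 2 ^ m := by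
      rw [← pow_add]
      congr 1
      ring
    field_simp
    rw [h4]

end Psi

end Cfsg.Agent.Helper2.CT
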