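import Mathlib
import Cfsg.Agent.Lib.Helper2.SzCT1
import Cfsg.Agent.Lib.Helper2.SzCT2
import Cfsg.Agent.Lib.Helper2.SzCT3
import Cfsg.Agent.Lib.Helper2.SzCT4
import Cfsg.Agent.Lib.Helper2.SzSg7
import Cfsg.Agent.Lib.Helper2.SzCover

set_option autoImplicit false
set_option linter.unusedSectionVars false
set_option linter.unusedSimpArgs false
set_option linter.unusedVariables false
set_option linter.style.openClassical false
set_option linter.style.haveILetI false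

/-! The partition of the Suzuki group by trivial intersection subgroups. -/

namespace Cfsg.Agent.Helper2.Sz

open Matrix Cfsg.Agent.S0335 Cfsg.Agent.Helper2.CT
open scoped Pointwise commutatorElement

section Arith

theorem q_odd_sub (m : ℕ) : ¬ 2 ∣ 2 ^ (2 * m + 1) - 1 := by
  have h1 : 2 ∣ 2 ^ (2 * m + 1) := dvd_pow_self 2 (by omega)
  have h3 : 1 ≤ 2 ^ (2 * m + 1) := Nat.one_le_two_pow
  omega

theorem coprime_pow_of_odd {n : ℕ} (hn : ¬ 2 ∣ n) (k : ℕ) : Nat.Coprime (2 ^ k) n := by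
  apply Nat.Coprime.pow_left
  rw [Nat.coprime_two_left]
  exact Nat.odd_iff.2 (by omega)

theorem coprime_split_plus (m : ℕ) :
    Nat.Coprime (2 ^ (2 * m + 1) - 1) (2 ^ (2 * m + 1) + 2 ^ (m + 1) + 1) := by
  apply Nat.coprime_of_dvd
  intro ℓ hℓ h1 h2
  have h3 : ℓ ∣ (2 ^ (2 * m + 1)) ^ 2 + 1 := by
    rw [← tori_mul]
    exact Dvd.dvd.mul_right h2 _
  have hq1 : 1 ≤ 2 ^ (2 * m + 1) := Nat.one_le_two_pow
  have h4 : (2 ^ (2 * m + 1)) ^ 2 + 1 = (2 ^ (2 * m + 1) - 1) * (2 ^ (2 * m + 1) + 1) + 2 := by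
    obtain ⟨d, hd⟩ := Nat.exists_eq_add_of_le hq1
    rw [hd, Nat.add_sub_cancel_left]
    ring
  rw [h4] at h3
  have h5 : ℓ ∣ 2 := (Nat.dvd_add_right (Dvd.dvd.mul_right h1 _)).1 h3
  have h6 : ℓ = 2 := (Nat.prime_dvd_prime_iff_eq hℓ Nat.prime_two).1 h5
  rw [h6] at h1
  exact q_odd_sub m h1

theorem coprime_split_minus (m : ℕ) :
    Nat.Coprime (2 ^ (2 * m + 1) - 1) (2 ^ (2 * m + 1) - 2 ^ (m + 1) + 1) := by
  apply Nat.coprime_of_dvd
  intro ℓ hℓ h1 h2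
  have h3 : ℓ ∣ (2 ^ (2 * m + 1)) ^ 2 + 1 := by
    rw [← tori_mul]
    exact Dvd.dvd.mul_left h2 _
  have hq1 : 1 ≤ 2 ^ (2 * m + 1) := Nat.one_le_two_pow
  have h4 : (2 ^ (2 * m + 1)) ^ 2 + 1 = (2 ^ (2 * m + 1) - 1) * (2 ^ (2 * m + 1) + 1) + 2 := by
    obtain ⟨d, hd⟩ := Nat.exists_eq_add_of_le hq1
    rw [hd, Nat.add_sub_cancel_left]
    ring
  rw [h4] at h3
  have h5 : ℓ ∣ 2 := (Nat.dvd_add_right (Dvd.dvd.mul_right h1 _)).1 h3
  have h6 : ℓ = 2 := (Nat.prime_dvd_prime_iff_eq hℓ Nat.prime_two).1 h5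
  rw [h6] at h1
  exact q_odd_sub m h1

theorem plus_odd (m : ℕ) : ¬ 2 ∣ 2 ^ (2 * m + 1) + 2 ^ (m + 1) + 1 :=
  odd_of_mem (k := 2 ^ (2 * m + 1) + 2 ^ (m + 1) + 1) (Or.inr (Or.inl rfl))

theorem minus_odd (m : ℕ) : ¬ 2 ∣ 2 ^ (2 * m + 1) - 2 ^ (m + 1) + 1 :=
  odd_of_mem (k := 2 ^ (2 * m + 1) - 2 ^ (m + 1) + 1) (Or.inr (Or.inr rfl))

theorem coprime_plus_minus (m : ℕ) :
    Nat.Coprime (2 ^ (2 * m + 1) + 2 ^ (m + 1) + 1) (2 ^ (2 * m + 1) - 2 ^ (m + 1) + 1) := by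
  apply Nat.coprime_of_dvd
  intro ℓ hℓ h1 h2
  by_cases hℓ2 : ℓ = 2
  · rw [hℓ2] at h1
    exact plus_odd m h1
  · exact tori_coprime_aux m hℓ hℓ2 h1 h2

end Arith

/-- a choice of representatives of the two classes of twisted tori -/
structure Tori (F : Type*) [Field F] (m : ℕ) where
  /-- the torus of order `q + r + 1` -/
  A₁ : Subgroup (Cfsg.Sz F m)
  /-- the torus of order `q - r + 1` -/
  A₂ : Subgroup (Cfsg.Sz F m)
  tor₁ : IsTorus A₁
  tor₂ : IsTorus A₂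
  card₁ : Nat.card A₁ = 2 ^ (2 * m + 1) + 2 ^ (m + 1) + 1
  card₂ : Nat.card A₂ = 2 ^ (2 * m + 1) - 2 ^ (m + 1) + 1
  cardN₁ : Nat.card (Subgroup.normalizer (A₁ : Set (Cfsg.Sz F m))) =
    4 * (2 ^ (2 * m + 1) + 2 ^ (m + 1) + 1)
  cardN₂ : Nat.card (Subgroup.normalizer (A₂ : Set (Cfsg.Sz F m))) =
    4 * (2 ^ (2 * m + 1) - 2 ^ (m + 1) + 1)
  cover : ∀ g : Cfsg.Sz F m, Fpf g → ConjUnion A₁ g ∨ ConjUnion A₂ g

variable {F : Type*} [Field F] {m : ℕ} (S : SzData F m)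

namespace SzData

section group
variable [Fintype F]

include S in
theorem nonempty_tori (hm : 1 ≤ m) (hF : Fintype.card F = 2 ^ (2 * m + 1)) :
    Nonempty (Tori F m) := by
  obtain ⟨A₁, A₂, hA₁, hA₂, hc₁, hc₂, hn₁, hn₂, hcov⟩ := S.exists_two_tori_cover hm hF
  exact ⟨⟨A₁, A₂, hA₁, hA₂, hc₁, hc₂, hn₁, hn₂, hcov⟩⟩

/-- the four trivial intersection subgroups -/
def kk (D : Tori F m) : Fin 4 → Subgroup (Cfsg.Sz F m)
  | 0 => S.QSz
  | 1 => S.DgSz.range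
  | 2 => D.A₁
  | 3 => D.A₂

/-- their orders -/
def cc (m : ℕ) : Fin 4 → ℕ
  | 0 => (2 ^ (2 * m + 1)) ^ 2
  | 1 => 2 ^ (2 * m + 1) - 1
  | 2 => 2 ^ (2 * m + 1) + 2 ^ (m + 1) + 1
  | 3 => 2 ^ (2 * m + 1) - 2 ^ (m + 1) + 1

theorem card_range_DgSzCT (hF : Fintype.card F = 2 ^ (2 * m + 1)) :
    Nat.card S.DgSz.range = 2 ^ (2 * m + 1) - 1 := by
  have h1 : Nat.card S.DgSz.range = Nat.card Fˣ :=
    (Nat.card_congr (MonoidHom.ofInjective S.DgSz_injective).toEquiv).symm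
  rw [h1, Nat.card_units, Nat.card_eq_fintype_card, hF]

theorem isCyclic_range_DgSz : IsCyclic S.DgSz.range :=
  isCyclic_of_surjective S.DgSz.rangeRestrict S.DgSz.rangeRestrict_surjective

theorem card_kk (hF : Fintype.card F = 2 ^ (2 * m + 1)) (D : Tori F m) (i : Fin 4) :
    Nat.card (S.kk D i) = cc m i := by
  fin_cases i
  · show Nat.card S.QSz = _
    rw [S.card_QSz, hF]
    rfl
  · exact S.card_range_DgSzCT hF
  · exact D.card₁
  · exact D.card₂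

theorem cc_coprime (m : ℕ) {i j : Fin 4} (hij : i ≠ j) : Nat.Coprime (cc m i) (cc m j) := by
  have h01 : Nat.Coprime ((2 ^ (2 * m + 1)) ^ 2) (2 ^ (2 * m + 1) - 1) := by
    rw [← pow_mul]; exact coprime_pow_of_odd (q_odd_sub m) _
  have h02 : Nat.Coprime ((2 ^ (2 * m + 1)) ^ 2) (2 ^ (2 * m + 1) + 2 ^ (m + 1) + 1) := by
    rw [← pow_mul]; exact coprime_pow_of_odd (plus_odd m) _
  have h03 : Nat.Coprime ((2 ^ (2 * m + 1)) ^ 2) (2 ^ (2 * m + 1) - 2 ^ (m + 1) + 1) := by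
    rw [← pow_mul]; exact coprime_pow_of_odd (minus_odd m) _
  fin_cases i <;> fin_cases j <;> first
    | exact absurd rfl hij
    | exact h01
    | exact h01.symm
    | exact h02
    | exact h02.symm
    | exact h03
    | exact h03.symm
    | exact coprime_split_plus m
    | exact (coprime_split_plus m).symm
    | exact coprime_split_minus m
    | exact (coprime_split_minus m).symm
    | exact coprime_plus_minus m
    | exact (coprime_plus_minus m).symm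

include S in
theorem kk_ti (hm : 1 ≤ m) (hF : Fintype.card F = 2 ^ (2 * m + 1)) (D : Tori F m) (i : Fin 4)
    (k : Cfsg.Sz F m) (hk : k ∈ S.kk D i) (hk1 : k ≠ 1) (g : Cfsg.Sz F m)
    (hg : g * k * g⁻¹ ∈ S.kk D i) :
    g ∈ Subgroup.normalizer ((S.kk D i : Subgroup (Cfsg.Sz F m)) : Set (Cfsg.Sz F m)) := by
  have hinv : ∀ U : Subgroup (Cfsg.Sz F m),
      g⁻¹ ∈ Subgroup.normalizer (U : Set (Cfsg.Sz F m)) →
      g ∈ Subgroup.normalizer (U : Set (Cfsg.Sz F m)) := by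
    intro U h
    have := Subgroup.inv_mem _ h
    rwa [inv_inv] at this
  have hg' : (g⁻¹)⁻¹ * k * g⁻¹ ∈ S.kk D i := by rwa [inv_inv]
  fin_cases i
  · -- the unipotent subgroup
    show g ∈ Subgroup.normalizer (S.QSz : Set (Cfsg.Sz F m))
    rw [S.normalizer_QSz hm hF, MulAction.mem_stabilizer_iff]
    have hk' : k ∈ S.QSz := hk
    have hg'' : g * k * g⁻¹ ∈ S.QSz := hg
    have h1 : (g * k * g⁻¹) • pInf F = pInf F :=
      MulAction.mem_stabilizer_iff.1 (S.QSz_le_stabilizer hg'')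
    rw [mul_smul, mul_smul] at h1
    have h2 : k • g⁻¹ • pInf F = g⁻¹ • pInf F := eq_inv_smul_iff.2 h1
    have h3 := S.eq_pInf_of_mem_QSz_fix hk' hk1 (S.smul_mem_ovoid g⁻¹ S.pInf_mem) h2
    rw [inv_smul_eq_iff] at h3
    exact h3.symm
  · exact hinv _ (S.member_TI hm hF S.isCyclic_range_DgSz
      (Or.inl (S.card_range_DgSzCT hF)) hk hk1 hg')
  · exact hinv _ (S.torus_TI hm hF D.tor₁ k hk hk1 g⁻¹ hg')
  · exact hinv _ (S.torus_TI hm hF D.tor₂ k hk hk1 g⁻¹ hg')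

/-- an element of the point stabilizer outside the unipotent subgroup is conjugate into the
torus -/
theorem exists_conj_DgSz (a b : F) {u : Fˣ} (hu : u ≠ 1) :
    ∃ t : Cfsg.Sz F m, t⁻¹ * (S.TgSz a b * S.DgSz u) * t = S.DgSz u := by
  have h1 : 1 + S.s u ≠ 0 := by
    intro h
    apply hu
    apply Units.ext
    apply S.s_injective
    rw [Units.val_one, map_one]
    linear_combination h - S.add_self 1
  have h2 : 1 + S.s u * (u : F) ^ 2 ≠ 0 := by
    intro h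
    apply hu
    apply S.unit_eq_one_of
    linear_combination h - S.add_self 1
  obtain ⟨c, hc⟩ : ∃ c : F, c * (1 + S.s u) = a := ⟨a / (1 + S.s u), by field_simp⟩
  obtain ⟨d, hd⟩ : ∃ d : F, d * (1 + S.s u * (u : F) ^ 2) = b + S.s a * (S.s u * c) :=
    ⟨(b + S.s a * (S.s u * c)) / (1 + S.s u * (u : F) ^ 2), by field_simp⟩
  refine ⟨S.TgSz c d, ?_⟩
  have e : S.TgSz a b * S.DgSz u * S.TgSz c d = S.TgSz c d * S.DgSz u := by
    rw [mul_assoc, S.DgSz_TgSz, ← mul_assoc, S.TgSz_mul]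
    congr 2
    · linear_combination -hc + S.add_self (S.s u * c)
    · linear_combination -hd + S.add_self (S.s u * (u : F) ^ 2 * d)
  calc (S.TgSz c d)⁻¹ * (S.TgSz a b * S.DgSz u) * S.TgSz c d
      = (S.TgSz c d)⁻¹ * (S.TgSz a b * S.DgSz u * S.TgSz c d) := by group
    _ = S.DgSz u := by rw [e]; group

include S in
theorem kk_cover (hm : 1 ≤ m) (hF : Fintype.card F = 2 ^ (2 * m + 1)) (D : Tori F m)
    (g : Cfsg.Sz F m) (hg : g ≠ 1) : ∃ i, ∃ x : Cfsg.Sz F m, x * g * x⁻¹ ∈ S.kk D i := by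
  by_cases hf : Fpf g
  · rcases D.cover g hf with ⟨-, h, hh⟩ | ⟨-, h, hh⟩
    · refine ⟨2, h⁻¹, ?_⟩
      rw [inv_inv]
      exact hh
    · refine ⟨3, h⁻¹, ?_⟩
      rw [inv_inv]
      exact hh
  · unfold Fpf at hf
    push Not at hf
    obtain ⟨p, hp, hfix⟩ := hf
    rw [← S.orbit_pInf] at hp
    obtain ⟨y, rfl⟩ := hp
    have hfix' : g • y • pInf F = y • pInf F := hfix
    have h1 : y⁻¹ * g * y ∈ MulAction.stabilizer (Cfsg.Sz F m) (pInf F) := by
      rw [MulAction.mem_stabilizer_iff, mul_smul, mul_smul, hfix', inv_smul_smul]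
    obtain ⟨a, b, u, hab⟩ := (S.mem_stabilizer_pInf_iff hm hF).1 h1
    by_cases hu : u = 1
    · refine ⟨0, y⁻¹, ?_⟩
      rw [inv_inv, hab, hu, map_one, mul_one]
      exact S.TgSz_mem a b
    · obtain ⟨t, ht⟩ := S.exists_conj_DgSz a b hu
      refine ⟨1, (y * t)⁻¹, ?_⟩
      have e : (y * t)⁻¹ * g * ((y * t)⁻¹)⁻¹ = t⁻¹ * (y⁻¹ * g * y) * t := by group
      rw [e, hab, ht]
      exact ⟨u, rfl⟩

include S in
theorem kk_disj (hF : Fintype.card F = 2 ^ (2 * m + 1)) (D : Tori F m) (i j : Fin 4)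
    (hij : i ≠ j) (k : Cfsg.Sz F m) (hk : k ∈ S.kk D i) (hk1 : k ≠ 1) (x : Cfsg.Sz F m) :
    x * k * x⁻¹ ∉ S.kk D j := by
  intro h
  apply hk1
  rw [← orderOf_eq_one_iff]
  have h1 : orderOf k ∣ cc m i := by
    rw [← S.card_kk hF D i]
    exact Subgroup.orderOf_dvd_natCard _ hk
  have h2 : orderOf k ∣ cc m j := by
    rw [← S.card_kk hF D j]
    have e : orderOf (x * k * x⁻¹) = orderOf k := by
      have : x * k * x⁻¹ = MulAut.conj x k := by rw [MulAut.conj_apply]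
      rw [this, MulEquiv.orderOf_eq]
    rw [← e]
    exact Subgroup.orderOf_dvd_natCard _ h
  exact Nat.eq_one_of_dvd_coprimes (cc_coprime m hij) h1 h2

/-- **the partition of the Suzuki group** -/
noncomputable def tip (hm : 1 ≤ m) (hF : Fintype.card F = 2 ^ (2 * m + 1)) (D : Tori F m) :
    TIP (Cfsg.Sz F m) (Fin 4) where
  K := S.kk D
  N := fun i => Subgroup.normalizer ((S.kk D i : Subgroup (Cfsg.Sz F m)) : Set (Cfsg.Sz F m))
  le := fun i => Subgroup.le_normalizer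
  norm := fun i n hn k hk => (Subgroup.mem_normalizer_iff.1 hn k).1 hk
  ti := S.kk_ti hm hF D
  cover := S.kk_cover hm hF D
  disj := S.kk_disj hF D

include S in
/-- the subgroups `K i` contain the centralizers of their nonidentity elements -/
theorem kk_centralizer (hm : 1 ≤ m) (hF : Fintype.card F = 2 ^ (2 * m + 1)) (D : Tori F m)
    (i : Fin 4) (k : Cfsg.Sz F m) (hk : k ∈ S.kk D i) (hk1 : k ≠ 1) (g : Cfsg.Sz F m)
    (hg : g * k = k * g) : g ∈ S.kk D i := by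
  fin_cases i
  · show g ∈ S.QSz
    have hk' : k ∈ S.QSz := hk
    obtain ⟨a, b, rfl⟩ := S.mem_QSz_iff.1 hk'
    have key : ∀ b' : F, b' ≠ 0 → g * S.TgSz 0 b' = S.TgSz 0 b' * g → g ∈ S.QSz := by
      intro b' hb' hc
      have hc' : (g : SpecialLinearGroup (Fin 4) F) * S.Tg 0 b' = S.Tg 0 b' * g :=
        congrArg Subtype.val hc
      obtain ⟨a'', b'', h⟩ := S.mem_Q_of_commute hm hF hb' g.2 hc'
      exact ⟨a'', b'', h⟩
    by_cases ha : a = 0
    · subst ha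
      have hb : b ≠ 0 := by
        rintro rfl
        exact hk1 S.TgSz_zero
      exact key b hb hg
    · have hsq : S.TgSz a b * S.TgSz a b = S.TgSz 0 (S.s a * a) := by
        rw [S.TgSz_mul]
        congr 1
        · exact S.add_self a
        · rw [S.add_self b, zero_add]
      have hne : S.s a * a ≠ 0 := mul_ne_zero ((map_ne_zero S.s).2 ha) ha
      apply key _ hne
      rw [← hsq, ← mul_assoc, hg, mul_assoc, hg, mul_assoc]
  · exact (S.member_eq_centralizer' hm hF S.isCyclic_range_DgSz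
      (Or.inl (S.card_range_DgSzCT hF)) hk hk1 g).2 hg
  · show g ∈ D.A₁
    rw [← S.centralizer_eq_of_mem_torus hm hF D.tor₁ hk hk1, mem_centralizer_singleton]
    exact hg
  · show g ∈ D.A₂
    rw [← S.centralizer_eq_of_mem_torus hm hF D.tor₂ hk hk1, mem_centralizer_singleton]
    exact hg

include S in
/-- elementary subgroups are conjugate into the subgroups `K i` -/
theorem kk_elementary (hm : 1 ≤ m) (hF : Fintype.card F = 2 ^ (2 * m + 1)) (D : Tori F m)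
    (E : Subgroup (Cfsg.Sz F m)) (p : ℕ) (hp : p.Prime) (hE : Cfsg.IsElementary p E) :
    ∃ i, ∃ x : Cfsg.Sz F m, ∀ e ∈ E, x * e * x⁻¹ ∈ S.kk D i := by
  have hfact : Fact p.Prime := ⟨hp⟩
  by_cases hE1 : ∀ e ∈ E, e = 1
  · refine ⟨0, 1, fun e he => ?_⟩
    rw [hE1 e he, mul_one, inv_one, mul_one]
    exact Subgroup.one_mem _
  · push Not at hE1
    obtain ⟨e₀, he₀, he₀1⟩ := hE1
    have hnt : Nontrivial E := ⟨⟨⟨e₀, he₀⟩, 1, fun h => he₀1 (congrArg Subtype.val h)⟩⟩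
    -- a nontrivial central element
    have hcen : ∃ c : E, c ∈ Subgroup.center E ∧ c ≠ 1 := by
      obtain ⟨x, hxc, hcop, k, hk⟩ := hE
      by_cases hx1 : x = 1
      · rw [hx1, Subgroup.zpowers_one_eq_bot, Subgroup.index_bot] at hk
        have hP : IsPGroup p E := IsPGroup.of_card hk
        have := hP.center_nontrivial
        obtain ⟨⟨c, hc⟩, hc1⟩ := exists_ne (1 : Subgroup.center E)
        exact ⟨c, hc, fun h => hc1 (Subtype.ext h)⟩
      · exact ⟨x, hxc, hx1⟩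
    obtain ⟨c, hc, hc1⟩ := hcen
    have hc1' : (c : Cfsg.Sz F m) ≠ 1 := fun h => hc1 (Subtype.ext h)
    obtain ⟨i, y, hy⟩ := S.kk_cover hm hF D (c : Cfsg.Sz F m) hc1'
    refine ⟨i, y, fun e he => ?_⟩
    apply S.kk_centralizer hm hF D i _ hy (TIP.conj_ne_one hc1')
    have h1 : (⟨e, he⟩ : E) * c = c * ⟨e, he⟩ := Subgroup.mem_center_iff.1 hc ⟨e, he⟩
    have h2 : e * (c : Cfsg.Sz F m) = c * e := congrArg Subtype.val h1
    calc y * e * y⁻¹ * (y * c * y⁻¹) = y * (e * c) * y⁻¹ := by group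
      _ = y * (c * e) * y⁻¹ := by rw [h2]
      _ = y * c * y⁻¹ * (y * e * y⁻¹) := by group

theorem DgSzCT_fix_of_ne_one {v : Fˣ} (hv : v ≠ 1) {p : Projectivization F (Fin 4 → F)}
    (hp : p ∈ Cfsg.suzukiOvoid F m) (h : S.DgSz v • p = p) : p = pInf F ∨ p = S.pt 0 0 :=
  S.Dg_fix_of_ne_one hv hp h

include S in
/-- the normalizer of the split torus -/
theorem normalizer_range_cases (hm : 1 ≤ m) (hF : Fintype.card F = 2 ^ (2 * m + 1))
    {n : Cfsg.Sz F m} (hn : n ∈ Subgroup.normalizer (S.DgSz.range : Set (Cfsg.Sz F m))) :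
    n ∈ S.DgSz.range ∨ S.WgSz * n ∈ S.DgSz.range := by
  obtain ⟨u₀, hu₀⟩ := S.exists_unit_ne_one hm hF
  have h1 : n * S.DgSz u₀ * n⁻¹ ∈ S.DgSz.range :=
    (Subgroup.mem_normalizer_iff.1 hn _).1 ⟨u₀, rfl⟩
  obtain ⟨v, hv⟩ := h1
  have hv1 : v ≠ 1 := by
    rintro rfl
    apply hu₀
    apply S.DgSz_injective
    rw [map_one] at hv ⊢
    calc S.DgSz u₀ = n⁻¹ * (n * S.DgSz u₀ * n⁻¹) * n := by group
      _ = 1 := by rw [← hv]; group
  have hfix : ∀ p : Projectivization F (Fin 4 → F), S.DgSz u₀ • p = p →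
      S.DgSz v • n • p = n • p := by
    intro p hp
    rw [hv, mul_smul, mul_smul, inv_smul_smul, hp]
  have ha := S.DgSzCT_fix_of_ne_one hv1 (S.smul_mem_ovoid n S.pInf_mem)
    (hfix _ (S.DgSz_smul_pInf u₀))
  have hb := S.DgSzCT_fix_of_ne_one hv1 (S.smul_mem_ovoid n (S.pt_mem 0 0))
    (hfix _ (S.DgSz_smul_pt_zero u₀))
  have hne : n • pInf F ≠ n • S.pt 0 0 := by
    intro h
    exact S.pt_ne_pInf 0 0 (MulAction.injective n h).symm
  rw [S.range_DgSz hm hF, Subgroup.mem_inf, Subgroup.mem_inf, MulAction.mem_stabilizer_iff,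
    MulAction.mem_stabilizer_iff, MulAction.mem_stabilizer_iff, MulAction.mem_stabilizer_iff,
    mul_smul, mul_smul]
  rcases ha with ha | ha
  · rcases hb with hb | hb
    · exact absurd (ha.trans hb.symm) hne
    · exact Or.inl ⟨ha, hb⟩
  · rcases hb with hb | hb
    · right
      rw [ha, hb]
      exact ⟨S.WgSz_smul_pt_zero, S.WgSz_smul_pInf⟩
    · exact absurd (ha.trans hb.symm) hne

theorem WgSz_not_mem_range (hm : 1 ≤ m) (hF : Fintype.card F = 2 ^ (2 * m + 1)) :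
    S.WgSz ∉ S.DgSz.range := by
  intro h
  rw [S.range_DgSz hm hF, Subgroup.mem_inf, MulAction.mem_stabilizer_iff] at h
  have h1 := h.1
  rw [S.WgSz_smul_pInf] at h1
  exact S.pt_ne_pInf 0 0 h1

theorem WgSz_mem_normalizer :
    S.WgSz ∈ Subgroup.normalizer (S.DgSz.range : Set (Cfsg.Sz F m)) := by
  rw [Subgroup.mem_normalizer_iff]
  intro h
  rw [S.WgSz_inv]
  constructor
  · rintro ⟨u, rfl⟩
    exact ⟨u⁻¹, (S.WgSz_DgSz_WgSz u).symm⟩
  · rintro ⟨v, hv⟩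
    refine ⟨v⁻¹, ?_⟩
    rw [← S.WgSz_DgSz_WgSz v, hv]
    calc S.WgSz * (S.WgSz * h * S.WgSz) * S.WgSz
        = (S.WgSz * S.WgSz) * h * (S.WgSz * S.WgSz) := by group
      _ = h := by rw [S.WgSz_mul_WgSz, one_mul, mul_one]

include S in
theorem card_normalizer_range (hm : 1 ≤ m) (hF : Fintype.card F = 2 ^ (2 * m + 1)) :
    Nat.card (Subgroup.normalizer (S.DgSz.range : Set (Cfsg.Sz F m))) =
      2 * (2 ^ (2 * m + 1) - 1) := by
  obtain ⟨N₀, hN₀⟩ : ∃ N₀, N₀ = Subgroup.normalizer (S.DgSz.range : Set (Cfsg.Sz F m)) :=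
    ⟨_, rfl⟩
  rw [← hN₀]
  have hle : S.DgSz.range ≤ N₀ := hN₀ ▸ Subgroup.le_normalizer
  have hw : S.WgSz ∈ N₀ := hN₀ ▸ S.WgSz_mem_normalizer
  have hidx : (S.DgSz.range.subgroupOf N₀).index = 2 := by
    rw [Subgroup.index_eq_two_iff]
    refine ⟨⟨S.WgSz, hw⟩, fun b => ?_⟩
    rw [Subgroup.mem_subgroupOf, Subgroup.mem_subgroupOf]
    have hb : (b : Cfsg.Sz F m)⁻¹ ∈ Subgroup.normalizer (S.DgSz.range : Set (Cfsg.Sz F m)) :=
      hN₀ ▸ N₀.inv_mem b.2
    have hnot : ¬ ((b : Cfsg.Sz F m) ∈ S.DgSz.range ∧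
        (b : Cfsg.Sz F m) * S.WgSz ∈ S.DgSz.range) := by
      rintro ⟨h1, h2⟩
      apply S.WgSz_not_mem_range hm hF
      have := S.DgSz.range.mul_mem (S.DgSz.range.inv_mem h1) h2
      rwa [inv_mul_cancel_left] at this
    rcases S.normalizer_range_cases hm hF hb with h | h
    · have h' : (b : Cfsg.Sz F m) ∈ S.DgSz.range := by
        have := S.DgSz.range.inv_mem h
        rwa [inv_inv] at this
      exact Or.inr ⟨h', fun h2 => hnot ⟨h', h2⟩⟩
    · have h' : (b : Cfsg.Sz F m) * S.WgSz ∈ S.DgSz.range := by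
        have := S.DgSz.range.inv_mem h
        rwa [_root_.mul_inv_rev, inv_inv, S.WgSz_inv] at this
      exact Or.inl ⟨h', fun h2 => hnot ⟨h2, h'⟩⟩
  have h1 := Subgroup.card_mul_index (S.DgSz.range.subgroupOf N₀)
  rw [hidx, Nat.card_congr (Subgroup.subgroupOfEquivOfLe hle).toEquiv, S.card_range_DgSzCT hF] at h1
  rw [← h1, mul_comm]

/-- the orders of the normalizers -/
def nn (m : ℕ) : Fin 4 → ℕ
  | 0 => (2 ^ (2 * m + 1)) ^ 2 * (2 ^ (2 * m + 1) - 1)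
  | 1 => 2 * (2 ^ (2 * m + 1) - 1)
  | 2 => 4 * (2 ^ (2 * m + 1) + 2 ^ (m + 1) + 1)
  | 3 => 4 * (2 ^ (2 * m + 1) - 2 ^ (m + 1) + 1)

include S in
theorem card_tip_N (hm : 1 ≤ m) (hF : Fintype.card F = 2 ^ (2 * m + 1)) (D : Tori F m)
    (i : Fin 4) : Nat.card ((S.tip hm hF D).N i) = nn m i := by
  fin_cases i
  · show Nat.card (Subgroup.normalizer (S.QSz : Set (Cfsg.Sz F m))) = _
    rw [S.normalizer_QSz hm hF, S.card_stabilizer_pInf hm hF]
    rfl
  · exact S.card_normalizer_range hm hF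
  · exact D.cardN₁
  · exact D.cardN₂

theorem card_tip_K (hm : 1 ≤ m) (hF : Fintype.card F = 2 ^ (2 * m + 1)) (D : Tori F m)
    (i : Fin 4) : Nat.card ((S.tip hm hF D).K i) = cc m i := S.card_kk hF D i

theorem isCyclic_kk (hF : Fintype.card F = 2 ^ (2 * m + 1)) (D : Tori F m) (i : Fin 4)
    (hi : i ≠ 0) : IsCyclic (S.kk D i) := by
  fin_cases i
  · exact absurd rfl hi
  · exact S.isCyclic_range_DgSz
  · exact S.isCyclic_of_isTorus hF D.tor₁
  · exact S.isCyclic_of_isTorus hF D.tor₂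

include S in
/-- the tori with their normalizers -/
theorem tip_TP (hm : 1 ≤ m) (hF : Fintype.card F = 2 ^ (2 * m + 1)) (D : Tori F m)
    (i : Fin 4) (hi : i ≠ 0) : TP ((S.tip hm hF D).K i) ((S.tip hm hF D).N i) where
  le := (S.tip hm hF D).le i
  norm := (S.tip hm hF D).norm i
  comm := by
    intro a ha b hb
    have hc := S.isCyclic_kk hF D i hi
    have := (IsCyclic.commGroup (α := S.kk D i)).mul_comm ⟨a, ha⟩ ⟨b, hb⟩
    exact congrArg Subtype.val this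
  free := by
    intro a ha ha1 n _ hna
    exact S.kk_centralizer hm hF D i a ha ha1 n hna

end group

end SzData

end Cfsg.Agent.Helper2.Sz
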