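import Mathlib
import Cfsg.Agent.Lib.Helper2.SzBorelSub

set_option autoImplicit false
set_option linter.unusedSectionVars false
set_option linter.unusedSimpArgs false

namespace Cfsg.Agent.Helper2.Sz

variable {F : Type*} [Field F] {m : ℕ} (S : SzData F m)

namespace SzData

/-- the additive commutator form of the unipotent subgroup -/
def comF (a : F) : F →+ F where
  toFun c := S.s c * a + S.s a * c
  map_zero' := by simp
  map_add' := by
    intro x y
    rw [map_add]
    ring

theorem comF_apply (a c : F) : S.comF a c = S.s c * a + S.s a * c := rfl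

/-- the character `c ↦ ψ (s c * a + s a * c)` -/
noncomputable def comChar (ψ : AddChar F ℂ) (a : F) : AddChar F ℂ :=
  ψ.compAddMonoidHom (S.comF a)

theorem comChar_apply (ψ : AddChar F ℂ) (a c : F) :
    S.comChar ψ a c = ψ (S.s c * a + S.s a * c) := rfl

theorem comChar_add (ψ : AddChar F ℂ) (a b : F) :
    S.comChar ψ (a + b) = S.comChar ψ a * S.comChar ψ b := by
  apply DFunLike.ext
  intro c
  rw [AddChar.mul_apply, comChar_apply, comChar_apply, comChar_apply, ← AddChar.map_add_eq_mul]
  congr 1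
  rw [map_add]
  ring

theorem comChar_zero (ψ : AddChar F ℂ) : S.comChar ψ 0 = 1 := by
  apply DFunLike.ext
  intro c
  rw [comChar_apply, map_zero, mul_zero, zero_mul, add_zero, AddChar.map_zero_eq_one,
    AddChar.one_apply]

theorem comChar_add_self (ψ : AddChar F ℂ) (a b : F) (h : S.comChar ψ a = S.comChar ψ b) :
    S.comChar ψ (a + b) = 1 := by
  rw [comChar_add, h, ← comChar_add, S.add_self, comChar_zero]

section fin
variable [Fintype F] [DecidableEq F]

omit [DecidableEq F] in
theorem two_mul_card_ker_le (ψ : AddChar F ℂ) (hψ : ψ ≠ 1) :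
    2 * (Finset.univ.filter (fun x : F => ψ x = 1)).card ≤ Fintype.card F := by
  classical
  obtain ⟨x₀, hx₀⟩ := (AddChar.ne_one_iff).1 hψ
  have h1 := Finset.card_filter_add_card_filter_not (s := (Finset.univ : Finset F))
    (fun x : F => ψ x = 1)
  have h2 : (Finset.univ.filter (fun x : F => ψ x = 1)).card ≤
      (Finset.univ.filter (fun x : F => ¬ ψ x = 1)).card := by
    apply Finset.card_le_card_of_injOn (fun x => x + x₀)
    · intro x hx
      have hx' : ψ x = 1 := (Finset.mem_filter.1 hx).2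
      apply Finset.mem_coe.2
      rw [Finset.mem_filter]
      refine ⟨Finset.mem_univ _, ?_⟩
      rw [AddChar.map_add_eq_mul, hx', one_mul]
      exact hx₀
    · intro x _ y _ hxy
      exact add_right_cancel hxy
  rw [Finset.card_univ] at h1
  omega

include S in
theorem card_le_two_mul_image {e : F} (he : e ≠ 0) :
    Fintype.card F ≤ 2 * (Finset.univ.image (fun t : F => e * (t + S.s t))).card := by
  rw [← Finset.card_univ]
  apply Finset.card_le_mul_card_image
  intro b _
  by_contra hcon
  rw [not_le, Finset.two_lt_card] at hcon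
  obtain ⟨t1, h1, t2, h2, t3, h3, h12, h13, h23⟩ := hcon
  rw [Finset.mem_filter] at h1 h2 h3
  have key : ∀ x y : F, e * (x + S.s x) = b → e * (y + S.s y) = b → x ≠ y → x + y = 1 := by
    intro x y hx hy hxy
    have h4 : x + S.s x = y + S.s y := mul_left_cancel₀ he (hx.trans hy.symm)
    have h5 : S.s (x + y) = x + y := by
      rw [map_add]
      linear_combination h4 - S.add_self x + S.add_self (S.s y)
    rcases S.eq_zero_or_one_of_fix h5 with h | h
    · exfalso
      apply hxy
      linear_combination h - S.add_self y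
    · exact h
  have h4 := key t1 t2 h1.2 h2.2 h12
  have h5 := key t1 t3 h1.2 h3.2 h13
  apply h23
  linear_combination h4 - h5

omit [Fintype F] in
/-- multiplication by a nonzero scalar preserving a finite set is onto it -/
theorem mem_of_mul_mem (H : Finset F) {μ : F} (hμ : μ ≠ 0) (hH : ∀ h ∈ H, μ * h ∈ H) {x : F}
    (hx : μ * x ∈ H) : x ∈ H := by
  have h1 : H.image (fun h => μ * h) = H := by
    apply Finset.eq_of_subset_of_card_le
    · intro y hy
      obtain ⟨h, hh, rfl⟩ := Finset.mem_image.1 hy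
      exact hH h hh
    · rw [Finset.card_image_of_injective]
      intro a b hab
      exact mul_left_cancel₀ hμ hab
  rw [← h1] at hx
  obtain ⟨h, hh, hhx⟩ := Finset.mem_image.1 hx
  have : h = x := mul_left_cancel₀ hμ hhx
  rwa [← this]

include S in
theorem image_eq_ker (ψ : AddChar F ℂ) (hψ : ψ ≠ 1) {r : F} (hr : r ≠ 0)
    (h : S.comChar ψ r = 1) :
    Finset.univ.image (fun t : F => (r * S.s r) * (t + S.s t)) =
      Finset.univ.filter (fun x : F => ψ x = 1) := by
  have hν : r * S.s r ≠ 0 := mul_ne_zero hr ((map_ne_zero S.s).2 hr)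
  apply Finset.eq_of_subset_of_card_le
  · intro y hy
    obtain ⟨t, _, rfl⟩ := Finset.mem_image.1 hy
    rw [Finset.mem_filter]
    refine ⟨Finset.mem_univ _, ?_⟩
    have h1 : S.comChar ψ r (r * t) = 1 := by rw [h, AddChar.one_apply]
    rw [comChar_apply, map_mul] at h1
    rw [← h1]
    congr 1
    ring
  · have h1 := S.card_le_two_mul_image hν
    have h2 := two_mul_card_ker_le ψ hψ
    omega

include S in
theorem apply_eq_one_or (ψ : AddChar F ℂ) (x : F) : ψ x = 1 ∨ ψ x = -1 := by
  have h1 : ψ x * ψ x = 1 := by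
    rw [← AddChar.map_add_eq_mul, S.add_self, AddChar.map_zero_eq_one]
  exact mul_self_eq_one_iff.1 h1

include S in
/-- the radical of the commutator form twisted by a nontrivial character has at most one
nonzero element -/
theorem rad_unique (ψ : AddChar F ℂ) (hψ : ψ ≠ 1) {r r' : F} (hr : r ≠ 0) (hr' : r' ≠ 0)
    (h : S.comChar ψ r = 1) (h' : S.comChar ψ r' = 1) : r = r' := by
  have hν : r * S.s r ≠ 0 := mul_ne_zero hr ((map_ne_zero S.s).2 hr)
  have hν' : r' * S.s r' ≠ 0 := mul_ne_zero hr' ((map_ne_zero S.s).2 hr')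
  have hI := S.image_eq_ker ψ hψ hr h
  have hI' := S.image_eq_ker ψ hψ hr' h'
  obtain ⟨μ, hμdef⟩ : ∃ μ : F, μ = (r' * S.s r') * (r * S.s r)⁻¹ := ⟨_, rfl⟩
  have hμ0 : μ ≠ 0 := by
    rw [hμdef]
    exact mul_ne_zero hν' (inv_ne_zero hν)
  have hμν : μ * (r * S.s r) = r' * S.s r' := by
    rw [hμdef, mul_assoc, inv_mul_cancel₀ hν, mul_one]
  have hmem : ∀ x : F, x ∈ Finset.univ.filter (fun x : F => ψ x = 1) ↔ ψ x = 1 := by
    intro x
    rw [Finset.mem_filter]
    exact ⟨fun h => h.2, fun h => ⟨Finset.mem_univ _, h⟩⟩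
  have hclosed : ∀ x ∈ Finset.univ.filter (fun x : F => ψ x = 1),
      μ * x ∈ Finset.univ.filter (fun x : F => ψ x = 1) := by
    intro x hx
    rw [← hI] at hx
    obtain ⟨t, _, rfl⟩ := Finset.mem_image.1 hx
    rw [← hI']
    apply Finset.mem_image.2
    refine ⟨t, Finset.mem_univ _, ?_⟩
    rw [← hμν]
    ring
  have hμ1 : μ = 1 := by
    by_contra hne
    obtain ⟨x₀, hx₀⟩ := (AddChar.ne_one_iff).1 hψ
    have hx₀' : ψ x₀ = -1 := (S.apply_eq_one_or ψ x₀).resolve_left hx₀
    have hμx₀ : ψ (μ * x₀) ≠ 1 := by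
      intro h1
      apply hx₀
      exact (hmem x₀).1 (mem_of_mul_mem _ hμ0 hclosed ((hmem _).2 h1))
    have hμx₀' : ψ (μ * x₀) = -1 := (S.apply_eq_one_or ψ _).resolve_left hμx₀
    have hμ10 : μ + 1 ≠ 0 := by
      intro h0
      apply hne
      linear_combination h0 - S.add_self 1
    have hclosed' : ∀ x ∈ Finset.univ.filter (fun x : F => ψ x = 1),
        (μ + 1) * x ∈ Finset.univ.filter (fun x : F => ψ x = 1) := by
      intro x hx
      have h1 := (hmem _).1 (hclosed x hx)
      have h2 := (hmem _).1 hx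
      rw [hmem, add_mul, one_mul, AddChar.map_add_eq_mul, h1, h2, one_mul]
    have h3 : (μ + 1) * x₀ ∈ Finset.univ.filter (fun x : F => ψ x = 1) := by
      rw [hmem, add_mul, one_mul, AddChar.map_add_eq_mul, hx₀', hμx₀']
      norm_num
    exact hx₀ ((hmem x₀).1 (mem_of_mul_mem _ hμ10 hclosed' h3))
  rw [hμ1, one_mul] at hμν
  have hinj : Function.Injective (fun a : F => a * S.s a) :=
    Finite.injective_iff_surjective.2 (fun e => S.mul_s_surjective e)
  exact hinj hμν

include S in
/-- the characters `comChar ψ a` take at least `q / 2` distinct values -/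
theorem card_le_two_mul_image_comChar [DecidableEq (AddChar F ℂ)] (ψ : AddChar F ℂ)
    (hψ : ψ ≠ 1) :
    Fintype.card F ≤ 2 * (Finset.univ.image (fun a : F => S.comChar ψ a)).card := by
  rw [← Finset.card_univ]
  apply Finset.card_le_mul_card_image
  intro b _
  by_contra hcon
  rw [not_le, Finset.two_lt_card] at hcon
  obtain ⟨t1, h1, t2, h2, t3, h3, h12, h13, h23⟩ := hcon
  rw [Finset.mem_filter] at h1 h2 h3
  have key : ∀ x y : F, S.comChar ψ x = b → S.comChar ψ y = b → x ≠ y →
      x + y ≠ 0 ∧ S.comChar ψ (x + y) = 1 := by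
    intro x y hx hy hxy
    refine ⟨?_, S.comChar_add_self ψ x y (hx.trans hy.symm)⟩
    intro h0
    apply hxy
    linear_combination h0 - S.add_self y
  obtain ⟨h4, h5⟩ := key t1 t2 h1.2 h2.2 h12
  obtain ⟨h6, h7⟩ := key t1 t3 h1.2 h3.2 h13
  have h8 := S.rad_unique ψ hψ h4 h6 h5 h7
  apply h23
  exact add_left_cancel h8

end fin

end SzData

end Cfsg.Agent.Helper2.Sz
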