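import Mathlib
import Cfsg.Agent.Lib.Helper2.SzCT5
import Cfsg.Agent.Lib.Helper2.SzRep2

set_option autoImplicit false
set_option linter.unusedSectionVars false
set_option linter.unusedSimpArgs false
set_option linter.unusedVariables false
set_option linter.style.openClassical false
set_option linter.style.haveILetI false

/-! The unipotent subgroup of the Suzuki group: its centre and the generalized character `Ψ`. -/

namespace Cfsg.Agent.Helper2.Sz

open Cfsg.Agent.Helper2.CT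
open scoped commutatorElement
open Classical

universe u

variable {F : Type*} [Field F] {m : ℕ} {S : SzData F m}

namespace TData

variable {G₀ : Type u} [Group G₀] (T : TData S G₀)

theorem tau_zero_mul (b b' : F) : T.τ 0 b * T.τ 0 b' = T.τ 0 (b + b') := by
  rw [T.mul, map_zero, zero_mul, add_zero, add_zero]

/-- the centre -/
def ZT : Subgroup G₀ where
  carrier := {g | ∃ b : F, g = T.τ 0 b}
  mul_mem' := by
    rintro _ _ ⟨b, rfl⟩ ⟨d, rfl⟩
    exact ⟨b + d, T.tau_zero_mul b d⟩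
  one_mem' := ⟨0, T.one.symm⟩
  inv_mem' := by
    rintro _ ⟨b, rfl⟩
    refine ⟨b, ?_⟩
    rw [inv_eq_iff_mul_eq_one, T.tau_zero_mul, S.add_self, T.one]

theorem mem_ZT {g : G₀} : g ∈ T.ZT ↔ ∃ b : F, g = T.τ 0 b := Iff.rfl

theorem ZT_le_center : T.ZT ≤ Subgroup.center G₀ := by
  rintro _ ⟨b, rfl⟩
  rw [Subgroup.mem_center_iff]
  intro g
  obtain ⟨c, d, rfl⟩ := T.surj g
  exact ((T.comm_iff 0 b c d).2 (by rw [map_zero, zero_mul, mul_zero])).symm

theorem comm_mem (g h : G₀) : ⁅g, h⁆ ∈ T.ZT := by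
  obtain ⟨a, b, rfl⟩ := T.surj g
  obtain ⟨c, d, rfl⟩ := T.surj h
  rw [T.commutator_eq]
  exact ⟨_, rfl⟩

theorem mem_ZT_iff_sq (g : G₀) : g ∈ T.ZT ↔ g * g = 1 := by
  obtain ⟨a, b, rfl⟩ := T.surj g
  rw [← pow_two, T.sq, ← T.one]
  constructor
  · rintro ⟨b', hb'⟩
    obtain ⟨rfl, -⟩ := T.inj hb'
    rw [map_zero, zero_mul]
  · intro h
    have h1 := (T.inj h).2
    have ha : a = 0 := by
      by_contra ha
      exact mul_ne_zero ((map_ne_zero S.s).2 ha) ha h1
    subst ha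
    exact ⟨b, rfl⟩

theorem card_ZT [Fintype F] : Nat.card T.ZT = Fintype.card F := by
  rw [← Nat.card_eq_fintype_card]
  symm
  apply Nat.card_eq_of_bijective (fun b : F => (⟨T.τ 0 b, ⟨b, rfl⟩⟩ : T.ZT))
  constructor
  · intro b d h
    exact (T.inj (congrArg Subtype.val h)).2
  · rintro ⟨_, b, rfl⟩
    exact ⟨b, rfl⟩

/-- the additive character attached to a character of the centre -/
noncomputable def psiOf (ω : T.ZT →* ℂˣ) : AddChar F ℂ where
  toFun b := ((ω ⟨T.τ 0 b, ⟨b, rfl⟩⟩ : ℂˣ) : ℂ)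
  map_zero_eq_one' := by
    have : (⟨T.τ 0 0, ⟨0, rfl⟩⟩ : T.ZT) = 1 := Subtype.ext T.one
    rw [this, map_one, Units.val_one]
  map_add_eq_mul' := by
    intro b b'
    have : (⟨T.τ 0 (b + b'), ⟨b + b', rfl⟩⟩ : T.ZT) =
        ⟨T.τ 0 b, ⟨b, rfl⟩⟩ * ⟨T.τ 0 b', ⟨b', rfl⟩⟩ := Subtype.ext (T.tau_zero_mul b b').symm
    rw [this, map_mul, Units.val_mul]

theorem psiOf_apply (ω : T.ZT →* ℂˣ) (b : F) :
    T.psiOf ω b = ((ω ⟨T.τ 0 b, ⟨b, rfl⟩⟩ : ℂˣ) : ℂ) := rfl

theorem psiOf_ne_one {ω : T.ZT →* ℂˣ} (hω : ω ≠ 1) : T.psiOf ω ≠ 1 := by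
  intro h
  apply hω
  ext ⟨_, b, rfl⟩
  have := DFunLike.congr_fun h b
  rw [psiOf_apply, AddChar.one_apply] at this
  rw [this]
  rfl

theorem comChar_eq_one_of_rad [Fintype F] (ω : T.ZT →* ℂˣ) {a b : F}
    (h : ∀ h : G₀, ω ⟨⁅h, T.τ a b⁆, T.comm_mem h (T.τ a b)⟩ = 1) :
    S.comChar (T.psiOf ω) a = 1 := by
  apply DFunLike.ext
  intro c
  rw [SzData.comChar_apply, AddChar.one_apply, psiOf_apply]
  have h1 := h (T.τ c 0)
  have h2 : (⟨⁅T.τ c 0, T.τ a b⁆, T.comm_mem (T.τ c 0) (T.τ a b)⟩ : T.ZT) =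
      ⟨T.τ 0 (S.s c * a + S.s a * c), ⟨_, rfl⟩⟩ := Subtype.ext (T.commutator_eq c 0 a b)
  rw [h2] at h1
  rw [h1, Units.val_one]

/-- the radical of the commutator form -/
theorem rad_bound [Fintype F] [Fintype G₀] (ω : T.ZT →* ℂˣ) (hω : ω ≠ 1) :
    Nat.card {g : G₀ // ∀ h : G₀, ω ⟨⁅h, g⁆, T.comm_mem h g⟩ = 1} ≤ 2 * Fintype.card F := by
  have hψ := T.psiOf_ne_one hω
  obtain ⟨ψ, hψdef⟩ : ∃ ψ, ψ = T.psiOf ω := ⟨_, rfl⟩
  rw [← hψdef] at hψ
  -- the radical has at most two elements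
  obtain ⟨R, hR⟩ : ∃ R : Finset F, R = Finset.univ.filter (fun a : F => S.comChar ψ a = 1) :=
    ⟨_, rfl⟩
  have hRcard : R.card ≤ 2 := by
    by_cases hex : ∃ r₀ ∈ R, r₀ ≠ 0
    · obtain ⟨r₀, hr₀, hr₀0⟩ := hex
      have hsub : R ⊆ {0, r₀} := by
        intro a ha
        by_cases ha0 : a = 0
        · rw [ha0]; exact Finset.mem_insert_self _ _
        · rw [hR, Finset.mem_filter] at ha hr₀
          have := S.rad_unique ψ hψ ha0 hr₀0 ha.2 hr₀.2
          rw [this]
          exact Finset.mem_insert_of_mem (Finset.mem_singleton_self _)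
      exact (Finset.card_le_card hsub).trans Finset.card_le_two
    · push Not at hex
      have hsub : R ⊆ {0} := by
        intro a ha
        rw [Finset.mem_singleton]
        exact hex a ha
      exact (Finset.card_le_card hsub).trans (by simp)
  rw [Nat.card_eq_fintype_card, Fintype.card_subtype]
  have hsub : Finset.univ.filter (fun g : G₀ => ∀ h : G₀, ω ⟨⁅h, g⁆, T.comm_mem h g⟩ = 1) ⊆
      (R ×ˢ (Finset.univ : Finset F)).image (fun x : F × F => T.τ x.1 x.2) := by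
    intro g hg
    rw [Finset.mem_filter] at hg
    obtain ⟨a, b, rfl⟩ := T.surj g
    rw [Finset.mem_image]
    refine ⟨(a, b), ?_, rfl⟩
    rw [Finset.mem_product, hR, Finset.mem_filter]
    refine ⟨⟨Finset.mem_univ _, ?_⟩, Finset.mem_univ _⟩
    rw [hψdef]
    exact T.comChar_eq_one_of_rad ω hg.2
  refine (Finset.card_le_card hsub).trans (Finset.card_image_le.trans ?_)
  rw [Finset.card_product, Finset.card_univ]
  exact Nat.mul_le_mul_right _ hRcard

theorem isGenChar_psi [Fintype F] [Fintype G₀] (hF : Fintype.card F = 2 ^ (2 * m + 1)) :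
    Cfsg.IsGeneralizedCharacter G₀ (psiFun T.ZT m) := by
  apply CT.isGenChar_psi T.ZT T.ZT_le_center m
  · rw [T.card, hF]
  · rw [T.card_ZT, hF]
  · intro ω hω
    have := T.rad_bound ω hω
    rwa [hF] at this

/-- functions on the unipotent subgroup determined by the order of the argument -/
noncomputable def twoFun (c₁ cs cr : ℂ) : G₀ → ℂ := fun g =>
  if g = 1 then c₁ else if g * g = 1 then cs else cr

include T in
/-- integral combinations of the regular character, the principal character and `Ψ` -/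
theorem isGenChar_two [Fintype F] [Fintype G₀] (hF : Fintype.card F = 2 ^ (2 * m + 1))
    (A B C : ℤ) :
    Cfsg.IsGeneralizedCharacter G₀
      (twoFun (G₀ := G₀) ((A : ℂ) * ((2 : ℂ) ^ (2 * m + 1)) ^ 2 + B +
        C * ((2 : ℂ) ^ (m + 1) * ((2 : ℂ) ^ (2 * m + 1) - 1)))
        ((B : ℂ) - C * (2 : ℂ) ^ (m + 1)) (B : ℂ)) := by
  have h1 := Cfsg.Agent.Helper18.isGenChar_intCast_smul A (isGenChar_regFun (H := G₀))
  have h2 := Cfsg.Agent.Helper18.isGenChar_intCast_smul B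
    (Cfsg.Agent.Helper18.isGenChar_one (G := G₀))
  have h3 := Cfsg.Agent.Helper18.isGenChar_intCast_smul C (T.isGenChar_psi hF)
  have h4 := Cfsg.Agent.Helper18.isGenChar_add (Cfsg.Agent.Helper18.isGenChar_add h1 h2) h3
  convert h4 using 1
  ext g
  simp only [Pi.add_apply, Pi.smul_apply, smul_eq_mul]
  unfold twoFun regFun psiFun
  have hcard : (Nat.card G₀ : ℂ) = ((2 : ℂ) ^ (2 * m + 1)) ^ 2 := by
    rw [T.card, hF]
    push_cast
    ring
  by_cases hg1 : g = 1
  · rw [if_pos hg1, if_pos hg1, if_pos hg1, hcard]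
    ring
  · rw [if_neg hg1, if_neg hg1, if_neg hg1]
    by_cases hg2 : g * g = 1
    · rw [if_pos hg2, if_pos ((T.mem_ZT_iff_sq g).2 hg2)]
      ring
    · rw [if_neg hg2, if_neg (fun h => hg2 ((T.mem_ZT_iff_sq g).1 h))]
      ring

include T in
/-- the sum of a function determined by the order -/
theorem sum_two [Fintype F] [Fintype G₀] (x y : ℂ) :
    ∑ g : G₀, (if g = 1 then 0 else if g * g = 1 then x else y) =
      ((Fintype.card F : ℂ) - 1) * x + ((Fintype.card F : ℂ) ^ 2 - (Fintype.card F : ℂ)) * y := by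
  have e : ∀ g : G₀, (if g = 1 then 0 else if g * g = 1 then x else y) =
      (if g ∈ T.ZT then x - y else 0) + y - (if g = 1 then x else 0) := by
    intro g
    by_cases hg1 : g = 1
    · rw [if_pos hg1, if_pos hg1, if_pos (hg1 ▸ T.ZT.one_mem)]
      ring
    · rw [if_neg hg1, if_neg hg1]
      by_cases hg2 : g * g = 1
      · rw [if_pos hg2, if_pos ((T.mem_ZT_iff_sq g).2 hg2)]
        ring
      · rw [if_neg hg2, if_neg (fun h => hg2 ((T.mem_ZT_iff_sq g).1 h))]
        ring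
  rw [Finset.sum_congr rfl (fun g _ => e g), Finset.sum_sub_distrib, Finset.sum_add_distrib,
    TIP.sum_indicator, T.card_ZT, Finset.sum_const, Finset.card_univ, nsmul_eq_mul,
    Finset.sum_ite_eq' Finset.univ (1 : G₀) (fun _ => x), if_pos (Finset.mem_univ _),
    ← Nat.card_eq_fintype_card (α := G₀), T.card]
  push_cast
  ring

end TData

end Cfsg.Agent.Helper2.Sz
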