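import Mathlib
import Cfsg.Agent.Lib.Helper2.SzCT6

set_option autoImplicit false
set_option linter.unusedSectionVars false
set_option linter.unusedSimpArgs false
set_option linter.unusedVariables false
set_option linter.style.openClassical false
set_option linter.style.haveILetI false

/-! Class functions on the Suzuki group with prescribed values: invariance, restrictions and
inner products. -/

namespace Cfsg.Agent.Helper2.Sz

open Cfsg Cfsg.Agent.Helper2.CT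
open scoped ComplexConjugate commutatorElement
open Classical

variable {F : Type*} [Field F] {m : ℕ} (S : SzData F m)

/-- the field order as a complex number -/
noncomputable def qC (m : ℕ) : ℂ := (2 : ℂ) ^ (2 * m + 1)

/-- the square root of twice the field order -/
noncomputable def rC (m : ℕ) : ℂ := (2 : ℂ) ^ (m + 1)

theorem rC_sq (m : ℕ) : rC m ^ 2 = 2 * qC m := by
  unfold rC qC
  rw [← pow_mul, ← pow_succ']
  congr 1
  ring

theorem qC_eq (m : ℕ) : qC m = ((2 ^ (2 * m + 1) : ℕ) : ℂ) := by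
  unfold qC
  push_cast
  rfl

theorem rC_eq (m : ℕ) : rC m = ((2 ^ (m + 1) : ℕ) : ℂ) := by
  unfold rC
  push_cast
  rfl

theorem conj_qC (m : ℕ) : conj (qC m) = qC m := by
  rw [qC_eq, Complex.conj_natCast]

theorem conj_rC (m : ℕ) : conj (rC m) = rC m := by
  rw [rC_eq, Complex.conj_natCast]

/-- values determined by the order -/
noncomputable def two (cs cr : ℂ) : Cfsg.Sz F m → ℂ := fun g => if g * g = 1 then cs else cr

theorem two_conj (cs cr : ℂ) (n k : Cfsg.Sz F m) :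
    two cs cr (n * k * n⁻¹) = two cs cr k := by
  unfold two
  have h : n * k * n⁻¹ * (n * k * n⁻¹) = 1 ↔ k * k = 1 := by
    have e : n * k * n⁻¹ * (n * k * n⁻¹) = n * (k * k) * n⁻¹ := by group
    rw [e]
    constructor
    · intro h1
      calc k * k = n⁻¹ * (n * (k * k) * n⁻¹) * n := by group
        _ = 1 := by rw [h1]; group
    · intro h1
      rw [h1]; group
  simp only [h]

/-- prescribed values of constant type -/
noncomputable def fC (cs cr : ℂ) (e : Fin 4 → ℂ) : Fin 4 → Cfsg.Sz F m → ℂ :=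
  fun i g => if i = 0 then two cs cr g else e i

/-- prescribed values of torus type -/
noncomputable def fT [Fintype F] (P : TIP (Cfsg.Sz F m) (Fin 4)) (cs cr : ℂ) (j : Fin 4)
    (θ : P.K j → ℂ) (ε : ℂ) : Fin 4 → Cfsg.Sz F m → ℂ :=
  fun i g => if i = 0 then two cs cr g else if i = j then ε * avg (P.K j) (P.N j) θ g else 0

/-- the four constants -/
def e4 (a b c : ℂ) : Fin 4 → ℂ
  | 0 => 0
  | 1 => a
  | 2 => b
  | 3 => c

section

variable [Fintype F] (P : TIP (Cfsg.Sz F m) (Fin 4))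

theorem inv_fC (cs cr : ℂ) (e : Fin 4 → ℂ) : P.Inv (fC cs cr e) := by
  intro i n hn k hk
  unfold fC
  by_cases hi : i = 0
  · rw [if_pos hi, if_pos hi, two_conj]
  · rw [if_neg hi, if_neg hi]

theorem inv_fT (cs cr : ℂ) {j : Fin 4} (hT : TP (P.K j) (P.N j)) (θ : P.K j → ℂ) (ε : ℂ) :
    P.Inv (fT P cs cr j θ ε) := by
  intro i n hn k hk
  unfold fT
  by_cases hi : i = 0
  · rw [if_pos hi, if_pos hi, two_conj]
  · rw [if_neg hi, if_neg hi]
    by_cases hij : i = j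
    · subst hij
      rw [if_pos rfl, if_pos rfl, hT.avg_inv θ hn]
    · rw [if_neg hij, if_neg hij]

end

section Reg

universe u

theorem isGenChar_congr {H : Type u} [Group H] {φ ψ : H → ℂ}
    (h : IsGeneralizedCharacter H ψ) (e : ∀ k, φ k = ψ k) : IsGeneralizedCharacter H φ := by
  have : φ = ψ := funext e
  rw [this]
  exact h

variable {H : Type u} [Group H] [Fintype H]

theorem isGenChar_reg_add (a : ℤ) {φ : H → ℂ} (hφ : IsGeneralizedCharacter H φ) (c₁ : ℂ)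
    (hc : c₁ = (a : ℂ) * (Nat.card H : ℂ) + φ 1) :
    IsGeneralizedCharacter H (fun k => if k = 1 then c₁ else φ k) := by
  have h1 := Cfsg.Agent.Helper18.isGenChar_add
    (Cfsg.Agent.Helper18.isGenChar_intCast_smul a (isGenChar_regFun (H := H))) hφ
  convert h1 using 1
  ext k
  simp only [Pi.add_apply, Pi.smul_apply, smul_eq_mul]
  unfold regFun
  by_cases hk : k = 1
  · rw [if_pos hk, if_pos hk, hc, hk]
  · rw [if_neg hk, if_neg hk, mul_zero, zero_add]

theorem isGenChar_const (b : ℤ) : IsGeneralizedCharacter H (fun _ => (b : ℂ)) := by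
  have := Cfsg.Agent.Helper18.isGenChar_intCast_smul b (Cfsg.Agent.Helper18.isGenChar_one (G := H))
  convert this using 1
  ext k
  simp

end Reg

section Card

variable [Fintype F]

theorem q_one_le (m : ℕ) : 1 ≤ 2 ^ (2 * m + 1) := Nat.one_le_two_pow

theorem ccC_zero (m : ℕ) : ((SzData.cc m 0 : ℕ) : ℂ) = qC m ^ 2 := by
  show (((2 ^ (2 * m + 1)) ^ 2 : ℕ) : ℂ) = _
  rw [qC_eq]
  push_cast
  rfl

theorem ccC_one (m : ℕ) : ((SzData.cc m 1 : ℕ) : ℂ) = qC m - 1 := by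
  show ((2 ^ (2 * m + 1) - 1 : ℕ) : ℂ) = _
  rw [qC_eq, Nat.cast_sub (q_one_le m), Nat.cast_one]

theorem ccC_two (m : ℕ) : ((SzData.cc m 2 : ℕ) : ℂ) = qC m + rC m + 1 := by
  show ((2 ^ (2 * m + 1) + 2 ^ (m + 1) + 1 : ℕ) : ℂ) = _
  rw [qC_eq, rC_eq]
  push_cast
  rfl

theorem ccC_three (m : ℕ) : ((SzData.cc m 3 : ℕ) : ℂ) = qC m - rC m + 1 := by
  show ((2 ^ (2 * m + 1) - 2 ^ (m + 1) + 1 : ℕ) : ℂ) = _
  rw [qC_eq, rC_eq, Nat.cast_add, Nat.cast_sub (r_le_q m), Nat.cast_one]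

theorem nnC_zero (m : ℕ) : ((SzData.nn m 0 : ℕ) : ℂ) = qC m ^ 2 * (qC m - 1) := by
  show (((2 ^ (2 * m + 1)) ^ 2 * (2 ^ (2 * m + 1) - 1) : ℕ) : ℂ) = _
  rw [qC_eq, Nat.cast_mul, Nat.cast_sub (q_one_le m), Nat.cast_one]
  push_cast
  rfl

theorem nnC_one (m : ℕ) : ((SzData.nn m 1 : ℕ) : ℂ) = 2 * (qC m - 1) := by
  show ((2 * (2 ^ (2 * m + 1) - 1) : ℕ) : ℂ) = _
  rw [qC_eq, Nat.cast_mul, Nat.cast_sub (q_one_le m), Nat.cast_one]
  push_cast
  rfl

theorem nnC_two (m : ℕ) : ((SzData.nn m 2 : ℕ) : ℂ) = 4 * (qC m + rC m + 1) := by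
  show ((4 * (2 ^ (2 * m + 1) + 2 ^ (m + 1) + 1) : ℕ) : ℂ) = _
  rw [qC_eq, rC_eq]
  push_cast
  rfl

theorem nnC_three (m : ℕ) : ((SzData.nn m 3 : ℕ) : ℂ) = 4 * (qC m - rC m + 1) := by
  show ((4 * (2 ^ (2 * m + 1) - 2 ^ (m + 1) + 1) : ℕ) : ℂ) = _
  rw [qC_eq, rC_eq, Nat.cast_mul, Nat.cast_add, Nat.cast_sub (r_le_q m), Nat.cast_one]
  push_cast
  rfl

include S in
theorem card_Sz_C (hm : 1 ≤ m) (hF : Fintype.card F = 2 ^ (2 * m + 1)) :
    (Nat.card (Cfsg.Sz F m) : ℂ) = qC m ^ 2 * (qC m ^ 2 + 1) * (qC m - 1) := by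
  rw [S.card_Sz hm hF, qC_eq, Nat.cast_mul, Nat.cast_sub (q_one_le m), Nat.cast_one]
  push_cast
  rfl

end Card

section Restrict

universe u

variable {G₁ : Type u} [Group G₁] [Fintype G₁] {ι : Type*} [Fintype ι] (P : TIP G₁ ι)

theorem isGenChar_restrict_const (i : ι) (c₁ : ℂ) (a b : ℤ)
    (h : c₁ = (a : ℂ) * (Nat.card (P.K i) : ℂ) + b) {f : ι → G₁ → ℂ} (hf : P.Inv f)
    (hfi : ∀ k : G₁, f i k = b) :
    IsGeneralizedCharacter (P.K i) (fun k : P.K i => P.cf c₁ f k) := by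
  rw [P.cf_restrict hf i]
  have := isGenChar_reg_add a (isGenChar_const (H := P.K i) b) c₁ h
  convert this using 1
  ext k
  by_cases hk : k = 1
  · rw [if_pos hk, if_pos hk]
  · rw [if_neg hk, if_neg hk, hfi]

theorem isGenChar_restrict_avg (j : ι) (hT : TP (P.K j) (P.N j)) {θ : P.K j → ℂ}
    (hθ : IsIrrCharacter (P.K j) θ) (hθ1 : θ ≠ fun _ => 1) (c₁ : ℂ) (a ε : ℤ)
    (h : c₁ = (a : ℂ) * (Nat.card (P.K j) : ℂ) +
      ε * ((Nat.card (P.N j) : ℂ) / (Nat.card (P.K j) : ℂ)))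
    {f : ι → G₁ → ℂ} (hf : P.Inv f)
    (hfj : ∀ k : G₁, f j k = ε * avg (P.K j) (P.N j) θ k) :
    IsGeneralizedCharacter (P.K j) (fun k : P.K j => P.cf c₁ f k) := by
  rw [P.cf_restrict hf j]
  have h1 := Cfsg.Agent.Helper18.isGenChar_intCast_smul ε (hT.isGenChar_avg hθ hθ1)
  have h2 := isGenChar_reg_add a h1 c₁ (by
    rw [h]
    simp only [Pi.smul_apply, smul_eq_mul]
    rw [Subgroup.coe_one, hT.avg_one θ (hT.irr_one hθ)])
  convert h2 using 1
  ext k
  by_cases hk : k = 1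
  · rw [if_pos hk, if_pos hk]
  · rw [if_neg hk, if_neg hk, hfj]
    rfl

end Restrict

section GenChar

variable [Fintype F] (hm : 1 ≤ m) (hF : Fintype.card F = 2 ^ (2 * m + 1)) (D : Tori F m)

include S hF in
theorem isGenChar_Q_aux (K : Subgroup (Cfsg.Sz F m)) (hK : K = S.QSz)
    (φ : Cfsg.Sz F m → ℂ) (c₁ cs cr : ℂ) (A B C : ℤ)
    (h1 : c₁ = (A : ℂ) * qC m ^ 2 + B + C * (rC m * (qC m - 1)))
    (h2 : cs = (B : ℂ) - C * rC m) (h3 : cr = (B : ℂ))
    (hφ1 : φ 1 = c₁) (hφ : ∀ k ∈ K, k ≠ 1 → φ k = two cs cr k) :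
    IsGeneralizedCharacter K (fun k : K => φ k) := by
  subst hK
  refine isGenChar_congr (TData.isGenChar_two S.tdataQ hF A B C) (fun k => ?_)
  unfold TData.twoFun
  have hiff : (k : Cfsg.Sz F m) * (k : Cfsg.Sz F m) = 1 ↔ k * k = 1 := by
    constructor
    · intro h
      exact Subtype.ext (by rw [Subgroup.coe_mul, Subgroup.coe_one]; exact h)
    · intro h
      have := congrArg Subtype.val h
      rwa [Subgroup.coe_mul, Subgroup.coe_one] at this
  by_cases hk : k = 1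
  · rw [if_pos hk, hk, Subgroup.coe_one, hφ1, h1]
    rfl
  · rw [if_neg hk, hφ k k.2 (fun h => hk (Subtype.ext h))]
    unfold two
    by_cases hk2 : k * k = 1
    · rw [if_pos (hiff.2 hk2), if_pos hk2, h2]
      rfl
    · rw [if_neg (fun h => hk2 (hiff.1 h)), if_neg hk2, h3]

include S in
/-- restriction to the unipotent subgroup -/
theorem isGenChar_restrict_Q (c₁ cs cr : ℂ) (A B C : ℤ)
    (h1 : c₁ = (A : ℂ) * qC m ^ 2 + B + C * (rC m * (qC m - 1)))
    (h2 : cs = (B : ℂ) - C * rC m) (h3 : cr = (B : ℂ))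
    {f : Fin 4 → Cfsg.Sz F m → ℂ} (hf : (S.tip hm hF D).Inv f) (hf0 : f 0 = two cs cr) :
    IsGeneralizedCharacter ((S.tip hm hF D).K 0)
      (fun k : (S.tip hm hF D).K 0 => (S.tip hm hF D).cf c₁ f k) := by
  apply isGenChar_Q_aux S hF _ rfl _ c₁ cs cr A B C h1 h2 h3 (TIP.cf_one _ _ _)
  intro k hk hk1
  rw [(S.tip hm hF D).cf_apply_mem hf (i := 0) hk hk1, hf0]

end GenChar

end Cfsg.Agent.Helper2.Sz
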