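import Mathlib
import Cfsg.Agent.Lib.Helper2.SzCT7

set_option autoImplicit false
set_option linter.unusedSectionVars false
set_option linter.unusedSimpArgs false
set_option linter.unusedVariables false
set_option linter.style.openClassical false
set_option linter.style.haveILetI false

/-! Inner products of the class functions with prescribed values on the Suzuki group. -/

namespace Cfsg.Agent.Helper2.Sz

open Cfsg Cfsg.Agent.Helper2.CT
open scoped ComplexConjugate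
open Classical

section Sums

universe u

variable {G₁ : Type u} [Group G₁] [Fintype G₁]

theorem sum_ne_one (H : Subgroup G₁) (h : H → ℂ) :
    ∑ k : H, (if (k : G₁) = 1 then 0 else h k) = ∑ k : H, h k - h 1 := by
  rw [← Finset.add_sum_erase Finset.univ _ (Finset.mem_univ (1 : H)),
    ← Finset.add_sum_erase Finset.univ h (Finset.mem_univ (1 : H)), Subgroup.coe_one, if_pos rfl,
    zero_add, add_sub_cancel_left]
  refine Finset.sum_congr rfl fun k hk => ?_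
  have hk1 : (k : G₁) ≠ 1 := fun h' => (Finset.mem_erase.1 hk).1 (Subtype.ext h')
  rw [if_neg hk1]

/-- the inner product formula without case distinctions -/
theorem inner_cf' {ι : Type*} [Fintype ι] (P : TIP G₁ ι) {c₁ d₁ : ℂ} {f f' : ι → G₁ → ℂ}
    (hf : P.Inv f) (hf' : P.Inv f') :
    classInner (P.cf c₁ f) (P.cf d₁ f') = (Nat.card G₁ : ℂ)⁻¹ * (c₁ * conj d₁) +
      ∑ i, (Nat.card (P.N i) : ℂ)⁻¹ *
        (∑ k : P.K i, f i k * conj (f' i k) - f i 1 * conj (f' i 1)) := by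
  rw [P.inner_cf hf hf']
  congr 1
  refine Finset.sum_congr rfl fun i _ => ?_
  rw [sum_ne_one (P.K i) (fun k => f i k * conj (f' i k)), Subgroup.coe_one]

theorem sum_const_sub (H : Subgroup G₁) (c : ℂ) :
    ∑ _k : H, c - c = ((Nat.card H : ℂ) - 1) * c := by
  rw [Finset.sum_const, Finset.card_univ, nsmul_eq_mul, Nat.card_eq_fintype_card]
  ring

variable {A N : Subgroup G₁} (T : TP A N)

include T

theorem sum_avg_const {θ : A → ℂ} (hθ : IsIrrCharacter A θ) (hθ1 : θ ≠ fun _ => 1) (ε e' : ℂ) :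
    ∑ k : A, (ε * avg A N θ k) * conj e' - (ε * avg A N θ 1) * conj e' =
      -(ε * conj e' * ((Nat.card N : ℂ) / (Nat.card A : ℂ))) := by
  have h1 : ∑ k : A, (ε * avg A N θ k) * conj e' = 0 := by
    have : ∀ k : A, (ε * avg A N θ k) * conj e' = (ε * conj e') * avg A N θ k := fun k => by ring
    rw [Finset.sum_congr rfl (fun k _ => this k), ← Finset.mul_sum, T.sum_avg hθ hθ1, mul_zero]
  rw [h1, T.avg_one θ (T.irr_one hθ)]
  ring

theorem sum_const_avg {θ : A → ℂ} (hθ : IsIrrCharacter A θ) (hθ1 : θ ≠ fun _ => 1) (ε e : ℂ) :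
    ∑ k : A, e * conj (ε * avg A N θ k) - e * conj (ε * avg A N θ 1) =
      -(e * conj ε * ((Nat.card N : ℂ) / (Nat.card A : ℂ))) := by
  have h1 : ∑ k : A, e * conj (ε * avg A N θ k) = 0 := by
    have : ∀ k : A, e * conj (ε * avg A N θ k) = (e * conj ε) * conj (avg A N θ k) := fun k => by
      rw [map_mul]; ring
    rw [Finset.sum_congr rfl (fun k _ => this k), ← Finset.mul_sum, ← map_sum, T.sum_avg hθ hθ1,
      map_zero, mul_zero]
  rw [h1, T.avg_one θ (T.irr_one hθ), map_mul, map_div₀, Complex.conj_natCast,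
    Complex.conj_natCast]
  ring

theorem sum_avg_avg {θ : A → ℂ} (hθ : IsIrrCharacter A θ) (hθ1 : θ ≠ fun _ => 1) (ε : ℂ) :
    ∑ k : A, (ε * avg A N θ k) * conj (ε * avg A N θ k) -
        (ε * avg A N θ 1) * conj (ε * avg A N θ 1) =
      ε * conj ε * ((Nat.card N : ℂ) - ((Nat.card N : ℂ) / (Nat.card A : ℂ)) ^ 2) := by
  have h1 : ∑ k : A, (ε * avg A N θ k) * conj (ε * avg A N θ k) =
      ε * conj ε * (Nat.card N : ℂ) := by
    have : ∀ k : A, (ε * avg A N θ k) * conj (ε * avg A N θ k) =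
        (ε * conj ε) * (avg A N θ k * conj (avg A N θ k)) := fun k => by
      rw [map_mul]; ring
    rw [Finset.sum_congr rfl (fun k _ => this k), ← Finset.mul_sum, T.sum_avg_sq hθ hθ1]
  rw [h1, T.avg_one θ (T.irr_one hθ), map_mul, map_div₀, Complex.conj_natCast,
    Complex.conj_natCast]
  ring

end Sums

variable {F : Type*} [Field F] {m : ℕ} (S : SzData F m)

section Values

variable [Fintype F] (P : TIP (Cfsg.Sz F m) (Fin 4))

theorem fC_zero (cs cr : ℂ) (e : Fin 4 → ℂ) : fC (F := F) (m := m) cs cr e 0 = two cs cr := by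
  funext g
  unfold fC
  rw [if_pos rfl]

theorem fC_ne (cs cr : ℂ) (e : Fin 4 → ℂ) {i : Fin 4} (hi : i ≠ 0) (g : Cfsg.Sz F m) :
    fC cs cr e i g = e i := by
  unfold fC
  rw [if_neg hi]

theorem fT_zero (cs cr : ℂ) (j : Fin 4) (θ : P.K j → ℂ) (ε : ℂ) :
    fT P cs cr j θ ε 0 = two cs cr := by
  funext g
  unfold fT
  rw [if_pos rfl]

theorem fT_self (cs cr : ℂ) {j : Fin 4} (hj : j ≠ 0) (θ : P.K j → ℂ) (ε : ℂ) (g : Cfsg.Sz F m) :
    fT P cs cr j θ ε j g = ε * avg (P.K j) (P.N j) θ g := by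
  unfold fT
  rw [if_neg hj, if_pos rfl]

theorem fT_other (cs cr : ℂ) (j : Fin 4) (θ : P.K j → ℂ) (ε : ℂ) {i : Fin 4} (hi : i ≠ 0)
    (hij : i ≠ j) (g : Cfsg.Sz F m) : fT P cs cr j θ ε i g = 0 := by
  unfold fT
  rw [if_neg hi, if_neg hij]

end Values

section Inner

variable [Fintype F] (hm : 1 ≤ m) (hF : Fintype.card F = 2 ^ (2 * m + 1)) (D : Tori F m)

include S hF in
theorem sum_Q_aux (K : Subgroup (Cfsg.Sz F m)) (hK : K = S.QSz) (cs cr cs' cr' : ℂ) :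
    ∑ k : K, two cs cr (k : Cfsg.Sz F m) * conj (two cs' cr' (k : Cfsg.Sz F m)) -
      two (F := F) (m := m) cs cr 1 * conj (two (F := F) (m := m) cs' cr' 1) =
      (qC m - 1) * (cs * conj cs') + (qC m ^ 2 - qC m) * (cr * conj cr') := by
  subst hK
  have h := TData.sum_two S.tdataQ (cs * conj cs') (cr * conj cr')
  rw [hF, ← qC_eq] at h
  have h0 := sum_ne_one S.QSz (fun k => two cs cr (k : Cfsg.Sz F m) *
    conj (two cs' cr' (k : Cfsg.Sz F m)))
  rw [Subgroup.coe_one] at h0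
  rw [← h, ← h0]
  refine Finset.sum_congr rfl fun k _ => ?_
  have hiff1 : (k : Cfsg.Sz F m) = 1 ↔ k = 1 := by
    constructor
    · intro h
      exact Subtype.ext h
    · intro h
      rw [h, Subgroup.coe_one]
  have hiff : (k : Cfsg.Sz F m) * (k : Cfsg.Sz F m) = 1 ↔ k * k = 1 := by
    constructor
    · intro h
      exact Subtype.ext (by rw [Subgroup.coe_mul, Subgroup.coe_one]; exact h)
    · intro h
      have := congrArg Subtype.val h
      rwa [Subgroup.coe_mul, Subgroup.coe_one] at this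
  unfold two
  by_cases hk : k = 1
  · rw [if_pos hk, if_pos (hiff1.2 hk)]
  · rw [if_neg hk, if_neg (fun h => hk (hiff1.1 h))]
    by_cases hk2 : k * k = 1
    · rw [if_pos hk2, if_pos (hiff.2 hk2), if_pos (hiff.2 hk2)]
    · rw [if_neg hk2, if_neg (fun h => hk2 (hiff.1 h)), if_neg (fun h => hk2 (hiff.1 h))]

include S in
theorem sum_Q (cs cr cs' cr' : ℂ) :
    ∑ k : (S.tip hm hF D).K 0, two cs cr (k : Cfsg.Sz F m) *
        conj (two cs' cr' (k : Cfsg.Sz F m)) -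
      two (F := F) (m := m) cs cr 1 * conj (two (F := F) (m := m) cs' cr' 1) =
      (qC m - 1) * (cs * conj cs') + (qC m ^ 2 - qC m) * (cr * conj cr') :=
  sum_Q_aux S hF _ rfl cs cr cs' cr'

include S in
/-- the inner product formula on the Suzuki group -/
theorem inner_tip {c d cs cr cs' cr' : ℂ} {f f' : Fin 4 → Cfsg.Sz F m → ℂ}
    (hf : (S.tip hm hF D).Inv f) (hf' : (S.tip hm hF D).Inv f') (hf0 : f 0 = two cs cr)
    (hf0' : f' 0 = two cs' cr') :
    classInner ((S.tip hm hF D).cf c f) ((S.tip hm hF D).cf d f') =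
      (qC m ^ 2 * (qC m ^ 2 + 1) * (qC m - 1))⁻¹ * (c * conj d) +
      ((qC m ^ 2 * (qC m - 1))⁻¹ *
        ((qC m - 1) * (cs * conj cs') + (qC m ^ 2 - qC m) * (cr * conj cr')) +
      (2 * (qC m - 1))⁻¹ * (∑ k : (S.tip hm hF D).K 1, f 1 k * conj (f' 1 k) -
        f 1 1 * conj (f' 1 1)) +
      (4 * (qC m + rC m + 1))⁻¹ * (∑ k : (S.tip hm hF D).K 2, f 2 k * conj (f' 2 k) -
        f 2 1 * conj (f' 2 1)) +
      (4 * (qC m - rC m + 1))⁻¹ * (∑ k : (S.tip hm hF D).K 3, f 3 k * conj (f' 3 k) -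
        f 3 1 * conj (f' 3 1))) := by
  rw [inner_cf' (S.tip hm hF D) hf hf', Fin.sum_univ_four, card_Sz_C S hm hF,
    S.card_tip_N hm hF D 0, S.card_tip_N hm hF D 1, S.card_tip_N hm hF D 2,
    S.card_tip_N hm hF D 3, nnC_zero, nnC_one, nnC_two, nnC_three, hf0, hf0', sum_Q S hm hF D]

theorem qC_sub_one_ne (m : ℕ) : qC m - 1 ≠ 0 := by
  rw [← ccC_one]
  have : 0 < SzData.cc m 1 := by
    show 0 < 2 ^ (2 * m + 1) - 1
    have : 2 ≤ 2 ^ (2 * m + 1) := by
      calc 2 = 2 ^ 1 := by norm_num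
        _ ≤ 2 ^ (2 * m + 1) := Nat.pow_le_pow_right (by norm_num) (by omega)
    omega
  exact_mod_cast this.ne'

theorem qC_ne_zero (m : ℕ) : qC m ≠ 0 := by
  unfold qC
  exact pow_ne_zero _ two_ne_zero

theorem rC_ne_zero (m : ℕ) : rC m ≠ 0 := by
  unfold rC
  exact pow_ne_zero _ two_ne_zero

theorem plus_ne (m : ℕ) : qC m + rC m + 1 ≠ 0 := by
  rw [← ccC_two]
  have : 0 < SzData.cc m 2 := by
    show 0 < 2 ^ (2 * m + 1) + 2 ^ (m + 1) + 1
    exact Nat.succ_pos _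
  exact_mod_cast this.ne'

theorem minus_ne (m : ℕ) : qC m - rC m + 1 ≠ 0 := by
  rw [← ccC_three]
  have : 0 < SzData.cc m 3 := by
    show 0 < 2 ^ (2 * m + 1) - 2 ^ (m + 1) + 1
    exact Nat.succ_pos _
  exact_mod_cast this.ne'

theorem sq_add_one_eq (m : ℕ) : qC m ^ 2 + 1 = (qC m + rC m + 1) * (qC m - rC m + 1) := by
  linear_combination (1 : ℂ) * rC_sq m

theorem sq_add_one_ne (m : ℕ) : qC m ^ 2 + 1 ≠ 0 := by
  rw [sq_add_one_eq]
  exact mul_ne_zero (plus_ne m) (minus_ne m)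

theorem one_ne_zero4 : (1 : Fin 4) ≠ 0 := by decide
theorem two_ne_zero4 : (2 : Fin 4) ≠ 0 := by decide
theorem three_ne_zero4 : (3 : Fin 4) ≠ 0 := by decide

include S in
theorem inner_CC (c d cs cr cs' cr' : ℂ) (e e' : Fin 4 → ℂ) :
    classInner ((S.tip hm hF D).cf c (fC cs cr e)) ((S.tip hm hF D).cf d (fC cs' cr' e')) =
      (qC m ^ 2 * (qC m ^ 2 + 1) * (qC m - 1))⁻¹ * (c * conj d) +
      ((qC m ^ 2 * (qC m - 1))⁻¹ *
        ((qC m - 1) * (cs * conj cs') + (qC m ^ 2 - qC m) * (cr * conj cr')) +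
      (2 * (qC m - 1))⁻¹ * ((qC m - 1 - 1) * (e 1 * conj (e' 1))) +
      (4 * (qC m + rC m + 1))⁻¹ * ((qC m + rC m + 1 - 1) * (e 2 * conj (e' 2))) +
      (4 * (qC m - rC m + 1))⁻¹ * ((qC m - rC m + 1 - 1) * (e 3 * conj (e' 3)))) := by
  rw [inner_tip S hm hF D (inv_fC _ cs cr e) (inv_fC _ cs' cr' e') (fC_zero cs cr e)
    (fC_zero cs' cr' e')]
  simp only [fC_ne _ _ _ one_ne_zero4, fC_ne _ _ _ two_ne_zero4, fC_ne _ _ _ three_ne_zero4]
  rw [sum_const_sub, sum_const_sub, sum_const_sub, S.card_tip_K hm hF D 1,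
    S.card_tip_K hm hF D 2, S.card_tip_K hm hF D 3, ccC_one, ccC_two, ccC_three]


include S in
theorem inner_CT1 (c d cs cr cs' cr' : ℂ) (e : Fin 4 → ℂ)
    {θ : (S.tip hm hF D).K 1 → ℂ} (hθ : IsIrrCharacter ((S.tip hm hF D).K 1) θ)
    (hθ1 : θ ≠ fun _ => 1) (ε : ℂ) :
    classInner ((S.tip hm hF D).cf c (fC cs cr e))
      ((S.tip hm hF D).cf d (fT (S.tip hm hF D) cs' cr' 1 θ ε)) =
      (qC m ^ 2 * (qC m ^ 2 + 1) * (qC m - 1))⁻¹ * (c * conj d) +
      ((qC m ^ 2 * (qC m - 1))⁻¹ *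
        ((qC m - 1) * (cs * conj cs') + (qC m ^ 2 - qC m) * (cr * conj cr'))) -
      e 1 * conj ε / (qC m - 1) := by
  have hT := S.tip_TP hm hF D 1 one_ne_zero4
  rw [inner_tip S hm hF D (inv_fC _ cs cr e) (inv_fT _ cs' cr' hT θ ε) (fC_zero cs cr e)
    (fT_zero _ cs' cr' 1 θ ε)]
  simp only [fC_ne _ _ _ one_ne_zero4, fC_ne _ _ _ two_ne_zero4, fC_ne _ _ _ three_ne_zero4,
    fT_self _ _ _ one_ne_zero4, fT_other _ _ _ 1 θ ε two_ne_zero4 (by decide),
    fT_other _ _ _ 1 θ ε three_ne_zero4 (by decide), map_zero, mul_zero, Finset.sum_const_zero,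
    sub_zero, add_zero]
  rw [sum_const_avg hT hθ hθ1, S.card_tip_K hm hF D 1, S.card_tip_N hm hF D 1, nnC_one,
    ccC_one]
  have h1 := qC_sub_one_ne m
  have h2 := plus_ne m
  have h3 := minus_ne m
  have h4 := qC_ne_zero m
  have h5 := sq_add_one_ne m
  field_simp
  ring

include S in
theorem inner_TT1 (c cs cr : ℂ)
    {θ : (S.tip hm hF D).K 1 → ℂ} (hθ : IsIrrCharacter ((S.tip hm hF D).K 1) θ)
    (hθ1 : θ ≠ fun _ => 1) (ε : ℂ) :
    classInner ((S.tip hm hF D).cf c (fT (S.tip hm hF D) cs cr 1 θ ε))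
      ((S.tip hm hF D).cf c (fT (S.tip hm hF D) cs cr 1 θ ε)) =
      (qC m ^ 2 * (qC m ^ 2 + 1) * (qC m - 1))⁻¹ * (c * conj c) +
      ((qC m ^ 2 * (qC m - 1))⁻¹ *
        ((qC m - 1) * (cs * conj cs) + (qC m ^ 2 - qC m) * (cr * conj cr))) +
      ε * conj ε * (1 - 2 / (qC m - 1)) := by
  have hT := S.tip_TP hm hF D 1 one_ne_zero4
  rw [inner_tip S hm hF D (inv_fT _ cs cr hT θ ε) (inv_fT _ cs cr hT θ ε)
    (fT_zero _ cs cr 1 θ ε) (fT_zero _ cs cr 1 θ ε)]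
  simp only [fT_self _ _ _ one_ne_zero4, fT_other _ _ _ 1 θ ε two_ne_zero4 (by decide),
    fT_other _ _ _ 1 θ ε three_ne_zero4 (by decide), map_zero, mul_zero, Finset.sum_const_zero,
    sub_zero, add_zero]
  rw [sum_avg_avg hT hθ hθ1, S.card_tip_K hm hF D 1, S.card_tip_N hm hF D 1, nnC_one,
    ccC_one]
  have h1 := qC_sub_one_ne m
  have h2 := plus_ne m
  have h3 := minus_ne m
  have h4 := qC_ne_zero m
  have h5 := sq_add_one_ne m
  field_simp
  ring

include S in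
theorem inner_CT2 (c d cs cr cs' cr' : ℂ) (e : Fin 4 → ℂ)
    {θ : (S.tip hm hF D).K 2 → ℂ} (hθ : IsIrrCharacter ((S.tip hm hF D).K 2) θ)
    (hθ1 : θ ≠ fun _ => 1) (ε : ℂ) :
    classInner ((S.tip hm hF D).cf c (fC cs cr e))
      ((S.tip hm hF D).cf d (fT (S.tip hm hF D) cs' cr' 2 θ ε)) =
      (qC m ^ 2 * (qC m ^ 2 + 1) * (qC m - 1))⁻¹ * (c * conj d) +
      ((qC m ^ 2 * (qC m - 1))⁻¹ *
        ((qC m - 1) * (cs * conj cs') + (qC m ^ 2 - qC m) * (cr * conj cr'))) -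
      e 2 * conj ε / (qC m + rC m + 1) := by
  have hT := S.tip_TP hm hF D 2 two_ne_zero4
  rw [inner_tip S hm hF D (inv_fC _ cs cr e) (inv_fT _ cs' cr' hT θ ε) (fC_zero cs cr e)
    (fT_zero _ cs' cr' 2 θ ε)]
  simp only [fC_ne _ _ _ one_ne_zero4, fC_ne _ _ _ two_ne_zero4, fC_ne _ _ _ three_ne_zero4,
    fT_self _ _ _ two_ne_zero4, fT_other _ _ _ 2 θ ε one_ne_zero4 (by decide),
    fT_other _ _ _ 2 θ ε three_ne_zero4 (by decide), map_zero, mul_zero, Finset.sum_const_zero,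
    sub_zero, add_zero]
  rw [sum_const_avg hT hθ hθ1, S.card_tip_K hm hF D 2, S.card_tip_N hm hF D 2, nnC_two,
    ccC_two]
  have h1 := qC_sub_one_ne m
  have h2 := plus_ne m
  have h3 := minus_ne m
  have h4 := qC_ne_zero m
  have h5 := sq_add_one_ne m
  field_simp
  ring

include S in
theorem inner_TT2 (c cs cr : ℂ)
    {θ : (S.tip hm hF D).K 2 → ℂ} (hθ : IsIrrCharacter ((S.tip hm hF D).K 2) θ)
    (hθ1 : θ ≠ fun _ => 1) (ε : ℂ) :
    classInner ((S.tip hm hF D).cf c (fT (S.tip hm hF D) cs cr 2 θ ε))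
      ((S.tip hm hF D).cf c (fT (S.tip hm hF D) cs cr 2 θ ε)) =
      (qC m ^ 2 * (qC m ^ 2 + 1) * (qC m - 1))⁻¹ * (c * conj c) +
      ((qC m ^ 2 * (qC m - 1))⁻¹ *
        ((qC m - 1) * (cs * conj cs) + (qC m ^ 2 - qC m) * (cr * conj cr))) +
      ε * conj ε * (1 - 4 / (qC m + rC m + 1)) := by
  have hT := S.tip_TP hm hF D 2 two_ne_zero4
  rw [inner_tip S hm hF D (inv_fT _ cs cr hT θ ε) (inv_fT _ cs cr hT θ ε)
    (fT_zero _ cs cr 2 θ ε) (fT_zero _ cs cr 2 θ ε)]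
  simp only [fT_self _ _ _ two_ne_zero4, fT_other _ _ _ 2 θ ε one_ne_zero4 (by decide),
    fT_other _ _ _ 2 θ ε three_ne_zero4 (by decide), map_zero, mul_zero, Finset.sum_const_zero,
    sub_zero, add_zero]
  rw [sum_avg_avg hT hθ hθ1, S.card_tip_K hm hF D 2, S.card_tip_N hm hF D 2, nnC_two,
    ccC_two]
  have h1 := qC_sub_one_ne m
  have h2 := plus_ne m
  have h3 := minus_ne m
  have h4 := qC_ne_zero m
  have h5 := sq_add_one_ne m
  field_simp
  ring

include S in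
theorem inner_CT3 (c d cs cr cs' cr' : ℂ) (e : Fin 4 → ℂ)
    {θ : (S.tip hm hF D).K 3 → ℂ} (hθ : IsIrrCharacter ((S.tip hm hF D).K 3) θ)
    (hθ1 : θ ≠ fun _ => 1) (ε : ℂ) :
    classInner ((S.tip hm hF D).cf c (fC cs cr e))
      ((S.tip hm hF D).cf d (fT (S.tip hm hF D) cs' cr' 3 θ ε)) =
      (qC m ^ 2 * (qC m ^ 2 + 1) * (qC m - 1))⁻¹ * (c * conj d) +
      ((qC m ^ 2 * (qC m - 1))⁻¹ *
        ((qC m - 1) * (cs * conj cs') + (qC m ^ 2 - qC m) * (cr * conj cr'))) -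
      e 3 * conj ε / (qC m - rC m + 1) := by
  have hT := S.tip_TP hm hF D 3 three_ne_zero4
  rw [inner_tip S hm hF D (inv_fC _ cs cr e) (inv_fT _ cs' cr' hT θ ε) (fC_zero cs cr e)
    (fT_zero _ cs' cr' 3 θ ε)]
  simp only [fC_ne _ _ _ one_ne_zero4, fC_ne _ _ _ two_ne_zero4, fC_ne _ _ _ three_ne_zero4,
    fT_self _ _ _ three_ne_zero4, fT_other _ _ _ 3 θ ε one_ne_zero4 (by decide),
    fT_other _ _ _ 3 θ ε two_ne_zero4 (by decide), map_zero, mul_zero, Finset.sum_const_zero,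
    sub_zero, add_zero]
  rw [sum_const_avg hT hθ hθ1, S.card_tip_K hm hF D 3, S.card_tip_N hm hF D 3, nnC_three,
    ccC_three]
  have h1 := qC_sub_one_ne m
  have h2 := plus_ne m
  have h3 := minus_ne m
  have h4 := qC_ne_zero m
  have h5 := sq_add_one_ne m
  field_simp
  ring

include S in
theorem inner_TT3 (c cs cr : ℂ)
    {θ : (S.tip hm hF D).K 3 → ℂ} (hθ : IsIrrCharacter ((S.tip hm hF D).K 3) θ)
    (hθ1 : θ ≠ fun _ => 1) (ε : ℂ) :
    classInner ((S.tip hm hF D).cf c (fT (S.tip hm hF D) cs cr 3 θ ε))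
      ((S.tip hm hF D).cf c (fT (S.tip hm hF D) cs cr 3 θ ε)) =
      (qC m ^ 2 * (qC m ^ 2 + 1) * (qC m - 1))⁻¹ * (c * conj c) +
      ((qC m ^ 2 * (qC m - 1))⁻¹ *
        ((qC m - 1) * (cs * conj cs) + (qC m ^ 2 - qC m) * (cr * conj cr))) +
      ε * conj ε * (1 - 4 / (qC m - rC m + 1)) := by
  have hT := S.tip_TP hm hF D 3 three_ne_zero4
  rw [inner_tip S hm hF D (inv_fT _ cs cr hT θ ε) (inv_fT _ cs cr hT θ ε)
    (fT_zero _ cs cr 3 θ ε) (fT_zero _ cs cr 3 θ ε)]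
  simp only [fT_self _ _ _ three_ne_zero4, fT_other _ _ _ 3 θ ε one_ne_zero4 (by decide),
    fT_other _ _ _ 3 θ ε two_ne_zero4 (by decide), map_zero, mul_zero, Finset.sum_const_zero,
    sub_zero, add_zero]
  rw [sum_avg_avg hT hθ hθ1, S.card_tip_K hm hF D 3, S.card_tip_N hm hF D 3, nnC_three,
    ccC_three]
  have h1 := qC_sub_one_ne m
  have h2 := plus_ne m
  have h3 := minus_ne m
  have h4 := qC_ne_zero m
  have h5 := sq_add_one_ne m
  field_simp
  ring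

end Inner

end Cfsg.Agent.Helper2.Sz
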