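import Mathlib
import Cfsg.Agent.Lib.Helper2.SzCT8
import Cfsg.Agent.Lib.Helper8.CharExtra

set_option autoImplicit false
set_option linter.unusedSectionVars false
set_option linter.unusedSimpArgs false
set_option linter.unusedVariables false
set_option linter.style.openClassical false
set_option linter.style.haveILetI false

/-! The irreducible characters of the Suzuki group. -/

namespace Cfsg.Agent.Helper2.Sz

open Cfsg Cfsg.Agent.Helper2.CT
open scoped ComplexConjugate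
open Classical

variable {F : Type*} [Field F] {m : ℕ} (S : SzData F m)

/-- the field order as an integer -/
def qZ (m : ℕ) : ℤ := 2 ^ (2 * m + 1)

/-- the square root of twice the field order as an integer -/
def rZ (m : ℕ) : ℤ := 2 ^ (m + 1)

@[simp] theorem qZ_cast (m : ℕ) : ((qZ m : ℤ) : ℂ) = qC m := by
  unfold qZ qC
  push_cast
  rfl

@[simp] theorem rZ_cast (m : ℕ) : ((rZ m : ℤ) : ℂ) = rC m := by
  unfold rZ rC
  push_cast
  rfl

theorem qC_eq_half (m : ℕ) : qC m = rC m ^ 2 / 2 := by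
  rw [rC_sq]
  ring

section GenChar

variable [Fintype F] (hm : 1 ≤ m) (hF : Fintype.card F = 2 ^ (2 * m + 1)) (D : Tori F m)

include S in
theorem isGenChar_C (c cs cr : ℂ) (e : Fin 4 → ℂ) (A B C : ℤ)
    (h1 : c = (A : ℂ) * qC m ^ 2 + B + C * (rC m * (qC m - 1)))
    (h2 : cs = (B : ℂ) - C * rC m) (h3 : cr = (B : ℂ))
    (a₁ b₁ a₂ b₂ a₃ b₃ : ℤ)
    (hc1 : c = (a₁ : ℂ) * (qC m - 1) + b₁) (he1 : e 1 = b₁)
    (hc2 : c = (a₂ : ℂ) * (qC m + rC m + 1) + b₂) (he2 : e 2 = b₂)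
    (hc3 : c = (a₃ : ℂ) * (qC m - rC m + 1) + b₃) (he3 : e 3 = b₃) :
    IsGeneralizedCharacter (Cfsg.Sz F m) ((S.tip hm hF D).cf c (fC cs cr e)) := by
  have hinv := inv_fC (S.tip hm hF D) cs cr e
  apply (S.tip hm hF D).isGenChar_of_restrict (S.kk_elementary hm hF D)
    ((S.tip hm hF D).cf_isClassFunction hinv)
  intro i
  fin_cases i
  · exact isGenChar_restrict_Q S hm hF D c cs cr A B C h1 h2 h3 hinv (fC_zero cs cr e)
  · refine isGenChar_restrict_const (S.tip hm hF D) 1 c a₁ b₁ ?_ hinv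
      (fun k => by rw [fC_ne _ _ _ one_ne_zero4, he1])
    rw [S.card_tip_K hm hF D 1, ccC_one]
    exact hc1
  · refine isGenChar_restrict_const (S.tip hm hF D) 2 c a₂ b₂ ?_ hinv
      (fun k => by rw [fC_ne _ _ _ two_ne_zero4, he2])
    rw [S.card_tip_K hm hF D 2, ccC_two]
    exact hc2
  · refine isGenChar_restrict_const (S.tip hm hF D) 3 c a₃ b₃ ?_ hinv
      (fun k => by rw [fC_ne _ _ _ three_ne_zero4, he3])
    rw [S.card_tip_K hm hF D 3, ccC_three]
    exact hc3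


include S in
theorem isGenChar_T1 (c cs cr : ℂ) (ε : ℤ) {θ : (S.tip hm hF D).K 1 → ℂ}
    (hθ : IsIrrCharacter ((S.tip hm hF D).K 1) θ) (hθ1 : θ ≠ fun _ => 1) (A B C : ℤ)
    (h1 : c = (A : ℂ) * qC m ^ 2 + B + C * (rC m * (qC m - 1)))
    (h2 : cs = (B : ℂ) - C * rC m) (h3 : cr = (B : ℂ))
    (a1 a2 a3 : ℤ)
    (hc1 : c = (a1 : ℂ) * (qC m - 1) + ε * 2)
    (hc2 : c = (a2 : ℂ) * (qC m + rC m + 1))
    (hc3 : c = (a3 : ℂ) * (qC m - rC m + 1)) :
    IsGeneralizedCharacter (Cfsg.Sz F m)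
      ((S.tip hm hF D).cf c (fT (S.tip hm hF D) cs cr 1 θ (ε : ℂ))) := by
  have hT := S.tip_TP hm hF D 1 one_ne_zero4
  have hinv := inv_fT (S.tip hm hF D) cs cr hT θ (ε : ℂ)
  apply (S.tip hm hF D).isGenChar_of_restrict (S.kk_elementary hm hF D)
    ((S.tip hm hF D).cf_isClassFunction hinv)
  intro i
  fin_cases i
  · exact isGenChar_restrict_Q S hm hF D c cs cr A B C h1 h2 h3 hinv (fT_zero _ cs cr 1 θ _)
  · refine isGenChar_restrict_avg (S.tip hm hF D) 1 hT hθ hθ1 c a1 ε ?_ hinv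
      (fun k => by rw [fT_self _ _ _ one_ne_zero4])
    rw [S.card_tip_K hm hF D 1, S.card_tip_N hm hF D 1, nnC_one, ccC_one, hc1]
    have h1 := qC_sub_one_ne m
    have h2 := plus_ne m
    have h3 := minus_ne m
    field_simp
  · refine isGenChar_restrict_const (S.tip hm hF D) 2 c a2 0 ?_ hinv
      (fun k => by rw [fT_other _ _ _ 1 θ _ two_ne_zero4 (by decide), Int.cast_zero])
    rw [S.card_tip_K hm hF D 2, ccC_two, Int.cast_zero, add_zero]
    exact hc2
  · refine isGenChar_restrict_const (S.tip hm hF D) 3 c a3 0 ?_ hinv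
      (fun k => by rw [fT_other _ _ _ 1 θ _ three_ne_zero4 (by decide), Int.cast_zero])
    rw [S.card_tip_K hm hF D 3, ccC_three, Int.cast_zero, add_zero]
    exact hc3

include S in
theorem isGenChar_T2 (c cs cr : ℂ) (ε : ℤ) {θ : (S.tip hm hF D).K 2 → ℂ}
    (hθ : IsIrrCharacter ((S.tip hm hF D).K 2) θ) (hθ1 : θ ≠ fun _ => 1) (A B C : ℤ)
    (h1 : c = (A : ℂ) * qC m ^ 2 + B + C * (rC m * (qC m - 1)))
    (h2 : cs = (B : ℂ) - C * rC m) (h3 : cr = (B : ℂ))
    (a1 a2 a3 : ℤ)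
    (hc1 : c = (a1 : ℂ) * (qC m - 1))
    (hc2 : c = (a2 : ℂ) * (qC m + rC m + 1) + ε * 4)
    (hc3 : c = (a3 : ℂ) * (qC m - rC m + 1)) :
    IsGeneralizedCharacter (Cfsg.Sz F m)
      ((S.tip hm hF D).cf c (fT (S.tip hm hF D) cs cr 2 θ (ε : ℂ))) := by
  have hT := S.tip_TP hm hF D 2 two_ne_zero4
  have hinv := inv_fT (S.tip hm hF D) cs cr hT θ (ε : ℂ)
  apply (S.tip hm hF D).isGenChar_of_restrict (S.kk_elementary hm hF D)
    ((S.tip hm hF D).cf_isClassFunction hinv)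
  intro i
  fin_cases i
  · exact isGenChar_restrict_Q S hm hF D c cs cr A B C h1 h2 h3 hinv (fT_zero _ cs cr 2 θ _)
  · refine isGenChar_restrict_const (S.tip hm hF D) 1 c a1 0 ?_ hinv
      (fun k => by rw [fT_other _ _ _ 2 θ _ one_ne_zero4 (by decide), Int.cast_zero])
    rw [S.card_tip_K hm hF D 1, ccC_one, Int.cast_zero, add_zero]
    exact hc1
  · refine isGenChar_restrict_avg (S.tip hm hF D) 2 hT hθ hθ1 c a2 ε ?_ hinv
      (fun k => by rw [fT_self _ _ _ two_ne_zero4])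
    rw [S.card_tip_K hm hF D 2, S.card_tip_N hm hF D 2, nnC_two, ccC_two, hc2]
    have h1 := qC_sub_one_ne m
    have h2 := plus_ne m
    have h3 := minus_ne m
    field_simp
  · refine isGenChar_restrict_const (S.tip hm hF D) 3 c a3 0 ?_ hinv
      (fun k => by rw [fT_other _ _ _ 2 θ _ three_ne_zero4 (by decide), Int.cast_zero])
    rw [S.card_tip_K hm hF D 3, ccC_three, Int.cast_zero, add_zero]
    exact hc3

include S in
theorem isGenChar_T3 (c cs cr : ℂ) (ε : ℤ) {θ : (S.tip hm hF D).K 3 → ℂ}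
    (hθ : IsIrrCharacter ((S.tip hm hF D).K 3) θ) (hθ1 : θ ≠ fun _ => 1) (A B C : ℤ)
    (h1 : c = (A : ℂ) * qC m ^ 2 + B + C * (rC m * (qC m - 1)))
    (h2 : cs = (B : ℂ) - C * rC m) (h3 : cr = (B : ℂ))
    (a1 a2 a3 : ℤ)
    (hc1 : c = (a1 : ℂ) * (qC m - 1))
    (hc2 : c = (a2 : ℂ) * (qC m + rC m + 1))
    (hc3 : c = (a3 : ℂ) * (qC m - rC m + 1) + ε * 4) :
    IsGeneralizedCharacter (Cfsg.Sz F m)
      ((S.tip hm hF D).cf c (fT (S.tip hm hF D) cs cr 3 θ (ε : ℂ))) := by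
  have hT := S.tip_TP hm hF D 3 three_ne_zero4
  have hinv := inv_fT (S.tip hm hF D) cs cr hT θ (ε : ℂ)
  apply (S.tip hm hF D).isGenChar_of_restrict (S.kk_elementary hm hF D)
    ((S.tip hm hF D).cf_isClassFunction hinv)
  intro i
  fin_cases i
  · exact isGenChar_restrict_Q S hm hF D c cs cr A B C h1 h2 h3 hinv (fT_zero _ cs cr 3 θ _)
  · refine isGenChar_restrict_const (S.tip hm hF D) 1 c a1 0 ?_ hinv
      (fun k => by rw [fT_other _ _ _ 3 θ _ one_ne_zero4 (by decide), Int.cast_zero])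
    rw [S.card_tip_K hm hF D 1, ccC_one, Int.cast_zero, add_zero]
    exact hc1
  · refine isGenChar_restrict_const (S.tip hm hF D) 2 c a2 0 ?_ hinv
      (fun k => by rw [fT_other _ _ _ 3 θ _ two_ne_zero4 (by decide), Int.cast_zero])
    rw [S.card_tip_K hm hF D 2, ccC_two, Int.cast_zero, add_zero]
    exact hc2
  · refine isGenChar_restrict_avg (S.tip hm hF D) 3 hT hθ hθ1 c a3 ε ?_ hinv
      (fun k => by rw [fT_self _ _ _ three_ne_zero4])
    rw [S.card_tip_K hm hF D 3, S.card_tip_N hm hF D 3, nnC_three, ccC_three, hc3]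
    have h1 := qC_sub_one_ne m
    have h2 := plus_ne m
    have h3 := minus_ne m
    field_simp

end GenChar

section Chars

variable [Fintype F] (hm : 1 ≤ m) (hF : Fintype.card F = 2 ^ (2 * m + 1)) (D : Tori F m)

/-- the Steinberg character -/
noncomputable def stF : Cfsg.Sz F m → ℂ :=
  (S.tip hm hF D).cf (qC m ^ 2) (fC 0 0 (e4 1 (-1) (-1)))

/-- the sum of the two exceptional characters -/
noncomputable def omF : Cfsg.Sz F m → ℂ :=
  (S.tip hm hF D).cf (rC m * (qC m - 1)) (fC (-rC m) 0 (e4 0 2 (-2)))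

/-- the characters of degree `q ^ 2 + 1` -/
noncomputable def xF (θ : (S.tip hm hF D).K 1 → ℂ) : Cfsg.Sz F m → ℂ :=
  (S.tip hm hF D).cf (qC m ^ 2 + 1) (fT (S.tip hm hF D) 1 1 1 θ 1)

/-- the characters of degree `(q - r + 1) (q - 1)` -/
noncomputable def yF (θ : (S.tip hm hF D).K 2 → ℂ) : Cfsg.Sz F m → ℂ :=
  (S.tip hm hF D).cf ((qC m - rC m + 1) * (qC m - 1))
    (fT (S.tip hm hF D) (rC m - 1) (-1) 2 θ (-1))

/-- the characters of degree `(q + r + 1) (q - 1)` -/
noncomputable def zF (θ : (S.tip hm hF D).K 3 → ℂ) : Cfsg.Sz F m → ℂ :=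
  (S.tip hm hF D).cf ((qC m + rC m + 1) * (qC m - 1))
    (fT (S.tip hm hF D) (-rC m - 1) (-1) 3 θ (-1))

theorem e4_one (a b c : ℂ) : e4 a b c 1 = a := rfl
theorem e4_two (a b c : ℂ) : e4 a b c 2 = b := rfl
theorem e4_three (a b c : ℂ) : e4 a b c 3 = c := rfl

include S in
theorem isGenChar_stF : IsGeneralizedCharacter (Cfsg.Sz F m) (stF S hm hF D) := by
  have hq := qC_eq_half m
  refine isGenChar_C S hm hF D _ _ _ _ 1 0 0 ?_ ?_ ?_ (qZ m + 1) 1 (qZ m - rZ m + 1) (-1)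
    (qZ m + rZ m + 1) (-1) ?_ ?_ ?_ ?_ ?_ ?_
  · push_cast; ring
  · push_cast; ring
  · push_cast; ring
  · push_cast; simp only [qZ_cast, rZ_cast]; ring
  · rw [e4_one]; push_cast; ring
  · push_cast; simp only [qZ_cast, rZ_cast]; rw [hq]; ring
  · rw [e4_two]; push_cast; ring
  · push_cast; simp only [qZ_cast, rZ_cast]; rw [hq]; ring
  · rw [e4_three]; push_cast; ring

include S in
theorem isGenChar_omF : IsGeneralizedCharacter (Cfsg.Sz F m) (omF S hm hF D) := by
  have hq := qC_eq_half m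
  refine isGenChar_C S hm hF D _ _ _ _ 0 0 1 ?_ ?_ ?_ (rZ m) 0 (rZ m - 2) 2
    (rZ m + 2) (-2) ?_ ?_ ?_ ?_ ?_ ?_
  · push_cast; ring
  · push_cast; ring
  · push_cast; ring
  · push_cast; simp only [qZ_cast, rZ_cast]; ring
  · rw [e4_one]; push_cast; ring
  · push_cast; simp only [qZ_cast, rZ_cast]; rw [hq]; ring
  · rw [e4_two]; push_cast; ring
  · push_cast; simp only [qZ_cast, rZ_cast]; rw [hq]; ring
  · rw [e4_three]; push_cast; ring

include S in
theorem isGenChar_xF {θ : (S.tip hm hF D).K 1 → ℂ}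
    (hθ : IsIrrCharacter ((S.tip hm hF D).K 1) θ) (hθ1 : θ ≠ fun _ => 1) :
    IsGeneralizedCharacter (Cfsg.Sz F m) (xF S hm hF D θ) := by
  have hq := qC_eq_half m
  have h := isGenChar_T1 S hm hF D (qC m ^ 2 + 1) 1 1 1 hθ hθ1 1 1 0 ?_ ?_ ?_ (qZ m + 1)
    (qZ m - rZ m + 1) (qZ m + rZ m + 1) ?_ ?_ ?_
  · rw [Int.cast_one] at h
    exact h
  · push_cast; ring
  · push_cast; ring
  · push_cast; ring
  · push_cast; simp only [qZ_cast, rZ_cast]; ring
  · push_cast; simp only [qZ_cast, rZ_cast]; rw [hq]; ring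
  · push_cast; simp only [qZ_cast, rZ_cast]; rw [hq]; ring

include S in
theorem isGenChar_yF {θ : (S.tip hm hF D).K 2 → ℂ}
    (hθ : IsIrrCharacter ((S.tip hm hF D).K 2) θ) (hθ1 : θ ≠ fun _ => 1) :
    IsGeneralizedCharacter (Cfsg.Sz F m) (yF S hm hF D θ) := by
  have hq := qC_eq_half m
  have h := isGenChar_T2 S hm hF D ((qC m - rC m + 1) * (qC m - 1)) (rC m - 1) (-1) (-1) hθ hθ1
    1 (-1) (-1) ?_ ?_ ?_ (qZ m - rZ m + 1) (qZ m - 2 * rZ m + 3) (qZ m - 1) ?_ ?_ ?_
  · rw [Int.cast_neg, Int.cast_one] at h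
    exact h
  · push_cast; ring
  · push_cast; ring
  · push_cast; ring
  · push_cast; simp only [qZ_cast, rZ_cast]
  · push_cast; simp only [qZ_cast, rZ_cast]; rw [hq]; ring
  · push_cast; simp only [qZ_cast, rZ_cast]; ring

include S in
theorem isGenChar_zF {θ : (S.tip hm hF D).K 3 → ℂ}
    (hθ : IsIrrCharacter ((S.tip hm hF D).K 3) θ) (hθ1 : θ ≠ fun _ => 1) :
    IsGeneralizedCharacter (Cfsg.Sz F m) (zF S hm hF D θ) := by
  have hq := qC_eq_half m
  have h := isGenChar_T3 S hm hF D ((qC m + rC m + 1) * (qC m - 1)) (-rC m - 1) (-1) (-1) hθ hθ1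
    1 (-1) 1 ?_ ?_ ?_ (qZ m + rZ m + 1) (qZ m - 1) (qZ m + 2 * rZ m + 3) ?_ ?_ ?_
  · rw [Int.cast_neg, Int.cast_one] at h
    exact h
  · push_cast; ring
  · push_cast; ring
  · push_cast; ring
  · push_cast; simp only [qZ_cast, rZ_cast]
  · push_cast; simp only [qZ_cast, rZ_cast]; ring
  · push_cast; simp only [qZ_cast, rZ_cast]; rw [hq]; ring

end Chars

section Norms

variable [Fintype F] (hm : 1 ≤ m) (hF : Fintype.card F = 2 ^ (2 * m + 1)) (D : Tori F m)

include S in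
theorem norm_stF : classInner (stF S hm hF D) (stF S hm hF D) = 1 := by
  unfold stF
  rw [inner_CC S hm hF D]
  simp only [e4_one, e4_two, e4_three, map_one, map_neg, map_zero, conj_qC, conj_rC, map_mul,
    map_pow, map_sub, map_add, map_ofNat]
  have hq := qC_eq_half m
  have h1 := qC_sub_one_ne m
  have h2 := plus_ne m
  have h3 := minus_ne m
  have h4 := qC_ne_zero m
  have h5 := sq_add_one_ne m
  field_simp
  rw [hq]
  ring

include S in
theorem norm_omF : classInner (omF S hm hF D) (omF S hm hF D) = 2 := by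
  unfold omF
  rw [inner_CC S hm hF D]
  simp only [e4_one, e4_two, e4_three, map_one, map_neg, map_zero, conj_qC, conj_rC, map_mul,
    map_pow, map_sub, map_add, map_ofNat]
  have hq := qC_eq_half m
  have h1 := qC_sub_one_ne m
  have h2 := plus_ne m
  have h3 := minus_ne m
  have h4 := qC_ne_zero m
  have h5 := sq_add_one_ne m
  field_simp
  rw [hq]
  ring

include S in
theorem inner_omF_stF : classInner (omF S hm hF D) (stF S hm hF D) = 0 := by
  unfold omF stF
  rw [inner_CC S hm hF D]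
  simp only [e4_one, e4_two, e4_three, map_one, map_neg, map_zero, conj_qC, conj_rC, map_mul,
    map_pow, map_sub, map_add, map_ofNat]
  have hq := qC_eq_half m
  have h1 := qC_sub_one_ne m
  have h2 := plus_ne m
  have h3 := minus_ne m
  have h4 := qC_ne_zero m
  have h5 := sq_add_one_ne m
  field_simp
  rw [hq]
  ring


include S in
theorem norm_xF {θ : (S.tip hm hF D).K 1 → ℂ}
    (hθ : IsIrrCharacter ((S.tip hm hF D).K 1) θ) (hθ1 : θ ≠ fun _ => 1) :
    classInner (xF S hm hF D θ) (xF S hm hF D θ) = 1 := by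
  unfold xF
  rw [inner_TT1 S hm hF D _ _ _ hθ hθ1]
  simp only [e4_one, e4_two, e4_three, map_one, map_neg, map_zero, conj_qC, conj_rC, map_mul,
    map_pow, map_sub, map_add, map_ofNat]
  have hq := qC_eq_half m
  have h1 := qC_sub_one_ne m
  have h2 := plus_ne m
  have h3 := minus_ne m
  have h4 := qC_ne_zero m
  have h5 := sq_add_one_ne m
  field_simp
  rw [hq]
  ring

include S in
theorem inner_omF_xF {θ : (S.tip hm hF D).K 1 → ℂ}
    (hθ : IsIrrCharacter ((S.tip hm hF D).K 1) θ) (hθ1 : θ ≠ fun _ => 1) :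
    classInner (omF S hm hF D) (xF S hm hF D θ) = 0 := by
  unfold omF xF
  rw [inner_CT1 S hm hF D _ _ _ _ _ _ _ hθ hθ1]
  simp only [e4_one, e4_two, e4_three, map_one, map_neg, map_zero, conj_qC, conj_rC, map_mul,
    map_pow, map_sub, map_add, map_ofNat]
  have hq := qC_eq_half m
  have h1 := qC_sub_one_ne m
  have h2 := plus_ne m
  have h3 := minus_ne m
  have h4 := qC_ne_zero m
  have h5 := sq_add_one_ne m
  field_simp
  rw [hq]
  ring

include S in
theorem norm_yF {θ : (S.tip hm hF D).K 2 → ℂ}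
    (hθ : IsIrrCharacter ((S.tip hm hF D).K 2) θ) (hθ1 : θ ≠ fun _ => 1) :
    classInner (yF S hm hF D θ) (yF S hm hF D θ) = 1 := by
  unfold yF
  rw [inner_TT2 S hm hF D _ _ _ hθ hθ1]
  simp only [e4_one, e4_two, e4_three, map_one, map_neg, map_zero, conj_qC, conj_rC, map_mul,
    map_pow, map_sub, map_add, map_ofNat]
  have hq := qC_eq_half m
  have h1 := qC_sub_one_ne m
  have h2 := plus_ne m
  have h3 := minus_ne m
  have h4 := qC_ne_zero m
  have h5 := sq_add_one_ne m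
  field_simp
  rw [hq]
  ring

include S in
theorem inner_omF_yF {θ : (S.tip hm hF D).K 2 → ℂ}
    (hθ : IsIrrCharacter ((S.tip hm hF D).K 2) θ) (hθ1 : θ ≠ fun _ => 1) :
    classInner (omF S hm hF D) (yF S hm hF D θ) = 0 := by
  unfold omF yF
  rw [inner_CT2 S hm hF D _ _ _ _ _ _ _ hθ hθ1]
  simp only [e4_one, e4_two, e4_three, map_one, map_neg, map_zero, conj_qC, conj_rC, map_mul,
    map_pow, map_sub, map_add, map_ofNat]
  have hq := qC_eq_half m
  have h1 := qC_sub_one_ne m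
  have h2 := plus_ne m
  have h3 := minus_ne m
  have h4 := qC_ne_zero m
  have h5 := sq_add_one_ne m
  field_simp
  rw [hq]
  ring

include S in
theorem norm_zF {θ : (S.tip hm hF D).K 3 → ℂ}
    (hθ : IsIrrCharacter ((S.tip hm hF D).K 3) θ) (hθ1 : θ ≠ fun _ => 1) :
    classInner (zF S hm hF D θ) (zF S hm hF D θ) = 1 := by
  unfold zF
  rw [inner_TT3 S hm hF D _ _ _ hθ hθ1]
  simp only [e4_one, e4_two, e4_three, map_one, map_neg, map_zero, conj_qC, conj_rC, map_mul,
    map_pow, map_sub, map_add, map_ofNat]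
  have hq := qC_eq_half m
  have h1 := qC_sub_one_ne m
  have h2 := plus_ne m
  have h3 := minus_ne m
  have h4 := qC_ne_zero m
  have h5 := sq_add_one_ne m
  field_simp
  rw [hq]
  ring

include S in
theorem inner_omF_zF {θ : (S.tip hm hF D).K 3 → ℂ}
    (hθ : IsIrrCharacter ((S.tip hm hF D).K 3) θ) (hθ1 : θ ≠ fun _ => 1) :
    classInner (omF S hm hF D) (zF S hm hF D θ) = 0 := by
  unfold omF zF
  rw [inner_CT3 S hm hF D _ _ _ _ _ _ _ hθ hθ1]
  simp only [e4_one, e4_two, e4_three, map_one, map_neg, map_zero, conj_qC, conj_rC, map_mul,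
    map_pow, map_sub, map_add, map_ofNat]
  have hq := qC_eq_half m
  have h1 := qC_sub_one_ne m
  have h2 := plus_ne m
  have h3 := minus_ne m
  have h4 := qC_ne_zero m
  have h5 := sq_add_one_ne m
  field_simp
  rw [hq]
  ring

end Norms

end Cfsg.Agent.Helper2.Sz
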