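import Mathlib
import Cfsg.Agent.Lib.Helper2.SzCT9
import Cfsg.Agent.Lib.Helper24.CharConjOrbits

set_option autoImplicit false
set_option linter.unusedSectionVars false
set_option linter.unusedSimpArgs false
set_option linter.unusedVariables false
set_option linter.style.openClassical false
set_option linter.style.haveILetI false

/-! Irreducibility of the characters of the Suzuki group and the decomposition of the regular
character. -/

namespace Cfsg.Agent.Helper2.Sz

open Cfsg Cfsg.Agent.Helper2.CT Cfsg.Agent.Helper24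
open scoped ComplexConjugate
open Classical

/-- the finiteness of the set of irreducible characters, as a reducible definition -/
@[reducible] noncomputable def irrFT {G : Type*} [Group G] [Finite G] :
    Fintype (IrrCharacter G) := Cfsg.Agent.Helper24.irrFintype

attribute [local instance] irrFT

section Generic

universe u

variable {G₁ : Type u} [Group G₁] [Fintype G₁]

/-- a generalized character of norm one with positive degree is irreducible -/
theorem irr_of_norm_one {θ : G₁ → ℂ} (hθ : IsGeneralizedCharacter G₁ θ)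
    (h : classInner θ θ = 1) (n : ℕ) (hn : 0 < n) (h1 : θ 1 = n) :
    IsIrrCharacter G₁ θ ∧ charDegree θ = n := by
  refine ⟨?_, charDegree_natCast n h1⟩
  rcases Cfsg.Agent.Helper8.genChar_norm_one hθ h with h2 | h2
  · exact h2
  · exfalso
    obtain ⟨d, hd, hd1⟩ := irr_one_eq h2
    have h3 : ((n + d : ℕ) : ℂ) = 0 := by
      rw [Nat.cast_add, ← h1, ← hd1]
      simp
    have h4 : n + d = 0 := by exact_mod_cast h3
    omega

/-- the principal character of a subgroup -/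
noncomputable def triv (A : Subgroup G₁) : IrrCharacter A := ⟨fun _ => 1, isIrrCharacter_one⟩

/-- the nonprincipal irreducible characters -/
noncomputable def nonTriv (A : Subgroup G₁) : Finset (IrrCharacter A) :=
  Finset.univ.erase (triv A)

theorem ne_one_of_mem_nonTriv {A : Subgroup G₁} {θ : IrrCharacter A} (h : θ ∈ nonTriv A) :
    (θ : A → ℂ) ≠ fun _ => 1 := by
  intro h'
  exact (Finset.mem_erase.1 h).1 (Subtype.ext h')

variable {A N : Subgroup G₁} (T : TP A N)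

include T

theorem card_nonTriv : ((nonTriv A).card : ℂ) = (Nat.card A : ℂ) - 1 := by
  unfold nonTriv
  rw [Finset.card_erase_of_mem (Finset.mem_univ _), Finset.card_univ,
    ← Nat.card_eq_fintype_card, card_irr_of_comm (fun a b => T.comm_sub a b),
    Nat.cast_sub Nat.card_pos, Nat.cast_one]

theorem avg_triv (a : A) :
    avg A N (fun _ => 1) a = (Nat.card N : ℂ) / (Nat.card A : ℂ) := by
  rw [T.avg_coe]
  have e : ∀ n : G₁, (if n ∈ N then TP.tw A (fun _ => (1 : ℂ)) n a else 0) =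
      if n ∈ N then (1 : ℂ) else 0 := by
    intro n
    by_cases hn : n ∈ N
    · rw [if_pos hn, if_pos hn, T.tw_const n hn]
    · rw [if_neg hn, if_neg hn]
  rw [Finset.sum_congr rfl (fun n _ => e n), TIP.sum_indicator, mul_one, div_eq_inv_mul]

theorem sum_nonTriv_avg {a : A} (ha : a ≠ 1) :
    ∑ θ ∈ nonTriv A, avg A N (θ : A → ℂ) a = -((Nat.card N : ℂ) / (Nat.card A : ℂ)) := by
  have h1 := T.sum_irr_avg ha
  rw [← Finset.add_sum_erase Finset.univ _ (Finset.mem_univ (triv A))] at h1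
  have h2 : avg A N ((triv A : IrrCharacter A) : A → ℂ) a =
      (Nat.card N : ℂ) / (Nat.card A : ℂ) := avg_triv T a
  rw [h2] at h1
  unfold nonTriv
  linear_combination h1

end Generic

variable {F : Type*} [Field F] {m : ℕ} (S : SzData F m)

section Irr

variable [Fintype F] (hm : 1 ≤ m) (hF : Fintype.card F = 2 ^ (2 * m + 1)) (D : Tori F m)

theorem cc_pos (m : ℕ) (i : Fin 4) : 0 < SzData.cc m i := by
  fin_cases i
  · show 0 < (2 ^ (2 * m + 1)) ^ 2
    positivity
  · show 0 < 2 ^ (2 * m + 1) - 1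
    have : 2 ≤ 2 ^ (2 * m + 1) := by
      calc 2 = 2 ^ 1 := by norm_num
        _ ≤ 2 ^ (2 * m + 1) := Nat.pow_le_pow_right (by norm_num) (by omega)
    omega
  · exact Nat.succ_pos _
  · exact Nat.succ_pos _

include S in
theorem irr_stF : IsIrrCharacter (Cfsg.Sz F m) (stF S hm hF D) ∧
    charDegree (stF S hm hF D) = SzData.cc m 0 := by
  refine irr_of_norm_one (isGenChar_stF S hm hF D) (norm_stF S hm hF D) _ (cc_pos m 0) ?_
  unfold stF
  rw [TIP.cf_one, ccC_zero]

include S in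
theorem irr_xF {θ : (S.tip hm hF D).K 1 → ℂ}
    (hθ : IsIrrCharacter ((S.tip hm hF D).K 1) θ) (hθ1 : θ ≠ fun _ => 1) :
    IsIrrCharacter (Cfsg.Sz F m) (xF S hm hF D θ) ∧
      charDegree (xF S hm hF D θ) = SzData.cc m 0 + 1 := by
  refine irr_of_norm_one (isGenChar_xF S hm hF D hθ hθ1) (norm_xF S hm hF D hθ hθ1) _
    (Nat.succ_pos _) ?_
  unfold xF
  rw [TIP.cf_one, Nat.cast_add, ccC_zero, Nat.cast_one]

include S in
theorem irr_yF {θ : (S.tip hm hF D).K 2 → ℂ}
    (hθ : IsIrrCharacter ((S.tip hm hF D).K 2) θ) (hθ1 : θ ≠ fun _ => 1) :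
    IsIrrCharacter (Cfsg.Sz F m) (yF S hm hF D θ) ∧
      charDegree (yF S hm hF D θ) = SzData.cc m 3 * SzData.cc m 1 := by
  refine irr_of_norm_one (isGenChar_yF S hm hF D hθ hθ1) (norm_yF S hm hF D hθ hθ1) _
    (Nat.mul_pos (cc_pos m 3) (cc_pos m 1)) ?_
  unfold yF
  rw [TIP.cf_one, Nat.cast_mul, ccC_three, ccC_one]

include S in
theorem irr_zF {θ : (S.tip hm hF D).K 3 → ℂ}
    (hθ : IsIrrCharacter ((S.tip hm hF D).K 3) θ) (hθ1 : θ ≠ fun _ => 1) :
    IsIrrCharacter (Cfsg.Sz F m) (zF S hm hF D θ) ∧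
      charDegree (zF S hm hF D θ) = SzData.cc m 2 * SzData.cc m 1 := by
  refine irr_of_norm_one (isGenChar_zF S hm hF D hθ hθ1) (norm_zF S hm hF D hθ hθ1) _
    (Nat.mul_pos (cc_pos m 2) (cc_pos m 1)) ?_
  unfold zF
  rw [TIP.cf_one, Nat.cast_mul, ccC_two, ccC_one]

end Irr

section Reg

variable [Fintype F] (hm : 1 ≤ m) (hF : Fintype.card F = 2 ^ (2 * m + 1)) (D : Tori F m)

/-- the decomposition of the regular character -/
noncomputable def regX : Cfsg.Sz F m → ℂ :=
  (fun _ => (1 : ℂ)) + (qC m ^ 2) • stF S hm hF D +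
    ((qC m ^ 2 + 1) / 2) • (∑ θ ∈ nonTriv ((S.tip hm hF D).K 1), xF S hm hF D (θ : _ → ℂ)) +
    (((qC m - rC m + 1) * (qC m - 1)) / 4) •
      (∑ θ ∈ nonTriv ((S.tip hm hF D).K 2), yF S hm hF D (θ : _ → ℂ)) +
    (((qC m + rC m + 1) * (qC m - 1)) / 4) •
      (∑ θ ∈ nonTriv ((S.tip hm hF D).K 3), zF S hm hF D (θ : _ → ℂ)) +
    ((rC m * (qC m - 1)) / 2) • omF S hm hF D

theorem regX_apply (g : Cfsg.Sz F m) : regX S hm hF D g =
    1 + qC m ^ 2 * stF S hm hF D g +
    ((qC m ^ 2 + 1) / 2) * (∑ θ ∈ nonTriv ((S.tip hm hF D).K 1), xF S hm hF D (θ : _ → ℂ) g) +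
    (((qC m - rC m + 1) * (qC m - 1)) / 4) *
      (∑ θ ∈ nonTriv ((S.tip hm hF D).K 2), yF S hm hF D (θ : _ → ℂ) g) +
    (((qC m + rC m + 1) * (qC m - 1)) / 4) *
      (∑ θ ∈ nonTriv ((S.tip hm hF D).K 3), zF S hm hF D (θ : _ → ℂ) g) +
    ((rC m * (qC m - 1)) / 2) * omF S hm hF D g := by
  unfold regX
  simp only [Pi.add_apply, Pi.smul_apply, Finset.sum_apply, smul_eq_mul]

include S in
theorem card_nonTriv_one :
    ((nonTriv ((S.tip hm hF D).K 1)).card : ℂ) = qC m - 1 - 1 := by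
  rw [card_nonTriv (S.tip_TP hm hF D 1 one_ne_zero4), S.card_tip_K hm hF D 1, ccC_one]

include S in
theorem card_nonTriv_two :
    ((nonTriv ((S.tip hm hF D).K 2)).card : ℂ) = qC m + rC m + 1 - 1 := by
  rw [card_nonTriv (S.tip_TP hm hF D 2 two_ne_zero4), S.card_tip_K hm hF D 2, ccC_two]

include S in
theorem card_nonTriv_three :
    ((nonTriv ((S.tip hm hF D).K 3)).card : ℂ) = qC m - rC m + 1 - 1 := by
  rw [card_nonTriv (S.tip_TP hm hF D 3 three_ne_zero4), S.card_tip_K hm hF D 3, ccC_three]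

include S in
theorem regX_one : regX S hm hF D 1 = qC m ^ 2 * (qC m ^ 2 + 1) * (qC m - 1) := by
  rw [regX_apply]
  unfold stF xF yF zF omF
  simp only [TIP.cf_one, Finset.sum_const, nsmul_eq_mul]
  rw [card_nonTriv_one S hm hF D, card_nonTriv_two S hm hF D, card_nonTriv_three S hm hF D,
    qC_eq_half m]
  ring


theorem two_of_sq {k : Cfsg.Sz F m} (h : k * k = 1) (cs cr : ℂ) : two cs cr k = cs := by
  unfold two
  rw [if_pos h]

theorem two_of_not_sq {k : Cfsg.Sz F m} (h : ¬ k * k = 1) (cs cr : ℂ) : two cs cr k = cr := by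
  unfold two
  rw [if_neg h]

section Vals

variable {hm hF D}
variable {i : Fin 4} {g x₀ : Cfsg.Sz F m} (hx : x₀ * g * x₀⁻¹ ∈ (S.tip hm hF D).K i) (hg : g ≠ 1)

include hx hg

theorem val_stF : stF S hm hF D g = fC 0 0 (e4 1 (-1) (-1)) i (x₀ * g * x₀⁻¹) :=
  (S.tip hm hF D).cf_conj (inv_fC _ _ _ _) hx hg

theorem val_omF : omF S hm hF D g = fC (-rC m) 0 (e4 0 2 (-2)) i (x₀ * g * x₀⁻¹) :=
  (S.tip hm hF D).cf_conj (inv_fC _ _ _ _) hx hg

theorem val_xF (θ : (S.tip hm hF D).K 1 → ℂ) :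
    xF S hm hF D θ g = fT (S.tip hm hF D) 1 1 1 θ 1 i (x₀ * g * x₀⁻¹) :=
  (S.tip hm hF D).cf_conj (inv_fT _ _ _ (S.tip_TP hm hF D 1 one_ne_zero4) θ 1) hx hg

theorem val_yF (θ : (S.tip hm hF D).K 2 → ℂ) :
    yF S hm hF D θ g = fT (S.tip hm hF D) (rC m - 1) (-1) 2 θ (-1) i (x₀ * g * x₀⁻¹) :=
  (S.tip hm hF D).cf_conj (inv_fT _ _ _ (S.tip_TP hm hF D 2 two_ne_zero4) θ (-1)) hx hg

theorem val_zF (θ : (S.tip hm hF D).K 3 → ℂ) :
    zF S hm hF D θ g = fT (S.tip hm hF D) (-rC m - 1) (-1) 3 θ (-1) i (x₀ * g * x₀⁻¹) :=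
  (S.tip hm hF D).cf_conj (inv_fT _ _ _ (S.tip_TP hm hF D 3 three_ne_zero4) θ (-1)) hx hg

end Vals

include S in
theorem sum_avg_val {j : Fin 4} (hj : j ≠ 0) {k : Cfsg.Sz F m} (hk : k ∈ (S.tip hm hF D).K j)
    (hk1 : k ≠ 1) :
    ∑ θ ∈ nonTriv ((S.tip hm hF D).K j),
      avg ((S.tip hm hF D).K j) ((S.tip hm hF D).N j) (θ : _ → ℂ) k =
      -((Nat.card ((S.tip hm hF D).N j) : ℂ) / (Nat.card ((S.tip hm hF D).K j) : ℂ)) :=
  sum_nonTriv_avg (S.tip_TP hm hF D j hj) (a := ⟨k, hk⟩) (fun h => hk1 (congrArg Subtype.val h))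

include S in
theorem regX_ne_one {g : Cfsg.Sz F m} (hg : g ≠ 1) : regX S hm hF D g = 0 := by
  obtain ⟨i, x₀, hx⟩ := (S.tip hm hF D).cover g hg
  have hk1 : x₀ * g * x₀⁻¹ ≠ 1 := TIP.conj_ne_one hg
  rw [regX_apply]
  simp only [val_stF S hx hg, val_omF S hx hg, val_xF S hx hg, val_yF S hx hg, val_zF S hx hg]
  have hq := qC_eq_half m
  have h1 := qC_sub_one_ne m
  have h2 := plus_ne m
  have h3 := minus_ne m
  have hi : i = 0 ∨ i = 1 ∨ i = 2 ∨ i = 3 := by
    fin_cases i <;> simp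
  rcases hi with rfl | rfl | rfl | rfl
  · simp only [fC_zero, fT_zero]
    by_cases hk2 : x₀ * g * x₀⁻¹ * (x₀ * g * x₀⁻¹) = 1
    · simp only [two_of_sq hk2, Finset.sum_const, nsmul_eq_mul]
      rw [card_nonTriv_one S hm hF D, card_nonTriv_two S hm hF D, card_nonTriv_three S hm hF D, hq]
      ring
    · simp only [two_of_not_sq hk2, Finset.sum_const, nsmul_eq_mul]
      rw [card_nonTriv_one S hm hF D, card_nonTriv_two S hm hF D, card_nonTriv_three S hm hF D, hq]
      ring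
  · simp only [fC_ne _ _ _ one_ne_zero4, e4_one, fT_self _ _ _ one_ne_zero4,
      fT_other _ _ _ 2 _ _ one_ne_zero4 (by decide), fT_other _ _ _ 3 _ _ one_ne_zero4 (by decide),
      one_mul, Finset.sum_const_zero, mul_zero, add_zero]
    rw [sum_avg_val S hm hF D one_ne_zero4 hx hk1, S.card_tip_K hm hF D 1, S.card_tip_N hm hF D 1,
      nnC_one, ccC_one]
    field_simp
    ring
  · simp only [fC_ne _ _ _ two_ne_zero4, e4_two, fT_self _ _ _ two_ne_zero4,
      fT_other _ _ _ 1 _ _ two_ne_zero4 (by decide), fT_other _ _ _ 3 _ _ two_ne_zero4 (by decide),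
      neg_one_mul, Finset.sum_neg_distrib, Finset.sum_const_zero, mul_zero, add_zero]
    rw [sum_avg_val S hm hF D two_ne_zero4 hx hk1, S.card_tip_K hm hF D 2, S.card_tip_N hm hF D 2,
      nnC_two, ccC_two]
    field_simp
    rw [hq]
    ring
  · simp only [fC_ne _ _ _ three_ne_zero4, e4_three, fT_self _ _ _ three_ne_zero4,
      fT_other _ _ _ 1 _ _ three_ne_zero4 (by decide),
      fT_other _ _ _ 2 _ _ three_ne_zero4 (by decide),
      neg_one_mul, Finset.sum_neg_distrib, Finset.sum_const_zero, mul_zero, add_zero]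
    rw [sum_avg_val S hm hF D three_ne_zero4 hx hk1, S.card_tip_K hm hF D 3,
      S.card_tip_N hm hF D 3, nnC_three, ccC_three]
    field_simp
    rw [hq]
    ring

end Reg

end Cfsg.Agent.Helper2.Sz
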