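import Mathlib
import Cfsg.Agent.Lib.Helper2.SzCT10

set_option autoImplicit false
set_option linter.unusedSectionVars false
set_option linter.unusedSimpArgs false
set_option linter.unusedVariables false
set_option linter.style.openClassical false
set_option linter.style.haveILetI false

/-! The character degrees of the Suzuki group. -/

namespace Cfsg.Agent.Helper2.Sz

open Cfsg Cfsg.Agent.Helper2.CT Cfsg.Agent.Helper24
open scoped ComplexConjugate
open Classical

attribute [local instance] irrFT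

variable {F : Type*} [Field F] {m : ℕ} (S : SzData F m)

section Complete

variable [Fintype F] (hm : 1 ≤ m) (hF : Fintype.card F = 2 ^ (2 * m + 1)) (D : Tori F m)

include S in
theorem one_eq_cf : (fun _ : Cfsg.Sz F m => (1 : ℂ)) =
    (S.tip hm hF D).cf 1 (fC 1 1 (e4 1 1 1)) := by
  have hcf : IsClassFunction (Cfsg.Sz F m) (fun _ => (1 : ℂ)) := fun _ _ => rfl
  rw [(S.tip hm hF D).eq_cf hcf]
  refine (S.tip hm hF D).cf_ext ((S.tip hm hF D).inv_of_isClassFunction hcf) (inv_fC _ _ _ _) rfl ?_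
  intro i k hk hk1
  have hi : i = 0 ∨ i = 1 ∨ i = 2 ∨ i = 3 := by
    fin_cases i <;> simp
  rcases hi with rfl | rfl | rfl | rfl
  · rw [fC_zero]
    unfold two
    by_cases h : k * k = 1
    · rw [if_pos h]
    · rw [if_neg h]
  · rw [fC_ne _ _ _ one_ne_zero4, e4_one]
  · rw [fC_ne _ _ _ two_ne_zero4, e4_two]
  · rw [fC_ne _ _ _ three_ne_zero4, e4_three]

include S in
theorem inner_omF_one : classInner (omF S hm hF D) (fun _ => (1 : ℂ)) = 0 := by
  rw [one_eq_cf S hm hF D]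
  unfold omF
  rw [inner_CC S hm hF D]
  simp only [e4_one, e4_two, e4_three, map_one, map_neg, map_zero, conj_qC, conj_rC, map_mul,
    map_pow, map_sub, map_add, map_ofNat]
  have hq := qC_eq_half m
  have h1 := qC_sub_one_ne m
  have h2 := plus_ne m
  have h3 := minus_ne m
  have h4 := qC_ne_zero m
  have h5 := sq_add_one_ne m
  field_simp
  rw [hq]
  ring

include S in
theorem inner_regX (χ : Cfsg.Sz F m → ℂ) : classInner (regX S hm hF D) χ = conj (χ 1) := by
  unfold classInner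
  rw [Finset.sum_eq_single (1 : Cfsg.Sz F m)]
  · rw [regX_one S hm hF D, card_Sz_C S hm hF]
    have h1 := qC_sub_one_ne m
    have h4 := qC_ne_zero m
    have h5 := sq_add_one_ne m
    field_simp
  · intro g _ hg
    rw [regX_ne_one S hm hF D hg, zero_mul]
  · intro h
    exact absurd (Finset.mem_univ _) h

theorem inner_regX_expand (χ : Cfsg.Sz F m → ℂ) : classInner (regX S hm hF D) χ =
    classInner (fun _ => (1 : ℂ)) χ + qC m ^ 2 * classInner (stF S hm hF D) χ +
    ((qC m ^ 2 + 1) / 2) * (∑ θ ∈ nonTriv ((S.tip hm hF D).K 1),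
      classInner (xF S hm hF D (θ : _ → ℂ)) χ) +
    (((qC m - rC m + 1) * (qC m - 1)) / 4) * (∑ θ ∈ nonTriv ((S.tip hm hF D).K 2),
      classInner (yF S hm hF D (θ : _ → ℂ)) χ) +
    (((qC m + rC m + 1) * (qC m - 1)) / 4) * (∑ θ ∈ nonTriv ((S.tip hm hF D).K 3),
      classInner (zF S hm hF D (θ : _ → ℂ)) χ) +
    ((rC m * (qC m - 1)) / 2) * classInner (omF S hm hF D) χ := by
  unfold regX
  simp only [classInner_add_left, classInner_smul_left, classInner_sum_left]

/-- an irreducible character of the Suzuki group is one of the known ones or a constituent of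
the exceptional generalized character -/
theorem irr_cases {χ : Cfsg.Sz F m → ℂ} (hχ : IsIrrCharacter (Cfsg.Sz F m) χ) :
    χ = (fun _ => (1 : ℂ)) ∨ χ = stF S hm hF D ∨
    (∃ θ ∈ nonTriv ((S.tip hm hF D).K 1), χ = xF S hm hF D (θ : _ → ℂ)) ∨
    (∃ θ ∈ nonTriv ((S.tip hm hF D).K 2), χ = yF S hm hF D (θ : _ → ℂ)) ∨
    (∃ θ ∈ nonTriv ((S.tip hm hF D).K 3), χ = zF S hm hF D (θ : _ → ℂ)) ∨
    conj (χ 1) = ((rC m * (qC m - 1)) / 2) * classInner (omF S hm hF D) χ := by
  by_contra hcon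
  push Not at hcon
  obtain ⟨h1, h2, h3, h4, h5, h6⟩ := hcon
  apply h6
  rw [← inner_regX S hm hF D χ, inner_regX_expand]
  have e1 : classInner (fun _ => (1 : ℂ)) χ = 0 := by
    rw [irr_orthogonality isIrrCharacter_one hχ, if_neg (fun h => h1 h.symm)]
  have e2 : classInner (stF S hm hF D) χ = 0 := by
    rw [irr_orthogonality (irr_stF S hm hF D).1 hχ, if_neg (fun h => h2 h.symm)]
  have e3 : ∑ θ ∈ nonTriv ((S.tip hm hF D).K 1), classInner (xF S hm hF D (θ : _ → ℂ)) χ = 0 := by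
    refine Finset.sum_eq_zero fun θ hθ => ?_
    rw [irr_orthogonality (irr_xF S hm hF D θ.2 (ne_one_of_mem_nonTriv hθ)).1 hχ,
      if_neg (fun h => h3 θ hθ h.symm)]
  have e4' : ∑ θ ∈ nonTriv ((S.tip hm hF D).K 2), classInner (yF S hm hF D (θ : _ → ℂ)) χ = 0 := by
    refine Finset.sum_eq_zero fun θ hθ => ?_
    rw [irr_orthogonality (irr_yF S hm hF D θ.2 (ne_one_of_mem_nonTriv hθ)).1 hχ,
      if_neg (fun h => h4 θ hθ h.symm)]
  have e5 : ∑ θ ∈ nonTriv ((S.tip hm hF D).K 3), classInner (zF S hm hF D (θ : _ → ℂ)) χ = 0 := by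
    refine Finset.sum_eq_zero fun θ hθ => ?_
    rw [irr_orthogonality (irr_zF S hm hF D θ.2 (ne_one_of_mem_nonTriv hθ)).1 hχ,
      if_neg (fun h => h5 θ hθ h.symm)]
  rw [e1, e2, e3, e4', e5]
  ring

end Complete

section Degrees

variable [Fintype F] (hm : 1 ≤ m) (hF : Fintype.card F = 2 ^ (2 * m + 1)) (D : Tori F m)

/-- the degree of the exceptional characters -/
def dW (m : ℕ) : ℕ := 2 ^ m * SzData.cc m 1

theorem dW_cast (m : ℕ) : ((dW m : ℕ) : ℂ) = (rC m * (qC m - 1)) / 2 := by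
  unfold dW
  rw [Nat.cast_mul, ccC_one]
  unfold rC
  push_cast
  ring

theorem dW_pos (m : ℕ) : 0 < dW m := Nat.mul_pos (by positivity) (cc_pos m 1)

include S in
/-- the multiplicities of the exceptional generalized character are small -/
theorem om_coeff_sq_le (χ : IrrCharacter (Cfsg.Sz F m)) {a : ℤ}
    (ha : classInner (omF S hm hF D) (χ : Cfsg.Sz F m → ℂ) = a) : a ^ 2 ≤ 2 := by
  have hgen := isGenChar_omF S hm hF D
  choose b hb using Cfsg.Agent.Helper8.genChar_inner_int hgen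
  have hnorm := norm_omF S hm hF D
  rw [classInner_eq_sum_mul (Cfsg.Agent.Helper8.isClassFunction_of_isGeneralizedCharacter hgen)]
    at hnorm
  have hsum : ∑ ψ : IrrCharacter (Cfsg.Sz F m), (b ψ) ^ 2 = 2 := by
    have : ((∑ ψ : IrrCharacter (Cfsg.Sz F m), (b ψ) ^ 2 : ℤ) : ℂ) = 2 := by
      rw [← hnorm]
      push_cast
      refine Finset.sum_congr rfl fun ψ _ => ?_
      rw [hb ψ, map_intCast]
      ring
    exact_mod_cast this
  have hab : a = b χ := by
    have : (a : ℂ) = (b χ : ℂ) := by rw [← ha, hb χ]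
    exact_mod_cast this
  rw [hab, ← hsum]
  exact Finset.single_le_sum (f := fun ψ => (b ψ) ^ 2) (fun ψ _ => sq_nonneg (b ψ))
    (Finset.mem_univ χ)

include S in
/-- the degree of a constituent of the exceptional generalized character -/
theorem degree_of_om {χ : Cfsg.Sz F m → ℂ} (hχ : IsIrrCharacter (Cfsg.Sz F m) χ)
    (h6 : conj (χ 1) = ((rC m * (qC m - 1)) / 2) * classInner (omF S hm hF D) χ) :
    charDegree χ = dW m := by
  obtain ⟨a, ha⟩ := Cfsg.Agent.Helper8.genChar_inner_int (isGenChar_omF S hm hF D) ⟨χ, hχ⟩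
  have ha2 := om_coeff_sq_le S hm hF D ⟨χ, hχ⟩ ha
  have hd := irr_one_eq_charDegree hχ
  have hpos := charDegree_pos hχ
  have ha' : classInner (omF S hm hF D) χ = a := ha
  rw [hd, Complex.conj_natCast, ha', ← dW_cast] at h6
  have h7 : (charDegree χ : ℤ) = (dW m : ℤ) * a := by exact_mod_cast h6
  have hw := dW_pos m
  have hapos : 0 < a := by
    by_contra hneg
    push Not at hneg
    have : (dW m : ℤ) * a ≤ 0 := mul_nonpos_of_nonneg_of_nonpos (by positivity) hneg
    have h8 : (0 : ℤ) < charDegree χ := by exact_mod_cast hpos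
    omega
  have ha1 : a = 1 := by
    by_contra hne
    have h2 : 2 ≤ a := by omega
    nlinarith
  rw [ha1, mul_one] at h7
  exact_mod_cast h7

include S hm hF D in
/-- **the character degrees of the Suzuki group** -/
theorem degree_cases {χ : Cfsg.Sz F m → ℂ} (hχ : IsIrrCharacter (Cfsg.Sz F m) χ) :
    charDegree χ = 1 ∨ charDegree χ = SzData.cc m 0 ∨ charDegree χ = SzData.cc m 0 + 1 ∨
    charDegree χ = SzData.cc m 3 * SzData.cc m 1 ∨
    charDegree χ = SzData.cc m 2 * SzData.cc m 1 ∨ charDegree χ = dW m := by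
  rcases irr_cases S hm hF D hχ with rfl | rfl | ⟨θ, hθ, rfl⟩ | ⟨θ, hθ, rfl⟩ | ⟨θ, hθ, rfl⟩ | h6
  · left
    exact charDegree_natCast 1 (by simp)
  · right; left
    exact (irr_stF S hm hF D).2
  · right; right; left
    exact (irr_xF S hm hF D θ.2 (ne_one_of_mem_nonTriv hθ)).2
  · right; right; right; left
    exact (irr_yF S hm hF D θ.2 (ne_one_of_mem_nonTriv hθ)).2
  · right; right; right; right; left
    exact (irr_zF S hm hF D θ.2 (ne_one_of_mem_nonTriv hθ)).2
  · right; right; right; right; right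
    exact degree_of_om S hm hF D hχ h6

end Degrees

section Exist

universe u

variable {G₁ : Type u} [Group G₁] [Fintype G₁] {A N : Subgroup G₁} (T : TP A N)

include T in
theorem nonTriv_nonempty (h : 2 ≤ Nat.card A) : (nonTriv A).Nonempty := by
  rw [← Finset.card_pos]
  unfold nonTriv
  rw [Finset.card_erase_of_mem (Finset.mem_univ _), Finset.card_univ,
    ← Nat.card_eq_fintype_card, card_irr_of_comm (fun a b => T.comm_sub a b)]
  omega

end Exist

section Exist2

variable [Fintype F] (hm : 1 ≤ m) (hF : Fintype.card F = 2 ^ (2 * m + 1)) (D : Tori F m)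

theorem two_le_cc (hm : 1 ≤ m) {i : Fin 4} (hi : i ≠ 0) : 2 ≤ SzData.cc m i := by
  have h1 : 2 ^ (m + 1) < 2 ^ (2 * m + 1) := Nat.pow_lt_pow_right (by norm_num) (by omega)
  have h2 : 4 ≤ 2 ^ (m + 1) := by
    calc 4 = 2 ^ 2 := by norm_num
      _ ≤ 2 ^ (m + 1) := Nat.pow_le_pow_right (by norm_num) (by omega)
  have hi' : i = 0 ∨ i = 1 ∨ i = 2 ∨ i = 3 := by
    fin_cases i <;> simp
  rcases hi' with rfl | rfl | rfl | rfl
  · exact absurd rfl hi
  · show 2 ≤ 2 ^ (2 * m + 1) - 1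
    omega
  · show 2 ≤ 2 ^ (2 * m + 1) + 2 ^ (m + 1) + 1
    omega
  · show 2 ≤ 2 ^ (2 * m + 1) - 2 ^ (m + 1) + 1
    omega

include S hm hF D in
theorem exists_degree_X : ∃ χ : IrrCharacter (Cfsg.Sz F m),
    charDegree (χ : Cfsg.Sz F m → ℂ) = SzData.cc m 0 + 1 := by
  obtain ⟨θ, hθ⟩ := nonTriv_nonempty (S.tip_TP hm hF D 1 one_ne_zero4)
    (by rw [S.card_tip_K hm hF D 1]; exact two_le_cc hm one_ne_zero4)
  have h := irr_xF S hm hF D θ.2 (ne_one_of_mem_nonTriv hθ)
  exact ⟨⟨_, h.1⟩, h.2⟩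

include S hm hF D in
theorem exists_degree_Y : ∃ χ : IrrCharacter (Cfsg.Sz F m),
    charDegree (χ : Cfsg.Sz F m → ℂ) = SzData.cc m 3 * SzData.cc m 1 := by
  obtain ⟨θ, hθ⟩ := nonTriv_nonempty (S.tip_TP hm hF D 2 two_ne_zero4)
    (by rw [S.card_tip_K hm hF D 2]; exact two_le_cc hm two_ne_zero4)
  have h := irr_yF S hm hF D θ.2 (ne_one_of_mem_nonTriv hθ)
  exact ⟨⟨_, h.1⟩, h.2⟩

include S hm hF D in
theorem exists_degree_Z : ∃ χ : IrrCharacter (Cfsg.Sz F m),
    charDegree (χ : Cfsg.Sz F m → ℂ) = SzData.cc m 2 * SzData.cc m 1 := by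
  obtain ⟨θ, hθ⟩ := nonTriv_nonempty (S.tip_TP hm hF D 3 three_ne_zero4)
    (by rw [S.card_tip_K hm hF D 3]; exact two_le_cc hm three_ne_zero4)
  have h := irr_zF S hm hF D θ.2 (ne_one_of_mem_nonTriv hθ)
  exact ⟨⟨_, h.1⟩, h.2⟩

include S hm hF D in
theorem exists_degree_W : ∃ χ : IrrCharacter (Cfsg.Sz F m),
    charDegree (χ : Cfsg.Sz F m → ℂ) = dW m := by
  have hgen := isGenChar_omF S hm hF D
  have hnorm := norm_omF S hm hF D
  rw [classInner_eq_sum_mul (Cfsg.Agent.Helper8.isClassFunction_of_isGeneralizedCharacter hgen)]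
    at hnorm
  -- some multiplicity is nonzero
  have hex : ∃ χ : IrrCharacter (Cfsg.Sz F m),
      classInner (omF S hm hF D) (χ : Cfsg.Sz F m → ℂ) ≠ 0 := by
    by_contra hcon
    push Not at hcon
    rw [Finset.sum_eq_zero (fun ψ _ => by rw [hcon ψ, zero_mul])] at hnorm
    exact two_ne_zero hnorm.symm
  obtain ⟨χ, hχ⟩ := hex
  refine ⟨χ, ?_⟩
  rcases irr_cases S hm hF D χ.2 with h | h | ⟨θ, hθ, h⟩ | ⟨θ, hθ, h⟩ | ⟨θ, hθ, h⟩ | h6
  · exact absurd (by rw [h]; exact inner_omF_one S hm hF D) hχ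
  · exact absurd (by rw [h]; exact inner_omF_stF S hm hF D) hχ
  · exact absurd (by rw [h]; exact inner_omF_xF S hm hF D θ.2 (ne_one_of_mem_nonTriv hθ)) hχ
  · exact absurd (by rw [h]; exact inner_omF_yF S hm hF D θ.2 (ne_one_of_mem_nonTriv hθ)) hχ
  · exact absurd (by rw [h]; exact inner_omF_zF S hm hF D θ.2 (ne_one_of_mem_nonTriv hθ)) hχ
  · exact degree_of_om S hm hF D χ.2 h6

end Exist2

end Cfsg.Agent.Helper2.Sz
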