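import Mathlib
import Cfsg.Prelude.Def_DegreeGraph

set_option autoImplicit false
set_option linter.unusedSectionVars false
set_option linter.unusedSimpArgs false
set_option linter.unusedVariables false

/-! The arithmetic of the character degree graph of the Suzuki groups. -/

namespace Cfsg.Agent.Helper2.Sz

/-- the vertices and edges of the degree graph determined by the set of degrees -/
theorem degree_graph_arith (q a b c w k n : ℕ) (hk : 1 ≤ k) (hn : 1 ≤ n) (hq : q = 2 ^ k)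
    (hw : w = 2 ^ n) (ha : a = q - 1) (hbc : b * c = q ^ 2 + 1) (Dg : Set ℕ)
    (hsub : ∀ d ∈ Dg, d = 1 ∨ d = q ^ 2 ∨ d = q ^ 2 + 1 ∨ d = c * a ∨ d = b * a ∨ d = w * a)
    (hX : q ^ 2 + 1 ∈ Dg) (hY : c * a ∈ Dg) (hZ : b * a ∈ Dg) (hW : w * a ∈ Dg) :
    {p : ℕ | p.Prime ∧ ∃ d ∈ Dg, p ∣ d} =
      {r : ℕ | r.Prime ∧ (r = 2 ∨ r ∣ (q - 1) * (q ^ 2 + 1))} ∧
    ∀ r s : ℕ, (r ≠ s ∧ r.Prime ∧ s.Prime ∧ ∃ d ∈ Dg, r * s ∣ d) ↔
      (r ≠ s ∧ r.Prime ∧ s.Prime ∧ ((r ∣ (q - 1) * (q ^ 2 + 1) ∧ s ∣ (q - 1) * (q ^ 2 + 1)) ∨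
        (r = 2 ∧ s ∣ q - 1) ∨ (s = 2 ∧ r ∣ q - 1))) := by
  subst ha
  have h2w : 2 ∣ w := by
    rw [hw]
    exact dvd_pow_self 2 (by omega)
  have hpw : ∀ p : ℕ, p.Prime → p ∣ w → p = 2 := by
    intro p hp h
    rw [hw] at h
    exact (Nat.prime_dvd_prime_iff_eq hp Nat.prime_two).1 (hp.dvd_of_dvd_pow h)
  have hpq : ∀ p : ℕ, p.Prime → p ∣ q ^ 2 → p = 2 := by
    intro p hp h
    rw [hq] at h
    exact (Nat.prime_dvd_prime_iff_eq hp Nat.prime_two).1
      (hp.dvd_of_dvd_pow (hp.dvd_of_dvd_pow h))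
  have hca : c * (q - 1) ∣ (q - 1) * (q ^ 2 + 1) := by
    rw [← hbc, mul_comm (q - 1)]
    exact mul_dvd_mul_right (Dvd.intro_left b rfl) _
  have hba : b * (q - 1) ∣ (q - 1) * (q ^ 2 + 1) := by
    rw [← hbc, mul_comm (q - 1)]
    exact mul_dvd_mul_right (Dvd.intro c rfl) _
  constructor
  · ext p
    simp only [Set.mem_ofPred_eq]
    constructor
    · rintro ⟨hp, d, hd, hpd⟩
      refine ⟨hp, ?_⟩
      rcases hsub d hd with rfl | rfl | rfl | rfl | rfl | rfl
      · exact absurd (Nat.dvd_one.1 hpd) hp.one_lt.ne'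
      · left
        exact hpq p hp hpd
      · right
        exact Dvd.dvd.mul_left hpd _
      · right
        exact dvd_trans hpd hca
      · right
        exact dvd_trans hpd hba
      · rcases (Nat.Prime.dvd_mul hp).1 hpd with h | h
        · left
          exact hpw p hp h
        · right
          exact Dvd.dvd.mul_right h _
    · rintro ⟨hp, h | h⟩
      · refine ⟨hp, w * (q - 1), hW, ?_⟩
        rw [h]
        exact Dvd.dvd.mul_right h2w _
      · refine ⟨hp, ?_⟩
        rcases (Nat.Prime.dvd_mul hp).1 h with h | h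
        · exact ⟨w * (q - 1), hW, Dvd.dvd.mul_left h _⟩
        · exact ⟨q ^ 2 + 1, hX, h⟩
  · intro r s
    constructor
    · rintro ⟨hne, hr, hs, d, hd, hrs⟩
      refine ⟨hne, hr, hs, ?_⟩
      have hrd : r ∣ d := dvd_trans (Dvd.intro s rfl) hrs
      have hsd : s ∣ d := dvd_trans (Dvd.intro_left r rfl) hrs
      rcases hsub d hd with rfl | rfl | rfl | rfl | rfl | rfl
      · exact absurd (Nat.dvd_one.1 hrd) hr.one_lt.ne'
      · exact absurd ((hpq r hr hrd).trans (hpq s hs hsd).symm) hne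
      · left
        exact ⟨Dvd.dvd.mul_left hrd _, Dvd.dvd.mul_left hsd _⟩
      · left
        exact ⟨dvd_trans hrd hca, dvd_trans hsd hca⟩
      · left
        exact ⟨dvd_trans hrd hba, dvd_trans hsd hba⟩
      · rcases (Nat.Prime.dvd_mul hr).1 hrd with h1 | h1
        · have hr2 := hpw r hr h1
          rcases (Nat.Prime.dvd_mul hs).1 hsd with h2 | h2
          · exact absurd (hr2.trans (hpw s hs h2).symm) hne
          · right; left
            exact ⟨hr2, h2⟩
        · rcases (Nat.Prime.dvd_mul hs).1 hsd with h2 | h2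
          · right; right
            exact ⟨hpw s hs h2, h1⟩
          · left
            exact ⟨Dvd.dvd.mul_right h1 _, Dvd.dvd.mul_right h2 _⟩
    · rintro ⟨hne, hr, hs, h⟩
      refine ⟨hne, hr, hs, ?_⟩
      have hcop : Nat.Coprime r s := (Nat.coprime_primes hr hs).2 hne
      rcases h with ⟨h1, h2⟩ | ⟨h1, h2⟩ | ⟨h1, h2⟩
      · rcases (Nat.Prime.dvd_mul hr).1 h1 with h1 | h1
        · rcases (Nat.Prime.dvd_mul hs).1 h2 with h2 | h2
          · exact ⟨c * (q - 1), hY,
              Dvd.dvd.mul_left (Nat.Coprime.mul_dvd_of_dvd_of_dvd hcop h1 h2) _⟩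
          · rw [← hbc] at h2
            rcases (Nat.Prime.dvd_mul hs).1 h2 with h2 | h2
            · refine ⟨b * (q - 1), hZ, ?_⟩
              rw [mul_comm r s]
              exact mul_dvd_mul h2 h1
            · refine ⟨c * (q - 1), hY, ?_⟩
              rw [mul_comm r s]
              exact mul_dvd_mul h2 h1
        · rcases (Nat.Prime.dvd_mul hs).1 h2 with h2 | h2
          · rw [← hbc] at h1
            rcases (Nat.Prime.dvd_mul hr).1 h1 with h1 | h1
            · exact ⟨b * (q - 1), hZ, mul_dvd_mul h1 h2⟩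
            · exact ⟨c * (q - 1), hY, mul_dvd_mul h1 h2⟩
          · exact ⟨q ^ 2 + 1, hX, Nat.Coprime.mul_dvd_of_dvd_of_dvd hcop h1 h2⟩
      · refine ⟨w * (q - 1), hW, ?_⟩
        rw [h1]
        exact mul_dvd_mul h2w h2
      · refine ⟨w * (q - 1), hW, ?_⟩
        rw [h1, mul_comm r 2]
        exact mul_dvd_mul h2w h2

end Cfsg.Agent.Helper2.Sz
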