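import Mathlib
import Cfsg.Agent.Lib.Helper2.SzCT11

set_option autoImplicit false
set_option linter.unusedSectionVars false
set_option linter.unusedSimpArgs false
set_option linter.unusedVariables false
set_option linter.style.openClassical false
set_option linter.style.haveILetI false

/-! The two exceptional characters of the Suzuki group. -/

namespace Cfsg.Agent.Helper2.Sz

open Cfsg Cfsg.Agent.Helper2.CT Cfsg.Agent.Helper24
open scoped ComplexConjugate
open Classical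

attribute [local instance] irrFT

variable {F : Type*} [Field F] {m : ℕ} (S : SzData F m)

section Exc

variable [Fintype F] (hm : 1 ≤ m) (hF : Fintype.card F = 2 ^ (2 * m + 1)) (D : Tori F m)

/-- the known irreducible characters -/
def IsKnown (χ : Cfsg.Sz F m → ℂ) : Prop :=
  χ = (fun _ => (1 : ℂ)) ∨ χ = stF S hm hF D ∨
    (∃ θ ∈ nonTriv ((S.tip hm hF D).K 1), χ = xF S hm hF D (θ : _ → ℂ)) ∨
    (∃ θ ∈ nonTriv ((S.tip hm hF D).K 2), χ = yF S hm hF D (θ : _ → ℂ)) ∨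
    (∃ θ ∈ nonTriv ((S.tip hm hF D).K 3), χ = zF S hm hF D (θ : _ → ℂ))

theorem inner_omF_of_isKnown {χ : Cfsg.Sz F m → ℂ} (h : IsKnown S hm hF D χ) :
    classInner (omF S hm hF D) χ = 0 := by
  rcases h with h | h | ⟨θ, hθ, h⟩ | ⟨θ, hθ, h⟩ | ⟨θ, hθ, h⟩
  · rw [h]; exact inner_omF_one S hm hF D
  · rw [h]; exact inner_omF_stF S hm hF D
  · rw [h]; exact inner_omF_xF S hm hF D θ.2 (ne_one_of_mem_nonTriv hθ)
  · rw [h]; exact inner_omF_yF S hm hF D θ.2 (ne_one_of_mem_nonTriv hθ)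
  · rw [h]; exact inner_omF_zF S hm hF D θ.2 (ne_one_of_mem_nonTriv hθ)

theorem isKnown_or {χ : Cfsg.Sz F m → ℂ} (hχ : IsIrrCharacter (Cfsg.Sz F m) χ) :
    IsKnown S hm hF D χ ∨
      conj (χ 1) = ((rC m * (qC m - 1)) / 2) * classInner (omF S hm hF D) χ := by
  rcases irr_cases S hm hF D hχ with h | h | h | h | h | h
  · exact Or.inl (Or.inl h)
  · exact Or.inl (Or.inr (Or.inl h))
  · exact Or.inl (Or.inr (Or.inr (Or.inl h)))
  · exact Or.inl (Or.inr (Or.inr (Or.inr (Or.inl h))))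
  · exact Or.inl (Or.inr (Or.inr (Or.inr (Or.inr h))))
  · exact Or.inr h

theorem isIrr_of_isKnown {χ : Cfsg.Sz F m → ℂ} (h : IsKnown S hm hF D χ) :
    IsIrrCharacter (Cfsg.Sz F m) χ := by
  rcases h with h | h | ⟨θ, hθ, h⟩ | ⟨θ, hθ, h⟩ | ⟨θ, hθ, h⟩
  · rw [h]; exact isIrrCharacter_one
  · rw [h]; exact (irr_stF S hm hF D).1
  · rw [h]; exact (irr_xF S hm hF D θ.2 (ne_one_of_mem_nonTriv hθ)).1
  · rw [h]; exact (irr_yF S hm hF D θ.2 (ne_one_of_mem_nonTriv hθ)).1
  · rw [h]; exact (irr_zF S hm hF D θ.2 (ne_one_of_mem_nonTriv hθ)).1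

include S in
/-- the multiplicity of a constituent of the exceptional generalized character is one -/
theorem om_coeff_eq_one {χ : Cfsg.Sz F m → ℂ} (hχ : IsIrrCharacter (Cfsg.Sz F m) χ)
    (h6 : conj (χ 1) = ((rC m * (qC m - 1)) / 2) * classInner (omF S hm hF D) χ) :
    classInner (omF S hm hF D) χ = 1 := by
  obtain ⟨a, ha⟩ := Cfsg.Agent.Helper8.genChar_inner_int (isGenChar_omF S hm hF D) ⟨χ, hχ⟩
  have ha2 := om_coeff_sq_le S hm hF D ⟨χ, hχ⟩ ha
  have hd := irr_one_eq_charDegree hχ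
  have hpos := charDegree_pos hχ
  have ha' : classInner (omF S hm hF D) χ = a := ha
  rw [hd, Complex.conj_natCast, ha', ← dW_cast] at h6
  have h7 : (charDegree χ : ℤ) = (dW m : ℤ) * a := by exact_mod_cast h6
  have hw := dW_pos m
  have hapos : 0 < a := by
    by_contra hneg
    push Not at hneg
    have : (dW m : ℤ) * a ≤ 0 := mul_nonpos_of_nonneg_of_nonpos (by positivity) hneg
    have h8 : (0 : ℤ) < charDegree χ := by exact_mod_cast hpos
    omega
  have ha1 : a = 1 := by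
    by_contra hne
    have h2 : 2 ≤ a := by omega
    nlinarith
  rw [ha', ha1, Int.cast_one]

include S in
theorem om_coeff_cases (χ : IrrCharacter (Cfsg.Sz F m)) :
    classInner (omF S hm hF D) (χ : Cfsg.Sz F m → ℂ) = 0 ∨
      classInner (omF S hm hF D) (χ : Cfsg.Sz F m → ℂ) = 1 := by
  rcases isKnown_or S hm hF D χ.2 with h | h
  · exact Or.inl (inner_omF_of_isKnown S hm hF D h)
  · exact Or.inr (om_coeff_eq_one S hm hF D χ.2 h)

include S in
/-- **the two exceptional characters** -/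
theorem exists_exceptional : ∃ W₁ W₂ : Cfsg.Sz F m → ℂ,
    IsIrrCharacter (Cfsg.Sz F m) W₁ ∧ IsIrrCharacter (Cfsg.Sz F m) W₂ ∧ W₁ ≠ W₂ ∧
    omF S hm hF D = W₁ + W₂ ∧
    (∀ χ : Cfsg.Sz F m → ℂ, IsIrrCharacter (Cfsg.Sz F m) χ →
      IsKnown S hm hF D χ ∨ χ = W₁ ∨ χ = W₂) := by
  have hgen := isGenChar_omF S hm hF D
  have hcf := Cfsg.Agent.Helper8.isClassFunction_of_isGeneralizedCharacter hgen
  have hnorm := norm_omF S hm hF D
  rw [classInner_eq_sum_mul hcf] at hnorm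
  obtain ⟨T, hT⟩ : ∃ T : Finset (IrrCharacter (Cfsg.Sz F m)), T = Finset.univ.filter
      (fun χ : IrrCharacter (Cfsg.Sz F m) =>
        classInner (omF S hm hF D) (χ : Cfsg.Sz F m → ℂ) = 1) := ⟨_, rfl⟩
  have hmem : ∀ χ, χ ∈ T ↔ classInner (omF S hm hF D) (χ : Cfsg.Sz F m → ℂ) = 1 := by
    intro χ
    rw [hT, Finset.mem_filter]
    exact ⟨fun h => h.2, fun h => ⟨Finset.mem_univ _, h⟩⟩
  have hterm : ∀ χ : IrrCharacter (Cfsg.Sz F m),
      classInner (omF S hm hF D) (χ : Cfsg.Sz F m → ℂ) *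
        conj (classInner (omF S hm hF D) (χ : Cfsg.Sz F m → ℂ)) =
      if χ ∈ T then (1 : ℂ) else 0 := by
    intro χ
    rcases om_coeff_cases S hm hF D χ with h | h
    · rw [if_neg (fun h' => by rw [hmem, h] at h'; exact zero_ne_one h'), h, zero_mul]
    · rw [if_pos ((hmem χ).2 h), h, map_one, mul_one]
  rw [Finset.sum_congr rfl (fun χ _ => hterm χ), Finset.sum_ite_mem, Finset.univ_inter,
    Finset.sum_const, nsmul_eq_mul, mul_one] at hnorm
  have hcard : T.card = 2 := by exact_mod_cast hnorm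
  obtain ⟨W₁, W₂, hne, hT2⟩ := Finset.card_eq_two.1 hcard
  have hexp := classFunction_expansion hcf
  have hterm2 : ∀ χ : IrrCharacter (Cfsg.Sz F m),
      classInner (omF S hm hF D) (χ : Cfsg.Sz F m → ℂ) • (χ : Cfsg.Sz F m → ℂ) =
      if χ ∈ T then (χ : Cfsg.Sz F m → ℂ) else 0 := by
    intro χ
    rcases om_coeff_cases S hm hF D χ with h | h
    · rw [if_neg (fun h' => by rw [hmem, h] at h'; exact zero_ne_one h'), h, zero_smul]
    · rw [if_pos ((hmem χ).2 h), h, one_smul]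
  rw [Finset.sum_congr rfl (fun χ _ => hterm2 χ), Finset.sum_ite_mem, Finset.univ_inter, hT2,
    Finset.sum_pair hne] at hexp
  refine ⟨W₁, W₂, W₁.2, W₂.2, fun h => hne (Subtype.ext h), hexp, ?_⟩
  intro χ hχ
  rcases isKnown_or S hm hF D hχ with h | h
  · exact Or.inl h
  · right
    have h1 := om_coeff_eq_one S hm hF D hχ h
    have h2 : (⟨χ, hχ⟩ : IrrCharacter (Cfsg.Sz F m)) ∈ T := (hmem ⟨χ, hχ⟩).2 h1
    rw [hT2, Finset.mem_insert, Finset.mem_singleton] at h2
    rcases h2 with h2 | h2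
    · exact Or.inl (congrArg Subtype.val h2)
    · exact Or.inr (congrArg Subtype.val h2)

end Exc

end Cfsg.Agent.Helper2.Sz
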