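import Mathlib
import Cfsg.Agent.Lib.Helper2.SzCT13

set_option autoImplicit false
set_option linter.unusedSectionVars false
set_option linter.unusedSimpArgs false
set_option linter.unusedVariables false
set_option linter.style.openClassical false
set_option linter.style.haveILetI false

/-! The orientation of the elements of order four of the Suzuki group and the class function
separating the two classes of such elements. -/

namespace Cfsg.Agent.Helper2.Sz

open Cfsg Cfsg.Agent.Helper2.CT Cfsg.Agent.Helper24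
open scoped ComplexConjugate commutatorElement
open Classical

variable {F : Type*} [Field F] {m : ℕ} (S : SzData F m)

namespace SzData

theorem one_ne_add_s (t : F) : t + S.s t ≠ 1 := by
  intro h
  have h1 : S.s t = t + 1 := by linear_combination h - S.add_self t
  have h2 : S.s (S.s t) = t := by
    rw [h1, map_add, map_one, h1]
    linear_combination S.add_self 1
  rw [S.hs] at h2
  have h3 : t * (t - 1) = 0 := by linear_combination h2
  have h4 : S.s t = t := by
    rcases mul_eq_zero.1 h3 with h3 | h3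
    · rw [h3, map_zero]
    · rw [sub_eq_zero.1 h3, map_one]
  rw [h4, S.add_self] at h
  exact zero_ne_one h

/-- a character of the field trivial on the elements `t + s t` and nontrivial at `1` -/
theorem exists_psi0 [Finite F] :
    ∃ ψ₀ : AddChar F ℂ, (∀ t : F, ψ₀ (t + S.s t) = 1) ∧ ψ₀ 1 = -1 := by
  haveI : CharP F 2 := by
    apply CharTwo.of_one_ne_zero_of_two_eq_zero one_ne_zero S.h2
  letI : Algebra (ZMod 2) F := ZMod.algebra F 2
  let g : F →ₗ[ZMod 2] F :=
    { toFun := fun t => t + S.s t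
      map_add' := by
        intro x y
        rw [map_add]
        ring
      map_smul' := by
        intro c x
        have hc : c = 0 ∨ c = 1 := by
          fin_cases c
          · exact Or.inl rfl
          · exact Or.inr rfl
        rcases hc with rfl | rfl
        · simp
        · simp }
  have h1 : (1 : F) ∉ LinearMap.range g := by
    rintro ⟨t, ht⟩
    exact S.one_ne_add_s t ht
  obtain ⟨f, hf1, hf⟩ := Submodule.exists_dual_map_eq_bot_of_notMem h1 inferInstance
  have hζ : (-1 : ℂ) ^ 2 = 1 := by norm_num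
  refine ⟨(AddChar.zmodChar 2 hζ).compAddMonoidHom f.toAddMonoidHom, ?_, ?_⟩
  · intro t
    have h2 : f (t + S.s t) = 0 := by
      have : f (g t) ∈ (LinearMap.range g).map f := ⟨g t, ⟨t, rfl⟩, rfl⟩
      rw [hf] at this
      exact this
    show AddChar.zmodChar 2 hζ (f (t + S.s t)) = 1
    rw [h2, AddChar.map_zero_eq_one]
  · show AddChar.zmodChar 2 hζ (f 1) = -1
    have h3 : f 1 = 1 := by
      have hc : f 1 = 0 ∨ f 1 = 1 := by
        generalize f 1 = c
        fin_cases c
        · exact Or.inl rfl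
        · exact Or.inr rfl
      exact hc.resolve_left hf1
    rw [h3, AddChar.zmodChar_apply]
    simp [ZMod.val_one]

/-- the orientation character -/
structure Orient where
  /-- the additive character -/
  ψ : AddChar F ℂ
  triv : ∀ t : F, ψ (t + S.s t) = 1
  one : ψ 1 = -1

theorem nonempty_orient [Finite F] : Nonempty S.Orient := by
  obtain ⟨ψ, h1, h2⟩ := S.exists_psi0
  exact ⟨⟨ψ, h1, h2⟩⟩

variable {S} [Fintype F]

/-- the orientation of the elements of order four of the unipotent subgroup -/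
noncomputable def lamQ (O : S.Orient) (g : Cfsg.Sz F m) : ℂ :=
  if h : ∃ a b : F, a ≠ 0 ∧ g = S.TgSz a b then
    O.ψ (h.choose_spec.choose / (h.choose * S.s h.choose)) else 0

theorem lamQ_TgSz (O : S.Orient) {a : F} (ha : a ≠ 0) (b : F) :
    lamQ O (S.TgSz a b) = O.ψ (b / (a * S.s a)) := by
  have h : ∃ a' b' : F, a' ≠ 0 ∧ S.TgSz a b = S.TgSz a' b' := ⟨a, b, ha, rfl⟩
  unfold lamQ
  rw [dif_pos h]
  obtain ⟨h1, h2⟩ := S.TgSz_injective h.choose_spec.choose_spec.2
  rw [← h2, ← h1]

theorem lamQ_TgSz_zero (O : S.Orient) (b : F) : lamQ O (S.TgSz 0 b) = 0 := by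
  unfold lamQ
  rw [dif_neg]
  rintro ⟨a', b', ha', h⟩
  exact ha' (S.TgSz_injective h).1.symm

theorem psi_sq (O : S.Orient) (x : F) : O.ψ x * O.ψ x = 1 := by
  rw [← AddChar.map_add_eq_mul, S.add_self, AddChar.map_zero_eq_one]

theorem psi_conj (O : S.Orient) (x : F) : conj (O.ψ x) = O.ψ x := by
  rcases S.apply_eq_one_or O.ψ x with h | h
  · rw [h, map_one]
  · rw [h, map_neg, map_one]

theorem TgSz_mul_self (a b : F) : S.TgSz a b * S.TgSz a b = S.TgSz 0 (S.s a * a) := by
  rw [S.TgSz_mul, S.add_self a, S.add_self b, zero_add]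

theorem TgSz_mul_self_eq_one_iff (a b : F) : S.TgSz a b * S.TgSz a b = 1 ↔ a = 0 := by
  rw [TgSz_mul_self, ← S.TgSz_zero]
  constructor
  · intro h
    have h1 := (S.TgSz_injective h).2
    by_contra ha
    exact mul_ne_zero ((map_ne_zero S.s).2 ha) ha h1
  · rintro rfl
    rw [map_zero, zero_mul]

/-- the orientation changes sign under inversion -/
theorem lamQ_inv (O : S.Orient) {k : Cfsg.Sz F m} (hk : k ∈ S.QSz) :
    lamQ O k⁻¹ = -lamQ O k := by
  obtain ⟨a, b, rfl⟩ := S.mem_QSz_iff.1 hk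
  rw [S.TgSz_inv]
  by_cases ha : a = 0
  · subst ha
    rw [lamQ_TgSz_zero, lamQ_TgSz_zero, neg_zero]
  · rw [lamQ_TgSz O ha, lamQ_TgSz O ha]
    have hsa : S.s a ≠ 0 := (map_ne_zero S.s).2 ha
    have e : (b + S.s a * a) / (a * S.s a) = b / (a * S.s a) + 1 := by
      field_simp
    rw [e, AddChar.map_add_eq_mul, O.one]
    ring

theorem lamQ_sq (O : S.Orient) {k : Cfsg.Sz F m} (hk : k ∈ S.QSz) :
    lamQ O k * lamQ O k = if k * k = 1 then 0 else 1 := by
  obtain ⟨a, b, rfl⟩ := S.mem_QSz_iff.1 hk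
  by_cases ha : a = 0
  · rw [if_pos ((TgSz_mul_self_eq_one_iff a b).2 ha)]
    subst ha
    rw [lamQ_TgSz_zero, zero_mul]
  · rw [if_neg (fun h => ha ((TgSz_mul_self_eq_one_iff a b).1 h)), lamQ_TgSz O ha, psi_sq]

theorem lamQ_conj (O : S.Orient) {k : Cfsg.Sz F m} (hk : k ∈ S.QSz) :
    conj (lamQ O k) = lamQ O k := by
  obtain ⟨a, b, rfl⟩ := S.mem_QSz_iff.1 hk
  by_cases ha : a = 0
  · subst ha
    rw [lamQ_TgSz_zero, map_zero]
  · rw [lamQ_TgSz O ha, psi_conj]

theorem lamQ_of_sq (O : S.Orient) {k : Cfsg.Sz F m} (hk : k ∈ S.QSz) (h : k * k = 1) :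
    lamQ O k = 0 := by
  have := lamQ_sq O hk
  rw [if_pos h] at this
  exact mul_self_eq_zero.1 this

/-- conjugation inside the unipotent subgroup -/
theorem TgSz_conj (c d a b : F) :
    S.TgSz c d * S.TgSz a b * (S.TgSz c d)⁻¹ = S.TgSz a (b + S.s c * a + S.s a * c) := by
  have h := S.TgSz_commutator c d a b
  rw [commutatorElement_def] at h
  have h2 : S.TgSz c d * S.TgSz a b * (S.TgSz c d)⁻¹ =
      S.TgSz c d * S.TgSz a b * (S.TgSz c d)⁻¹ * (S.TgSz a b)⁻¹ * S.TgSz a b := by group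
  rw [h2, h, S.TgSz_mul, map_zero, zero_mul, zero_add, add_zero]
  congr 1
  ring

/-- conjugation by the torus -/
theorem DgSz_conj (u : Fˣ) (a b : F) :
    S.DgSz u * S.TgSz a b * (S.DgSz u)⁻¹ = S.TgSz (S.s u * a) (S.s u * (u : F) ^ 2 * b) := by
  rw [S.DgSz_TgSz, mul_inv_cancel_right]

/-- the orientation is invariant under the normalizer of the unipotent subgroup -/
theorem lamQ_conj_inv (hm : 1 ≤ m) (hF : Fintype.card F = 2 ^ (2 * m + 1))
    (O : S.Orient) {n : Cfsg.Sz F m}
    (hn : n ∈ Subgroup.normalizer (S.QSz : Set (Cfsg.Sz F m))) {k : Cfsg.Sz F m}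
    (hk : k ∈ S.QSz) : lamQ O (n * k * n⁻¹) = lamQ O k := by
  rw [S.normalizer_QSz hm hF, S.mem_stabilizer_pInf_iff hm hF] at hn
  obtain ⟨c, d, u, rfl⟩ := hn
  obtain ⟨a, b, rfl⟩ := S.mem_QSz_iff.1 hk
  have e : S.TgSz c d * S.DgSz u * S.TgSz a b * (S.TgSz c d * S.DgSz u)⁻¹ =
      S.TgSz c d * (S.DgSz u * S.TgSz a b * (S.DgSz u)⁻¹) * (S.TgSz c d)⁻¹ := by group
  rw [e, DgSz_conj, TgSz_conj]
  by_cases ha : a = 0
  · subst ha
    rw [mul_zero, lamQ_TgSz_zero, lamQ_TgSz_zero]
  · have hu : (u : F) ≠ 0 := u.ne_zero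
    have hsu : S.s (u : F) ≠ 0 := (map_ne_zero S.s).2 hu
    have hsa : S.s a ≠ 0 := (map_ne_zero S.s).2 ha
    have ha' : S.s (u : F) * a ≠ 0 := mul_ne_zero hsu ha
    rw [lamQ_TgSz O ha', lamQ_TgSz O ha]
    have hss : S.s (S.s (u : F) * a) = (u : F) ^ 2 * S.s a := by
      rw [map_mul, S.hs]
    have e2 : (S.s (u : F) * (u : F) ^ 2 * b + S.s c * (S.s (u : F) * a) +
        S.s (S.s (u : F) * a) * c) / (S.s (u : F) * a * S.s (S.s (u : F) * a)) =
        b / (a * S.s a) + (c / (S.s (u : F) * a) + S.s (c / (S.s (u : F) * a))) := by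
      rw [map_div₀, hss]
      field_simp
      ring
    rw [e2, AddChar.map_add_eq_mul, O.triv, mul_one]

end SzData

end Cfsg.Agent.Helper2.Sz
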