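import Mathlib
import Cfsg.Agent.Lib.Helper2.SzCT14

set_option autoImplicit false
set_option linter.unusedSectionVars false
set_option linter.unusedSimpArgs false
set_option linter.unusedVariables false
set_option linter.style.openClassical false
set_option linter.style.haveILetI false

/-! The class function separating the two classes of elements of order four, and the values of
the exceptional characters. -/

namespace Cfsg.Agent.Helper2.Sz

open Cfsg Cfsg.Agent.Helper2.CT Cfsg.Agent.Helper24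
open scoped ComplexConjugate
open Classical

attribute [local instance] irrFT

variable {F : Type*} [Field F] {m : ℕ} (S : SzData F m)

section Delta

variable [Fintype F] (hm : 1 ≤ m) (hF : Fintype.card F = 2 ^ (2 * m + 1)) (D : Tori F m)
  (O : S.Orient)

/-- the prescribed values of the separating class function -/
noncomputable def fD : Fin 4 → Cfsg.Sz F m → ℂ := fun i g => if i = 0 then SzData.lamQ O g else 0

theorem fD_zero : fD S O 0 = SzData.lamQ O := by
  funext g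
  unfold fD
  rw [if_pos rfl]

theorem fD_ne {i : Fin 4} (hi : i ≠ 0) (g : Cfsg.Sz F m) : fD S O i g = 0 := by
  unfold fD
  rw [if_neg hi]

theorem inv_fD : (S.tip hm hF D).Inv (fD S O) := by
  intro i n hn k hk
  by_cases hi : i = 0
  · subst hi
    rw [fD_zero]
    exact SzData.lamQ_conj_inv hm hF O hn hk
  · rw [fD_ne S O hi, fD_ne S O hi]

/-- the separating class function -/
noncomputable def deltaF : Cfsg.Sz F m → ℂ := (S.tip hm hF D).cf 0 (fD S O)

theorem lamQ_one : SzData.lamQ O (1 : Cfsg.Sz F m) = 0 := by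
  rw [← S.TgSz_zero]
  exact SzData.lamQ_TgSz_zero O 0

theorem sum_lamQ_aux (K : Subgroup (Cfsg.Sz F m)) (hK : K = S.QSz) :
    ∑ k : K, SzData.lamQ O (k : Cfsg.Sz F m) = 0 := by
  subst hK
  have h1 : ∑ k : S.QSz, SzData.lamQ O (k : Cfsg.Sz F m) =
      ∑ k : S.QSz, SzData.lamQ O ((k⁻¹ : S.QSz) : Cfsg.Sz F m) :=
    (Equiv.sum_comp (Equiv.inv S.QSz) (fun k : S.QSz => SzData.lamQ O (k : Cfsg.Sz F m))).symm
  have h2 : ∑ k : S.QSz, SzData.lamQ O ((k⁻¹ : S.QSz) : Cfsg.Sz F m) =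
      -∑ k : S.QSz, SzData.lamQ O (k : Cfsg.Sz F m) := by
    rw [← Finset.sum_neg_distrib]
    refine Finset.sum_congr rfl fun k _ => ?_
    rw [Subgroup.coe_inv, SzData.lamQ_inv O k.2]
  rw [h2] at h1
  have h3 : (2 : ℂ) * ∑ k : S.QSz, SzData.lamQ O (k : Cfsg.Sz F m) = 0 := by
    linear_combination h1
  exact (mul_eq_zero.1 h3).resolve_left two_ne_zero

theorem sum_lamQ : ∑ k : (S.tip hm hF D).K 0, SzData.lamQ O (k : Cfsg.Sz F m) = 0 :=
  sum_lamQ_aux S O _ rfl

include S in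
/-- the separating class function is orthogonal to the class functions with constant values on
the elements of order four -/
theorem inner_deltaF_cf {c cs cr : ℂ} {f : Fin 4 → Cfsg.Sz F m → ℂ}
    (hf : (S.tip hm hF D).Inv f) (hf0 : f 0 = two cs cr) :
    classInner (deltaF S hm hF D O) ((S.tip hm hF D).cf c f) = 0 := by
  unfold deltaF
  rw [inner_cf' (S.tip hm hF D) (inv_fD S hm hF D O) hf, Fin.sum_univ_four]
  simp only [fD_ne S O one_ne_zero4, fD_ne S O two_ne_zero4, fD_ne S O three_ne_zero4, zero_mul,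
    Finset.sum_const_zero, sub_zero, mul_zero, add_zero]
  rw [fD_zero, hf0, lamQ_one, zero_mul, sub_zero]
  have e : ∀ k : (S.tip hm hF D).K 0, SzData.lamQ O (k : Cfsg.Sz F m) *
      conj (two cs cr (k : Cfsg.Sz F m)) = conj cr * SzData.lamQ O (k : Cfsg.Sz F m) := by
    intro k
    by_cases hk : (k : Cfsg.Sz F m) * (k : Cfsg.Sz F m) = 1
    · rw [SzData.lamQ_of_sq O k.2 hk, zero_mul, mul_zero]
    · rw [two_of_not_sq hk, mul_comm]
  rw [Finset.sum_congr rfl (fun k _ => e k), ← Finset.mul_sum, sum_lamQ S hm hF D O]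
  ring

include S in
theorem norm_deltaF :
    classInner (deltaF S hm hF D O) (deltaF S hm hF D O) = (qC m)⁻¹ := by
  unfold deltaF
  rw [inner_cf' (S.tip hm hF D) (inv_fD S hm hF D O) (inv_fD S hm hF D O), Fin.sum_univ_four]
  simp only [fD_ne S O one_ne_zero4, fD_ne S O two_ne_zero4, fD_ne S O three_ne_zero4, zero_mul,
    Finset.sum_const_zero, sub_zero, mul_zero, add_zero]
  rw [fD_zero, lamQ_one, zero_mul, sub_zero]
  have e : ∀ k : (S.tip hm hF D).K 0, SzData.lamQ O (k : Cfsg.Sz F m) *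
      conj (SzData.lamQ O (k : Cfsg.Sz F m)) =
      two 0 1 (k : Cfsg.Sz F m) * conj (two 0 1 (k : Cfsg.Sz F m)) := by
    intro k
    rw [SzData.lamQ_conj O k.2, SzData.lamQ_sq O k.2]
    by_cases hk : (k : Cfsg.Sz F m) * (k : Cfsg.Sz F m) = 1
    · rw [if_pos hk, two_of_sq hk, zero_mul]
    · rw [if_neg hk, two_of_not_sq hk, map_one, mul_one]
  have h := sum_Q S hm hF D 0 1 0 1
  rw [two_of_sq (one_mul (1 : Cfsg.Sz F m)), zero_mul, sub_zero] at h
  rw [Finset.sum_congr rfl (fun k _ => e k), h, S.card_tip_N hm hF D 0, nnC_zero]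
  have h1 := qC_sub_one_ne m
  have h4 := qC_ne_zero m
  simp only [map_zero, map_one, mul_zero, mul_one, zero_add]
  field_simp

end Delta

section Exceptional

variable [Fintype F] (hm : 1 ≤ m) (hF : Fintype.card F = 2 ^ (2 * m + 1)) (D : Tori F m)
  (O : S.Orient)

include S in
theorem inner_deltaF_of_isKnown {χ : Cfsg.Sz F m → ℂ} (h : IsKnown S hm hF D χ) :
    classInner (deltaF S hm hF D O) χ = 0 := by
  rcases h with h | h | ⟨θ, hθ, h⟩ | ⟨θ, hθ, h⟩ | ⟨θ, hθ, h⟩
  · rw [h, one_eq_cf S hm hF D]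
    exact inner_deltaF_cf S hm hF D O (inv_fC _ _ _ _) (fC_zero _ _ _)
  · rw [h]
    exact inner_deltaF_cf S hm hF D O (inv_fC _ _ _ _) (fC_zero _ _ _)
  · rw [h]
    exact inner_deltaF_cf S hm hF D O (inv_fT _ _ _ (S.tip_TP hm hF D 1 one_ne_zero4) _ _)
      (fT_zero _ _ _ _ _ _)
  · rw [h]
    exact inner_deltaF_cf S hm hF D O (inv_fT _ _ _ (S.tip_TP hm hF D 2 two_ne_zero4) _ _)
      (fT_zero _ _ _ _ _ _)
  · rw [h]
    exact inner_deltaF_cf S hm hF D O (inv_fT _ _ _ (S.tip_TP hm hF D 3 three_ne_zero4) _ _)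
      (fT_zero _ _ _ _ _ _)

include S in
theorem inner_deltaF_omF : classInner (deltaF S hm hF D O) (omF S hm hF D) = 0 :=
  inner_deltaF_cf S hm hF D O (inv_fC _ _ _ _) (fC_zero _ _ _)

theorem isClassFunction_deltaF : IsClassFunction (Cfsg.Sz F m) (deltaF S hm hF D O) :=
  (S.tip hm hF D).cf_isClassFunction (inv_fD S hm hF D O)

/-- the element of order four used to normalize the orientation -/
noncomputable def rho0 : Cfsg.Sz F m := S.TgSz 1 0

theorem rho0_mem : rho0 S ∈ (S.tip hm hF D).K 0 := S.TgSz_mem 1 0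

theorem rho0_ne_one : rho0 S ≠ 1 := by
  intro h
  have h1 : S.TgSz 1 0 = S.TgSz 0 0 := by rw [S.TgSz_zero]; exact h
  exact one_ne_zero (S.TgSz_injective h1).1

theorem deltaF_rho0 : deltaF S hm hF D O (rho0 S) = 1 := by
  unfold deltaF
  rw [(S.tip hm hF D).cf_apply_mem (inv_fD S hm hF D O) (i := 0) (rho0_mem S hm hF D)
    (rho0_ne_one S), fD_zero]
  unfold rho0
  rw [SzData.lamQ_TgSz O one_ne_zero, zero_div, AddChar.map_zero_eq_one]

theorem deltaF_rho0_inv : deltaF S hm hF D O (rho0 S)⁻¹ = -1 := by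
  unfold deltaF
  rw [(S.tip hm hF D).cf_apply_mem (inv_fD S hm hF D O) (i := 0)
    (Subgroup.inv_mem _ (rho0_mem S hm hF D)) (inv_ne_one.2 (rho0_ne_one S)), fD_zero]
  unfold rho0
  rw [SzData.lamQ_inv O (S.TgSz_mem 1 0), SzData.lamQ_TgSz O one_ne_zero, zero_div,
    AddChar.map_zero_eq_one]

include S in
/-- the difference of the exceptional characters is a multiple of the separating class
function -/
theorem exists_scalar {W₁ W₂ : Cfsg.Sz F m → ℂ} (h₁ : IsIrrCharacter (Cfsg.Sz F m) W₁)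
    (h₂ : IsIrrCharacter (Cfsg.Sz F m) W₂) (hne : W₁ ≠ W₂) (hom : omF S hm hF D = W₁ + W₂)
    (hall : ∀ χ : Cfsg.Sz F m → ℂ, IsIrrCharacter (Cfsg.Sz F m) χ →
      IsKnown S hm hF D χ ∨ χ = W₁ ∨ χ = W₂) :
    ∃ a : ℂ, a * a = -(2 * qC m)⁻¹ ∧ deltaF S hm hF D O = a • (W₁ - W₂) := by
  have hcf := isClassFunction_deltaF S hm hF D O
  have hexp := classFunction_expansion hcf
  have hne' : (⟨W₁, h₁⟩ : IrrCharacter (Cfsg.Sz F m)) ≠ ⟨W₂, h₂⟩ :=
    fun h => hne (congrArg Subtype.val h)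
  rw [Finset.sum_eq_add (⟨W₁, h₁⟩ : IrrCharacter (Cfsg.Sz F m)) ⟨W₂, h₂⟩ hne'
    (by
      intro χ _ hχ
      rcases hall χ χ.2 with h | h | h
      · rw [inner_deltaF_of_isKnown S hm hF D O h, zero_smul]
      · exact absurd (Subtype.ext h) hχ.1
      · exact absurd (Subtype.ext h) hχ.2)
    (fun h => absurd (Finset.mem_univ _) h) (fun h => absurd (Finset.mem_univ _) h)] at hexp
  obtain ⟨a₁, ha₁⟩ : ∃ a₁, a₁ = classInner (deltaF S hm hF D O) W₁ := ⟨_, rfl⟩
  obtain ⟨a₂, ha₂⟩ : ∃ a₂, a₂ = classInner (deltaF S hm hF D O) W₂ := ⟨_, rfl⟩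
  have hexp' : deltaF S hm hF D O = a₁ • W₁ + a₂ • W₂ := by
    rw [ha₁, ha₂]
    exact hexp
  have hsum : a₁ + a₂ = 0 := by
    have := inner_deltaF_omF S hm hF D O
    rw [hom, classInner_add_right, ← ha₁, ← ha₂] at this
    exact this
  have ha₂' : a₂ = -a₁ := by linear_combination hsum
  have hnorm := norm_deltaF S hm hF D O
  have hnorm' : classInner (deltaF S hm hF D O) (a₁ • W₁ + a₂ • W₂) =
      conj a₁ * a₁ + conj a₂ * a₂ := by
    rw [classInner_add_right, classInner_smul_right, classInner_smul_right, ← ha₁, ← ha₂]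
  rw [← hexp', hnorm, ha₂', map_neg] at hnorm'
  have hq0 := qC_ne_zero m
  have hδ : deltaF S hm hF D O = a₁ • (W₁ - W₂) := by
    rw [hexp', ha₂', smul_sub, neg_smul, sub_eq_add_neg]
  have hnn : a₁ * conj a₁ = (2 * qC m)⁻¹ := by
    have h2 : (2 : ℂ) ≠ 0 := two_ne_zero
    field_simp
    field_simp at hnorm'
    linear_combination (-1 : ℂ) * hnorm'
  refine ⟨a₁, ?_, hδ⟩
  -- the scalar is purely imaginary
  have e1 := congrFun hδ (rho0 S)
  have e2 := congrFun hδ (rho0 S)⁻¹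
  rw [deltaF_rho0] at e1
  rw [deltaF_rho0_inv] at e2
  simp only [Pi.smul_apply, Pi.sub_apply, smul_eq_mul] at e1 e2
  rw [irr_inv (isCharacter_of_isIrrCharacter h₁), irr_inv (isCharacter_of_isIrrCharacter h₂),
    ← map_sub] at e2
  obtain ⟨z, hz⟩ : ∃ z, z = W₁ (rho0 S) - W₂ (rho0 S) := ⟨_, rfl⟩
  rw [← hz] at e1 e2
  have hz0 : z ≠ 0 := by
    rintro rfl
    rw [mul_zero] at e1
    exact one_ne_zero e1
  have ha0 : a₁ ≠ 0 := by
    rintro rfl
    rw [zero_mul] at e1
    exact one_ne_zero e1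
  have e3 : conj a₁ * conj z = 1 := by
    rw [← map_mul, ← e1, map_one]
  -- conj z = - z
  have e4' : conj z = -z := by
    have : a₁ * conj z = a₁ * (-z) := by rw [← e2, mul_neg, ← e1]
    exact mul_left_cancel₀ ha0 this
  have e5 : conj a₁ = -a₁ := by
    have : conj a₁ * z = (-a₁) * z := by
      rw [e4'] at e3
      linear_combination (-1 : ℂ) * e3 - e1
    exact mul_right_cancel₀ hz0 this
  rw [e5] at hnn
  linear_combination (-1 : ℂ) * hnn

end Exceptional

section Kappa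

variable [Fintype F] (hm : 1 ≤ m) (hF : Fintype.card F = 2 ^ (2 * m + 1)) (D : Tori F m)
  (O : S.Orient)

variable {hm hF D} in
theorem val_deltaF {i : Fin 4} {g x₀ : Cfsg.Sz F m}
    (hx : x₀ * g * x₀⁻¹ ∈ (S.tip hm hF D).K i) (hg : g ≠ 1) :
    deltaF S hm hF D O g = fD S O i (x₀ * g * x₀⁻¹) :=
  (S.tip hm hF D).cf_conj (inv_fD S hm hF D O) hx hg

include S in
theorem omF_mul_deltaF (x : Cfsg.Sz F m) : omF S hm hF D x * deltaF S hm hF D O x = 0 := by
  by_cases hx1 : x = 1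
  · subst hx1
    unfold deltaF
    rw [TIP.cf_one, mul_zero]
  · obtain ⟨i, x₀, hx⟩ := (S.tip hm hF D).cover x hx1
    rw [val_deltaF S O hx hx1, val_omF S hx hx1]
    by_cases hi : i = 0
    · subst hi
      rw [fC_zero, fD_zero]
      by_cases hk : x₀ * x * x₀⁻¹ * (x₀ * x * x₀⁻¹) = 1
      · rw [SzData.lamQ_of_sq O hx hk, mul_zero]
      · rw [two_of_not_sq hk, zero_mul]
    · rw [fD_ne S O hi, mul_zero]

/-- the sum over the two exceptional characters -/
theorem exc_sum {W₁ W₂ : Cfsg.Sz F m → ℂ} {a : ℂ} (haa : a * a = -(2 * qC m)⁻¹)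
    (hδ : deltaF S hm hF D O = a • (W₁ - W₂)) (hom : omF S hm hF D = W₁ + W₂)
    (x h : Cfsg.Sz F m) :
    W₁ h * W₁ x ^ 2 + W₂ h * W₂ x ^ 2 =
      ((omF S hm hF D x ^ 2 - 2 * qC m * deltaF S hm hF D O x ^ 2) / 4) * omF S hm hF D h := by
  have hx := omF_mul_deltaF S hm hF D O x
  have hq0 := qC_ne_zero m
  have ha0 : a ≠ 0 := by
    rintro rfl
    rw [mul_zero] at haa
    exact (inv_ne_zero (mul_ne_zero two_ne_zero hq0)) (neg_eq_zero.1 haa.symm)
  have h2q : 2 * qC m * (a * a) = -1 := by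
    rw [haa]
    field_simp
  rw [hδ, hom] at hx ⊢
  simp only [Pi.add_apply, Pi.smul_apply, Pi.sub_apply, smul_eq_mul] at hx ⊢
  have huv : (W₁ x + W₂ x) * (W₁ x - W₂ x) = 0 := by
    have : a * ((W₁ x + W₂ x) * (W₁ x - W₂ x)) = 0 := by linear_combination hx
    exact (mul_eq_zero.1 this).resolve_left ha0
  linear_combination ((W₁ h - W₂ h) / 2) * huv +
    ((W₁ x - W₂ x) ^ 2 * (W₁ h + W₂ h) / 4) * h2q

end Kappa

end Cfsg.Agent.Helper2.Sz
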