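import Mathlib
import Cfsg.Agent.Lib.Helper2.SzCT15
import Cfsg.Agent.Lib.Helper24.CharCentral

set_option autoImplicit false
set_option linter.unusedSectionVars false
set_option linter.unusedSimpArgs false
set_option linter.unusedVariables false
set_option linter.style.openClassical false
set_option linter.style.haveILetI false

/-! Products of two conjugates in the Suzuki group: the class multiplication formula. -/

namespace Cfsg.Agent.Helper2.Sz

open Cfsg Cfsg.Agent.Helper2.CT Cfsg.Agent.Helper24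
open scoped ComplexConjugate
open Classical

attribute [local instance] irrFT

section Generic

universe u

variable {G₁ : Type u} [Group G₁] [Fintype G₁]

/-- the sum of a function over the products of `h` with two conjugates of `x` -/
noncomputable def prodSum (h x : G₁) (φ : G₁ → ℂ) : ℂ :=
  ∑ u : G₁, ∑ v : G₁, φ (h * (u * x * u⁻¹) * (v * x * v⁻¹))

theorem prodSum_add (h x : G₁) (φ ψ : G₁ → ℂ) :
    prodSum h x (φ + ψ) = prodSum h x φ + prodSum h x ψ := by
  unfold prodSum
  simp only [Pi.add_apply, Finset.sum_add_distrib]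

theorem prodSum_smul (h x : G₁) (c : ℂ) (φ : G₁ → ℂ) :
    prodSum h x (c • φ) = c * prodSum h x φ := by
  unfold prodSum
  simp only [Pi.smul_apply, smul_eq_mul, Finset.mul_sum]

theorem prodSum_sum {ι : Type*} (h x : G₁) (s : Finset ι) (φ : ι → G₁ → ℂ) :
    prodSum h x (∑ i ∈ s, φ i) = ∑ i ∈ s, prodSum h x (φ i) := by
  induction s using Finset.induction_on with
  | empty =>
    rw [Finset.sum_empty, Finset.sum_empty]
    unfold prodSum
    simp only [Pi.zero_apply, Finset.sum_const_zero]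
  | insert a s ha ih =>
    rw [Finset.sum_insert ha, Finset.sum_insert ha, prodSum_add, ih]

theorem prodSum_irr (h x : G₁) {φ : G₁ → ℂ} (hφ : IsIrrCharacter G₁ φ) :
    prodSum h x φ = (Nat.card G₁ : ℂ) ^ 2 * (φ h * φ x ^ 2) / φ 1 ^ 2 := by
  unfold prodSum
  have e : ∀ u : G₁, ∑ v : G₁, φ (h * (u * x * u⁻¹) * (v * x * v⁻¹)) =
      (Nat.card G₁ : ℂ) * φ (h * (u * x * u⁻¹)) * φ x / φ 1 :=
    fun u => sum_char_mul_conj hφ (h * (u * x * u⁻¹)) x
  rw [Finset.sum_congr rfl (fun u _ => e u)]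
  have e2 : ∀ u : G₁, (Nat.card G₁ : ℂ) * φ (h * (u * x * u⁻¹)) * φ x / φ 1 =
      ((Nat.card G₁ : ℂ) * φ x / φ 1) * φ (h * (u * x * u⁻¹)) := fun u => by ring
  rw [Finset.sum_congr rfl (fun u _ => e2 u), ← Finset.mul_sum, sum_char_mul_conj hφ h x]
  obtain ⟨n, hn, hn1⟩ := irr_one_eq hφ
  have h1 : φ 1 ≠ 0 := by
    rw [hn1]
    exact_mod_cast hn.ne'
  field_simp

theorem prodSum_one (h x : G₁) : prodSum h x (fun _ => (1 : ℂ)) = (Nat.card G₁ : ℂ) ^ 2 := by
  unfold prodSum
  simp only [Finset.sum_const, Finset.card_univ, nsmul_eq_mul, mul_one]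
  rw [Nat.card_eq_fintype_card]
  ring

end Generic

variable {F : Type*} [Field F] {m : ℕ} (S : SzData F m)

section SS

variable [Fintype F] (hm : 1 ≤ m) (hF : Fintype.card F = 2 ^ (2 * m + 1)) (D : Tori F m)
  (O : S.Orient)

/-- the weight of the exceptional characters -/
noncomputable def kappa (x : Cfsg.Sz F m) : ℂ :=
  (omF S hm hF D x ^ 2 - 2 * qC m * deltaF S hm hF D O x ^ 2) / 4

/-- the normalized class multiplication coefficient -/
noncomputable def SS (x h : Cfsg.Sz F m) : ℂ :=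
  1 + stF S hm hF D h * stF S hm hF D x ^ 2 / qC m ^ 2 +
    (2 * (qC m ^ 2 + 1))⁻¹ * (∑ θ ∈ nonTriv ((S.tip hm hF D).K 1),
      xF S hm hF D (θ : _ → ℂ) h * xF S hm hF D (θ : _ → ℂ) x ^ 2) +
    (4 * ((qC m - rC m + 1) * (qC m - 1)))⁻¹ * (∑ θ ∈ nonTriv ((S.tip hm hF D).K 2),
      yF S hm hF D (θ : _ → ℂ) h * yF S hm hF D (θ : _ → ℂ) x ^ 2) +
    (4 * ((qC m + rC m + 1) * (qC m - 1)))⁻¹ * (∑ θ ∈ nonTriv ((S.tip hm hF D).K 3),
      zF S hm hF D (θ : _ → ℂ) h * zF S hm hF D (θ : _ → ℂ) x ^ 2) +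
    kappa S hm hF D O x * omF S hm hF D h / ((rC m * (qC m - 1)) / 2)

include S in
/-- if no product of two conjugates of `x` is the inverse of `h` then the coefficient vanishes -/
theorem SS_eq_zero {x h : Cfsg.Sz F m}
    (hno : ∀ u v : Cfsg.Sz F m, h * (u * x * u⁻¹) * (v * x * v⁻¹) ≠ 1) :
    SS S hm hF D O x h = 0 := by
  obtain ⟨W₁, W₂, h₁, h₂, hne, hom, hall⟩ := exists_exceptional S hm hF D
  obtain ⟨a, haa, hδ⟩ := exists_scalar S hm hF D O h₁ h₂ hne hom hall
  have hzero : prodSum h x (regX S hm hF D) = 0 := by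
    unfold prodSum
    refine Finset.sum_eq_zero fun u _ => Finset.sum_eq_zero fun v _ => ?_
    exact regX_ne_one S hm hF D (hno u v)
  have hG := card_Sz_C S hm hF
  have h1 := qC_sub_one_ne m
  have h2 := plus_ne m
  have h3 := minus_ne m
  have h4 := qC_ne_zero m
  have h5 := sq_add_one_ne m
  have h6 := rC_ne_zero m
  have hG0 : (Nat.card (Cfsg.Sz F m) : ℂ) ≠ 0 := by
    rw [hG]
    exact mul_ne_zero (mul_ne_zero (pow_ne_zero _ h4) h5) h1
  -- the contribution of the exceptional characters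
  have hW : prodSum h x (omF S hm hF D) = (Nat.card (Cfsg.Sz F m) : ℂ) ^ 2 *
      (kappa S hm hF D O x * omF S hm hF D h / ((rC m * (qC m - 1)) / 2) ^ 2) := by
    have hd1 : W₁ 1 = (rC m * (qC m - 1)) / 2 := by
      have := degree_of_om S hm hF D h₁ (by
        rcases isKnown_or S hm hF D h₁ with hk | hk
        · exfalso
          have h0 := inner_omF_of_isKnown S hm hF D hk
          rw [hom, classInner_add_left, irr_orthogonality h₁ h₁, if_pos rfl,
            irr_orthogonality h₂ h₁, if_neg (fun h' => hne h'.symm)] at h0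
          norm_num at h0
        · exact hk)
      rw [irr_one_eq_charDegree h₁, this, dW_cast]
    have hd2 : W₂ 1 = (rC m * (qC m - 1)) / 2 := by
      have := degree_of_om S hm hF D h₂ (by
        rcases isKnown_or S hm hF D h₂ with hk | hk
        · exfalso
          have h0 := inner_omF_of_isKnown S hm hF D hk
          rw [hom, classInner_add_left, irr_orthogonality h₂ h₂, if_pos rfl,
            irr_orthogonality h₁ h₂, if_neg hne] at h0
          norm_num at h0
        · exact hk)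
      rw [irr_one_eq_charDegree h₂, this, dW_cast]
    have hexc := exc_sum S hm hF D O haa hδ hom x h
    rw [hom, prodSum_add, prodSum_irr h x h₁, prodSum_irr h x h₂, hd1, hd2, ← hom]
    unfold kappa
    rw [← hexc]
    ring
  unfold regX at hzero
  rw [prodSum_add, prodSum_add, prodSum_add, prodSum_add, prodSum_add, prodSum_smul,
    prodSum_smul, prodSum_smul, prodSum_smul, prodSum_smul, prodSum_sum, prodSum_sum,
    prodSum_sum, prodSum_one, prodSum_irr h x (irr_stF S hm hF D).1, hW] at hzero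
  have eX : ∀ θ ∈ nonTriv ((S.tip hm hF D).K 1), prodSum h x (xF S hm hF D (θ : _ → ℂ)) =
      (Nat.card (Cfsg.Sz F m) : ℂ) ^ 2 * ((xF S hm hF D (θ : _ → ℂ) h *
        xF S hm hF D (θ : _ → ℂ) x ^ 2) / (qC m ^ 2 + 1) ^ 2) := by
    intro θ hθ
    rw [prodSum_irr h x (irr_xF S hm hF D θ.2 (ne_one_of_mem_nonTriv hθ)).1]
    have : xF S hm hF D (θ : _ → ℂ) 1 = qC m ^ 2 + 1 := by
      unfold xF
      rw [TIP.cf_one]
    rw [this]
    ring
  have eY : ∀ θ ∈ nonTriv ((S.tip hm hF D).K 2), prodSum h x (yF S hm hF D (θ : _ → ℂ)) =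
      (Nat.card (Cfsg.Sz F m) : ℂ) ^ 2 * ((yF S hm hF D (θ : _ → ℂ) h *
        yF S hm hF D (θ : _ → ℂ) x ^ 2) / ((qC m - rC m + 1) * (qC m - 1)) ^ 2) := by
    intro θ hθ
    rw [prodSum_irr h x (irr_yF S hm hF D θ.2 (ne_one_of_mem_nonTriv hθ)).1]
    have : yF S hm hF D (θ : _ → ℂ) 1 = (qC m - rC m + 1) * (qC m - 1) := by
      unfold yF
      rw [TIP.cf_one]
    rw [this]
    ring
  have eZ : ∀ θ ∈ nonTriv ((S.tip hm hF D).K 3), prodSum h x (zF S hm hF D (θ : _ → ℂ)) =
      (Nat.card (Cfsg.Sz F m) : ℂ) ^ 2 * ((zF S hm hF D (θ : _ → ℂ) h *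
        zF S hm hF D (θ : _ → ℂ) x ^ 2) / ((qC m + rC m + 1) * (qC m - 1)) ^ 2) := by
    intro θ hθ
    rw [prodSum_irr h x (irr_zF S hm hF D θ.2 (ne_one_of_mem_nonTriv hθ)).1]
    have : zF S hm hF D (θ : _ → ℂ) 1 = (qC m + rC m + 1) * (qC m - 1) := by
      unfold zF
      rw [TIP.cf_one]
    rw [this]
    ring
  rw [Finset.sum_congr rfl eX, Finset.sum_congr rfl eY, Finset.sum_congr rfl eZ,
    ← Finset.mul_sum, ← Finset.mul_sum, ← Finset.mul_sum, ← Finset.sum_div, ← Finset.sum_div,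
    ← Finset.sum_div] at hzero
  have hst1 : stF S hm hF D 1 = qC m ^ 2 := by
    unfold stF
    rw [TIP.cf_one]
  rw [hst1] at hzero
  have hfin : (Nat.card (Cfsg.Sz F m) : ℂ) ^ 2 * SS S hm hF D O x h = 0 := by
    rw [← hzero]
    unfold SS
    field_simp
  exact (mul_eq_zero.1 hfin).resolve_left (pow_ne_zero _ hG0)

end SS

end Cfsg.Agent.Helper2.Sz
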