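import Mathlib
import Cfsg.Agent.Lib.Helper2.SzCT16

set_option autoImplicit false
set_option linter.unusedSectionVars false
set_option linter.unusedSimpArgs false
set_option linter.unusedVariables false
set_option linter.style.openClassical false
set_option linter.style.haveILetI false

/-! Sums over the characters of the tori: reality and the second orthogonality relation. -/

namespace Cfsg.Agent.Helper2.Sz

open Cfsg Cfsg.Agent.Helper2.CT Cfsg.Agent.Helper24
open scoped ComplexConjugate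
open Classical

attribute [local instance] irrFT

section Torus

universe u

variable {G₁ : Type u} [Group G₁] [Fintype G₁] {A N : Subgroup G₁} (T : TP A N)

include T

/-- an involution of the normalizer inverts the subgroup -/
theorem exists_inverting (hA : ¬ 2 ∣ Nat.card A) (hN : 2 ∣ Nat.card N) :
    ∃ t ∈ N, ∀ a ∈ A, t * a * t⁻¹ = a⁻¹ := by
  haveI : Fact (Nat.Prime 2) := ⟨Nat.prime_two⟩
  obtain ⟨x, hx⟩ := exists_prime_orderOf_dvd_card' 2 hN
  have ht2 : (x : G₁) * (x : G₁) = 1 := by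
    have : x * x = 1 := by
      rw [← pow_two, ← hx]
      exact pow_orderOf_eq_one x
    have := congrArg Subtype.val this
    rwa [Subgroup.coe_mul, Subgroup.coe_one] at this
  have htA : (x : G₁) ∉ A := by
    intro h
    apply hA
    have h1 : orderOf (⟨(x : G₁), h⟩ : A) = 2 := by
      rw [← hx, ← Subgroup.orderOf_coe, ← Subgroup.orderOf_coe]
    rw [← h1]
    exact orderOf_dvd_natCard _
  have htinv : (x : G₁)⁻¹ = x := inv_eq_of_mul_eq_one_left ht2
  refine ⟨x, x.2, fun a ha => ?_⟩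
  have hta : (x : G₁) * a * (x : G₁)⁻¹ ∈ A := T.norm x x.2 a ha
  have hb : a * ((x : G₁) * a * (x : G₁)⁻¹) ∈ A := A.mul_mem ha hta
  by_contra hne
  have hb1 : a * ((x : G₁) * a * (x : G₁)⁻¹) ≠ 1 := by
    intro h
    exact hne (eq_inv_of_mul_eq_one_right h)
  apply htA
  apply T.free _ hb hb1 x x.2
  have hc := T.comm a ha _ hta
  calc (x : G₁) * (a * ((x : G₁) * a * (x : G₁)⁻¹))
      = ((x : G₁) * a * (x : G₁)⁻¹) * ((x : G₁) * (x : G₁)) * a * (x : G₁)⁻¹ := by group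
    _ = ((x : G₁) * a * (x : G₁)⁻¹) * a * (x : G₁)⁻¹ := by rw [ht2, mul_one]
    _ = (a * ((x : G₁) * a * (x : G₁)⁻¹)) * (x : G₁)⁻¹ := by rw [hc]
    _ = (a * ((x : G₁) * a * (x : G₁)⁻¹)) * x := by rw [htinv]

theorem conj_avg {θ : A → ℂ} (hθ : IsIrrCharacter A θ) (a : A) :
    conj (avg A N θ a) = avg A N θ ((a⁻¹ : A) : G₁) := by
  rw [T.avg_coe, T.avg_coe, map_mul, map_inv₀, Complex.conj_natCast, map_sum]
  congr 1
  refine Finset.sum_congr rfl fun n _ => ?_
  by_cases hn : n ∈ N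
  · rw [if_pos hn, if_pos hn, T.tw_eq hn]
    show conj (θ (T.cj hn a)) = θ (T.cj hn a⁻¹)
    rw [map_inv, irr_inv (isCharacter_of_isIrrCharacter hθ)]
  · rw [if_neg hn, if_neg hn, map_zero]

/-- the averages are real when some element of the normalizer inverts the subgroup -/
theorem avg_real {t : G₁} (ht : t ∈ N) (hinv : ∀ a ∈ A, t * a * t⁻¹ = a⁻¹) {θ : A → ℂ}
    (hθ : IsIrrCharacter A θ) (a : A) : conj (avg A N θ a) = avg A N θ a := by
  rw [conj_avg T hθ, Subgroup.coe_inv, ← hinv a a.2, T.avg_inv θ ht]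

theorem norm_avg_le {θ : A → ℂ} (hθ : IsIrrCharacter A θ) (a : A) :
    ‖avg A N θ a‖ ≤ (Nat.card N : ℝ) / (Nat.card A : ℝ) := by
  rw [T.avg_coe, norm_mul, norm_inv, Complex.norm_natCast, div_eq_inv_mul]
  apply mul_le_mul_of_nonneg_left _ (inv_nonneg.2 (Nat.cast_nonneg _))
  refine (norm_sum_le _ _).trans ?_
  have e : ∀ n : G₁, ‖(if n ∈ N then TP.tw A θ n a else 0 : ℂ)‖ ≤ if n ∈ N then (1 : ℝ) else 0 := by
    intro n
    by_cases hn : n ∈ N
    · rw [if_pos hn, if_pos hn, T.tw_eq hn]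
      have h1 := norm_le_charDegree (isCharacter_of_isIrrCharacter hθ) (T.cj hn a)
      rw [charDegree_eq_one_of_comm T.comm_sub hθ, Nat.cast_one] at h1
      exact h1
    · rw [if_neg hn, if_neg hn, norm_zero]
  refine (Finset.sum_le_sum (fun n _ => e n)).trans ?_
  rw [← Finset.sum_filter, Finset.sum_const, nsmul_eq_mul, mul_one, Nat.card_eq_fintype_card,
    Fintype.card_subtype]

theorem card_conj_eq (c b : A) :
    (Nat.card {y : A // y * c * y⁻¹ = b} : ℂ) = if c = b then (Nat.card A : ℂ) else 0 := by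
  by_cases h : c = b
  · rw [if_pos h]
    congr 1
    apply Nat.card_congr
    refine ⟨fun y => y.1, fun y => ⟨y, ?_⟩, fun y => rfl, fun y => rfl⟩
    rw [T.comm_sub y c, mul_inv_cancel_right, h]
  · rw [if_neg h]
    have : IsEmpty {y : A // y * c * y⁻¹ = b} := by
      constructor
      rintro ⟨y, hy⟩
      apply h
      rw [← hy, T.comm_sub y c, mul_inv_cancel_right]
    rw [Nat.card_of_isEmpty, Nat.cast_zero]

theorem card_stab {b : A} (hb : b ≠ 1) :
    ((Finset.univ.filter (fun n : G₁ => n ∈ N ∧ n⁻¹ * (b : G₁) * n = b)).card : ℂ) =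
      (Nat.card A : ℂ) := by
  congr 1
  rw [Nat.card_eq_fintype_card, Fintype.card_subtype]
  congr 1
  ext n
  simp only [Finset.mem_filter, Finset.mem_univ, true_and]
  constructor
  · rintro ⟨hn, h⟩
    apply T.free b b.2 (fun h' => hb (Subtype.ext h')) n hn
    calc n * (b : G₁) = n * (n⁻¹ * (b : G₁) * n) := by rw [h]
      _ = b * n := by group
  · intro hn
    refine ⟨T.le hn, ?_⟩
    have := T.comm n hn b b.2
    calc n⁻¹ * (b : G₁) * n = n⁻¹ * (b * n) := by group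
      _ = n⁻¹ * (n * b) := by rw [this]
      _ = b := by group

theorem sum_irr_mul_conj_avg {b : A} (hb : b ≠ 1) :
    ∑ θ : IrrCharacter A, (θ : A → ℂ) b * conj (avg A N (θ : A → ℂ) b) = (Nat.card A : ℂ) := by
  have h2 := T.card_A_ne_zero
  have e1 : ∀ θ : IrrCharacter A, (θ : A → ℂ) b * conj (avg A N (θ : A → ℂ) b) =
      (Nat.card A : ℂ)⁻¹ * ∑ n : G₁, (if h : n ∈ N then
        (θ : A → ℂ) b * conj ((θ : A → ℂ) (T.cj h b)) else 0) := by
    intro θ
    rw [T.avg_coe, map_mul, map_inv₀, Complex.conj_natCast, map_sum, Finset.mul_sum,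
      Finset.mul_sum, Finset.mul_sum]
    refine Finset.sum_congr rfl fun n _ => ?_
    by_cases hn : n ∈ N
    · rw [if_pos hn, dif_pos hn, T.tw_eq hn, Function.comp_apply]
      ring
    · rw [if_neg hn, dif_neg hn, map_zero]
      ring
  rw [Finset.sum_congr rfl (fun θ _ => e1 θ), ← Finset.mul_sum, Finset.sum_comm]
  have e2 : ∀ n : G₁, ∑ θ : IrrCharacter A, (if h : n ∈ N then
      (θ : A → ℂ) b * conj ((θ : A → ℂ) (T.cj h b)) else 0) =
      if n ∈ N ∧ n⁻¹ * (b : G₁) * n = b then (Nat.card A : ℂ) else 0 := by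
    intro n
    by_cases hn : n ∈ N
    · simp only [dif_pos hn]
      rw [second_orthogonality (G := A) b (T.cj hn b), card_conj_eq T]
      by_cases hc : T.cj hn b = b
      · rw [if_pos hc, if_pos ⟨hn, by rw [← T.cj_coe hn, hc]⟩]
      · rw [if_neg hc, if_neg]
        rintro ⟨_, h'⟩
        exact hc (Subtype.ext h')
    · simp only [dif_neg hn, Finset.sum_const_zero]
      rw [if_neg (fun h' => hn h'.1)]
  rw [Finset.sum_congr rfl (fun n _ => e2 n), ← Finset.sum_filter, Finset.sum_const, nsmul_eq_mul,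
    card_stab T hb, inv_mul_cancel_left₀ h2]

/-- the second orthogonality relation for the averages -/
theorem sum_irr_avg_sq {a : A} (ha : a ≠ 1) :
    ∑ θ : IrrCharacter A, avg A N (θ : A → ℂ) a * conj (avg A N (θ : A → ℂ) a) =
      (Nat.card N : ℂ) := by
  have h2 := T.card_A_ne_zero
  have e1 : ∀ θ : IrrCharacter A, avg A N (θ : A → ℂ) a * conj (avg A N (θ : A → ℂ) a) =
      (Nat.card A : ℂ)⁻¹ * ∑ n : G₁, (if h : n ∈ N then
        (θ : A → ℂ) (T.cj h a) * conj (avg A N (θ : A → ℂ) (T.cj h a)) else 0) := by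
    intro θ
    conv_lhs => rw [T.avg_coe, mul_assoc, Finset.sum_mul]
    congr 1
    refine Finset.sum_congr rfl fun n _ => ?_
    by_cases hn : n ∈ N
    · rw [if_pos hn, dif_pos hn, T.tw_eq hn]
      have h3 : avg A N (θ : A → ℂ) (T.cj hn a) = avg A N (θ : A → ℂ) a := by
        rw [TP.cj_coe]
        have := T.avg_inv (θ : A → ℂ) (N.inv_mem hn) (a : G₁)
        rwa [inv_inv] at this
      rw [h3]
      rfl
    · rw [if_neg hn, dif_neg hn, zero_mul]
  rw [Finset.sum_congr rfl (fun θ _ => e1 θ), ← Finset.mul_sum, Finset.sum_comm]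
  have e2 : ∀ n : G₁, ∑ θ : IrrCharacter A, (if h : n ∈ N then
      (θ : A → ℂ) (T.cj h a) * conj (avg A N (θ : A → ℂ) (T.cj h a)) else 0) =
      if n ∈ N then (Nat.card A : ℂ) else 0 := by
    intro n
    by_cases hn : n ∈ N
    · simp only [dif_pos hn]
      rw [if_pos hn]
      apply sum_irr_mul_conj_avg T
      intro h
      exact ha ((T.cj hn).injective (h.trans (map_one _).symm))
    · simp only [dif_neg hn, Finset.sum_const_zero]
      rw [if_neg hn]
  rw [Finset.sum_congr rfl (fun n _ => e2 n), TIP.sum_indicator, ← mul_assoc,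
    mul_comm _ (Nat.card N : ℂ), mul_assoc, inv_mul_cancel₀ h2, mul_one]

theorem sum_nonTriv_avg_mul_conj {a : A} (ha : a ≠ 1) :
    ∑ θ ∈ nonTriv A, avg A N (θ : A → ℂ) a * conj (avg A N (θ : A → ℂ) a) =
      (Nat.card N : ℂ) - ((Nat.card N : ℂ) / (Nat.card A : ℂ)) ^ 2 := by
  have h1 := sum_irr_avg_sq T ha
  rw [← Finset.add_sum_erase Finset.univ _ (Finset.mem_univ (triv A))] at h1
  have h2 : avg A N ((triv A : IrrCharacter A) : A → ℂ) a =
      (Nat.card N : ℂ) / (Nat.card A : ℂ) := avg_triv T a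
  rw [h2, map_div₀, Complex.conj_natCast, Complex.conj_natCast] at h1
  unfold nonTriv
  linear_combination h1

theorem sum_nonTriv_norm_sq {a : A} (ha : a ≠ 1) :
    ∑ θ ∈ nonTriv A, ‖avg A N (θ : A → ℂ) a‖ ^ 2 =
      (Nat.card N : ℝ) - ((Nat.card N : ℝ) / (Nat.card A : ℝ)) ^ 2 := by
  have h1 := sum_nonTriv_avg_mul_conj T ha
  have h2 : ((∑ θ ∈ nonTriv A, ‖avg A N (θ : A → ℂ) a‖ ^ 2 : ℝ) : ℂ) =
      (((Nat.card N : ℝ) - ((Nat.card N : ℝ) / (Nat.card A : ℝ)) ^ 2 : ℝ) : ℂ) := by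
    push_cast
    rw [← h1]
    refine Finset.sum_congr rfl fun θ _ => ?_
    rw [Complex.mul_conj, Complex.normSq_eq_norm_sq]
    push_cast
    rfl
  exact_mod_cast h2

/-- the sum of the squares of the averages when they are real -/
theorem sum_nonTriv_avg_sq {t : G₁} (ht : t ∈ N) (hinv : ∀ a ∈ A, t * a * t⁻¹ = a⁻¹) {a : A}
    (ha : a ≠ 1) :
    ∑ θ ∈ nonTriv A, avg A N (θ : A → ℂ) a ^ 2 =
      (Nat.card N : ℂ) - ((Nat.card N : ℂ) / (Nat.card A : ℂ)) ^ 2 := by
  rw [← sum_nonTriv_avg_mul_conj T ha]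
  refine Finset.sum_congr rfl fun θ _ => ?_
  rw [avg_real T ht hinv θ.2, pow_two]

theorem norm_sum_mul_sq_le {a : A} (ha : a ≠ 1) (a' : A) :
    ‖∑ θ ∈ nonTriv A, avg A N (θ : A → ℂ) a' * avg A N (θ : A → ℂ) a ^ 2‖ ≤
      ((Nat.card N : ℝ) / (Nat.card A : ℝ)) *
        ((Nat.card N : ℝ) - ((Nat.card N : ℝ) / (Nat.card A : ℝ)) ^ 2) := by
  refine (norm_sum_le _ _).trans ?_
  rw [← sum_nonTriv_norm_sq T ha, Finset.mul_sum]
  refine Finset.sum_le_sum fun θ _ => ?_
  rw [norm_mul, norm_pow]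
  exact mul_le_mul_of_nonneg_right (norm_avg_le T θ.2 a') (by positivity)

end Torus

/-- the field order as a real number -/
noncomputable def qR (m : ℕ) : ℝ := (2 : ℝ) ^ (2 * m + 1)

/-- the square root of twice the field order as a real number -/
noncomputable def rR (m : ℕ) : ℝ := (2 : ℝ) ^ (m + 1)

theorem qC_ofReal (m : ℕ) : qC m = ((qR m : ℝ) : ℂ) := by
  unfold qC qR
  push_cast
  rfl

theorem rC_ofReal (m : ℕ) : rC m = ((rR m : ℝ) : ℂ) := by
  unfold rC rR
  push_cast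
  rfl

theorem qR_eq_half (m : ℕ) : qR m = rR m ^ 2 / 2 := by
  unfold qR rR
  rw [← pow_mul, show (m + 1) * 2 = 2 * m + 1 + 1 by ring, pow_succ]
  ring

theorem four_le_rR {m : ℕ} (hm : 1 ≤ m) : 4 ≤ rR m := by
  unfold rR
  calc (4 : ℝ) = 2 ^ 2 := by norm_num
    _ ≤ 2 ^ (m + 1) := pow_le_pow_right₀ (by norm_num) (by omega)

variable {F : Type*} [Field F] {m : ℕ} (S : SzData F m)

section SzTorus

variable [Fintype F] (hm : 1 ≤ m) (hF : Fintype.card F = 2 ^ (2 * m + 1)) (D : Tori F m)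

include S in
theorem exists_inverting_tip {j : Fin 4} (hj : j ≠ 0) :
    ∃ t ∈ (S.tip hm hF D).N j, ∀ a ∈ (S.tip hm hF D).K j, t * a * t⁻¹ = a⁻¹ := by
  apply exists_inverting (S.tip_TP hm hF D j hj)
  · rw [S.card_tip_K hm hF D j]
    have hj' : j = 0 ∨ j = 1 ∨ j = 2 ∨ j = 3 := by
      fin_cases j <;> simp
    rcases hj' with rfl | rfl | rfl | rfl
    · exact absurd rfl hj
    · exact q_odd_sub m
    · exact plus_odd m
    · exact minus_odd m
  · rw [S.card_tip_N hm hF D j]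
    have hj' : j = 0 ∨ j = 1 ∨ j = 2 ∨ j = 3 := by
      fin_cases j <;> simp
    rcases hj' with rfl | rfl | rfl | rfl
    · exact absurd rfl hj
    · exact Dvd.intro _ rfl
    · exact Dvd.intro (2 * (2 ^ (2 * m + 1) + 2 ^ (m + 1) + 1)) (by
        show 2 * (2 * (2 ^ (2 * m + 1) + 2 ^ (m + 1) + 1)) = 4 * _
        ring)
    · exact Dvd.intro (2 * (2 ^ (2 * m + 1) - 2 ^ (m + 1) + 1)) (by
        show 2 * (2 * (2 ^ (2 * m + 1) - 2 ^ (m + 1) + 1)) = 4 * _
        ring)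

include S in
theorem sumsq_tip {j : Fin 4} (hj : j ≠ 0) {k : Cfsg.Sz F m} (hk : k ∈ (S.tip hm hF D).K j)
    (hk1 : k ≠ 1) :
    ∑ θ ∈ nonTriv ((S.tip hm hF D).K j),
      avg ((S.tip hm hF D).K j) ((S.tip hm hF D).N j) (θ : _ → ℂ) k ^ 2 =
      (Nat.card ((S.tip hm hF D).N j) : ℂ) -
        ((Nat.card ((S.tip hm hF D).N j) : ℂ) / (Nat.card ((S.tip hm hF D).K j) : ℂ)) ^ 2 := by
  obtain ⟨t, ht, hinv⟩ := exists_inverting_tip S hm hF D hj
  exact sum_nonTriv_avg_sq (S.tip_TP hm hF D j hj) ht hinv (a := ⟨k, hk⟩)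
    (fun h => hk1 (congrArg Subtype.val h))

include S in
theorem bound_tip {j : Fin 4} (hj : j ≠ 0) {k k' : Cfsg.Sz F m}
    (hk : k ∈ (S.tip hm hF D).K j) (hk1 : k ≠ 1) (hk' : k' ∈ (S.tip hm hF D).K j) :
    ‖∑ θ ∈ nonTriv ((S.tip hm hF D).K j),
      avg ((S.tip hm hF D).K j) ((S.tip hm hF D).N j) (θ : _ → ℂ) k' *
        avg ((S.tip hm hF D).K j) ((S.tip hm hF D).N j) (θ : _ → ℂ) k ^ 2‖ ≤
      ((Nat.card ((S.tip hm hF D).N j) : ℝ) / (Nat.card ((S.tip hm hF D).K j) : ℝ)) *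
        ((Nat.card ((S.tip hm hF D).N j) : ℝ) -
          ((Nat.card ((S.tip hm hF D).N j) : ℝ) / (Nat.card ((S.tip hm hF D).K j) : ℝ)) ^ 2) :=
  norm_sum_mul_sq_le (S.tip_TP hm hF D j hj) (a := ⟨k, hk⟩)
    (fun h => hk1 (congrArg Subtype.val h)) ⟨k', hk'⟩

end SzTorus

end Cfsg.Agent.Helper2.Sz
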