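import Mathlib
import Cfsg.Agent.Lib.Helper2.SzCT17

set_option autoImplicit false
set_option linter.unusedSectionVars false
set_option linter.unusedSimpArgs false
set_option linter.unusedVariables false
set_option linter.style.openClassical false
set_option linter.style.haveILetI false

/-! The class multiplication coefficients of the Suzuki group: reduction to the type of the
first element. -/

namespace Cfsg.Agent.Helper2.Sz

open Cfsg Cfsg.Agent.Helper2.CT Cfsg.Agent.Helper24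
open scoped ComplexConjugate
open Classical

attribute [local instance] irrFT

variable {F : Type*} [Field F] {m : ℕ} (S : SzData F m)

section Reduce

variable [Fintype F] (hm : 1 ≤ m) (hF : Fintype.card F = 2 ^ (2 * m + 1)) (D : Tori F m)
  (O : S.Orient)

variable {hm hF D}
variable {x x₀ h : Cfsg.Sz F m} (hx1 : x ≠ 1)

include hx1

/-- the first element has order four -/
theorem SS_type0 (hxk : x₀ * x * x₀⁻¹ ∈ (S.tip hm hF D).K 0)
    (hx2 : ¬ x₀ * x * x₀⁻¹ * (x₀ * x * x₀⁻¹) = 1) :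
    SS S hm hF D O x h = 1 +
      (2 * (qC m ^ 2 + 1))⁻¹ * (∑ θ ∈ nonTriv ((S.tip hm hF D).K 1),
        xF S hm hF D (θ : _ → ℂ) h) +
      (4 * ((qC m - rC m + 1) * (qC m - 1)))⁻¹ * (∑ θ ∈ nonTriv ((S.tip hm hF D).K 2),
        yF S hm hF D (θ : _ → ℂ) h) +
      (4 * ((qC m + rC m + 1) * (qC m - 1)))⁻¹ * (∑ θ ∈ nonTriv ((S.tip hm hF D).K 3),
        zF S hm hF D (θ : _ → ℂ) h) +
      (-(qC m / 2)) * omF S hm hF D h / ((rC m * (qC m - 1)) / 2) := by
  unfold SS kappa
  simp only [val_stF S hxk hx1, val_omF S hxk hx1, val_xF S hxk hx1, val_yF S hxk hx1,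
    val_zF S hxk hx1, val_deltaF S O hxk hx1, fC_zero, fT_zero, fD_zero, two_of_not_sq hx2]
  have hl := SzData.lamQ_sq O hxk
  rw [if_neg hx2] at hl
  rw [pow_two (SzData.lamQ O _), hl]
  simp only [one_pow, mul_one, neg_one_sq]
  ring

/-- the first element lies in the split torus -/
theorem SS_type1 (hxk : x₀ * x * x₀⁻¹ ∈ (S.tip hm hF D).K 1) :
    SS S hm hF D O x h = 1 + stF S hm hF D h / qC m ^ 2 +
      (2 * (qC m ^ 2 + 1))⁻¹ * (∑ θ ∈ nonTriv ((S.tip hm hF D).K 1),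
        xF S hm hF D (θ : _ → ℂ) h *
          avg ((S.tip hm hF D).K 1) ((S.tip hm hF D).N 1) (θ : _ → ℂ) (x₀ * x * x₀⁻¹) ^ 2) := by
  unfold SS kappa
  simp only [val_stF S hxk hx1, val_omF S hxk hx1, val_xF S hxk hx1, val_yF S hxk hx1,
    val_zF S hxk hx1, val_deltaF S O hxk hx1, fC_ne _ _ _ one_ne_zero4, e4_one,
    fT_self _ _ _ one_ne_zero4, fT_other _ _ _ 2 _ _ one_ne_zero4 (by decide),
    fT_other _ _ _ 3 _ _ one_ne_zero4 (by decide), fD_ne S O one_ne_zero4]
  simp only [one_pow, mul_one, one_mul, ne_eq, OfNat.ofNat_ne_zero, not_false_eq_true, zero_pow,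
    mul_zero, Finset.sum_const_zero, add_zero, sub_zero, zero_div, zero_mul]

/-- the first element lies in the torus of order `q + r + 1` -/
theorem SS_type2 (hxk : x₀ * x * x₀⁻¹ ∈ (S.tip hm hF D).K 2) :
    SS S hm hF D O x h = 1 + stF S hm hF D h / qC m ^ 2 +
      (4 * ((qC m - rC m + 1) * (qC m - 1)))⁻¹ * (∑ θ ∈ nonTriv ((S.tip hm hF D).K 2),
        yF S hm hF D (θ : _ → ℂ) h *
          avg ((S.tip hm hF D).K 2) ((S.tip hm hF D).N 2) (θ : _ → ℂ) (x₀ * x * x₀⁻¹) ^ 2) +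
      omF S hm hF D h / ((rC m * (qC m - 1)) / 2) := by
  unfold SS kappa
  simp only [val_stF S hxk hx1, val_omF S hxk hx1, val_xF S hxk hx1, val_yF S hxk hx1,
    val_zF S hxk hx1, val_deltaF S O hxk hx1, fC_ne _ _ _ two_ne_zero4, e4_two,
    fT_self _ _ _ two_ne_zero4, fT_other _ _ _ 1 _ _ two_ne_zero4 (by decide),
    fT_other _ _ _ 3 _ _ two_ne_zero4 (by decide), fD_ne S O two_ne_zero4]
  simp only [neg_one_sq, mul_one, one_mul, ne_eq, OfNat.ofNat_ne_zero, not_false_eq_true, zero_pow,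
    mul_zero, Finset.sum_const_zero, add_zero, sub_zero, zero_div, zero_mul, neg_one_mul, neg_sq]
  ring

/-- the first element lies in the torus of order `q - r + 1` -/
theorem SS_type3 (hxk : x₀ * x * x₀⁻¹ ∈ (S.tip hm hF D).K 3) :
    SS S hm hF D O x h = 1 + stF S hm hF D h / qC m ^ 2 +
      (4 * ((qC m + rC m + 1) * (qC m - 1)))⁻¹ * (∑ θ ∈ nonTriv ((S.tip hm hF D).K 3),
        zF S hm hF D (θ : _ → ℂ) h *
          avg ((S.tip hm hF D).K 3) ((S.tip hm hF D).N 3) (θ : _ → ℂ) (x₀ * x * x₀⁻¹) ^ 2) +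
      omF S hm hF D h / ((rC m * (qC m - 1)) / 2) := by
  unfold SS kappa
  simp only [val_stF S hxk hx1, val_omF S hxk hx1, val_xF S hxk hx1, val_yF S hxk hx1,
    val_zF S hxk hx1, val_deltaF S O hxk hx1, fC_ne _ _ _ three_ne_zero4, e4_three,
    fT_self _ _ _ three_ne_zero4, fT_other _ _ _ 1 _ _ three_ne_zero4 (by decide),
    fT_other _ _ _ 2 _ _ three_ne_zero4 (by decide), fD_ne S O three_ne_zero4]
  simp only [neg_one_sq, mul_one, one_mul, ne_eq, OfNat.ofNat_ne_zero, not_false_eq_true, zero_pow,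
    mul_zero, Finset.sum_const_zero, add_zero, sub_zero, zero_div, zero_mul, neg_one_mul, neg_sq]
  ring

end Reduce

end Cfsg.Agent.Helper2.Sz
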