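import Mathlib
import Cfsg.Agent.Lib.Helper2.SzCT17

set_option autoImplicit false
set_option linter.unusedSectionVars false
set_option linter.unusedSimpArgs false
set_option linter.unusedVariables false
set_option linter.style.openClassical false
set_option linter.style.haveILetI false
set_option maxHeartbeats 1000000

/-! The arithmetic behind the class multiplication coefficients of the Suzuki group: none of
them vanishes. -/

namespace Cfsg.Agent.Helper2.Sz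

open Cfsg Cfsg.Agent.Helper2.CT

theorem ne_zero_of_bound {c k B : ℝ} {z : ℂ} (hk : 0 ≤ k) (hz : ‖z‖ ≤ B) (h : 0 < c - k * B) :
    (c : ℂ) + (k : ℂ) * z ≠ 0 := by
  intro h0
  have h1 : (c : ℂ) = -((k : ℂ) * z) := eq_neg_of_add_eq_zero_left h0
  have h2 : ‖(c : ℂ)‖ = k * ‖z‖ := by
    rw [h1, norm_neg, norm_mul, Complex.norm_real, Real.norm_of_nonneg hk]
  rw [Complex.norm_real, Real.norm_eq_abs] at h2
  have h3 : c ≤ |c| := le_abs_self c
  have h4 : k * ‖z‖ ≤ k * B := mul_le_mul_of_nonneg_left hz hk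
  linarith

theorem ne_zero_of_ofReal_pos {e : ℂ} {e' : ℝ} (h : e = ((e' : ℝ) : ℂ)) (hpos : 0 < e') : e ≠ 0 := by
  rw [h]
  exact_mod_cast hpos.ne'

theorem ccR_one (m : ℕ) : ((SzData.cc m 1 : ℕ) : ℝ) = qR m - 1 := by
  have h := ccC_one m
  rw [qC_ofReal] at h
  exact_mod_cast h

theorem ccR_two (m : ℕ) : ((SzData.cc m 2 : ℕ) : ℝ) = qR m + rR m + 1 := by
  have h := ccC_two m
  rw [qC_ofReal, rC_ofReal] at h
  exact_mod_cast h

theorem ccR_three (m : ℕ) : ((SzData.cc m 3 : ℕ) : ℝ) = qR m - rR m + 1 := by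
  have h := ccC_three m
  rw [qC_ofReal, rC_ofReal] at h
  exact_mod_cast h

theorem nnR_one (m : ℕ) : ((SzData.nn m 1 : ℕ) : ℝ) = 2 * (qR m - 1) := by
  have h := nnC_one m
  rw [qC_ofReal] at h
  exact_mod_cast h

theorem nnR_two (m : ℕ) : ((SzData.nn m 2 : ℕ) : ℝ) = 4 * (qR m + rR m + 1) := by
  have h := nnC_two m
  rw [qC_ofReal, rC_ofReal] at h
  exact_mod_cast h

theorem nnR_three (m : ℕ) : ((SzData.nn m 3 : ℕ) : ℝ) = 4 * (qR m - rR m + 1) := by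
  have h := nnC_three m
  rw [qC_ofReal, rC_ofReal] at h
  exact_mod_cast h

section Arith

variable (m : ℕ) (hm : 1 ≤ m)

include hm

/-- first element of order four, second an involution -/
theorem ar_rs :
    1 + (2 * (qC m ^ 2 + 1))⁻¹ * (qC m - 2) +
      (4 * ((qC m - rC m + 1) * (qC m - 1)))⁻¹ * ((qC m + rC m) * (rC m - 1)) +
      (4 * ((qC m + rC m + 1) * (qC m - 1)))⁻¹ * ((qC m - rC m) * (-rC m - 1)) +
      (-(qC m / 2)) * (-rC m) / ((rC m * (qC m - 1)) / 2) ≠ 0 := by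
  have hpos : 0 < 1 + (2 * ((rR m ^ 2 / 2) ^ 2 + 1))⁻¹ * (rR m ^ 2 / 2 - 2) +
      (4 * ((rR m ^ 2 / 2 - rR m + 1) * (rR m ^ 2 / 2 - 1)))⁻¹ *
        ((rR m ^ 2 / 2 + rR m) * (rR m - 1)) +
      (4 * ((rR m ^ 2 / 2 + rR m + 1) * (rR m ^ 2 / 2 - 1)))⁻¹ *
        ((rR m ^ 2 / 2 - rR m) * (-rR m - 1)) +
      (-((rR m ^ 2 / 2) / 2)) * (-rR m) / ((rR m * (rR m ^ 2 / 2 - 1)) / 2) := by
    have ht := four_le_rR hm
    generalize rR m = t at ht ⊢
    obtain ⟨u, rfl⟩ : ∃ u, t = 4 + u := ⟨t - 4, by ring⟩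
    have hu : 0 ≤ u := by linarith
    ring_nf
    field_simp
    ring_nf
    positivity
  refine ne_zero_of_ofReal_pos ?_ hpos
  rw [qC_ofReal, rC_ofReal, qR_eq_half]
  push_cast
  ring

/-- both elements of order four -/
theorem ar_rr :
    1 + (2 * (qC m ^ 2 + 1))⁻¹ * (qC m - 2) +
      (4 * ((qC m - rC m + 1) * (qC m - 1)))⁻¹ * ((qC m + rC m) * (-1)) +
      (4 * ((qC m + rC m + 1) * (qC m - 1)))⁻¹ * ((qC m - rC m) * (-1)) ≠ 0 := by
  have hpos : 0 < 1 + (2 * ((rR m ^ 2 / 2) ^ 2 + 1))⁻¹ * (rR m ^ 2 / 2 - 2) +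
      (4 * ((rR m ^ 2 / 2 - rR m + 1) * (rR m ^ 2 / 2 - 1)))⁻¹ *
        ((rR m ^ 2 / 2 + rR m) * (-1)) +
      (4 * ((rR m ^ 2 / 2 + rR m + 1) * (rR m ^ 2 / 2 - 1)))⁻¹ *
        ((rR m ^ 2 / 2 - rR m) * (-1)) := by
    have ht := four_le_rR hm
    generalize rR m = t at ht ⊢
    obtain ⟨u, rfl⟩ : ∃ u, t = 4 + u := ⟨t - 4, by ring⟩
    have hu : 0 ≤ u := by linarith
    ring_nf
    field_simp
    ring_nf
    positivity
  refine ne_zero_of_ofReal_pos ?_ hpos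
  rw [qC_ofReal, rC_ofReal, qR_eq_half]
  push_cast
  ring

/-- first element of order four, second in the split torus -/
theorem ar_r1 : 1 + (2 * (qC m ^ 2 + 1))⁻¹ * (-2) ≠ 0 := by
  have hpos : 0 < 1 + (2 * ((rR m ^ 2 / 2) ^ 2 + 1))⁻¹ * (-2) := by
    have ht := four_le_rR hm
    generalize rR m = t at ht ⊢
    obtain ⟨u, rfl⟩ : ∃ u, t = 4 + u := ⟨t - 4, by ring⟩
    have hu : 0 ≤ u := by linarith
    ring_nf
    field_simp
    ring_nf
    positivity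
  refine ne_zero_of_ofReal_pos ?_ hpos
  rw [qC_ofReal, qR_eq_half]
  push_cast
  ring

/-- first element of order four, second in the torus of order `q + r + 1` -/
theorem ar_r2 :
    1 + (4 * ((qC m - rC m + 1) * (qC m - 1)))⁻¹ * 4 +
      (-(qC m / 2)) * 2 / ((rC m * (qC m - 1)) / 2) ≠ 0 := by
  have hpos : 0 < 1 + (4 * ((rR m ^ 2 / 2 - rR m + 1) * (rR m ^ 2 / 2 - 1)))⁻¹ * 4 +
      (-((rR m ^ 2 / 2) / 2)) * 2 / ((rR m * (rR m ^ 2 / 2 - 1)) / 2) := by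
    have ht := four_le_rR hm
    generalize rR m = t at ht ⊢
    obtain ⟨u, rfl⟩ : ∃ u, t = 4 + u := ⟨t - 4, by ring⟩
    have hu : 0 ≤ u := by linarith
    ring_nf
    field_simp
    ring_nf
    positivity
  refine ne_zero_of_ofReal_pos ?_ hpos
  rw [qC_ofReal, rC_ofReal, qR_eq_half]
  push_cast
  ring

/-- first element of order four, second in the torus of order `q - r + 1` -/
theorem ar_r3 :
    1 + (4 * ((qC m + rC m + 1) * (qC m - 1)))⁻¹ * 4 +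
      (-(qC m / 2)) * (-2) / ((rC m * (qC m - 1)) / 2) ≠ 0 := by
  have hpos : 0 < 1 + (4 * ((rR m ^ 2 / 2 + rR m + 1) * (rR m ^ 2 / 2 - 1)))⁻¹ * 4 +
      (-((rR m ^ 2 / 2) / 2)) * (-2) / ((rR m * (rR m ^ 2 / 2 - 1)) / 2) := by
    have ht := four_le_rR hm
    generalize rR m = t at ht ⊢
    obtain ⟨u, rfl⟩ : ∃ u, t = 4 + u := ⟨t - 4, by ring⟩
    have hu : 0 ≤ u := by linarith
    ring_nf
    field_simp
    ring_nf
    positivity
  refine ne_zero_of_ofReal_pos ?_ hpos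
  rw [qC_ofReal, rC_ofReal, qR_eq_half]
  push_cast
  ring

/-- first element in the split torus, second a 2-element -/
theorem ar_1s : 1 + (2 * (qC m ^ 2 + 1))⁻¹ * (2 * (qC m - 1) - 4) ≠ 0 := by
  have hpos : 0 < 1 + (2 * ((rR m ^ 2 / 2) ^ 2 + 1))⁻¹ * (2 * (rR m ^ 2 / 2 - 1) - 4) := by
    have ht := four_le_rR hm
    generalize rR m = t at ht ⊢
    obtain ⟨u, rfl⟩ : ∃ u, t = 4 + u := ⟨t - 4, by ring⟩
    have hu : 0 ≤ u := by linarith
    ring_nf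
    field_simp
    ring_nf
    positivity
  refine ne_zero_of_ofReal_pos ?_ hpos
  rw [qC_ofReal, qR_eq_half]
  push_cast
  ring

/-- both elements in the split torus -/
theorem ar_11 (z : ℂ) (hz : ‖z‖ ≤ 2 * (2 * (qR m - 1) - 4)) :
    1 + 1 / qC m ^ 2 + (2 * (qC m ^ 2 + 1))⁻¹ * z ≠ 0 := by
  have hpos : 0 < 1 + 1 / qR m ^ 2 - (2 * (qR m ^ 2 + 1))⁻¹ * (2 * (2 * (qR m - 1) - 4)) := by
    rw [qR_eq_half]
    have ht := four_le_rR hm
    generalize rR m = t at ht ⊢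
    obtain ⟨u, rfl⟩ : ∃ u, t = 4 + u := ⟨t - 4, by ring⟩
    have hu : 0 ≤ u := by linarith
    ring_nf
    field_simp
    ring_nf
    positivity
  have hk : 0 ≤ (2 * (qR m ^ 2 + 1))⁻¹ := by positivity
  have := ne_zero_of_bound hk hz hpos
  convert this using 2
  · rw [qC_ofReal]
    push_cast
    ring
  · rw [qC_ofReal]
    push_cast
    ring

/-- first element in the split torus, second in a nonsplit torus -/
theorem ar_1o : 1 + (-1) / qC m ^ 2 ≠ 0 := by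
  have hpos : 0 < 1 + (-1) / (rR m ^ 2 / 2) ^ 2 := by
    have ht := four_le_rR hm
    generalize rR m = t at ht ⊢
    obtain ⟨u, rfl⟩ : ∃ u, t = 4 + u := ⟨t - 4, by ring⟩
    have hu : 0 ≤ u := by linarith
    ring_nf
    field_simp
    ring_nf
    positivity
  refine ne_zero_of_ofReal_pos ?_ hpos
  rw [qC_ofReal, qR_eq_half]
  push_cast
  ring

/-- first element in a nonsplit torus, second in the split torus -/
theorem ar_o1 : 1 + 1 / qC m ^ 2 ≠ 0 := by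
  have hpos : 0 < 1 + 1 / (rR m ^ 2 / 2) ^ 2 := by positivity
  refine ne_zero_of_ofReal_pos ?_ hpos
  rw [qC_ofReal, qR_eq_half]
  push_cast
  ring

theorem ar_2s :
    1 + (4 * ((qC m - rC m + 1) * (qC m - 1)))⁻¹ *
        ((rC m - 1) * (4 * (qC m + rC m + 1) - 16)) +
      (-rC m) / ((rC m * (qC m - 1)) / 2) ≠ 0 := by
  have hpos : 0 < 1 + (4 * ((rR m ^ 2 / 2 - rR m + 1) * (rR m ^ 2 / 2 - 1)))⁻¹ *
        ((rR m - 1) * (4 * (rR m ^ 2 / 2 + rR m + 1) - 16)) +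
      (-rR m) / ((rR m * (rR m ^ 2 / 2 - 1)) / 2) := by
    have ht := four_le_rR hm
    generalize rR m = t at ht ⊢
    obtain ⟨u, rfl⟩ : ∃ u, t = 4 + u := ⟨t - 4, by ring⟩
    have hu : 0 ≤ u := by linarith
    ring_nf
    field_simp
    ring_nf
    positivity
  refine ne_zero_of_ofReal_pos ?_ hpos
  rw [qC_ofReal, rC_ofReal, qR_eq_half]
  push_cast
  ring

theorem ar_2r :
    1 + (4 * ((qC m - rC m + 1) * (qC m - 1)))⁻¹ *
        ((-1) * (4 * (qC m + rC m + 1) - 16)) ≠ 0 := by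
  have hpos : 0 < 1 + (4 * ((rR m ^ 2 / 2 - rR m + 1) * (rR m ^ 2 / 2 - 1)))⁻¹ *
        ((-1) * (4 * (rR m ^ 2 / 2 + rR m + 1) - 16)) := by
    have ht := four_le_rR hm
    generalize rR m = t at ht ⊢
    obtain ⟨u, rfl⟩ : ∃ u, t = 4 + u := ⟨t - 4, by ring⟩
    have hu : 0 ≤ u := by linarith
    ring_nf
    field_simp
    ring_nf
    positivity
  refine ne_zero_of_ofReal_pos ?_ hpos
  rw [qC_ofReal, rC_ofReal, qR_eq_half]
  push_cast
  ring

theorem ar_22 (z : ℂ) (hz : ‖z‖ ≤ 4 * (4 * (qR m + rR m + 1) - 16)) :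
    1 + (-1) / qC m ^ 2 + (4 * ((qC m - rC m + 1) * (qC m - 1)))⁻¹ * (-z) +
      2 / ((rC m * (qC m - 1)) / 2) ≠ 0 := by
  have hpos : 0 < 1 + (-1) / qR m ^ 2 + 2 / ((rR m * (qR m - 1)) / 2) -
      (4 * ((qR m - rR m + 1) * (qR m - 1)))⁻¹ * (4 * (4 * (qR m + rR m + 1) - 16)) := by
    rw [qR_eq_half]
    have ht := four_le_rR hm
    generalize rR m = t at ht ⊢
    obtain ⟨u, rfl⟩ : ∃ u, t = 4 + u := ⟨t - 4, by ring⟩
    have hu : 0 ≤ u := by linarith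
    ring_nf
    field_simp
    ring_nf
    positivity
  have hk : 0 ≤ (4 * ((qR m - rR m + 1) * (qR m - 1)))⁻¹ := by
    rw [qR_eq_half]
    have ht := four_le_rR hm
    generalize rR m = t at ht ⊢
    obtain ⟨u, rfl⟩ : ∃ u, t = 4 + u := ⟨t - 4, by ring⟩
    have hu : 0 ≤ u := by linarith
    rw [inv_nonneg]
    ring_nf
    positivity
  have hz' : ‖-z‖ ≤ 4 * (4 * (qR m + rR m + 1) - 16) := by rwa [norm_neg]
  have := ne_zero_of_bound hk hz' hpos
  convert this using 1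
  rw [qC_ofReal, rC_ofReal]
  push_cast
  ring

theorem ar_23 :
    1 + (-1) / qC m ^ 2 + (-2) / ((rC m * (qC m - 1)) / 2) ≠ 0 := by
  have hpos : 0 < 1 + (-1) / (rR m ^ 2 / 2) ^ 2 +
      (-2) / ((rR m * (rR m ^ 2 / 2 - 1)) / 2) := by
    have ht := four_le_rR hm
    generalize rR m = t at ht ⊢
    obtain ⟨u, rfl⟩ : ∃ u, t = 4 + u := ⟨t - 4, by ring⟩
    have hu : 0 ≤ u := by linarith
    ring_nf
    field_simp
    ring_nf
    positivity
  refine ne_zero_of_ofReal_pos ?_ hpos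
  rw [qC_ofReal, rC_ofReal, qR_eq_half]
  push_cast
  ring

theorem ar_3s :
    1 + (4 * ((qC m + rC m + 1) * (qC m - 1)))⁻¹ *
        ((-rC m - 1) * (4 * (qC m - rC m + 1) - 16)) +
      (-rC m) / ((rC m * (qC m - 1)) / 2) ≠ 0 := by
  have hpos : 0 < 1 + (4 * ((rR m ^ 2 / 2 + rR m + 1) * (rR m ^ 2 / 2 - 1)))⁻¹ *
        ((-rR m - 1) * (4 * (rR m ^ 2 / 2 - rR m + 1) - 16)) +
      (-rR m) / ((rR m * (rR m ^ 2 / 2 - 1)) / 2) := by
    have ht := four_le_rR hm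
    generalize rR m = t at ht ⊢
    obtain ⟨u, rfl⟩ : ∃ u, t = 4 + u := ⟨t - 4, by ring⟩
    have hu : 0 ≤ u := by linarith
    ring_nf
    field_simp
    ring_nf
    positivity
  refine ne_zero_of_ofReal_pos ?_ hpos
  rw [qC_ofReal, rC_ofReal, qR_eq_half]
  push_cast
  ring

theorem ar_3r :
    1 + (4 * ((qC m + rC m + 1) * (qC m - 1)))⁻¹ *
        ((-1) * (4 * (qC m - rC m + 1) - 16)) ≠ 0 := by
  have hpos : 0 < 1 + (4 * ((rR m ^ 2 / 2 + rR m + 1) * (rR m ^ 2 / 2 - 1)))⁻¹ *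
        ((-1) * (4 * (rR m ^ 2 / 2 - rR m + 1) - 16)) := by
    have ht := four_le_rR hm
    generalize rR m = t at ht ⊢
    obtain ⟨u, rfl⟩ : ∃ u, t = 4 + u := ⟨t - 4, by ring⟩
    have hu : 0 ≤ u := by linarith
    ring_nf
    field_simp
    ring_nf
    positivity
  refine ne_zero_of_ofReal_pos ?_ hpos
  rw [qC_ofReal, rC_ofReal, qR_eq_half]
  push_cast
  ring

theorem ar_32 :
    1 + (-1) / qC m ^ 2 + 2 / ((rC m * (qC m - 1)) / 2) ≠ 0 := by
  have hpos : 0 < 1 + (-1) / (rR m ^ 2 / 2) ^ 2 +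
      2 / ((rR m * (rR m ^ 2 / 2 - 1)) / 2) := by
    have ht := four_le_rR hm
    generalize rR m = t at ht ⊢
    obtain ⟨u, rfl⟩ : ∃ u, t = 4 + u := ⟨t - 4, by ring⟩
    have hu : 0 ≤ u := by linarith
    ring_nf
    field_simp
    ring_nf
    positivity
  refine ne_zero_of_ofReal_pos ?_ hpos
  rw [qC_ofReal, rC_ofReal, qR_eq_half]
  push_cast
  ring

theorem ar_33 (z : ℂ) (hz : ‖z‖ ≤ 4 * (4 * (qR m - rR m + 1) - 16)) :
    1 + (-1) / qC m ^ 2 + (4 * ((qC m + rC m + 1) * (qC m - 1)))⁻¹ * (-z) +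
      (-2) / ((rC m * (qC m - 1)) / 2) ≠ 0 := by
  have hpos : 0 < 1 + (-1) / qR m ^ 2 + (-2) / ((rR m * (qR m - 1)) / 2) -
      (4 * ((qR m + rR m + 1) * (qR m - 1)))⁻¹ * (4 * (4 * (qR m - rR m + 1) - 16)) := by
    rw [qR_eq_half]
    have ht := four_le_rR hm
    generalize rR m = t at ht ⊢
    obtain ⟨u, rfl⟩ : ∃ u, t = 4 + u := ⟨t - 4, by ring⟩
    have hu : 0 ≤ u := by linarith
    ring_nf
    field_simp
    ring_nf
    positivity
  have hk : 0 ≤ (4 * ((qR m + rR m + 1) * (qR m - 1)))⁻¹ := by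
    rw [qR_eq_half]
    have ht := four_le_rR hm
    generalize rR m = t at ht ⊢
    obtain ⟨u, rfl⟩ : ∃ u, t = 4 + u := ⟨t - 4, by ring⟩
    have hu : 0 ≤ u := by linarith
    rw [inv_nonneg]
    ring_nf
    positivity
  have hz' : ‖-z‖ ≤ 4 * (4 * (qR m - rR m + 1) - 16) := by rwa [norm_neg]
  have := ne_zero_of_bound hk hz' hpos
  convert this using 1
  rw [qC_ofReal, rC_ofReal]
  push_cast
  ring

end Arith

end Cfsg.Agent.Helper2.Sz
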