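import Mathlib
import Cfsg.Agent.Lib.Helper2.SzCT18
import Cfsg.Agent.Lib.Helper2.SzCT19

set_option autoImplicit false
set_option linter.unusedSectionVars false
set_option linter.unusedSimpArgs false
set_option linter.unusedVariables false
set_option linter.style.openClassical false
set_option linter.style.haveILetI false
set_option maxHeartbeats 1000000

/-! The class multiplication coefficients of the Suzuki group do not vanish. -/

namespace Cfsg.Agent.Helper2.Sz

open Cfsg Cfsg.Agent.Helper2.CT Cfsg.Agent.Helper24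
open scoped ComplexConjugate
open Classical

attribute [local instance] irrFT

variable {F : Type*} [Field F] {m : ℕ} (S : SzData F m)

theorem two_self (c : ℂ) (k : Cfsg.Sz F m) : two c c k = c := by
  unfold two
  split_ifs <;> rfl

theorem qR_sub_one_pos (m : ℕ) : 0 < qR m - 1 := by
  have h : (2 : ℝ) ^ 1 ≤ qR m := by
    unfold qR
    exact pow_le_pow_right₀ (by norm_num) (by omega)
  linarith

theorem plusR_pos (m : ℕ) : 0 < qR m + rR m + 1 := by
  have h1 : 0 < qR m := by unfold qR; positivity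
  have h2 : 0 < rR m := by unfold rR; positivity
  linarith

theorem minusR_pos (m : ℕ) : 0 < qR m - rR m + 1 := by
  have h2 : 0 < rR m := by unfold rR; positivity
  have h3 : qR m - rR m + 1 = (rR m - 1) ^ 2 / 2 + 1 / 2 := by
    rw [qR_eq_half]
    ring
  rw [h3]
  positivity

section NonVanish

variable [Fintype F] (hm : 1 ≤ m) (hF : Fintype.card F = 2 ^ (2 * m + 1)) (D : Tori F m)
  (O : S.Orient)

variable {hm hF D}
variable {x x₀ h : Cfsg.Sz F m} (hx1 : x ≠ 1) (hh1 : h ≠ 1)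

include hx1 hh1

theorem SS_ne_type0 (hxk : x₀ * x * x₀⁻¹ ∈ (S.tip hm hF D).K 0)
    (hx2 : ¬ x₀ * x * x₀⁻¹ * (x₀ * x * x₀⁻¹) = 1) : SS S hm hF D O x h ≠ 0 := by
  obtain ⟨i, h₀, hhk⟩ := (S.tip hm hF D).cover h hh1
  have hk1 : h₀ * h * h₀⁻¹ ≠ 1 := TIP.conj_ne_one hh1
  rw [SS_type0 S O hx1 hxk hx2]
  simp only [val_omF S hhk hh1, val_xF S hhk hh1, val_yF S hhk hh1, val_zF S hhk hh1]
  have h1 := qC_sub_one_ne m
  have h2 := plus_ne m
  have h3 := minus_ne m
  have e1 : 2 * (qC m - 1) / (qC m - 1) = 2 := by field_simp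
  have e2 : 4 * (qC m + rC m + 1) / (qC m + rC m + 1) = 4 := by field_simp
  have e3 : 4 * (qC m - rC m + 1) / (qC m - rC m + 1) = 4 := by field_simp
  have hi : i = 0 ∨ i = 1 ∨ i = 2 ∨ i = 3 := by
    fin_cases i <;> simp
  rcases hi with rfl | rfl | rfl | rfl
  · simp only [fC_zero, fT_zero]
    by_cases hk2 : h₀ * h * h₀⁻¹ * (h₀ * h * h₀⁻¹) = 1
    · simp only [two_of_sq hk2, Finset.sum_const, nsmul_eq_mul]
      rw [card_nonTriv_one S hm hF D, card_nonTriv_two S hm hF D, card_nonTriv_three S hm hF D]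
      convert ar_rs m hm using 1
      ring
    · simp only [two_of_not_sq hk2, Finset.sum_const, nsmul_eq_mul]
      rw [card_nonTriv_one S hm hF D, card_nonTriv_two S hm hF D, card_nonTriv_three S hm hF D]
      convert ar_rr m hm using 1
      ring
  · simp only [fC_ne _ _ _ one_ne_zero4, e4_one, fT_self _ _ _ one_ne_zero4,
      fT_other _ _ _ 2 _ _ one_ne_zero4 (by decide), fT_other _ _ _ 3 _ _ one_ne_zero4 (by decide),
      one_mul, Finset.sum_const_zero, mul_zero, add_zero, zero_div]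
    rw [sum_avg_val S hm hF D one_ne_zero4 hhk hk1, S.card_tip_K hm hF D 1, S.card_tip_N hm hF D 1,
      nnC_one, ccC_one, e1]
    exact ar_r1 m hm
  · simp only [fC_ne _ _ _ two_ne_zero4, e4_two, fT_self _ _ _ two_ne_zero4,
      fT_other _ _ _ 1 _ _ two_ne_zero4 (by decide), fT_other _ _ _ 3 _ _ two_ne_zero4 (by decide),
      neg_one_mul, Finset.sum_neg_distrib, Finset.sum_const_zero, mul_zero, add_zero]
    rw [sum_avg_val S hm hF D two_ne_zero4 hhk hk1, S.card_tip_K hm hF D 2, S.card_tip_N hm hF D 2,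
      nnC_two, ccC_two, e2, neg_neg]
    exact ar_r2 m hm
  · simp only [fC_ne _ _ _ three_ne_zero4, e4_three, fT_self _ _ _ three_ne_zero4,
      fT_other _ _ _ 1 _ _ three_ne_zero4 (by decide),
      fT_other _ _ _ 2 _ _ three_ne_zero4 (by decide),
      neg_one_mul, Finset.sum_neg_distrib, Finset.sum_const_zero, mul_zero, add_zero]
    rw [sum_avg_val S hm hF D three_ne_zero4 hhk hk1, S.card_tip_K hm hF D 3,
      S.card_tip_N hm hF D 3, nnC_three, ccC_three, e3, neg_neg]
    exact ar_r3 m hm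

theorem SS_ne_type1 (hxk : x₀ * x * x₀⁻¹ ∈ (S.tip hm hF D).K 1) :
    SS S hm hF D O x h ≠ 0 := by
  obtain ⟨i, h₀, hhk⟩ := (S.tip hm hF D).cover h hh1
  have hk1 : h₀ * h * h₀⁻¹ ≠ 1 := TIP.conj_ne_one hh1
  have hkx1 : x₀ * x * x₀⁻¹ ≠ 1 := TIP.conj_ne_one hx1
  rw [SS_type1 S O hx1 hxk]
  simp only [val_stF S hhk hh1, val_xF S hhk hh1]
  have h1 := qC_sub_one_ne m
  have e1 : 2 * (qC m - 1) / (qC m - 1) = 2 := by field_simp
  have hi : i = 0 ∨ i = 1 ∨ i = 2 ∨ i = 3 := by
    fin_cases i <;> simp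
  rcases hi with rfl | rfl | rfl | rfl
  · simp only [fC_zero, fT_zero, two_self, one_mul, zero_div, add_zero]
    rw [sumsq_tip S hm hF D one_ne_zero4 hxk hkx1, S.card_tip_K hm hF D 1, S.card_tip_N hm hF D 1,
      nnC_one, ccC_one, e1]
    convert ar_1s m hm using 1
    ring
  · simp only [fC_ne _ _ _ one_ne_zero4, e4_one, fT_self _ _ _ one_ne_zero4, one_mul]
    refine ar_11 m hm _ ?_
    have hb := bound_tip S hm hF D one_ne_zero4 hxk hkx1 hhk
    rw [S.card_tip_K hm hF D 1, S.card_tip_N hm hF D 1, nnR_one, ccR_one] at hb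
    have h1' : qR m - 1 ≠ 0 := (qR_sub_one_pos m).ne'
    have e1' : 2 * (qR m - 1) / (qR m - 1) = 2 := by field_simp
    rw [e1'] at hb
    convert hb using 1
    ring
  · simp only [fC_ne _ _ _ two_ne_zero4, e4_two, fT_other _ _ _ 1 _ _ two_ne_zero4 (by decide),
      zero_mul, Finset.sum_const_zero, mul_zero, add_zero]
    exact ar_1o m hm
  · simp only [fC_ne _ _ _ three_ne_zero4, e4_three,
      fT_other _ _ _ 1 _ _ three_ne_zero4 (by decide),
      zero_mul, Finset.sum_const_zero, mul_zero, add_zero]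
    exact ar_1o m hm

theorem SS_ne_type2 (hxk : x₀ * x * x₀⁻¹ ∈ (S.tip hm hF D).K 2) :
    SS S hm hF D O x h ≠ 0 := by
  obtain ⟨i, h₀, hhk⟩ := (S.tip hm hF D).cover h hh1
  have hk1 : h₀ * h * h₀⁻¹ ≠ 1 := TIP.conj_ne_one hh1
  have hkx1 : x₀ * x * x₀⁻¹ ≠ 1 := TIP.conj_ne_one hx1
  rw [SS_type2 S O hx1 hxk]
  simp only [val_stF S hhk hh1, val_yF S hhk hh1, val_omF S hhk hh1]
  have h2 := plus_ne m
  have e2 : 4 * (qC m + rC m + 1) / (qC m + rC m + 1) = 4 := by field_simp
  have hsq := sumsq_tip S hm hF D two_ne_zero4 hxk hkx1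
  rw [S.card_tip_K hm hF D 2, S.card_tip_N hm hF D 2, nnC_two, ccC_two, e2] at hsq
  have hi : i = 0 ∨ i = 1 ∨ i = 2 ∨ i = 3 := by
    fin_cases i <;> simp
  rcases hi with rfl | rfl | rfl | rfl
  · simp only [fC_zero, fT_zero, two_self, zero_div, add_zero]
    by_cases hk2 : h₀ * h * h₀⁻¹ * (h₀ * h * h₀⁻¹) = 1
    · simp only [two_of_sq hk2]
      rw [← Finset.mul_sum, hsq]
      convert ar_2s m hm using 1
      ring
    · simp only [two_of_not_sq hk2]
      rw [← Finset.mul_sum, hsq]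
      convert ar_2r m hm using 1
      ring
  · simp only [fC_ne _ _ _ one_ne_zero4, e4_one, fT_other _ _ _ 2 _ _ one_ne_zero4 (by decide),
      zero_mul, Finset.sum_const_zero, mul_zero, add_zero, zero_div]
    exact ar_o1 m hm
  · simp only [fC_ne _ _ _ two_ne_zero4, e4_two, fT_self _ _ _ two_ne_zero4, neg_one_mul,
      neg_mul, one_mul, Finset.sum_neg_distrib]
    refine ar_22 m hm _ ?_
    have hb := bound_tip S hm hF D two_ne_zero4 hxk hkx1 hhk
    rw [S.card_tip_K hm hF D 2, S.card_tip_N hm hF D 2, nnR_two, ccR_two] at hb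
    have h2' : qR m + rR m + 1 ≠ 0 := (plusR_pos m).ne'
    have e2' : 4 * (qR m + rR m + 1) / (qR m + rR m + 1) = 4 := by field_simp
    rw [e2'] at hb
    convert hb using 1
    ring
  · simp only [fC_ne _ _ _ three_ne_zero4, e4_three,
      fT_other _ _ _ 2 _ _ three_ne_zero4 (by decide),
      zero_mul, Finset.sum_const_zero, mul_zero, add_zero]
    exact ar_23 m hm

theorem SS_ne_type3 (hxk : x₀ * x * x₀⁻¹ ∈ (S.tip hm hF D).K 3) :
    SS S hm hF D O x h ≠ 0 := by
  obtain ⟨i, h₀, hhk⟩ := (S.tip hm hF D).cover h hh1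
  have hk1 : h₀ * h * h₀⁻¹ ≠ 1 := TIP.conj_ne_one hh1
  have hkx1 : x₀ * x * x₀⁻¹ ≠ 1 := TIP.conj_ne_one hx1
  rw [SS_type3 S O hx1 hxk]
  simp only [val_stF S hhk hh1, val_zF S hhk hh1, val_omF S hhk hh1]
  have h3 := minus_ne m
  have e3 : 4 * (qC m - rC m + 1) / (qC m - rC m + 1) = 4 := by field_simp
  have hsq := sumsq_tip S hm hF D three_ne_zero4 hxk hkx1
  rw [S.card_tip_K hm hF D 3, S.card_tip_N hm hF D 3, nnC_three, ccC_three, e3] at hsq
  have hi : i = 0 ∨ i = 1 ∨ i = 2 ∨ i = 3 := by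
    fin_cases i <;> simp
  rcases hi with rfl | rfl | rfl | rfl
  · simp only [fC_zero, fT_zero, two_self, zero_div, add_zero]
    by_cases hk2 : h₀ * h * h₀⁻¹ * (h₀ * h * h₀⁻¹) = 1
    · simp only [two_of_sq hk2]
      rw [← Finset.mul_sum, hsq]
      convert ar_3s m hm using 1
      ring
    · simp only [two_of_not_sq hk2]
      rw [← Finset.mul_sum, hsq]
      convert ar_3r m hm using 1
      ring
  · simp only [fC_ne _ _ _ one_ne_zero4, e4_one, fT_other _ _ _ 3 _ _ one_ne_zero4 (by decide),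
      zero_mul, Finset.sum_const_zero, mul_zero, add_zero, zero_div]
    exact ar_o1 m hm
  · simp only [fC_ne _ _ _ two_ne_zero4, e4_two,
      fT_other _ _ _ 3 _ _ two_ne_zero4 (by decide),
      zero_mul, Finset.sum_const_zero, mul_zero, add_zero]
    exact ar_32 m hm
  · simp only [fC_ne _ _ _ three_ne_zero4, e4_three, fT_self _ _ _ three_ne_zero4, neg_one_mul,
      neg_mul, one_mul, Finset.sum_neg_distrib]
    refine ar_33 m hm _ ?_
    have hb := bound_tip S hm hF D three_ne_zero4 hxk hkx1 hhk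
    rw [S.card_tip_K hm hF D 3, S.card_tip_N hm hF D 3, nnR_three, ccR_three] at hb
    have h3' : qR m - rR m + 1 ≠ 0 := (minusR_pos m).ne'
    have e3' : 4 * (qR m - rR m + 1) / (qR m - rR m + 1) = 4 := by field_simp
    rw [e3'] at hb
    convert hb using 1
    ring

end NonVanish

section Main

variable [Fintype F] (hm : 1 ≤ m) (hF : Fintype.card F = 2 ^ (2 * m + 1))

include hm hF in
/-- in the Suzuki group every nonidentity element is a product of two conjugates of any
element that is not an involution -/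
theorem prod_two_conj (x : Cfsg.Sz F m) (hx : ¬ x * x = 1) (g : Cfsg.Sz F m) (hg : g ≠ 1) :
    ∃ u v : Cfsg.Sz F m, g = (u * x * u⁻¹) * (v * x * v⁻¹) := by
  obtain ⟨S⟩ := nonempty_szData (m := m) hF
  obtain ⟨D⟩ := S.nonempty_tori hm hF
  obtain ⟨O⟩ := S.nonempty_orient
  have hx1 : x ≠ 1 := by
    rintro rfl
    exact hx (one_mul 1)
  have hh1 : g⁻¹ ≠ 1 := by
    intro h
    exact hg (inv_eq_one.1 h)
  have hne : SS S hm hF D O x g⁻¹ ≠ 0 := by
    obtain ⟨i, x₀, hxk⟩ := (S.tip hm hF D).cover x hx1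
    have hi : i = 0 ∨ i = 1 ∨ i = 2 ∨ i = 3 := by
      fin_cases i <;> simp
    rcases hi with rfl | rfl | rfl | rfl
    · refine SS_ne_type0 S O hx1 hh1 hxk ?_
      intro h2
      apply hx
      have e : x₀ * x * x₀⁻¹ * (x₀ * x * x₀⁻¹) = x₀ * (x * x) * x₀⁻¹ := by group
      rw [e] at h2
      have e2 : x * x = x₀⁻¹ * (x₀ * (x * x) * x₀⁻¹) * x₀ := by group
      rw [e2, h2]
      group
    · exact SS_ne_type1 S O hx1 hh1 hxk
    · exact SS_ne_type2 S O hx1 hh1 hxk
    · exact SS_ne_type3 S O hx1 hh1 hxk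
  by_contra hno
  apply hne
  apply SS_eq_zero S hm hF D O
  intro u v h1
  apply hno
  refine ⟨u, v, ?_⟩
  have e : g = g * (g⁻¹ * (u * x * u⁻¹) * (v * x * v⁻¹)) := by rw [h1, mul_one]
  rw [e]
  group

end Main


end Cfsg.Agent.Helper2.Sz
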