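import Mathlib
import Cfsg.Agent.Lib.Helper2.SzFixity2

set_option autoImplicit false
set_option linter.unusedSectionVars false
set_option linter.unusedSimpArgs false

namespace Cfsg.Agent.Helper2.Sz

open Matrix Cfsg.Agent.S0335
open scoped Pointwise

/-- two-transitivity on the cosets of a point stabilizer gives two-transitivity -/
theorem two_pretransitive_of_quotient {G Ω : Type*} [Group G] [MulAction G Ω]
    [MulAction.IsPretransitive G Ω] (γ : Ω) (K : Subgroup G) (hK : K = MulAction.stabilizer G γ)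
    (h : MulAction.IsMultiplyPretransitive G (G ⧸ K) 2) :
    MulAction.IsMultiplyPretransitive G Ω 2 := by
  subst hK
  rw [MulAction.is_two_pretransitive_iff] at h ⊢
  intro a b c d hab hcd
  obtain ⟨xa, rfl⟩ := MulAction.exists_smul_eq G γ a
  obtain ⟨xb, rfl⟩ := MulAction.exists_smul_eq G γ b
  obtain ⟨xc, rfl⟩ := MulAction.exists_smul_eq G γ c
  obtain ⟨xd, rfl⟩ := MulAction.exists_smul_eq G γ d
  have hne : ∀ x y : G, x • γ ≠ y • γ →
      (QuotientGroup.mk x : G ⧸ MulAction.stabilizer G γ) ≠ QuotientGroup.mk y := by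
    intro x y hxy h1
    apply hxy
    rw [QuotientGroup.eq, MulAction.mem_stabilizer_iff, mul_smul, inv_smul_eq_iff] at h1
    exact h1.symm
  have heq : ∀ g x y : G, g • (QuotientGroup.mk x : G ⧸ MulAction.stabilizer G γ) =
      QuotientGroup.mk y → g • x • γ = y • γ := by
    intro g x y h1
    rw [MulAction.Quotient.smul_mk, QuotientGroup.eq, MulAction.mem_stabilizer_iff, mul_smul,
      inv_smul_eq_iff] at h1
    rw [← mul_smul]
    exact h1.symm
  obtain ⟨g, h1, h2⟩ := h (hne xa xb hab) (hne xc xd hcd)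
  exact ⟨g, heq g xa xc h1, heq g xb xd h2⟩

variable {F : Type*} [Field F] {m : ℕ} (S : SzData F m)

namespace SzData

section group
variable [Fintype F]

include S in
/-- transitive actions of fixity two of the Suzuki groups -/
theorem fixity_two (hm : 1 ≤ m) (hF : Fintype.card F = 2 ^ (2 * m + 1))
    {Ω : Type*} [Finite Ω] [MulAction (Cfsg.Sz F m) Ω] [MulAction.IsPretransitive (Cfsg.Sz F m) Ω]
    (hfix : ∀ g : Cfsg.Sz F m, g ≠ 1 → Nat.card (MulAction.fixedBy Ω g) ≤ 2)
    (hex : ∃ g : Cfsg.Sz F m, g ≠ 1 ∧ Nat.card (MulAction.fixedBy Ω g) = 2) :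
    (Nat.card Ω = (2 ^ (2 * m + 1)) ^ 2 + 1 ∧
      MulAction.IsMultiplyPretransitive (Cfsg.Sz F m) Ω 2) ∨
    (Nat.card Ω = (2 ^ (2 * m + 1)) ^ 2 * ((2 ^ (2 * m + 1)) ^ 2 + 1) ∧
      ∀ α : Ω, Nat.card (MulAction.stabilizer (Cfsg.Sz F m) α) = 2 ^ (2 * m + 1) - 1) := by
  have hfact2 : Fact (Nat.Prime 2) := ⟨Nat.prime_two⟩
  obtain ⟨g₀, hg₀1, hg₀⟩ := hex
  have hq8 : 2 ^ 3 ≤ 2 ^ (2 * m + 1) := Nat.pow_le_pow_right (by norm_num) (by omega)
  have hG := S.card_Sz hm hF
  -- the stabilizers are proper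
  have hnetop : ∀ β : Ω, MulAction.stabilizer (Cfsg.Sz F m) β ≠ ⊤ := by
    intro β htop
    have hsub : Subsingleton Ω := by
      constructor
      intro a b
      obtain ⟨x, rfl⟩ := MulAction.exists_smul_eq (Cfsg.Sz F m) β a
      obtain ⟨y, rfl⟩ := MulAction.exists_smul_eq (Cfsg.Sz F m) β b
      have hx : x ∈ MulAction.stabilizer (Cfsg.Sz F m) β := by rw [htop]; exact Subgroup.mem_top x
      have hy : y ∈ MulAction.stabilizer (Cfsg.Sz F m) β := by rw [htop]; exact Subgroup.mem_top y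
      rw [MulAction.mem_stabilizer_iff.1 hx, MulAction.mem_stabilizer_iff.1 hy]
    have : Nat.card (MulAction.fixedBy Ω g₀) ≤ 1 := Finite.card_le_one_iff_subsingleton.2
      inferInstance
    omega
  -- a point fixed by `g₀`
  have hpos : 0 < Nat.card (MulAction.fixedBy Ω g₀) := by omega
  obtain ⟨⟨α₀, hα₀⟩⟩ := (Nat.card_pos_iff.1 hpos).1
  have hindex : ∀ β : Ω, Nat.card (MulAction.stabilizer (Cfsg.Sz F m) β) * Nat.card Ω =
      Nat.card (Cfsg.Sz F m) := by
    intro β
    rw [← MulAction.index_stabilizer_of_transitive (Cfsg.Sz F m) β]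
    exact Subgroup.card_mul_index _
  rcases Nat.even_or_odd (Nat.card (MulAction.stabilizer (Cfsg.Sz F m) α₀)) with hev | hodd
  · left
    -- an involution in the stabilizer
    obtain ⟨t', ht'⟩ := exists_prime_orderOf_dvd_card' 2 hev.two_dvd
    obtain ⟨t, htH⟩ := t'
    have ht2 : orderOf t = 2 := by
      rw [← ht']
      exact (Subgroup.orderOf_mk t htH).symm
    have ht1 : t ≠ 1 := by
      intro h
      rw [h, orderOf_one] at ht2
      omega
    have htt : t * t = 1 := by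
      rw [← pow_two, ← ht2, pow_orderOf_eq_one]
    obtain ⟨k, hk⟩ := S.exists_conj_mem_ZSz hm hF htt
    have hk1 : k⁻¹ * t * k ≠ 1 := by
      intro h
      apply ht1
      calc t = k * (k⁻¹ * t * k) * k⁻¹ := by group
        _ = 1 := by rw [h]; group
    have hfixβ : (k⁻¹ * t * k) • (k⁻¹ • α₀) = k⁻¹ • α₀ := by
      rw [← mul_smul]
      have : k⁻¹ * t * k * k⁻¹ = k⁻¹ * t := by group
      rw [this, mul_smul, MulAction.mem_stabilizer_iff.1 htH]
    have hstab := S.stabilizer_eq_of_mem_ZSz hm hF hfix (k⁻¹ • α₀) (hnetop _) hk hk1 hfixβ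
    have hcardΩ : Nat.card Ω = (2 ^ (2 * m + 1)) ^ 2 + 1 := by
      have h1 := hindex (k⁻¹ • α₀)
      rw [hstab, S.card_stabilizer_pInf hm hF, hG] at h1
      have hpos : 0 < (2 ^ (2 * m + 1)) ^ 2 * (2 ^ (2 * m + 1) - 1) := by
        apply Nat.mul_pos (by positivity)
        omega
      apply Nat.eq_of_mul_eq_mul_left hpos
      rw [h1]
      ring
    refine ⟨hcardΩ, ?_⟩
    obtain ⟨-, P, -, -, h2tr, -⟩ := S.coset_structure hm hF (MulEquiv.refl (Cfsg.Sz F m))
    obtain ⟨c, hc⟩ := S.exists_conj_QSz hm hF P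
    apply two_pretransitive_of_quotient (c • k⁻¹ • α₀) _ _ h2tr
    rw [MulAction.stabilizer_smul_eq_stabilizer_map_conj, hstab, ← S.normalizer_QSz hm hF,
      Subgroup.map_equiv_normalizer_eq, hc]
    rfl
  · right
    have hne : MulAction.stabilizer (Cfsg.Sz F m) α₀ ≠ ⊥ := by
      intro h
      have : g₀ ∈ MulAction.stabilizer (Cfsg.Sz F m) α₀ := hα₀
      rw [h, Subgroup.mem_bot] at this
      exact hg₀1 this
    have hcard := S.card_stabilizer_of_odd hm hF hfix α₀ hodd hne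
    have hq1 : 0 < 2 ^ (2 * m + 1) - 1 := by omega
    have hcardΩ : Nat.card Ω = (2 ^ (2 * m + 1)) ^ 2 * ((2 ^ (2 * m + 1)) ^ 2 + 1) := by
      have h1 := hindex α₀
      rw [hcard, hG] at h1
      apply Nat.eq_of_mul_eq_mul_left hq1
      rw [h1]
      ring
    refine ⟨hcardΩ, ?_⟩
    intro α
    have h1 := hindex α
    rw [hcardΩ, hG] at h1
    have hpos : 0 < (2 ^ (2 * m + 1)) ^ 2 * ((2 ^ (2 * m + 1)) ^ 2 + 1) := by positivity
    apply Nat.eq_of_mul_eq_mul_right hpos
    rw [h1]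
    ring

end group

end SzData

end Cfsg.Agent.Helper2.Sz
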