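import Mathlib
import Cfsg.Agent.Lib.Helper2.SzAut5

set_option autoImplicit false
set_option linter.unusedSectionVars false
set_option linter.unusedSimpArgs false
set_option linter.unusedVariables false

namespace Cfsg.Agent.Helper2.Sz

open Matrix Cfsg.Agent.S0335

variable {F : Type*} [Field F] [Fintype F] {m : ℕ} (S : SzData F m)

namespace SzData

include S in
/-- the Suzuki group is generated by two elements -/
theorem two_generated (hm : 1 ≤ m) (hF : Fintype.card F = 2 ^ (2 * m + 1)) :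
    ∃ a b : Cfsg.Sz F m, Subgroup.closure ({a, b} : Set (Cfsg.Sz F m)) = ⊤ := by
  obtain ⟨u₀, hu₀⟩ := IsCyclic.exists_generator (α := Fˣ)
  refine ⟨S.DgSz u₀, S.TgSz 1 0 * S.WgSz, ?_⟩
  obtain ⟨H, hHdef⟩ : ∃ H : Subgroup (Cfsg.Sz F m),
      H = Subgroup.closure {S.DgSz u₀, S.TgSz 1 0 * S.WgSz} := ⟨_, rfl⟩
  rw [← hHdef]
  have hx : S.DgSz u₀ ∈ H := by
    rw [hHdef]
    exact Subgroup.subset_closure (Set.mem_insert _ _)
  have hy : S.TgSz 1 0 * S.WgSz ∈ H := by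
    rw [hHdef]
    exact Subgroup.subset_closure (Set.mem_insert_of_mem _ rfl)
  have hD : ∀ u, S.DgSz u ∈ H := by
    intro u
    obtain ⟨k, hk⟩ := Subgroup.mem_zpowers_iff.1 (hu₀ u)
    rw [← hk, map_zpow]
    exact H.zpow_mem hx k
  have hu₀1 : u₀ ≠ 1 := by
    intro h
    obtain ⟨v, hv⟩ := S.exists_unit_ne_one hm hF
    apply hv
    obtain ⟨k, hk⟩ := Subgroup.mem_zpowers_iff.1 (hu₀ v)
    rw [← hk, h, _root_.one_zpow]
  have ha' : S.s u₀ + 1 ≠ 0 := by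
    intro h
    apply hu₀1
    apply Units.ext
    apply S.s_injective
    rw [Units.val_one, map_one]
    linear_combination h - S.add_self 1
  -- a non-central element of the unipotent subgroup
  have ht' : S.TgSz (S.s u₀ + 1) (1 + (u₀ : F) ^ 2) ∈ H := by
    have h1 : S.DgSz u₀ * ((S.TgSz 1 0 * S.WgSz) * S.DgSz u₀ * (S.TgSz 1 0 * S.WgSz)⁻¹) ∈ H :=
      H.mul_mem hx (H.mul_mem (H.mul_mem hy hx) (H.inv_mem hy))
    have hw : S.WgSz * S.DgSz u₀ * S.WgSz⁻¹ = (S.DgSz u₀)⁻¹ := by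
      rw [S.WgSz_inv, S.WgSz_DgSz_WgSz, map_inv]
    have h2 : S.DgSz u₀ * ((S.TgSz 1 0 * S.WgSz) * S.DgSz u₀ * (S.TgSz 1 0 * S.WgSz)⁻¹) =
        S.TgSz (S.s u₀ + 1) (1 + (u₀ : F) ^ 2) := by
      calc S.DgSz u₀ * ((S.TgSz 1 0 * S.WgSz) * S.DgSz u₀ * (S.TgSz 1 0 * S.WgSz)⁻¹)
          = S.DgSz u₀ * S.TgSz 1 0 * (S.WgSz * S.DgSz u₀ * S.WgSz⁻¹) * (S.TgSz 1 0)⁻¹ := by group
        _ = (S.DgSz u₀ * S.TgSz 1 0 * (S.DgSz u₀)⁻¹) * (S.TgSz 1 0)⁻¹ := by rw [hw]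
        _ = S.TgSz (S.s u₀ + 1) (1 + (u₀ : F) ^ 2) := by
            rw [S.conj_DgSz_TgSz, S.TgSz_inv, S.TgSz_mul]
            congr 1
            · rw [mul_one]
            · rw [mul_zero, map_one, mul_one, zero_add, zero_add, mul_one, mul_one, S.hs]
    rw [h2] at h1
    exact h1
  have hc : ∀ c : F, c ≠ 0 → ∃ β : F, S.TgSz c β ∈ H := by
    intro c hc
    obtain ⟨u, hu⟩ := S.exists_unit_s_eq (div_ne_zero hc ha')
    refine ⟨S.s u * (u : F) ^ 2 * (1 + (u₀ : F) ^ 2), ?_⟩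
    have h1 : S.DgSz u * S.TgSz (S.s u₀ + 1) (1 + (u₀ : F) ^ 2) * (S.DgSz u)⁻¹ ∈ H :=
      H.mul_mem (H.mul_mem (hD u) ht') (H.inv_mem (hD u))
    rw [S.conj_DgSz_TgSz] at h1
    have e : S.s u * (S.s u₀ + 1) = c := by rw [hu, div_mul_cancel₀ c ha']
    rw [e] at h1
    exact h1
  have hZ : ∀ e : F, S.TgSz 0 e ∈ H := by
    intro e
    obtain ⟨c, hce⟩ := S.mul_s_surjective e
    by_cases hc0 : c = 0
    · rw [hc0, zero_mul] at hce
      rw [← hce, S.TgSz_zero]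
      exact H.one_mem
    · obtain ⟨β, hβ⟩ := hc c hc0
      have h1 := H.mul_mem hβ hβ
      rw [S.TgSz_mul, S.add_self, S.add_self, zero_add, mul_comm, hce] at h1
      exact h1
  have hQ : ∀ c b : F, S.TgSz c b ∈ H := by
    intro c b
    by_cases hc0 : c = 0
    · rw [hc0]
      exact hZ b
    · obtain ⟨β, hβ⟩ := hc c hc0
      have h1 := H.mul_mem hβ (hZ (b + β))
      rw [S.TgSz_mul, add_zero, mul_zero, add_zero] at h1
      have e : β + (b + β) = b := by linear_combination S.add_self β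
      rw [e] at h1
      exact h1
  have hW : S.WgSz ∈ H := by
    have h1 := H.mul_mem (H.inv_mem (hQ 1 0)) hy
    rw [inv_mul_cancel_left] at h1
    exact h1
  rw [eq_top_iff]
  intro g _
  rcases S.exists_decomp hm hF g.2 with ⟨a, b, u, hg⟩ | ⟨a, b, c, d, u, hg⟩
  · have hg' : g = S.TgSz a b * S.DgSz u := Subtype.ext hg
    rw [hg']
    exact H.mul_mem (hQ a b) (hD u)
  · have hg' : g = S.TgSz a b * S.WgSz * (S.TgSz c d * S.DgSz u) := Subtype.ext hg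
    rw [hg']
    exact H.mul_mem (H.mul_mem (hQ a b) hW) (H.mul_mem (hQ c d) (hD u))

end SzData

end Cfsg.Agent.Helper2.Sz
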