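import Mathlib

set_option autoImplicit false
set_option linter.unusedSectionVars false
set_option linter.unusedSimpArgs false
set_option linter.unusedVariables false

namespace Cfsg.Agent.Helper2.SzLaw

open Polynomial

variable {F : Type*} [Field F]

/-- the upper unitriangular matrices -/
noncomputable def U2 (r : F[X]) : Matrix (Fin 2) (Fin 2) F[X] := !![1, r; 0, 1]

/-- the swap -/
noncomputable def J2 (F : Type*) [Field F] : Matrix (Fin 2) (Fin 2) F[X] := !![0, 1; 1, 0]

/-- the exponent on the left of a letter -/
def lexp (l : ℕ × Bool) : ℕ := if l.2 then 2 * l.1 + 1 else 2 * l.1 + 2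

/-- the exponent on the right of a letter -/
def rexp (l : ℕ × Bool) : ℕ := if l.2 then 2 * l.1 + 2 else 2 * l.1 + 1

/-- the matrix of a letter -/
noncomputable def H2 (l : ℕ × Bool) : Matrix (Fin 2) (Fin 2) F[X] :=
  U2 (X ^ lexp l) * J2 F * U2 (X ^ rexp l)

theorem U2_mul (r r' : F[X]) : U2 r * U2 r' = U2 (r + r') := by
  ext i j
  fin_cases i <;> fin_cases j <;> simp [U2, Matrix.mul_apply, Fin.sum_univ_two, add_comm]

theorem rexp_ne_lexp {l l' : ℕ × Bool} (h : l.1 = l'.1 → l.2 = l'.2) : rexp l ≠ lexp l' := by
  obtain ⟨i, b⟩ := l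
  obtain ⟨i', b'⟩ := l'
  unfold rexp lexp
  simp only at h ⊢
  cases b <;> cases b'
  · simp only [Bool.false_eq_true, if_false]
    omega
  · simp only [Bool.false_eq_true, if_false, if_true]
    have : i ≠ i' := fun e => Bool.noConfusion (h e)
    omega
  · simp only [Bool.false_eq_true, if_false, if_true]
    have : i ≠ i' := fun e => Bool.noConfusion (h e)
    omega
  · simp only [if_true]
    omega

theorem degree_pow_add_pow {p p' : ℕ} (h : p ≠ p') (hp : 1 ≤ p) (hp' : 1 ≤ p') :
    (1 : WithBot ℕ) ≤ degree ((X : F[X]) ^ p + X ^ p') := by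
  rcases Nat.lt_or_gt_of_ne h with h1 | h1
  · rw [degree_add_eq_right_of_degree_lt (by rw [degree_X_pow, degree_X_pow]; exact_mod_cast h1),
      degree_X_pow]
    exact_mod_cast hp'
  · rw [degree_add_eq_left_of_degree_lt (by rw [degree_X_pow, degree_X_pow]; exact_mod_cast h1),
      degree_X_pow]
    exact_mod_cast hp

/-- the key invariant of products over reduced words -/
theorem exists_factor (L : List (ℕ × Bool)) (hL : FreeGroup.IsReduced L) (hne : L ≠ []) :
    ∃ N : Matrix (Fin 2) (Fin 2) F[X],
      (L.map (H2 (F := F))).prod = U2 (X ^ lexp (L.head hne)) * N ∧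
        degree (N 0 0) < degree (N 1 0) := by
  induction L with
  | nil => exact absurd rfl hne
  | cons l L ih =>
    cases L with
    | nil =>
      refine ⟨J2 F * U2 (X ^ rexp l), ?_, ?_⟩
      · simp only [List.map_cons, List.map_nil, List.prod_cons, List.prod_nil, mul_one,
          List.head_cons]
        rw [H2, mul_assoc]
      · have h1 : (J2 F * U2 ((X : F[X]) ^ rexp l)) 0 0 = 0 := by
          simp [J2, U2, Matrix.mul_apply, Fin.sum_univ_two]
        have h2 : (J2 F * U2 ((X : F[X]) ^ rexp l)) 1 0 = 1 := by
          simp [J2, U2, Matrix.mul_apply, Fin.sum_univ_two]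
        rw [h1, h2, degree_zero, degree_one]
        exact WithBot.bot_lt_coe 0
    | cons l' L' =>
      have hred : (l.1 = l'.1 → l.2 = l'.2) ∧ FreeGroup.IsReduced (l' :: L') := by
        unfold FreeGroup.IsReduced at hL ⊢
        exact List.isChain_cons_cons.1 hL
      obtain ⟨N', hN', hdeg'⟩ := ih hred.2 (List.cons_ne_nil _ _)
      obtain ⟨r, hrdef⟩ : ∃ r : F[X], r = X ^ rexp l + X ^ lexp l' := ⟨_, rfl⟩
      refine ⟨J2 F * U2 r * N', ?_, ?_⟩
      · rw [List.map_cons, List.prod_cons, hN']
        simp only [List.head_cons]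
        rw [H2, hrdef, ← U2_mul]
        simp only [mul_assoc]
      · have h1 : (J2 F * U2 r * N') 0 0 = N' 1 0 := by
          simp [J2, U2, Matrix.mul_apply, Fin.sum_univ_two]
        have h2 : (J2 F * U2 r * N') 1 0 = N' 0 0 + r * N' 1 0 := by
          simp [J2, U2, Matrix.mul_apply, Fin.sum_univ_two]
        rw [h1, h2]
        have hr : (1 : WithBot ℕ) ≤ degree r := by
          rw [hrdef]
          apply degree_pow_add_pow (rexp_ne_lexp hred.1)
          · unfold rexp; split_ifs <;> omega
          · unfold lexp; split_ifs <;> omega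
        have hN10 : N' 1 0 ≠ 0 := by
          intro h0
          rw [h0, degree_zero] at hdeg'
          exact not_lt_bot hdeg'
        have hr0 : r ≠ 0 := by
          intro h0
          rw [h0, degree_zero] at hr
          exact absurd hr (by simp)
        have hlt : degree (N' 1 0) < degree (r * N' 1 0) := by
          rw [degree_mul, degree_eq_natDegree hr0, degree_eq_natDegree hN10]
          rw [degree_eq_natDegree hr0] at hr
          have hr' : 1 ≤ natDegree r := by exact_mod_cast hr
          have : natDegree (N' 1 0) < natDegree r + natDegree (N' 1 0) := by omega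
          exact_mod_cast this
        rw [degree_add_eq_right_of_degree_lt (lt_trans hdeg' hlt)]
        exact hlt

/-- a product over a nonempty reduced word is not the identity -/
theorem prod_ne_one (L : List (ℕ × Bool)) (hL : FreeGroup.IsReduced L) (hne : L ≠ []) :
    (L.map (H2 (F := F))).prod 1 0 ≠ 0 := by
  obtain ⟨N, hN, hdeg⟩ := exists_factor (F := F) L hL hne
  rw [hN]
  have h1 : (U2 ((X : F[X]) ^ lexp (L.head hne)) * N) 1 0 = N 1 0 := by
    simp [U2, Matrix.mul_apply, Fin.sum_univ_two]
  rw [h1]
  intro h0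
  rw [h0, degree_zero] at hdeg
  exact not_lt_bot hdeg

end Cfsg.Agent.Helper2.SzLaw
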