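import Mathlib
import Cfsg.Agent.Lib.Helper2.SzLaw1

set_option autoImplicit false
set_option linter.unusedSectionVars false
set_option linter.unusedSimpArgs false
set_option linter.unusedVariables false

namespace Cfsg.Agent.Helper2.SzLaw

section generic

variable {R : Type*} [CommRing R]

/-- the generic translation matrices -/
def Tt (a A b B : R) : Matrix (Fin 4) (Fin 4) R :=
  !![1, a, a * A + b, a * b + a ^ 2 * A + B; 0, 1, A, b; 0, 0, 1, a; 0, 0, 0, 1]

/-- the generic inversion matrix -/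
def Wt (R : Type*) [CommRing R] : Matrix (Fin 4) (Fin 4) R :=
  !![0, 0, 0, 1; 0, 0, 1, 0; 0, 1, 0, 0; 1, 0, 0, 0]

/-- the matrix of a generator -/
def Gp (x y : R) (i : ℕ) : Matrix (Fin 4) (Fin 4) R :=
  Tt (x ^ (2 * i + 1)) (y ^ (2 * i + 1)) 0 0 * Wt R * Tt (x ^ (2 * i + 2)) (y ^ (2 * i + 2)) 0 0

/-- the matrix of the inverse of a generator -/
def Gm (x y : R) (i : ℕ) : Matrix (Fin 4) (Fin 4) R :=
  Tt (x ^ (2 * i + 2)) (y ^ (2 * i + 2)) (y ^ (2 * i + 2) * x ^ (2 * i + 2))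
      ((x ^ (2 * i + 2)) ^ 2 * y ^ (2 * i + 2)) * Wt R *
    Tt (x ^ (2 * i + 1)) (y ^ (2 * i + 1)) (y ^ (2 * i + 1) * x ^ (2 * i + 1))
      ((x ^ (2 * i + 1)) ^ 2 * y ^ (2 * i + 1))

/-- the matrix of a letter -/
def Gl (x y : R) (l : ℕ × Bool) : Matrix (Fin 4) (Fin 4) R :=
  if l.2 then Gp x y l.1 else Gm x y l.1

/-- the matrix of a word -/
def Wd (x y : R) (L : List (ℕ × Bool)) : Matrix (Fin 4) (Fin 4) R :=
  (L.map (Gl x y)).prod

variable {R' : Type*} [CommRing R'] (f : R →+* R')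

theorem Tt_map (a A b B : R) : (Tt a A b B).map f = Tt (f a) (f A) (f b) (f B) := by
  ext i j
  fin_cases i <;> fin_cases j <;> simp [Tt]

theorem Wt_map : (Wt R).map f = Wt R' := by
  ext i j
  fin_cases i <;> fin_cases j <;> simp [Wt]

theorem Gp_map (x y : R) (i : ℕ) : (Gp x y i).map f = Gp (f x) (f y) i := by
  unfold Gp
  rw [Matrix.map_mul, Matrix.map_mul, Tt_map, Tt_map, Wt_map]
  simp only [map_pow, map_zero]

theorem Gm_map (x y : R) (i : ℕ) : (Gm x y i).map f = Gm (f x) (f y) i := by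
  unfold Gm
  rw [Matrix.map_mul, Matrix.map_mul, Tt_map, Tt_map, Wt_map]
  simp only [map_pow, map_mul]

theorem Gl_map (x y : R) (l : ℕ × Bool) : (Gl x y l).map f = Gl (f x) (f y) l := by
  unfold Gl
  split_ifs
  · exact Gp_map f x y _
  · exact Gm_map f x y _

theorem Wd_map (x y : R) (L : List (ℕ × Bool)) : (Wd x y L).map f = Wd (f x) (f y) L := by
  unfold Wd
  induction L with
  | nil =>
    simp only [List.map_nil, List.prod_nil]
    exact Matrix.map_one f (map_zero f) (map_one f)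
  | cons l L ih =>
    simp only [List.map_cons, List.prod_cons]
    rw [Matrix.map_mul, ih, Gl_map]

theorem Wd_nil (x y : R) : Wd x y [] = 1 := rfl

theorem Wd_cons (x y : R) (l : ℕ × Bool) (L : List (ℕ × Bool)) :
    Wd x y (l :: L) = Gl x y l * Wd x y L := by
  unfold Wd
  simp only [List.map_cons, List.prod_cons]

end generic

section special

open Polynomial

variable {F : Type*} [Field F]

/-- the projection to the two middle coordinates -/
noncomputable def Psel (F : Type*) [Field F] : Matrix (Fin 4) (Fin 4) F[X] :=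
  !![0, 0, 0, 0; 0, 1, 0, 0; 0, 0, 1, 0; 0, 0, 0, 0]

/-- the middle block embedding -/
noncomputable def Emb (H : Matrix (Fin 2) (Fin 2) F[X]) : Matrix (Fin 4) (Fin 4) F[X] :=
  !![0, 0, 0, 0; 0, H 0 0, H 0 1, 0; 0, H 1 0, H 1 1, 0; 0, 0, 0, 0]

theorem Emb_mul (H H' : Matrix (Fin 2) (Fin 2) F[X]) : Emb (H * H') = Emb H * Emb H' := by
  ext i j
  fin_cases i <;> fin_cases j <;>
    simp [Emb, Matrix.mul_apply, Fin.sum_univ_four, Fin.sum_univ_two]

theorem Psel_Tt (A : F[X]) : Psel F * Tt 0 A 0 0 = Emb (U2 A) * Psel F := by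
  ext i j
  fin_cases i <;> fin_cases j <;>
    simp [Psel, Tt, U2, Emb, Matrix.mul_apply, Fin.sum_univ_four, Fin.sum_univ_two]

theorem Psel_Wt : Psel F * Wt F[X] = Emb (J2 F) * Psel F := by
  ext i j
  fin_cases i <;> fin_cases j <;>
    simp [Psel, Wt, J2, Emb, Matrix.mul_apply, Fin.sum_univ_four, Fin.sum_univ_two]

theorem Psel_mul_three (A B : F[X]) :
    Psel F * (Tt 0 A 0 0 * Wt F[X] * Tt 0 B 0 0) = Emb (U2 A * J2 F * U2 B) * Psel F := by
  rw [Emb_mul, Emb_mul, mul_assoc (Tt 0 A 0 0), ← mul_assoc (Psel F), Psel_Tt, mul_assoc (Emb _),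
    ← mul_assoc (Psel F), Psel_Wt, mul_assoc (Emb (J2 F)), Psel_Tt]
  simp only [mul_assoc]

theorem Psel_Gl (l : ℕ × Bool) : Psel F * Gl (0 : F[X]) X l = Emb (H2 l) * Psel F := by
  obtain ⟨i, b⟩ := l
  cases b
  · have h1 : Gl (0 : F[X]) X (i, false) =
        Tt 0 (X ^ (2 * i + 2)) 0 0 * Wt F[X] * Tt 0 (X ^ (2 * i + 1)) 0 0 := by
      simp [Gl, Gm]
    have h2 : H2 (F := F) (i, false) = U2 (X ^ (2 * i + 2)) * J2 F * U2 (X ^ (2 * i + 1)) := by
      simp [H2, lexp, rexp]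
    rw [h1, h2, Psel_mul_three]
  · have h1 : Gl (0 : F[X]) X (i, true) =
        Tt 0 (X ^ (2 * i + 1)) 0 0 * Wt F[X] * Tt 0 (X ^ (2 * i + 2)) 0 0 := by
      simp [Gl, Gp]
    have h2 : H2 (F := F) (i, true) = U2 (X ^ (2 * i + 1)) * J2 F * U2 (X ^ (2 * i + 2)) := by
      simp [H2, lexp, rexp]
    rw [h1, h2, Psel_mul_three]

theorem Emb_one_mul : Emb (1 : Matrix (Fin 2) (Fin 2) F[X]) * Psel F = Psel F := by
  ext i j
  fin_cases i <;> fin_cases j <;>
    simp [Psel, Emb, Matrix.mul_apply, Fin.sum_univ_four, Fin.sum_univ_two]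

theorem Psel_Wd (L : List (ℕ × Bool)) :
    Psel F * Wd (0 : F[X]) X L = Emb ((L.map (H2 (F := F))).prod) * Psel F := by
  induction L with
  | nil =>
    rw [Wd_nil, mul_one, List.map_nil, List.prod_nil, Emb_one_mul]
  | cons l L ih =>
    rw [Wd_cons, ← mul_assoc, Psel_Gl, mul_assoc, ih, List.map_cons, List.prod_cons,
      Emb_mul, mul_assoc]

theorem Wd_zero_ne_one (L : List (ℕ × Bool)) (hL : FreeGroup.IsReduced L) (hne : L ≠ []) :
    Wd (0 : F[X]) X L ≠ 1 := by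
  intro h
  have h1 := Psel_Wd (F := F) L
  rw [h, mul_one] at h1
  have h2 := congrFun (congrFun h1 2) 1
  have h3 : (Emb ((L.map (H2 (F := F))).prod) * Psel F) 2 1 =
      (L.map (H2 (F := F))).prod 1 0 := by
    simp [Psel, Emb, Matrix.mul_apply, Fin.sum_univ_four, Fin.sum_univ_two]
  have h4 : Psel F 2 1 = 0 := by simp [Psel]
  rw [h3, h4] at h2
  exact prod_ne_one L hL hne h2.symm

/-- the two-variable word matrix is not the identity -/
theorem Wd_X_ne_one (L : List (ℕ × Bool)) (hL : FreeGroup.IsReduced L) (hne : L ≠ []) :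
    Wd (MvPolynomial.X 0 : MvPolynomial (Fin 2) F) (MvPolynomial.X 1) L ≠ 1 := by
  intro h
  have h1 := Wd_map (MvPolynomial.eval₂Hom (Polynomial.C : F →+* F[X]) ![0, X])
    (MvPolynomial.X 0) (MvPolynomial.X 1) L
  rw [h] at h1
  have h2 : (1 : Matrix (Fin 4) (Fin 4) (MvPolynomial (Fin 2) F)).map
      (MvPolynomial.eval₂Hom (Polynomial.C : F →+* F[X]) ![0, X]) = 1 :=
    Matrix.map_one _ (map_zero _) (map_one _)
  rw [h2] at h1
  have h3 : MvPolynomial.eval₂Hom (Polynomial.C : F →+* F[X]) ![0, X] (MvPolynomial.X 0) = 0 := by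
    simp
  have h4 : MvPolynomial.eval₂Hom (Polynomial.C : F →+* F[X]) ![0, X] (MvPolynomial.X 1) = X := by
    simp
  rw [h3, h4] at h1
  exact Wd_zero_ne_one L hL hne h1.symm

end special

end Cfsg.Agent.Helper2.SzLaw
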