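import Mathlib
import Cfsg.Agent.Lib.Helper2.SzLaw2

set_option autoImplicit false
set_option linter.unusedSectionVars false
set_option linter.unusedSimpArgs false
set_option linter.unusedVariables false

namespace Cfsg.Agent.Helper2.SzLaw

open MvPolynomial

variable {F : Type*} [Field F]

/-- all entries have degree at most `d` in each variable -/
def Bd (d : ℕ) (M : Matrix (Fin 4) (Fin 4) (MvPolynomial (Fin 2) F)) : Prop :=
  ∀ v i j, degreeOf v (M i j) ≤ d

theorem Bd_one : Bd 0 (1 : Matrix (Fin 4) (Fin 4) (MvPolynomial (Fin 2) F)) := by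
  intro v i j
  by_cases h : i = j
  · rw [h, Matrix.one_apply_eq, degreeOf_one]
  · rw [Matrix.one_apply_ne h, degreeOf_zero]

theorem Bd_mono {d d' : ℕ} (h : d ≤ d') {M : Matrix (Fin 4) (Fin 4) (MvPolynomial (Fin 2) F)}
    (hM : Bd d M) : Bd d' M := fun v i j => le_trans (hM v i j) h

theorem Bd_mul {d d' : ℕ} {M N : Matrix (Fin 4) (Fin 4) (MvPolynomial (Fin 2) F)}
    (hM : Bd d M) (hN : Bd d' N) : Bd (d + d') (M * N) := by
  intro v i j
  rw [Matrix.mul_apply]
  refine le_trans (degreeOf_sum_le v _ _) ?_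
  apply Finset.sup_le
  intro k _
  refine le_trans (degreeOf_mul_le v _ _) ?_
  exact Nat.add_le_add (hM v i k) (hN v k j)

theorem Bd_Wt : Bd 0 (Wt (MvPolynomial (Fin 2) F)) := by
  intro v i j
  fin_cases i <;> fin_cases j <;> simp [Wt, degreeOf_zero, degreeOf_one]

theorem Bd_Tt {e : ℕ} {a A b B : MvPolynomial (Fin 2) F}
    (ha : ∀ v, degreeOf v a ≤ e) (hA : ∀ v, degreeOf v A ≤ e)
    (hb : ∀ v, degreeOf v b ≤ 2 * e) (hB : ∀ v, degreeOf v B ≤ 3 * e) :
    Bd (3 * e) (Tt a A b B) := by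
  intro v i j
  have h1 : degreeOf v (a * A + b) ≤ 3 * e := by
    refine le_trans (degreeOf_add_le v _ _) (max_le ?_ ?_)
    · refine le_trans (degreeOf_mul_le v _ _) ?_
      have := ha v
      have := hA v
      omega
    · have := hb v
      omega
  have h2 : degreeOf v (a * b + a ^ 2 * A + B) ≤ 3 * e := by
    refine le_trans (degreeOf_add_le v _ _) (max_le ?_ (hB v))
    refine le_trans (degreeOf_add_le v _ _) (max_le ?_ ?_)
    · refine le_trans (degreeOf_mul_le v _ _) ?_
      have := ha v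
      have := hb v
      omega
    · refine le_trans (degreeOf_mul_le v _ _) ?_
      have h3 := degreeOf_pow_le v a 2
      have := ha v
      have := hA v
      omega
  have h3 : degreeOf v a ≤ 3 * e := le_trans (ha v) (by omega)
  have h4 : degreeOf v A ≤ 3 * e := le_trans (hA v) (by omega)
  have h5 : degreeOf v b ≤ 3 * e := le_trans (hb v) (by omega)
  fin_cases i <;> fin_cases j <;> simp [Tt, degreeOf_zero, degreeOf_one] <;> assumption

theorem degreeOf_X_pow_le (v w : Fin 2) (e : ℕ) :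
    degreeOf v ((X w : MvPolynomial (Fin 2) F) ^ e) ≤ e := by
  refine le_trans (degreeOf_pow_le v _ e) ?_
  have : degreeOf v (X w : MvPolynomial (Fin 2) F) ≤ 1 := by
    rw [degreeOf_X]
    split_ifs <;> omega
  calc e * degreeOf v (X w : MvPolynomial (Fin 2) F) ≤ e * 1 := Nat.mul_le_mul_left e this
    _ = e := mul_one e

theorem Bd_Gl (l : ℕ × Bool) :
    Bd (12 * l.1 + 12) (Gl (X 0 : MvPolynomial (Fin 2) F) (X 1) l) := by
  obtain ⟨i, b⟩ := l
  cases b
  · have h1 : Gl (X 0 : MvPolynomial (Fin 2) F) (X 1) (i, false) = Gm (X 0) (X 1) i := by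
      simp [Gl]
    rw [h1]
    unfold Gm
    have hT : ∀ e : ℕ, Bd (3 * e) (Tt ((X 0 : MvPolynomial (Fin 2) F) ^ e) ((X 1) ^ e)
        ((X 1) ^ e * (X 0) ^ e) (((X 0) ^ e) ^ 2 * (X 1) ^ e)) := by
      intro e
      apply Bd_Tt
      · intro v; exact degreeOf_X_pow_le v 0 e
      · intro v; exact degreeOf_X_pow_le v 1 e
      · intro v
        refine le_trans (degreeOf_mul_le v _ _) ?_
        have := degreeOf_X_pow_le (F := F) v 0 e
        have := degreeOf_X_pow_le (F := F) v 1 e
        omega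
      · intro v
        refine le_trans (degreeOf_mul_le v _ _) ?_
        have h3 := degreeOf_pow_le v ((X 0 : MvPolynomial (Fin 2) F) ^ e) 2
        have := degreeOf_X_pow_le (F := F) v 0 e
        have := degreeOf_X_pow_le (F := F) v 1 e
        omega
    have := Bd_mul (Bd_mul (hT (2 * i + 2)) Bd_Wt) (hT (2 * i + 1))
    exact Bd_mono (by simp only; omega) this
  · have h1 : Gl (X 0 : MvPolynomial (Fin 2) F) (X 1) (i, true) = Gp (X 0) (X 1) i := by
      simp [Gl]
    rw [h1]
    unfold Gp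
    have hT : ∀ e : ℕ, Bd (3 * e) (Tt ((X 0 : MvPolynomial (Fin 2) F) ^ e) ((X 1) ^ e) 0 0) := by
      intro e
      apply Bd_Tt
      · intro v; exact degreeOf_X_pow_le v 0 e
      · intro v; exact degreeOf_X_pow_le v 1 e
      · intro v; rw [degreeOf_zero]; omega
      · intro v; rw [degreeOf_zero]; omega
    have := Bd_mul (Bd_mul (hT (2 * i + 1)) Bd_Wt) (hT (2 * i + 2))
    exact Bd_mono (by simp only; omega) this

theorem Bd_Wd (L : List (ℕ × Bool)) (n : ℕ) (hn : ∀ l ∈ L, l.1 ≤ n) :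
    Bd (L.length * (12 * n + 12)) (Wd (X 0 : MvPolynomial (Fin 2) F) (X 1) L) := by
  induction L with
  | nil =>
    rw [Wd_nil]
    exact Bd_mono (Nat.zero_le _) Bd_one
  | cons l L ih =>
    rw [Wd_cons]
    have h1 := Bd_Gl (F := F) l
    have h2 := ih (fun l' hl' => hn l' (List.mem_cons_of_mem _ hl'))
    have h3 := Bd_mul h1 h2
    have h4 := hn l List.mem_cons_self
    refine Bd_mono ?_ h3
    have h5 : (l :: L).length * (12 * n + 12) = L.length * (12 * n + 12) + (12 * n + 12) := by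
      rw [List.length_cons, add_one_mul]
    rw [h5]
    have : 12 * l.1 + 12 ≤ 12 * n + 12 := by omega
    omega

theorem digits_inj {θ a b a' b' : ℕ} (ha : a < θ) (ha' : a' < θ)
    (h : a + θ * b = a' + θ * b') : a = a' ∧ b = b' := by
  have h1 : (a + θ * b) % θ = (a' + θ * b') % θ := by rw [h]
  rw [Nat.add_mul_mod_self_left, Nat.add_mul_mod_self_left, Nat.mod_eq_of_lt ha,
    Nat.mod_eq_of_lt ha'] at h1
  subst h1
  have hθ : 0 < θ := by omega
  have h2 : θ * b = θ * b' := by omega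
  exact ⟨rfl, Nat.eq_of_mul_eq_mul_left hθ h2⟩

theorem eq_zero_of_vanish {F : Type*} [Field F] [Fintype F] {θ d : ℕ}
    (P : MvPolynomial (Fin 2) F) (hdeg : ∀ v, degreeOf v P ≤ d) (hdθ : d < θ)
    (hq : d + θ * d < Fintype.card F)
    (hvan : ∀ a : F, eval ![a, a ^ θ] P = 0) : P = 0 := by
  classical
  obtain ⟨g, hg⟩ : ∃ g : Fin 2 → Polynomial F, g = ![Polynomial.X, Polynomial.X ^ θ] := ⟨_, rfl⟩
  obtain ⟨Q, hQ⟩ : ∃ Q : Polynomial F, Q = eval₂ Polynomial.C g P := ⟨_, rfl⟩
  have hsupp : ∀ m ∈ P.support, ∀ v, m v ≤ d := by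
    intro m hm v
    exact (degreeOf_le_iff.1 (hdeg v)) m hm
  have hterm : ∀ m : Fin 2 →₀ ℕ, Polynomial.C (P.coeff m) * ∏ i, g i ^ m i =
      Polynomial.C (P.coeff m) * Polynomial.X ^ (m 0 + θ * m 1) := by
    intro m
    rw [Fin.prod_univ_two, hg]
    simp only [Matrix.cons_val_zero, Matrix.cons_val_one]
    rw [← pow_mul, ← pow_add]
  have hQ' : Q = ∑ m ∈ P.support, Polynomial.C (P.coeff m) * Polynomial.X ^ (m 0 + θ * m 1) := by
    rw [hQ, eval₂_eq']
    exact Finset.sum_congr rfl (fun m _ => hterm m)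
  -- evaluation
  have heval : ∀ a : F, Polynomial.eval a Q = 0 := by
    intro a
    have h1 := eval₂_comp_left (Polynomial.evalRingHom a) (Polynomial.C : F →+* Polynomial F) g P
    have h2 : (Polynomial.evalRingHom a).comp (Polynomial.C : F →+* Polynomial F) =
        RingHom.id F := by
      ext x
      simp
    have h3 : (Polynomial.evalRingHom a) ∘ g = ![a, a ^ θ] := by
      funext i
      fin_cases i <;> simp [hg]
    rw [h2, h3, eval₂_id, hvan a] at h1
    rw [hQ]
    exact h1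
  -- degree
  have hdegQ : Q.natDegree ≤ d + θ * d := by
    rw [hQ']
    apply Polynomial.natDegree_sum_le_of_forall_le
    intro m hm
    refine le_trans (Polynomial.natDegree_C_mul_X_pow_le _ _) ?_
    exact Nat.add_le_add (hsupp m hm 0) (Nat.mul_le_mul_left θ (hsupp m hm 1))
  have hQ0 : Q = 0 := by
    apply Polynomial.eq_zero_of_natDegree_lt_card_of_eval_eq_zero Q Function.injective_id heval
    exact lt_of_le_of_lt hdegQ hq
  by_contra hP
  obtain ⟨m₀, hm₀⟩ : ∃ m₀, m₀ ∈ P.support := by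
    by_contra hno
    apply hP
    rw [← support_eq_empty]
    exact Finset.eq_empty_of_forall_notMem (fun m hm => hno ⟨m, hm⟩)
  have hc : Q.coeff (m₀ 0 + θ * m₀ 1) = P.coeff m₀ := by
    rw [hQ', Polynomial.finsetSum_coeff]
    rw [Finset.sum_eq_single m₀]
    · rw [Polynomial.coeff_C_mul_X_pow, if_pos rfl]
    · intro m hm hne
      rw [Polynomial.coeff_C_mul_X_pow, if_neg]
      intro heq
      apply hne
      have h1 := digits_inj (lt_of_le_of_lt (hsupp m₀ hm₀ 0) hdθ)
        (lt_of_le_of_lt (hsupp m hm 0) hdθ) heq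
      ext v
      fin_cases v
      · exact h1.1.symm
      · exact h1.2.symm
    · intro hno
      exact absurd hm₀ hno
  rw [hQ0, Polynomial.coeff_zero] at hc
  exact (mem_support_iff.1 hm₀) hc.symm

/-- some point of the curve gives a matrix different from the identity -/
theorem exists_Wd_ne_one [Fintype F] {θ d : ℕ} (L : List (ℕ × Bool))
    (hL : FreeGroup.IsReduced L) (hne : L ≠ []) (n : ℕ) (hn : ∀ l ∈ L, l.1 ≤ n)
    (hd : L.length * (12 * n + 12) ≤ d) (hdθ : d < θ) (hq : d + θ * d < Fintype.card F) :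
    ∃ a : F, Wd a (a ^ θ) L ≠ 1 := by
  by_contra hno
  have hall : ∀ a : F, Wd a (a ^ θ) L = 1 := by
    intro a
    by_contra h
    exact hno ⟨a, h⟩
  apply Wd_X_ne_one (F := F) L hL hne
  have hB := Bd_mono hd (Bd_Wd (F := F) L n hn)
  refine Matrix.ext (fun i j => ?_)
  rw [← sub_eq_zero]
  apply eq_zero_of_vanish (θ := θ) (d := d) _ _ hdθ hq
  · intro a
    have h1 := Wd_map (eval ![a, a ^ θ]) (X 0 : MvPolynomial (Fin 2) F) (X 1) L
    have h2 : eval ![a, a ^ θ] (X 0 : MvPolynomial (Fin 2) F) = a := by simp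
    have h3 : eval ![a, a ^ θ] (X 1 : MvPolynomial (Fin 2) F) = a ^ θ := by simp
    rw [h2, h3, hall a] at h1
    have h4 := congrFun (congrFun h1 i) j
    rw [Matrix.map_apply] at h4
    rw [map_sub, h4]
    by_cases hij : i = j
    · rw [hij, Matrix.one_apply_eq, Matrix.one_apply_eq, map_one, sub_self]
    · rw [Matrix.one_apply_ne hij, Matrix.one_apply_ne hij, map_zero, sub_self]
  · intro v
    refine le_trans (degreeOf_sub_le v _ _) (max_le (hB v i j) ?_)
    exact le_trans (Bd_one v i j) (Nat.zero_le _)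

end Cfsg.Agent.Helper2.SzLaw
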