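import Mathlib
import Cfsg.Agent.Lib.Helper2.SzLaw3
import Cfsg.Agent.Lib.Helper2.SzBridge
import Cfsg.Agent.Lib.Helper2.SzBorelSub
import Cfsg.Agent.Lib.Helper2.SzAut2

set_option autoImplicit false
set_option linter.unusedSectionVars false
set_option linter.unusedSimpArgs false
set_option linter.unusedVariables false

namespace Cfsg.Agent.Helper2.Sz

open Matrix Cfsg.Agent.S0335 Cfsg.Agent.Helper2.SzLaw

variable {F : Type*} [Field F] {m : ℕ} (S : SzData F m)

/-- the underlying matrix, as a monoid homomorphism -/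
def toMat (F : Type*) [Field F] (m : ℕ) : Cfsg.Sz F m →* Matrix (Fin 4) (Fin 4) F where
  toFun g := ((g : SpecialLinearGroup (Fin 4) F) : Matrix (Fin 4) (Fin 4) F)
  map_one' := rfl
  map_mul' _ _ := rfl

namespace SzData

variable [Fintype F]

/-- the elements substituted into the word -/
def lawGen (a : F) (i : ℕ) : Cfsg.Sz F m :=
  S.TgSz (a ^ (2 * i + 1)) 0 * S.WgSz * S.TgSz (a ^ (2 * i + 2)) 0

theorem toMat_TgSz (a b : F) : toMat F m (S.TgSz a b) = Tt a (S.s a) b (S.s b) := by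
  show Tm S.s a b = _
  unfold Tm Tt ff
  rfl

theorem toMat_WgSz : toMat F m S.WgSz = Wt F := rfl

theorem toMat_lawGen (a : F) (i : ℕ) : toMat F m (S.lawGen a i) = Gp a (S.s a) i := by
  unfold lawGen Gp
  rw [map_mul, map_mul, toMat_TgSz, toMat_TgSz, toMat_WgSz]
  simp only [map_pow, map_zero]

theorem toMat_lawGen_inv (a : F) (i : ℕ) : toMat F m (S.lawGen a i)⁻¹ = Gm a (S.s a) i := by
  unfold lawGen Gm
  rw [_root_.mul_inv_rev, _root_.mul_inv_rev, S.WgSz_inv, S.TgSz_inv, S.TgSz_inv, ← mul_assoc,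
    map_mul, map_mul, toMat_TgSz, toMat_TgSz, toMat_WgSz]
  simp only [map_pow, map_zero, map_mul, zero_add, S.hs]
  rw [pow_right_comm a 2 (2 * i + 2), pow_right_comm a 2 (2 * i + 1)]

theorem toMat_lift (a : F) (L : List (ℕ × Bool)) :
    toMat F m (FreeGroup.lift (S.lawGen a) (FreeGroup.mk L)) = Wd a (S.s a) L := by
  rw [FreeGroup.lift_mk, map_list_prod, List.map_map]
  unfold Wd
  congr 1
  apply List.map_congr_left
  intro l _
  obtain ⟨i, b⟩ := l
  cases b
  · simp only [Function.comp, cond_false, Gl]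
    rw [toMat_lawGen_inv]
    simp
  · simp only [Function.comp, cond_true, Gl]
    rw [toMat_lawGen]
    simp

theorem toMat_injective : Function.Injective (toMat F m) := by
  intro g h hgh
  apply Subtype.ext
  apply Subtype.ext
  exact hgh

end SzData

theorem exists_bound (L : List (ℕ × Bool)) : ∃ n : ℕ, ∀ l ∈ L, l.1 ≤ n := by
  induction L with
  | nil => exact ⟨0, fun l hl => absurd hl List.not_mem_nil⟩
  | cons l L ih =>
    obtain ⟨n, hn⟩ := ih
    refine ⟨max l.1 n, ?_⟩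
    intro l' hl'
    rcases List.mem_cons.1 hl' with h | h
    · rw [h]; exact le_max_left _ _
    · exact le_trans (hn l' h) (le_max_right _ _)

/-- a nontrivial word is not a law of the large Suzuki groups -/
theorem law_fails (w : FreeGroup ℕ) (hw : w ≠ 1) :
    ∃ N : ℕ, ∀ (F : Type*) [Field F] [Fintype F] (m : ℕ), 1 ≤ m → N ≤ m →
      Fintype.card F = 2 ^ (2 * m + 1) →
      ∃ f : ℕ → ↥(Cfsg.Lie.Sz F (2 ^ (m + 1))), FreeGroup.lift f w ≠ 1 := by
  obtain ⟨L, hLdef⟩ : ∃ L, L = w.toWord := ⟨_, rfl⟩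
  have hL : FreeGroup.IsReduced L := by rw [hLdef]; exact FreeGroup.isReduced_toWord
  have hne : L ≠ [] := by
    rw [hLdef]
    intro h
    exact hw (FreeGroup.toWord_eq_nil_iff.1 h)
  have hwL : w = FreeGroup.mk L := by rw [hLdef]; exact FreeGroup.mk_toWord.symm
  obtain ⟨n, hn⟩ := exists_bound L
  obtain ⟨d, hd⟩ : ∃ d, d = L.length * (12 * n + 12) := ⟨_, rfl⟩
  refine ⟨d + 1, ?_⟩
  intro F _ _ m hm hNm hF
  obtain ⟨S⟩ := nonempty_szData (m := m) hF
  obtain ⟨e⟩ := nonempty_bridge (F := F) hm hF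
  have h2m : d + 1 ≤ 2 ^ m := le_trans hNm (Nat.lt_two_pow_self).le
  have hθ : d < 2 ^ (m + 1) := by
    have : 2 ^ m ≤ 2 ^ (m + 1) := Nat.pow_le_pow_right (by norm_num) (Nat.le_succ m)
    omega
  have hq : d + 2 ^ (m + 1) * d < Fintype.card F := by
    rw [hF]
    have h1 : 2 ^ (2 * m + 1) = 2 ^ (m + 1) * 2 ^ m := by
      rw [← pow_add]
      congr 1
      omega
    rw [h1]
    calc d + 2 ^ (m + 1) * d < 2 ^ (m + 1) + 2 ^ (m + 1) * d := by omega
      _ = 2 ^ (m + 1) * (d + 1) := by ring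
      _ ≤ 2 ^ (m + 1) * 2 ^ m := Nat.mul_le_mul_left _ h2m
  obtain ⟨a, ha⟩ := exists_Wd_ne_one (F := F) L hL hne n hn (le_of_eq hd.symm) hθ hq
  refine ⟨fun i => e (S.lawGen a i), ?_⟩
  intro h1
  have h2 : e (FreeGroup.lift (S.lawGen a) w) = FreeGroup.lift (fun i => e (S.lawGen a i)) w :=
    FreeGroup.lift_unique (e.toMonoidHom.comp (FreeGroup.lift (S.lawGen a)))
      (fun x => by simp)
  rw [h1] at h2
  have h3 : FreeGroup.lift (S.lawGen a) w = 1 := by
    apply e.injective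
    rw [h2, map_one]
  apply ha
  rw [← S.hpow, ← S.toMat_lift, ← hwL, h3, map_one]

end Cfsg.Agent.Helper2.Sz
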