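import Mathlib
import Cfsg.Agent.Lib.Helper2.SzPart
import Cfsg.Agent.Lib.Helper2.AffExt
import Cfsg.Agent.Lib.Helper2.SzBridge

set_option autoImplicit false
set_option linter.unusedSectionVars false
set_option linter.unusedSimpArgs false

namespace Cfsg.Agent.Helper2.Sz

open Matrix Cfsg.Agent.S0335
open scoped Pointwise

/-- a copy of `Fin n` without algebraic structure -/
structure FinCopy (n : ℕ) : Type where
  /-- the underlying element -/
  val : Fin n

/-- the equivalence with `Fin n` -/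
def FinCopy.equivFin (n : ℕ) : FinCopy n ≃ Fin n where
  toFun x := x.val
  invFun i := ⟨i⟩
  left_inv _ := rfl
  right_inv _ := rfl

instance instFintypeFinCopy (n : ℕ) : Fintype (FinCopy n) :=
  Fintype.ofEquiv _ (FinCopy.equivFin n).symm

theorem FinCopy.card (n : ℕ) : Fintype.card (FinCopy n) = n := by
  rw [Fintype.card_congr (FinCopy.equivFin n), Fintype.card_fin]

variable {F : Type*} [Field F] {m : ℕ} (S : SzData F m)

namespace SzData

theorem unit_eq_one_of' {u : Fˣ} (h : S.s u * (u : F) = 1) : u = 1 := by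
  apply Units.ext
  rw [Units.val_one]
  have h1 := congrArg S.s h
  rw [map_mul, S.hs, map_one] at h1
  have h2 : (u : F) * ((u : F) * S.s u) = u := by rw [mul_comm (u : F) (S.s u), h, mul_one]
  rw [← h2]
  linear_combination h1

/-- a nontrivial element of the diagonal torus fixes no nonzero vector -/
theorem Dm_fix_eq_zero {u : Fˣ} (hu : u ≠ 1) {v : Fin 4 → F} (hv : Dm S.s (u : F) *ᵥ v = v) :
    v = 0 := by
  have hu0 := u.ne_zero
  have hsu0 : S.s u ≠ 0 := (map_ne_zero S.s).2 hu0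
  have hu1 : (u : F) ≠ 1 := fun h => hu (Units.ext h)
  have hsu1 : S.s u * (u : F) ≠ 1 := fun h => hu (S.unit_eq_one_of' h)
  have h0 : S.s u * (u : F) * v 0 = v 0 := by
    have := congrFun hv 0
    simpa [Dm, Matrix.mulVec, dotProduct, Fin.sum_univ_four] using this
  have h1 : (u : F) * v 1 = v 1 := by
    have := congrFun hv 1
    simpa [Dm, Matrix.mulVec, dotProduct, Fin.sum_univ_four] using this
  have h2 : (u : F)⁻¹ * v 2 = v 2 := by
    have := congrFun hv 2
    simpa [Dm, Matrix.mulVec, dotProduct, Fin.sum_univ_four] using this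
  have h3 : (S.s u * (u : F))⁻¹ * v 3 = v 3 := by
    have := congrFun hv 3
    simpa [Dm, Matrix.mulVec, dotProduct, Fin.sum_univ_four] using this
  ext i
  fin_cases i
  · show v 0 = 0
    have : (S.s u * (u : F) - 1) * v 0 = 0 := by linear_combination h0
    rcases mul_eq_zero.1 this with h | h
    · exact absurd (sub_eq_zero.1 h) hsu1
    · exact h
  · show v 1 = 0
    have : ((u : F) - 1) * v 1 = 0 := by linear_combination h1
    rcases mul_eq_zero.1 this with h | h
    · exact absurd (sub_eq_zero.1 h) hu1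
    · exact h
  · show v 2 = 0
    have : ((u : F) - 1) * v 2 = 0 := by
      have h4 : (u : F) * ((u : F)⁻¹ * v 2) = v 2 := by rw [← mul_assoc, mul_inv_cancel₀ hu0, one_mul]
      rw [h2] at h4
      linear_combination h4
    rcases mul_eq_zero.1 this with h | h
    · exact absurd (sub_eq_zero.1 h) hu1
    · exact h
  · show v 3 = 0
    have hne : S.s u * (u : F) ≠ 0 := mul_ne_zero hsu0 hu0
    have : (S.s u * (u : F) - 1) * v 3 = 0 := by
      have h4 : (S.s u * (u : F)) * ((S.s u * (u : F))⁻¹ * v 3) = v 3 := by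
        rw [← mul_assoc, mul_inv_cancel₀ hne, one_mul]
      rw [h3] at h4
      linear_combination h4
    rcases mul_eq_zero.1 this with h | h
    · exact absurd (sub_eq_zero.1 h) hsu1
    · exact h

section group
variable [Fintype F]

include S in
/-- elements of odd prime order fix no nonzero vector of the natural module -/
theorem fixed_vector_eq_zero (hm : 1 ≤ m) (hF : Fintype.card F = 2 ^ (2 * m + 1))
    {g : Cfsg.Sz F m} {s : ℕ} (hs : s.Prime) (hs2 : s ≠ 2) (hg : orderOf g = s)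
    {v : Fin 4 → F} (hv : (g : SpecialLinearGroup (Fin 4) F).1 *ᵥ v = v) : v = 0 := by
  have hfact : Fact s.Prime := ⟨hs⟩
  have hsG : s ∣ (2 ^ (2 * m + 1)) ^ 2 * ((2 ^ (2 * m + 1)) ^ 2 + 1) * (2 ^ (2 * m + 1) - 1) := by
    rw [← S.card_Sz hm hF, ← hg]
    exact orderOf_dvd_natCard _
  rcases prime_dvd_order hs hs2 ⟨2 * m + 1, rfl⟩ hsG with h | h
  · exact IrrMat.eq_zero_of_fix (S.irrData_of_orderOf hF hs hs2 h hg) hv
  · obtain ⟨k, u₀, hu₀1, hu₀, -⟩ := S.exists_conj_split hm hF hs2 h hg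
    have hmat : (k : SpecialLinearGroup (Fin 4) F)⁻¹.1 * (g : SpecialLinearGroup (Fin 4) F).1 *
        (k : SpecialLinearGroup (Fin 4) F).1 = Dm S.s (u₀ : F) := by
      have := congrArg (fun z : Cfsg.Sz F m => (z : SpecialLinearGroup (Fin 4) F).1) hu₀
      exact this
    have hkk : (k : SpecialLinearGroup (Fin 4) F).1 * (k : SpecialLinearGroup (Fin 4) F)⁻¹.1 = 1 := by
      rw [← Matrix.SpecialLinearGroup.coe_mul, mul_inv_cancel]; rfl
    have hkk' : (k : SpecialLinearGroup (Fin 4) F)⁻¹.1 * (k : SpecialLinearGroup (Fin 4) F).1 = 1 := by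
      rw [← Matrix.SpecialLinearGroup.coe_mul, inv_mul_cancel]; rfl
    have h1 : Dm S.s (u₀ : F) *ᵥ ((k : SpecialLinearGroup (Fin 4) F)⁻¹.1 *ᵥ v) =
        (k : SpecialLinearGroup (Fin 4) F)⁻¹.1 *ᵥ v := by
      rw [← hmat, Matrix.mulVec_mulVec, mul_assoc, mul_assoc, hkk, mul_one,
        ← Matrix.mulVec_mulVec, hv]
    have h2 := S.Dm_fix_eq_zero hu₀1 h1
    have h3 : v = (k : SpecialLinearGroup (Fin 4) F).1 *ᵥ
        ((k : SpecialLinearGroup (Fin 4) F)⁻¹.1 *ᵥ v) := by
      rw [Matrix.mulVec_mulVec, hkk, Matrix.one_mulVec]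
    rw [h3, h2, Matrix.mulVec_zero]

include S in
/-- groups of arbitrarily large order with the prime graph of the Suzuki group -/
theorem exists_same_prime_graph (hm : 1 ≤ m) (hF : Fintype.card F = 2 ^ (2 * m + 1)) (N : ℕ) :
    ∃ (H : Type) (_ : Group H) (_ : Fintype H), N < Fintype.card H ∧
      (∀ r : ℕ, r.Prime → (r ∣ Nat.card (Cfsg.Sz F m) ↔ r ∣ Nat.card H)) ∧
      ∀ r s : ℕ, r.Prime → s.Prime → r ≠ s →
        ((∃ x : Cfsg.Sz F m, orderOf x = r * s) ↔ ∃ y : H, orderOf y = r * s) := by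
  have hW : ∀ w : Fin N → Fin 4 → F, w + w = 0 := by
    intro w
    ext i j
    exact S.add_self _
  have hfpf : ∀ (g : Cfsg.Sz F m) (s : ℕ), s.Prime → s ≠ 2 → orderOf g = s →
      ∀ w : Fin N → Fin 4 → F, g • w = w → w = 0 := by
    intro g s hs hs2 hg w hw
    ext i
    have h1 : (g : SpecialLinearGroup (Fin 4) F).1 *ᵥ w i = w i := congrFun hw i
    rw [S.fixed_vector_eq_zero hm hF hs hs2 hg h1]
    rfl
  have hcard : Nat.card (AffExt.Aff (Cfsg.Sz F m) (Fin N → Fin 4 → F)) =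
      Nat.card (Fin N → Fin 4 → F) * Nat.card (Cfsg.Sz F m) := AffExt.card_aff
  have hcardW : Nat.card (Fin N → Fin 4 → F) = (2 ^ ((2 * m + 1) * 4)) ^ N := by
    rw [Nat.card_fun, Nat.card_fun, Nat.card_eq_fintype_card, Nat.card_eq_fintype_card,
      Nat.card_eq_fintype_card, Fintype.card_fin, Fintype.card_fin, hF, ← pow_mul, ← pow_mul,
      ← pow_mul, mul_assoc]
  obtain ⟨n, hn⟩ : ∃ n, n = Nat.card (AffExt.Aff (Cfsg.Sz F m) (Fin N → Fin 4 → F)) := ⟨_, rfl⟩
  have hnpos : 0 < n := by rw [hn]; exact Nat.card_pos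
  have e' : AffExt.Aff (Cfsg.Sz F m) (Fin N → Fin 4 → F) ≃ FinCopy n := by
    rw [hn]; exact (Finite.equivFin _).trans (FinCopy.equivFin _).symm
  letI : Group (FinCopy n) := e'.symm.group
  have e : FinCopy n ≃* AffExt.Aff (Cfsg.Sz F m) (Fin N → Fin 4 → F) := e'.symm.mulEquiv
  refine ⟨FinCopy n, inferInstance, inferInstance, ?_, ?_, ?_⟩
  · rw [FinCopy.card, hn, hcard, hcardW]
    have h1 : N < 2 ^ N := Nat.lt_two_pow_self
    have h2 : 2 ^ N ≤ (2 ^ ((2 * m + 1) * 4)) ^ N := by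
      apply Nat.pow_le_pow_left
      calc 2 = 2 ^ 1 := by norm_num
        _ ≤ 2 ^ ((2 * m + 1) * 4) := Nat.pow_le_pow_right (by norm_num) (by omega)
    have h3 : 0 < Nat.card (Cfsg.Sz F m) := Nat.card_pos
    calc N < 2 ^ N := h1
      _ ≤ (2 ^ ((2 * m + 1) * 4)) ^ N := h2
      _ ≤ (2 ^ ((2 * m + 1) * 4)) ^ N * Nat.card (Cfsg.Sz F m) := Nat.le_mul_of_pos_right _ h3
  · intro r hr
    rw [Nat.card_eq_fintype_card (α := FinCopy n), FinCopy.card, hn, hcard, hcardW]
    constructor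
    · intro h
      exact Dvd.dvd.mul_left h _
    · intro h
      rcases (Nat.Prime.dvd_mul hr).1 h with h | h
      · have h1 := hr.dvd_of_dvd_pow (hr.dvd_of_dvd_pow h)
        have h2 : r = 2 := (Nat.prime_dvd_prime_iff_eq hr Nat.prime_two).1 h1
        rw [h2, S.card_Sz hm hF]
        apply Dvd.dvd.mul_right
        apply Dvd.dvd.mul_right
        exact Dvd.dvd.pow (dvd_pow_self 2 (by omega)) (by norm_num)
      · exact h
  · intro r s hr hs hrs
    rw [← AffExt.exists_orderOf_iff hW hfpf hr hs hrs]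
    constructor
    · rintro ⟨y, hy⟩
      exact ⟨e.symm y, by rw [MulEquiv.orderOf_eq, hy]⟩
    · rintro ⟨y, hy⟩
      exact ⟨e y, by rw [MulEquiv.orderOf_eq, hy]⟩

end group

end SzData

end Cfsg.Agent.Helper2.Sz
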