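import Mathlib

set_option autoImplicit false

namespace Cfsg.Agent.Helper2.SzRep

open Finset

/-- operators `X i` which are eigenvectors, for pairwise distinct characters, of the conjugation
action of an invertible family `Y c` are linearly independent; hence there are at most
`(dim W)^2` of them -/
theorem card_le_finrank_sq {W A ι : Type*} [AddCommGroup W] [Module ℂ W] [FiniteDimensional ℂ W]
    [AddCommGroup A] [Fintype A] [Fintype ι]
    (X : ι → W →ₗ[ℂ] W) (Y Y' : A → W →ₗ[ℂ] W) (χ : ι → AddChar A ℂ)
    (hX : ∀ i, X i ≠ 0) (hY : ∀ c, Y c * Y' c = 1)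
    (hrel : ∀ i c, Y c * X i = χ i c • (X i * Y c))
    (hχ : Function.Injective χ) : Fintype.card ι ≤ (Module.finrank ℂ W) ^ 2 := by
  classical
  have hli : LinearIndependent ℂ X := by
    rw [Fintype.linearIndependent_iff]
    intro g hg j
    -- conjugating by `Y c`
    have h1 : ∀ c : A, ∑ i, (g i * χ i c) • X i = 0 := by
      intro c
      have h2 : Y c * (∑ i, g i • X i) * Y' c = 0 := by rw [hg, mul_zero, zero_mul]
      rw [Finset.mul_sum, Finset.sum_mul] at h2
      rw [← h2]
      apply Finset.sum_congr rfl
      intro i _
      rw [mul_smul_comm, hrel, smul_mul_assoc, smul_mul_assoc, mul_assoc, hY, mul_one, smul_smul]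
    have h3 : ∑ c : A, (χ j (-c)) • ∑ i, (g i * χ i c) • X i = 0 := by
      apply Finset.sum_eq_zero
      intro c _
      rw [h1 c, smul_zero]
    simp only [Finset.smul_sum, smul_smul] at h3
    rw [Finset.sum_comm] at h3
    have h4 : ∀ i, ∑ c : A, (χ j (-c) * (g i * χ i c)) • X i =
        if i = j then ((Fintype.card A : ℂ) * g j) • X j else 0 := by
      intro i
      rw [← Finset.sum_smul]
      have h5 : ∑ c : A, χ j (-c) * (g i * χ i c) = g i * ∑ c : A, (χ i / χ j) c := by
        rw [Finset.mul_sum]
        apply Finset.sum_congr rfl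
        intro c _
        rw [AddChar.div_apply]
        ring
      rw [h5, AddChar.sum_eq_ite]
      by_cases hij : i = j
      · subst hij
        rw [if_pos rfl, if_pos (by rw [div_self']; rfl), mul_comm]
      · rw [if_neg hij, if_neg, mul_zero, zero_smul]
        intro h0
        apply hij
        apply hχ
        have h6 : χ i / χ j = 1 := h0
        rwa [div_eq_one] at h6
    simp only [h4] at h3
    rw [Finset.sum_ite_eq' Finset.univ j, if_pos (Finset.mem_univ _)] at h3
    rcases smul_eq_zero.1 h3 with h | h
    · rcases mul_eq_zero.1 h with h | h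
      · exact absurd h (Nat.cast_ne_zero.2 Fintype.card_ne_zero)
      · exact h
    · exact absurd h (hX j)
  have h := hli.fintype_card_le_finrank
  rw [Module.finrank_linearMap] at h
  rw [pow_two]
  exact h

end Cfsg.Agent.Helper2.SzRep
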