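import Mathlib
import Cfsg.Agent.Lib.Helper2.RepWeights
import Cfsg.Agent.Lib.Helper2.SzRep1
import Cfsg.Agent.Lib.Helper2.SzRep2

set_option autoImplicit false
set_option linter.unusedSectionVars false
set_option linter.unusedSimpArgs false
set_option linter.unusedVariables false

namespace Cfsg.Agent.Helper2.Sz

open Cfsg.Agent.Helper2.RepWt

variable {F : Type*} [Field F] [Fintype F] {m : ℕ} (S : SzData F m)
variable {V : Type*} [AddCommGroup V] [Module ℂ V]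
variable (ρ : Representation ℂ (Cfsg.Sz F m) V)

namespace SzData

/-- the action of the centre of the unipotent subgroup -/
noncomputable def zOp (b : F) : V →ₗ[ℂ] V := ρ (S.TgSz 0 b)

theorem zOp_zero : S.zOp ρ 0 = 1 := by
  rw [zOp, S.TgSz_zero, map_one]

theorem zOp_add (a b : F) : S.zOp ρ (a + b) = S.zOp ρ a * S.zOp ρ b := by
  rw [zOp, zOp, zOp, ← map_mul, S.TgSz_mul]
  congr 2
  · rw [add_zero]
  · rw [map_zero, zero_mul, add_zero]

theorem rho_injective_apply (g : Cfsg.Sz F m) : Function.Injective (ρ g) := by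
  intro v w hvw
  have h1 : ρ g⁻¹ (ρ g v) = ρ g⁻¹ (ρ g w) := by rw [hvw]
  rw [← Module.End.mul_apply, ← Module.End.mul_apply, ← map_mul, inv_mul_cancel, map_one] at h1
  exact h1

/-- the unipotent subgroup preserves the weight spaces of its centre -/
theorem TgSz_maps (ψ : AddChar F ℂ) (a b : F) :
    ∀ v ∈ wt (S.zOp ρ) ψ, ρ (S.TgSz a b) v ∈ wt (S.zOp ρ) ψ := by
  intro v hv d
  have h1 : S.TgSz 0 d * S.TgSz a b = S.TgSz a b * S.TgSz 0 d := by
    rw [S.TgSz_mul, S.TgSz_mul]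
    congr 1
    · rw [add_comm]
    · rw [map_zero, zero_mul, mul_zero, add_comm d b]
  show ρ (S.TgSz 0 d) (ρ (S.TgSz a b) v) = _
  rw [← Module.End.mul_apply, ← map_mul, h1, map_mul, Module.End.mul_apply]
  have h2 : ρ (S.TgSz 0 d) v = ψ d • v := hv d
  rw [h2, map_smul]

/-- the restriction of a unipotent element to a weight space -/
noncomputable def xOp (ψ : AddChar F ℂ) (a b : F) :
    wt (S.zOp ρ) ψ →ₗ[ℂ] wt (S.zOp ρ) ψ :=
  (ρ (S.TgSz a b)).restrict (S.TgSz_maps ρ ψ a b)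

theorem xOp_coe (ψ : AddChar F ℂ) (a b : F) (w : wt (S.zOp ρ) ψ) :
    ((S.xOp ρ ψ a b w : wt (S.zOp ρ) ψ) : V) = ρ (S.TgSz a b) (w : V) := rfl

theorem xOp_mul_inv (ψ : AddChar F ℂ) (a : F) :
    S.xOp ρ ψ a 0 * S.xOp ρ ψ a (0 + S.s a * a) = 1 := by
  apply LinearMap.ext
  intro w
  apply Subtype.ext
  rw [Module.End.mul_apply, xOp_coe, xOp_coe, Module.End.one_apply, ← S.TgSz_inv,
    ← Module.End.mul_apply, ← map_mul, mul_inv_cancel, map_one, Module.End.one_apply]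

theorem xOp_rel (ψ : AddChar F ℂ) (a c : F) :
    S.xOp ρ ψ c 0 * S.xOp ρ ψ a 0 =
      S.comChar ψ a c • (S.xOp ρ ψ a 0 * S.xOp ρ ψ c 0) := by
  apply LinearMap.ext
  intro w
  apply Subtype.ext
  rw [LinearMap.smul_apply, Submodule.coe_smul, Module.End.mul_apply, Module.End.mul_apply,
    xOp_coe, xOp_coe, xOp_coe, xOp_coe]
  have h1 : S.TgSz c 0 * S.TgSz a 0 =
      S.TgSz a 0 * S.TgSz c 0 * S.TgSz 0 (S.s c * a + S.s a * c) := by
    rw [S.TgSz_mul, S.TgSz_mul, S.TgSz_mul]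
    congr 1
    · rw [add_zero, add_comm]
    · rw [mul_zero]
      linear_combination - S.add_self (S.s a * c)
  rw [← Module.End.mul_apply, ← map_mul, h1, map_mul, map_mul, Module.End.mul_apply,
    Module.End.mul_apply]
  have h2 : ρ (S.TgSz 0 (S.s c * a + S.s a * c)) (w : V) =
      ψ (S.s c * a + S.s a * c) • (w : V) := w.2 _
  rw [h2, map_smul, map_smul, comChar_apply]

theorem xOp_ne_zero (ψ : AddChar F ℂ) (hψ : wt (S.zOp ρ) ψ ≠ ⊥) (a b : F) :
    S.xOp ρ ψ a b ≠ 0 := by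
  intro h0
  obtain ⟨w, hw, hw0⟩ := Submodule.exists_mem_ne_zero_of_ne_bot hψ
  have h1 : S.xOp ρ ψ a b ⟨w, hw⟩ = 0 := by rw [h0, LinearMap.zero_apply]
  have h2 : ρ (S.TgSz a b) w = 0 := by
    have := congrArg Subtype.val h1
    rwa [xOp_coe] at this
  apply hw0
  apply rho_injective_apply ρ (S.TgSz a b)
  rw [h2, map_zero]

variable [FiniteDimensional ℂ V]

/-- a nonzero weight space of a nontrivial central character has dimension at least `2 ^ m` -/
theorem two_pow_le_finrank_wt (hF : Fintype.card F = 2 ^ (2 * m + 1)) (ψ : AddChar F ℂ)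
    (hψ1 : ψ ≠ 1) (hψ : wt (S.zOp ρ) ψ ≠ ⊥) :
    2 ^ m ≤ Module.finrank ℂ (wt (S.zOp ρ) ψ) := by
  classical
  have hch : ∀ y : {y // y ∈ Finset.univ.image (fun a : F => S.comChar ψ a)},
      ∃ a : F, S.comChar ψ a = y.1 := by
    intro y
    obtain ⟨a, _, ha⟩ := Finset.mem_image.1 y.2
    exact ⟨a, ha⟩
  choose f hf using hch
  have h1 := Cfsg.Agent.Helper2.SzRep.card_le_finrank_sq
    (W := wt (S.zOp ρ) ψ) (A := F)
    (ι := {y // y ∈ Finset.univ.image (fun a : F => S.comChar ψ a)})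
    (fun y => S.xOp ρ ψ (f y) 0) (fun c => S.xOp ρ ψ c 0)
    (fun c => S.xOp ρ ψ c (0 + S.s c * c)) (fun y => y.1)
    (fun y => S.xOp_ne_zero ρ ψ hψ _ _) (fun c => S.xOp_mul_inv ρ ψ c)
    (fun y c => by rw [S.xOp_rel ρ ψ (f y) c, hf y]) Subtype.val_injective
  rw [Fintype.card_coe] at h1
  have h2 := S.card_le_two_mul_image_comChar ψ hψ1
  rw [hF] at h2
  have h3 : (2 ^ m) ^ 2 ≤ (Module.finrank ℂ (wt (S.zOp ρ) ψ)) ^ 2 := by
    have h4 : (2 ^ m) ^ 2 * 2 = 2 ^ (2 * m + 1) := by ring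
    omega
  exact (Nat.pow_le_pow_iff_left (by norm_num)).1 h3

/-- the torus permutes the nontrivial central characters transitively, so their weight spaces
all have the same dimension -/
theorem finrank_wt_le_of_ne_one (ψ₀ ψ : AddChar F ℂ) (hψ₀ : ψ₀ ≠ 1) (hψ : ψ ≠ 1) :
    Module.finrank ℂ (wt (S.zOp ρ) ψ₀) ≤ Module.finrank ℂ (wt (S.zOp ρ) ψ) := by
  classical
  have hprim : ψ.IsPrimitive := AddChar.IsPrimitive.of_ne_one hψ
  have hinj := AddChar.to_mulShift_inj_of_isPrimitive hprim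
  have hbij : Function.Bijective ψ.mulShift := by
    rw [Fintype.bijective_iff_injective_and_card]
    exact ⟨hinj, AddChar.card_eq.symm⟩
  obtain ⟨e, he⟩ := hbij.2 ψ₀
  have he0 : e ≠ 0 := by
    rintro rfl
    apply hψ₀
    rw [← he, AddChar.mulShift_zero]
  obtain ⟨u, hu⟩ := S.exists_unit_eq he0
  apply finrank_wt_le (S.zOp ρ) (ρ (S.DgSz u)) (rho_injective_apply ρ _) (fun b => e * b)
  · intro b
    exact ⟨e⁻¹ * b, mul_inv_cancel_left₀ he0 b⟩
  · intro b v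
    show ρ (S.DgSz u) (ρ (S.TgSz 0 b) v) = ρ (S.TgSz 0 (e * b)) (ρ (S.DgSz u) v)
    rw [← Module.End.mul_apply, ← map_mul, S.DgSz_TgSz, map_mul, Module.End.mul_apply, mul_zero,
      hu]
  · intro a
    rw [← he, AddChar.mulShift_apply]

include S in
/-- every nontrivial complex representation of the Suzuki group has degree at least
`2 ^ m * (q - 1)` -/
theorem min_degree (hm : 1 ≤ m) (hF : Fintype.card F = 2 ^ (2 * m + 1))
    (hρ : ∃ g, ρ g ≠ 1) : 2 ^ m * (2 ^ (2 * m + 1) - 1) ≤ Module.finrank ℂ V := by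
  classical
  have hker : MonoidHom.ker ρ = ⊥ := by
    by_contra h
    have h1 := S.eq_top_of_normal hm hF (MonoidHom.ker ρ) h
    obtain ⟨g, hg⟩ := hρ
    apply hg
    have h2 : g ∈ MonoidHom.ker ρ := by
      rw [h1]
      exact Subgroup.mem_top g
    exact MonoidHom.mem_ker.1 h2
  have hz : S.zOp ρ 1 ≠ 1 := by
    intro h1
    have h2 : S.TgSz 0 1 ∈ MonoidHom.ker ρ := MonoidHom.mem_ker.2 h1
    rw [hker, Subgroup.mem_bot, S.TgSz_eq_one_iff] at h2
    exact one_ne_zero h2.2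
  obtain ⟨ψ₀, hψ₀1, hψ₀⟩ := exists_wt_ne_bot (S.zOp ρ) (S.zOp_zero ρ) (S.zOp_add ρ) (a₁ := 1) hz
  have hψ₀' : ψ₀ ≠ 1 := by
    rintro rfl
    apply hψ₀1
    rw [AddChar.one_apply]
  have hn₀ := S.two_pow_le_finrank_wt ρ hF ψ₀ hψ₀' hψ₀
  have hsum := sum_finrank_le (S.zOp ρ) (S.zOp_zero ρ) (S.zOp_add ρ)
    (Finset.univ.erase (1 : AddChar F ℂ))
  have hcard : (Finset.univ.erase (1 : AddChar F ℂ)).card = 2 ^ (2 * m + 1) - 1 := by
    rw [Finset.card_erase_of_mem (Finset.mem_univ _), Finset.card_univ, AddChar.card_eq, hF]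
  have hle : (Finset.univ.erase (1 : AddChar F ℂ)).card • 2 ^ m ≤
      ∑ ψ ∈ Finset.univ.erase (1 : AddChar F ℂ), Module.finrank ℂ (wt (S.zOp ρ) ψ) := by
    apply Finset.card_nsmul_le_sum
    intro ψ hψ
    have hψ1 : ψ ≠ 1 := (Finset.mem_erase.1 hψ).1
    exact le_trans hn₀ (S.finrank_wt_le_of_ne_one ρ ψ₀ ψ hψ₀' hψ1)
  rw [hcard, smul_eq_mul] at hle
  calc 2 ^ m * (2 ^ (2 * m + 1) - 1) = (2 ^ (2 * m + 1) - 1) * 2 ^ m := mul_comm _ _
    _ ≤ _ := hle
    _ ≤ _ := hsum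

end SzData

end Cfsg.Agent.Helper2.Sz
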