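import Mathlib
import Cfsg.Agent.Lib.Helper2.SzSol3

set_option autoImplicit false
set_option linter.unusedSectionVars false
set_option linter.unusedSimpArgs false
set_option linter.unusedVariables false

namespace Cfsg.Agent.Helper2.Sz

open Matrix Cfsg.Agent.S0335
open scoped Pointwise

variable {F : Type*} [Field F] {m : ℕ} (S : SzData F m)

namespace SzData

section group
variable [Fintype F]

/-- the elements moving infinity which generate a solvable subgroup with `x` -/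
abbrev YSet (x : Cfsg.Sz F m) : Type _ :=
  {y : Cfsg.Sz F m // y • pInf F ≠ pInf F ∧
    Group.IsSolvable (Subgroup.closure ({x, y} : Set (Cfsg.Sz F m)))}

/-- the involutions moving infinity -/
abbrev InvMov (F : Type*) [Field F] (m : ℕ) : Type _ :=
  {t' : Cfsg.Sz F m // t' * t' = 1 ∧ t' • pInf F ≠ pInf F}

/-- the involutions moving infinity whose torus is normalized by `x` -/
abbrev RSet (b : F) (x : Cfsg.Sz F m) : Type _ :=
  {t' : Cfsg.Sz F m // t' * t' = 1 ∧ t' • pInf F ≠ pInf F ∧ Nrm x (S.TgSz 0 b * t')}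

/-- the unipotent part of the torus normalizer -/
def NQ (b : F) (t' : Cfsg.Sz F m) : Subgroup (Cfsg.Sz F m) :=
  Subgroup.normalizer ((Subgroup.centralizer ({S.TgSz 0 b * t'} : Set (Cfsg.Sz F m)) :
    Subgroup (Cfsg.Sz F m)) : Set (Cfsg.Sz F m)) ⊓ S.QSz

theorem ne_one_of_sq {b : F} (hb : b ≠ 0) {x : Cfsg.Sz F m}
    (hx : x = S.TgSz 0 b ∨ x * x = S.TgSz 0 b) : x ≠ 1 := by
  rintro rfl
  rcases hx with h | h
  · exact S.TgSz_zero_ne_one hb h.symm
  · rw [one_mul] at h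
    exact S.TgSz_zero_ne_one hb h.symm

theorem conj_mov {b : F} (hb : b ≠ 0) {y : Cfsg.Sz F m} (hy : y • pInf F ≠ pInf F) :
    (y * S.TgSz 0 b * y⁻¹) • pInf F ≠ pInf F := by
  intro h
  have := S.eq_smul_pInf_of_conj_fix hb S.pInf_mem h
  exact hy this.symm

theorem conj_sq (b : F) (y : Cfsg.Sz F m) :
    (y * S.TgSz 0 b * y⁻¹) * (y * S.TgSz 0 b * y⁻¹) = 1 := by
  calc (y * S.TgSz 0 b * y⁻¹) * (y * S.TgSz 0 b * y⁻¹)
      = y * (S.TgSz 0 b * S.TgSz 0 b) * y⁻¹ := by group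
    _ = 1 := by rw [S.TgSz_zero_mul_self]; group

/-- solvable pairs moving infinity lie in the normalizer of the torus of the product -/
theorem normalizer_of_sol (hm : 1 ≤ m) (hp : (2 * m + 1).Prime)
    (hF : Fintype.card F = 2 ^ (2 * m + 1)) {b : F} (hb : b ≠ 0) {x : Cfsg.Sz F m}
    (hxQ : x ∈ S.QSz) (hx : x = S.TgSz 0 b ∨ x * x = S.TgSz 0 b) {y : Cfsg.Sz F m}
    (hy : y • pInf F ≠ pInf F)
    (hsol : Group.IsSolvable (Subgroup.closure ({x, y} : Set (Cfsg.Sz F m)))) :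
    x ∈ Subgroup.normalizer ((Subgroup.centralizer
      ({S.TgSz 0 b * (y * S.TgSz 0 b * y⁻¹)} : Set (Cfsg.Sz F m)) :
        Subgroup (Cfsg.Sz F m)) : Set (Cfsg.Sz F m)) ∧
    y ∈ Subgroup.normalizer ((Subgroup.centralizer
      ({S.TgSz 0 b * (y * S.TgSz 0 b * y⁻¹)} : Set (Cfsg.Sz F m)) :
        Subgroup (Cfsg.Sz F m)) : Set (Cfsg.Sz F m)) := by
  have hx1 := S.ne_one_of_sq hb hx
  rw [S.isSolvable_closure_iff hm hp hF] at hsol
  rcases hsol with ⟨g₀, hxg, hyg⟩ | ⟨U, hU, hxU, hyU⟩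
  · exfalso
    have h1 := S.eq_pInf_of_mem_QSz_fix hxQ hx1 (S.smul_pInf_mem g₀) hxg
    rw [h1] at hyg
    exact hy hyg
  · have htU : S.TgSz 0 b ∈ Subgroup.normalizer (U : Set (Cfsg.Sz F m)) := by
      rcases hx with h | h
      · rw [← h]; exact hxU
      · rw [← h]; exact Subgroup.mul_mem _ hxU hxU
    have ht'U : y * S.TgSz 0 b * y⁻¹ ∈ Subgroup.normalizer (U : Set (Cfsg.Sz F m)) :=
      Subgroup.mul_mem _ (Subgroup.mul_mem _ hyU htU) (Subgroup.inv_mem _ hyU)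
    have hzN := Subgroup.mul_mem _ htU ht'U
    have hmov := S.conj_mov hb hy
    have hsq := S.conj_sq b y
    have hzU := S.mem_of_mem_normalizer_member hm hF hU.1 hU.2 hzN
      (S.odd_orderOf_mul hm hF hb hsq hmov)
    have hUeq := hU.eq_centralizer S hm hF hzU (S.mul_ne_one_of_mov b hsq hmov)
    rw [← hUeq]
    exact ⟨hxU, hyU⟩

/-- the description of a fibre -/
theorem fibre_iff (hm : 1 ≤ m) (hp : (2 * m + 1).Prime)
    (hF : Fintype.card F = 2 ^ (2 * m + 1)) {b : F} (hb : b ≠ 0) {x : Cfsg.Sz F m}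
    (hxQ : x ∈ S.QSz) (hx : x = S.TgSz 0 b ∨ x * x = S.TgSz 0 b) {t' : Cfsg.Sz F m}
    (ht' : t' * t' = 1) (hmov : t' • pInf F ≠ pInf F) (hxN : Nrm x (S.TgSz 0 b * t'))
    {w : Cfsg.Sz F m}
    (hw : w ∈ Subgroup.centralizer ({S.TgSz 0 b * t'} : Set (Cfsg.Sz F m)))
    (hwt : w * S.TgSz 0 b * w⁻¹ = t') (y : Cfsg.Sz F m) :
    ((y • pInf F ≠ pInf F ∧
      Group.IsSolvable (Subgroup.closure ({x, y} : Set (Cfsg.Sz F m)))) ∧
      y * S.TgSz 0 b * y⁻¹ = t') ↔ w⁻¹ * y ∈ S.NQ b t' := by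
  have hUz := S.isMem_centralizer_mul hm hF hb ht' hmov
  have hz1 := S.mul_ne_one_of_mov b ht' hmov
  have hwN := Subgroup.le_normalizer hw
  unfold NQ
  rw [Subgroup.mem_inf]
  constructor
  · rintro ⟨⟨hymov, hsol⟩, hyt⟩
    have h1 := (S.normalizer_of_sol hm hp hF hb hxQ hx hymov hsol).2
    rw [hyt] at h1
    refine ⟨Subgroup.mul_mem _ (Subgroup.inv_mem _ hwN) h1, ?_⟩
    apply S.mem_QSz_of_commute hm hF hb
    have e1 : w⁻¹ * y * S.TgSz 0 b * (w⁻¹ * y)⁻¹ = S.TgSz 0 b := by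
      calc w⁻¹ * y * S.TgSz 0 b * (w⁻¹ * y)⁻¹ = w⁻¹ * (y * S.TgSz 0 b * y⁻¹) * w := by group
        _ = w⁻¹ * (w * S.TgSz 0 b * w⁻¹) * w := by rw [hyt, hwt]
        _ = S.TgSz 0 b := by group
    calc w⁻¹ * y * S.TgSz 0 b = (w⁻¹ * y * S.TgSz 0 b * (w⁻¹ * y)⁻¹) * (w⁻¹ * y) := by group
      _ = S.TgSz 0 b * (w⁻¹ * y) := by rw [e1]
  · rintro ⟨hcN, hcQ⟩
    have hyN : y ∈ Subgroup.normalizer ((Subgroup.centralizer
        ({S.TgSz 0 b * t'} : Set (Cfsg.Sz F m)) : Subgroup (Cfsg.Sz F m)) :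
          Set (Cfsg.Sz F m)) := by
      have := Subgroup.mul_mem _ hwN hcN
      rwa [mul_inv_cancel_left] at this
    have hyt : y * S.TgSz 0 b * y⁻¹ = t' := by
      have hc := S.commute_of_mem_QSz b hcQ
      calc y * S.TgSz 0 b * y⁻¹ = w * ((w⁻¹ * y) * S.TgSz 0 b) * (w⁻¹ * y)⁻¹ * w⁻¹ := by group
        _ = w * (S.TgSz 0 b * (w⁻¹ * y)) * (w⁻¹ * y)⁻¹ * w⁻¹ := by rw [hc]
        _ = w * S.TgSz 0 b * w⁻¹ := by group
        _ = t' := hwt
    have hymov : y • pInf F ≠ pInf F := by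
      intro h
      apply hmov
      have h' : y⁻¹ • pInf F = pInf F := by rw [inv_smul_eq_iff, h]
      rw [← hyt, mul_smul, mul_smul, h', S.TgSz_smul_pInf, h]
    refine ⟨⟨hymov, ?_⟩, hyt⟩
    rw [S.isSolvable_closure_iff hm hp hF]
    right
    exact ⟨_, hUz, (S.mem_normalizer_centralizer_iff hm hF hz1 hUz x).2 hxN, hyN⟩

theorem card_fibre (hm : 1 ≤ m) (hp : (2 * m + 1).Prime)
    (hF : Fintype.card F = 2 ^ (2 * m + 1)) {b : F} (hb : b ≠ 0) {x : Cfsg.Sz F m}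
    (hxQ : x ∈ S.QSz) (hx : x = S.TgSz 0 b ∨ x * x = S.TgSz 0 b) {t' : Cfsg.Sz F m}
    (ht' : t' * t' = 1) (hmov : t' • pInf F ≠ pInf F) (hxN : Nrm x (S.TgSz 0 b * t')) :
    Nat.card {y : Cfsg.Sz F m // (y • pInf F ≠ pInf F ∧
      Group.IsSolvable (Subgroup.closure ({x, y} : Set (Cfsg.Sz F m)))) ∧
      y * S.TgSz 0 b * y⁻¹ = t'} = Nat.card (S.NQ b t') := by
  obtain ⟨w, hw, hwt⟩ := S.exists_conj_in_member hm hF hb ht' hmov
  apply Nat.card_congr
  refine (Equiv.subtypeEquivRight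
    (fun y => S.fibre_iff hm hp hF hb hxQ hx ht' hmov hxN hw hwt y)).trans ?_
  exact (Equiv.mulLeft w⁻¹).subtypeEquiv (fun y => Iff.rfl)

/-- the fibration over the involutions -/
theorem card_YSet (hm : 1 ≤ m) (hp : (2 * m + 1).Prime)
    (hF : Fintype.card F = 2 ^ (2 * m + 1)) {b : F} (hb : b ≠ 0) {x : Cfsg.Sz F m}
    (hxQ : x ∈ S.QSz) (hx : x = S.TgSz 0 b ∨ x * x = S.TgSz 0 b)
    [Fintype (S.RSet b x)] :
    Nat.card (YSet x) = ∑ t' : S.RSet b x, Nat.card (S.NQ b t'.1) := by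
  let f : YSet x → S.RSet b x := fun y =>
    ⟨y.1 * S.TgSz 0 b * y.1⁻¹, S.conj_sq b y.1, S.conj_mov hb y.2.1, by
      have h1 := (S.normalizer_of_sol hm hp hF hb hxQ hx y.2.1 y.2.2).1
      exact (S.mem_normalizer_centralizer_iff hm hF
        (S.mul_ne_one_of_mov b (S.conj_sq b y.1) (S.conj_mov hb y.2.1))
        (S.isMem_centralizer_mul hm hF hb (S.conj_sq b y.1) (S.conj_mov hb y.2.1)) x).1 h1⟩
  apply card_eq_sum_fibres f
  intro t'
  rw [← S.card_fibre hm hp hF hb hxQ hx t'.2.1 t'.2.2.1 t'.2.2.2]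
  apply Nat.card_congr
  refine (Equiv.subtypeEquivRight (fun y => ?_)).trans
    (Equiv.subtypeSubtypeEquivSubtypeInter _ _)
  exact Subtype.ext_iff

/-- splitting the solubilizer according to the image of infinity -/
theorem card_sol_eq (hm : 1 ≤ m) (hp : (2 * m + 1).Prime)
    (hF : Fintype.card F = 2 ^ (2 * m + 1)) {x : Cfsg.Sz F m} (hxQ : x ∈ S.QSz) :
    Nat.card {y : Cfsg.Sz F m //
      Group.IsSolvable (Subgroup.closure ({x, y} : Set (Cfsg.Sz F m)))} =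
      (2 ^ (2 * m + 1)) ^ 2 * (2 ^ (2 * m + 1) - 1) + Nat.card (YSet x) := by
  rw [← S.card_stabilizer_pInf hm hF]
  have h1 : ∀ y : Cfsg.Sz F m,
      Group.IsSolvable (Subgroup.closure ({x, y} : Set (Cfsg.Sz F m))) ↔
        (y ∈ MulAction.stabilizer (Cfsg.Sz F m) (pInf F) ∨ (y • pInf F ≠ pInf F ∧
          Group.IsSolvable (Subgroup.closure ({x, y} : Set (Cfsg.Sz F m))))) := by
    intro y
    constructor
    · intro h
      by_cases hy : y • pInf F = pInf F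
      · left; exact hy
      · right; exact ⟨hy, h⟩
    · rintro (h | h)
      · rw [S.isSolvable_closure_iff hm hp hF]
        left
        refine ⟨1, ?_, ?_⟩
        · rw [one_smul]; exact S.smul_pInf_of_mem_QSz hxQ
        · rw [one_smul]; exact h
      · exact h.2
  rw [Nat.card_congr (Equiv.subtypeEquivRight h1)]
  exact card_subtype_or _ _ (fun y hy hy' => hy'.1 hy)

end group

end SzData

end Cfsg.Agent.Helper2.Sz
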