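import Mathlib
import Cfsg.Agent.Lib.Helper2.SzSol4

set_option autoImplicit false
set_option linter.unusedSectionVars false
set_option linter.unusedSimpArgs false
set_option linter.unusedVariables false

namespace Cfsg.Agent.Helper2.Sz

open Matrix Cfsg.Agent.S0335
open scoped Pointwise

variable {F : Type*} [Field F] {m : ℕ} (S : SzData F m)

namespace SzData

section group
variable [Fintype F]

/-- the fixed points of an element on the ovoid -/
abbrev FixPt (z : Cfsg.Sz F m) : Type _ :=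
  {p : Projectivization F (Fin 4 → F) // p ∈ Cfsg.suzukiOvoid F m ∧ z • p = p}

theorem Nrm_self (b : F) {t' : Cfsg.Sz F m} (ht' : t' * t' = 1) :
    Nrm (S.TgSz 0 b) (S.TgSz 0 b * t') := by
  unfold Nrm
  obtain ⟨t, ht⟩ : ∃ t, t = S.TgSz 0 b := ⟨_, rfl⟩
  have htt : t * t = 1 := ht ▸ S.TgSz_zero_mul_self b
  have htinv : t⁻¹ = t := inv_eq_of_mul_eq_one_left htt
  rw [← ht, htinv]
  have e1 : t * (t * t') * t = t' * t := by
    calc t * (t * t') * t = (t * t) * t' * t := by group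
      _ = t' * t := by rw [htt, one_mul]
  rw [e1]
  calc t' * t * (t * t') = t' * (t * t) * t' := by group
    _ = 1 := by rw [htt, mul_one, ht']
    _ = t * (t' * t') * t := by rw [ht', mul_one, htt]
    _ = t * t' * (t' * t) := by group

include S in
theorem exists_smul_eq_of_mem {p : Projectivization F (Fin 4 → F)}
    (hp : p ∈ Cfsg.suzukiOvoid F m) : ∃ g₀ : Cfsg.Sz F m, g₀ • pInf F = p := by
  rw [← S.orbit_pInf] at hp
  exact hp

/-- the fixed points of the elements of a split torus -/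
theorem split_fix {U : Subgroup (Cfsg.Sz F m)} {g : Cfsg.Sz F m}
    (hg : ∀ w : Cfsg.Sz F m, w ∈ U ↔ g⁻¹ * w * g ∈ S.DgSz.range) {w : Cfsg.Sz F m}
    (hw : w ∈ U) (hw1 : w ≠ 1) {p : Projectivization F (Fin 4 → F)}
    (hp : p ∈ Cfsg.suzukiOvoid F m) :
    w • p = p ↔ p = g • pInf F ∨ p = g • S.pt 0 0 := by
  obtain ⟨v, hv⟩ := (hg w).1 hw
  have hv1 : v ≠ 1 := by
    rintro rfl
    rw [map_one] at hv
    apply hw1
    calc w = g * (g⁻¹ * w * g) * g⁻¹ := by group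
      _ = 1 := by rw [← hv]; group
  have hweq : w = g * S.DgSz v * g⁻¹ := by rw [hv]; group
  constructor
  · intro h
    have h1 : S.DgSz v • (g⁻¹ • p) = g⁻¹ • p := by
      rw [hv, smul_smul, mul_inv_cancel_right, mul_smul, h]
    rcases S.DgSz_fix_of_ne_one hv1 (S.smul_mem_ovoid g⁻¹ hp) h1 with h2 | h2
    · left; rw [← h2, smul_smul, mul_inv_cancel, one_smul]
    · right; rw [← h2, smul_smul, mul_inv_cancel, one_smul]
  · rintro (h | h)
    · rw [h, hweq, smul_smul, inv_mul_cancel_right, mul_smul, S.DgSz_smul_pInf]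
    · rw [h, hweq, smul_smul, inv_mul_cancel_right, mul_smul, S.DgSz_smul_pt_zero]

theorem smul_pInf_ne_smul_pt (g : Cfsg.Sz F m) : g • pInf F ≠ g • S.pt 0 0 := by
  intro h
  exact S.pt_ne_pInf 0 0 (MulAction.injective g h).symm

/-- the structure in the split case -/
theorem split_case (hm : 1 ≤ m) (hF : Fintype.card F = 2 ^ (2 * m + 1))
    {b : F} (hb : b ≠ 0) {t' : Cfsg.Sz F m} (ht' : t' * t' = 1)
    (hmov : t' • pInf F ≠ pInf F)
    (hcard : Nat.card (Subgroup.centralizer ({S.TgSz 0 b * t'} : Set (Cfsg.Sz F m))) =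
      2 ^ (2 * m + 1) - 1) :
    Nat.card (S.NQ b t') = 2 ∧ Nat.card (FixPt (S.TgSz 0 b * t')) = 2 ∧
      Nat.card {x' : Cfsg.Sz F m // x' ∈ S.NQ b t' ∧ x' * x' = S.TgSz 0 b} = 0 := by
  have hU := S.isMem_centralizer_mul hm hF hb ht' hmov
  have hz1 := S.mul_ne_one_of_mov b ht' hmov
  obtain ⟨g, hg⟩ := S.exists_conj_range_of_split hm hF hU.1 hcard
  obtain ⟨z, hz⟩ : ∃ z, z = S.TgSz 0 b * t' := ⟨_, rfl⟩
  rw [← hz] at hU hz1 hg hcard ⊢
  have hzU : z ∈ Subgroup.centralizer ({z} : Set (Cfsg.Sz F m)) :=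
    mem_centralizer_singleton.2 rfl
  have ht1 := S.TgSz_zero_ne_one hb
  have htQ := S.TgSz_mem 0 b
  -- z moves infinity
  have hzmov : z • pInf F ≠ pInf F := by
    intro h
    apply hmov
    have e : t' = S.TgSz 0 b * z := by
      rw [hz, ← mul_assoc, S.TgSz_zero_mul_self, one_mul]
    rw [e, mul_smul, h, S.TgSz_smul_pInf]
  have ha : g • pInf F ≠ pInf F := by
    intro h
    apply hzmov
    exact (S.split_fix hg hzU hz1 S.pInf_mem).2 (Or.inl h.symm)
  have htN : S.TgSz 0 b ∈ Subgroup.normalizer ((Subgroup.centralizer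
      ({z} : Set (Cfsg.Sz F m)) : Subgroup (Cfsg.Sz F m)) : Set (Cfsg.Sz F m)) := by
    rw [S.mem_normalizer_centralizer_iff hm hF hz1 hU, hz]
    exact S.Nrm_self b ht'
  have htNQ : S.TgSz 0 b ∈ S.NQ b t' := by
    unfold NQ
    rw [← hz]
    exact ⟨htN, htQ⟩
  -- elements of the normalizer permute the two fixed points
  have hperm : ∀ h : Cfsg.Sz F m, h ∈ Subgroup.normalizer ((Subgroup.centralizer
      ({z} : Set (Cfsg.Sz F m)) : Subgroup (Cfsg.Sz F m)) : Set (Cfsg.Sz F m)) →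
      h • g • pInf F = g • pInf F ∨ h • g • pInf F = g • S.pt 0 0 := by
    intro h hh
    have h1 : h * z * h⁻¹ ∈ Subgroup.centralizer ({z} : Set (Cfsg.Sz F m)) :=
      (Subgroup.mem_normalizer_iff.1 hh z).1 hzU
    have h2 : h * z * h⁻¹ ≠ 1 := by
      intro h3
      apply hz1
      calc z = h⁻¹ * (h * z * h⁻¹) * h := by group
        _ = 1 := by rw [h3]; group
    have h3 : z • g • pInf F = g • pInf F :=
      (S.split_fix hg hzU hz1 (S.smul_pInf_mem g)).2 (Or.inl rfl)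
    have h4 : (h * z * h⁻¹) • h • g • pInf F = h • g • pInf F := by
      rw [smul_smul (h * z * h⁻¹) h, inv_mul_cancel_right, mul_smul, h3]
    exact (S.split_fix hg h1 h2 (S.smul_mem_ovoid h (S.smul_pInf_mem g))).1 h4
  have hta : S.TgSz 0 b • g • pInf F = g • S.pt 0 0 := by
    rcases hperm _ htN with h | h
    · exact (ha (S.eq_pInf_of_mem_QSz_fix htQ ht1 (S.smul_pInf_mem g) h)).elim
    · exact h
  have hNQ : ∀ h : Cfsg.Sz F m, h ∈ S.NQ b t' → h = 1 ∨ h = S.TgSz 0 b := by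
    intro h hh
    unfold NQ at hh
    rw [← hz] at hh
    rcases hperm h hh.1 with h1 | h1
    · left
      by_contra hne
      exact ha (S.eq_pInf_of_mem_QSz_fix hh.2 hne (S.smul_pInf_mem g) h1)
    · right
      have h2 : ((S.TgSz 0 b)⁻¹ * h) • g • pInf F = g • pInf F := by
        rw [mul_smul, h1, ← hta, smul_smul, inv_mul_cancel, one_smul]
      have h3 : (S.TgSz 0 b)⁻¹ * h ∈ S.QSz := S.QSz.mul_mem (S.QSz.inv_mem htQ) hh.2
      by_contra hne
      have h4 : (S.TgSz 0 b)⁻¹ * h ≠ 1 := by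
        intro h5
        apply hne
        calc h = S.TgSz 0 b * ((S.TgSz 0 b)⁻¹ * h) := by group
          _ = S.TgSz 0 b := by rw [h5, mul_one]
      exact ha (S.eq_pInf_of_mem_QSz_fix h3 h4 (S.smul_pInf_mem g) h2)
  refine ⟨?_, ?_, ?_⟩
  · rw [Nat.card_eq_two_iff]
    refine ⟨⟨1, Subgroup.one_mem _⟩, ⟨S.TgSz 0 b, htNQ⟩, ?_, ?_⟩
    · intro h
      exact ht1 (congrArg Subtype.val h).symm
    · ext ⟨h, hh⟩
      simp only [Set.mem_insert_iff, Set.mem_singleton_iff, Set.mem_univ, iff_true]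
      rcases hNQ h hh with h1 | h1
      · left; exact Subtype.ext h1
      · right; exact Subtype.ext h1
  · rw [Nat.card_eq_two_iff]
    refine ⟨⟨g • pInf F, S.smul_pInf_mem g,
        (S.split_fix hg hzU hz1 (S.smul_pInf_mem g)).2 (Or.inl rfl)⟩,
      ⟨g • S.pt 0 0, S.smul_mem_ovoid g (S.pt_mem 0 0),
        (S.split_fix hg hzU hz1 (S.smul_mem_ovoid g (S.pt_mem 0 0))).2 (Or.inr rfl)⟩, ?_, ?_⟩
    · intro h
      exact S.smul_pInf_ne_smul_pt g (congrArg Subtype.val h)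
    · ext ⟨p, hp, hzp⟩
      simp only [Set.mem_insert_iff, Set.mem_singleton_iff, Set.mem_univ, iff_true]
      rcases (S.split_fix hg hzU hz1 hp).1 hzp with h1 | h1
      · left; exact Subtype.ext h1
      · right; exact Subtype.ext h1
  · have : IsEmpty {x' : Cfsg.Sz F m // x' ∈ S.NQ b t' ∧ x' * x' = S.TgSz 0 b} := by
      constructor
      rintro ⟨x', hx', hsq⟩
      rcases hNQ x' hx' with rfl | rfl
      · rw [one_mul] at hsq
        exact ht1 hsq.symm
      · rw [S.TgSz_zero_mul_self] at hsq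
        exact ht1 hsq.symm
    exact Nat.card_of_isEmpty

/-- the structure in the twisted case -/
theorem twisted_case (hm : 1 ≤ m) (hF : Fintype.card F = 2 ^ (2 * m + 1))
    {b : F} (hb : b ≠ 0) {t' : Cfsg.Sz F m} (ht' : t' * t' = 1)
    (hmov : t' • pInf F ≠ pInf F)
    (hcard : Nat.card (Subgroup.centralizer ({S.TgSz 0 b * t'} : Set (Cfsg.Sz F m))) =
        2 ^ (2 * m + 1) + 2 ^ (m + 1) + 1 ∨
      Nat.card (Subgroup.centralizer ({S.TgSz 0 b * t'} : Set (Cfsg.Sz F m))) =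
        2 ^ (2 * m + 1) - 2 ^ (m + 1) + 1) :
    Nat.card (S.NQ b t') = 4 ∧ Nat.card (FixPt (S.TgSz 0 b * t')) = 0 ∧
      Nat.card {x' : Cfsg.Sz F m // x' ∈ S.NQ b t' ∧ x' * x' = S.TgSz 0 b} = 2 := by
  have hfact2 : Fact (Nat.Prime 2) := ⟨Nat.prime_two⟩
  have hU := S.isMem_centralizer_mul hm hF hb ht' hmov
  have hz1 := S.mul_ne_one_of_mov b ht' hmov
  have hN4 := S.card_normalizer_twisted hm hF hU.1 hcard
  have hNQdef : S.NQ b t' = Subgroup.normalizer ((Subgroup.centralizer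
      ({S.TgSz 0 b * t'} : Set (Cfsg.Sz F m)) : Subgroup (Cfsg.Sz F m)) :
        Set (Cfsg.Sz F m)) ⊓ S.QSz := rfl
  obtain ⟨z, hz⟩ : ∃ z, z = S.TgSz 0 b * t' := ⟨_, rfl⟩
  rw [← hz] at hU hz1 hcard hN4 hNQdef ⊢
  have hzU : z ∈ Subgroup.centralizer ({z} : Set (Cfsg.Sz F m)) :=
    mem_centralizer_singleton.2 rfl
  have ht1 := S.TgSz_zero_ne_one hb
  have htQ := S.TgSz_mem 0 b
  have htt := S.TgSz_zero_mul_self b
  have hUodd : ¬ 2 ∣ Nat.card (Subgroup.centralizer ({z} : Set (Cfsg.Sz F m))) :=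
    odd_of_mem hU.2
  obtain ⟨N, hNdef⟩ : ∃ N : Subgroup (Cfsg.Sz F m), N = Subgroup.normalizer
    ((Subgroup.centralizer ({z} : Set (Cfsg.Sz F m)) : Subgroup (Cfsg.Sz F m)) :
      Set (Cfsg.Sz F m)) := ⟨_, rfl⟩
  rw [← hNdef] at hN4 hNQdef
  have htN : S.TgSz 0 b ∈ N := by
    rw [hNdef, S.mem_normalizer_centralizer_iff hm hF hz1 hU, hz]
    exact S.Nrm_self b ht'
  have htNQ : S.TgSz 0 b ∈ S.NQ b t' := by
    rw [hNQdef]
    exact ⟨htN, htQ⟩
  -- no fixed points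
  have hfix : IsEmpty (FixPt z) := by
    constructor
    rintro ⟨p, hp, hzp⟩
    obtain ⟨g₀, rfl⟩ := S.exists_smul_eq_of_mem hp
    have h1 := S.orderOf_dvd_of_fix hm hF hzp
    have h2 : orderOf z ∣ Nat.card (Subgroup.centralizer ({z} : Set (Cfsg.Sz F m))) :=
      Subgroup.orderOf_dvd_natCard _ hzU
    obtain ⟨-, -, -, c4, c5⟩ := coprime_facts m hm
    have h3 : Nat.Coprime (Nat.card (Subgroup.centralizer ({z} : Set (Cfsg.Sz F m))))
        ((2 ^ (2 * m + 1)) ^ 2 * (2 ^ (2 * m + 1) - 1)) := by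
      rcases hcard with h | h
      · rw [h]; exact c4
      · rw [h]; exact c5
    have := Nat.dvd_gcd h2 h1
    rw [h3] at this
    exact hz1 (orderOf_eq_one_iff.1 (Nat.dvd_one.1 this))
  -- the Sylow 2-subgroup of the normalizer
  have hNQ4 : Nat.card (S.NQ b t') = 4 := by
    have hdvd : 2 ^ 2 ∣ Nat.card N := by
      rw [hN4]
      exact Dvd.intro _ rfl
    have horder : orderOf (⟨S.TgSz 0 b, htN⟩ : N) = 2 := by
      apply orderOf_eq_prime
      · apply Subtype.ext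
        rw [pow_two]
        exact htt
      · intro h
        exact ht1 (congrArg Subtype.val h)
    have hH : Nat.card (Subgroup.zpowers (⟨S.TgSz 0 b, htN⟩ : N)) = 2 ^ 1 := by
      rw [Nat.card_zpowers, pow_one]
      exact horder
    obtain ⟨K, hKcard, hKle⟩ := Sylow.exists_subgroup_card_pow_prime_le 2 hdvd
      (Subgroup.zpowers (⟨S.TgSz 0 b, htN⟩ : N)) hH (by norm_num)
    have hPcard : Nat.card (K.map N.subtype) = 2 ^ 2 := by
      rw [Subgroup.card_map_of_injective N.subtype_injective]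
      exact hKcard
    have hP : IsPGroup 2 (K.map N.subtype) := IsPGroup.of_card hPcard
    have htP : S.TgSz 0 b ∈ K.map N.subtype :=
      ⟨⟨S.TgSz 0 b, htN⟩, hKle (Subgroup.mem_zpowers _), rfl⟩
    have hPQ := S.le_QSz_of_isPGroup hm hF hP htP htQ ht1
    have hPN : K.map N.subtype ≤ N := by
      rintro _ ⟨k, -, rfl⟩
      exact k.2
    have hPle : K.map N.subtype ≤ S.NQ b t' := by
      rw [hNQdef]
      exact le_inf hPN hPQ
    have h4dvd : 4 ∣ Nat.card (S.NQ b t') := by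
      have := Subgroup.card_dvd_of_le hPle
      rw [hPcard] at this
      exact this
    have h1 : Nat.card (S.NQ b t') ∣ Nat.card N := by
      rw [hNQdef]
      exact Subgroup.card_dvd_of_le inf_le_left
    have h2 : Nat.card (S.NQ b t') ∣ Nat.card S.QSz := by
      rw [hNQdef]
      exact Subgroup.card_dvd_of_le inf_le_right
    rw [S.card_QSz, hF, ← pow_mul] at h2
    obtain ⟨j, -, hj⟩ := (Nat.dvd_prime_pow Nat.prime_two).1 h2
    have h3 : Nat.Coprime (Nat.card (S.NQ b t'))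
        (Nat.card (Subgroup.centralizer ({z} : Set (Cfsg.Sz F m)))) := by
      rw [hj]
      exact Nat.Coprime.pow_left j ((Nat.Prime.coprime_iff_not_dvd Nat.prime_two).2 hUodd)
    rw [hN4] at h1
    have h5 : Nat.card (S.NQ b t') ∣ 4 := Nat.Coprime.dvd_of_dvd_mul_right h3 h1
    exact Nat.dvd_antisymm h5 h4dvd
  -- the only central involution in the normalizer
  have hV : ∀ b' : F, b' ≠ 0 → S.TgSz 0 b' ∈ N → b' = b := by
    intro b' hb' hb'N
    have hinv1 : ∀ u ∈ Subgroup.centralizer ({z} : Set (Cfsg.Sz F m)),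
        S.TgSz 0 b * u * (S.TgSz 0 b)⁻¹ = u⁻¹ := fun u hu =>
      S.inv_inverts hm hF hU ht1 htt (hNdef ▸ htN) hu
    have hinv2 : ∀ u ∈ Subgroup.centralizer ({z} : Set (Cfsg.Sz F m)),
        S.TgSz 0 b' * u * (S.TgSz 0 b')⁻¹ = u⁻¹ := fun u hu =>
      S.inv_inverts hm hF hU (S.TgSz_zero_ne_one hb') (S.TgSz_zero_mul_self b')
        (hNdef ▸ hb'N) hu
    have hprod : S.TgSz 0 b * S.TgSz 0 b' = S.TgSz 0 (b + b') := by
      rw [TgSz_mul, map_zero, zero_mul, add_zero, add_zero]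
    have hcomm : (S.TgSz 0 b * S.TgSz 0 b') * z = z * (S.TgSz 0 b * S.TgSz 0 b') := by
      have h1 := hinv2 z hzU
      have h2 := hinv1 z⁻¹ (Subgroup.inv_mem _ hzU)
      rw [inv_inv] at h2
      have h3 : S.TgSz 0 b * S.TgSz 0 b' * z * (S.TgSz 0 b * S.TgSz 0 b')⁻¹ = z := by
        calc S.TgSz 0 b * S.TgSz 0 b' * z * (S.TgSz 0 b * S.TgSz 0 b')⁻¹
            = S.TgSz 0 b * (S.TgSz 0 b' * z * (S.TgSz 0 b')⁻¹) * (S.TgSz 0 b)⁻¹ := by group
          _ = z := by rw [h1, h2]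
      calc S.TgSz 0 b * S.TgSz 0 b' * z
          = (S.TgSz 0 b * S.TgSz 0 b' * z * (S.TgSz 0 b * S.TgSz 0 b')⁻¹) *
            (S.TgSz 0 b * S.TgSz 0 b') := by group
        _ = z * (S.TgSz 0 b * S.TgSz 0 b') := by rw [h3]
    have hmemU := (hU.mem_iff_commute S hm hF hzU hz1 _).2 hcomm
    rw [hprod] at hmemU
    by_contra hne
    have hne0 : b + b' ≠ 0 := by
      intro h0
      apply hne
      have : b' = -b := by linear_combination h0
      rw [this, S.neg_eq]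
    have h2 : orderOf (S.TgSz 0 (b + b')) ∣
        Nat.card (Subgroup.centralizer ({z} : Set (Cfsg.Sz F m))) :=
      Subgroup.orderOf_dvd_natCard _ hmemU
    have h3 : orderOf (S.TgSz 0 (b + b')) = 2 := by
      apply orderOf_eq_prime
      · rw [pow_two]; exact S.TgSz_zero_mul_self _
      · exact S.TgSz_zero_ne_one hne0
    rw [h3] at h2
    exact hUodd h2
  -- an element of order four
  have hex : ∃ g : Cfsg.Sz F m, g ∈ S.NQ b t' ∧ g ≠ 1 ∧ g ≠ S.TgSz 0 b := by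
    by_contra hno
    have hsub : ((S.NQ b t' : Subgroup (Cfsg.Sz F m)) : Set (Cfsg.Sz F m)) ⊆
        {1, S.TgSz 0 b} := by
      intro g hg
      by_contra hg'
      simp only [Set.mem_insert_iff, Set.mem_singleton_iff, not_or] at hg'
      exact hno ⟨g, hg, hg'.1, hg'.2⟩
    have h1 := Set.ncard_le_ncard hsub (Set.toFinite _)
    rw [← Nat.card_coe_set_eq] at h1
    have h2 : Nat.card (((S.NQ b t' : Subgroup (Cfsg.Sz F m)) : Set (Cfsg.Sz F m))) = 4 :=
      hNQ4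
    have h3 : ({1, S.TgSz 0 b} : Set (Cfsg.Sz F m)).ncard ≤ 2 := Set.ncard_insert_le _ _ |>.trans
      (by rw [Set.ncard_singleton])
    omega
  obtain ⟨g, hgNQ, hg1, hgt⟩ := hex
  have hgN : g ∈ N := by rw [hNQdef] at hgNQ; exact hgNQ.1
  have hgQ : g ∈ S.QSz := by rw [hNQdef] at hgNQ; exact hgNQ.2
  have hgg : g * g = S.TgSz 0 b := by
    rcases S.uni_structure hV hgN hgQ with h | h | h
    · exact (hg1 h).elim
    · exact (hgt h).elim
    · exact h
  have hginv : g⁻¹ * g⁻¹ = S.TgSz 0 b := by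
    rw [← _root_.mul_inv_rev, hgg, S.TgSz_zero_inv]
  have hgne : g ≠ g⁻¹ := by
    intro h
    have : g * g = 1 := by
      nth_rewrite 2 [h]
      exact mul_inv_cancel g
    rw [hgg] at this
    exact ht1 this
  refine ⟨hNQ4, Nat.card_of_isEmpty, ?_⟩
  rw [Nat.card_eq_two_iff]
  refine ⟨⟨g, hgNQ, hgg⟩, ⟨g⁻¹, Subgroup.inv_mem _ hgNQ, hginv⟩, ?_, ?_⟩
  · intro h
    exact hgne (congrArg Subtype.val h)
  · ext ⟨g', hg'NQ, hg'g'⟩
    simp only [Set.mem_insert_iff, Set.mem_singleton_iff, Set.mem_univ, iff_true]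
    have hg'N : g' ∈ N := by rw [hNQdef] at hg'NQ; exact hg'NQ.1
    have hg'Q : g' ∈ S.QSz := by rw [hNQdef] at hg'NQ; exact hg'NQ.2
    rcases S.uni_order_four hV hgN hgQ hg'N hg'Q hgg hg'g' with h | h
    · left; exact Subtype.ext h
    · right; exact Subtype.ext h

theorem card_NQ_add (hm : 1 ≤ m) (hF : Fintype.card F = 2 ^ (2 * m + 1))
    {b : F} (hb : b ≠ 0) {t' : Cfsg.Sz F m} (ht' : t' * t' = 1)
    (hmov : t' • pInf F ≠ pInf F) :
    Nat.card (S.NQ b t') + Nat.card (FixPt (S.TgSz 0 b * t')) = 4 := by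
  have hU := S.isMem_centralizer_mul hm hF hb ht' hmov
  rcases hU.2 with h | h | h
  · obtain ⟨h1, h2, -⟩ := S.split_case hm hF hb ht' hmov h
    rw [h1, h2]
  · obtain ⟨h1, h2, -⟩ := S.twisted_case hm hF hb ht' hmov (Or.inl h)
    rw [h1, h2]
  · obtain ⟨h1, h2, -⟩ := S.twisted_case hm hF hb ht' hmov (Or.inr h)
    rw [h1, h2]

theorem card_sq_add (hm : 1 ≤ m) (hF : Fintype.card F = 2 ^ (2 * m + 1))
    {b : F} (hb : b ≠ 0) {t' : Cfsg.Sz F m} (ht' : t' * t' = 1)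
    (hmov : t' • pInf F ≠ pInf F) :
    Nat.card {x' : Cfsg.Sz F m // x' ∈ S.NQ b t' ∧ x' * x' = S.TgSz 0 b} +
      Nat.card (FixPt (S.TgSz 0 b * t')) = 2 := by
  have hU := S.isMem_centralizer_mul hm hF hb ht' hmov
  rcases hU.2 with h | h | h
  · obtain ⟨-, h2, h3⟩ := S.split_case hm hF hb ht' hmov h
    rw [h2, h3]
  · obtain ⟨-, h2, h3⟩ := S.twisted_case hm hF hb ht' hmov (Or.inl h)
    rw [h2, h3]
  · obtain ⟨-, h2, h3⟩ := S.twisted_case hm hF hb ht' hmov (Or.inr h)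
    rw [h2, h3]

theorem card_NQ_of_sq (hm : 1 ≤ m) (hF : Fintype.card F = 2 ^ (2 * m + 1))
    {b : F} (hb : b ≠ 0) {t' : Cfsg.Sz F m} (ht' : t' * t' = 1)
    (hmov : t' • pInf F ≠ pInf F) {x : Cfsg.Sz F m} (hx : x ∈ S.NQ b t')
    (hxx : x * x = S.TgSz 0 b) : Nat.card (S.NQ b t') = 4 := by
  have hU := S.isMem_centralizer_mul hm hF hb ht' hmov
  rcases hU.2 with h | h | h
  · obtain ⟨-, -, h3⟩ := S.split_case hm hF hb ht' hmov h
    exfalso
    have : Nonempty {x' : Cfsg.Sz F m // x' ∈ S.NQ b t' ∧ x' * x' = S.TgSz 0 b} :=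
      ⟨⟨x, hx, hxx⟩⟩
    have h4 := Nat.card_pos (α := {x' : Cfsg.Sz F m // x' ∈ S.NQ b t' ∧ x' * x' = S.TgSz 0 b})
    omega
  · exact (S.twisted_case hm hF hb ht' hmov (Or.inl h)).1
  · exact (S.twisted_case hm hF hb ht' hmov (Or.inr h)).1

end group

end SzData

end Cfsg.Agent.Helper2.Sz
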