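import Mathlib
import Cfsg.Agent.Lib.Helper2.SzSol5

set_option autoImplicit false
set_option linter.unusedSectionVars false
set_option linter.unusedSimpArgs false
set_option linter.unusedVariables false

namespace Cfsg.Agent.Helper2.Sz

open Matrix Cfsg.Agent.S0335
open scoped Pointwise

variable {F : Type*} [Field F] {m : ℕ} (S : SzData F m)

namespace SzData

section group
variable [Fintype F]

/-- the involutions mapping one point to another -/
abbrev Sw (p p' : Projectivization F (Fin 4 → F)) : Type _ :=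
  {g : Cfsg.Sz F m // g * g = 1 ∧ g • p = p'}

theorem WD_sq (u : Fˣ) : (S.WgSz * S.DgSz u) * (S.WgSz * S.DgSz u) = 1 := by
  calc (S.WgSz * S.DgSz u) * (S.WgSz * S.DgSz u)
      = (S.WgSz * S.DgSz u * S.WgSz) * S.DgSz u := by group
    _ = 1 := by rw [S.WgSz_DgSz_WgSz, ← map_mul, inv_mul_cancel, map_one]

include S in
theorem card_Sw (hm : 1 ≤ m) (hF : Fintype.card F = 2 ^ (2 * m + 1))
    {p p' : Projectivization F (Fin 4 → F)} (hp : p ∈ Cfsg.suzukiOvoid F m)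
    (hp' : p' ∈ Cfsg.suzukiOvoid F m) (hne : p ≠ p') :
    Nat.card (Sw (F := F) (m := m) p p') = 2 ^ (2 * m + 1) - 1 := by
  obtain ⟨h₀, hh₀, hh1, hh2⟩ := S.exists_smul_pair hp hp' hne
  obtain ⟨h, hh⟩ : ∃ h : Cfsg.Sz F m, h = ⟨h₀, hh₀⟩ := ⟨_, rfl⟩
  have h1 : h • pInf F = p := by rw [hh]; exact hh1
  have h2 : h • S.pt 0 0 = p' := by rw [hh]; exact hh2
  have h1' : h⁻¹ • p = pInf F := by rw [← h1, smul_smul, inv_mul_cancel, one_smul]
  have h2' : h⁻¹ • p' = S.pt 0 0 := by rw [← h2, smul_smul, inv_mul_cancel, one_smul]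
  let φ : Fˣ → Sw (F := F) (m := m) p p' := fun u =>
    ⟨h * (S.WgSz * S.DgSz u) * h⁻¹, by
      calc h * (S.WgSz * S.DgSz u) * h⁻¹ * (h * (S.WgSz * S.DgSz u) * h⁻¹)
          = h * ((S.WgSz * S.DgSz u) * (S.WgSz * S.DgSz u)) * h⁻¹ := by group
        _ = 1 := by rw [S.WD_sq]; group, by
      rw [mul_smul, mul_smul, mul_smul, h1', S.DgSz_smul_pInf, S.WgSz_smul_pInf, h2]⟩
  have hbij : Function.Bijective φ := by
    constructor
    · intro u u' huu'
      have e1 : h * (S.WgSz * S.DgSz u) * h⁻¹ = h * (S.WgSz * S.DgSz u') * h⁻¹ :=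
        congrArg Subtype.val huu'
      have e2 := mul_left_cancel (mul_left_cancel (mul_right_cancel e1))
      exact S.DgSz_injective e2
    · rintro ⟨g, hgg, hgp⟩
      obtain ⟨g', hg'⟩ : ∃ g', g' = h⁻¹ * g * h := ⟨_, rfl⟩
      have hg'g' : g' * g' = 1 := by
        rw [hg']
        calc h⁻¹ * g * h * (h⁻¹ * g * h) = h⁻¹ * (g * g) * h := by group
          _ = 1 := by rw [hgg]; group
      have e1 : g' • pInf F = S.pt 0 0 := by
        rw [hg', mul_smul, mul_smul, h1, hgp, h2']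
      have e2 : g' • S.pt 0 0 = pInf F := by
        rw [← e1, smul_smul, hg'g', one_smul]
      have e3 : S.WgSz * g' ∈ S.DgSz.range := by
        rw [S.mem_range_DgSz_iff hm hF]
        constructor
        · rw [mul_smul, e1, S.WgSz_smul_pt_zero]
        · rw [mul_smul, e2, S.WgSz_smul_pInf]
      obtain ⟨u, hu⟩ := e3
      refine ⟨u, ?_⟩
      apply Subtype.ext
      show h * (S.WgSz * S.DgSz u) * h⁻¹ = g
      rw [hu, ← mul_assoc S.WgSz, S.WgSz_mul_WgSz, one_mul, hg']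
      group
  rw [← Nat.card_congr (Equiv.ofBijective φ hbij), Nat.card_units, Nat.card_eq_fintype_card, hF]

include S in
/-- the number of involutions moving infinity -/
theorem card_InvMov (hm : 1 ≤ m) (hF : Fintype.card F = 2 ^ (2 * m + 1)) :
    Nat.card (InvMov F m) = (2 ^ (2 * m + 1)) ^ 2 * (2 ^ (2 * m + 1) - 1) := by
  have hc : ∀ x y : F, (S.TgSz x y * S.WgSz) • pInf F = S.pt x y := by
    intro x y
    rw [mul_smul, S.WgSz_smul_pInf, S.TgSz_smul_pt_zero]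
  let φ : (F × F) × Fˣ → InvMov F m := fun v =>
    ⟨(S.TgSz v.1.1 v.1.2 * S.WgSz) * S.TgSz 0 (v.2 : F) * (S.TgSz v.1.1 v.1.2 * S.WgSz)⁻¹,
      S.conj_sq _ _, S.conj_mov v.2.ne_zero (by rw [hc]; exact S.pt_ne_pInf _ _)⟩
  have hbij : Function.Bijective φ := by
    constructor
    · rintro ⟨⟨x, y⟩, u⟩ ⟨⟨x', y'⟩, u'⟩ hvv'
      have e1 : (S.TgSz x y * S.WgSz) * S.TgSz 0 (u : F) * (S.TgSz x y * S.WgSz)⁻¹ =
          (S.TgSz x' y' * S.WgSz) * S.TgSz 0 (u' : F) * (S.TgSz x' y' * S.WgSz)⁻¹ :=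
        congrArg Subtype.val hvv'
      have e2 : ((S.TgSz x' y' * S.WgSz) * S.TgSz 0 (u' : F) * (S.TgSz x' y' * S.WgSz)⁻¹) •
          S.pt x y = S.pt x y := by
        rw [← e1, ← hc x y, smul_smul, inv_mul_cancel_right, mul_smul, S.TgSz_smul_pInf]
      have e3 := S.eq_smul_pInf_of_conj_fix u'.ne_zero (S.pt_mem x y) e2
      rw [hc] at e3
      obtain ⟨rfl, rfl⟩ := S.pt_injective e3
      have e4 := mul_left_cancel (mul_right_cancel e1)
      have e5 := (S.TgSz_injective e4).2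
      rw [Units.ext e5]
    · rintro ⟨t', ht', hmov⟩
      have ht'1 : t' ≠ 1 := by
        rintro rfl
        exact hmov (one_smul _ _)
      obtain ⟨k, b₁, hb₁, hk⟩ := S.inv_conj_form hm hF ht'1 ht'
      have hkmov : k • pInf F ≠ pInf F := by
        intro h
        apply hmov
        have h' : k⁻¹ • pInf F = pInf F := by rw [inv_smul_eq_iff, h]
        rw [hk, mul_smul, mul_smul, h', S.TgSz_smul_pInf, h]
      rcases (S.mem_ovoid_iff _).1 (S.smul_pInf_mem k) with h | ⟨x, y, hxy⟩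
      · exact (hkmov h).elim
      · obtain ⟨c, hcdef⟩ : ∃ c, c = S.TgSz x y * S.WgSz := ⟨_, rfl⟩
        have hcs : (c⁻¹ * k) ∈ MulAction.stabilizer (Cfsg.Sz F m) (pInf F) := by
          rw [MulAction.mem_stabilizer_iff, mul_smul, hxy, ← hc x y, ← hcdef, smul_smul,
            inv_mul_cancel, one_smul]
        have hz := S.conj_mem_ZSz hm hF hcs (S.mem_ZSz.2 ⟨b₁, rfl⟩)
        obtain ⟨b₂, hb₂⟩ := S.mem_ZSz.1 hz
        have ht'eq : t' = c * S.TgSz 0 b₂ * c⁻¹ := by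
          rw [← hb₂, hk]
          group
        have hb₂0 : b₂ ≠ 0 := by
          rintro rfl
          rw [S.TgSz_zero] at ht'eq
          apply ht'1
          rw [ht'eq]
          group
        refine ⟨⟨⟨x, y⟩, Units.mk0 b₂ hb₂0⟩, ?_⟩
        apply Subtype.ext
        show (S.TgSz x y * S.WgSz) * S.TgSz 0 ((Units.mk0 b₂ hb₂0 : Fˣ) : F) *
          (S.TgSz x y * S.WgSz)⁻¹ = t'
        rw [Units.val_mk0, ← hcdef, ht'eq]
  rw [← Nat.card_congr (Equiv.ofBijective φ hbij), Nat.card_prod, Nat.card_prod, Nat.card_units,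
    Nat.card_eq_fintype_card, hF]
  ring

/-- the pairs (involution moving infinity, fixed point of the product) -/
abbrev Pairs (b : F) : Type _ :=
  {v : Cfsg.Sz F m × Projectivization F (Fin 4 → F) // v.1 * v.1 = 1 ∧
    v.1 • pInf F ≠ pInf F ∧ v.2 ∈ Cfsg.suzukiOvoid F m ∧ (S.TgSz 0 b * v.1) • v.2 = v.2}

theorem card_Pairs_eq_sum (b : F) [Fintype (InvMov F m)] :
    Nat.card (S.Pairs b) = ∑ t' : InvMov F m, Nat.card (FixPt (S.TgSz 0 b * t'.1)) := by
  rw [← Nat.card_sigma]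
  apply Nat.card_congr
  exact
    { toFun := fun v => ⟨⟨v.1.1, v.2.1, v.2.2.1⟩, ⟨v.1.2, v.2.2.2.1, v.2.2.2.2⟩⟩
      invFun := fun s => ⟨(s.1.1, s.2.1), s.1.2.1, s.1.2.2, s.2.2.1, s.2.2.2⟩
      left_inv := fun v => rfl
      right_inv := fun s => rfl }

/-- an involution fixing infinity is unipotent -/
theorem mem_QSz_of_inv_fix (hm : 1 ≤ m) (hF : Fintype.card F = 2 ^ (2 * m + 1))
    {g : Cfsg.Sz F m} (hg1 : g ≠ 1) (hg2 : g * g = 1) (hfix : g • pInf F = pInf F) :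
    g ∈ S.QSz := by
  obtain ⟨k, b₁, hb₁, hk⟩ := S.inv_conj_form hm hF hg1 hg2
  have h1 : (k * S.TgSz 0 b₁ * k⁻¹) • pInf F = pInf F := by rw [← hk]; exact hfix
  have h2 := S.eq_smul_pInf_of_conj_fix hb₁ S.pInf_mem h1
  have h3 : k ∈ MulAction.stabilizer (Cfsg.Sz F m) (pInf F) := h2.symm
  rw [hk]
  exact S.ZSz_le_QSz (S.conj_mem_ZSz hm hF h3 (S.mem_ZSz.2 ⟨b₁, rfl⟩))

theorem card_Pairs (hm : 1 ≤ m) (hF : Fintype.card F = 2 ^ (2 * m + 1)) {b : F} (hb : b ≠ 0) :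
    Nat.card (S.Pairs b) = (2 ^ (2 * m + 1)) ^ 2 * (2 ^ (2 * m + 1) - 2) := by
  have ht1 := S.TgSz_zero_ne_one hb
  have htQ := S.TgSz_mem 0 b
  have htt := S.TgSz_zero_mul_self b
  have htinv := S.TgSz_zero_inv b
  have htp : ∀ x y : F, S.TgSz 0 b • S.pt x y ≠ S.pt x y := by
    intro x y h
    exact S.pt_ne_pInf x y (S.eq_pInf_of_mem_QSz_fix htQ ht1 (S.pt_mem x y) h)
  -- the fibres
  have hfib : ∀ xy : F × F, Nat.card {t' : Cfsg.Sz F m // t' * t' = 1 ∧ t' ≠ S.TgSz 0 b ∧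
      t' • S.pt xy.1 xy.2 = S.TgSz 0 b • S.pt xy.1 xy.2} = 2 ^ (2 * m + 1) - 2 := by
    rintro ⟨x, y⟩
    have h1 := S.card_Sw hm hF (S.pt_mem x y) (S.smul_mem_ovoid (S.TgSz 0 b) (S.pt_mem x y))
      (Ne.symm (htp x y))
    have h1' : ({g : Cfsg.Sz F m | g * g = 1 ∧
        g • S.pt x y = S.TgSz 0 b • S.pt x y}).ncard = 2 ^ (2 * m + 1) - 1 := by
      rw [← Nat.card_coe_set_eq]
      exact h1
    have h2 : S.TgSz 0 b ∈ {g : Cfsg.Sz F m | g * g = 1 ∧
        g • S.pt x y = S.TgSz 0 b • S.pt x y} := ⟨htt, rfl⟩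
    have h3 := Set.ncard_sdiff_singleton_of_mem h2
    rw [h1'] at h3
    have e : 2 ^ (2 * m + 1) - 2 = 2 ^ (2 * m + 1) - 1 - 1 := by omega
    rw [e, ← h3, ← Nat.card_coe_set_eq]
    apply Nat.card_congr
    refine Equiv.subtypeEquivRight (fun g => ?_)
    simp only [Set.mem_sdiff, Set.mem_ofPred_eq, Set.mem_singleton_iff]
    tauto
  -- the parametrization
  let ψ : (Σ xy : F × F, {t' : Cfsg.Sz F m // t' * t' = 1 ∧ t' ≠ S.TgSz 0 b ∧
      t' • S.pt xy.1 xy.2 = S.TgSz 0 b • S.pt xy.1 xy.2}) → S.Pairs b := fun w =>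
    ⟨(w.2.1, S.pt w.1.1 w.1.2), w.2.2.1, by
      intro hfix
      have h1 : w.2.1 ≠ 1 := by
        intro h1
        have h2 := w.2.2.2.2
        rw [h1, one_smul] at h2
        exact htp _ _ h2.symm
      have h2 := S.mem_QSz_of_inv_fix hm hF h1 w.2.2.1 hfix
      have h3 : ((S.TgSz 0 b)⁻¹ * w.2.1) • S.pt w.1.1 w.1.2 = S.pt w.1.1 w.1.2 := by
        rw [mul_smul, w.2.2.2.2, smul_smul, inv_mul_cancel, one_smul]
      have h4 : (S.TgSz 0 b)⁻¹ * w.2.1 = 1 := by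
        by_contra hne
        exact S.pt_ne_pInf _ _ (S.eq_pInf_of_mem_QSz_fix
          (S.QSz.mul_mem (S.QSz.inv_mem htQ) h2) hne (S.pt_mem _ _) h3)
      apply w.2.2.2.1
      calc w.2.1 = S.TgSz 0 b * ((S.TgSz 0 b)⁻¹ * w.2.1) := by group
        _ = S.TgSz 0 b := by rw [h4, mul_one], S.pt_mem _ _, by
      show (S.TgSz 0 b * w.2.1) • S.pt w.1.1 w.1.2 = S.pt w.1.1 w.1.2
      rw [mul_smul, w.2.2.2.2, smul_smul, htt, one_smul]⟩
  have hbij : Function.Bijective ψ := by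
    constructor
    · rintro ⟨⟨x, y⟩, t', h1⟩ ⟨⟨x', y'⟩, t'', h2⟩ hww
      have e1 : ((t', S.pt x y) : Cfsg.Sz F m × Projectivization F (Fin 4 → F)) =
          (t'', S.pt x' y') := congrArg Subtype.val hww
      have e2 : t' = t'' := congrArg Prod.fst e1
      have e3 : S.pt x y = S.pt x' y' := congrArg Prod.snd e1
      obtain ⟨rfl, rfl⟩ := S.pt_injective e3
      subst e2
      rfl
    · rintro ⟨⟨t', p⟩, ht', hmov, hp, hfix⟩
      have hfix' : (S.TgSz 0 b * t') • p = p := hfix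
      have hp1 : p ≠ pInf F := by
        rintro rfl
        apply hmov
        have : t' • pInf F = (S.TgSz 0 b)⁻¹ • ((S.TgSz 0 b * t') • pInf F) := by
          rw [smul_smul, inv_mul_cancel_left]
        rw [this, hfix', htinv, S.TgSz_smul_pInf]
      rcases (S.mem_ovoid_iff p).1 hp with h | ⟨x, y, rfl⟩
      · exact (hp1 h).elim
      · have e1 : t' • S.pt x y = S.TgSz 0 b • S.pt x y := by
          have : t' • S.pt x y = (S.TgSz 0 b)⁻¹ • ((S.TgSz 0 b * t') • S.pt x y) := by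
            rw [smul_smul, inv_mul_cancel_left]
          rw [this, hfix', htinv]
        have e2 : t' ≠ S.TgSz 0 b := by
          rintro rfl
          exact hmov (S.TgSz_smul_pInf 0 b)
        exact ⟨⟨⟨x, y⟩, t', ht', e2, e1⟩, rfl⟩
  have := Fintype.ofFinite (F × F)
  rw [← Nat.card_congr (Equiv.ofBijective ψ hbij), Nat.card_sigma]
  rw [Finset.sum_congr rfl (fun xy _ => hfib xy), Finset.sum_const, Finset.card_univ,
    smul_eq_mul, ← Nat.card_eq_fintype_card, Nat.card_prod, Nat.card_eq_fintype_card, hF]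
  ring

end group

end SzData

end Cfsg.Agent.Helper2.Sz
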