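import Mathlib
import Cfsg.Agent.Lib.Helper2.SzSol6

set_option autoImplicit false
set_option linter.unusedSectionVars false
set_option linter.unusedSimpArgs false
set_option linter.unusedVariables false

namespace Cfsg.Agent.Helper2.Sz

open Matrix Cfsg.Agent.S0335
open scoped Pointwise

variable {F : Type*} [Field F] {m : ℕ} (S : SzData F m)

namespace SzData

section group
variable [Fintype F]

theorem two_le_q (m : ℕ) : 2 ≤ 2 ^ (2 * m + 1) := by
  calc 2 = 2 ^ 1 := by norm_num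
    _ ≤ 2 ^ (2 * m + 1) := Nat.pow_le_pow_right (by norm_num) (by omega)

/-- the sum of the fixed point numbers -/
theorem sum_FixPt (hm : 1 ≤ m) (hF : Fintype.card F = 2 ^ (2 * m + 1)) {b : F} (hb : b ≠ 0)
    [Fintype (InvMov F m)] :
    ∑ t' : InvMov F m, Nat.card (FixPt (S.TgSz 0 b * t'.1)) =
      (2 ^ (2 * m + 1)) ^ 2 * (2 ^ (2 * m + 1) - 2) := by
  rw [← S.card_Pairs_eq_sum b, S.card_Pairs hm hF hb]

/-- the solubilizer of a central involution of the unipotent subgroup -/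
theorem card_sol_inv_std (hm : 1 ≤ m) (hp : (2 * m + 1).Prime)
    (hF : Fintype.card F = 2 ^ (2 * m + 1)) {b : F} (hb : b ≠ 0) :
    Nat.card {y : Cfsg.Sz F m //
      Group.IsSolvable (Subgroup.closure ({S.TgSz 0 b, y} : Set (Cfsg.Sz F m)))} =
      (2 ^ (2 * m + 1)) ^ 2 * (4 * 2 ^ (2 * m + 1) - 3) := by
  have hI := Fintype.ofFinite (InvMov F m)
  have hR := Fintype.ofFinite (S.RSet b (S.TgSz 0 b))
  have h1 := S.card_sol_eq hm hp hF (S.TgSz_mem 0 b)
  have h2 := S.card_YSet hm hp hF hb (S.TgSz_mem 0 b) (Or.inl rfl)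
  let e : S.RSet b (S.TgSz 0 b) ≃ InvMov F m :=
    Equiv.subtypeEquivRight (fun t' =>
      ⟨fun h => ⟨h.1, h.2.1⟩, fun h => ⟨h.1, h.2, S.Nrm_self b h.1⟩⟩)
  have h3 : ∑ t' : S.RSet b (S.TgSz 0 b), Nat.card (S.NQ b t'.1) =
      ∑ t' : InvMov F m, Nat.card (S.NQ b t'.1) :=
    Fintype.sum_equiv e _ _ (fun _ => rfl)
  have h4 : ∑ t' : InvMov F m, Nat.card (S.NQ b t'.1) +
      ∑ t' : InvMov F m, Nat.card (FixPt (S.TgSz 0 b * t'.1)) =
      4 * Nat.card (InvMov F m) := by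
    rw [← Finset.sum_add_distrib,
      Finset.sum_congr rfl (fun t' _ => S.card_NQ_add hm hF hb t'.2.1 t'.2.2),
      Finset.sum_const, Finset.card_univ, smul_eq_mul, Nat.card_eq_fintype_card, mul_comm]
  rw [S.sum_FixPt hm hF hb, S.card_InvMov hm hF, ← h3, ← h2] at h4
  rw [h1]
  have hq := two_le_q m
  obtain ⟨k, hk⟩ : ∃ k, 2 ^ (2 * m + 1) = k + 2 := ⟨2 ^ (2 * m + 1) - 2, by omega⟩
  rw [hk] at h4 ⊢
  have e1 : k + 2 - 2 = k := by omega
  have e2 : k + 2 - 1 = k + 1 := by omega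
  have e3 : 4 * (k + 2) - 3 = 4 * k + 5 := by omega
  rw [e1, e2] at h4
  rw [e2, e3]
  nlinarith

end group

end SzData

end Cfsg.Agent.Helper2.Sz
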