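import Mathlib
import Cfsg.Agent.Lib.Helper2.SzSol7

set_option autoImplicit false
set_option linter.unusedSectionVars false
set_option linter.unusedSimpArgs false
set_option linter.unusedVariables false

namespace Cfsg.Agent.Helper2.Sz

open Matrix Cfsg.Agent.S0335
open scoped Pointwise

variable {F : Type*} [Field F] {m : ℕ} (S : SzData F m)

namespace SzData

section group
variable [Fintype F]

/-- the Artin–Schreier type map of the Tits endomorphism has image of index two -/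
theorem artin_schreier (d : F) : ∃ v : F, S.s v + v = d ∨ S.s v + v = d + 1 := by
  let ℘ : F →+ F :=
    { toFun := fun v => S.s v + v
      map_zero' := by rw [map_zero, add_zero]
      map_add' := fun v w => by rw [map_add]; ring }
  have hker : ∀ v : F, v ∈ ℘.ker ↔ v = 0 ∨ v = 1 := by
    intro v
    rw [AddMonoidHom.mem_ker]
    show S.s v + v = 0 ↔ _
    constructor
    · intro h
      apply S.eq_zero_or_one_of_fix
      have : S.s v = -v := by linear_combination h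
      rw [this, S.neg_eq]
    · rintro (rfl | rfl)
      · rw [map_zero, add_zero]
      · rw [map_one]; exact S.add_self 1
  have hkcard : Nat.card ℘.ker = 2 := by
    rw [Nat.card_eq_two_iff]
    refine ⟨⟨0, (hker 0).2 (Or.inl rfl)⟩, ⟨1, (hker 1).2 (Or.inr rfl)⟩, ?_, ?_⟩
    · intro h
      exact zero_ne_one (congrArg Subtype.val h)
    · ext ⟨v, hv⟩
      simp only [Set.mem_insert_iff, Set.mem_singleton_iff, Set.mem_univ, iff_true]
      rcases (hker v).1 hv with h | h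
      · left; exact Subtype.ext h
      · right; exact Subtype.ext h
  have h1 := AddSubgroup.card_mul_index ℘.ker
  rw [AddSubgroup.index_ker, hkcard] at h1
  have h2 := AddSubgroup.card_mul_index ℘.range
  have hidx : ℘.range.index = 2 := by
    have hpos : 0 < Nat.card ℘.range := Nat.card_pos
    rw [← h1, mul_comm] at h2
    exact Nat.eq_of_mul_eq_mul_right hpos h2
  have hone : (1 : F) ∉ ℘.range := by
    rintro ⟨v, hv⟩
    exact S.s_add_ne_one v hv
  by_cases hd : d ∈ ℘.range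
  · obtain ⟨v, hv⟩ := hd
    exact ⟨v, Or.inl hv⟩
  · have h3 : d + 1 ∈ ℘.range :=
      (AddSubgroup.add_mem_iff_of_index_two hidx).2 ⟨fun h => (hd h).elim, fun h => (hone h).elim⟩
    obtain ⟨v, hv⟩ := h3
    exact ⟨v, Or.inr hv⟩

theorem TgSz_sq (a c : F) : S.TgSz a c * S.TgSz a c = S.TgSz 0 (S.s a * a) := by
  rw [TgSz_mul, S.add_self, S.add_self, zero_add]

/-- the unipotent elements with a given square -/
theorem X4_form {a₀ b : F} (ha₀ : a₀ * S.s a₀ = b) (x' : Cfsg.Sz F m) :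
    (x' ∈ S.QSz ∧ x' * x' = S.TgSz 0 b) ↔ ∃ c : F, x' = S.TgSz a₀ c := by
  constructor
  · rintro ⟨hQ, hsq⟩
    obtain ⟨a, c, rfl⟩ := S.mem_QSz_iff.1 hQ
    rw [S.TgSz_sq] at hsq
    have h1 := (S.TgSz_injective hsq).2
    have h2 : a = a₀ := by
      apply S.mul_s_injective
      show a * S.s a = a₀ * S.s a₀
      rw [ha₀, ← h1, mul_comm]
    exact ⟨c, by rw [h2]⟩
  · rintro ⟨c, rfl⟩
    refine ⟨S.TgSz_mem _ _, ?_⟩
    rw [S.TgSz_sq, ← ha₀, mul_comm]

theorem card_X4 (hF : Fintype.card F = 2 ^ (2 * m + 1)) {a₀ b : F} (ha₀ : a₀ * S.s a₀ = b) :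
    Nat.card {x' : Cfsg.Sz F m // x' ∈ S.QSz ∧ x' * x' = S.TgSz 0 b} = 2 ^ (2 * m + 1) := by
  let φ : F → {x' : Cfsg.Sz F m // x' ∈ S.QSz ∧ x' * x' = S.TgSz 0 b} := fun c =>
    ⟨S.TgSz a₀ c, (S.X4_form ha₀ _).2 ⟨c, rfl⟩⟩
  have hbij : Function.Bijective φ := by
    constructor
    · intro c c' h
      exact (S.TgSz_injective (congrArg Subtype.val h)).2
    · rintro ⟨x', hx'⟩
      obtain ⟨c, rfl⟩ := (S.X4_form ha₀ x').1 hx'
      exact ⟨c, rfl⟩
  rw [← Nat.card_congr (Equiv.ofBijective φ hbij), Nat.card_eq_fintype_card, hF]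

/-- two unipotent elements with the same square are conjugate up to inversion -/
theorem conj_X4 {a₀ : F} (ha₀0 : a₀ ≠ 0) (c₁ c₂ : F) :
    ∃ c : Cfsg.Sz F m, c ∈ S.QSz ∧
      (S.TgSz a₀ c₂ = c * S.TgSz a₀ c₁ * c⁻¹ ∨ S.TgSz a₀ c₂ = c * (S.TgSz a₀ c₁)⁻¹ * c⁻¹) := by
  have he : S.s a₀ * a₀ ≠ 0 := mul_ne_zero ((map_ne_zero S.s).2 ha₀0) ha₀0
  obtain ⟨v, hv⟩ := S.artin_schreier ((c₂ + c₁) / (S.s a₀ * a₀))
  refine ⟨S.TgSz (a₀ * v) 0, S.TgSz_mem _ _, ?_⟩
  have hconj : ∀ c : F, S.TgSz (a₀ * v) 0 * S.TgSz a₀ c * (S.TgSz (a₀ * v) 0)⁻¹ =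
      S.TgSz a₀ (c + S.s a₀ * a₀ * (S.s v + v)) := by
    intro c
    rw [TgSz_inv, TgSz_mul, TgSz_mul, map_add, map_mul]
    congr 1
    · linear_combination (a₀ * v) * S.h2
    · linear_combination (S.s a₀ * S.s v * a₀ * v) * S.h2
  rcases hv with hv | hv
  · left
    rw [hconj, hv, mul_div_cancel₀ _ he]
    congr 1
    linear_combination (-c₁) * S.h2
  · right
    rw [TgSz_inv, hconj, hv, mul_add, mul_div_cancel₀ _ he, mul_one]
    congr 1
    linear_combination (-c₁ - S.s a₀ * a₀) * S.h2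

end group

end SzData

end Cfsg.Agent.Helper2.Sz
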