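import Mathlib
import Cfsg.Agent.Lib.Helper2.SzSol8

set_option autoImplicit false
set_option linter.unusedSectionVars false
set_option linter.unusedSimpArgs false
set_option linter.unusedVariables false

namespace Cfsg.Agent.Helper2.Sz

open Matrix Cfsg.Agent.S0335
open scoped Pointwise

variable {F : Type*} [Field F] {m : ℕ} (S : SzData F m)

namespace SzData

section group
variable [Fintype F]

/-- conjugation by a unipotent element transports the involution sets -/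
theorem card_RSet_conj (b : F) {x x' c : Cfsg.Sz F m} (hc : c ∈ S.QSz)
    (hx' : x' = c * x * c⁻¹ ∨ x' = c * x⁻¹ * c⁻¹) :
    Nat.card (S.RSet b x') = Nat.card (S.RSet b x) := by
  symm
  apply Nat.card_congr
  refine (MulAut.conj c).toEquiv.subtypeEquiv (fun t'' => ?_)
  show _ ↔ (c * t'' * c⁻¹) * (c * t'' * c⁻¹) = 1 ∧ (c * t'' * c⁻¹) • pInf F ≠ pInf F ∧
    Nrm x' (S.TgSz 0 b * (c * t'' * c⁻¹))
  have hcinf : c • pInf F = pInf F := S.smul_pInf_of_mem_QSz hc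
  have hcinf' : c⁻¹ • pInf F = pInf F := by rw [inv_smul_eq_iff, hcinf]
  have h1 : (c * t'' * c⁻¹) * (c * t'' * c⁻¹) = 1 ↔ t'' * t'' = 1 := by
    have e : (c * t'' * c⁻¹) * (c * t'' * c⁻¹) = c * (t'' * t'') * c⁻¹ := by group
    rw [e]
    constructor
    · intro h
      calc t'' * t'' = c⁻¹ * (c * (t'' * t'') * c⁻¹) * c := by group
        _ = 1 := by rw [h]; group
    · intro h
      rw [h]; group
  have h2 : (c * t'' * c⁻¹) • pInf F = pInf F ↔ t'' • pInf F = pInf F := by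
    rw [mul_smul, mul_smul, hcinf']
    constructor
    · intro h
      have := (smul_eq_iff_eq_inv_smul c).1 h
      rw [this, hcinf']
    · intro h
      rw [h, hcinf]
  have h3 : S.TgSz 0 b * (c * t'' * c⁻¹) = c * (S.TgSz 0 b * t'') * c⁻¹ := by
    have hct := S.commute_of_mem_QSz b hc
    calc S.TgSz 0 b * (c * t'' * c⁻¹) = (S.TgSz 0 b * c) * t'' * c⁻¹ := by group
      _ = (c * S.TgSz 0 b) * t'' * c⁻¹ := by rw [hct]
      _ = _ := by group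
  have h4 : Nrm x' (S.TgSz 0 b * (c * t'' * c⁻¹)) ↔ Nrm x (S.TgSz 0 b * t'') := by
    rw [h3]
    rcases hx' with rfl | rfl
    · exact Nrm_conj
    · rw [Nrm_conj, Nrm_inv]
  rw [h1, h4]
  constructor
  · rintro ⟨p1, p2, p3⟩
    exact ⟨p1, fun h => p2 (h2.1 h), p3⟩
  · rintro ⟨p1, p2, p3⟩
    exact ⟨p1, fun h => p2 (h2.2 h), p3⟩

/-- the pairs (element of order four with given square, involution) -/
abbrev PairsX (b : F) : Type _ :=
  {v : Cfsg.Sz F m × Cfsg.Sz F m // (v.1 ∈ S.QSz ∧ v.1 * v.1 = S.TgSz 0 b) ∧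
    v.2 * v.2 = 1 ∧ v.2 • pInf F ≠ pInf F ∧ Nrm v.1 (S.TgSz 0 b * v.2)}

theorem card_PairsX_left (b : F)
    [Fintype {x' : Cfsg.Sz F m // x' ∈ S.QSz ∧ x' * x' = S.TgSz 0 b}] :
    Nat.card (S.PairsX b) =
      ∑ x' : {x' : Cfsg.Sz F m // x' ∈ S.QSz ∧ x' * x' = S.TgSz 0 b},
        Nat.card (S.RSet b x'.1) := by
  rw [← Nat.card_sigma]
  apply Nat.card_congr
  exact
    { toFun := fun v => ⟨⟨v.1.1, v.2.1⟩, ⟨v.1.2, v.2.2⟩⟩
      invFun := fun s => ⟨(s.1.1, s.2.1), s.1.2, s.2.2⟩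
      left_inv := fun v => rfl
      right_inv := fun s => rfl }

theorem card_PairsX_right (hm : 1 ≤ m) (hF : Fintype.card F = 2 ^ (2 * m + 1)) {b : F}
    (hb : b ≠ 0) [Fintype (InvMov F m)] :
    Nat.card (S.PairsX b) =
      ∑ t' : InvMov F m,
        Nat.card {x' : Cfsg.Sz F m // x' ∈ S.NQ b t'.1 ∧ x' * x' = S.TgSz 0 b} := by
  have h1 : Nat.card (S.PairsX b) = ∑ t' : InvMov F m,
      Nat.card {x' : Cfsg.Sz F m // (x' ∈ S.QSz ∧ x' * x' = S.TgSz 0 b) ∧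
        Nrm x' (S.TgSz 0 b * t'.1)} := by
    rw [← Nat.card_sigma]
    apply Nat.card_congr
    exact
      { toFun := fun v => ⟨⟨v.1.2, v.2.2.1, v.2.2.2.1⟩, ⟨v.1.1, v.2.1, v.2.2.2.2⟩⟩
        invFun := fun s => ⟨(s.2.1, s.1.1), s.2.2.1, s.1.2.1, s.1.2.2, s.2.2.2⟩
        left_inv := fun v => rfl
        right_inv := fun s => rfl }
  rw [h1]
  apply Finset.sum_congr rfl
  intro t' _
  apply Nat.card_congr
  refine Equiv.subtypeEquivRight (fun x' => ?_)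
  have hz1 := S.mul_ne_one_of_mov b t'.2.1 t'.2.2
  have hU := S.isMem_centralizer_mul hm hF hb t'.2.1 t'.2.2
  unfold NQ
  rw [Subgroup.mem_inf, S.mem_normalizer_centralizer_iff hm hF hz1 hU]
  tauto

/-- the number of involutions whose torus is normalized by an element of order four -/
theorem card_RSet (hm : 1 ≤ m) (hF : Fintype.card F = 2 ^ (2 * m + 1)) {a₀ c₀ : F}
    (ha₀0 : a₀ ≠ 0) :
    Nat.card (S.RSet (a₀ * S.s a₀) (S.TgSz a₀ c₀)) = (2 ^ (2 * m + 1)) ^ 2 := by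
  obtain ⟨b, hb⟩ : ∃ b, b = a₀ * S.s a₀ := ⟨_, rfl⟩
  have ha₀ : a₀ * S.s a₀ = b := hb.symm
  rw [ha₀]
  have hb0 : b ≠ 0 := by
    rw [hb]
    exact mul_ne_zero ha₀0 ((map_ne_zero S.s).2 ha₀0)
  have hX := Fintype.ofFinite {x' : Cfsg.Sz F m // x' ∈ S.QSz ∧ x' * x' = S.TgSz 0 b}
  have hI := Fintype.ofFinite (InvMov F m)
  have h1 := S.card_PairsX_left b
  have h2 := S.card_PairsX_right hm hF hb0
  have h3 : ∀ x' : {x' : Cfsg.Sz F m // x' ∈ S.QSz ∧ x' * x' = S.TgSz 0 b},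
      Nat.card (S.RSet b x'.1) = Nat.card (S.RSet b (S.TgSz a₀ c₀)) := by
    rintro ⟨x', hx'⟩
    obtain ⟨c₂, rfl⟩ := (S.X4_form ha₀ x').1 hx'
    obtain ⟨c, hcQ, hc⟩ := S.conj_X4 ha₀0 c₀ c₂
    exact S.card_RSet_conj b hcQ hc
  rw [Finset.sum_congr rfl (fun x' _ => h3 x'), Finset.sum_const, Finset.card_univ,
    smul_eq_mul, ← Nat.card_eq_fintype_card, S.card_X4 hF ha₀] at h1
  have h4 : ∑ t' : InvMov F m,
      Nat.card {x' : Cfsg.Sz F m // x' ∈ S.NQ b t'.1 ∧ x' * x' = S.TgSz 0 b} +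
      ∑ t' : InvMov F m, Nat.card (FixPt (S.TgSz 0 b * t'.1)) =
      2 * Nat.card (InvMov F m) := by
    rw [← Finset.sum_add_distrib,
      Finset.sum_congr rfl (fun t' _ => S.card_sq_add hm hF hb0 t'.2.1 t'.2.2),
      Finset.sum_const, Finset.card_univ, smul_eq_mul, Nat.card_eq_fintype_card, mul_comm]
  rw [S.sum_FixPt hm hF hb0, S.card_InvMov hm hF, ← h2, h1] at h4
  have hq := two_le_q m
  obtain ⟨k, hk⟩ : ∃ k, 2 ^ (2 * m + 1) = k + 2 := ⟨2 ^ (2 * m + 1) - 2, by omega⟩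
  rw [hk] at h4 ⊢
  have e1 : k + 2 - 2 = k := by omega
  have e2 : k + 2 - 1 = k + 1 := by omega
  rw [e1, e2] at h4
  have h5 : (k + 2) * Nat.card (S.RSet b (S.TgSz a₀ c₀)) = (k + 2) * (k + 2) ^ 2 := by
    nlinarith
  exact Nat.eq_of_mul_eq_mul_left (by omega) h5

/-- the solubilizer of a unipotent element of order four -/
theorem card_sol_four_std (hm : 1 ≤ m) (hp : (2 * m + 1).Prime)
    (hF : Fintype.card F = 2 ^ (2 * m + 1)) {a₀ c₀ : F} (ha₀0 : a₀ ≠ 0) :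
    Nat.card {y : Cfsg.Sz F m //
      Group.IsSolvable (Subgroup.closure ({S.TgSz a₀ c₀, y} : Set (Cfsg.Sz F m)))} =
      (2 ^ (2 * m + 1)) ^ 2 * (2 ^ (2 * m + 1) + 3) := by
  obtain ⟨b, hb⟩ : ∃ b, b = a₀ * S.s a₀ := ⟨_, rfl⟩
  have hb0 : b ≠ 0 := by
    rw [hb]
    exact mul_ne_zero ha₀0 ((map_ne_zero S.s).2 ha₀0)
  have hxx : S.TgSz a₀ c₀ * S.TgSz a₀ c₀ = S.TgSz 0 b := by
    rw [S.TgSz_sq, hb, mul_comm]
  have hxQ := S.TgSz_mem a₀ c₀
  have hR := Fintype.ofFinite (S.RSet b (S.TgSz a₀ c₀))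
  have h1 := S.card_sol_eq hm hp hF hxQ
  have h2 := S.card_YSet hm hp hF hb0 hxQ (Or.inr hxx)
  have h3 : ∀ t' : S.RSet b (S.TgSz a₀ c₀), Nat.card (S.NQ b t'.1) = 4 := by
    intro t'
    have hz1 := S.mul_ne_one_of_mov b t'.2.1 t'.2.2.1
    have hU := S.isMem_centralizer_mul hm hF hb0 t'.2.1 t'.2.2.1
    apply S.card_NQ_of_sq hm hF hb0 t'.2.1 t'.2.2.1 (x := S.TgSz a₀ c₀) _ hxx
    unfold NQ
    rw [Subgroup.mem_inf, S.mem_normalizer_centralizer_iff hm hF hz1 hU]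
    exact ⟨t'.2.2.2, hxQ⟩
  rw [Finset.sum_congr rfl (fun t' _ => h3 t'), Finset.sum_const, Finset.card_univ,
    smul_eq_mul, ← Nat.card_eq_fintype_card] at h2
  have h4 := S.card_RSet hm hF (c₀ := c₀) ha₀0
  rw [← hb] at h4
  rw [h1, h2, h4]
  have hq := two_le_q m
  obtain ⟨k, hk⟩ : ∃ k, 2 ^ (2 * m + 1) = k + 2 := ⟨2 ^ (2 * m + 1) - 2, by omega⟩
  rw [hk]
  have e2 : k + 2 - 1 = k + 1 := by omega
  rw [e2]
  ring

end group

end SzData

end Cfsg.Agent.Helper2.Sz
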