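import Mathlib
import Cfsg.Agent.Lib.Helper2.SzSol9
import Cfsg.Agent.Lib.Helper2.SzBridge

set_option autoImplicit false
set_option linter.unusedSectionVars false
set_option linter.unusedSimpArgs false
set_option linter.unusedVariables false

namespace Cfsg.Agent.Helper2.Sz

open Matrix Cfsg.Agent.S0335
open scoped Pointwise

variable {F : Type*} [Field F] {m : ℕ} (S : SzData F m)

namespace SzData

section group
variable [Fintype F]

include S in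
/-- the solubilizer of an involution -/
theorem card_sol_inv (hm : 1 ≤ m) (hp : (2 * m + 1).Prime)
    (hF : Fintype.card F = 2 ^ (2 * m + 1)) {x : Cfsg.Sz F m} (hx : orderOf x = 2) :
    Nat.card {y : Cfsg.Sz F m //
      Group.IsSolvable (Subgroup.closure ({x, y} : Set (Cfsg.Sz F m)))} =
      (2 ^ (2 * m + 1)) ^ 2 * (4 * 2 ^ (2 * m + 1) - 3) := by
  have hx1 : x ≠ 1 := by
    intro h
    rw [h, orderOf_one] at hx
    omega
  have hxx : x * x = 1 := by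
    rw [← pow_two, ← hx]
    exact pow_orderOf_eq_one x
  obtain ⟨k, b, hb, hk⟩ := S.inv_conj_form hm hF hx1 hxx
  have e : k⁻¹ * x * k = S.TgSz 0 b := by rw [hk]; group
  rw [← card_sol_conj k x, e]
  exact S.card_sol_inv_std hm hp hF hb

include S in
/-- the solubilizer of an element of order four -/
theorem card_sol_four (hm : 1 ≤ m) (hp : (2 * m + 1).Prime)
    (hF : Fintype.card F = 2 ^ (2 * m + 1)) {x : Cfsg.Sz F m} (hx : orderOf x = 4) :
    Nat.card {y : Cfsg.Sz F m //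
      Group.IsSolvable (Subgroup.closure ({x, y} : Set (Cfsg.Sz F m)))} =
      (2 ^ (2 * m + 1)) ^ 2 * (2 ^ (2 * m + 1) + 3) := by
  have hfact2 : Fact (Nat.Prime 2) := ⟨Nat.prime_two⟩
  have hP : IsPGroup 2 (Subgroup.zpowers x) := by
    apply IsPGroup.of_card (n := 2)
    rw [Nat.card_zpowers, hx]
    norm_num
  obtain ⟨Q', hQ'⟩ := hP.exists_le_sylow
  obtain ⟨g, hg⟩ := S.exists_conj_QSz hm hF Q'
  have h1 : x ∈ (Q' : Subgroup (Cfsg.Sz F m)) := hQ' (Subgroup.mem_zpowers x)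
  rw [hg, Subgroup.mem_pointwise_smul_iff_inv_smul_mem, ← map_inv, MulAut.smul_def,
    MulAut.conj_apply, inv_inv] at h1
  obtain ⟨a, c, hac⟩ := S.mem_QSz_iff.1 h1
  have ha : a ≠ 0 := by
    rintro rfl
    have h2 : (g⁻¹ * x * g) * (g⁻¹ * x * g) = 1 := by
      rw [hac]; exact S.TgSz_zero_mul_self c
    have h3 : x ^ 2 = 1 := by
      rw [pow_two]
      calc x * x = g * ((g⁻¹ * x * g) * (g⁻¹ * x * g)) * g⁻¹ := by group
        _ = 1 := by rw [h2]; group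
    have h4 := orderOf_dvd_of_pow_eq_one h3
    rw [hx] at h4
    omega
  rw [← card_sol_conj g x, hac]
  exact S.card_sol_four_std hm hp hF ha

include S in
/-- the solubilizer sizes in the Suzuki groups -/
theorem solubilizer_card (hm : 1 ≤ m) (hp : (2 * m + 1).Prime)
    (hF : Fintype.card F = 2 ^ (2 * m + 1)) (x : Cfsg.Sz F m) :
    (orderOf x = 2 → Nat.card {y : Cfsg.Sz F m //
      Group.IsSolvable (Subgroup.closure ({x, y} : Set (Cfsg.Sz F m)))} =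
        (2 ^ (2 * m + 1)) ^ 2 * (4 * 2 ^ (2 * m + 1) - 3)) ∧
    (orderOf x = 4 → Nat.card {y : Cfsg.Sz F m //
      Group.IsSolvable (Subgroup.closure ({x, y} : Set (Cfsg.Sz F m)))} =
        (2 ^ (2 * m + 1)) ^ 2 * (2 ^ (2 * m + 1) + 3)) ∧
    (x ≠ 1 → orderOf x ∣ 2 ^ (2 * m + 1) - 1 → Nat.card {y : Cfsg.Sz F m //
      Group.IsSolvable (Subgroup.closure ({x, y} : Set (Cfsg.Sz F m)))} =
        2 * (2 ^ (2 * m + 1)) ^ 2 * (2 ^ (2 * m + 1) - 1)) ∧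
    (x ≠ 1 → orderOf x ∣ 2 ^ (2 * m + 1) + 2 ^ (m + 1) + 1 → Nat.card {y : Cfsg.Sz F m //
      Group.IsSolvable (Subgroup.closure ({x, y} : Set (Cfsg.Sz F m)))} =
        4 * (2 ^ (2 * m + 1) + 2 ^ (m + 1) + 1)) ∧
    (x ≠ 1 → orderOf x ∣ 2 ^ (2 * m + 1) - 2 ^ (m + 1) + 1 → Nat.card {y : Cfsg.Sz F m //
      Group.IsSolvable (Subgroup.closure ({x, y} : Set (Cfsg.Sz F m)))} =
        4 * (2 ^ (2 * m + 1) - 2 ^ (m + 1) + 1)) :=
  ⟨fun h => S.card_sol_inv hm hp hF h, fun h => S.card_sol_four hm hp hF h,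
    fun h1 h => S.card_sol_split hm hp hF h1 h,
    fun h1 h => S.card_sol_twisted hm hp hF h1 (Or.inl rfl) h,
    fun h1 h => S.card_sol_twisted hm hp hF h1 (Or.inr rfl) h⟩

end group

end SzData

/-- transfer to the Lie-type model -/
theorem solubilizer_card_lie {F : Type*} [Field F] [Fintype F] {m : ℕ} (hm : 1 ≤ m)
    (hp : (2 * m + 1).Prime) (hF : Fintype.card F = 2 ^ (2 * m + 1))
    (x : Cfsg.Lie.Sz F (2 ^ (m + 1))) :
    (orderOf x = 2 → Nat.card {y : Cfsg.Lie.Sz F (2 ^ (m + 1)) //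
      Group.IsSolvable (Subgroup.closure ({x, y} : Set (Cfsg.Lie.Sz F (2 ^ (m + 1)))))} =
        (2 ^ (2 * m + 1)) ^ 2 * (4 * 2 ^ (2 * m + 1) - 3)) ∧
    (orderOf x = 4 → Nat.card {y : Cfsg.Lie.Sz F (2 ^ (m + 1)) //
      Group.IsSolvable (Subgroup.closure ({x, y} : Set (Cfsg.Lie.Sz F (2 ^ (m + 1)))))} =
        (2 ^ (2 * m + 1)) ^ 2 * (2 ^ (2 * m + 1) + 3)) ∧
    (x ≠ 1 → orderOf x ∣ 2 ^ (2 * m + 1) - 1 → Nat.card {y : Cfsg.Lie.Sz F (2 ^ (m + 1)) //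
      Group.IsSolvable (Subgroup.closure ({x, y} : Set (Cfsg.Lie.Sz F (2 ^ (m + 1)))))} =
        2 * (2 ^ (2 * m + 1)) ^ 2 * (2 ^ (2 * m + 1) - 1)) ∧
    (x ≠ 1 → orderOf x ∣ 2 ^ (2 * m + 1) + 2 ^ (m + 1) + 1 →
      Nat.card {y : Cfsg.Lie.Sz F (2 ^ (m + 1)) //
        Group.IsSolvable (Subgroup.closure ({x, y} : Set (Cfsg.Lie.Sz F (2 ^ (m + 1)))))} =
        4 * (2 ^ (2 * m + 1) + 2 ^ (m + 1) + 1)) ∧
    (x ≠ 1 → orderOf x ∣ 2 ^ (2 * m + 1) - 2 ^ (m + 1) + 1 →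
      Nat.card {y : Cfsg.Lie.Sz F (2 ^ (m + 1)) //
        Group.IsSolvable (Subgroup.closure ({x, y} : Set (Cfsg.Lie.Sz F (2 ^ (m + 1)))))} =
        4 * (2 ^ (2 * m + 1) - 2 ^ (m + 1) + 1)) := by
  obtain ⟨S⟩ := nonempty_szData (m := m) hF
  obtain ⟨e⟩ := nonempty_bridge hm hF
  obtain ⟨x', rfl⟩ := e.surjective x
  have hord : orderOf (e x') = orderOf x' := MulEquiv.orderOf_eq e x'
  have hne : e x' ≠ 1 ↔ x' ≠ 1 := by
    rw [Ne, Ne, MulEquiv.map_eq_one_iff]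
  rw [card_sol_map e x', hord, hne]
  exact S.solubilizer_card hm hp hF x'

end Cfsg.Agent.Helper2.Sz
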