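import Mathlib
import Cfsg.Agent.Lib.Helper2.SzSub1

set_option autoImplicit false
set_option linter.unusedSectionVars false
set_option linter.unusedSimpArgs false
set_option linter.unusedVariables false

namespace Cfsg.Agent.Helper2.Sz

open Matrix Cfsg.Agent.S0335
open scoped Pointwise
open SzData

variable {F : Type*} [Field F] [Fintype F] {m : ℕ} (SF : SzData F m)
variable {K : Type*} [Field K] [Fintype K] {k : ℕ} (SK : SzData K k)

/-- a conjugate of an embedded Suzuki group over a subfield has its unipotent subgroup and its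
torus inside the standard ones -/
theorem exists_normalize_hom (hm : 1 ≤ m) (hF : Fintype.card F = 2 ^ (2 * m + 1))
    (hk : 1 ≤ k) (hK : Fintype.card K = 2 ^ (2 * k + 1))
    (θ : Cfsg.Sz K k →* Cfsg.Sz F m) (hθ : Function.Injective θ) :
    ∃ g : Cfsg.Sz F m,
      (∀ a b, ∃ a' b', g * θ (SK.TgSz a b) * g⁻¹ = SF.TgSz a' b') ∧
      (∀ u, ∃ v, g * θ (SK.DgSz u) * g⁻¹ = SF.DgSz v) := by
  have hfact : Fact (Nat.Prime 2) := ⟨Nat.prime_two⟩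
  -- first step: the unipotent subgroup
  have hP : IsPGroup 2 ((SK.QSz).map θ) := (SK.isPGroup_QSz hK).map θ
  obtain ⟨Syl, hSyl⟩ := hP.exists_le_sylow
  obtain ⟨g₁, hg₁⟩ := SF.exists_conj_QSz hm hF Syl
  obtain ⟨θ₁, hθ₁def⟩ : ∃ θ₁ : Cfsg.Sz K k →* Cfsg.Sz F m,
      θ₁ = (MulAut.conj g₁⁻¹).toMonoidHom.comp θ := ⟨_, rfl⟩
  have hθ₁ : ∀ x, θ₁ x = g₁⁻¹ * θ x * g₁ := by
    intro x
    rw [hθ₁def, MonoidHom.comp_apply]
    show (MulAut.conj g₁⁻¹) (θ x) = _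
    rw [MulAut.conj_apply, inv_inv]
  have hθ₁inj : Function.Injective θ₁ := by
    intro x y hxy
    rw [hθ₁, hθ₁] at hxy
    exact hθ (mul_left_cancel (mul_right_cancel hxy))
  have hQ₁ : ∀ x ∈ SK.QSz, θ₁ x ∈ SF.QSz := by
    intro x hx
    have h1 : θ x ∈ (Syl : Subgroup (Cfsg.Sz F m)) := hSyl (Subgroup.mem_map_of_mem θ hx)
    rw [hg₁, Subgroup.mem_smul_pointwise_iff_exists] at h1
    obtain ⟨y, hy, hyx⟩ := h1
    rw [MulAut.smul_def, MulAut.conj_apply] at hyx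
    rw [hθ₁, ← hyx]
    have e : g₁⁻¹ * (g₁ * y * g₁⁻¹) * g₁ = y := by group
    rw [e]
    exact hy
  -- second step: the torus lies in the Borel subgroup
  have hz : ∃ a' b', θ₁ (SK.TgSz 0 1) = SF.TgSz a' b' ∧ ¬ (a' = 0 ∧ b' = 0) := by
    obtain ⟨a', b', hab⟩ := SF.mem_QSz_iff.1 (hQ₁ _ (SK.TgSz_mem 0 1))
    refine ⟨a', b', hab, ?_⟩
    rintro ⟨rfl, rfl⟩
    rw [SF.TgSz_zero, ← map_one θ₁] at hab
    have h1 := hθ₁inj hab
    rw [SK.TgSz_eq_one_iff] at h1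
    exact one_ne_zero h1.2
  obtain ⟨za, zb, hzab, hzne⟩ := hz
  have hB₁ : ∀ u, θ₁ (SK.DgSz u) ∈ MulAction.stabilizer (Cfsg.Sz F m) (pInf F) := by
    intro u
    obtain ⟨y, hydef⟩ : ∃ y, y = θ₁ (SK.DgSz u) := ⟨_, rfl⟩
    rw [← hydef]
    have h1 : y * SF.TgSz za zb * y⁻¹ ∈ SF.QSz := by
      rw [hydef, ← hzab, ← map_inv, ← map_mul, ← map_mul, SK.conj_DgSz_TgSz]
      exact hQ₁ _ (SK.TgSz_mem _ _)
    have h2 := SF.QSz_le_stabilizer h1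
    rw [MulAction.mem_stabilizer_iff, Subgroup.smul_def] at h2
    have e : ((y * SF.TgSz za zb * y⁻¹ : Cfsg.Sz F m) : SpecialLinearGroup (Fin 4) F) =
        (y : SpecialLinearGroup (Fin 4) F) * SF.Tg za zb *
          ((y⁻¹ : Cfsg.Sz F m) : SpecialLinearGroup (Fin 4) F) := rfl
    rw [e, mul_smul, mul_smul] at h2
    have h3 : SF.Tg za zb • ((y⁻¹ : Cfsg.Sz F m) : SpecialLinearGroup (Fin 4) F) • pInf F =
        ((y⁻¹ : Cfsg.Sz F m) : SpecialLinearGroup (Fin 4) F) • pInf F := by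
      have h4 : ((y⁻¹ : Cfsg.Sz F m) : SpecialLinearGroup (Fin 4) F) •
          (y : SpecialLinearGroup (Fin 4) F) • SF.Tg za zb •
            ((y⁻¹ : Cfsg.Sz F m) : SpecialLinearGroup (Fin 4) F) • pInf F =
          ((y⁻¹ : Cfsg.Sz F m) : SpecialLinearGroup (Fin 4) F) • pInf F := by rw [h2]
      rw [← mul_smul] at h4
      have e2 : ((y⁻¹ : Cfsg.Sz F m) : SpecialLinearGroup (Fin 4) F) *
          (y : SpecialLinearGroup (Fin 4) F) = 1 := by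
        rw [← Subgroup.coe_mul, inv_mul_cancel, Subgroup.coe_one]
      rw [e2, one_smul] at h4
      exact h4
    have h5 := SF.eq_pInf_of_Tg_fix' hzne (smul_mem_of_mem_Sz (y⁻¹).2 SF.pInf_mem) h3
    have h6 : y⁻¹ ∈ MulAction.stabilizer (Cfsg.Sz F m) (pInf F) := by
      rw [MulAction.mem_stabilizer_iff, Subgroup.smul_def]
      exact h5
    have h7 := Subgroup.inv_mem _ h6
    rwa [inv_inv] at h7
  -- third step: conjugate the torus into the standard torus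
  obtain ⟨u₁, hu₁⟩ := IsCyclic.exists_generator (α := Kˣ)
  have hu₁1 : u₁ ≠ 1 := by
    intro h
    obtain ⟨v, hv⟩ := SK.exists_unit_ne_one hk hK
    apply hv
    obtain ⟨n, hn⟩ := Subgroup.mem_zpowers_iff.1 (hu₁ v)
    rw [← hn, h, _root_.one_zpow]
  obtain ⟨a₀, b₀, v₁, hy₁⟩ := (SF.mem_stabilizer_pInf_iff hm hF).1 (hB₁ u₁)
  have hv₁ : v₁ ≠ 1 := by
    intro h
    rw [h, map_one, mul_one] at hy₁
    -- then the image commutes with the central involution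
    have h1 : θ₁ (SK.DgSz u₁) * θ₁ (SK.TgSz 0 1) = θ₁ (SK.TgSz 0 1) * θ₁ (SK.DgSz u₁) := by
      have hz0 : za = 0 := by
        have h2 : θ₁ (SK.TgSz 0 1) * θ₁ (SK.TgSz 0 1) = 1 := by
          rw [← map_mul, SK.TgSz_mul, SK.add_self, SK.add_self, map_zero, zero_mul, add_zero,
            SK.TgSz_zero, map_one]
        rw [hzab, SF.TgSz_mul, SF.TgSz_eq_one_iff] at h2
        have h3 : SF.s za * za = 0 := by
          have := h2.2
          rw [SF.add_self, zero_add] at this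
          exact this
        rcases mul_eq_zero.1 h3 with h | h
        · exact (map_eq_zero SF.s).1 h
        · exact h
      rw [hy₁, hzab, hz0, SF.TgSz_mul, SF.TgSz_mul, map_zero, zero_mul, mul_zero, add_zero,
        add_zero, add_zero, zero_add, add_comm b₀ zb]
    rw [← map_mul, ← map_mul] at h1
    have h2 := hθ₁inj h1
    have h3 : SK.DgSz u₁ * SK.TgSz 0 1 * (SK.DgSz u₁)⁻¹ = SK.TgSz 0 1 := by
      rw [h2, mul_inv_cancel_right]
    rw [SK.conj_DgSz_TgSz] at h3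
    have h4 := (SK.TgSz_injective h3).2
    rw [mul_one] at h4
    exact hu₁1 (SK.unit_eq_one_of h4)
  have hsv : SF.s v₁ + 1 ≠ 0 := by
    intro h
    apply hv₁
    apply Units.ext
    apply SF.s_injective
    rw [Units.val_one, map_one]
    linear_combination h - SF.add_self 1
  have hsv' : SF.s v₁ * (v₁ : F) ^ 2 + 1 ≠ 0 := by
    intro h
    apply hv₁
    apply SF.unit_eq_one_of
    linear_combination h - SF.add_self 1
  obtain ⟨pa, hpa⟩ : ∃ pa : F, pa = a₀ / (SF.s v₁ + 1) := ⟨_, rfl⟩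
  obtain ⟨pb, hpb⟩ : ∃ pb : F, pb = (b₀ + SF.s a₀ * (SF.s v₁ * pa)) /
      (SF.s v₁ * (v₁ : F) ^ 2 + 1) := ⟨_, rfl⟩
  have hfixpt : (SF.Tg a₀ b₀ * SF.Dg v₁) • SF.pt pa pb = SF.pt pa pb := by
    rw [mul_smul, SF.Dg_smul_pt, SF.Tg_smul_pt]
    have h1 : a₀ + SF.s v₁ * pa = pa := by
      have : pa * (SF.s v₁ + 1) = a₀ := by rw [hpa, div_mul_cancel₀ _ hsv]
      linear_combination -this + SF.add_self (SF.s v₁ * pa)
    have h2 : b₀ + SF.s v₁ * (v₁ : F) ^ 2 * pb + SF.s a₀ * (SF.s v₁ * pa) = pb := by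
      have : pb * (SF.s v₁ * (v₁ : F) ^ 2 + 1) = b₀ + SF.s a₀ * (SF.s v₁ * pa) := by
        rw [hpb, div_mul_cancel₀ _ hsv']
      linear_combination -this + SF.add_self (SF.s v₁ * (v₁ : F) ^ 2 * pb)
    rw [h1, h2]
  have hconj₁ : (SF.TgSz pa pb)⁻¹ * θ₁ (SK.DgSz u₁) * SF.TgSz pa pb ∈ SF.DgSz.range := by
    rw [SF.range_DgSz hm hF, Subgroup.mem_inf, MulAction.mem_stabilizer_iff,
      MulAction.mem_stabilizer_iff, Subgroup.smul_def, Subgroup.smul_def, hy₁]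
    have e : (((SF.TgSz pa pb)⁻¹ * (SF.TgSz a₀ b₀ * SF.DgSz v₁) * SF.TgSz pa pb : Cfsg.Sz F m) :
        SpecialLinearGroup (Fin 4) F) =
        (SF.Tg pa pb)⁻¹ * (SF.Tg a₀ b₀ * SF.Dg v₁) * SF.Tg pa pb := rfl
    rw [e]
    constructor
    · rw [mul_smul, mul_smul, SF.Tg_smul_pInf, SF.Tg_Dg_smul_pInf, inv_smul_eq_iff,
        SF.Tg_smul_pInf]
    · rw [mul_smul, mul_smul, SF.Tg_smul_pt_zero, hfixpt, inv_smul_eq_iff, SF.Tg_smul_pt_zero]
  refine ⟨(SF.TgSz pa pb)⁻¹ * g₁⁻¹, ?_, ?_⟩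
  · intro a b
    have h1 := hQ₁ _ (SK.TgSz_mem a b)
    have h2 : (SF.TgSz pa pb)⁻¹ * θ₁ (SK.TgSz a b) * SF.TgSz pa pb ∈ SF.QSz :=
      SF.QSz.mul_mem (SF.QSz.mul_mem (SF.QSz.inv_mem (SF.TgSz_mem _ _)) h1) (SF.TgSz_mem _ _)
    obtain ⟨a', b', hab⟩ := SF.mem_QSz_iff.1 h2
    refine ⟨a', b', ?_⟩
    rw [← hab, hθ₁]
    group
  · intro u
    obtain ⟨n, hn⟩ := Subgroup.mem_zpowers_iff.1 (hu₁ u)
    have hΘ : ∀ x, (MulAut.conj ((SF.TgSz pa pb)⁻¹ * g₁⁻¹)).toMonoidHom.comp θ x =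
        (SF.TgSz pa pb)⁻¹ * g₁⁻¹ * θ x * ((SF.TgSz pa pb)⁻¹ * g₁⁻¹)⁻¹ := by
      intro x
      rw [MonoidHom.comp_apply]
      show (MulAut.conj ((SF.TgSz pa pb)⁻¹ * g₁⁻¹)) (θ x) = _
      rw [MulAut.conj_apply]
    have h1 : (SF.TgSz pa pb)⁻¹ * g₁⁻¹ * θ (SK.DgSz u) * ((SF.TgSz pa pb)⁻¹ * g₁⁻¹)⁻¹ =
        ((SF.TgSz pa pb)⁻¹ * θ₁ (SK.DgSz u₁) * SF.TgSz pa pb) ^ n := by
      have e1 : (SF.TgSz pa pb)⁻¹ * θ₁ (SK.DgSz u₁) * SF.TgSz pa pb =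
          (MulAut.conj ((SF.TgSz pa pb)⁻¹ * g₁⁻¹)).toMonoidHom.comp θ (SK.DgSz u₁) := by
        rw [hΘ, hθ₁]
        group
      rw [e1, ← map_zpow, ← map_zpow, hn, hΘ]
    have h2 := SF.DgSz.range.zpow_mem hconj₁ n
    rw [← h1] at h2
    obtain ⟨v, hv⟩ := h2
    exact ⟨v, hv.symm⟩

end Cfsg.Agent.Helper2.Sz
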