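import Mathlib
import Cfsg.Agent.Lib.Helper2.SzSub2

set_option autoImplicit false
set_option linter.unusedSectionVars false
set_option linter.unusedSimpArgs false
set_option linter.unusedVariables false

namespace Cfsg.Agent.Helper2.Sz

open Matrix Cfsg.Agent.S0335
open SzData

variable {F : Type*} [Field F] [Fintype F] {m : ℕ} (SF : SzData F m)
variable {K : Type*} [Field K] [Fintype K] {k : ℕ} (SK : SzData K k)

/-- an embedding mapping the unipotent subgroup and the torus into the standard ones is, up to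
a torus element, given on the torus and on the unipotent subgroup modulo its centre by a field
embedding -/
theorem exists_embedding_data (hm : 1 ≤ m) (hF : Fintype.card F = 2 ^ (2 * m + 1))
    (hk : 1 ≤ k) (hK : Fintype.card K = 2 ^ (2 * k + 1)) (hdiv : 2 * k + 1 ∣ 2 * m + 1)
    (θ : Cfsg.Sz K k →* Cfsg.Sz F m) (hθ : Function.Injective θ)
    (hQ : ∀ a b, ∃ a' b', θ (SK.TgSz a b) = SF.TgSz a' b')
    (hD : ∀ u, ∃ v, θ (SK.DgSz u) = SF.DgSz v) :
    ∃ (v : Fˣ) (φ : K →+* F),
      (∀ u, SF.DgSz v * θ (SK.DgSz u) * (SF.DgSz v)⁻¹ =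
        SF.DgSz (Units.map (φ : K →* F) u)) ∧
      (∀ a b, ∃ b', SF.DgSz v * θ (SK.TgSz a b) * (SF.DgSz v)⁻¹ = SF.TgSz (φ a) b') := by
  classical
  choose fa fb hfab using hQ
  choose τ hτ using hD
  have hmul : ∀ a b c d, fa (a + c) (b + d + SK.s a * c) = fa a b + fa c d ∧
      fb (a + c) (b + d + SK.s a * c) = fb a b + fb c d + SF.s (fa a b) * fa c d := by
    intro a b c d
    have h1 : θ (SK.TgSz a b * SK.TgSz c d) = θ (SK.TgSz a b) * θ (SK.TgSz c d) :=
      map_mul θ _ _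
    rw [SK.TgSz_mul, hfab, hfab, hfab, SF.TgSz_mul] at h1
    exact SF.TgSz_injective h1
  have h00 : fa 0 0 = 0 ∧ fb 0 0 = 0 := by
    have h1 : θ (SK.TgSz 0 0) = 1 := by rw [SK.TgSz_zero, map_one]
    rw [hfab, SF.TgSz_eq_one_iff] at h1
    exact h1
  have hZ : ∀ b, fa 0 b = 0 := by
    intro b
    have h1 := (hmul 0 b 0 b).2
    rw [add_zero, SK.add_self, map_zero, zero_mul, add_zero, h00.2, SF.add_self, zero_add] at h1
    rcases mul_eq_zero.1 h1.symm with h | h
    · exact (map_eq_zero SF.s).1 h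
    · exact h
  have hsplit : ∀ a b, fa a b = fa a 0 := by
    intro a b
    have h1 := (hmul a 0 0 b).1
    rw [add_zero, zero_add, mul_zero, add_zero, hZ, add_zero] at h1
    exact h1
  have hf_add : ∀ a c, fa (a + c) 0 = fa a 0 + fa c 0 := by
    intro a c
    have h1 := (hmul a 0 c 0).1
    rw [hsplit] at h1
    exact h1
  have hf_inj : ∀ a, fa a 0 = 0 → a = 0 := by
    intro a ha
    have h1 : θ (SK.TgSz a 0 * SK.TgSz a 0) = 1 := by
      rw [map_mul, hfab, ha, SF.TgSz_mul, SF.add_self, SF.add_self, map_zero, zero_mul, add_zero,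
        SF.TgSz_zero]
    rw [← map_one θ] at h1
    have h2 := hθ h1
    rw [SK.TgSz_mul, SK.TgSz_eq_one_iff] at h2
    have h3 := h2.2
    rw [add_zero, zero_add] at h3
    rcases mul_eq_zero.1 h3 with h | h
    · exact (map_eq_zero SK.s).1 h
    · exact h
  have hconj : ∀ (u : Kˣ) (a : K), fa (SK.s u * a) 0 = SF.s (τ u) * fa a 0 := by
    intro u a
    have h1 : θ (SK.DgSz u * SK.TgSz a 0) = θ (SK.DgSz u) * θ (SK.TgSz a 0) := map_mul θ _ _
    rw [SK.DgSz_TgSz, map_mul, hτ, hfab, hfab, SF.DgSz_TgSz] at h1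
    have h2 := (SF.TgSz_injective (mul_right_cancel h1)).1
    rw [mul_zero, hsplit] at h2
    exact h2
  obtain ⟨c, hcdef⟩ : ∃ c : F, c = fa 1 0 := ⟨_, rfl⟩
  have hc : c ≠ 0 := by
    intro h0
    rw [hcdef] at h0
    exact one_ne_zero (hf_inj 1 h0)
  have hfs : ∀ u : Kˣ, fa (SK.s u) 0 = SF.s (τ u) * c := by
    intro u
    have h1 := hconj u 1
    rw [mul_one, ← hcdef] at h1
    exact h1
  -- the field embedding
  obtain ⟨φ, hφ⟩ : ∃ φ : K →+* F, ∀ x, φ x = fa x 0 * c⁻¹ := by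
    refine ⟨{ toFun := fun x => fa x 0 * c⁻¹
              map_one' := ?_
              map_mul' := ?_
              map_zero' := ?_
              map_add' := ?_ }, fun x => rfl⟩
    · show fa 1 0 * c⁻¹ = 1
      rw [← hcdef, mul_inv_cancel₀ hc]
    · intro x y
      show fa (x * y) 0 * c⁻¹ = fa x 0 * c⁻¹ * (fa y 0 * c⁻¹)
      by_cases hx : x = 0
      · rw [hx, zero_mul, h00.1, zero_mul, zero_mul]
      obtain ⟨u, hu⟩ := SK.exists_unit_s_eq hx
      rw [← hu, hconj, hfs]
      field_simp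
    · show fa 0 0 * c⁻¹ = 0
      rw [h00.1, zero_mul]
    · intro x y
      show fa (x + y) 0 * c⁻¹ = fa x 0 * c⁻¹ + fa y 0 * c⁻¹
      rw [hf_add, add_mul]
  have hφs : ∀ x, φ (SK.s x) = SF.s (φ x) := map_s_of_dvd SF SK hK hdiv φ
  have hτφ : ∀ u : Kˣ, (τ u : F) = φ u := by
    intro u
    apply SF.s_injective
    rw [← hφs, hφ, hfs, mul_assoc, mul_inv_cancel₀ hc, mul_one]
  have hfφ : ∀ y, fa y 0 = c * φ y := by
    intro y
    rw [hφ, mul_comm (fa y 0), mul_inv_cancel_left₀ hc]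
  obtain ⟨v, hv⟩ := SF.exists_unit_s_eq (inv_ne_zero hc)
  refine ⟨v, φ, ?_, ?_⟩
  · intro u
    rw [hτ, ← map_mul, ← map_inv, ← map_mul, mul_comm v, mul_inv_cancel_right]
    congr 1
    apply Units.ext
    rw [hτφ]
    rfl
  · intro a b
    refine ⟨SF.s v * (v : F) ^ 2 * fb a b, ?_⟩
    rw [hfab, SF.conj_DgSz_TgSz, hsplit, hfφ, hv, inv_mul_cancel_left₀ hc]

/-- an embedding which agrees with a field embedding on the torus and on the unipotent subgroup
modulo its centre agrees with it on the unipotent subgroup -/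
theorem eq_emb_on_unipotent (hk : 1 ≤ k) (hK : Fintype.card K = 2 ^ (2 * k + 1))
    (θ : Cfsg.Sz K k →* Cfsg.Sz F m) (φ : K →+* F) (hφ : ∀ x, φ (SK.s x) = SF.s (φ x))
    (hD : ∀ u, θ (SK.DgSz u) = SF.DgSz (Units.map (φ : K →* F) u))
    (hQ : ∀ a b, ∃ b', θ (SK.TgSz a b) = SF.TgSz (φ a) b') :
    ∀ a b, θ (SK.TgSz a b) = SF.TgSz (φ a) (φ b) := by
  choose g hg using hQ
  have hmul : ∀ a b c d, g (a + c) (b + d + SK.s a * c) = g a b + g c d + φ (SK.s a * c) := by
    intro a b c d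
    have h1 : θ (SK.TgSz a b * SK.TgSz c d) = θ (SK.TgSz a b) * θ (SK.TgSz c d) :=
      map_mul θ _ _
    rw [SK.TgSz_mul, hg, hg, hg, SF.TgSz_mul] at h1
    have h2 := (SF.TgSz_injective h1).2
    rw [h2, map_mul, hφ]
  have h00 : g 0 0 = 0 := by
    have h1 : θ (SK.TgSz 0 0) = 1 := by rw [SK.TgSz_zero, map_one]
    rw [hg, SF.TgSz_eq_one_iff] at h1
    exact h1.2
  have hsplit : ∀ a b, g a b = g a 0 + g 0 b := by
    intro a b
    have h1 := hmul a 0 0 b
    rw [add_zero, zero_add, mul_zero, add_zero, map_zero, add_zero] at h1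
    exact h1
  have hh_add : ∀ b d, g 0 (b + d) = g 0 b + g 0 d := by
    intro b d
    have h1 := hmul 0 b 0 d
    rw [add_zero, map_zero, zero_mul, add_zero, map_zero, add_zero] at h1
    exact h1
  have hconj : ∀ (u : Kˣ) (a b : K),
      g (SK.s u * a) (SK.s u * (u : K) ^ 2 * b) = φ (SK.s u * (u : K) ^ 2) * g a b := by
    intro u a b
    have h1 : θ (SK.DgSz u * SK.TgSz a b) = θ (SK.DgSz u) * θ (SK.TgSz a b) := map_mul θ _ _
    rw [SK.DgSz_TgSz, map_mul, hD, hg, hg, SF.DgSz_TgSz] at h1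
    have h2 := (SF.TgSz_injective (mul_right_cancel h1)).2
    rw [h2, map_mul, map_pow, hφ]
    rfl
  have hh_lin : ∀ e b : K, e ≠ 0 → g 0 (e * b) = φ e * g 0 b := by
    intro e b he
    obtain ⟨u, hu⟩ := SK.exists_unit_eq he
    have h1 := hconj u 0 b
    rw [mul_zero, hu] at h1
    exact h1
  -- the centre
  have hh1 : g 0 1 = 1 := by
    have h1 := hmul 1 0 1 0
    rw [SK.add_self, add_zero, zero_add, map_one, mul_one, SF.add_self, zero_add, map_one] at h1
    exact h1
  have hh : ∀ b, g 0 b = φ b := by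
    intro b
    by_cases hb : b = 0
    · rw [hb, h00, map_zero]
    · have h1 := hh_lin b 1 hb
      rw [mul_one, hh1, mul_one] at h1
      exact h1
  have hg_add : ∀ a c, g (a + c) 0 = g a 0 + g c 0 := by
    intro a c
    have h1 := hmul a 0 c 0
    rw [add_zero, zero_add, hsplit, hh] at h1
    exact add_right_cancel h1
  have hg_s : ∀ u : Kˣ, g (SK.s u) 0 = φ (SK.s u * (u : K) ^ 2) * g 1 0 := by
    intro u
    have h1 := hconj u 1 0
    rw [mul_one, mul_zero] at h1
    exact h1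
  obtain ⟨t, ht⟩ := SK.exists_not_fix hK hk
  have ht0 : t ≠ 0 := by
    rintro rfl
    apply ht
    rw [map_zero, add_zero]
  have ht1 : t ≠ 1 := by
    rintro rfl
    apply ht
    rw [map_one]
    exact SK.add_self 1
  have hst : SK.s t + t ^ 2 ≠ 0 := by
    intro h
    have h0 : SK.s t = t ^ 2 := by linear_combination h - SK.add_self (t ^ 2)
    have h1 : SK.s (SK.s t) = SK.s t := by rw [SK.hs, h0]
    rcases SK.eq_zero_or_one_of_fix h1 with h2 | h2
    · exact ht0 ((map_eq_zero SK.s).1 h2)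
    · apply ht1
      apply SK.s_injective
      rw [h2, map_one]
  have hγ₀ : g 1 0 = 0 := by
    have ht10 : t + 1 ≠ 0 := by
      intro h
      apply ht1
      linear_combination h - SK.add_self 1
    have h1 := hg_s (Units.mk0 t ht0)
    have h2 := hg_s (Units.mk0 (t + 1) ht10)
    rw [Units.val_mk0] at h1 h2
    rw [map_add, map_one, hg_add, h1] at h2
    have h3 : φ (SK.s t + t ^ 2) * g 1 0 = 0 := by
      have e1 : φ ((SK.s t + 1) * (t + 1) ^ 2) = φ (SK.s t * t ^ 2) + φ (SK.s t + t ^ 2) + 1 := by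
        rw [← map_one φ, ← map_add, ← map_add]
        congr 1
        linear_combination (SK.s t * t + t) * SK.h2
      rw [e1] at h2
      linear_combination -h2
    rcases mul_eq_zero.1 h3 with h | h
    · exact absurd ((map_eq_zero φ).1 h) hst
    · exact h
  have hg0 : ∀ a, g a 0 = 0 := by
    intro a
    by_cases ha : a = 0
    · rw [ha, h00]
    · obtain ⟨u, hu⟩ := SK.exists_unit_s_eq ha
      rw [← hu, hg_s, hγ₀, mul_zero]
  intro a b
  rw [hg, hsplit, hg0, hh, zero_add]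

end Cfsg.Agent.Helper2.Sz
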