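import Mathlib
import Cfsg.Agent.Lib.Helper2.SzSub3

set_option autoImplicit false
set_option linter.unusedSectionVars false
set_option linter.unusedSimpArgs false
set_option linter.unusedVariables false

namespace Cfsg.Agent.Helper2.Sz

open Matrix Cfsg.Agent.S0335
open SzData

variable {F : Type*} [Field F] [Fintype F] {m : ℕ} (SF : SzData F m)
variable {K : Type*} [Field K] [Fintype K] {k : ℕ} (SK : SzData K k)

/-- the image of the Weyl element under an embedding which is standard on the Borel subgroup -/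
theorem map_WgSz_eq (hm : 1 ≤ m) (hF : Fintype.card F = 2 ^ (2 * m + 1))
    (hk : 1 ≤ k) (hK : Fintype.card K = 2 ^ (2 * k + 1))
    (θ : Cfsg.Sz K k →* Cfsg.Sz F m) (φ : K →+* F) (hφ : ∀ x, φ (SK.s x) = SF.s (φ x))
    (hD : ∀ u, θ (SK.DgSz u) = SF.DgSz (Units.map (φ : K →* F) u))
    (hQ : ∀ a b, θ (SK.TgSz a b) = SF.TgSz (φ a) (φ b)) :
    ∃ u' : Kˣ, θ SK.WgSz = SF.WgSz * SF.DgSz (Units.map (φ : K →* F) u') := by
  obtain ⟨w', hw'def⟩ : ∃ w' : Cfsg.Sz F m, w' = θ SK.WgSz := ⟨_, rfl⟩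
  rw [← hw'def]
  have hw'sq : w' * w' = 1 := by
    rw [hw'def, ← map_mul, SK.WgSz_mul_WgSz, map_one]
  obtain ⟨u₀, hu₀⟩ := SK.exists_unit_ne_one hk hK
  obtain ⟨x₀, hx₀def⟩ : ∃ x₀ : Fˣ, x₀ = Units.map (φ : K →* F) u₀ := ⟨_, rfl⟩
  have hx₀ : x₀ ≠ 1 := by
    intro h
    apply hu₀
    apply Units.ext
    have h2 : φ (u₀ : K) = 1 := by
      have := congrArg Units.val h
      rw [hx₀def] at this
      exact this
    rw [Units.val_one]
    exact φ.injective (h2.trans (map_one φ).symm)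
  have hx₀' : x₀⁻¹ ≠ 1 := by
    intro h
    apply hx₀
    rw [← inv_inv x₀, h, inv_one]
  have hw'D : w' * SF.DgSz x₀ = SF.DgSz x₀⁻¹ * w' := by
    have h1 : w' * SF.DgSz x₀ * w' = SF.DgSz x₀⁻¹ := by
      rw [hw'def, hx₀def, ← hD, ← map_mul, ← map_mul, SK.WgSz_DgSz_WgSz, hD, map_inv]
    calc w' * SF.DgSz x₀ = w' * SF.DgSz x₀ * (w' * w') := by rw [hw'sq, mul_one]
      _ = (w' * SF.DgSz x₀ * w') * w' := by group
      _ = SF.DgSz x₀⁻¹ * w' := by rw [h1]
  have hw'p : (w' : SpecialLinearGroup (Fin 4) F) • pInf F = SF.pt 0 0 := by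
    have hfix : SF.Dg x₀⁻¹ • ((w' : SpecialLinearGroup (Fin 4) F) • pInf F) =
        (w' : SpecialLinearGroup (Fin 4) F) • pInf F := by
      have h1 : SF.Dg x₀⁻¹ * (w' : SpecialLinearGroup (Fin 4) F) =
          (w' : SpecialLinearGroup (Fin 4) F) * SF.Dg x₀ := (congrArg Subtype.val hw'D).symm
      rw [← mul_smul, h1, mul_smul, SF.Dg_smul_pInf]
    rcases SF.Dg_fix_of_ne_one hx₀' (smul_mem_of_mem_Sz w'.2 SF.pInf_mem) hfix with h | h
    · exfalso
      have h1 : w' ∈ MulAction.stabilizer (Cfsg.Sz F m) (pInf F) := by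
        rw [MulAction.mem_stabilizer_iff, Subgroup.smul_def]
        exact h
      obtain ⟨a, b, v, hv⟩ := (SF.mem_stabilizer_pInf_iff hm hF).1 h1
      rw [hv] at hw'D
      have h2 : SF.TgSz a b * SF.DgSz v * SF.DgSz x₀ = SF.TgSz a b * SF.DgSz (v * x₀) := by
        rw [mul_assoc, ← map_mul]
      have h3 : SF.DgSz x₀⁻¹ * (SF.TgSz a b * SF.DgSz v) =
          SF.TgSz (SF.s (x₀⁻¹ : Fˣ) * a) (SF.s (x₀⁻¹ : Fˣ) * ((x₀⁻¹ : Fˣ) : F) ^ 2 * b) *
            SF.DgSz (x₀⁻¹ * v) := by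
        rw [← mul_assoc, SF.DgSz_TgSz, mul_assoc, ← map_mul]
      rw [h2, h3] at hw'D
      have h4 := (SF.Tg_Dg_injective (congrArg Subtype.val hw'D)).2.2
      have h5 : x₀ * x₀ = 1 := by
        have h6 : x₀ = x₀⁻¹ := by
          have : v * x₀ = v * x₀⁻¹ := by rw [h4, mul_comm]
          exact mul_left_cancel this
        calc x₀ * x₀ = x₀ * x₀⁻¹ := by rw [← h6]
          _ = 1 := mul_inv_cancel x₀
      exact hx₀ (SF.unit_eq_one_of_sq h5)
    · exact h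
  have hw'p0 : (w' : SpecialLinearGroup (Fin 4) F) • SF.pt 0 0 = pInf F := by
    rw [← hw'p, ← mul_smul, ← Subgroup.coe_mul, hw'sq, Subgroup.coe_one, one_smul]
  -- hence the image is the Weyl element times a torus element
  have hmemD : SF.WgSz * w' ∈ SF.DgSz.range := by
    rw [SF.range_DgSz hm hF, Subgroup.mem_inf, MulAction.mem_stabilizer_iff,
      MulAction.mem_stabilizer_iff, Subgroup.smul_def, Subgroup.smul_def]
    have e : ((SF.WgSz * w' : Cfsg.Sz F m) : SpecialLinearGroup (Fin 4) F) =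
        Wg F * (w' : SpecialLinearGroup (Fin 4) F) := rfl
    rw [e, mul_smul, mul_smul, hw'p, hw'p0, SF.Wg_smul_pt_zero, SF.Wg_smul_pInf]
    exact ⟨rfl, rfl⟩
  obtain ⟨v₀, hv₀⟩ := hmemD
  have hw' : w' = SF.WgSz * SF.DgSz v₀ := by
    rw [hv₀, ← mul_assoc, SF.WgSz_mul_WgSz, one_mul]
  -- the image of the point at infinity under a Bruhat element
  have hsv : SF.s (v₀ : F) ≠ 0 := (map_ne_zero SF.s).2 v₀.ne_zero
  have himg : ((w' * SF.TgSz 1 0 * w' : Cfsg.Sz F m) : SpecialLinearGroup (Fin 4) F) • pInf F =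
      SF.pt 0 (SF.s v₀ * (v₀ : F) ^ 2)⁻¹ := by
    have e : ((w' * SF.TgSz 1 0 * w' : Cfsg.Sz F m) : SpecialLinearGroup (Fin 4) F) =
        (w' : SpecialLinearGroup (Fin 4) F) * SF.Tg 1 0 * (w' : SpecialLinearGroup (Fin 4) F) :=
      rfl
    rw [e, mul_smul, mul_smul, hw'p, SF.Tg_smul_pt_zero]
    have e2 : (w' : SpecialLinearGroup (Fin 4) F) = Wg F * SF.Dg v₀ := by
      rw [hw']
      rfl
    rw [e2, mul_smul, SF.Dg_smul_pt, mul_one, mul_zero]
    have hne : ¬ (SF.s (v₀ : F) = 0 ∧ (0 : F) = 0) := fun h => hsv h.1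
    rw [SF.Wg_smul_pt hne]
    congr 1
    · rw [zero_div]
    · unfold ff
      rw [mul_zero, map_zero, add_zero, zero_add, SF.hs]
      field_simp
  obtain ⟨X, hXdef⟩ : ∃ X : Cfsg.Sz K k, X = SK.WgSz * SK.TgSz 1 0 * SK.WgSz := ⟨_, rfl⟩
  have hθX : θ X = w' * SF.TgSz 1 0 * w' := by
    rw [hXdef, map_mul, map_mul, hQ, map_one, map_zero, hw'def]
  rcases SK.exists_decomp hk hK X.2 with ⟨a, b, u, hX⟩ | ⟨a, b, c, d, u, hX⟩
  · exfalso
    have hX' : X = SK.TgSz a b * SK.DgSz u := Subtype.ext hX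
    have h1 : θ X = SF.TgSz (φ a) (φ b) * SF.DgSz (Units.map (φ : K →* F) u) := by
      rw [hX', map_mul, hQ, hD]
    rw [hθX] at h1
    rw [h1] at himg
    have e : ((SF.TgSz (φ a) (φ b) * SF.DgSz (Units.map (φ : K →* F) u) : Cfsg.Sz F m) :
        SpecialLinearGroup (Fin 4) F) = SF.Tg (φ a) (φ b) * SF.Dg (Units.map (φ : K →* F) u) :=
      rfl
    rw [e, SF.Tg_Dg_smul_pInf] at himg
    exact SF.pt_ne_pInf _ _ himg.symm
  · have hX' : X = SK.TgSz a b * SK.WgSz * (SK.TgSz c d * SK.DgSz u) := Subtype.ext hX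
    have h1 : θ X = SF.TgSz (φ a) (φ b) * w' *
        (SF.TgSz (φ c) (φ d) * SF.DgSz (Units.map (φ : K →* F) u)) := by
      rw [hX', map_mul, map_mul, map_mul, hQ, hQ, hD, hw'def]
    rw [hθX] at h1
    rw [h1] at himg
    have e : ((SF.TgSz (φ a) (φ b) * w' *
        (SF.TgSz (φ c) (φ d) * SF.DgSz (Units.map (φ : K →* F) u)) : Cfsg.Sz F m) :
        SpecialLinearGroup (Fin 4) F) = SF.Tg (φ a) (φ b) * (w' : SpecialLinearGroup (Fin 4) F) *
          (SF.Tg (φ c) (φ d) * SF.Dg (Units.map (φ : K →* F) u)) := rfl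
    rw [e, mul_smul, SF.Tg_Dg_smul_pInf, mul_smul, hw'p, SF.Tg_smul_pt_zero] at himg
    have h2 := (SF.pt_injective himg).2
    have hb0 : b ≠ 0 := by
      rintro rfl
      rw [map_zero] at h2
      exact inv_ne_zero (mul_ne_zero hsv (pow_ne_zero 2 v₀.ne_zero)) h2.symm
    obtain ⟨u', hu'⟩ := SK.exists_unit_eq (inv_ne_zero hb0)
    refine ⟨u', ?_⟩
    rw [hw']
    congr 2
    -- the two units have the same image under the bijection `u ↦ s u * u ^ 2`
    have h3 : SF.s (v₀ : F) * (v₀ : F) ^ 2 =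
        SF.s (φ (u' : K)) * (φ (u' : K)) ^ 2 := by
      rw [← hφ, ← map_pow, ← map_mul, hu', map_inv₀, h2, inv_inv]
    have h4 : v₀ * (Units.map (φ : K →* F) u')⁻¹ = 1 := by
      apply SF.unit_eq_one_of
      rw [Units.val_mul, map_mul, mul_pow]
      have e1 : (((Units.map (φ : K →* F) u')⁻¹ : Fˣ) : F) = (φ (u' : K))⁻¹ := by
        rw [Units.val_inv_eq_inv_val]
        rfl
      rw [e1, map_inv₀, inv_pow]
      have hne : SF.s (φ (u' : K)) * (φ (u' : K)) ^ 2 ≠ 0 := by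
        rw [← h3]
        exact mul_ne_zero hsv (pow_ne_zero 2 v₀.ne_zero)
      have hne1 : SF.s (φ (u' : K)) ≠ 0 := left_ne_zero_of_mul hne
      have hne2 : (φ (u' : K)) ^ 2 ≠ 0 := right_ne_zero_of_mul hne
      field_simp
      linear_combination h3
    exact mul_inv_eq_one.1 h4

end Cfsg.Agent.Helper2.Sz
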