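import Mathlib
import Cfsg.Agent.Lib.Helper2.SzSub4

set_option autoImplicit false
set_option linter.unusedSectionVars false
set_option linter.unusedSimpArgs false
set_option linter.unusedVariables false

namespace Cfsg.Agent.Helper2.Sz

open Matrix Cfsg.Agent.S0335
open SzData

variable {F : Type*} [Field F] [Fintype F] {m : ℕ} (SF : SzData F m)
variable {K : Type*} [Field K] [Fintype K] {k : ℕ} (SK : SzData K k)

theorem conj_comp_apply {G H : Type*} [Group G] [Group H] (g : H) (θ : G →* H) (x : G) :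
    (MulAut.conj g).toMonoidHom.comp θ x = g * θ x * g⁻¹ := by
  rw [MonoidHom.comp_apply]
  show (MulAut.conj g) (θ x) = _
  rw [MulAut.conj_apply]

/-- every embedded Suzuki group over the subfield is conjugate into the standard one -/
theorem exists_conj_mem_range (hm : 1 ≤ m) (hF : Fintype.card F = 2 ^ (2 * m + 1))
    (hk : 1 ≤ k) (hK : Fintype.card K = 2 ^ (2 * k + 1)) (hdiv : 2 * k + 1 ∣ 2 * m + 1)
    (ψ : K →+* F) (hψ : ∀ x, ψ (SK.s x) = SF.s (ψ x))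
    (θ : Cfsg.Sz K k →* Cfsg.Sz F m) (hθ : Function.Injective θ) :
    ∃ g : Cfsg.Sz F m, ∀ x, g * θ x * g⁻¹ ∈ (emb SF SK ψ hψ hk hK).range := by
  obtain ⟨g₁, hQ₁, hD₁⟩ := exists_normalize_hom SF SK hm hF hk hK θ hθ
  obtain ⟨θ₁, hθ₁def⟩ : ∃ θ₁ : Cfsg.Sz K k →* Cfsg.Sz F m,
      θ₁ = (MulAut.conj g₁).toMonoidHom.comp θ := ⟨_, rfl⟩
  have hθ₁ : ∀ x, θ₁ x = g₁ * θ x * g₁⁻¹ := by
    intro x
    rw [hθ₁def, conj_comp_apply]
  have hθ₁inj : Function.Injective θ₁ := by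
    intro x y hxy
    rw [hθ₁, hθ₁] at hxy
    exact hθ (mul_left_cancel (mul_right_cancel hxy))
  obtain ⟨v, φ, hD₂, hQ₂⟩ := exists_embedding_data SF SK hm hF hk hK hdiv θ₁ hθ₁inj
    (fun a b => by rw [hθ₁]; exact hQ₁ a b) (fun u => by rw [hθ₁]; exact hD₁ u)
  obtain ⟨θ₂, hθ₂def⟩ : ∃ θ₂ : Cfsg.Sz K k →* Cfsg.Sz F m,
      θ₂ = (MulAut.conj (SF.DgSz v)).toMonoidHom.comp θ₁ := ⟨_, rfl⟩
  have hθ₂ : ∀ x, θ₂ x = SF.DgSz v * θ₁ x * (SF.DgSz v)⁻¹ := by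
    intro x
    rw [hθ₂def, conj_comp_apply]
  have hφs : ∀ x, φ (SK.s x) = SF.s (φ x) := map_s_of_dvd SF SK hK hdiv φ
  have hD₃ : ∀ u, θ₂ (SK.DgSz u) = SF.DgSz (Units.map (φ : K →* F) u) := by
    intro u
    rw [hθ₂]
    exact hD₂ u
  have hQ₃ := eq_emb_on_unipotent SF SK hk hK θ₂ φ hφs hD₃
    (fun a b => by rw [hθ₂]; exact hQ₂ a b)
  obtain ⟨u', hW⟩ := map_WgSz_eq SF SK hm hF hk hK θ₂ φ hφs hD₃ hQ₃
  refine ⟨SF.DgSz v * g₁, ?_⟩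
  intro x
  have e : SF.DgSz v * g₁ * θ x * (SF.DgSz v * g₁)⁻¹ = θ₂ x := by
    rw [hθ₂, hθ₁]
    group
  rw [e]
  have hT : ∀ a b, θ₂ (SK.TgSz a b) ∈ (emb SF SK ψ hψ hk hK).range := by
    intro a b
    rw [hQ₃]
    exact mem_range_TgSz SF SK φ ψ hψ hk hK a b
  have hDm : ∀ u, θ₂ (SK.DgSz u) ∈ (emb SF SK ψ hψ hk hK).range := by
    intro u
    rw [hD₃]
    exact mem_range_DgSz SF SK φ ψ hψ hk hK u
  have hWm : θ₂ SK.WgSz ∈ (emb SF SK ψ hψ hk hK).range := by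
    rw [hW]
    exact Subgroup.mul_mem _ (mem_range_WgSz SF SK ψ hψ hk hK)
      (mem_range_DgSz SF SK φ ψ hψ hk hK u')
  rcases SK.exists_decomp hk hK x.2 with ⟨a, b, u, hx⟩ | ⟨a, b, c, d, u, hx⟩
  · have hx' : x = SK.TgSz a b * SK.DgSz u := Subtype.ext hx
    rw [hx', map_mul]
    exact Subgroup.mul_mem _ (hT a b) (hDm u)
  · have hx' : x = SK.TgSz a b * SK.WgSz * (SK.TgSz c d * SK.DgSz u) := Subtype.ext hx
    rw [hx', map_mul, map_mul, map_mul]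
    exact Subgroup.mul_mem _ (Subgroup.mul_mem _ (hT a b) hWm)
      (Subgroup.mul_mem _ (hT c d) (hDm u))

include SF SK in
/-- subfield subgroups of the Suzuki group exist and are unique up to conjugacy -/
theorem subfield_subgroups (hm : 1 ≤ m) (hF : Fintype.card F = 2 ^ (2 * m + 1))
    (hk : 1 ≤ k) (hK : Fintype.card K = 2 ^ (2 * k + 1)) (hdiv : 2 * k + 1 ∣ 2 * m + 1) :
    (∃ S : Subgroup (Cfsg.Sz F m), Nonempty (S ≃* Cfsg.Sz K k)) ∧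
    ∀ S₁ S₂ : Subgroup (Cfsg.Sz F m), Nonempty (S₁ ≃* Cfsg.Sz K k) →
      Nonempty (S₂ ≃* Cfsg.Sz K k) →
      ∃ g : Cfsg.Sz F m, S₂ = S₁.map (MulAut.conj g).toMonoidHom := by
  obtain ⟨ψ⟩ := nonempty_ringHom (m := m) (k := k) (F := F) (K := K) hF hK hdiv
  have hψ : ∀ x, ψ (SK.s x) = SF.s (ψ x) := map_s_of_dvd SF SK hK hdiv ψ
  obtain ⟨S₀, hS₀def⟩ : ∃ S₀ : Subgroup (Cfsg.Sz F m), S₀ = (emb SF SK ψ hψ hk hK).range :=
    ⟨_, rfl⟩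
  have hinj := emb_injective SF SK ψ hψ hk hK
  have hS₀card : Nat.card S₀ = Nat.card (Cfsg.Sz K k) := by
    rw [hS₀def]
    exact (Nat.card_congr (MonoidHom.ofInjective hinj).toEquiv).symm
  refine ⟨⟨S₀, ?_⟩, ?_⟩
  · rw [hS₀def]
    exact ⟨(MonoidHom.ofInjective hinj).symm⟩
  · have key : ∀ S₁ : Subgroup (Cfsg.Sz F m), Nonempty (S₁ ≃* Cfsg.Sz K k) →
        ∃ g : Cfsg.Sz F m, S₁.map (MulAut.conj g).toMonoidHom = S₀ := by
      rintro S₁ ⟨e₁⟩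
      obtain ⟨g, hg⟩ := exists_conj_mem_range SF SK hm hF hk hK hdiv ψ hψ
        (S₁.subtype.comp e₁.symm.toMonoidHom)
        (fun x y hxy => e₁.symm.injective (Subtype.ext hxy))
      refine ⟨g, ?_⟩
      apply Subgroup.eq_of_le_of_card_ge
      · rintro _ ⟨y, hy, rfl⟩
        have h1 := hg (e₁ ⟨y, hy⟩)
        rw [MonoidHom.comp_apply] at h1
        have h2 : e₁.symm.toMonoidHom (e₁ ⟨y, hy⟩) = ⟨y, hy⟩ := e₁.symm_apply_apply _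
        rw [h2, ← hS₀def] at h1
        exact h1
      · rw [Subgroup.card_map_of_injective (MulAut.conj g).injective, hS₀card]
        exact le_of_eq (Nat.card_congr e₁.toEquiv).symm
    intro S₁ S₂ h₁ h₂
    obtain ⟨g₁, hg₁⟩ := key S₁ h₁
    obtain ⟨g₂, hg₂⟩ := key S₂ h₂
    refine ⟨g₂⁻¹ * g₁, ?_⟩
    ext x
    constructor
    · intro hx
      have h1 : g₂ * x * g₂⁻¹ ∈ S₀ := by
        rw [← hg₂]
        exact ⟨x, hx, rfl⟩
      rw [← hg₁] at h1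
      obtain ⟨y, hy, hyx⟩ := h1
      refine ⟨y, hy, ?_⟩
      have h2 : g₁ * y * g₁⁻¹ = g₂ * x * g₂⁻¹ := hyx
      show g₂⁻¹ * g₁ * y * (g₂⁻¹ * g₁)⁻¹ = x
      calc g₂⁻¹ * g₁ * y * (g₂⁻¹ * g₁)⁻¹ = g₂⁻¹ * (g₁ * y * g₁⁻¹) * g₂ := by group
        _ = x := by rw [h2]; group
    · rintro ⟨y, hy, rfl⟩
      have h1 : g₁ * y * g₁⁻¹ ∈ S₀ := by
        rw [← hg₁]
        exact ⟨y, hy, rfl⟩
      rw [← hg₂] at h1
      obtain ⟨x, hx, hxy⟩ := h1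
      have h2 : g₂ * x * g₂⁻¹ = g₁ * y * g₁⁻¹ := hxy
      have h3 : (MulAut.conj (g₂⁻¹ * g₁)).toMonoidHom y = x := by
        show g₂⁻¹ * g₁ * y * (g₂⁻¹ * g₁)⁻¹ = x
        calc g₂⁻¹ * g₁ * y * (g₂⁻¹ * g₁)⁻¹ = g₂⁻¹ * (g₁ * y * g₁⁻¹) * g₂ := by group
          _ = x := by rw [← h2]; group
      rw [h3]
      exact hx

end Cfsg.Agent.Helper2.Sz
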