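import Mathlib
import Cfsg.Agent.Lib.Helper2.SzBorel
import Cfsg.Prelude.Def_Transfer

set_option autoImplicit false
set_option linter.unusedSectionVars false
set_option linter.unusedSimpArgs false

namespace Cfsg.Agent.Helper2.Sz

open Matrix Cfsg.Agent.S0335
open scoped Pointwise commutatorElement

variable {F : Type*} [Field F] {m : ℕ} (S : SzData F m)

namespace SzData

/-- elements of the stabilizer of the point at infinity act on the centre of the unipotent
subgroup by a scalar -/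
theorem stab_mul_Tg_zero (a c : F) (u : Fˣ) (b : F) :
    (S.Tg a c * S.Dg u) * S.Tg 0 b = S.Tg 0 (S.s u * (u : F) ^ 2 * b) * (S.Tg a c * S.Dg u) := by
  rw [mul_assoc, Dg_Tg, mul_zero, ← mul_assoc, ← mul_assoc, Tg_mul, Tg_mul, map_zero, zero_mul,
    mul_zero, add_zero, add_zero, add_zero, zero_add, add_comm]

/-- the multiplier homomorphism -/
def muHom : Fˣ →* Fˣ where
  toFun u := Units.map (S.s : F →* F) u * u ^ 2
  map_one' := by simp
  map_mul' u v := by
    rw [map_mul, mul_pow]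
    exact mul_mul_mul_comm _ _ _ _

theorem muHom_coe (u : Fˣ) : ((S.muHom u : Fˣ) : F) = S.s u * (u : F) ^ 2 := by
  simp [muHom]

theorem muHom_injective : Function.Injective S.muHom := by
  rw [injective_iff_map_eq_one]
  intro u hu
  apply S.unit_eq_one_of
  rw [← muHom_coe, hu, Units.val_one]

theorem exists_mu [Finite F] {c : F} (hc : c ≠ 0) : ∃ u : Fˣ, S.s u * (u : F) ^ 2 = c := by
  obtain ⟨u, hu⟩ := (Finite.injective_iff_surjective.1 S.muHom_injective) (Units.mk0 c hc)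
  refine ⟨u, ?_⟩
  rw [← muHom_coe, hu, Units.val_mk0]

section group
variable [Fintype F]

include S in
/-- an elementary abelian TI-subgroup of order `2 ^ n`, `n ≥ 2`, forces `n ∣ 2 * m + 1` -/
theorem dvd_of_TI (hm : 1 ≤ m) (hF : Fintype.card F = 2 ^ (2 * m + 1)) {n : ℕ} (hn : 2 ≤ n)
    {E : Subgroup (Cfsg.Sz F m)} (hE : ∀ a ∈ E, a ^ 2 = 1) (hcard : Nat.card E = 2 ^ n)
    (hTI : ∀ x : Cfsg.Sz F m, E ⊓ E.map (MulAut.conj x).toMonoidHom ≠ ⊥ →
      x ∈ Subgroup.normalizer (E : Set (Cfsg.Sz F m))) : n ∣ 2 * m + 1 := by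
  have hfact2 : Fact (Nat.Prime 2) := ⟨Nat.prime_two⟩
  have hE2 : IsPGroup 2 E := IsPGroup.of_card hcard
  obtain ⟨P, hEP⟩ := hE2.exists_le_sylow
  obtain ⟨k, hk⟩ := S.exists_conj_QSz hm hF P
  obtain ⟨ι, hιdef⟩ : ∃ ι : F → Cfsg.Sz F m, ι = fun b => k * S.TgSz 0 b * k⁻¹ := ⟨_, rfl⟩
  have hι : ∀ b, ι b = k * S.TgSz 0 b * k⁻¹ := fun b => by rw [hιdef]
  have hTadd : ∀ b b', S.TgSz 0 (b + b') = S.TgSz 0 b * S.TgSz 0 b' := by
    intro b b'
    apply Subtype.ext
    show S.Tg 0 (b + b') = S.Tg 0 b * S.Tg 0 b'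
    rw [Tg_mul, map_zero, zero_mul, add_zero, add_zero]
  have hι_mul : ∀ b b', ι (b + b') = ι b * ι b' := by
    intro b b'
    rw [hι, hι, hι, hTadd]; group
  have hι_inj : Function.Injective ι := by
    intro b b' h
    rw [hι, hι] at h
    have h1 : S.TgSz 0 b = S.TgSz 0 b' := by
      calc S.TgSz 0 b = k⁻¹ * (k * S.TgSz 0 b * k⁻¹) * k := by group
        _ = k⁻¹ * (k * S.TgSz 0 b' * k⁻¹) * k := by rw [h]
        _ = S.TgSz 0 b' := by group
    exact (S.Tg_injective (congrArg Subtype.val h1)).2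
  have hι0 : ι 0 = 1 := by
    rw [hι]
    have : S.TgSz 0 0 = 1 := Subtype.ext S.Tg_zero
    rw [this]; group
  have hsurj : ∀ e ∈ E, ∃ b, e = ι b := by
    intro e he
    have h1 : e ∈ (P : Subgroup (Cfsg.Sz F m)) := hEP he
    rw [hk, Subgroup.mem_pointwise_smul_iff_inv_smul_mem, ← map_inv, MulAut.smul_def,
      MulAut.conj_apply, inv_inv] at h1
    obtain ⟨a, b, hab⟩ := h1
    have h2 : (k⁻¹ * e * k) ^ 2 = 1 := by
      have e1 : k⁻¹ * e * k = k⁻¹ * e * k⁻¹⁻¹ := by rw [inv_inv]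
      rw [e1, conj_pow, hE e he]; group
    have h3 : S.Tg a b ^ 2 = 1 := by
      rw [← hab, ← Subgroup.coe_pow, h2, Subgroup.coe_one]
    have ha := S.Tg_sq_eq_one h3
    refine ⟨b, ?_⟩
    rw [hι]
    have h4 : k⁻¹ * e * k = S.TgSz 0 b := by
      apply Subtype.ext
      rw [hab, ha]; rfl
    rw [← h4]; group
  obtain ⟨B, hBdef⟩ : ∃ B : Set F, B = {b | ι b ∈ E} := ⟨_, rfl⟩
  have hB : ∀ b, b ∈ B ↔ ι b ∈ E := fun b => by rw [hBdef]; rfl
  have hB0 : (0 : F) ∈ B := by rw [hB, hι0]; exact E.one_mem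
  have hBadd : ∀ b ∈ B, ∀ b' ∈ B, b + b' ∈ B := by
    intro b hb b' hb'
    rw [hB] at hb hb' ⊢
    rw [hι_mul]
    exact E.mul_mem hb hb'
  have hBcard : Nat.card B = 2 ^ n := by
    rw [← hcard]
    apply Nat.card_eq_of_bijective (fun b : B => (⟨ι b.1, (hB b.1).1 b.2⟩ : E))
    constructor
    · intro b b' h
      exact Subtype.ext (hι_inj (congrArg Subtype.val h))
    · rintro ⟨e, he⟩
      obtain ⟨b, rfl⟩ := hsurj e he
      exact ⟨⟨b, (hB b).2 he⟩, rfl⟩
  -- conjugation by the torus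
  have hconj : ∀ (u : Fˣ) (b : F),
      (k * S.DgSz u * k⁻¹) * ι b * (k * S.DgSz u * k⁻¹)⁻¹ = ι (S.s u * (u : F) ^ 2 * b) := by
    intro u b
    have h1 : S.DgSz u * S.TgSz 0 b = S.TgSz 0 (S.s u * (u : F) ^ 2 * b) * S.DgSz u := by
      apply Subtype.ext
      show S.Dg u * S.Tg 0 b = S.Tg 0 (S.s u * (u : F) ^ 2 * b) * S.Dg u
      rw [Dg_Tg, mul_zero]
    rw [hι, hι]
    calc k * S.DgSz u * k⁻¹ * (k * S.TgSz 0 b * k⁻¹) * (k * S.DgSz u * k⁻¹)⁻¹
        = k * (S.DgSz u * S.TgSz 0 b) * (S.DgSz u)⁻¹ * k⁻¹ := by group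
      _ = k * S.TgSz 0 (S.s u * (u : F) ^ 2 * b) * k⁻¹ := by rw [h1]; group
  have hstep : ∀ (u : Fˣ) (b₀ : F), b₀ ∈ B → b₀ ≠ 0 → S.s u * (u : F) ^ 2 * b₀ ∈ B →
      ∀ b ∈ B, S.s u * (u : F) ^ 2 * b ∈ B := by
    intro u b₀ hb₀ hb₀0 hμ
    have hx := hTI (k * S.DgSz u * k⁻¹) (by
      intro hbot
      have hmem : ι (S.s u * (u : F) ^ 2 * b₀) ∈
          E ⊓ E.map (MulAut.conj (k * S.DgSz u * k⁻¹)).toMonoidHom := by
        refine ⟨(hB _).1 hμ, ι b₀, (hB _).1 hb₀, ?_⟩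
        show MulAut.conj (k * S.DgSz u * k⁻¹) (ι b₀) = _
        rw [MulAut.conj_apply, hconj]
      rw [hbot, Subgroup.mem_bot, ← hι0] at hmem
      have h0 := hι_inj hmem
      have hu0 : S.s u * (u : F) ^ 2 ≠ 0 :=
        mul_ne_zero ((map_ne_zero S.s).2 u.ne_zero) (pow_ne_zero 2 u.ne_zero)
      exact (mul_ne_zero hu0 hb₀0) h0)
    intro b hb
    have := (Subgroup.mem_normalizer_iff.1 hx (ι b)).1 ((hB b).1 hb)
    rw [hconj] at this
    exact (hB _).2 this
  have hBfin : Finite B := Finite.of_injective (fun b : B => b.1) Subtype.val_injective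
  -- the subfield of multipliers
  let K : Subfield F :=
    { carrier := {c | ∀ b ∈ B, c * b ∈ B}
      mul_mem' := by
        intro c d hc hd b hb
        rw [mul_assoc]
        exact hc _ (hd b hb)
      one_mem' := by
        intro b hb
        rwa [one_mul]
      add_mem' := by
        intro c d hc hd b hb
        rw [add_mul]
        exact hBadd _ (hc b hb) _ (hd b hb)
      zero_mem' := by
        intro b _
        rwa [zero_mul]
      neg_mem' := by
        intro c hc b hb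
        rw [S.neg_eq]
        exact hc b hb
      inv_mem' := by
        intro c hc b hb
        by_cases hc0 : c = 0
        · rw [hc0, _root_.inv_zero, zero_mul]; exact hB0
        · have hinj : Function.Injective (fun b : B => (⟨c * b.1, hc b.1 b.2⟩ : B)) := by
            intro b b' h
            apply Subtype.ext
            exact mul_left_cancel₀ hc0 (congrArg Subtype.val h)
          obtain ⟨⟨b', hb'⟩, hbb'⟩ := (Finite.injective_iff_surjective.1 hinj) ⟨b, hb⟩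
          have h1 : c * b' = b := congrArg Subtype.val hbb'
          rw [← h1, inv_mul_cancel_left₀ hc0]
          exact hb' }
  have hK : ∀ c, c ∈ K ↔ ∀ b ∈ B, c * b ∈ B := fun c => Iff.rfl
  -- a nonzero element
  have hcard4 : 1 < Nat.card B := by
    rw [hBcard]
    exact Nat.one_lt_two_pow (by omega)
  rw [Finite.one_lt_card_iff_nontrivial] at hcard4
  obtain ⟨b₀, hb₀0⟩ := exists_ne (⟨0, hB0⟩ : B)
  have hb₀0' : b₀.1 ≠ 0 := fun h => hb₀0 (Subtype.ext h)
  have hquot : ∀ b ∈ B, b / b₀.1 ∈ K := by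
    intro b hb
    by_cases hb0 : b = 0
    · rw [hb0, zero_div]; exact K.zero_mem
    · obtain ⟨u, hu⟩ := S.exists_mu (div_ne_zero hb0 hb₀0')
      rw [hK]
      intro b' hb'
      rw [← hu]
      apply hstep u b₀.1 b₀.2 hb₀0' _ b' hb'
      rw [hu, div_mul_cancel₀ _ hb₀0']
      exact hb
  have hKcard : Nat.card K = 2 ^ n := by
    rw [← hBcard]
    apply Nat.card_eq_of_bijective (fun c : K => (⟨c.1 * b₀.1, c.2 b₀.1 b₀.2⟩ : B))
    constructor
    · intro c c' h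
      apply Subtype.ext
      exact mul_right_cancel₀ hb₀0' (congrArg Subtype.val h)
    · rintro ⟨b, hb⟩
      refine ⟨⟨b / b₀.1, hquot b hb⟩, Subtype.ext ?_⟩
      show b / b₀.1 * b₀.1 = b
      rw [div_mul_cancel₀ _ hb₀0']
  have hvs := Module.natCard_eq_pow_finrank (K := K) (V := F)
  rw [hKcard, Nat.card_eq_fintype_card, hF, ← pow_mul] at hvs
  have := Nat.pow_right_injective (le_refl 2) hvs
  exact Dvd.intro _ this.symm

include S in
/-- the centre of a Sylow 2-subgroup of a subfield subgroup is an elementary abelian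
TI-subgroup -/
theorem exists_TI (hm : 1 ≤ m) (hF : Fintype.card F = 2 ^ (2 * m + 1)) {n : ℕ} (hn0 : n ≠ 0)
    (hn : n ∣ 2 * m + 1) :
    ∃ E : Subgroup (Cfsg.Sz F m), Cfsg.IsElementaryAbelian 2 E ∧ Nat.card E = 2 ^ n ∧
      ∀ x : Cfsg.Sz F m, E ⊓ E.map (MulAut.conj x).toMonoidHom ≠ ⊥ →
        x ∈ Subgroup.normalizer (E : Set (Cfsg.Sz F m)) := by
  have hp2 : Fact (Nat.Prime 2) := ⟨Nat.prime_two⟩
  have hchar : CharP F 2 := charP_of_card_eq_prime_pow hF
  let _ : Algebra (ZMod 2) F := ZMod.algebra F 2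
  have hfr : Module.finrank (ZMod 2) F = 2 * m + 1 := by
    have h1 := FiniteField.pow_finrank_eq_card 2 F
    rw [hF] at h1
    exact Nat.pow_right_injective (le_refl 2) h1
  obtain ⟨f⟩ := FiniteField.nonempty_algHom_of_finrank_dvd (F := ZMod 2)
    (K := GaloisField 2 n) (L := F) (by rw [GaloisField.finrank 2 hn0, hfr]; exact hn)
  have hfinj : Function.Injective f := f.toRingHom.injective
  have hT0 : S.TgSz 0 0 = 1 := Subtype.ext S.Tg_zero
  have hTadd : ∀ b b', S.TgSz 0 (b + b') = S.TgSz 0 b * S.TgSz 0 b' := by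
    intro b b'
    apply Subtype.ext
    show S.Tg 0 (b + b') = S.Tg 0 b * S.Tg 0 b'
    rw [Tg_mul, map_zero, zero_mul, add_zero, add_zero]
  have hTinj : ∀ b b', S.TgSz 0 b = S.TgSz 0 b' → b = b' := by
    intro b b' h
    exact (S.Tg_injective (congrArg Subtype.val h)).2
  let E : Subgroup (Cfsg.Sz F m) :=
    { carrier := {e | ∃ c : GaloisField 2 n, e = S.TgSz 0 (f c)}
      mul_mem' := by
        rintro _ _ ⟨c, rfl⟩ ⟨d, rfl⟩
        exact ⟨c + d, by rw [map_add, hTadd]⟩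
      one_mem' := ⟨0, by rw [map_zero, hT0]⟩
      inv_mem' := by
        rintro _ ⟨c, rfl⟩
        refine ⟨c, ?_⟩
        rw [inv_eq_iff_mul_eq_one, ← hTadd, S.add_self, hT0] }
  have hEmem : ∀ e, e ∈ E ↔ ∃ c : GaloisField 2 n, e = S.TgSz 0 (f c) := fun e => Iff.rfl
  refine ⟨E, ⟨⟨⟨?_⟩⟩, ?_⟩, ?_, ?_⟩
  · rintro ⟨_, c, rfl⟩ ⟨_, d, rfl⟩
    apply Subtype.ext
    show S.TgSz 0 (f c) * S.TgSz 0 (f d) = S.TgSz 0 (f d) * S.TgSz 0 (f c)
    rw [← hTadd, ← hTadd, add_comm]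
  · rintro _ ⟨c, rfl⟩
    rw [pow_two, ← hTadd, S.add_self, hT0]
  · rw [← GaloisField.card 2 n hn0]
    symm
    apply Nat.card_eq_of_bijective (fun c : GaloisField 2 n => (⟨S.TgSz 0 (f c), c, rfl⟩ : E))
    constructor
    · intro c d h
      exact hfinj (hTinj _ _ (congrArg Subtype.val h))
    · rintro ⟨_, c, rfl⟩
      exact ⟨c, rfl⟩
  · intro x hne
    obtain ⟨⟨e, he⟩, hne1⟩ := (Subgroup.ne_bot_iff_exists_ne_one).1 hne
    have he1 : e ≠ 1 := fun h => hne1 (Subtype.ext h)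
    obtain ⟨⟨c₁, hc₁⟩, e', ⟨c₂, hc₂⟩, hconj⟩ := he
    have hconj' : x * e' * x⁻¹ = e := by rw [← hconj]; rfl
    have hc₁0 : c₁ ≠ 0 := by
      rintro rfl
      rw [map_zero, hT0] at hc₁
      exact he1 hc₁
    have hc₂0 : c₂ ≠ 0 := by
      rintro rfl
      rw [map_zero, hT0] at hc₂
      apply he1
      rw [← hconj', hc₂]; group
    have hfc₁ : f c₁ ≠ 0 := (map_ne_zero f.toRingHom).2 hc₁0
    have hfc₂ : f c₂ ≠ 0 := (map_ne_zero f.toRingHom).2 hc₂0
    -- the element `x` fixes the point at infinity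
    have hxe : e * x = x * e' := by rw [← hconj']; group
    have hfix : (x : SpecialLinearGroup (Fin 4) F) • pInf F = pInf F := by
      apply S.eq_pInf_of_Tg_fix hfc₁ (smul_mem_of_mem_Sz x.2 S.pInf_mem)
      have h1 : S.Tg 0 (f c₁) * (x : SpecialLinearGroup (Fin 4) F) =
          (x : SpecialLinearGroup (Fin 4) F) * S.Tg 0 (f c₂) := by
        have := congrArg (fun z : Cfsg.Sz F m => (z : SpecialLinearGroup (Fin 4) F)) hxe
        rw [hc₁, hc₂] at this
        exact this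
      rw [← mul_smul, h1, mul_smul, Tg_smul_pInf]
    obtain ⟨a, c, u, hx⟩ := S.exists_Tg_Dg_of_fix hm hF x.2 hfix
    have hmul : ∀ b : F, x * S.TgSz 0 b = S.TgSz 0 (S.s u * (u : F) ^ 2 * b) * x := by
      intro b
      apply Subtype.ext
      show (x : SpecialLinearGroup (Fin 4) F) * S.Tg 0 b =
        S.Tg 0 (S.s u * (u : F) ^ 2 * b) * (x : SpecialLinearGroup (Fin 4) F)
      rw [hx, stab_mul_Tg_zero]
    have hμ : S.s u * (u : F) ^ 2 = f (c₁ / c₂) := by
      have h1 : S.TgSz 0 (f c₁) * x = S.TgSz 0 (S.s u * (u : F) ^ 2 * f c₂) * x := by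
        rw [← hmul, ← hc₁, ← hc₂, hxe]
      have h2 := hTinj _ _ (mul_right_cancel h1)
      rw [map_div₀, h2, mul_div_assoc, div_self hfc₂, mul_one]
    apply Subgroup.mem_normalizer_fintype
    rintro _ ⟨d, rfl⟩
    refine ⟨c₁ / c₂ * d, ?_⟩
    rw [map_mul, ← hμ, mul_inv_eq_iff_eq_mul, hmul]

end group

end SzData

end Cfsg.Agent.Helper2.Sz
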