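import Mathlib
import Cfsg.Agent.Lib.Helper8.TIG5Defs

/-!
# S1786 Part G, step G5, piece TI-G5-7: `E ≤ A`.
-/

set_option autoImplicit false

namespace Cfsg.Agent.Helper26.TI

variable {G : Type*} [Group G] {V A P PA U : Subgroup G}

/-- (7.1): for `e ∈ E`, `u ∈ U`, the commutator `cm e u` lies in `V`. -/
theorem g5_7_comm_mem_V (h : G5Data V A P PA U)
    (hDW : ∀ d ∈ g5D A P, ∃ v ∈ V, ∃ a ∈ A, d = v * a)
    (hDsq : ∀ d ∈ g5D A P, d * d = 1) :
    ∀ e ∈ g5E V PA, ∀ u ∈ U, cm e u ∈ V := by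
  intro e he u hu
  rw [mem_g5E] at he
  obtain ⟨hePA, heV⟩ := he
  have heA : ∀ a ∈ A, a * e = e * a := fun a ha => h.A_central a ha e hePA
  have huP : u ∈ P := h.U_le_P hu
  have hwP : e * u * e⁻¹ ∈ P := h.norm_P e (fun v hv => (heV v hv).symm) u huP
  have hcP : cm e u ∈ P := by
    have : cm e u = (e * u * e⁻¹) * u⁻¹ := rfl
    rw [this]; exact P.mul_mem hwP (P.inv_mem huP)
  -- cm e u centralizes A
  have hcA : ∀ a ∈ A, a * cm e u = cm e u * a := by
    intro a ha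
    have haP : a ∈ P := h.A_le_P ha
    have hk : cm u a ∈ V := h.comm_P u huP a haP
    -- e commutes with u a u⁻¹
    have e1 : u * a * u⁻¹ = cm u a * a := by unfold cm; group
    have e2 : e * (u * a * u⁻¹) = (u * a * u⁻¹) * e := by
      rw [e1, mul_assoc, heA a ha, ← mul_assoc, ← heV _ hk, mul_assoc]
    -- cm e u commutes with u a u⁻¹
    have e3 : cm e u * (u * a * u⁻¹) = (u * a * u⁻¹) * cm e u := by
      have ea : e⁻¹ * a = a * e⁻¹ := by
        have := heA a ha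
        calc e⁻¹ * a = e⁻¹ * (a * e) * e⁻¹ := by group
          _ = e⁻¹ * (e * a) * e⁻¹ := by rw [this]
          _ = a * e⁻¹ := by group
      calc cm e u * (u * a * u⁻¹) = e * u * (e⁻¹ * a) * u⁻¹ := by unfold cm; group
        _ = e * u * (a * e⁻¹) * u⁻¹ := by rw [ea]
        _ = (e * (u * a * u⁻¹)) * (u * e⁻¹ * u⁻¹) := by group
        _ = ((u * a * u⁻¹) * e) * (u * e⁻¹ * u⁻¹) := by rw [e2]
        _ = (u * a * u⁻¹) * cm e u := by unfold cm; group
    -- cm e u commutes with cm u a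
    have e4 : cm u a * cm e u = cm e u * cm u a := h.V_central _ hk _ hcP
    rw [e1] at e3
    -- e3 : c * (k * a) = (k * a) * c, e4 : k * c = c * k
    have : cm u a * (a * cm e u) = cm u a * (cm e u * a) := by
      calc cm u a * (a * cm e u) = (cm u a * a) * cm e u := by group
        _ = cm e u * (cm u a * a) := e3.symm
        _ = (cm e u * cm u a) * a := by group
        _ = (cm u a * cm e u) * a := by rw [e4]
        _ = cm u a * (cm e u * a) := by group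
    exact mul_left_cancel this
  have hcD : cm e u ∈ g5D A P := mem_g5D.mpr ⟨hcP, hcA⟩
  obtain ⟨v, hv, a', ha', hva⟩ := hDW _ hcD
  have hcc : cm e u * cm e u = 1 := hDsq _ hcD
  by_cases hu1 : u = 1
  · have : cm e u = 1 := by rw [hu1]; unfold cm; group
    rw [this]; exact V.one_mem
  by_cases ha1 : a' = 1
  · rw [hva, ha1, mul_one]; exact hv
  exfalso
  have huu : u * u = 1 := h.U_sq u hu
  -- (e u e⁻¹)^2 = 1
  have hww : (e * u * e⁻¹) * (e * u * e⁻¹) = 1 := by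
    calc (e * u * e⁻¹) * (e * u * e⁻¹) = e * (u * u) * e⁻¹ := by group
      _ = 1 := by rw [huu]; group
  have hw : e * u * e⁻¹ = cm e u * u := by unfold cm; group
  rw [hw] at hww
  -- c u c u = 1, cc = 1, uu = 1 => u c = c u
  have huc : u * cm e u = cm e u * u := by
    have hci : (cm e u)⁻¹ = cm e u := inv_eq_of_mul_eq_one_left hcc
    have hui : u⁻¹ = u := inv_eq_of_mul_eq_one_left huu
    calc u * cm e u = (cm e u)⁻¹ * ((cm e u * u) * (cm e u * u)) * u⁻¹ := by group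
      _ = (cm e u)⁻¹ * 1 * u⁻¹ := by rw [hww]
      _ = cm e u * u := by rw [hci, hui, mul_one]
  rw [hva] at huc
  have hvu : v * u = u * v := h.V_central v hv u huP
  have hua : a' * u = u * a' := by
    have : v * (u * a') = v * (a' * u) := by
      calc v * (u * a') = (v * u) * a' := by group
        _ = (u * v) * a' := by rw [hvu]
        _ = u * (v * a') := by group
        _ = v * a' * u := huc
        _ = v * (a' * u) := by group
    exact (mul_left_cancel this).symm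
  have hall := h.phi_inj u huP a' ha' ha1 hua
  obtain ⟨v0, hv0, hv01⟩ := h.V_ne
  obtain ⟨a, ha, hcm⟩ := h.phi_surj u hu hu1 v0 hv0
  apply hv01
  rw [← hcm]
  have := hall a ha
  unfold cm
  rw [this]; group

/-- TI-G5-7.  `E ≤ A`. -/
theorem g5_E_le_A (h : G5Data V A P PA U) (hVPA : ∀ x, x ∈ V → x ∈ PA → x = 1)
    (hDW : ∀ d ∈ g5D A P, ∃ v ∈ V, ∃ a ∈ A, d = v * a)
    (hDsq : ∀ d ∈ g5D A P, d * d = 1) :
    ∀ e ∈ g5E V PA, e ∈ A := by
  intro e he
  have h71 := g5_7_comm_mem_V h hDW hDsq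
  have he' := he
  rw [mem_g5E] at he'
  obtain ⟨hePA, heV⟩ := he'
  obtain ⟨u1, hu1, hu11⟩ := h.U_ne
  have hv1 : cm e u1 ∈ V := h71 e he u1 hu1
  obtain ⟨a, ha, hcm⟩ := h.phi_surj u1 hu1 hu11 (cm e u1) hv1
  -- e1 := e * a⁻¹ ∈ E
  have he1PA : e * a⁻¹ ∈ PA := PA.mul_mem hePA (PA.inv_mem (h.A_le_PA ha))
  have he1V : ∀ v ∈ V, v * (e * a⁻¹) = (e * a⁻¹) * v := by
    intro v hv
    have h1 : v * a = a * v := h.VA_comm v hv a ha
    have h2 : v * a⁻¹ = a⁻¹ * v := by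
      calc v * a⁻¹ = a⁻¹ * (a * v) * a⁻¹ := by group
        _ = a⁻¹ * (v * a) * a⁻¹ := by rw [h1]
        _ = a⁻¹ * v := by group
    calc v * (e * a⁻¹) = (v * e) * a⁻¹ := by group
      _ = (e * v) * a⁻¹ := by rw [heV v hv]
      _ = e * (v * a⁻¹) := by group
      _ = e * (a⁻¹ * v) := by rw [h2]
      _ = (e * a⁻¹) * v := by group
  have he1E : e * a⁻¹ ∈ g5E V PA := mem_g5E.mpr ⟨he1PA, he1V⟩
  -- e1 commutes with u1
  have hcomm : (e * a⁻¹) * u1 = u1 * (e * a⁻¹) := by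
    set v1 := cm e u1 with hv1def
    have hv1a : v1 * a = a * v1 := h.VA_comm v1 hv1 a ha
    -- a u1 a⁻¹ = v1 u1
    have k1 : a * u1 * a⁻¹ = v1 * u1 := by
      rw [← hcm]; unfold cm; group
    -- a⁻¹ u1 a = v1⁻¹ u1
    have k2 : a⁻¹ * u1 * a = v1⁻¹ * u1 := by
      have : u1 = v1 * (a⁻¹ * u1 * a) := by
        calc u1 = a⁻¹ * (a * u1 * a⁻¹) * a := by group
          _ = a⁻¹ * (v1 * u1) * a := by rw [k1]
          _ = a⁻¹ * (v1 * a) * (a⁻¹ * u1 * a) := by group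
          _ = a⁻¹ * (a * v1) * (a⁻¹ * u1 * a) := by rw [hv1a]
          _ = v1 * (a⁻¹ * u1 * a) := by group
      calc a⁻¹ * u1 * a = v1⁻¹ * (v1 * (a⁻¹ * u1 * a)) := by group
        _ = v1⁻¹ * u1 := by rw [← this]
    have hv1i : v1⁻¹ ∈ V := V.inv_mem hv1
    have k3 : e * v1⁻¹ = v1⁻¹ * e := (heV _ hv1i).symm
    have k4 : e * u1 * e⁻¹ = v1 * u1 := by rw [hv1def]; unfold cm; group
    have : (e * a⁻¹) * u1 * (e * a⁻¹)⁻¹ = u1 := by
      calc (e * a⁻¹) * u1 * (e * a⁻¹)⁻¹ = e * (a⁻¹ * u1 * a) * e⁻¹ := by group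
        _ = e * (v1⁻¹ * u1) * e⁻¹ := by rw [k2]
        _ = (e * v1⁻¹) * u1 * e⁻¹ := by group
        _ = (v1⁻¹ * e) * u1 * e⁻¹ := by rw [k3]
        _ = v1⁻¹ * (e * u1 * e⁻¹) := by group
        _ = v1⁻¹ * (v1 * u1) := by rw [k4]
        _ = u1 := by group
    calc (e * a⁻¹) * u1 = ((e * a⁻¹) * u1 * (e * a⁻¹)⁻¹) * (e * a⁻¹) := by group
      _ = u1 * (e * a⁻¹) := by rw [this]
  -- e1 centralizes U
  have hU : ∀ u' ∈ U, (e * a⁻¹) * u' = u' * (e * a⁻¹) := by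
    intro u' hu'
    have hn := h.g0_U u1 hu1 hu11 (e * a⁻¹) hcomm u' hu'
    have hcU : cm (e * a⁻¹) u' ∈ U := by
      have : cm (e * a⁻¹) u' = ((e * a⁻¹) * u' * (e * a⁻¹)⁻¹) * u'⁻¹ := rfl
      rw [this]; exact U.mul_mem hn (U.inv_mem hu')
    have hcV : cm (e * a⁻¹) u' ∈ V := h71 _ he1E u' hu'
    have h1 := h.UV_inf _ hcU hcV
    calc (e * a⁻¹) * u' = cm (e * a⁻¹) u' * (u' * (e * a⁻¹)) := by unfold cm; group
      _ = u' * (e * a⁻¹) := by rw [h1, one_mul]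
  -- e1 centralizes P
  have hP : ∀ x ∈ P, (e * a⁻¹) * x = x * (e * a⁻¹) := by
    intro x hx
    obtain ⟨u, hu, d, hd, hdA, hxud⟩ := h.P_eq x hx
    have hdD : d ∈ g5D A P := mem_g5D.mpr ⟨hd, fun a' ha' => (hdA a' ha').symm⟩
    obtain ⟨v, hv, a', ha', hdva⟩ := hDW d hdD
    have c1 := hU u hu
    have c2 : (e * a⁻¹) * v = v * (e * a⁻¹) := (he1V v hv).symm
    have c3 : (e * a⁻¹) * a' = a' * (e * a⁻¹) := (h.A_central a' ha' _ he1PA).symm
    rw [hxud, hdva]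
    calc (e * a⁻¹) * (u * (v * a')) = ((e * a⁻¹) * u) * (v * a') := by group
      _ = (u * (e * a⁻¹)) * (v * a') := by rw [c1]
      _ = u * ((e * a⁻¹) * v) * a' := by group
      _ = u * (v * (e * a⁻¹)) * a' := by rw [c2]
      _ = u * v * ((e * a⁻¹) * a') := by group
      _ = u * v * (a' * (e * a⁻¹)) := by rw [c3]
      _ = u * (v * a') * (e * a⁻¹) := by group
  have he1inV : e * a⁻¹ ∈ V := h.cent_P _ (fun v hv => (he1V v hv).symm) hP
  have h1 := hVPA _ he1inV he1PA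
  have : e = a := by
    calc e = (e * a⁻¹) * a := by group
      _ = a := by rw [h1, one_mul]
  rw [this]; exact ha

end Cfsg.Agent.Helper26.TI
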