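import Mathlib
import Cfsg.Agent.Lib.Helper2.TIHDefs

/-!
# S4118, PIECE NPLE (helper2)
-/

set_option autoImplicit false
set_option linter.unusedVariables false
set_option linter.unusedSectionVars false

namespace Cfsg.Agent.Helper2.TIH

open Cfsg

variable {G : Type*} [Group G] [Finite G] (H : Subgroup G)

/-- PIECE NPLE. -/
theorem normalizer_le (hTI : IsTISubset (H : Set G)) (P : Subgroup G) (hP : P ≤ H) (hP1 : P ≠ ⊥) :
    Subgroup.normalizer (P : Set G) ≤ Subgroup.normalizer (H : Set G) := by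
  intro g hg
  by_contra hgn
  obtain ⟨x, hxP, hx1⟩ := (Subgroup.ne_bot_iff_exists_ne_one (H := P)).mp hP1 |>.elim
    (fun x hx => (⟨x.1, x.2, fun h => hx (Subtype.ext h)⟩ : ∃ y : G, y ∈ P ∧ y ≠ 1))
  have h1 : g * x * g⁻¹ ∈ P := by
    have := (Subgroup.mem_normalizer_iff.mp hg x).mp hxP
    exact this
  exact hx1 (hTI g hgn x (hP hxP) (hP h1))

end Cfsg.Agent.Helper2.TIH
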