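import Mathlib

set_option autoImplicit false
set_option linter.style.haveILetI false

namespace Cfsg.Agent.Helper2.TIH

namespace SL25NS

abbrev S25 := Matrix.SpecialLinearGroup (Fin 2) (ZMod 5)

def e12 (t : ZMod 5) : S25 := ⟨!![1, t; 0, 1], by simp [Matrix.det_fin_two]⟩
def e21 (t : ZMod 5) : S25 := ⟨!![1, 0; t, 1], by simp [Matrix.det_fin_two]⟩
def dg : S25 := ⟨!![2, 0; 0, 3], by simp [Matrix.det_fin_two]; decide⟩

theorem e12_comm : ∀ t : ZMod 5, ∃ s : ZMod 5, e12 t = dg * e12 s * dg⁻¹ * (e12 s)⁻¹ := by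
  decide +kernel

theorem e21_comm : ∀ t : ZMod 5, ∃ s : ZMod 5, e21 t = dg * e21 s * dg⁻¹ * (e21 s)⁻¹ := by
  decide +kernel

theorem gen : ∀ g : S25, ∃ s t u : ZMod 5,
    g = e12 s * e21 t * e12 u ∨ g = e21 (-1) * (e12 s * e21 t * e12 u) := by
  decide +kernel

theorem mem_commutator (g : S25) : g ∈ commutator S25 := by
  have h12 : ∀ t, e12 t ∈ commutator S25 := by
    intro t
    obtain ⟨s, hs⟩ := e12_comm t
    rw [hs, commutator_def]
    exact Subgroup.commutator_mem_commutator (Subgroup.mem_top _) (Subgroup.mem_top _)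
  have h21 : ∀ t, e21 t ∈ commutator S25 := by
    intro t
    obtain ⟨s, hs⟩ := e21_comm t
    rw [hs, commutator_def]
    exact Subgroup.commutator_mem_commutator (Subgroup.mem_top _) (Subgroup.mem_top _)
  obtain ⟨s, t, u, h | h⟩ := gen g
  · rw [h]
    exact mul_mem (mul_mem (h12 _) (h21 _)) (h12 _)
  · rw [h]
    exact mul_mem (h21 _) (mul_mem (mul_mem (h12 _) (h21 _)) (h12 _))

end SL25NS

/-- PIECE SL25NS: `SL(2,5)` is not solvable. -/
theorem sl25_not_solvable : ¬ Group.IsSolvable (Matrix.SpecialLinearGroup (Fin 2) (ZMod 5)) := by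
  intro h
  haveI : Nontrivial (Matrix.SpecialLinearGroup (Fin 2) (ZMod 5)) := by
    refine ⟨⟨SL25NS.e12 1, 1, ?_⟩⟩
    decide +kernel
  have hlt := Group.IsSolvable.commutator_lt_top_of_nontrivial (Matrix.SpecialLinearGroup (Fin 2) (ZMod 5))
  have : commutator (Matrix.SpecialLinearGroup (Fin 2) (ZMod 5)) = ⊤ := by
    rw [eq_top_iff]
    intro g _
    exact SL25NS.mem_commutator g
  rw [this] at hlt
  exact lt_irrefl _ hlt

end Cfsg.Agent.Helper2.TIH
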