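import Mathlib
import Cfsg.Agent.Lib.Helper2.TIHDefs
import Cfsg.Agent.Lib.Helper15.TIHHALL
import Cfsg.Agent.Lib.Helper24.TIHOPI
import Cfsg.Agent.Lib.Helper25.TIHCHAIN
import Cfsg.Agent.Lib.Helper7.TIHKLE
import Cfsg.Agent.Lib.Helper7.TIHFRAT
import Cfsg.Agent.Lib.Helper24.TIHPICORE
import Cfsg.Agent.Lib.Helper24.TIHCENT
import Cfsg.Agent.Lib.Helper15.TIHGSOLV
import Cfsg.Agent.Lib.Helper14.TIHFROBC
import Cfsg.Agent.Lib.Helper18.TIHHSOLV
import Cfsg.Agent.Lib.Helper14.TIHHSYL
import Cfsg.Agent.Lib.Helper18.TIHAUTSOLV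
import Cfsg.Agent.Lib.Helper18.TIHSOLVMOD
import Cfsg.Agent.Lib.Helper18.TIHCENTKER
import Cfsg.Agent.Lib.Helper26.TIHSTAB
import Cfsg.Agent.Lib.Helper18.TIHGENSYL
import Cfsg.Agent.Lib.Helper18.TIHFITN
import Cfsg.Agent.Lib.Helper2.TIHNPLE
import Cfsg.Agent.Lib.Helper2.TIHSL25NS

/-!
# S4118: assembly (helper2)

PARTB (`sup_normal`), part (A) (`sup_normalizer_eq_top`), XCORE (`solvable_of_fitting`), XASM
(`solvable_of_normal_frobenius_model`) and the main theorem.
-/

set_option autoImplicit false
set_option linter.unusedVariables false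
set_option linter.unusedSectionVars false
set_option linter.style.haveILetI false

namespace Cfsg.Agent.Helper2.TIH

open Cfsg

universe u

section PartA

variable {G : Type*} [Group G] [Finite G] (H : Subgroup G)

namespace ASM

/-- conjugation by `g` maps `A ⊔ B` into itself if it does so for `A` and `B` -/
theorem conj_mem_sup (A B : Subgroup G) (g : G) (hA : ∀ a ∈ A, g * a * g⁻¹ ∈ A)
    (hB : ∀ b ∈ B, g * b * g⁻¹ ∈ B) (x : G) (hx : x ∈ A ⊔ B) : g * x * g⁻¹ ∈ A ⊔ B := by
  have h : A ⊔ B ≤ (A ⊔ B).comap (MulAut.conj g).toMonoidHom := by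
    apply sup_le
    · intro a ha
      rw [Subgroup.mem_comap]
      exact (le_sup_left : A ≤ A ⊔ B) (by simpa using hA a ha)
    · intro b hb
      rw [Subgroup.mem_comap]
      exact (le_sup_right : B ≤ A ⊔ B) (by simpa using hB b hb)
  have := h hx
  rw [Subgroup.mem_comap] at this
  simpa using this

/-- an element normalizing `A` and `B` normalizes `A ⊔ B` -/
theorem mem_normalizer_sup (A B : Subgroup G) (g : G) (hA : g ∈ Subgroup.normalizer (A : Set G))
    (hB : g ∈ Subgroup.normalizer (B : Set G)) :
    g ∈ Subgroup.normalizer ((A ⊔ B : Subgroup G) : Set G) := by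
  rw [Subgroup.mem_normalizer_iff]
  intro x
  constructor
  · intro hx
    exact conj_mem_sup A B g (fun a ha => (Subgroup.mem_normalizer_iff.mp hA a).mp ha)
      (fun b hb => (Subgroup.mem_normalizer_iff.mp hB b).mp hb) x hx
  · intro hx
    have hA' := inv_mem hA
    have hB' := inv_mem hB
    have := conj_mem_sup A B g⁻¹ (fun a ha => (Subgroup.mem_normalizer_iff.mp hA' a).mp ha)
      (fun b hb => (Subgroup.mem_normalizer_iff.mp hB' b).mp hb) _ hx
    simpa [mul_assoc] using this

end ASM

/-- PIECE PARTB. -/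
theorem sup_normal (hA : piCore H ⊔ Subgroup.normalizer (H : Set G) = ⊤) : (piCore H ⊔ H).Normal := by
  haveI := piCore_normal H
  rw [← Subgroup.normalizer_eq_top_iff, eq_top_iff, ← hA]
  apply sup_le
  · exact le_trans le_sup_left Subgroup.le_normalizer
  · intro g hg
    apply ASM.mem_normalizer_sup _ _ g _ hg
    have : Subgroup.normalizer ((piCore H : Subgroup G) : Set G) = ⊤ :=
      Subgroup.normalizer_eq_top_iff.mpr inferInstance
    rw [this]
    exact Subgroup.mem_top g

/-- Part (A). -/
theorem sup_normalizer_eq_top (hTI : IsTISubset (H : Set G)) (hnn : ¬ H.Normal)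
    (hHall : (Nat.card H).Coprime (H.subgroupOf (Subgroup.normalizer (H : Set G))).index)
    (hsep : ∃ (n : ℕ) (M : Fin (n + 1) → Subgroup G), M 0 = ⊥ ∧ M (Fin.last n) = ⊤ ∧ Monotone M ∧
      (∀ i, (M i).Normal) ∧
      ∀ i : Fin n, (∀ q : ℕ, q.Prime → q ∣ (M i.castSucc).relIndex (M i.succ) → q ∣ Nat.card H) ∨
        ((M i.castSucc).relIndex (M i.succ)).Coprime (Nat.card H)) :
    piCore H ⊔ Subgroup.normalizer (H : Set G) = ⊤ := by
  have hH1 : H ≠ ⊥ := by
    intro h
    apply hnn
    rw [h]
    infer_instance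
  have hcop := hall H hTI hHall
  obtain ⟨K, hKn, hOK, hne, hq⟩ := exists_chain_term H hH1 hsep
  have hKle := le_sup_of_pi_index H hTI hcop K hKn hOK hq
  exact sup_normalizer_eq_top_of H hTI hcop K hKn hOK hne hKle hq

end PartA

section LemmaX

variable {N : Type*} [Group N]

namespace XCORE

/-- the Sylow subgroups of a normal nilpotent subgroup, pushed to `N`, are normal -/
theorem sylow_map_normal [Finite N] (F : Subgroup N) [F.Normal] [Group.IsNilpotent F] (p : ℕ)
    [Fact p.Prime] (P : Sylow p F) : ((P : Subgroup F).map F.subtype).Normal := by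
  haveI : (P : Subgroup F).Normal := inferInstance
  haveI : (P : Subgroup F).Characteristic := Sylow.characteristic_of_normal P inferInstance
  exact ConjAct.normal_of_characteristic_of_normal

/-- the subgroup of `N` attached to the number `p` -/
noncomputable def cent [Finite N] (F : Subgroup N) (p : ℕ) : Subgroup N :=
  if hp : p.Prime then
    haveI : Fact p.Prime := ⟨hp⟩
    Subgroup.centralizer ((((default : Sylow p F) : Subgroup F).map F.subtype : Subgroup N) : Set N)
  else ⊤

end XCORE

/-- PIECE XCORE. -/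
theorem solvable_of_fitting [Finite N] (H F : Subgroup N) [H.Normal] (hFn : F.Normal) (hFH : F ≤ H)
    (hFnil : Group.IsNilpotent F) (hCF : H ⊓ Subgroup.centralizer (F : Set N) ≤ F)
    (hC : Group.IsSolvable (Subgroup.centralizer (H : Set N)))
    (hAut : ∀ (p : ℕ) [Fact p.Prime] (R : Subgroup N), R ≤ H → IsPGroup p R →
      Group.IsSolvable (MulAut R)) :
    Group.IsSolvable N := by
  classical
  haveI := hFn
  haveI := hFnil
  -- each centralizer is `SolvMod`
  have h1 : ∀ p ∈ (Nat.card F).primeFactors, SolvMod (XCORE.cent F p) := by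
    intro p hp
    have hpp : p.Prime := Nat.prime_of_mem_primeFactors hp
    haveI : Fact p.Prime := ⟨hpp⟩
    unfold XCORE.cent
    rw [dif_pos hpp]
    haveI := XCORE.sylow_map_normal F p (default : Sylow p F)
    apply solvMod_centralizer
    apply hAut p
    · exact le_trans (Subgroup.map_subtype_le _) hFH
    · exact ((default : Sylow p F).2).map F.subtype
  have h2 : SolvMod (⨅ p ∈ (Nat.card F).primeFactors, XCORE.cent F p) :=
    solvMod_finset_inf _ _ h1
  have h3 : (⨅ p ∈ (Nat.card F).primeFactors, XCORE.cent F p) ≤ Subgroup.centralizer (F : Set N) := by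
    intro x hx
    apply mem_centralizer_of_sylow F x
    intro p _ P
    have hP : P = (default : Sylow p F) := by
      haveI : Subsingleton (Sylow p F) := (Sylow.unique_of_normal P inferInstance).instSubsingleton
      exact Subsingleton.elim _ _
    by_cases hp : p ∈ (Nat.card F).primeFactors
    · have hx' : x ∈ XCORE.cent F p := by
        have := (Subgroup.mem_iInf.mp hx) p
        exact (Subgroup.mem_iInf.mp this) hp
      unfold XCORE.cent at hx'
      rw [dif_pos (Fact.out : p.Prime)] at hx'
      rw [hP]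
      exact hx'
    · -- trivial Sylow subgroup
      have hnd : ¬ p ∣ Nat.card F := by
        intro hd
        exact hp (Nat.mem_primeFactors.mpr ⟨Fact.out, hd, Nat.card_pos.ne'⟩)
      have hcard : Nat.card (P : Subgroup F) = 1 := by
        rw [Sylow.card_eq_multiplicity, Nat.factorization_eq_zero_of_not_dvd hnd, pow_zero]
      have hbot : (P : Subgroup F) = ⊥ := Subgroup.card_eq_one.mp hcard
      rw [hbot, Subgroup.map_bot]
      rw [Subgroup.mem_centralizer_iff]
      intro y hy
      have : y = 1 := by simpa using hy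
      rw [this]
      simp
  have h4 : SolvMod (Subgroup.centralizer (F : Set N)) := solvMod_mono h2 h3
  have h5 : SolvMod (Subgroup.centralizer (H : Set N)) :=
    solvMod_of_commutator_le h4 (commutator_centralizer_le H F hFH hCF)
  exact solvable_of_solvMod h5 hC


/-- PIECE XASM. -/
theorem solvable_of_normal_frobenius_model [Finite N] (H : Subgroup N) [H.Normal]
    (hF : HasFrobModel.{u} H) (hHs : Group.IsSolvable H)
    (hC : Group.IsSolvable (Subgroup.centralizer (H : Set N))) : Group.IsSolvable N := by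
  obtain ⟨F, hFn, hFH, hFnil, hCF⟩ := exists_fitting H hHs
  apply solvable_of_fitting H F hFn hFH hFnil hCF hC
  intro p _ R hRH hR
  let e : R.subgroupOf H ≃* R := Subgroup.subgroupOfEquivOfLe hRH
  have hR' : IsPGroup p (R.subgroupOf H) := hR.of_equiv e.symm
  have hs : Group.IsSolvable (MulAut (R.subgroupOf H)) :=
    mulAut_solvable_of_sylow (H := H) (fun q _ P => sylow_cyclic_or_quaternion hF q P) p
      (R.subgroupOf H) hR'
  exact Group.isSolvable_of_surjective (f := (MulAut.congr e).toMonoidHom) (MulAut.congr e).surjective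

end LemmaX

namespace ASM

/-- the centralizer of `H` inside `N_G(H)` embeds into `C_G(H)` -/
theorem centralizer_subgroupOf_solvable {G : Type*} [Group G] (H : Subgroup G)
    (hC : Group.IsSolvable (Subgroup.centralizer (H : Set G))) :
    Group.IsSolvable (Subgroup.centralizer
      ((H.subgroupOf (Subgroup.normalizer (H : Set G)) : Subgroup (Subgroup.normalizer (H : Set G))) :
        Set (Subgroup.normalizer (H : Set G)))) := by
  let Nn := Subgroup.normalizer (H : Set G)
  let C' := Subgroup.centralizer ((H.subgroupOf Nn : Subgroup Nn) : Set Nn)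
  let f : C' →* G := Nn.subtype.comp C'.subtype
  have hf : ∀ x : C', f x ∈ Subgroup.centralizer (H : Set G) := by
    intro x
    rw [Subgroup.mem_centralizer_iff]
    intro y hy
    have hyN : y ∈ Nn := Subgroup.le_normalizer hy
    have hmem : (⟨y, hyN⟩ : Nn) ∈ ((H.subgroupOf Nn : Subgroup Nn) : Set Nn) := by
      show (⟨y, hyN⟩ : Nn) ∈ H.subgroupOf Nn
      rw [Subgroup.mem_subgroupOf]
      exact hy
    have := (Subgroup.mem_centralizer_iff.mp x.2) ⟨y, hyN⟩ hmem
    have h2 := congrArg (Subtype.val) this
    have h3 : y * ((x : Nn) : G) = ((x : Nn) : G) * y := by simpa using h2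
    exact h3
  let g : C' →* Subgroup.centralizer (H : Set G) := f.codRestrict _ hf
  have hg : Function.Injective g := by
    intro a b hab
    have h1 : f a = f b := by
      have := congrArg (fun z : Subgroup.centralizer (H : Set G) => (z : G)) hab
      exact this
    apply Subtype.ext
    apply Subtype.ext
    exact h1
  exact Group.isSolvable_of_isSolvable_injective hg

end ASM

/-- S4118. -/
theorem main {G : Type u} [Group G] [Finite G] (H : Subgroup G)
    (hTI : Cfsg.IsTISubset (H : Set G)) (hnn : ¬ H.Normal)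
    (hHall : (Nat.card H).Coprime (H.subgroupOf (Subgroup.normalizer (H : Set G))).index)
    (hsep : ∃ (n : ℕ) (M : Fin (n + 1) → Subgroup G), M 0 = ⊥ ∧ M (Fin.last n) = ⊤ ∧ Monotone M ∧ (∀ i, (M i).Normal) ∧
      ∀ i : Fin n, (∀ q : ℕ, q.Prime → q ∣ (M i.castSucc).relIndex (M i.succ) → q ∣ Nat.card H) ∨
        ((M i.castSucc).relIndex (M i.succ)).Coprime (Nat.card H))
    (O : Subgroup G) (hO : O = sSup {K : Subgroup G | K.Normal ∧ (Nat.card K).Coprime (Nat.card H)}) :
    O ⊔ Subgroup.normalizer (H : Set G) = ⊤ ∧ (O ⊔ H).Normal ∧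
    (Group.IsSolvable G ↔ Group.IsSolvable O ∧
      ∀ K : Subgroup G, K ≤ H → ¬ Nonempty (K ≃* Matrix.SpecialLinearGroup (Fin 2) (ZMod 5))) := by
  have hO' : O = piCore H := hO
  subst hO'
  have hA := sup_normalizer_eq_top H hTI hnn hHall hsep
  refine ⟨hA, sup_normal H hA, ?_, ?_⟩
  · intro hG
    refine ⟨inferInstance, ?_⟩
    rintro K hK ⟨e⟩
    apply sl25_not_solvable
    exact Group.isSolvable_of_surjective (f := e.toMonoidHom) e.surjective
  · rintro ⟨hOs, hno⟩
    have hmod : HasFrobModel.{u, u} H := exists_frobenius_model H hTI hnn hHall hA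
    have hHs : Group.IsSolvable H := by
      apply solvable_of_frobenius_model hmod
      rintro K ⟨e⟩
      apply hno (K.map H.subtype) (Subgroup.map_subtype_le K)
      exact ⟨(K.equivMapOfInjective H.subtype H.subtype_injective).symm.trans e⟩
    have hCs := centralizer_solvable H hHall hA hOs
    haveI : (H.subgroupOf (Subgroup.normalizer (H : Set G))).Normal := Subgroup.normal_in_normalizer
    let e : H.subgroupOf (Subgroup.normalizer (H : Set G)) ≃* H :=
      Subgroup.subgroupOfEquivOfLe Subgroup.le_normalizer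
    have hmodN : HasFrobModel.{u, u} (H.subgroupOf (Subgroup.normalizer (H : Set G))) := by
      obtain ⟨F, i1, i2, C, hC, ⟨φ⟩⟩ := hmod
      exact ⟨F, i1, i2, C, hC, ⟨e.trans φ⟩⟩
    have hHNs : Group.IsSolvable (H.subgroupOf (Subgroup.normalizer (H : Set G))) :=
      Group.isSolvable_of_surjective (f := e.symm.toMonoidHom) e.symm.surjective
    have hNs : Group.IsSolvable (Subgroup.normalizer (H : Set G)) :=
      solvable_of_normal_frobenius_model _ hmodN hHNs (ASM.centralizer_subgroupOf_solvable H hCs)
    haveI := piCore_normal H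
    exact solvable_of_sup_eq_top (piCore H) _ hOs hNs hA

end Cfsg.Agent.Helper2.TIH
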