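import Mathlib
import Cfsg.Agent.Lib.Helper2.TIHDefs
import Cfsg.Agent.Lib.Helper24.TIHOPI

/-!
# S4151, PIECE MCOMPL (helper2)
-/

set_option autoImplicit false
set_option linter.unusedVariables false
set_option linter.unusedSectionVars false
set_option linter.style.haveILetI false

namespace Cfsg.Agent.Helper2.TIH

open Cfsg

namespace MCOMPL

variable {G : Type*} [Group G]

/-- conjugation by `g` maps `A ⊔ B` into `T` if it does so for `A` and `B` -/
theorem conj_mem_of_sup (A B T : Subgroup G) (g : G) (hA : ∀ a ∈ A, g * a * g⁻¹ ∈ T)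
    (hB : ∀ b ∈ B, g * b * g⁻¹ ∈ T) (x : G) (hx : x ∈ A ⊔ B) : g * x * g⁻¹ ∈ T := by
  have h : A ⊔ B ≤ T.comap (MulAut.conj g).toMonoidHom := by
    apply sup_le
    · intro a ha
      rw [Subgroup.mem_comap]
      simpa using hA a ha
    · intro b hb
      rw [Subgroup.mem_comap]
      simpa using hB b hb
  have := h hx
  rw [Subgroup.mem_comap] at this
  simpa using this

/-- a subgroup `S` all of whose elements conjugate `T` into `T` lies in the normalizer of `T` -/
theorem le_normalizer_of_conj (S T : Subgroup G) (h : ∀ g ∈ S, ∀ x ∈ T, g * x * g⁻¹ ∈ T) :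
    S ≤ Subgroup.normalizer (T : Set G) := by
  intro g hg
  rw [Subgroup.mem_normalizer_iff]
  intro x
  constructor
  · exact h g hg x
  · intro hx
    have := h g⁻¹ (inv_mem hg) _ hx
    simpa [mul_assoc] using this

end MCOMPL

/-- PIECE MCOMPL. -/
theorem exists_normal_complement {G : Type*} [Group G] [Finite G] (H Q O K C : Subgroup G) [O.Normal]
    (hQH' : Q ⊔ H = Subgroup.normalizer (H : Set G))
    (hA : O ⊔ Subgroup.normalizer (H : Set G) = ⊤)
    (hKH : K ≤ H) (hHK : H ≤ Subgroup.normalizer (K : Set G))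
    (hQK : Q ≤ Subgroup.normalizer (K : Set G)) (hcomm : ∀ h ∈ H, ∀ q ∈ Q, h * q * h⁻¹ * q⁻¹ ∈ K)
    (hKC : K ⊔ C = H) (hOC : (Nat.card O).Coprime (Nat.card C)) (hKCc : (Nat.card K).Coprime (Nat.card C))
    (hQC : (Nat.card Q).Coprime (Nat.card C)) :
    ∃ N : Subgroup G, N.Normal ∧ N.IsComplement' C := by
  -- conjugation facts
  have hOconj : ∀ g : G, ∀ x ∈ O, g * x * g⁻¹ ∈ O := fun g x hx => ‹O.Normal›.conj_mem x hx g
  have hKconjH : ∀ h ∈ H, ∀ x ∈ K, h * x * h⁻¹ ∈ K := fun h hh x hx =>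
    (Subgroup.mem_normalizer_iff.mp (hHK hh) x).mp hx
  have hKconjQ : ∀ q ∈ Q, ∀ x ∈ K, q * x * q⁻¹ ∈ K := fun q hq x hx =>
    (Subgroup.mem_normalizer_iff.mp (hQK hq) x).mp hx
  -- `M₁ = O ⊔ K` is normal
  have hM1 : (O ⊔ K).Normal := by
    rw [← Subgroup.normalizer_eq_top_iff, eq_top_iff, ← hA, ← hQH']
    apply sup_le
    · exact le_trans le_sup_left Subgroup.le_normalizer
    · apply sup_le
      · apply MCOMPL.le_normalizer_of_conj
        intro q hq x hx
        exact MCOMPL.conj_mem_of_sup O K (O ⊔ K) q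
          (fun a ha => (le_sup_left : O ≤ O ⊔ K) (hOconj q a ha))
          (fun b hb => (le_sup_right : K ≤ O ⊔ K) (hKconjQ q hq b hb)) x hx
      · apply MCOMPL.le_normalizer_of_conj
        intro h hh x hx
        exact MCOMPL.conj_mem_of_sup O K (O ⊔ K) h
          (fun a ha => (le_sup_left : O ≤ O ⊔ K) (hOconj h a ha))
          (fun b hb => (le_sup_right : K ≤ O ⊔ K) (hKconjH h hh b hb)) x hx
  haveI := hM1
  -- `M = M₁ ⊔ Q` is normal
  have hM : ((O ⊔ K) ⊔ Q).Normal := by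
    rw [← Subgroup.normalizer_eq_top_iff, eq_top_iff, ← hA, ← hQH']
    apply sup_le
    · exact le_trans (le_trans le_sup_left le_sup_left) Subgroup.le_normalizer
    · apply sup_le
      · exact le_trans le_sup_right Subgroup.le_normalizer
      · apply MCOMPL.le_normalizer_of_conj
        intro h hh x hx
        refine MCOMPL.conj_mem_of_sup (O ⊔ K) Q ((O ⊔ K) ⊔ Q) h
          (fun a ha => (le_sup_left : O ⊔ K ≤ (O ⊔ K) ⊔ Q) (hM1.conj_mem a ha h)) ?_ x hx
        intro q hq
        have e : h * q * h⁻¹ = (h * q * h⁻¹ * q⁻¹) * q := by group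
        rw [e]
        exact mul_mem ((le_sup_left : O ⊔ K ≤ (O ⊔ K) ⊔ Q)
          ((le_sup_right : K ≤ O ⊔ K) (hcomm h hh q hq))) ((le_sup_right : Q ≤ (O ⊔ K) ⊔ Q) hq)
  refine ⟨(O ⊔ K) ⊔ Q, hM, ?_⟩
  -- coprime orders
  have hd1 : Nat.card ↥(O ⊔ K) ∣ Nat.card O * Nat.card K := OPI.card_sup_dvd O K
  have hd2 : Nat.card ↥((O ⊔ K) ⊔ Q) ∣ Nat.card ↥(O ⊔ K) * Nat.card Q := OPI.card_sup_dvd (O ⊔ K) Q
  have hcop : (Nat.card ↥((O ⊔ K) ⊔ Q)).Coprime (Nat.card C) := by
    apply Nat.Coprime.coprime_dvd_left hd2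
    apply Nat.Coprime.mul_left _ hQC
    apply Nat.Coprime.coprime_dvd_left hd1
    exact Nat.Coprime.mul_left hOC hKCc
  have hdisj : Disjoint ((O ⊔ K) ⊔ Q) C := Subgroup.disjoint_of_coprime_natCard hcop
  -- the join is everything
  have htop : ((O ⊔ K) ⊔ Q) ⊔ C = ⊤ := by
    rw [eq_top_iff, ← hA, ← hQH', ← hKC]
    apply sup_le
    · exact le_trans (le_trans le_sup_left le_sup_left) le_sup_left
    · apply sup_le
      · exact le_trans le_sup_right le_sup_left
      · apply sup_le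
        · exact le_trans (le_trans le_sup_right le_sup_left) le_sup_left
        · exact le_sup_right
  exact Subgroup.isComplement'_of_disjoint_and_mul_eq_univ hdisj (by
    rw [← Subgroup.normal_mul, htop]
    rfl)

end Cfsg.Agent.Helper2.TIH
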