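import Mathlib
import Cfsg.Agent.Lib.Helper2.TIHDefs
import Cfsg.Agent.Lib.Helper2.TIHAsm
import Cfsg.Agent.Lib.Helper2.TIHMCOMPL
import Cfsg.Agent.Lib.Helper23.TIHZGRP
import Cfsg.Agent.Lib.Helper23.TIHQACT

/-!
# S4151: assembly (helper2)
-/

set_option autoImplicit false
set_option linter.unusedVariables false
set_option linter.unusedSectionVars false
set_option linter.style.haveILetI false

namespace Cfsg.Agent.Helper2.TIH

open Cfsg

universe u

namespace ASM2

/-- a complement `Q` of `H` in `N_G(H)` has order dividing `[N_G(H) : H]` -/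
theorem card_dvd_index {G : Type*} [Group G] [Finite G] (H Q : Subgroup G)
    (hQ : Q ≤ Subgroup.normalizer (H : Set G)) (hQH : Q ⊓ H = ⊥) :
    Nat.card Q ∣ (H.subgroupOf (Subgroup.normalizer (H : Set G))).index := by
  haveI : (H.subgroupOf (Subgroup.normalizer (H : Set G))).Normal := Subgroup.normal_in_normalizer
  let f : Q →* (Subgroup.normalizer (H : Set G)) ⧸ (H.subgroupOf (Subgroup.normalizer (H : Set G))) :=
    (QuotientGroup.mk' _).comp (Subgroup.inclusion hQ)
  have hf : Function.Injective f := by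
    rw [injective_iff_map_eq_one]
    intro q hq
    have h1 : Subgroup.inclusion hQ q ∈ H.subgroupOf (Subgroup.normalizer (H : Set G)) := by
      rw [← QuotientGroup.eq_one_iff]
      exact hq
    rw [Subgroup.mem_subgroupOf] at h1
    have h2 : (q : G) ∈ Q ⊓ H := ⟨q.2, h1⟩
    rw [hQH, Subgroup.mem_bot] at h2
    exact Subtype.ext h2
  have := Subgroup.card_dvd_of_injective f hf
  rwa [← Subgroup.index_eq_card] at this

end ASM2

/-- S4151. -/
theorem main2 {G : Type u} [Group G] [Finite G] (H : Subgroup G)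
    (hTI : Cfsg.IsTISubset (H : Set G)) (hnn : ¬ H.Normal)
    (hHall : (Nat.card H).Coprime (H.subgroupOf (Subgroup.normalizer (H : Set G))).index)
    (hsep : ∃ (n : ℕ) (M : Fin (n + 1) → Subgroup G), M 0 = ⊥ ∧ M (Fin.last n) = ⊤ ∧ Monotone M ∧ (∀ i, (M i).Normal) ∧
      ∀ i : Fin n, (∀ q : ℕ, q.Prime → q ∣ (M i.castSucc).relIndex (M i.succ) → q ∣ Nat.card H) ∨
        ((M i.castSucc).relIndex (M i.succ)).Coprime (Nat.card H))
    (h2 : ∀ P : Sylow 2 H, IsMulCommutative (P : Subgroup H))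
    (Q : Subgroup G) (hQ : Q ≤ Subgroup.normalizer (H : Set G)) (hQH : Q ⊓ H = ⊥) (hQH' : Q ⊔ H = Subgroup.normalizer (H : Set G)) :
    (Nat.card ↥(H ⊓ Subgroup.centralizer (Q : Set G))).Coprime (H ⊓ Subgroup.centralizer (Q : Set G)).index ∧
    ∃ N : Subgroup G, N.Normal ∧ N.IsComplement' (H ⊓ Subgroup.centralizer (Q : Set G)) := by
  have hA := sup_normalizer_eq_top H hTI hnn hHall hsep
  have hmod : HasFrobModel.{u, u} H := exists_frobenius_model H hTI hnn hHall hA
  have hcyc : ∀ (p : ℕ) [Fact p.Prime] (P : Sylow p H), IsCyclic (P : Subgroup H) :=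
    fun p _ P => sylow_cyclic_of_model hmod h2 p P
  have hcopQ : (Nat.card Q).Coprime (Nat.card H) :=
    (Nat.Coprime.coprime_dvd_right (ASM2.card_dvd_index H Q hQ hQH) hHall).symm
  obtain ⟨K, hKH, hHK, hQK, hcomm, hKC, hKCc, hCrel⟩ := exists_commutator_subgroup H Q hQ hcopQ hcyc
  have hCH : H ⊓ Subgroup.centralizer (Q : Set G) ≤ H := inf_le_left
  have hCd : Nat.card ↥(H ⊓ Subgroup.centralizer (Q : Set G)) ∣ Nat.card H :=
    Subgroup.card_dvd_of_le hCH
  have hhall := hall H hTI hHall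
  refine ⟨?_, ?_⟩
  · rw [← Subgroup.relIndex_mul_index hCH]
    exact Nat.Coprime.mul_right hCrel (Nat.Coprime.coprime_dvd_left hCd hhall)
  · haveI := piCore_normal H
    exact exists_normal_complement H Q (piCore H) K _ hQH' hA hKH hHK hQK hcomm hKC
      (Nat.Coprime.coprime_dvd_right hCd (piCore_coprime H)) hKCc
      (Nat.Coprime.coprime_dvd_right hCd hcopQ)

end Cfsg.Agent.Helper2.TIH
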