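import Mathlib
import Cfsg.Agent.Lib.Helper6.UniDefs

/-!
PIECE UNI-STEXP (S2314 farm-out, helper6), core: the sum of the relative Steinberg function over the elements
of `p`-power order, with UNI-BURN as a hypothesis.
-/

set_option autoImplicit false
set_option linter.unusedSectionVars false
set_option linter.unusedVariables false

namespace Cfsg.Agent.Helper6.Uni

open Cfsg Cfsg.Agent.Helper2.WordLen Cfsg.Agent.Helper2.BN Cfsg.Agent.Helper17.BNCox

/-- the elements of `p`-power order of `H.subgroupOf L` and of `H`, for `H ≤ L`. -/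
theorem uni_stexp_card_isPE {M : Type*} [Group M] (p : ℕ) (H L : Subgroup M) (h : H ≤ L) :
    Nat.card {g : ↥(H.subgroupOf L) // IsPE p g} = Nat.card {g : ↥H // IsPE p g} := by
  apply Nat.card_congr
  refine (Subgroup.subgroupOfEquivOfLe h).toEquiv.subtypeEquiv ?_
  intro g
  unfold IsPE
  rw [show ((Subgroup.subgroupOfEquivOfLe h).toEquiv g) = (Subgroup.subgroupOfEquivOfLe h) g from rfl,
    MulEquiv.orderOf_eq]

variable {G : Type*} [Group G] (P : Cfsg.BNPair G)

/-- UNI-STEXP with UNI-BURN as a hypothesis. -/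
theorem uni_stexp_core [Finite G] (p : ℕ) (A : Finset P.S)
    (hBURN : ∀ K : Subgroup ↥(par P (↑A : Set P.S)),
      ∑ᶠ g : {g : ↥(par P (↑A : Set P.S)) // IsPE p g}, Cfsg.fixedPointCharacter K (g : ↥(par P (↑A : Set P.S))) =
        (K.index : ℂ) * (Nat.card {g : K // IsPE p g} : ℂ)) :
    ∑ᶠ g : {g : ↥(par P (↑A : Set P.S)) // IsPE p g}, StA P A (g : ↥(par P (↑A : Set P.S))) =
      ∑ K ∈ A.powerset, (-1 : ℂ) ^ K.card *
        ((par P (↑K : Set P.S)).relIndex (par P (↑A : Set P.S)) : ℂ) * (npe p (par P (↑K : Set P.S)) : ℂ) := by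
  classical
  have : Fintype {g : ↥(par P (↑A : Set P.S)) // IsPE p g} := Fintype.ofFinite _
  rw [finsum_eq_sum_of_fintype]
  unfold StA
  rw [Finset.sum_comm]
  apply Finset.sum_congr rfl
  intro K hK
  rw [← Finset.mul_sum, ← finsum_eq_sum_of_fintype, hBURN, mul_assoc]
  have hKA : par P (↑K : Set P.S) ≤ par P (↑A : Set P.S) := by
    apply par_mono
    exact_mod_cast Finset.mem_powerset.1 hK
  rw [uni_stexp_card_isPE p _ _ hKA]
  rfl

end Cfsg.Agent.Helper6.Uni
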