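import Mathlib
import Cfsg.Agent.Lib.Helper6.UniDefs
import Cfsg.Agent.Lib.Helper2.UniSTEXPCore
import Cfsg.Agent.Lib.Helper26.UniBURN

/-!
PIECE UNI-STEXP (S2314 farm-out, helper6): the sum of the relative Steinberg function over the elements
of `p`-power order, expanded with UNI-BURN.
-/

set_option autoImplicit false
set_option linter.unusedSectionVars false
set_option linter.unusedVariables false

namespace Cfsg.Agent.Helper6.Uni

open Cfsg Cfsg.Agent.Helper2.WordLen Cfsg.Agent.Helper2.BN Cfsg.Agent.Helper17.BNCox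

variable {G : Type*} [Group G] (P : Cfsg.BNPair G)

/-- PIECE UNI-STEXP: the sum of the relative Steinberg function over the elements of `p`-power order,
expanded with UNI-BURN. -/
theorem finsum_StA [Finite G] (p : ℕ) (A : Finset P.S) :
    ∑ᶠ g : {g : ↥(par P (↑A : Set P.S)) // IsPE p g}, StA P A (g : ↥(par P (↑A : Set P.S))) =
      ∑ K ∈ A.powerset, (-1 : ℂ) ^ K.card *
        ((par P (↑K : Set P.S)).relIndex (par P (↑A : Set P.S)) : ℂ) * (npe p (par P (↑K : Set P.S)) : ℂ) :=
  uni_stexp_core P p A (fun K => finsum_fixedPointCharacter_isPE p K)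

end Cfsg.Agent.Helper6.Uni
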