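import Mathlib
import Cfsg.Agent.Lib.Helper6.UniDefs

/-!
PIECE UNI-STU (S2314 farm-out, helper6), core: the count of `{x ∈ B : x⁻¹ u x ∈ B ∩ n_A B n_A⁻¹}` for `u ∈ U`,
and the statement with UNI-STB as a hypothesis.
-/

set_option autoImplicit false
set_option linter.unusedSectionVars false
set_option linter.unusedVariables false

namespace Cfsg.Agent.Helper6.Uni

open Cfsg Cfsg.Agent.Helper2.WordLen Cfsg.Agent.Helper2.BN Cfsg.Agent.Helper17.BNCox

variable {G : Type*} [Group G] {P : Cfsg.BNPair G} {p : ℕ}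

/-- for `u ∈ U` and `x ∈ B`: `x⁻¹ u x ∈ B ∩ n_A B n_A⁻¹` iff `u ∈ R_A`. -/
theorem uni_stu_mem_iff (D : SplitData P p) (A : Finset P.S) (u : G) (hu : u ∈ D.U) (x : G)
    (hx : x ∈ P.B) : x⁻¹ * u * x ∈ Hn P (D.n A) ↔ u ∈ D.R A := by
  have hxi : x⁻¹ ∈ P.B := P.B.inv_mem hx
  have hU : x⁻¹ * u * x ∈ D.U := by
    have := D.U_norm x⁻¹ hxi u hu
    rwa [inv_inv] at this
  rw [mem_Hn]
  constructor
  · rintro ⟨_, h2⟩
    have hR : x⁻¹ * u * x ∈ D.R A := (D.R_mem A _).2 ⟨hU, h2⟩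
    have := D.R_norm A x (B_le_par P _ hx) _ hR
    have e : x * (x⁻¹ * u * x) * x⁻¹ = u := by group
    rwa [e] at this
  · intro h
    have hR : x⁻¹ * u * x ∈ D.R A := by
      have := D.R_norm A x⁻¹ (B_le_par P _ hxi) u h
      rwa [inv_inv] at this
    exact ⟨D.U_le hU, ((D.R_mem A _).1 hR).2⟩

open Classical in
/-- the count of `{x ∈ B : x⁻¹ u x ∈ B ∩ n_A B n_A⁻¹}` for `u ∈ U`. -/
theorem uni_stu_card (D : SplitData P p) (A : Finset P.S) (u : G) (hu : u ∈ D.U) :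
    (Nat.card {x : G // x ∈ P.B ∧ x⁻¹ * u * x ∈ Hn P (D.n A)} : ℂ) =
      if u ∈ D.R A then (Nat.card P.B : ℂ) else 0 := by
  split_ifs with h
  · congr 1
    apply Nat.card_congr
    refine Equiv.subtypeEquivRight ?_
    intro x
    constructor
    · rintro ⟨hx, _⟩
      exact hx
    · intro hx
      exact ⟨hx, (uni_stu_mem_iff D A u hu x hx).2 h⟩
  · have : IsEmpty {x : G // x ∈ P.B ∧ x⁻¹ * u * x ∈ Hn P (D.n A)} := by
      constructor
      rintro ⟨x, hx, hx2⟩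
      exact h ((uni_stu_mem_iff D A u hu x hx).1 hx2)
    rw [Nat.card_of_isEmpty]
    simp

open Classical in
/-- UNI-STU with UNI-STB as a hypothesis. -/
theorem uni_stu_core (D : SplitData P p) (A : Finset P.S)
    (hSTB : ∀ (b : G) (hb : b ∈ P.B),
      StA P A ⟨b, B_le_par P _ hb⟩ * (Nat.card (Hn P (D.n A)) : ℂ) =
        (Nat.card {x : G // x ∈ P.B ∧ x⁻¹ * b * x ∈ Hn P (D.n A)} : ℂ))
    (u : G) (hu : u ∈ D.U) :
    StA P A ⟨u, B_le_par P _ (D.U_le hu)⟩ * (Nat.card (Hn P (D.n A)) : ℂ) =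
      if u ∈ D.R A then (Nat.card P.B : ℂ) else 0 := by
  rw [hSTB u (D.U_le hu)]
  exact uni_stu_card D A u hu

end Cfsg.Agent.Helper6.Uni
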