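import Mathlib
import Cfsg.Agent.Lib.Helper6.UniDefs
import Cfsg.Agent.Lib.Helper2.UniSTUCore
import Cfsg.Agent.Lib.Helper21.UniSTB

/-!
PIECE UNI-STU (S2314 farm-out, helper6): the relative Steinberg function on `U`.
-/

set_option autoImplicit false
set_option linter.unusedSectionVars false
set_option linter.unusedVariables false

namespace Cfsg.Agent.Helper6.Uni

open Cfsg Cfsg.Agent.Helper2.WordLen Cfsg.Agent.Helper2.BN Cfsg.Agent.Helper17.BNCox

variable {G : Type*} [Group G] (P : Cfsg.BNPair G)

namespace SplitData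

variable {P} {p : ℕ} (D : SplitData P p)

open Classical in
/-- PIECE UNI-STU: the relative Steinberg function on `U`. -/
theorem StA_apply_U [Finite G] (A : Finset P.S) (u : G) (hu : u ∈ D.U) :
    StA P A ⟨u, B_le_par P _ (D.U_le hu)⟩ * (Nat.card (Hn P (D.n A)) : ℂ) =
      if u ∈ D.R A then (Nat.card P.B : ℂ) else 0 :=
  uni_stu_core D A (fun b hb => StA_apply_B P A (D.n A) (D.n_mem A) (D.n_desc A) b hb) u hu

end SplitData

end Cfsg.Agent.Helper6.Uni
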