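import Mathlib
import Cfsg.Prelude.Def_Solvable
import Cfsg.Agent.Lib.Helper20.W3Defs
import Cfsg.Agent.Lib.Helper20.W3INVOL
import Cfsg.Agent.Lib.Helper6.W3COUNT
import Cfsg.Agent.Lib.Helper21.W3F1Core

/-!
# S3300, piece W3-NE (helper2 for helper20): `z` has a neighbour.
Built on the landed cores `w3count_core` (helper6) + `star` (helper20) and `arc_symm_core` (helper21).
-/

set_option autoImplicit false

namespace Cfsg.Agent.Helper20.W3

open Cfsg.Agent.Helper8.XS Cfsg.Agent.Helper8.AB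

section ctx

variable {G : Type*} [Group G] [Finite G] {z : G} {H E K : Subgroup G} {n : ℕ}

/-- the counting formula for involutions, from `w3count_core` and `star` -/
theorem w3ne_count (c : Ctx3 z H E K n) (χ : ↥H →* ℤˣ)
    (hχ : ∀ h : ↥H, χ h = 1 ↔ (h : G) ∈ K) (inst : Fintype (G ⧸ H)) (y : G) (hyH : y ∈ H)
    (hyy : y * y = 1) (hy1 : y ≠ 1) :
    valH χ y = (-1) ^ (@Tset G _ H inst χ z y).card :=
  w3count_core c χ hχ (fun y hy k hk hyo hmin => star c χ hχ y hy k hk hyo hmin) y hyH hyy hy1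

/-- arcs are symmetric, from `arc_symm_core` -/
theorem w3ne_symm (c : Ctx3 z H E K n) (χ : ↥H →* ℤˣ)
    (hχ : ∀ h : ↥H, χ h = 1 ↔ (h : G) ∈ K) (r : G) :
    valH χ (r * z * r⁻¹) = valH χ (r⁻¹ * z * r) :=
  arc_symm_core c χ (fun inst y hy hyy hy1 => w3ne_count c χ hχ inst y hy hyy hy1) r

/-- core of W3-NE with the three inputs as hypotheses -/
theorem exists_nbr_core (c : Ctx3 z H E K n) (χ : ↥H →* ℤˣ)
    (hχ : ∀ h : ↥H, χ h = 1 ↔ (h : G) ∈ K)
    (hINV : ∃ y : G, y ∈ H ∧ y ∉ K ∧ y * y = 1)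
    (hCOUNT : ∀ (inst : Fintype (G ⧸ H)) (y : G), y ∈ H → y * y = 1 → y ≠ 1 →
      valH χ y = (-1) ^ (@Tset G _ H inst χ z y).card)
    (hF1 : ∀ r : G, valH χ (r * z * r⁻¹) = valH χ (r⁻¹ * z * r)) :
    ∃ s : G, valH χ (s * z * s⁻¹) = -1 := by
  obtain ⟨y, hyH, hyK, hyy⟩ := hINV
  have hy1 : y ≠ 1 := by
    rintro rfl
    exact hyK K.one_mem
  have inst : Fintype (G ⧸ H) := Fintype.ofFinite _
  have hval : valH χ y = -1 := (val_neg_iff χ hχ y).2 ⟨hyH, hyK⟩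
  have hc := hCOUNT inst y hyH hyy hy1
  rw [hval] at hc
  have hne : (@Tset G _ H inst χ z y).Nonempty := by
    rw [Finset.nonempty_iff_ne_empty]
    intro he
    rw [he, Finset.card_empty, pow_zero] at hc
    exact absurd hc (by decide)
  obtain ⟨x, hx⟩ := hne
  have hx' := (@mem_Tset G _ H inst χ z y x).1 hx
  refine ⟨x.out, ?_⟩
  rw [hF1 x.out]
  exact hx'.1

/-- PIECE W3-NE: `z` has a neighbour. -/
theorem exists_nbr (c : Ctx3 z H E K n) (χ : ↥H →* ℤˣ)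
    (hχ : ∀ h : ↥H, χ h = 1 ↔ (h : G) ∈ K) : ∃ s : G, valH χ (s * z * s⁻¹) = -1 :=
  exists_nbr_core c χ hχ (exists_invol c χ hχ)
    (fun inst y hy hyy hy1 => w3ne_count c χ hχ inst y hy hyy hy1) (w3ne_symm c χ hχ)

end ctx

end Cfsg.Agent.Helper20.W3
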