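import Mathlib
import Cfsg.Prelude.Def_Solvable
import Cfsg.Agent.Lib.Helper20.W3Defs
import Cfsg.Agent.Lib.Helper10.W3EA

/-!
# S3300, piece W3-TRI (helper2 for helper20): the local data at an edge `z ~ u` and a common
neighbour `k`.
-/

set_option autoImplicit false

namespace Cfsg.Agent.Helper20.W3

open Cfsg.Agent.Helper8.XS Cfsg.Agent.Helper8.AB

section ctx

variable {G : Type*} [Group G] [Finite G] {z : G} {H E K : Subgroup G} {n : ℕ}

/-- a conjugate of an involution is an involution -/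
theorem w3tri_conj_sq {z : G} (hzz : z * z = 1) (r : G) :
    (r * z * r⁻¹) * (r * z * r⁻¹) = 1 := by
  calc (r * z * r⁻¹) * (r * z * r⁻¹) = r * (z * z) * r⁻¹ := by group
    _ = 1 := by rw [hzz]; group

/-- inverses commute too -/
theorem w3tri_inv_comm {a b : G} (h : a * b = b * a) : a⁻¹ * b = b * a⁻¹ := by
  calc a⁻¹ * b = a⁻¹ * (b * a) * a⁻¹ := by group
    _ = a⁻¹ * (a * b) * a⁻¹ := by rw [h]
    _ = b * a⁻¹ := by group

/-- an element of `H` normalizes `E` (in the form needed by `Tri`) -/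
theorem w3tri_norm (c : Ctx3 z H E K n) {h : G} (hh : h ∈ H) (e : G) (he : e ∈ E) :
    h⁻¹ * e * h ∈ E := by
  have h1 : h * z = z * h := (c.hH h).1 hh
  have h2 : h⁻¹ * z = z * h⁻¹ := w3tri_inv_comm h1
  have := c.loc.hn h⁻¹ h2 e he
  rwa [inv_inv] at this

/-- PIECE W3-TRI: the local data at an edge `z ~ u` and a common neighbour `k`. -/
theorem tri_of_mem (c : Ctx3 z H E K n) (χ : ↥H →* ℤˣ)
    (hχ : ∀ h : ↥H, χ h = 1 ↔ (h : G) ∈ K)
    (hF1 : ∀ r : G, valH χ (r * z * r⁻¹) = valH χ (r⁻¹ * z * r))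
    (s : G) (hs : valH χ (s * z * s⁻¹) = -1) (k : G) (hk : k ∈ Nset χ z s) :
    Tri z E (s * z * s⁻¹) k (fun x => valH χ (s⁻¹ * x * s)) n := by
  obtain ⟨⟨r, rfl⟩, hk1, hk2⟩ := hk
  have huH : s * z * s⁻¹ ∈ H := val_neg_mem χ hs
  have hkH : r * z * r⁻¹ ∈ H := val_neg_mem χ hk1
  have hkH' : s⁻¹ * (r * z * r⁻¹) * s ∈ H := val_neg_mem χ hk2
  have hrs : valH χ (s⁻¹ * z * s) = -1 := by rw [← hF1 s]; exact hs
  have hrr : valH χ (r⁻¹ * z * r) = -1 := by rw [← hF1 r]; exact hk1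
  have hEAu := elem_abelian c χ s hrs
  have hEAk := elem_abelian c χ r hrr
  have hku : (r * z * r⁻¹) * (s * z * s⁻¹) = (s * z * s⁻¹) * (r * z * r⁻¹) := by
    have h1 : s⁻¹ * (r * z * r⁻¹) * s * z = z * (s⁻¹ * (r * z * r⁻¹) * s) := (c.hH _).1 hkH'
    calc (r * z * r⁻¹) * (s * z * s⁻¹)
        = s * (s⁻¹ * (r * z * r⁻¹) * s * z) * s⁻¹ := by group
      _ = s * (z * (s⁻¹ * (r * z * r⁻¹) * s)) * s⁻¹ := by rw [h1]
      _ = (s * z * s⁻¹) * (r * z * r⁻¹) := by group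
  refine
    { xs := c.loc.xs
      hn := c.hn
      hcard := c.hcard
      huu := w3tri_conj_sq c.hzz s
      hkk := w3tri_conj_sq c.hzz r
      huz := (c.hH _).1 huH
      hkz := (c.hH _).1 hkH
      hku := hku
      huE := fun e he => w3tri_norm c huH e he
      hkE := fun e he => w3tri_norm c hkH e he
      hνmul := ?_
      hνz := hrs
      hAu := hEAu.1
      hAu2 := hEAu.2
      hAk := hEAk.1
      hAk2 := hEAk.2 }
  intro x y hx hy
  have hxH : s⁻¹ * x * s ∈ H := w3ea_conj_mem c s x hx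
  have hyH : s⁻¹ * y * s ∈ H := w3ea_conj_mem c s y hy
  have : s⁻¹ * (x * y) * s = (s⁻¹ * x * s) * (s⁻¹ * y * s) := by group
  show valH χ (s⁻¹ * (x * y) * s) = valH χ (s⁻¹ * x * s) * valH χ (s⁻¹ * y * s)
  rw [this, valH_mul χ hxH hyH]

end ctx

end Cfsg.Agent.Helper20.W3
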