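import Mathlib
import Cfsg.Agent.Lib.Helper6.WeilDefs

/-!
# S2347 piece NONTRIV (helper2): a nontrivial representation of `Sp_{2n}(F)` is nontrivial on the
lower unipotent radical `xL S`
-/

set_option autoImplicit false

namespace Cfsg.Agent.Helper6.Weil

open Matrix Cfsg.Agent.Helper2.Symp
open scoped Cfsg.Agent.Helper2.Symp

variable {n : ℕ} {F : Type*} [Field F]

/-- the symmetric matrix `a E_ii` -/
def nontrivS (i : Fin n) (a : F) : symmAdd n F :=
  ⟨Matrix.single i i a, by
    show (Matrix.single i i a)ᵀ = Matrix.single i i a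
    rw [Matrix.transpose_single]⟩

theorem nontriv_tv_eq (i : Fin n) (c : F) :
    tv (fV i : Fin n ⊕ Fin n → F) c = xL (nontrivS i (-c)) := by
  apply ext_smul
  intro x
  rw [tv_smul, Bf_fV_right, smul_def, xL_coe, Matrix.fromBlocks_mulVec]
  funext k
  cases k with
  | inl j =>
    simp only [Pi.add_apply, Pi.smul_apply, fV, Sum.elim_inl, Matrix.one_mulVec, Matrix.zero_mulVec,
      add_zero]
    rw [Pi.single_apply, if_neg (by simp), smul_zero, add_zero]
    rfl
  | inr j =>
    simp only [Pi.add_apply, Pi.smul_apply, fV, Sum.elim_inr, Matrix.one_mulVec]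
    show x (Sum.inr j) + (c * -x (Sum.inl i)) • (Pi.single (Sum.inr i) (1 : F) : Fin n ⊕ Fin n → F)
        (Sum.inr j) = ((Matrix.single i i (-c) : Matrix (Fin n) (Fin n) F) *ᵥ
          (x ∘ Sum.inl)) j + x (Sum.inr j)
    rw [Matrix.single_mulVec_eq, Pi.smul_apply, Pi.single_apply, Pi.single_apply]
    by_cases hji : j = i
    · subst hji
      simp
      ring
    · have : (Sum.inr j : Fin n ⊕ Fin n) ≠ Sum.inr i := fun h => hji (Sum.inr_injective h)
      simp [hji, this]

/-- PIECE NONTRIV: a nontrivial representation is nontrivial on some `xL S` -/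
theorem exists_xL_ne_one (hn : 1 ≤ n) {U : Type*} [AddCommGroup U] [Module ℂ U]
    (ρ : Representation ℂ (Matrix.symplecticGroup (Fin n) F) U) (hρ : ∃ g, ρ g ≠ 1) :
    ∃ S : symmAdd n F, ρ (xL S) ≠ 1 := by
  by_contra hcon
  push Not at hcon
  obtain ⟨g₀, hg₀⟩ := hρ
  apply hg₀
  let K : Subgroup (Matrix.symplecticGroup (Fin n) F) :=
    MonoidHom.ker (ρ : Matrix.symplecticGroup (Fin n) F →* (U →ₗ[ℂ] U))
  have hKn : K.Normal := MonoidHom.normal_ker _
  have hmemK : ∀ g, g ∈ K ↔ ρ g = 1 := fun g => MonoidHom.mem_ker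
  let i₀ : Fin n := ⟨0, by omega⟩
  have htv : ∀ (v : Fin n ⊕ Fin n → F) (c : F), tv v c ∈ K := by
    intro v c
    by_cases hv : v = 0
    · subst hv
      rw [tv_zero_left]
      exact K.one_mem
    · obtain ⟨g, -, hg⟩ := trans_vec (isND_top (m := n) (F := F))
        (Submodule.mem_top (x := (fV i₀ : Fin n ⊕ Fin n → F))) (Submodule.mem_top (x := v))
        (fV_ne_zero i₀) hv
      rw [← hg, ← conj_tv]
      apply hKn.conj_mem
      rw [hmemK, nontriv_tv_eq]
      exact hcon _
  have hle : tvGroup (⊤ : Submodule F (Fin n ⊕ Fin n → F)) ≤ K := by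
    unfold tvGroup
    rw [Subgroup.closure_le]
    rintro g ⟨x, -, c, rfl⟩
    exact htv x c
  rw [tvGroup_top_eq_top] at hle
  exact (hmemK g₀).1 (hle (Subgroup.mem_top g₀))

end Cfsg.Agent.Helper6.Weil
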