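import Mathlib
import Cfsg.Prelude.Def_JComponents
import Cfsg.Agent.Lib.Helper4.ZNDefs

/-!
# S0518, piece NT: the normalizer of `T` (helper2)

`normalizer_T` and `swap_mul_mem` with the exact signatures of `plans/S0518_Skel.lean.txt`.
-/

set_option autoImplicit false
set_option linter.unusedSectionVars false
set_option linter.unusedVariables false
set_option linter.style.haveILetI false
open Cfsg

namespace Cfsg.Agent.Helper4.ZN

variable {G : Type*} [Group G]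

namespace NT

/-- the conjugate `g A g⁻¹` -/
def cj (g : G) (A : Subgroup G) : Subgroup G := A.map (MulAut.conj g).toMonoidHom

theorem mem_cj (g : G) (A : Subgroup G) (x : G) : x ∈ cj g A ↔ g⁻¹ * x * g ∈ A := by
  unfold cj
  rw [Subgroup.mem_map_equiv]
  simp [MulAut.conj_symm_apply]

theorem conj_mem_cj (g : G) (A : Subgroup G) (x : G) : g * x * g⁻¹ ∈ cj g A ↔ x ∈ A := by
  rw [mem_cj]
  have : g⁻¹ * (g * x * g⁻¹) * g = x := by group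
  rw [this]

theorem cj_iff {g : G} {A B : Subgroup G} (h : cj g A = B) (x : G) :
    x ∈ A ↔ g * x * g⁻¹ ∈ B := by
  rw [← h, conj_mem_cj]

theorem cj_injective (g : G) {A B : Subgroup G} (h : cj g A = cj g B) : A = B :=
  Subgroup.map_injective (MulAut.conj g).injective h

theorem card_cj (g : G) (A : Subgroup G) : Nat.card (cj g A) = Nat.card A :=
  Subgroup.card_map_of_injective (MulAut.conj g).injective

theorem cj_of_iff {g : G} {A B : Subgroup G} (h : ∀ x, x ∈ A ↔ g * x * g⁻¹ ∈ B) : cj g A = B := by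
  ext y
  rw [mem_cj, h]
  have : g * (g⁻¹ * y * g) * g⁻¹ = y := by group
  rw [this]

theorem cj_sup (g : G) (A B : Subgroup G) : cj g (A ⊔ B) = cj g A ⊔ cj g B :=
  Subgroup.map_sup A B _

theorem cj_inf (g : G) (A B : Subgroup G) : cj g (A ⊓ B) = cj g A ⊓ cj g B :=
  Subgroup.map_inf_eq A B _ (MulAut.conj g).injective

/-- conjugation carries normalizers to normalizers -/
theorem normalizer_iff {g : G} {A B : Subgroup G} (h : ∀ x, x ∈ A ↔ g * x * g⁻¹ ∈ B) (x : G) :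
    x ∈ Subgroup.normalizer (A : Set G) ↔ g * x * g⁻¹ ∈ Subgroup.normalizer (B : Set G) := by
  rw [Subgroup.mem_normalizer_iff, Subgroup.mem_normalizer_iff]
  constructor
  · intro hx b
    have e1 : b = g * (g⁻¹ * b * g) * g⁻¹ := by group
    have e2 : g * x * g⁻¹ * b * (g * x * g⁻¹)⁻¹ = g * (x * (g⁻¹ * b * g) * x⁻¹) * g⁻¹ := by group
    rw [e2, ← h]
    conv_lhs => rw [e1, ← h]
    exact hx _
  · intro hx a
    rw [h a, h (x * a * x⁻¹)]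
    have e2 : g * (x * a * x⁻¹) * g⁻¹ = g * x * g⁻¹ * (g * a * g⁻¹) * (g * x * g⁻¹)⁻¹ := by group
    rw [e2]
    exact hx _

/-- conjugation carries `oddCl` to `oddCl` -/
theorem oddCl_le {g : G} {P Q : Subgroup G} (h : ∀ x, x ∈ P ↔ g * x * g⁻¹ ∈ Q) :
    cj g (oddCl P) ≤ oddCl Q := by
  unfold cj oddCl
  rw [MonoidHom.map_closure, Subgroup.closure_le]
  rintro _ ⟨x, ⟨hxP, hxo⟩, rfl⟩
  apply Subgroup.subset_closure
  refine ⟨(h x).mp hxP, ?_⟩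
  simp only [MulEquiv.coe_toMonoidHom, MulAut.conj_apply]
  have : orderOf (g * x * g⁻¹) = orderOf x := (MulAut.conj g).orderOf_eq x
  rw [this]
  exact hxo

theorem oddCl_iff {g : G} {P Q : Subgroup G} (h : ∀ x, x ∈ P ↔ g * x * g⁻¹ ∈ Q) (x : G) :
    x ∈ oddCl P ↔ g * x * g⁻¹ ∈ oddCl Q := by
  constructor
  · intro hx
    exact oddCl_le h ((conj_mem_cj g _ x).mpr hx)
  · intro hx
    have h' : ∀ y, y ∈ Q ↔ g⁻¹ * y * g⁻¹⁻¹ ∈ P := by
      intro y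
      rw [h]
      have : g * (g⁻¹ * y * g⁻¹⁻¹) * g⁻¹ = y := by group
      rw [this]
    have h3 := oddCl_le h' ((conj_mem_cj g⁻¹ _ (g * x * g⁻¹)).mpr hx)
    have e2 : g⁻¹ * (g * x * g⁻¹) * g⁻¹⁻¹ = x := by group
    rwa [e2] at h3

/-- the image of `t₁` under an element carrying `P₁` to `P₂` is `t₂` -/
theorem conj_t {P Q : Subgroup G} {t s : G} {E V E' V' : Subgroup G} (bP : PB P t E V)
    (bQ : PB Q s E' V') {g : G} (h : ∀ x, x ∈ P ↔ g * x * g⁻¹ ∈ Q) : g * t * g⁻¹ = s := by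
  have hmem : g * t * g⁻¹ ∈ Q := (h t).mp bP.t_mem
  have hcent : ∀ y ∈ Q, g * t * g⁻¹ * y = y * (g * t * g⁻¹) := by
    intro y hy
    have hy' : g⁻¹ * y * g ∈ P := by
      rw [h]
      have : g * (g⁻¹ * y * g) * g⁻¹ = y := by group
      rwa [this]
    have h1 := bP.t_comm _ hy'
    have e1 : g * t * g⁻¹ * y = g * (t * (g⁻¹ * y * g)) * g⁻¹ := by group
    have e2 : y * (g * t * g⁻¹) = g * ((g⁻¹ * y * g) * t) * g⁻¹ := by group
    rw [e1, e2, h1]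
  rcases bQ.center _ hmem hcent with h1 | h1
  · exfalso
    apply bP.t_ne
    have := congrArg (fun u => g⁻¹ * u * g) h1
    simpa [mul_assoc] using this
  · exact h1

theorem swap_of_cj {P₁ P₂ T : Subgroup G} {t₁ t₂ : G} {E₁ E₂ V₁ V₂ : Subgroup G}
    (c : Ctx P₁ P₂ T t₁ t₂ E₁ E₂ V₁ V₂) {g : G} (h12 : cj g E₁ = E₂) (h21 : cj g E₂ = E₁) :
    Swap g P₁ P₂ t₁ t₂ E₁ E₂ V₁ V₂ := by
  have hE12 := cj_iff h12
  have hE21 := cj_iff h21
  have hP12 : ∀ x, x ∈ P₁ ↔ g * x * g⁻¹ ∈ P₂ := by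
    intro x
    rw [← c.nE₁, ← c.nE₂]
    exact normalizer_iff hE12 x
  have hP21 : ∀ x, x ∈ P₂ ↔ g * x * g⁻¹ ∈ P₁ := by
    intro x
    rw [← c.nE₁, ← c.nE₂]
    exact normalizer_iff hE21 x
  have hV12 : ∀ x, x ∈ V₁ ↔ g * x * g⁻¹ ∈ V₂ := by
    intro x
    rw [c.b₁.V_eq, c.b₂.V_eq, Subgroup.mem_inf, Subgroup.mem_inf, hE12 x, oddCl_iff hP12 x]
  have hV21 : ∀ x, x ∈ V₂ ↔ g * x * g⁻¹ ∈ V₁ := by
    intro x
    rw [c.b₁.V_eq, c.b₂.V_eq, Subgroup.mem_inf, Subgroup.mem_inf, hE21 x, oddCl_iff hP21 x]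
  refine ⟨hE12, hE21, hP12, hP21, hV12, hV21, conj_t c.b₁ c.b₂ hP12, conj_t c.b₂ c.b₁ hP21, ?_⟩
  have hD : cj g (V₁ ⊔ V₂) = V₁ ⊔ V₂ := by
    rw [cj_sup, cj_of_iff hV12, cj_of_iff hV21, sup_comm]
  exact cj_iff hD

end NT

section CaseB

variable {P₁ P₂ T : Subgroup G} {t₁ t₂ : G} {E₁ E₂ V₁ V₂ : Subgroup G}

open NT in
theorem normalizer_T [Finite G] (c : Ctx P₁ P₂ T t₁ t₂ E₁ E₂ V₁ V₂) (e : TE T E₁ E₂) :
    ∀ g ∈ Subgroup.normalizer (T : Set G), g ∈ T ∨ Swap g P₁ P₂ t₁ t₂ E₁ E₂ V₁ V₂ := by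
  intro g hg
  have hgT : ∀ x, x ∈ T ↔ g * x * g⁻¹ ∈ T := Subgroup.mem_normalizer_iff.mp hg
  have hle : ∀ A : Subgroup G, A ≤ T → cj g A ≤ T := by
    intro A hA x hx
    rw [mem_cj] at hx
    have h1 := (hgT _).mp (hA hx)
    have e1 : g * (g⁻¹ * x * g) * g⁻¹ = x := by group
    rwa [e1] at h1
  have hsq : ∀ A : Subgroup G, (∀ a ∈ A, a * a = 1) → ∀ a ∈ cj g A, a * a = 1 := by
    intro A hA a ha
    rw [mem_cj] at ha
    have h1 := hA _ ha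
    have e1 : a * a = g * ((g⁻¹ * a * g) * (g⁻¹ * a * g)) * g⁻¹ := by group
    rw [e1, h1]
    group
  have h1 := e.e8 (cj g E₁) (hle E₁ e.E₁_le) (by rw [card_cj, c.b₁.card_E])
    (hsq E₁ c.b₁.E_sq)
  have h2 := e.e8 (cj g E₂) (hle E₂ e.E₂_le) (by rw [card_cj, c.b₂.card_E])
    (hsq E₂ c.b₂.E_sq)
  have hne : cj g E₁ ≠ cj g E₂ := fun h => e.E_ne (cj_injective g h)
  rcases h1 with h1 | h1
  · rcases h2 with h2 | h2
    · exact absurd (h1.trans h2.symm) hne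
    · left
      have hg1 : g ∈ Subgroup.normalizer (E₁ : Set G) :=
        Subgroup.mem_normalizer_iff.mpr (cj_iff h1)
      have hg2 : g ∈ Subgroup.normalizer (E₂ : Set G) :=
        Subgroup.mem_normalizer_iff.mpr (cj_iff h2)
      rw [c.nE₁] at hg1
      rw [c.nE₂] at hg2
      rw [← c.inter]
      exact ⟨hg1, hg2⟩
  · rcases h2 with h2 | h2
    · right
      exact swap_of_cj c h1 h2
    · exact absurd (h1.trans h2.symm) hne

open NT in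
theorem swap_mul_mem (c : Ctx P₁ P₂ T t₁ t₂ E₁ E₂ V₁ V₂) {g h : G}
    (hg : Swap g P₁ P₂ t₁ t₂ E₁ E₂ V₁ V₂) (hh : Swap h P₁ P₂ t₁ t₂ E₁ E₂ V₁ V₂) : g⁻¹ * h ∈ T := by
  have key : ∀ x : G, g * (g⁻¹ * h * x * (g⁻¹ * h)⁻¹) * g⁻¹ = h * x * h⁻¹ := by
    intro x; group
  have h1 : g⁻¹ * h ∈ Subgroup.normalizer (E₁ : Set G) := by
    rw [Subgroup.mem_normalizer_iff]
    intro x
    rw [hg.E₁₂ (g⁻¹ * h * x * (g⁻¹ * h)⁻¹), key, ← hh.E₁₂]
  have h2 : g⁻¹ * h ∈ Subgroup.normalizer (E₂ : Set G) := by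
    rw [Subgroup.mem_normalizer_iff]
    intro x
    rw [hg.E₂₁ (g⁻¹ * h * x * (g⁻¹ * h)⁻¹), key, ← hh.E₂₁]
  rw [c.nE₁] at h1
  rw [c.nE₂] at h2
  rw [← c.inter]
  exact ⟨h1, h2⟩

end CaseB

end Cfsg.Agent.Helper4.ZN
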