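import Mathlib
import Cfsg.Prelude.Def_JComponents
import Cfsg.Agent.Lib.Helper4.ZNDefs
import Cfsg.Agent.Lib.Helper2.ZNNT

/-!
# S0518, piece MAXB, core: maximality of `Σ = P ⊓ H` among the 2-locals of `H` (helper2)
-/

set_option autoImplicit false
set_option linter.unusedSectionVars false
set_option linter.unusedVariables false
set_option linter.style.haveILetI false
open Cfsg

namespace Cfsg.Agent.Helper4.ZN

variable {G : Type*} [Group G]

namespace MAXB

open NT
open scoped Pointwise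

/-- `|A| |B| ≤ |A ⊔ B|` when `A ⊓ B = ⊥` -/
theorem card_mul_le_card_sup [Finite G] (A B : Subgroup G) (h : A ⊓ B = ⊥) :
    Nat.card A * Nat.card B ≤ Nat.card (A ⊔ B : Subgroup G) := by
  let φ : A × B → (A ⊔ B : Subgroup G) := fun ab =>
    ⟨(ab.1 : G) * (ab.2 : G), Subgroup.mul_mem _ (le_sup_left (a := A) (b := B) ab.1.2)
      (le_sup_right (a := A) (b := B) ab.2.2)⟩
  have hinj : Function.Injective φ := by
    rintro ⟨a, b⟩ ⟨a', b'⟩ hab
    have h1 : (a : G) * (b : G) = (a' : G) * (b' : G) := congrArg Subtype.val hab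
    have h2 : (a' : G)⁻¹ * (a : G) = (b' : G) * (b : G)⁻¹ := by
      have := congrArg (fun t => (a' : G)⁻¹ * t * (b : G)⁻¹) h1
      simpa [mul_assoc] using this
    have h3 : (a' : G)⁻¹ * (a : G) ∈ A ⊓ B :=
      ⟨A.mul_mem (A.inv_mem a'.2) a.2, h2 ▸ B.mul_mem b'.2 (B.inv_mem b.2)⟩
    rw [h, Subgroup.mem_bot] at h3
    have ha : (a : G) = (a' : G) := by
      have := congrArg (fun t => (a' : G) * t) h3
      simpa using this
    have hb : (b : G) = (b' : G) := by
      rw [h3] at h2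
      have := congrArg (fun t => t * (b : G)) h2
      simpa using this
    exact Prod.ext (Subtype.ext ha) (Subtype.ext hb)
  have := Nat.card_le_card_of_injective φ hinj
  rwa [Nat.card_prod] at this

/-- the closure of the odd-order elements is normal -/
theorem conj_mem_H {H : Subgroup G} (hH : H = Subgroup.closure {g : G | Odd (orderOf g)})
    (g : G) : cj g H ≤ H := by
  subst hH
  unfold cj
  rw [MonoidHom.map_closure, Subgroup.closure_le]
  rintro _ ⟨x, hx, rfl⟩
  apply Subgroup.subset_closure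
  have : orderOf (g * x * g⁻¹) = orderOf x := (MulAut.conj g).orderOf_eq x
  show Odd (orderOf (g * x * g⁻¹))
  rw [this]
  exact hx

theorem oddCl_le_self (P : Subgroup G) : oddCl P ≤ P := by
  unfold oddCl
  rw [Subgroup.closure_le]
  rintro x ⟨hx, _⟩
  exact hx

theorem oddCl_le_H (P : Subgroup G) {H : Subgroup G}
    (hH : H = Subgroup.closure {g : G | Odd (orderOf g)}) : oddCl P ≤ H := by
  subst hH
  unfold oddCl
  apply Subgroup.closure_mono
  rintro x ⟨_, hx⟩
  exact hx

/-- a 2-subgroup of `H` has at most as many elements as `S ⊓ H` -/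
theorem card_le_of_isPGroup [Finite G] {H : Subgroup G}
    (hH : H = Subgroup.closure {g : G | Odd (orderOf g)}) (S : Sylow 2 G)
    (X : Subgroup G) (hX : IsPGroup 2 X) (hXH : X ≤ H) :
    Nat.card X ≤ Nat.card ((S : Subgroup G) ⊓ H : Subgroup G) := by
  obtain ⟨Q, hXQ⟩ := hX.exists_le_sylow
  obtain ⟨g, hg⟩ := MulAction.exists_smul_eq G Q S
  have hle : cj g X ≤ (S : Subgroup G) ⊓ H := by
    intro x hx
    refine ⟨?_, conj_mem_H hH g (Subgroup.map_mono hXH hx)⟩
    rw [mem_cj] at hx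
    have h1 : g⁻¹ * x * g ∈ (Q : Subgroup G) := hXQ hx
    rw [← hg, Sylow.coe_subgroup_smul]
    show x ∈ MulAut.conj g • (Q : Subgroup G)
    rw [Subgroup.mem_pointwise_smul_iff_inv_smul_mem]
    simpa [MulAut.smul_def] using h1
  calc Nat.card X = Nat.card (cj g X) := (card_cj g X).symm
    _ ≤ _ := Subgroup.card_le_of_le hle

/-- CORE of MAXB, in a form symmetric in the two halves of the configuration. -/
theorem core [Finite G] {P T H : Subgroup G} {t : G} {E V V' : Subgroup G} (b : PB P t E V)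
    (nV : Subgroup.normalizer (V : Set G) = P) (S : Sylow 2 G) (hTS : T ≤ (S : Subgroup G))
    (hTP : T ≤ P)
    (hH : H = Subgroup.closure {g : G | Odd (orderOf g)})
    (htT : t ∈ T) (htH : t ∉ H)
    (hTH : T ⊓ H = V ⊔ V')
    (hidx : (P ⊓ H).relIndex P = 2)
    (hcardD : Nat.card (V ⊔ V' : Subgroup G) = 8)
    (hVV' : ¬ V ≤ V')
    (hS : (S : Subgroup G) = T ∨ (Nat.card (S : Subgroup G) = 32 ∧ ∃ z, z ∈ V ∧
      Subgroup.centralizer ({z} : Set G) ≤ (S : Subgroup G) ∧
      ∀ a ∈ (S : Subgroup G), a ∉ T → ∀ x, x ∈ V → a * x * a⁻¹ ∈ V'))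
    (R : Subgroup G) (hR : IsPGroup 2 R) (hR1 : R ≠ ⊥) (hRH : R ≤ H)
    (hN : P ⊓ H ≤ Subgroup.normalizer (R : Set G)) :
    Subgroup.normalizer (R : Set G) ⊓ H = P ⊓ H := by
  haveI : Fact (Nat.Prime 2) := ⟨Nat.prime_two⟩
  have hKSg : oddCl P ≤ P ⊓ H := le_inf (oddCl_le_self P) (oddCl_le_H P hH)
  have hVK : V ≤ oddCl P := by rw [b.V_eq]; exact inf_le_right
  have hVSg : V ≤ P ⊓ H := hVK.trans hKSg
  have htSg : t ∉ P ⊓ H := fun h => htH h.2
  have hQ2 : IsPGroup 2 (R ⊓ (P ⊓ H) : Subgroup G) := hR.to_le inf_le_left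
  have hQn : ∀ s ∈ P ⊓ H, ∀ q ∈ R ⊓ (P ⊓ H), s * q * s⁻¹ ∈ R ⊓ (P ⊓ H) := by
    intro s hs q hq
    exact ⟨(Subgroup.mem_normalizer_iff.mp (hN hs) q).mp hq.1,
      Subgroup.mul_mem _ (Subgroup.mul_mem _ hs hq.2) (Subgroup.inv_mem _ hs)⟩
  have hQV : R ⊓ (P ⊓ H) ≤ V :=
    b.sigma_core (P ⊓ H) (R ⊓ (P ⊓ H)) inf_le_left htSg hidx inf_le_right hQ2 hQn
  by_cases hQ : R ⊓ (P ⊓ H) = ⊥
  · exfalso
    have hD_le : V ⊔ V' ≤ P ⊓ H := by rw [← hTH]; exact inf_le_inf_right H hTP
    have hRD : R ⊓ (V ⊔ V') = ⊥ := by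
      rw [eq_bot_iff]
      intro x hx
      rw [← hQ]
      exact ⟨hx.1, hD_le hx.2⟩
    have hD2 : IsPGroup 2 (V ⊔ V' : Subgroup G) :=
      IsPGroup.of_card (n := 3) (by rw [hcardD]; norm_num)
    have hDN : V ⊔ V' ≤ Subgroup.normalizer (R : Set G) := hD_le.trans hN
    have hRD2 : IsPGroup 2 ((V ⊔ V') ⊔ R : Subgroup G) := hD2.to_sup_of_normal_right' hR hDN
    have hRDH : (V ⊔ V') ⊔ R ≤ H := sup_le (hD_le.trans inf_le_right) hRH
    have hc1 := card_le_of_isPGroup hH S _ hRD2 hRDH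
    have hc2 := card_mul_le_card_sup R (V ⊔ V') hRD
    rw [sup_comm R (V ⊔ V'), hcardD] at hc2
    have hR2 : 1 < Nat.card R := R.one_lt_card_iff_ne_bot.mpr hR1
    rcases hS with hS | ⟨hS32, z, hzV, hcz, hsw⟩
    · rw [hS, hTH, hcardD] at hc1
      omega
    · have hlt : Nat.card ((S : Subgroup G) ⊓ H : Subgroup G) ≤ 16 := by
        have hdvd : Nat.card ((S : Subgroup G) ⊓ H : Subgroup G) ∣ 32 :=
          hS32 ▸ Subgroup.card_dvd_of_le inf_le_left
        have hne : Nat.card ((S : Subgroup G) ⊓ H : Subgroup G) ≠ 32 := by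
          intro h
          have h1 : (S : Subgroup G) ⊓ H = S :=
            Subgroup.eq_of_le_of_card_ge inf_le_left (by rw [h, hS32])
          have h2 : t ∈ (S : Subgroup G) ⊓ H := by rw [h1]; exact hTS htT
          exact htH h2.2
        obtain ⟨k, hk⟩ := hdvd
        rcases k with _ | _ | k
        · omega
        · omega
        · nlinarith
      have hRc : Nat.card R = 2 := by omega
      obtain ⟨q, hq, hq1⟩ : ∃ q ∈ R, q ≠ 1 := by
        by_contra hcon
        push Not at hcon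
        exact hR1 (eq_bot_iff.mpr fun x hx => Subgroup.mem_bot.mpr (hcon x hx))
      have huniq : ∀ x ∈ R, x = 1 ∨ x = q := by
        intro x hx
        obtain ⟨y, hy, hyu⟩ := (Nat.card_eq_two_iff' (1 : R)).mp hRc
        by_cases hx1 : x = 1
        · left; exact hx1
        · right
          have e1 : (⟨x, hx⟩ : R) = y := hyu _ (fun h => hx1 (congrArg Subtype.val h))
          have e2 : (⟨q, hq⟩ : R) = y := hyu _ (fun h => hq1 (congrArg Subtype.val h))
          exact congrArg Subtype.val (e1.trans e2.symm)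
      have hcent : ∀ s ∈ P ⊓ H, s * q * s⁻¹ = q := by
        intro s hs
        have h1 : s * q * s⁻¹ ∈ R := (Subgroup.mem_normalizer_iff.mp (hN hs) q).mp hq
        rcases huniq _ h1 with h | h
        · exfalso
          apply hq1
          have := congrArg (fun u => s⁻¹ * u * s) h
          simpa [mul_assoc] using this
        · exact h
      have hcomm : ∀ s ∈ P ⊓ H, s * q = q * s := by
        intro s hs
        have := congrArg (fun u => u * s) (hcent s hs)
        simpa using this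
      have hqS : q ∈ (S : Subgroup G) := by
        apply hcz
        rw [Subgroup.mem_centralizer_iff]
        intro h hh
        rw [Set.mem_singleton_iff] at hh
        subst hh
        exact hcomm h (hVSg hzV)
      by_cases hqT : q ∈ T
      · have h1 : q ∈ V ⊔ V' := by rw [← hTH]; exact ⟨hqT, hRH hq⟩
        have h2 : q ∈ R ⊓ (V ⊔ V') := ⟨hq, h1⟩
        rw [hRD, Subgroup.mem_bot] at h2
        exact hq1 h2
      · apply hVV'
        intro x hx
        have h1 := hsw q hqS hqT x hx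
        have h2 := hcomm x (hVSg hx)
        have h3 : q * x * q⁻¹ = x := by
          rw [← h2]; group
        rwa [h3] at h1
  · obtain ⟨v₀, hv₀, hv₀1⟩ : ∃ q ∈ R ⊓ (P ⊓ H), q ≠ 1 := by
      by_contra hcon
      push Not at hcon
      exact hQ (eq_bot_iff.mpr fun x hx => Subgroup.mem_bot.mpr (hcon x hx))
    have hVQ : V ≤ R ⊓ (P ⊓ H) := by
      intro w hw
      by_cases hw1 : w = 1
      · rw [hw1]; exact Subgroup.one_mem _
      obtain ⟨k, hk, hkw⟩ := b.V_trans v₀ (hQV hv₀) w hw hv₀1 hw1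
      rw [← hkw]
      exact hQn k (hKSg hk) v₀ hv₀
    have hVR : V ≤ R := hVQ.trans inf_le_left
    have hRV : R = V := by
      by_contra hne
      haveI : Group.IsNilpotent R := hR.isNilpotent
      have hlt : V.subgroupOf R < ⊤ := by
        rw [lt_top_iff_ne_top]
        intro htop
        rw [Subgroup.subgroupOf_eq_top] at htop
        exact hne (le_antisymm htop hVR)
      have h2 := Group.normalizerCondition_of_isNilpotent (G := R) (V.subgroupOf R) hlt
      obtain ⟨x, hxN, hxV⟩ := SetLike.exists_of_lt h2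
      rw [← Subgroup.subgroupOf_normalizer_eq hVR, Subgroup.mem_subgroupOf] at hxN
      rw [Subgroup.mem_subgroupOf] at hxV
      rw [nV] at hxN
      exact hxV (hQV ⟨x.2, hxN, hRH x.2⟩)
    rw [hRV, nV]

end MAXB

end Cfsg.Agent.Helper4.ZN
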