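import Mathlib
import Cfsg.Prelude.Def_JComponents
import Cfsg.Agent.Lib.Helper4.ZNDefs
import Cfsg.Agent.Lib.Helper2.ZNMAXBCore
import Cfsg.Agent.Lib.Helper6.ZNSIGMA

/-!
# S0518, piece MAXB: maximality of `Σᵢ = Pᵢ ⊓ H` among the 2-locals of `H` (helper2)

`sigma_max` with the exact signature of `plans/S0518_Skel.lean.txt`.
-/

set_option autoImplicit false
set_option linter.unusedSectionVars false
set_option linter.unusedVariables false
set_option linter.style.haveILetI false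
open Cfsg

namespace Cfsg.Agent.Helper4.ZN

variable {G : Type*} [Group G]

namespace MAXB

/-- a subgroup with four elements is not contained in a set `{1, z}` -/
theorem not_le_of_card_four [Finite G] {A B : Subgroup G} {z : G} (hA : Nat.card A = 4)
    (hAB : ∀ x ∈ A ⊓ B, x = 1 ∨ x = z) : ¬ A ≤ B := by
  intro hle
  have hall : ∀ x ∈ A, x = 1 ∨ x = z := fun x hx => hAB x ⟨hx, hle hx⟩
  classical
  let f : A → Bool := fun x => decide ((x : G) = 1)
  have hinj : Function.Injective f := by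
    intro x y hxy
    apply Subtype.ext
    by_cases hx : (x : G) = 1
    · have hy : (y : G) = 1 := by
        have h1 : f x = true := decide_eq_true hx
        rw [hxy] at h1
        exact of_decide_eq_true h1
      rw [hx, hy]
    · have hy : (y : G) ≠ 1 := by
        intro hy
        have h1 : f y = true := decide_eq_true hy
        rw [← hxy] at h1
        exact hx (of_decide_eq_true h1)
      rw [(hall x x.2).resolve_left hx, (hall y y.2).resolve_left hy]
  have := Nat.card_le_card_of_injective f hinj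
  rw [hA, Nat.card_eq_fintype_card, Fintype.card_bool] at this
  omega

end MAXB

section CaseB

variable {P₁ P₂ T : Subgroup G} {t₁ t₂ : G} {E₁ E₂ V₁ V₂ : Subgroup G}

open MAXB in
theorem sigma_max [Finite G] (c : Ctx P₁ P₂ T t₁ t₂ E₁ E₂ V₁ V₂) (e : TE T E₁ E₂) {z : G}
    (v : TV T t₁ t₂ z E₁ E₂ V₁ V₂) (S : Sylow 2 G) (hTS : T ≤ (S : Subgroup G))
    (hS : (S : Subgroup G) = T ∨ SB2 S P₁ P₂ T t₁ t₂ z E₁ E₂ V₁ V₂) (H : Subgroup G)
    (hH : H = Subgroup.closure {g : G | Odd (orderOf g)}) (ht : t₁ ∉ H) :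
    (∀ R : Subgroup G, IsPGroup 2 ↥R → R ≠ ⊥ → R ≤ H →
      P₁ ⊓ H ≤ Subgroup.normalizer (R : Set G) → Subgroup.normalizer (R : Set G) ⊓ H = P₁ ⊓ H) ∧
    (∀ R : Subgroup G, IsPGroup 2 ↥R → R ≠ ⊥ → R ≤ H →
      P₂ ⊓ H ≤ Subgroup.normalizer (R : Set G) → Subgroup.normalizer (R : Set G) ⊓ H = P₂ ⊓ H) := by
  obtain ⟨hV₁H, hV₂H, hTH, ht₂, hidx₁, hidx₂, _, _⟩ := sigma_facts c e v H hH ht
  constructor
  · intro R hR hR1 hRH hN
    refine core c.b₁ c.nV₁ S hTS c.syl₁.1 hH (e.E₁_le c.b₁.t_E) ht hTH hidx₁ v.card_D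
      (not_le_of_card_four c.b₁.card_V v.V_inf) ?_ R hR hR1 hRH hN
    rcases hS with hS | hS
    · exact Or.inl hS
    · exact Or.inr ⟨hS.card_S, z, v.z_V₁, hS.cent_z,
        fun a ha haT x hx => ((hS.swap a ha haT).V₁₂ x).mp hx⟩
  · intro R hR hR1 hRH hN
    have hTH' : T ⊓ H = V₂ ⊔ V₁ := by rw [hTH, sup_comm]
    have hcard' : Nat.card (V₂ ⊔ V₁ : Subgroup G) = 8 := by rw [sup_comm]; exact v.card_D
    have hinf' : ∀ x ∈ V₂ ⊓ V₁, x = 1 ∨ x = z := fun x hx => v.V_inf x ⟨hx.2, hx.1⟩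
    refine core c.b₂ c.nV₂ S hTS c.syl₂.1 hH (e.E₂_le c.b₂.t_E) ht₂ hTH' hidx₂ hcard'
      (not_le_of_card_four c.b₂.card_V hinf') ?_ R hR hR1 hRH hN
    rcases hS with hS | hS
    · exact Or.inl hS
    · exact Or.inr ⟨hS.card_S, z, v.z_V₂, hS.cent_z,
        fun a ha haT x hx => ((hS.swap a ha haT).V₂₁ x).mp hx⟩

end CaseB

end Cfsg.Agent.Helper4.ZN
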